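import Mathlib.Algebra.Module.Injective
import Mathlib.LinearAlgebra.Projection
import Mathlib.Order.Zorn
import Mathlib.LinearAlgebra.Span.Basic
import Mathlib.LinearAlgebra.Quotient.Basic

/-!
# Essential extensions inside an injective module (helper26)

* `EssIn E E'`: the submodule `E` is essential in the submodule `E'`.
* `exists_maximal_essIn`: maximal essential extensions inside a module exist.
* `injective_of_forall_essIn_eq`: a submodule of an injective module without proper essential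
  extensions inside it is injective.
* `eq_of_essIn_of_injective`: an injective submodule has no proper essential extensions.
-/

set_option autoImplicit false

universe u

namespace Groth.Agent.Lib.Helper26.InjHull

variable {R : Type u} [CommRing R] {I : Type u} [AddCommGroup I] [Module R I]

/-- `E` is essential in `E'` -/
def EssIn (E E' : Submodule R I) : Prop :=
  E ≤ E' ∧ ∀ x ∈ E', x ≠ 0 → ∃ r : R, r • x ∈ E ∧ r • x ≠ 0

lemma EssIn.refl (E : Submodule R I) : EssIn E E :=
  ⟨le_rfl, fun x hx hx0 => ⟨1, by rwa [one_smul], by rwa [one_smul]⟩⟩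

lemma EssIn.trans {E E' E'' : Submodule R I} (h : EssIn E E') (h' : EssIn E' E'') : EssIn E E'' := by
  refine ⟨h.1.trans h'.1, fun x hx hx0 => ?_⟩
  obtain ⟨r, hr1, hr2⟩ := h'.2 x hx hx0
  obtain ⟨s, hs1, hs2⟩ := h.2 _ hr1 hr2
  exact ⟨s * r, by rwa [mul_smul], by rwa [mul_smul]⟩

lemma EssIn.inf_ne_bot {E E' : Submodule R I} (h : EssIn E E') {N : Submodule R I} (hN : N ≤ E')
    (hN0 : N ≠ ⊥) : N ⊓ E ≠ ⊥ := by
  obtain ⟨x, hx, hx0⟩ := (Submodule.ne_bot_iff _).1 hN0
  obtain ⟨r, hr1, hr2⟩ := h.2 x (hN hx) hx0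
  exact (Submodule.ne_bot_iff _).2 ⟨r • x, ⟨N.smul_mem r hx, hr1⟩, hr2⟩

lemma essIn_of_forall_inf_ne_bot {E E' : Submodule R I} (hle : E ≤ E')
    (h : ∀ N : Submodule R I, N ≤ E' → N ≠ ⊥ → N ⊓ E ≠ ⊥) : EssIn E E' := by
  refine ⟨hle, fun x hx hx0 => ?_⟩
  have hspan : Submodule.span R {x} ≠ ⊥ := fun h => hx0 (Submodule.span_singleton_eq_bot.1 h)
  have hle' : Submodule.span R {x} ≤ E' := (Submodule.span_singleton_le_iff_mem x E').2 hx
  obtain ⟨y, hy, hy0⟩ := (Submodule.ne_bot_iff _).1 (h _ hle' hspan)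
  obtain ⟨hy1, hy2⟩ := Submodule.mem_inf.1 hy
  obtain ⟨r, rfl⟩ := Submodule.mem_span_singleton.1 hy1
  exact ⟨r, hy2, hy0⟩

/-- maximal essential extensions exist -/
lemma exists_maximal_essIn (E : Submodule R I) :
    ∃ E' : Submodule R I, EssIn E E' ∧ ∀ E'' : Submodule R I, EssIn E E'' → E' ≤ E'' → E'' = E' := by
  obtain ⟨m, -, hm⟩ := zorn_le_nonempty₀ {E' : Submodule R I | EssIn E E'} (by
    intro c hc hchain y hy
    refine ⟨sSup c, ?_, fun z hz => le_sSup hz⟩
    refine ⟨(hc hy).1.trans (le_sSup hy), fun x hx hx0 => ?_⟩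
    obtain ⟨z, hz, hxz⟩ := (Submodule.mem_sSup_of_directed ⟨y, hy⟩ hchain.directedOn).1 hx
    exact (hc hz).2 x hxz hx0) E (EssIn.refl E)
  exact ⟨m, hm.1, fun E'' h hle => le_antisymm (hm.2 h hle) hle⟩

/-- maximal submodules disjoint from a given one exist -/
lemma exists_maximal_disjoint (E : Submodule R I) :
    ∃ C : Submodule R I, C ⊓ E = ⊥ ∧ ∀ C' : Submodule R I, C ≤ C' → C' ⊓ E = ⊥ → C' = C := by
  obtain ⟨m, -, hm⟩ := zorn_le_nonempty₀ {C : Submodule R I | C ⊓ E = ⊥} (by
    intro c hc hchain y hy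
    refine ⟨sSup c, ?_, fun z hz => le_sSup hz⟩
    show sSup c ⊓ E = ⊥
    rw [eq_bot_iff]
    rintro x ⟨hx1, hx2⟩
    obtain ⟨z, hz, hxz⟩ := (Submodule.mem_sSup_of_directed ⟨y, hy⟩ hchain.directedOn).1 hx1
    have : z ⊓ E = ⊥ := hc hz
    rw [← this]
    exact ⟨hxz, hx2⟩) ⊥ (by show ⊥ ⊓ E = ⊥; exact bot_inf_eq _)
  exact ⟨m, hm.1, fun C' hle h => le_antisymm (hm.2 h hle) hle⟩

/-- a direct summand of an injective module is injective -/
lemma injective_of_isCompl [Module.Injective R I] {E C : Submodule R I} (h : IsCompl E C) :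
    Module.Injective R E := by
  refine ⟨fun X Y _ _ _ _ i hi g => ?_⟩
  obtain ⟨k, hk⟩ := Module.Injective.out i hi (E.subtype ∘ₗ g)
  refine ⟨(Submodule.projectionOnto E C h) ∘ₗ k, fun x => ?_⟩
  rw [LinearMap.comp_apply, hk, LinearMap.comp_apply, Submodule.subtype_apply,
    Submodule.projectionOnto_apply_left]

/-- an injective submodule has no proper essential extension -/
theorem eq_of_essIn_of_injective {E E' : Submodule R I} [Module.Injective R E] (h : EssIn E E') :
    E' = E := by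
  apply le_antisymm _ h.1
  intro x hx
  obtain ⟨r, hr⟩ := Module.Injective.out (Submodule.inclusion h.1)
    (Submodule.inclusion_injective h.1) (LinearMap.id : E →ₗ[R] E)
  set e : E := r ⟨x, hx⟩ with he
  by_contra hxE
  have hz0 : x - (e : I) ≠ 0 := by
    intro h0
    apply hxE
    rw [sub_eq_zero] at h0
    rw [h0]; exact e.2
  have hzE' : x - (e : I) ∈ E' := E'.sub_mem hx (h.1 e.2)
  obtain ⟨s, hs1, hs2⟩ := h.2 _ hzE' hz0
  have h1 : r ⟨s • (x - (e : I)), E'.smul_mem s hzE'⟩ = ⟨s • (x - (e : I)), hs1⟩ :=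
    hr ⟨s • (x - (e : I)), hs1⟩
  have h2 : r ⟨s • (x - (e : I)), E'.smul_mem s hzE'⟩ = 0 := by
    have : (⟨s • (x - (e : I)), E'.smul_mem s hzE'⟩ : E') =
        s • ((⟨x, hx⟩ : E') - Submodule.inclusion h.1 e) := rfl
    rw [this, map_smul, map_sub, hr e, LinearMap.id_apply, ← he, sub_self, smul_zero]
  rw [h2] at h1
  exact hs2 (congrArg Subtype.val h1).symm

/-- a submodule of an injective module without proper essential extension is injective -/
theorem injective_of_forall_essIn_eq [Module.Injective R I] {E : Submodule R I}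
    (h : ∀ E' : Submodule R I, EssIn E E' → E' = E) : Module.Injective R E := by
  obtain ⟨C, hC, hCmax⟩ := exists_maximal_disjoint E
  -- the embedding of `E` into `I ⧸ C`
  let j : E →ₗ[R] I ⧸ C := C.mkQ ∘ₗ E.subtype
  have hj : Function.Injective j := by
    rw [← LinearMap.ker_eq_bot, LinearMap.ker_eq_bot']
    intro x hx
    have hxC : (x : I) ∈ C := by
      have : C.mkQ (x : I) = 0 := hx
      rwa [Submodule.mkQ_apply, Submodule.Quotient.mk_eq_zero] at this
    have : (x : I) ∈ C ⊓ E := ⟨hxC, x.2⟩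
    rw [hC] at this
    exact Subtype.ext ((Submodule.mem_bot R).1 this)
  obtain ⟨ψ, hψ⟩ := Module.Injective.out j hj E.subtype
  have hψE : ∀ e ∈ E, ψ (C.mkQ e) = e := fun e he => hψ ⟨e, he⟩
  -- `ψ` is injective
  have hψinj : Function.Injective ψ := by
    rw [← LinearMap.ker_eq_bot]
    have hK : (LinearMap.ker ψ).comap C.mkQ = C := by
      apply hCmax
      · intro c hc
        show ψ (C.mkQ c) = 0
        rw [Submodule.mkQ_apply, (Submodule.Quotient.mk_eq_zero C).2 hc, map_zero]
      · rw [eq_bot_iff]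
        rintro x ⟨hx1, hx2⟩
        have : ψ (C.mkQ x) = 0 := hx1
        rw [hψE x hx2] at this
        rw [this]; exact Submodule.zero_mem _
    rw [eq_bot_iff]
    intro y hy
    obtain ⟨z, rfl⟩ := C.mkQ_surjective y
    have : z ∈ (LinearMap.ker ψ).comap C.mkQ := hy
    rw [hK] at this
    rw [Submodule.mem_bot, Submodule.mkQ_apply, Submodule.Quotient.mk_eq_zero]
    exact this
  -- the range of `ψ` is an essential extension of `E`
  have hess : EssIn E (LinearMap.range ψ) := by
    refine ⟨fun e he => ⟨C.mkQ e, hψE e he⟩, ?_⟩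
    rintro _ ⟨y, rfl⟩ hy0
    obtain ⟨z, rfl⟩ := C.mkQ_surjective y
    have hzC : z ∉ C := by
      intro hz
      apply hy0
      rw [Submodule.mkQ_apply, (Submodule.Quotient.mk_eq_zero C).2 hz, map_zero]
    have hne : (C ⊔ Submodule.span R {z}) ⊓ E ≠ ⊥ := by
      intro hbot
      have := hCmax _ le_sup_left hbot
      apply hzC
      rw [← this]
      exact Submodule.mem_sup_right (Submodule.mem_span_singleton_self z)
    obtain ⟨e, he, he0⟩ := (Submodule.ne_bot_iff _).1 hne
    obtain ⟨he1, he2⟩ := Submodule.mem_inf.1 he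
    obtain ⟨c, hc, w, hw, rfl⟩ := Submodule.mem_sup.1 he1
    obtain ⟨r, rfl⟩ := Submodule.mem_span_singleton.1 hw
    have hq : C.mkQ (c + r • z) = r • C.mkQ z := by
      rw [map_add, map_smul, Submodule.mkQ_apply, (Submodule.Quotient.mk_eq_zero C).2 hc, zero_add]
    have hval : r • ψ (C.mkQ z) = c + r • z := by
      rw [← map_smul, ← hq, hψE _ he2]
    exact ⟨r, by rw [hval]; exact he2, by rw [hval]; exact he0⟩
  have hrange := h _ hess
  -- hence `E ⊔ C = ⊤`
  have hcompl : IsCompl E C := by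
    constructor
    · rw [disjoint_iff, inf_comm]; exact hC
    · rw [codisjoint_iff, eq_top_iff]
      intro z _
      have hz : ψ (C.mkQ z) ∈ E := by rw [← hrange]; exact ⟨_, rfl⟩
      have h1 : ψ (C.mkQ (ψ (C.mkQ z))) = ψ (C.mkQ z) := hψE _ hz
      have h2 : C.mkQ (ψ (C.mkQ z)) = C.mkQ z := hψinj h1
      have h3 : z - ψ (C.mkQ z) ∈ C := by
        rw [← Submodule.Quotient.mk_eq_zero, Submodule.Quotient.mk_sub]
        rw [sub_eq_zero]
        exact h2.symm
      have : z = ψ (C.mkQ z) + (z - ψ (C.mkQ z)) := by abel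
      rw [this]
      exact Submodule.add_mem_sup hz h3
  exact injective_of_isCompl hcompl

/-- the maximal essential extensions inside an injective module are injective -/
theorem injective_of_maximal_essIn [Module.Injective R I] {E E' : Submodule R I}
    (hmax : ∀ E'' : Submodule R I, EssIn E E'' → E' ≤ E'' → E'' = E') (hE : EssIn E E') :
    Module.Injective R E' :=
  injective_of_forall_essIn_eq (fun E'' h => hmax E'' (hE.trans h) h.1)

end Groth.Agent.Lib.Helper26.InjHull
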