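import Groth.Agent.Lib.Helper25.CauchyBinet

/-!
Cauchy–Binet with the increasing enumerations of subsets.
-/

set_option autoImplicit false

namespace Groth.Agent.Lib.Helper26.CauchyBinetOrd

open Groth.Agent.Lib.Helper25.CauchyBinet Matrix

variable {R : Type*} [CommRing R]

theorem cb_term {e r : ℕ} (X : Matrix (Fin e) (Fin r) R) (Y : Matrix (Fin r) (Fin e) R)
    (S : Finset (Fin r)) (hS : S.card = e) (en : Fin e ≃ S) :
    (Matrix.of fun i j => X i (en j)).det * (Matrix.of fun i j => Y (en i) j).det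
      = (X.submatrix id (S.orderEmbOfFin hS)).det * (Y.submatrix (S.orderEmbOfFin hS) id).det := by
  let σ : Equiv.Perm (Fin e) := en.trans (S.orderIsoOfFin hS).symm.toEquiv
  have hσ : ∀ j, ((en j : S) : Fin r) = S.orderEmbOfFin hS (σ j) := by
    intro j
    show _ = ((S.orderIsoOfFin hS) ((S.orderIsoOfFin hS).symm (en j)) : Fin r)
    rw [OrderIso.apply_symm_apply]
  have h1 : (Matrix.of fun i j => X i (en j))
      = (X.submatrix id (S.orderEmbOfFin hS)).submatrix id σ := by
    ext i j
    simp [hσ]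
  have h2 : (Matrix.of fun i j => Y (en i) j)
      = (Y.submatrix (S.orderEmbOfFin hS) id).submatrix σ id := by
    ext i j
    simp [hσ]
  rw [h1, h2, Matrix.det_permute', Matrix.det_permute]
  have hs : ((Equiv.Perm.sign σ : ℤ) : R) * ((Equiv.Perm.sign σ : ℤ) : R) = 1 := by
    rw [← Int.cast_mul, ← Units.val_mul, Int.units_mul_self, Units.val_one, Int.cast_one]
  calc _ = (((Equiv.Perm.sign σ : ℤ) : R) * ((Equiv.Perm.sign σ : ℤ) : R)) *
        ((X.submatrix id (S.orderEmbOfFin hS)).det * (Y.submatrix (S.orderEmbOfFin hS) id).det) := by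
        ring
    _ = _ := by rw [hs, one_mul]

theorem cb_ord {e r : ℕ} (X : Matrix (Fin e) (Fin r) R) (Y : Matrix (Fin r) (Fin e) R) :
    (X * Y).det = ∑ S : {s : Finset (Fin r) // s.card = e},
      (X.submatrix id (S.1.orderEmbOfFin S.2)).det * (Y.submatrix (S.1.orderEmbOfFin S.2) id).det := by
  rw [cauchyBinet]
  refine Fintype.sum_equiv (Equiv.subtypeEquivRight (fun s => by rw [Fintype.card_fin])) _ _ ?_
  rintro ⟨S, hS⟩
  have hS' : S.card = e := by rw [hS, Fintype.card_fin]
  exact cb_term X Y S hS' (enumS ⟨S, hS⟩)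

end Groth.Agent.Lib.Helper26.CauchyBinetOrd
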