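import Mathlib
import Groth.Prelude.Def_CAlgX

namespace Groth.Agent.Lib.Helper26.QRegSpan

universe u

set_option linter.unusedSectionVars false
set_option linter.style.haveILetI false

open MvPolynomial

/-- linear substitution -/
noncomputable def lin {B : Type u} [CommRing B] {n : ℕ} (M : Fin n → Fin n → B) :
    Fin n → MvPolynomial (Fin n) B := fun i => ∑ j, C (M i j) * X j

lemma lin_hom {B : Type u} [CommRing B] {n : ℕ} (M : Fin n → Fin n → B) (i : Fin n) :
    (lin M i).IsHomogeneous 1 :=
  IsHomogeneous.sum _ _ _ (fun k _ => isHomogeneous_C_mul_X _ _)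

lemma eval_lin {B : Type u} [CommRing B] {n : ℕ} (M : Fin n → Fin n → B) (f : Fin n → B)
    (i : Fin n) : eval f (lin M i) = ∑ j, M i j * f j := by
  simp [lin]

lemma map_lin {B B' : Type u} [CommRing B] [CommRing B'] (φ : B →+* B') {n : ℕ}
    (M : Fin n → Fin n → B) (i : Fin n) :
    map φ (lin M i) = lin (fun i j => φ (M i j)) i := by
  simp [lin]

lemma bind_lin_lin {B : Type u} [CommRing B] {n : ℕ} (M N : Fin n → Fin n → B) (i : Fin n) :
    bind₁ (lin N) (lin M i) = lin (fun i k => ∑ j, M i j * N j k) i := by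
  simp only [lin, map_sum, map_mul, bind₁_C_right, bind₁_X_right, Finset.mul_sum]
  rw [Finset.sum_comm]
  refine Finset.sum_congr rfl (fun k _ => ?_)
  rw [Finset.sum_mul]
  refine Finset.sum_congr rfl (fun j _ => ?_)
  ring

lemma lin_one {B : Type u} [CommRing B] {n : ℕ} (M : Fin n → Fin n → B)
    (hM : ∀ i k, M i k = if i = k then 1 else 0) (i : Fin n) : lin M i = X i := by
  classical
  simp only [lin, hM]
  rw [Finset.sum_eq_single i]
  · simp
  · intro b _ hb
    rw [if_neg (Ne.symm hb)]
    simp
  · intro h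
    exact absurd (Finset.mem_univ i) h

theorem main {A : Type u} [CommRing A] {n : ℕ} (f f' : Fin n → A)
    (hf : CAlgX.IsQuasiRegular f) (h : Ideal.span (Set.range f') = Ideal.span (Set.range f)) :
    CAlgX.IsQuasiRegular f' := by
  classical
  have hC : ∀ i, ∃ c : Fin n → A, ∑ j, c j * f j = f' i := fun i => by
    have : f' i ∈ Ideal.span (Set.range f) := h ▸ Ideal.subset_span ⟨i, rfl⟩
    exact (Ideal.mem_span_range_iff_exists_fun).mp this
  have hD : ∀ i, ∃ d : Fin n → A, ∑ j, d j * f' j = f i := fun i => by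
    have : f i ∈ Ideal.span (Set.range f') := h.symm ▸ Ideal.subset_span ⟨i, rfl⟩
    exact (Ideal.mem_span_range_iff_exists_fun).mp this
  choose Cm hC using hC
  choose Dm hD using hD
  set J := Ideal.span (Set.range f) with hJ
  -- `D C - 1` has entries in `J`
  have hDC : ∀ i k, (∑ j, Dm i j * Cm j k) - (if i = k then 1 else 0) ∈ J := by
    intro i k
    let a : Fin n → A := fun k => (∑ j, Dm i j * Cm j k) - (if i = k then 1 else 0)
    let P : MvPolynomial (Fin n) A := ∑ k, C (a k) * X k
    have hP : P.IsHomogeneous 1 :=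
      IsHomogeneous.sum _ _ _ (fun k _ => isHomogeneous_C_mul_X _ _)
    have hev : eval f P = 0 := by
      simp only [P, map_sum, map_mul, eval_C, eval_X, a, sub_mul, Finset.sum_sub_distrib]
      have h1 : ∑ x, (∑ j, Dm i j * Cm j x) * f x = f i := by
        simp only [Finset.sum_mul]
        rw [Finset.sum_comm]
        rw [← hD i]
        refine Finset.sum_congr rfl (fun j _ => ?_)
        rw [← hC j, Finset.mul_sum]
        refine Finset.sum_congr rfl (fun x _ => ?_)
        ring
      have h2 : ∑ x, (if i = x then (1 : A) else 0) * f x = f i := by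
        simp
      rw [h1, h2, sub_self]
    have hmem := hf 1 P hP (by rw [hev]; exact Ideal.zero_mem _) (Finsupp.single k 1)
    have hcoef : coeff (Finsupp.single k 1) P = a k := by
      simp only [P, coeff_sum, coeff_C_mul, coeff_X]
      rw [Finset.sum_eq_single k]
      · simp
      · intro b _ hb
        rw [if_neg]
        · simp
        · intro hEq
          exact hb ((Finsupp.single_left_inj one_ne_zero).mp hEq)
      · intro h'
        exact absurd (Finset.mem_univ k) h'
    rw [hcoef] at hmem
    exact hmem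
  intro m P hP hev d
  rw [h]
  -- substitution
  let Q : MvPolynomial (Fin n) A := bind₁ (lin Cm) P
  have hQ : Q.IsHomogeneous m := by
    have := IsHomogeneous.aeval (S := A) hP (lin Cm) (fun i => lin_hom Cm i)
    rwa [one_mul] at this
  have hevQ : eval f Q = eval f' P := by
    have := eval₂Hom_bind₁ (RingHom.id A) f (lin Cm) P
    change eval f (bind₁ (lin Cm) P) = eval (fun i => eval f (lin Cm i)) P at this
    rw [this]
    have h5 : (fun i => eval f (lin Cm i)) = f' := funext (fun i => by rw [eval_lin, hC i])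
    rw [h5]
  have hQJ : ∀ e, coeff e Q ∈ J := hf m Q hQ (by rw [hevQ]; rw [h] at hev; exact hev)
  have hQ0 : map (Ideal.Quotient.mk J) Q = 0 := by
    ext e
    rw [coeff_map, coeff_zero]
    exact Ideal.Quotient.eq_zero_iff_mem.mpr (hQJ e)
  rw [map_bind₁] at hQ0
  have h2 := congrArg (bind₁ (lin (fun i j => Ideal.Quotient.mk J (Dm i j)))) hQ0
  rw [map_zero, bind₁_bind₁] at h2
  have h3 : (fun i => bind₁ (lin (fun i j => Ideal.Quotient.mk J (Dm i j)))
      (map (Ideal.Quotient.mk J) (lin Cm i))) = X := by
    funext i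
    rw [map_lin, bind_lin_lin]
    apply lin_one
    intro i k
    -- C̄ D̄ = 1 from D̄ C̄ = 1
    let CM : Matrix (Fin n) (Fin n) (A ⧸ J) := fun i j => Ideal.Quotient.mk J (Cm i j)
    let DM : Matrix (Fin n) (Fin n) (A ⧸ J) := fun i j => Ideal.Quotient.mk J (Dm i j)
    have hDCm : DM * CM = 1 := by
      ext i k
      rw [Matrix.mul_apply, Matrix.one_apply]
      have := Ideal.Quotient.eq_zero_iff_mem.mpr (hDC i k)
      rw [map_sub, sub_eq_zero] at this
      simp only [map_sum, map_mul] at this
      rw [this]
      split_ifs <;> simp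
    have hCDm : CM * DM = 1 := _root_.mul_eq_one_comm.mp hDCm
    have := congrFun (congrFun hCDm i) k
    rw [Matrix.mul_apply, Matrix.one_apply] at this
    exact this
  rw [h3, bind₁_X_left] at h2
  have h4 : coeff d (map (Ideal.Quotient.mk J) P) = 0 := by
    have : map (Ideal.Quotient.mk J) P = 0 := h2
    rw [this, coeff_zero]
  rw [coeff_map] at h4
  exact Ideal.Quotient.eq_zero_iff_mem.mp h4

end Groth.Agent.Lib.Helper26.QRegSpan
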