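import Mathlib
import Groth.Prelude.Def_CAlgX
import Groth.Agent.Lib.Helper26.QRegSpan

namespace Groth.Agent.Lib.Helper26.QRegCot

universe u

set_option linter.unusedSectionVars false
set_option linter.style.haveILetI false

open MvPolynomial

variable {A : Type u} [CommRing A]

lemma smul_toCot (I : Ideal A) (a : A) (x : I) :
    (Ideal.Quotient.mk I a) • I.toCotangent x = I.toCotangent (a • x) := by
  rw [map_smul]
  rfl

lemma sum_toCot (I : Ideal A) {m : ℕ} (f : Fin m → I) (a : Fin m → A) :
    ∑ i, (Ideal.Quotient.mk I (a i)) • I.toCotangent (f i) = I.toCotangent (∑ i, a i • f i) := by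
  rw [map_sum]
  exact Finset.sum_congr rfl (fun i _ => smul_toCot I (a i) (f i))

/-- (a) ⇒ (c). -/
theorem basis_of_qreg (I : Ideal A) {m : ℕ} (f : Fin m → I)
    (hq : CAlgX.IsQuasiRegular (fun i => (f i : A)))
    (hs : Ideal.span (Set.range fun i => (f i : A)) = I) :
    LinearIndependent (A ⧸ I) (fun i => I.toCotangent (f i)) ∧
      Submodule.span (A ⧸ I) (Set.range fun i => I.toCotangent (f i)) = ⊤ := by
  classical
  constructor
  · rw [Fintype.linearIndependent_iff]
    intro c hc i
    have hlift : ∀ i, ∃ a : A, Ideal.Quotient.mk I a = c i :=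
      fun i => Ideal.Quotient.mk_surjective (c i)
    choose a ha using hlift
    simp only [← ha] at hc
    rw [sum_toCot, Ideal.toCotangent_eq_zero] at hc
    let P : MvPolynomial (Fin m) A := ∑ k, C (a k) * X k
    have hP : P.IsHomogeneous 1 :=
      IsHomogeneous.sum _ _ _ (fun k _ => isHomogeneous_C_mul_X _ _)
    have hev : eval (fun i => (f i : A)) P = ((∑ i, a i • f i : I) : A) := by
      simp only [P, map_sum, map_mul, eval_C, eval_X]
      rw [Submodule.coe_sum]
      rfl
    have hmem := hq 1 P hP (by rw [hev, hs]; exact hc) (Finsupp.single i 1)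
    have hcoef : coeff (Finsupp.single i 1) P = a i := by
      simp only [P, coeff_sum, coeff_C_mul, coeff_X]
      rw [Finset.sum_eq_single i]
      · simp
      · intro b _ hb
        rw [if_neg]
        · simp
        · intro hEq
          exact hb ((Finsupp.single_left_inj one_ne_zero).mp hEq)
      · intro h'
        exact absurd (Finset.mem_univ i) h'
    rw [hcoef, hs] at hmem
    rw [← ha i]
    exact Ideal.Quotient.eq_zero_iff_mem.mpr hmem
  · rw [eq_top_iff]
    rintro y -
    obtain ⟨x, rfl⟩ := I.toCotangent_surjective y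
    have hx : (x : A) ∈ Ideal.span (Set.range fun i => (f i : A)) := by rw [hs]; exact x.2
    obtain ⟨b, hb⟩ := (Ideal.mem_span_range_iff_exists_fun).mp hx
    have hx' : x = ∑ i, b i • f i := by
      apply Subtype.ext
      rw [Submodule.coe_sum, ← hb]
      rfl
    rw [hx', ← sum_toCot]
    exact Submodule.sum_mem _ (fun i _ => Submodule.smul_mem _ _ (Submodule.subset_span ⟨i, rfl⟩))

theorem main [IsLocalRing A]
    (I : Ideal A) (hI : I ≤ IsLocalRing.maximalIdeal A)
    (hq : ∃ (r : ℕ) (g : Fin r → A), CAlgX.IsQuasiRegular g ∧ Ideal.span (Set.range g) = I)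
    {m : ℕ} (f : Fin m → I) :
    (CAlgX.IsQuasiRegular (fun i => (f i : A)) ∧ Ideal.span (Set.range fun i => (f i : A)) = I) ↔
      (LinearIndependent (A ⧸ I) (fun i => I.toCotangent (f i)) ∧
        Submodule.span (A ⧸ I) (Set.range fun i => I.toCotangent (f i)) = ⊤) := by
  classical
  constructor
  · rintro ⟨h1, h2⟩
    exact basis_of_qreg I f h1 h2
  · rintro ⟨hli, hsp⟩
    obtain ⟨r, g, hg, hgI⟩ := hq
    -- span
    have hspan : Ideal.span (Set.range fun i => (f i : A)) = I := by
      apply le_antisymm
      · rw [Ideal.span_le]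
        rintro _ ⟨i, rfl⟩
        exact (f i).2
      · have hfg : (I : Submodule A A).FG := by
          rw [← hgI]
          exact ⟨(Finset.univ.image g), by simp [Ideal.span]⟩
        refine Submodule.le_of_le_smul_of_le_jacobson_bot (I := I) hfg ?_ ?_
        · rw [IsLocalRing.jacobson_eq_maximalIdeal ⊥ bot_ne_top]
          exact hI
        · intro x hx
          have hmem : I.toCotangent ⟨x, hx⟩ ∈
              Submodule.span (A ⧸ I) (Set.range fun i => I.toCotangent (f i)) := by
            rw [hsp]; trivial
          obtain ⟨c, hc⟩ := (Submodule.mem_span_range_iff_exists_fun _).mp hmem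
          have hlift : ∀ i, ∃ a : A, Ideal.Quotient.mk I a = c i :=
            fun i => Ideal.Quotient.mk_surjective (c i)
          choose a ha using hlift
          simp only [← ha] at hc
          rw [sum_toCot, Ideal.toCotangent_eq] at hc
          rw [Submodule.mem_sup]
          refine ⟨((∑ i, a i • f i : I) : A), ?_, x - ((∑ i, a i • f i : I) : A), ?_, by ring⟩
          · rw [Submodule.coe_sum]
            refine Submodule.sum_mem _ (fun i _ => ?_)
            exact Ideal.mul_mem_left _ _ (Ideal.subset_span ⟨i, rfl⟩)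
          · have : x - ((∑ i, a i • f i : I) : A) ∈ I ^ 2 := by
              have h3 := Ideal.neg_mem_iff (I ^ 2) |>.mpr hc
              simpa using h3
            rw [pow_two] at this
            exact this
    refine ⟨?_, hspan⟩
    -- lengths agree
    have hgmem : ∀ i, g i ∈ I := fun i => hgI ▸ Ideal.subset_span ⟨i, rfl⟩
    let g' : Fin r → I := fun i => ⟨g i, hgmem i⟩
    obtain ⟨hli', hsp'⟩ := basis_of_qreg I g' hg hgI
    haveI : Nontrivial (A ⧸ I) :=
      Ideal.Quotient.nontrivial_iff.mpr (fun h => (IsLocalRing.maximalIdeal.isMaximal A).ne_top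
        (top_le_iff.mp (h ▸ hI)))
    let b1 := Module.Basis.mk hli (le_of_eq hsp.symm)
    let b2 := Module.Basis.mk hli' (le_of_eq hsp'.symm)
    have hcard : m = r := by
      have := Fintype.card_congr (b1.indexEquiv b2)
      simpa using this
    subst hcard
    exact QRegSpan.main g (fun i => (f i : A)) hg (hspan.trans hgI.symm)

end Groth.Agent.Lib.Helper26.QRegCot
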