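import Groth.Prelude.Def_Wider
import Mathlib.RingTheory.Length
import Mathlib.RingTheory.FiniteLength
import Mathlib.LinearAlgebra.LeftExact
import Mathlib.RingTheory.SimpleModule.Basic
import Mathlib.RingTheory.LocalRing.ResidueField.Basic
import Mathlib.RingTheory.Noetherian.Basic

/-!
# A small library on the injective hull of the residue field of a local ring
(helper26)
-/

set_option autoImplicit false

universe u

namespace Groth.Agent.Lib.Helper26.Matlis

open IsLocalRing

variable {R : Type u} [CommRing R] [IsLocalRing R]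
variable {E : Type u} [AddCommGroup E] [Module R E]
variable {f : ResidueField R →ₗ[R] E}

/-- elements of the range of `f` are killed by the maximal ideal -/
lemma smul_eq_zero_of_mem_range {x : E} (hx : x ∈ LinearMap.range f) {a : R}
    (ha : a ∈ maximalIdeal R) : a • x = 0 := by
  obtain ⟨c, rfl⟩ := hx
  rw [← map_smul]
  have : a • c = 0 := by
    rw [Algebra.smul_def]
    have : algebraMap R (ResidueField R) a = 0 := by
      show residue R a = 0
      exact (residue_eq_zero_iff a).2 ha
    rw [this, zero_mul]
  rw [this, map_zero]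

/-- socle elements lie in the range of `f` -/
lemma mem_range_of_smul_eq_zero (hf : InjHull.IsEssentialInj f) {x : E}
    (hx : ∀ a ∈ maximalIdeal R, a • x = 0) : x ∈ LinearMap.range f := by
  by_cases hx0 : x = 0
  · subst hx0; exact Submodule.zero_mem _
  have hspan : Submodule.span R {x} ≠ ⊥ := fun h => hx0 (Submodule.span_singleton_eq_bot.1 h)
  obtain ⟨y, hy, hy0⟩ := (Submodule.ne_bot_iff _).1 (hf.essential _ hspan)
  obtain ⟨hy1, hy2⟩ := Submodule.mem_inf.1 hy
  obtain ⟨r, rfl⟩ := Submodule.mem_span_singleton.1 hy1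
  have hr : IsUnit r := by
    by_contra h
    exact hy0 (hx r ((IsLocalRing.mem_maximalIdeal r).2 h))
  obtain ⟨u, rfl⟩ := hr
  have : x = (↑u⁻¹ : R) • ((u : R) • x) := by rw [smul_smul, Units.inv_mul, one_smul]
  rw [this]
  exact Submodule.smul_mem _ _ hy2

lemma f_one_ne_zero (hf : InjHull.IsEssentialInj f) : f 1 ≠ 0 := by
  intro h
  have : (1 : ResidueField R) = 0 := hf.injective (by rw [h, map_zero])
  exact one_ne_zero this

/-- separation: a nonzero element is detected by a map to `E` -/
lemma exists_linearMap_apply_ne_zero (hf : InjHull.IsInjectiveHull f)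
    {M : Type u} [AddCommGroup M] [Module R M] {x : M} (hx : x ≠ 0) :
    ∃ φ : M →ₗ[R] E, φ x ≠ 0 := by
  have := hf.isInjective
  set t := LinearMap.toSpanSingleton R M x with ht
  have hI : LinearMap.ker t ≤ maximalIdeal R := by
    apply IsLocalRing.le_maximalIdeal
    intro h
    have : (1 : R) ∈ LinearMap.ker t := by rw [h]; trivial
    rw [LinearMap.mem_ker, ht, LinearMap.toSpanSingleton_apply, one_smul] at this
    exact hx this
  let q : (R ⧸ LinearMap.ker t) →ₗ[R] ResidueField R :=
    Submodule.mapQ (LinearMap.ker t) (maximalIdeal R) LinearMap.id hI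
  let g : LinearMap.range t →ₗ[R] E := f ∘ₗ q ∘ₗ t.quotKerEquivRange.symm.toLinearMap
  obtain ⟨φ, hφ⟩ := Module.Injective.extension_property R E _ _ (LinearMap.range t).subtype
    (Submodule.subtype_injective _) g
  refine ⟨φ, ?_⟩
  have hxr : x ∈ LinearMap.range t := ⟨1, by rw [ht, LinearMap.toSpanSingleton_apply, one_smul]⟩
  have h1 : φ x = g ⟨x, hxr⟩ := by
    rw [← hφ]; rfl
  have h2 : t.quotKerEquivRange.symm ⟨x, hxr⟩ = Submodule.Quotient.mk 1 := by
    rw [LinearEquiv.symm_apply_eq]
    apply Subtype.ext
    rw [LinearMap.quotKerEquivRange_apply_mk]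
    show x = t 1
    rw [LinearMap.toSpanSingleton_apply, one_smul]
  have h3 : g ⟨x, hxr⟩ = f 1 := by
    show f (q (t.quotKerEquivRange.symm ⟨x, hxr⟩)) = f 1
    rw [h2]
    rfl
  rw [h1, h3]
  exact f_one_ne_zero hf.toIsEssentialInj

/-- the evaluation map into the double dual is injective -/
lemma applyₗ_injective (hf : InjHull.IsInjectiveHull f)
    (M : Type u) [AddCommGroup M] [Module R M] :
    Function.Injective (LinearMap.applyₗ : M →ₗ[R] (M →ₗ[R] E) →ₗ[R] E) := by
  rw [← LinearMap.ker_eq_bot, LinearMap.ker_eq_bot']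
  intro x hx
  by_contra hx0
  obtain ⟨φ, hφ⟩ := exists_linearMap_apply_ne_zero hf hx0
  apply hφ
  have := LinearMap.congr_fun hx φ
  simpa using this

/-- the maximal ideal kills every simple module -/
lemma smul_eq_zero_of_isSimpleModule {S : Type u} [AddCommGroup S] [Module R S]
    [IsSimpleModule R S] {a : R} (ha : a ∈ maximalIdeal R) (s : S) : a • s = 0 := by
  have hmax : (Module.annihilator R S).IsMaximal := IsSimpleModule.annihilator_isMaximal
  have : Module.annihilator R S = maximalIdeal R := IsLocalRing.eq_maximalIdeal hmax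
  rw [← this] at ha
  exact Module.mem_annihilator.1 ha s

/-- the dual of a simple module is simple -/
lemma isSimpleModule_linearMap (hf : InjHull.IsInjectiveHull f)
    (S : Type u) [AddCommGroup S] [Module R S] [IsSimpleModule R S] :
    IsSimpleModule R (S →ₗ[R] E) := by
  rw [isSimpleModule_iff_toSpanSingleton_surjective]
  constructor
  · have := IsSimpleModule.nontrivial R S
    obtain ⟨s, hs⟩ := exists_ne (0 : S)
    obtain ⟨φ, hφ⟩ := exists_linearMap_apply_ne_zero hf hs
    refine ⟨φ, 0, ?_⟩
    intro h
    rw [h] at hφ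
    exact hφ rfl
  · intro φ hφ ψ
    obtain ⟨s, hs⟩ : ∃ s, φ s ≠ 0 := by
      by_contra h
      push_neg at h
      exact hφ (LinearMap.ext h)
    have hs0 : s ≠ 0 := by
      rintro rfl
      exact hs (map_zero _)
    have hgen : Function.Surjective (LinearMap.toSpanSingleton R S s) :=
      IsSimpleModule.toSpanSingleton_surjective R hs0
    have hφs : φ s ∈ LinearMap.range f := by
      apply mem_range_of_smul_eq_zero hf.toIsEssentialInj
      intro a ha
      rw [← map_smul, smul_eq_zero_of_isSimpleModule ha, map_zero]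
    have hψs : ψ s ∈ LinearMap.range f := by
      apply mem_range_of_smul_eq_zero hf.toIsEssentialInj
      intro a ha
      rw [← map_smul, smul_eq_zero_of_isSimpleModule ha, map_zero]
    obtain ⟨a, ha⟩ := hφs
    obtain ⟨b, hb⟩ := hψs
    have ha0 : a ≠ 0 := by
      rintro rfl
      rw [map_zero] at ha
      exact hs ha.symm
    obtain ⟨c, hc⟩ := residue_surjective (R := R) (b * a⁻¹)
    refine ⟨c, ?_⟩
    apply LinearMap.ext
    intro y
    obtain ⟨r, rfl⟩ := hgen y
    simp only [LinearMap.toSpanSingleton_apply, LinearMap.smul_apply, map_smul]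
    congr 1
    rw [← ha, ← hb, ← map_smul]
    congr 1
    rw [Algebra.smul_def]
    show residue R c * a = b
    rw [hc, mul_assoc, inv_mul_cancel₀ ha0, mul_one]

/-- the dual of a finite length module has the same length -/
lemma length_linearMap (hf : InjHull.IsInjectiveHull f)
    (M : Type u) [AddCommGroup M] [Module R M] (hM : IsFiniteLength R M) :
    Module.length R (M →ₗ[R] E) = Module.length R M := by
  have := hf.isInjective
  induction hM with
  | of_subsingleton =>
    rw [Module.length_eq_zero, Module.length_eq_zero]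
  | @of_simple_quotient M _ _ N _ hN ih =>
    have hex : Function.Exact (LinearMap.lcomp R E N.mkQ) (LinearMap.lcomp R E N.subtype) :=
      LinearMap.exact_lcomp_of_exact_of_surjective E (LinearMap.exact_subtype_mkQ N)
        (Submodule.mkQ_surjective N)
    have hinj : Function.Injective (LinearMap.lcomp R E N.mkQ) :=
      LinearMap.lcomp_injective_of_surjective _ (Submodule.mkQ_surjective N)
    have hsurj : Function.Surjective (LinearMap.lcomp R E N.subtype) := by
      intro g
      obtain ⟨h, hh⟩ := Module.Injective.extension_property R E _ _ N.subtype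
        (Submodule.subtype_injective _) g
      exact ⟨h, hh⟩
    have := isSimpleModule_linearMap hf (M ⧸ N)
    rw [Module.length_eq_add_of_exact _ _ hinj hsurj hex, ih,
      Module.length_eq_one R ((M ⧸ N) →ₗ[R] E),
      Module.length_eq_add_of_exact N.subtype N.mkQ (Submodule.subtype_injective _)
        (Submodule.mkQ_surjective N) (LinearMap.exact_subtype_mkQ N),
      Module.length_eq_one R (M ⧸ N), add_comm]

/-- the evaluation map into the double dual is bijective for finite length modules -/
lemma applyₗ_bijective (hf : InjHull.IsInjectiveHull f)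
    (M : Type u) [AddCommGroup M] [Module R M] (hM : IsFiniteLength R M) :
    Function.Bijective (LinearMap.applyₗ : M →ₗ[R] (M →ₗ[R] E) →ₗ[R] E) := by
  refine ⟨applyₗ_injective hf M, ?_⟩
  set ev : M →ₗ[R] (M →ₗ[R] E) →ₗ[R] E := LinearMap.applyₗ with hev
  have hM' : IsFiniteLength R (M →ₗ[R] E) := by
    rw [← Module.length_ne_top_iff, length_linearMap hf M hM, Module.length_ne_top_iff]
    exact hM
  have h1 : Module.length R ((M →ₗ[R] E) →ₗ[R] E) = Module.length R M := by
    rw [length_linearMap hf _ hM', length_linearMap hf M hM]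
  have h2 := Module.length_eq_add_of_exact ev (LinearMap.range ev).mkQ (applyₗ_injective hf M)
    (Submodule.mkQ_surjective _) (LinearMap.exact_map_mkQ_range ev)
  rw [h1] at h2
  have hfin : Module.length R M ≠ ⊤ := Module.length_ne_top_iff.2 hM
  have h3 : Module.length R (((M →ₗ[R] E) →ₗ[R] E) ⧸ LinearMap.range ev) = 0 := by
    have : Module.length R M + 0 = Module.length R M +
        Module.length R (((M →ₗ[R] E) →ₗ[R] E) ⧸ LinearMap.range ev) := by
      rw [add_zero]; exact h2
    exact (ENat.add_right_injective_of_ne_top hfin this).symm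
  rw [Module.length_eq_zero_iff] at h3
  rw [← LinearMap.range_eq_top]
  exact Submodule.Quotient.subsingleton_iff.1 h3

/-- Over a Noetherian local ring, an essential extension of the residue field is power torsion. -/
lemma isPowerTorsion [IsNoetherianRing R] (hf : InjHull.IsEssentialInj f) :
    LocCoh.IsPowerTorsion (maximalIdeal R) E := by
  intro x
  set J : Ideal R := LinearMap.ker (LinearMap.toSpanSingleton R E x) with hJ
  have hmem : ∀ r : R, r ∈ J ↔ r • x = 0 := fun r => by
    rw [hJ, LinearMap.mem_ker, LinearMap.toSpanSingleton_apply]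
  suffices h : maximalIdeal R ≤ J.radical by
    obtain ⟨n, hn⟩ := Ideal.exists_pow_le_of_le_radical_of_fg h (IsNoetherian.noetherian _)
    exact ⟨n, fun a ha => (hmem a).1 (hn ha)⟩
  intro a ha
  by_contra hna
  have hne : ∀ n, a ^ n • x ≠ 0 := fun n h => hna ⟨n, (hmem _).2 h⟩
  let chain : ℕ →o Ideal R :=
    ⟨fun n => LinearMap.ker (LinearMap.toSpanSingleton R E (a ^ n • x)), by
      apply monotone_nat_of_le_succ
      intro n r hr
      rw [LinearMap.mem_ker, LinearMap.toSpanSingleton_apply] at hr ⊢
      rw [pow_succ', mul_smul, smul_comm, hr, smul_zero]⟩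
  obtain ⟨n, hn⟩ := monotone_stabilizes_iff_noetherian.2 inferInstance chain
  have hn1 := hn (n + 1) (Nat.le_succ n)
  have hspan : Submodule.span R {a ^ n • x} ≠ ⊥ :=
    fun h => hne n (Submodule.span_singleton_eq_bot.1 h)
  obtain ⟨y, hy, hy0⟩ := (Submodule.ne_bot_iff _).1 (hf.essential _ hspan)
  obtain ⟨hy1, hy2⟩ := Submodule.mem_inf.1 hy
  obtain ⟨r, rfl⟩ := Submodule.mem_span_singleton.1 hy1
  have h0 : a • (r • a ^ n • x) = 0 := smul_eq_zero_of_mem_range hy2 ha
  have hr1 : r ∈ chain (n + 1) := by
    show r ∈ LinearMap.ker (LinearMap.toSpanSingleton R E (a ^ (n + 1) • x))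
    rw [LinearMap.mem_ker, LinearMap.toSpanSingleton_apply, pow_succ', mul_smul, smul_comm]
    exact h0
  rw [← hn1] at hr1
  apply hy0
  have : r ∈ LinearMap.ker (LinearMap.toSpanSingleton R E (a ^ n • x)) := hr1
  rwa [LinearMap.mem_ker, LinearMap.toSpanSingleton_apply] at this

end Groth.Agent.Lib.Helper26.Matlis
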