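import Groth.Agent.Lib.Helper26.MatlisArtinian
import Mathlib.RingTheory.AdicCompletion.Basic
import Mathlib.RingTheory.HopkinsLevitzki
import Mathlib.RingTheory.Finiteness.Ideal

/-!
# Endomorphisms of the injective hull of the residue field (helper26)
-/

set_option autoImplicit false

universe u

namespace Groth.Agent.Lib.Helper26.Matlis

open IsLocalRing

variable {R : Type u} [CommRing R] [IsLocalRing R] [IsNoetherianRing R]

/-- a Noetherian power torsion module over a Noetherian local ring is Artinian -/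
theorem isArtinian_of_isPowerTorsion_of_isNoetherian (M : Type u) [AddCommGroup M] [Module R M]
    [IsNoetherian R M] (h : LocCoh.IsPowerTorsion (maximalIdeal R) M) : IsArtinian R M := by
  letI : Field (R ⧸ maximalIdeal R) := Ideal.Quotient.field _
  haveI : Module.Finite (R ⧸ maximalIdeal R)
      ↥(Submodule.torsionBySet R M (maximalIdeal R : Set R)) :=
    Module.Finite.of_restrictScalars_finite R _ _
  haveI : IsArtinian R ↥(Submodule.torsionBySet R M (maximalIdeal R : Set R)) :=
    isArtinian_of_surjective_algebraMap (R := R ⧸ maximalIdeal R) (S := R)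
      Ideal.Quotient.mk_surjective
  exact Melkersson.isArtinian_of_isPowerTorsion (maximalIdeal R) (IsNoetherian.noetherian _) h

/-- `R ⧸ m ^ n` has finite length -/
theorem isFiniteLength_quotient_pow (n : ℕ) : IsFiniteLength R (R ⧸ maximalIdeal R ^ n) := by
  rw [isFiniteLength_iff_isNoetherian_isArtinian]
  refine ⟨inferInstance, isArtinian_of_isPowerTorsion_of_isNoetherian _ ?_⟩
  intro x
  refine ⟨n, fun a ha => ?_⟩
  obtain ⟨r, rfl⟩ := Ideal.Quotient.mk_surjective x
  rw [Algebra.smul_def, Ideal.Quotient.algebraMap_eq, ← map_mul, Ideal.Quotient.eq_zero_iff_mem]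
  exact Ideal.mul_mem_right _ _ ha

variable {E : Type u} [AddCommGroup E] [Module R E]
variable {f : ResidueField R →ₗ[R] E}

/-- the map `R ⧸ m ^ n → E` attached to an element killed by `m ^ n` -/
noncomputable def ofTorsion (n : ℕ) (x : E) (hx : ∀ a ∈ maximalIdeal R ^ n, a • x = 0) :
    (R ⧸ maximalIdeal R ^ n) →ₗ[R] E :=
  Submodule.liftQ (maximalIdeal R ^ n) (LinearMap.toSpanSingleton R E x) (by
    intro a ha
    rw [LinearMap.mem_ker, LinearMap.toSpanSingleton_apply]
    exact hx a ha)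

lemma ofTorsion_mk (n : ℕ) (x : E) (hx : ∀ a ∈ maximalIdeal R ^ n, a • x = 0) (r : R) :
    ofTorsion n x hx (Ideal.Quotient.mk _ r) = r • x := by
  show ofTorsion n x hx (Submodule.Quotient.mk r) = r • x
  unfold ofTorsion
  rw [Submodule.liftQ_apply, LinearMap.toSpanSingleton_apply]

/-- on the `m ^ n`-torsion, every endomorphism of `E` is multiplication by a scalar -/
lemma exists_smul_eq_of_pow_smul_eq_zero (hf : InjHull.IsInjectiveHull f) (θ : E →ₗ[R] E)
    (n : ℕ) : ∃ r : R, ∀ x : E, (∀ a ∈ maximalIdeal R ^ n, a • x = 0) → θ x = r • x := by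
  have hbij := applyₗ_bijective hf (R ⧸ maximalIdeal R ^ n) (isFiniteLength_quotient_pow n)
  let Θ : ((R ⧸ maximalIdeal R ^ n) →ₗ[R] E) →ₗ[R] E :=
    θ ∘ₗ (LinearMap.applyₗ (Ideal.Quotient.mk (maximalIdeal R ^ n) 1))
  obtain ⟨rbar, hr⟩ := hbij.2 Θ
  obtain ⟨r, rfl⟩ := Ideal.Quotient.mk_surjective rbar
  refine ⟨r, fun x hx => ?_⟩
  have := LinearMap.congr_fun hr (ofTorsion n x hx)
  simp only [LinearMap.applyₗ_apply_apply, Θ, LinearMap.comp_apply] at this
  rw [ofTorsion_mk, ofTorsion_mk, one_smul] at this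
  exact this.symm

/-- the annihilator of the `m ^ n`-torsion of `E` is `m ^ n` -/
lemma mem_pow_of_forall_smul_eq_zero (hf : InjHull.IsInjectiveHull f) (n : ℕ) (r : R)
    (h : ∀ x : E, (∀ a ∈ maximalIdeal R ^ n, a • x = 0) → r • x = 0) :
    r ∈ maximalIdeal R ^ n := by
  by_contra hr
  have hne : (Ideal.Quotient.mk (maximalIdeal R ^ n) r) ≠ 0 := by
    rwa [Ne, Ideal.Quotient.eq_zero_iff_mem]
  obtain ⟨φ, hφ⟩ := exists_linearMap_apply_ne_zero hf hne
  apply hφ
  have h1 : ∀ a ∈ maximalIdeal R ^ n, a • φ (Ideal.Quotient.mk _ 1) = 0 := by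
    intro a ha
    rw [← map_smul, Algebra.smul_def, Ideal.Quotient.algebraMap_eq, ← map_mul, mul_one,
      Ideal.Quotient.eq_zero_iff_mem.2 ha, map_zero]
  have h2 := h _ h1
  rw [← map_smul, Algebra.smul_def, Ideal.Quotient.algebraMap_eq, ← map_mul, mul_one] at h2
  exact h2

/-- over a complete Noetherian local ring every endomorphism of `E` is a homothety -/
theorem exists_eq_smul_of_isAdicComplete [IsAdicComplete (maximalIdeal R) R]
    (hf : InjHull.IsInjectiveHull f) (θ : E →ₗ[R] E) : ∃ r : R, ∀ x : E, θ x = r • x := by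
  choose c hc using exists_smul_eq_of_pow_smul_eq_zero hf θ
  have hcauchy : ∀ {m n : ℕ}, m ≤ n →
      c m ≡ c n [SMOD (maximalIdeal R ^ m • ⊤ : Submodule R R)] := by
    intro m n hmn
    rw [SModEq.sub_mem, smul_eq_mul, Ideal.mul_top]
    apply mem_pow_of_forall_smul_eq_zero hf
    intro x hx
    have hx' : ∀ a ∈ maximalIdeal R ^ n, a • x = 0 :=
      fun a ha => hx a (Ideal.pow_le_pow_right hmn ha)
    rw [sub_smul, ← hc m x hx, ← hc n x hx', sub_self]
  obtain ⟨L, hL⟩ := IsPrecomplete.prec' (I := maximalIdeal R) c hcauchy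
  refine ⟨L, fun x => ?_⟩
  obtain ⟨n, hn⟩ := isPowerTorsion hf.toIsEssentialInj x
  have h1 := hL n
  rw [SModEq.sub_mem, smul_eq_mul, Ideal.mul_top] at h1
  have h2 := hn _ h1
  rw [sub_smul, sub_eq_zero] at h2
  rw [hc n x hn, h2]

end Groth.Agent.Lib.Helper26.Matlis
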