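import Groth.Agent.Lib.Helper26.CatOrder

/-!
A partial order with an integer valued "dimension function" is catenary, with codimension the
difference of the dimensions.
-/

set_option autoImplicit false

namespace Groth.Agent.Lib.Helper26.CatOrder

variable {P : Type*} [PartialOrder P] (d : P → ℤ)

lemma length_le_of_mono (hmono : ∀ a b : P, a < b → d a < d b) :
    ∀ (n : ℕ) (s : LTSeries P), s.length = n → d s.head + n ≤ d s.last := by
  intro n
  induction n with
  | zero =>
    intro s hs
    have : s.head = s.last := by
      show s 0 = s (Fin.last _)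
      congr 1
      rw [Fin.ext_iff]
      simp [hs]
    rw [this]
    simp
  | succ n ih =>
    intro s hs
    have hlen : s.eraseLast.length = n := by
      rw [RelSeries.eraseLast_length, hs]; rfl
    have h1 := ih s.eraseLast hlen
    have hlt : s.eraseLast.last < s.last := by
      have e1 : s.eraseLast.last = s (Fin.castSucc ⟨s.length - 1, by omega⟩) := rfl
      have e2 : s.last = s (Fin.succ ⟨s.length - 1, by omega⟩) := by
        show s (Fin.last _) = _
        congr 1
        rw [Fin.ext_iff]
        simp
        omega
      rw [e1, e2]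
      exact s.step _
    rw [RelSeries.head_eraseLast] at h1
    have := hmono _ _ hlt
    push_cast
    omega

lemma length_eq_of_sat (hcov : ∀ a b : P, a ⋖ b → d b = d a + 1) :
    ∀ (n : ℕ) (s : LTSeries P), s.length = n → Sat s → d s.last = d s.head + n := by
  intro n
  induction n with
  | zero =>
    intro s hs _
    have : s.head = s.last := by
      show s 0 = s (Fin.last _)
      congr 1
      rw [Fin.ext_iff]
      simp [hs]
    rw [this]
    simp
  | succ n ih =>
    intro s hs hsat
    have hsat' : Sat s.eraseLast := by
      intro i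
      exact hsat ⟨i, lt_of_lt_of_le i.2 (Nat.sub_le _ _)⟩
    have hlen : s.eraseLast.length = n := by
      rw [RelSeries.eraseLast_length, hs]; rfl
    have h1 := ih s.eraseLast hlen hsat'
    have hc : s.eraseLast.last ⋖ s.last := by
      have e1 : s.eraseLast.last = s (Fin.castSucc ⟨s.length - 1, by omega⟩) := rfl
      have e2 : s.last = s (Fin.succ ⟨s.length - 1, by omega⟩) := by
        show s (Fin.last _) = _
        congr 1
        rw [Fin.ext_iff]
        simp
        omega
      rw [e1, e2]
      exact hsat _
    rw [RelSeries.head_eraseLast] at h1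
    rw [hcov _ _ hc, h1]
    push_cast
    ring

variable {d}

lemma cod_le_of_mono (hmono : ∀ a b : P, a < b → d a < d b) {a b : P} :
    cod a b ≤ ((d b - d a).toNat : ℕ∞) := by
  apply cod_le
  intro s h1 h2
  have h3 := length_le_of_mono d hmono s.length s rfl
  have h4 : d s.last ≤ d b := by
    rcases eq_or_lt_of_le h2 with h | h
    · rw [h]
    · exact (hmono _ _ h).le
  rw [h1] at h3
  have : s.length ≤ (d b - d a).toNat := by omega
  exact_mod_cast this

lemma cod_ne_top_of_mono (hmono : ∀ a b : P, a < b → d a < d b) {a b : P} : cod a b ≠ ⊤ :=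
  ne_top_of_le_ne_top (ENat.coe_ne_top _) (cod_le_of_mono hmono)

lemma cod_eq_of_dimfun (hmono : ∀ a b : P, a < b → d a < d b)
    (hcov : ∀ a b : P, a ⋖ b → d b = d a + 1) {a b : P} (hab : a ≤ b) :
    cod a b = ((d b - d a).toNat : ℕ∞) := by
  obtain ⟨s, h1, h2, h3, h4⟩ := exists_max hab (cod_ne_top_of_mono hmono)
  have := length_eq_of_sat d hcov s.length s rfl h3
  rw [h1, h2] at this
  rw [← h4]
  have : s.length = (d b - d a).toNat := by omega
  rw [this]

theorem catenary_of_dimfun (hmono : ∀ a b : P, a < b → d a < d b)
    (hcov : ∀ a b : P, a ⋖ b → d b = d a + 1) :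
    ∀ a b : P, a ≤ b → cod a b ≠ ⊤ ∧
      ∀ s : LTSeries P, s.head = a → s.last = b → Sat s → (s.length : ℕ∞) = cod a b := by
  intro a b hab
  refine ⟨cod_ne_top_of_mono hmono, fun s h1 h2 h3 => ?_⟩
  rw [cod_eq_of_dimfun hmono hcov hab]
  have := length_eq_of_sat d hcov s.length s rfl h3
  rw [h1, h2] at this
  have : s.length = (d b - d a).toNat := by omega
  rw [this]

end Groth.Agent.Lib.Helper26.CatOrder
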