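import Mathlib
import Groth.Prelude.Def_Found

namespace Groth.Agent.Lib.Helper26.N2Local

universe u

set_option linter.unusedSectionVars false
set_option linter.style.haveILetI false

section Loc

lemma exists_finset_of_localized {R : Type*} [CommRing R] (S : Submonoid R) (Rₚ : Type*)
    [CommRing Rₚ] [Algebra R Rₚ] [IsLocalization S Rₚ] {M Mₚ : Type*} [AddCommGroup M]
    [Module R M] [AddCommGroup Mₚ] [Module R Mₚ] [Module Rₚ Mₚ] [IsScalarTower R Rₚ Mₚ]
    (f : M →ₗ[R] Mₚ) [IsLocalizedModule S f] (H : Module.Finite Rₚ Mₚ) :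
    ∃ s : Finset M, ∀ x : M, ∃ t : S, t • x ∈ Submodule.span R (s : Set M) := by
  classical
  obtain ⟨s₁, hs₁⟩ := H.1
  refine ⟨IsLocalizedModule.finsetIntegerMultiple S f s₁, fun x => ?_⟩
  obtain ⟨t₁, ht₁⟩ := multiple_mem_span_of_mem_localization_span S Rₚ
    (s₁ : Set Mₚ) (IsLocalizedModule.mk' f x (1 : S)) (by rw [hs₁]; trivial)
  rw [Submonoid.smul_def, ← IsLocalizedModule.mk'_smul, IsLocalizedModule.mk'_one] at ht₁
  obtain ⟨t₂, ht₂⟩ := IsLocalizedModule.smul_mem_finsetIntegerMultiple_span S f _ s₁ ht₁
  refine ⟨t₂ * t₁, ?_⟩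
  rw [Submonoid.smul_def] at ht₂ ⊢
  rw [Submonoid.coe_mul, mul_smul]
  exact ht₂

end Loc

section One

variable (R : Type u) [CommRing R] [IsDomain R] (f : R) (Rf : Type u) [CommRing Rf] [IsDomain Rf]
  [Algebra R Rf] [IsLocalization.Away f Rf]
  (L : Type u) [Field L] [Algebra R L] [Algebra (FractionRing R) L]
  [IsScalarTower R (FractionRing R) L]

include Rf in
omit [IsDomain R] [Algebra (FractionRing R) L] [IsScalarTower R (FractionRing R) L] in
lemma f_ne_zero : f ≠ 0 := by
  rintro rfl
  have h0 : IsUnit (algebraMap R Rf 0) := IsLocalization.Away.algebraMap_isUnit (S := Rf) (0 : R)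
  rw [map_zero] at h0
  exact not_isUnit_zero h0

lemma algebraMap_injective : Function.Injective (algebraMap R L) := by
  rw [IsScalarTower.algebraMap_eq R (FractionRing R) L]
  exact (algebraMap (FractionRing R) L).injective.comp (IsFractionRing.injective R (FractionRing R))

include Rf in
lemma unit_f : IsUnit (algebraMap R L f) := by
  rw [isUnit_iff_ne_zero]
  intro h
  exact f_ne_zero R f Rf ((algebraMap_injective R L) (by rw [h, map_zero]))

/-- `Rf → L`. -/
noncomputable def toL : Rf →+* L :=
  IsLocalization.Away.lift f (g := algebraMap R L) (unit_f R f Rf L)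

lemma toL_algebraMap (r : R) : toL R f Rf L (algebraMap R Rf r) = algebraMap R L r :=
  IsLocalization.Away.lift_eq f (unit_f R f Rf L) r

lemma toL_injective : Function.Injective (toL R f Rf L) := by
  rw [injective_iff_map_eq_zero]
  intro x hx
  obtain ⟨⟨a, s⟩, hs⟩ := IsLocalization.surj (Submonoid.powers f) x
  simp only at hs
  have h1 : toL R f Rf L (x * algebraMap R Rf s) = 0 := by rw [map_mul, hx, zero_mul]
  rw [hs, toL_algebraMap] at h1
  have ha : a = 0 := algebraMap_injective R L (by rw [h1, map_zero])
  rw [ha, map_zero] at hs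
  have hsu : IsUnit (algebraMap R Rf s) := IsLocalization.map_units Rf s
  exact (hsu.mul_left_eq_zero).mp hs

lemma algebraMap_eq_toL [Algebra Rf L] [IsScalarTower R Rf L] :
    algebraMap Rf L = toL R f Rf L := by
  apply IsLocalization.ringHom_ext (Submonoid.powers f)
  ext r
  rw [RingHom.comp_apply, RingHom.comp_apply, toL_algebraMap, ← IsScalarTower.algebraMap_apply]

include f in
theorem finite_intCl (h : CAlg.IsN2 Rf) [Algebra Rf L] [IsScalarTower R Rf L]
    (hfin : FiniteDimensional (FractionRing R) L) : Module.Finite Rf (integralClosure Rf L) := by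
  have hinj : Function.Injective (algebraMap Rf L) := by
    rw [algebraMap_eq_toL R f Rf L]
    exact toL_injective R f Rf L
  haveI : FaithfulSMul Rf L := (faithfulSMul_iff_algebraMap_injective Rf L).mpr hinj
  letI := FractionRing.liftAlgebra Rf L
  haveI : IsScalarTower Rf (FractionRing Rf) L := FractionRing.isScalarTower_liftAlgebra Rf L
  have hinjR : Function.Injective (algebraMap R Rf) := by
    intro a b hab
    apply algebraMap_injective R L
    rw [IsScalarTower.algebraMap_apply R Rf L, IsScalarTower.algebraMap_apply R Rf L, hab]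
  have hinj2 : Function.Injective ((algebraMap Rf (FractionRing Rf)).comp (algebraMap R Rf)) :=
    (IsFractionRing.injective Rf (FractionRing Rf)).comp hinjR
  letI : Algebra (FractionRing R) (FractionRing Rf) := (IsFractionRing.lift hinj2).toAlgebra
  haveI : IsScalarTower (FractionRing R) (FractionRing Rf) L := by
    apply IsScalarTower.of_algebraMap_eq'
    apply IsLocalization.ringHom_ext (nonZeroDivisors R)
    ext r
    rw [RingHom.comp_apply, RingHom.comp_apply, RingHom.comp_apply]
    have h1 : algebraMap (FractionRing R) (FractionRing Rf) (algebraMap R (FractionRing R) r) =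
        algebraMap Rf (FractionRing Rf) (algebraMap R Rf r) :=
      IsFractionRing.lift_algebraMap hinj2 r
    rw [h1, ← IsScalarTower.algebraMap_apply Rf (FractionRing Rf) L,
      ← IsScalarTower.algebraMap_apply R Rf L, ← IsScalarTower.algebraMap_apply R (FractionRing R) L]
  haveI : FiniteDimensional (FractionRing Rf) L :=
    Module.Finite.of_restrictScalars_finite (FractionRing R) (FractionRing Rf) L
  exact h L inferInstance

/-- inclusion of integral closures. -/
noncomputable def inclHom [Algebra Rf L] [IsScalarTower R Rf L] :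
    integralClosure R L →+* integralClosure Rf L where
  toFun x := ⟨x.1, x.2.tower_top⟩
  map_one' := rfl
  map_mul' _ _ := rfl
  map_zero' := rfl
  map_add' _ _ := rfl

/-- inclusion of integral closures, as a linear map. -/
noncomputable def inclLin [Algebra Rf L] [IsScalarTower R Rf L] :
    integralClosure R L →ₗ[R] integralClosure Rf L where
  toFun x := ⟨x.1, x.2.tower_top⟩
  map_add' _ _ := rfl
  map_smul' r x := by
    apply Subtype.ext
    rfl

include f in
lemma isLocalizedModule_inclLin [Algebra Rf L] [IsScalarTower R Rf L] :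
    IsLocalizedModule (Submonoid.powers f) (inclLin R Rf L) where
  map_units := fun s => by
    obtain ⟨u, hu⟩ := IsLocalization.map_units Rf s
    rw [Module.End.isUnit_iff]
    constructor
    · intro a b hab
      simp only [Module.algebraMap_end_apply] at hab
      rw [← algebraMap_smul Rf (s : R) a, ← algebraMap_smul Rf (s : R) b, ← hu] at hab
      have := congrArg (fun z => (↑u⁻¹ : Rf) • z) hab
      simpa [smul_smul] using this
    · intro b
      refine ⟨(↑u⁻¹ : Rf) • b, ?_⟩
      simp only [Module.algebraMap_end_apply]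
      rw [← algebraMap_smul Rf (s : R), ← hu, smul_smul, Units.mul_inv, one_smul]
  surj := fun y => by
    obtain ⟨m, hm⟩ := IsIntegral.exists_multiple_integral_of_isLocalization
      (Submonoid.powers f) (Rₘ := Rf) y.1 y.2
    exact ⟨(⟨m • y.1, hm⟩, m), Subtype.ext rfl⟩
  exists_of_eq := fun {x x'} h => ⟨1, by
    rw [one_smul, one_smul]
    exact Subtype.ext (congrArg (fun z : integralClosure Rf L => (z : L)) h)⟩

include f in
theorem exists_finset (h : CAlg.IsN2 Rf) [Algebra Rf L] [IsScalarTower R Rf L]
    (hfin : FiniteDimensional (FractionRing R) L) :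
    ∃ s : Finset (integralClosure R L), ∀ x : integralClosure R L,
      ∃ n : ℕ, f ^ n • x ∈ Submodule.span R (s : Set (integralClosure R L)) := by
  haveI := isLocalizedModule_inclLin R f Rf L
  have hfin' := finite_intCl R f Rf L h hfin
  obtain ⟨s, hs⟩ := exists_finset_of_localized (Submonoid.powers f) Rf (inclLin R Rf L) hfin'
  refine ⟨s, fun x => ?_⟩
  obtain ⟨⟨_, n, rfl⟩, ht⟩ := hs x
  exact ⟨n, ht⟩

end One


theorem main (R : Type u) [CommRing R] [IsDomain R]
    {ι : Type u} [Finite ι] (f : ι → R) (hf : Ideal.span (Set.range f) = ⊤)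
    (Rf : ι → Type u) [∀ i, CommRing (Rf i)] [∀ i, IsDomain (Rf i)] [∀ i, Algebra R (Rf i)]
    [∀ i, IsLocalization.Away (f i) (Rf i)] (h : ∀ i, CAlg.IsN2 (Rf i)) : CAlg.IsN2 R := by
  intro L _ _ _ _ hfin
  classical
  cases nonempty_fintype ι
  have key : ∀ i, ∃ s : Finset (integralClosure R L), ∀ x : integralClosure R L,
      ∃ n : ℕ, f i ^ n • x ∈ Submodule.span R (s : Set (integralClosure R L)) := by
    intro i
    letI : Algebra (Rf i) L := (toL R (f i) (Rf i) L).toAlgebra
    haveI : IsScalarTower R (Rf i) L :=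
      IsScalarTower.of_algebraMap_eq (fun r => (toL_algebraMap R (f i) (Rf i) L r).symm)
    exact exists_finset R (f i) (Rf i) L (h i) hfin
  choose s hs using key
  refine ⟨⟨Finset.univ.biUnion s, ?_⟩⟩
  rw [eq_top_iff]
  rintro x -
  refine Submodule.mem_of_span_eq_top_of_smul_pow_mem _ (Set.range f) hf x ?_
  rintro ⟨_, i, rfl⟩
  obtain ⟨n, hn⟩ := hs i x
  refine ⟨n, Submodule.span_mono ?_ hn⟩
  intro y hy
  simp only [Finset.coe_biUnion, Finset.coe_univ, Set.mem_univ, Set.iUnion_true, Set.mem_iUnion]
  exact ⟨i, hy⟩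

end Groth.Agent.Lib.Helper26.N2Local
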