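import Groth.Prelude.Def_Found
import Mathlib

/-!
Universally Japanese from N-1 for all finite type domains.
-/

set_option autoImplicit false
universe u

namespace Groth.Agent.Lib.Helper26.JapaneseN1

open scoped nonZeroDivisors

variable {S : Type u} [CommRing S] [IsDomain S] {L : Type u} [Field L] [Algebra S L]
  [Algebra (FractionRing S) L] [IsScalarTower S (FractionRing S) L]
  [FiniteDimensional (FractionRing S) L]

/-- a subalgebra containing a basis of `L` over `Frac S` has fraction field `L` -/
lemma isFractionRing_of_basis {ι : Type*} [Fintype ι] (b : Module.Basis ι (FractionRing S) L)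
    (S' : Subalgebra S L) (hb : ∀ i, b i ∈ S') : IsFractionRing S' L := by
  classical
  haveI : FaithfulSMul S' L := by
    rw [faithfulSMul_iff_algebraMap_injective]
    exact Subtype.val_injective
  apply IsFractionRing.of_field
  intro z
  obtain ⟨d, hd⟩ := IsLocalization.exist_integer_multiples (S⁰) (Finset.univ : Finset ι)
    (fun i => b.repr z i)
  have hint : ∀ i, ∃ a : S, algebraMap S (FractionRing S) a = (d : S) • b.repr z i :=
    fun i => hd i (Finset.mem_univ i)
  choose a ha using hint
  have hd0 : (d : S) ≠ 0 := nonZeroDivisors.coe_ne_zero d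
  have hdL : algebraMap S L (d : S) ≠ 0 := by
    rw [IsScalarTower.algebraMap_apply S (FractionRing S) L]
    intro h
    have h1 := (map_eq_zero _).1 h
    exact hd0 ((IsFractionRing.injective S (FractionRing S)) (by rw [h1, map_zero]))
  have hz : (d : S) • z = ∑ i, a i • b i := by
    conv_lhs => rw [← b.sum_repr z]
    rw [Finset.smul_sum]
    refine Finset.sum_congr rfl fun i _ => ?_
    rw [← smul_assoc, ← ha i, algebraMap_smul]
  have hmem : ∑ i, a i • b i ∈ S' := Subalgebra.sum_mem _ fun i _ => Subalgebra.smul_mem _ (hb i) _
  refine ⟨⟨_, hmem⟩, algebraMap S S' (d : S), ?_⟩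
  show z = (∑ i, a i • b i) / algebraMap S L (d : S)
  rw [← hz, Algebra.smul_def, mul_div_assoc, mul_comm, div_mul_cancel₀ _ hdL]

end Groth.Agent.Lib.Helper26.JapaneseN1

namespace Groth.Agent.Lib.Helper26.JapaneseN1

/-- transport of finiteness of the integral closure along an algebra isomorphism -/
theorem finite_integralClosure_of_algEquiv {T A B : Type*} [CommRing T] [CommRing A] [CommRing B]
    [Algebra T A] [Algebra T B] (e : A ≃ₐ[T] B) (h : Module.Finite T (integralClosure T A)) :
    Module.Finite T (integralClosure T B) := by
  let f : (integralClosure T A) ≃ₗ[T] (integralClosure T B) :=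
    { toFun := fun x => ⟨e x.1, IsIntegral.map (e : A →ₐ[T] B) x.2⟩
      invFun := fun y => ⟨e.symm y.1, IsIntegral.map (e.symm : B →ₐ[T] A) y.2⟩
      map_add' := fun x y => Subtype.ext (map_add e x.1 y.1)
      map_smul' := fun c x => Subtype.ext (map_smul e c x.1)
      left_inv := fun x => Subtype.ext (e.symm_apply_apply x.1)
      right_inv := fun y => Subtype.ext (e.apply_symm_apply y.1) }
  exact Module.Finite.equiv f

/-- integral closure of `S` in `L` agrees with that of an integral extension `T` -/
theorem finite_integralClosure_of_tower (S T L : Type*) [CommRing S] [CommRing T] [CommRing L]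
    [Algebra S T] [Algebra T L] [Algebra S L] [IsScalarTower S T L]
    [Module.Finite S T] (h : Module.Finite T (integralClosure T L)) :
    Module.Finite S (integralClosure S L) := by
  haveI : Algebra.IsIntegral S T := inferInstance
  have hC : ∀ x : L, IsIntegral T x ↔ IsIntegral S x := by
    intro x
    constructor
    · intro hx
      exact isIntegral_trans x hx
    · intro hx
      exact hx.tower_top
  haveI := h
  haveI : Module.Finite S (integralClosure T L) := Module.Finite.trans T _
  let f : (integralClosure T L) ≃ₗ[S] (integralClosure S L) :=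
    { toFun := fun x => ⟨x.1, (hC x.1).1 x.2⟩
      invFun := fun x => ⟨x.1, (hC x.1).2 x.2⟩
      map_add' := fun _ _ => rfl
      map_smul' := fun _ _ => rfl
      left_inv := fun _ => rfl
      right_inv := fun _ => rfl }
  exact Module.Finite.equiv f

/-- generic step: `T` finite over `S` with fraction field `L`, `T` N-1 ⇒ integral closure of `S` in
`L` is finite over `S`. -/
theorem finite_of_tower (S : Type u) [CommRing S] (T : Type u) [CommRing T] [IsDomain T]
    (L : Type u) [Field L] [Algebra S T] [Algebra T L] [Algebra S L] [IsScalarTower S T L]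
    [Module.Finite S T] [IsFractionRing T L] (hN1 : CAlg.IsN1 T) :
    Module.Finite S (integralClosure S L) :=
  finite_integralClosure_of_tower S T L
    (finite_integralClosure_of_algEquiv (FractionRing.algEquiv T L) hN1)

theorem step (R : Type u) [CommRing R]
    (h : ∀ (S : Type u) [CommRing S] [IsDomain S] [Algebra R S],
      Algebra.FiniteType R S → CAlg.IsN1 S)
    (S : Type u) [CommRing S] [Algebra R S] (hS : Algebra.FiniteType R S)
    (T : Type u) [CommRing T] [IsDomain T]
    (L : Type u) [Field L] [Algebra S T] [Algebra T L] [Algebra S L] [IsScalarTower S T L]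
    [Module.Finite S T] [IsFractionRing T L] :
    Module.Finite S (integralClosure S L) := by
  letI : Algebra R T := ((algebraMap S T).comp (algebraMap R S)).toAlgebra
  haveI : IsScalarTower R S T := IsScalarTower.of_algebraMap_eq (fun _ => rfl)
  have hft' : Algebra.FiniteType S T := inferInstance
  have hft : Algebra.FiniteType R T := Algebra.FiniteType.trans hS hft'
  exact finite_of_tower S T L (h T hft)

theorem main (R : Type u) [CommRing R]
    (h : ∀ (S : Type u) [CommRing S] [IsDomain S] [Algebra R S],
      Algebra.FiniteType R S → CAlg.IsN1 S) :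
    CAlg.IsUniversallyJapanese R := by
  intro S _ _ _ hS L _ _ _ _ hfd
  classical
  haveI : FiniteDimensional (FractionRing S) L := hfd
  obtain ⟨s, b, hb⟩ := FiniteDimensional.exists_is_basis_integral S (FractionRing S) L
  let S' : Subalgebra S L := Algebra.adjoin S (Set.range b)
  haveI hfin : Module.Finite S S' :=
    Algebra.finite_adjoin_of_finite_of_isIntegral (Set.finite_range b)
      (by rintro _ ⟨i, rfl⟩; exact hb i)
  haveI : IsFractionRing S' L :=
    isFractionRing_of_basis b S' (fun i => Algebra.subset_adjoin ⟨i, rfl⟩)
  exact step R h S hS S' L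

end Groth.Agent.Lib.Helper26.JapaneseN1
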