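import Mathlib
import Groth.Prelude.Def_Found

namespace Groth.Agent.Lib.Helper26.DedekindNagata

universe u

set_option linter.unusedSectionVars false
set_option linter.style.haveILetI false

/-- A Noetherian integrally closed domain of characteristic zero is N-2. -/
theorem n2_of_normal_charZero (D : Type u) [CommRing D] [IsDomain D] [IsNoetherianRing D]
    [IsIntegrallyClosed D] [CharZero D] : CAlg.IsN2 D := by
  intro L _ _ _ _ hfin
  haveI : Algebra.IsSeparable (FractionRing D) L := inferInstance
  exact IsIntegralClosure.finite D (FractionRing D) L (integralClosure D L)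

/-- A field is N-2. -/
theorem n2_of_isField (D : Type u) [CommRing D] [IsDomain D] (hD : IsField D) : CAlg.IsN2 D := by
  intro L _ _ _ _ hfin
  letI := hD.toField
  have hsurj : Function.Surjective (algebraMap D (FractionRing D)) :=
    (IsFractionRing.surjective_iff_isField (R := D) (K := FractionRing D)).mpr hD
  haveI : Module.Finite D (FractionRing D) :=
    Module.Finite.of_surjective (Algebra.linearMap D (FractionRing D)) hsurj
  haveI : Module.Finite D L := Module.Finite.trans (FractionRing D) L
  haveI : IsNoetherian D L := isNoetherian_of_isNoetherianRing_of_finite D L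
  exact Module.IsNoetherian.finite D _

theorem main (A : Type u) [CommRing A] [IsDedekindDomain A] [CharZero A] : CAlg.IsNagata A := by
  refine ⟨inferInstance, fun p hp => ?_⟩
  by_cases hbot : p = ⊥
  · subst hbot
    let e : A ≃+* (A ⧸ (⊥ : Ideal A)) := (RingEquiv.quotientBot A).symm
    haveI : IsIntegrallyClosed (A ⧸ (⊥ : Ideal A)) := IsIntegrallyClosed.of_equiv e
    haveI : CharZero (A ⧸ (⊥ : Ideal A)) := charZero_of_injective_ringHom (f := e.toRingHom) e.injective
    exact n2_of_normal_charZero _
  · haveI : p.IsMaximal := hp.isMaximal hbot
    exact n2_of_isField _ ((Ideal.Quotient.maximal_ideal_iff_isField_quotient p).mp inferInstance)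

end Groth.Agent.Lib.Helper26.DedekindNagata
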