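import Mathlib
import Groth.Prelude.Def_Found
import Groth.Agent.S9392

namespace Groth.Agent.Lib.Helper26.NagataLoc

universe u

set_option linter.unusedSectionVars false
set_option linter.style.haveILetI false

theorem main (A : Type u) [CommRing A] (hA : CAlg.IsNagata A) (S : Submonoid A) :
    CAlg.IsNagata (Localization S) := by
  haveI := hA.1
  refine ⟨IsLocalization.isNoetherianRing S (Localization S) inferInstance, ?_⟩
  intro P hP
  have hPeq := IsLocalization.map_comap S (Localization S) P
  have hp : (P.comap (algebraMap A (Localization S))).IsPrime := Ideal.comap_isPrime _ P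
  obtain ⟨p, hp, hPeq⟩ : ∃ p : Ideal A, p.IsPrime ∧
      p.map (algebraMap A (Localization S)) = P := ⟨_, hp, hPeq⟩
  subst hPeq
  exact Groth.Agent.S9392.result (A ⧸ p) (Algebra.algebraMapSubmonoid (A ⧸ p) S)
    (Localization S ⧸ p.map (algebraMap A (Localization S))) (hA.2 p)

end Groth.Agent.Lib.Helper26.NagataLoc
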