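import Mathlib

namespace Groth.Agent.Lib.Helper26.DimFormulaPoly

open Polynomial Ideal

universe u
variable {A : Type u} [CommRing A]

/-- The fibre of `Spec A[X] → Spec A` has Krull dimension `≤ 1`. -/
lemma fibre_dim (p : PrimeSpectrum A) :
    Order.krullDim ↑(PrimeSpectrum.comap (C : A →+* A[X]) ⁻¹' {p}) ≤ 1 := by
  rw [show C = (algebraMap A (Polynomial A)) from rfl, Order.krullDim_eq_of_orderIso
      (PrimeSpectrum.preimageOrderIsoFiber A (Polynomial A) p), ← ringKrullDim,
      ← ringKrullDim_eq_of_ringEquiv (polyEquivTensor A (p.asIdeal.ResidueField)).toRingEquiv]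
  have : Ring.KrullDimLE 1 (p.asIdeal.ResidueField)[X] := inferInstance
  exact_mod_cast Ring.krullDimLE_iff.mp this

lemma no_three (p : PrimeSpectrum A) (a b c : PrimeSpectrum A[X])
    (ha : PrimeSpectrum.comap (C : A →+* A[X]) a = p)
    (hb : PrimeSpectrum.comap (C : A →+* A[X]) b = p)
    (hc : PrimeSpectrum.comap (C : A →+* A[X]) c = p) (hab : a < b) (hbc : b < c) : False := by
  let a' : ↑(PrimeSpectrum.comap (C : A →+* A[X]) ⁻¹' {p}) := ⟨a, ha⟩
  let b' : ↑(PrimeSpectrum.comap (C : A →+* A[X]) ⁻¹' {p}) := ⟨b, hb⟩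
  let c' : ↑(PrimeSpectrum.comap (C : A →+* A[X]) ⁻¹' {p}) := ⟨c, hc⟩
  have hab' : a' < b' := hab
  have hbc' : b' < c' := hbc
  let l : LTSeries ↑(PrimeSpectrum.comap (C : A →+* A[X]) ⁻¹' {p}) :=
    LTSeries.mk 2 (fun i => ![a', b', c'] i) (by
      rw [Fin.strictMono_iff_lt_succ]
      intro i
      fin_cases i
      · exact hab'
      · exact hbc')
  have h1 := (Order.LTSeries.length_le_krullDim l).trans (fibre_dim p)
  have h2 : l.length = 2 := rfl
  rw [h2] at h1
  norm_cast at h1

lemma under_map_C (p : Ideal A) : (p.map (C : A →+* A[X])).comap C = p := by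
  ext a
  rw [Ideal.mem_comap, Ideal.mem_map_C_iff]
  constructor
  · intro h
    simpa using h 0
  · intro h n
    rw [coeff_C]
    split_ifs
    · exact h
    · exact zero_mem _

/-- `(A/p)[X] ≃ₐ[A/p] A[X]/p[X]`. -/
noncomputable def quotEquiv (p : Ideal A) [p.IsPrime] [(p.map (C : A →+* A[X])).LiesOver p] :
    (A ⧸ p)[X] ≃ₐ[A ⧸ p] (A[X] ⧸ p.map (C : A →+* A[X])) :=
  AlgEquiv.ofRingEquiv (f := Ideal.polynomialQuotientEquivQuotientPolynomial p) (by
    intro r
    obtain ⟨a, rfl⟩ := Ideal.Quotient.mk_surjective r
    rw [Ideal.Quotient.algebraMap_mk_of_liesOver, Polynomial.algebraMap_apply,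
      Algebra.algebraMap_self, RingHom.id_apply, ← Polynomial.map_C,
      Ideal.polynomialQuotientEquivQuotientPolynomial_map_mk]
    rfl)

theorem main [IsNoetherianRing A] (p : Ideal A) [p.IsPrime] (q : Ideal A[X]) [q.IsPrime]
    [q.LiesOver p] :
    (p.height : Cardinal.{u}) + 1 =
      (q.height : Cardinal.{u}) + Algebra.trdeg (A ⧸ p) (A[X] ⧸ q) := by
  have hqp : q.comap (C : A →+* A[X]) = p := (Ideal.LiesOver.over (P := q) (p := p)).symm
  have hPq : p.map (C : A →+* A[X]) ≤ q := by
    rw [Ideal.map_le_iff_le_comap, hqp]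
  have hht := Ideal.height_eq_height_add_of_liesOver_of_hasGoingDown p q
  have hPprime : (p.map (C : A →+* A[X])).IsPrime :=
    (Ideal.isPrime_map_C_iff_isPrime p).mpr inferInstance
  by_cases hq : q = p.map (C : A →+* A[X])
  · subst hq
    have h0 : ((p.map (C : A →+* A[X])).map
        (Ideal.Quotient.mk (p.map (algebraMap A A[X])))) = ⊥ :=
      Ideal.map_quotient_self _
    rw [h0, Ideal.height_bot, add_zero] at hht
    have htr : Algebra.trdeg (A ⧸ p) (A[X] ⧸ p.map (C : A →+* A[X])) = 1 := by
      rw [← (quotEquiv p).trdeg_eq, Polynomial.trdeg_of_isDomain]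
    rw [hht, htr]
  · have hqbar : (q.map (Ideal.Quotient.mk (p.map (algebraMap A A[X])))).IsPrime := by
      apply Ideal.map_isPrime_of_surjective Ideal.Quotient.mk_surjective
      rw [Ideal.mk_ker]
      exact hPq
    have hcm : (q.map (Ideal.Quotient.mk (p.map (algebraMap A A[X])))).comap
        (Ideal.Quotient.mk (p.map (algebraMap A A[X]))) = q := by
      rw [Ideal.comap_map_of_surjective _ Ideal.Quotient.mk_surjective, ← RingHom.ker_eq_comap_bot,
        Ideal.mk_ker]
      exact sup_eq_left.mpr hPq
    have hne : q.map (Ideal.Quotient.mk (p.map (algebraMap A A[X]))) ≠ ⊥ := by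
      intro h
      apply hq
      apply le_antisymm _ hPq
      rw [← hcm, h, ← RingHom.ker_eq_comap_bot, Ideal.mk_ker]
      rfl
    have h1 : (q.map (Ideal.Quotient.mk (p.map (algebraMap A A[X])))).height = 1 := by
      apply le_antisymm
      · have := (Ideal.height_le_iff (p := q.map (Ideal.Quotient.mk (p.map (algebraMap A A[X]))))
          (n := 1)).mpr ?_
        · exact_mod_cast this
        intro r hr hrq
        suffices hrb : r = ⊥ by
          rw [hrb, Ideal.height_bot]; norm_num
        by_contra hrb
        -- pull back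
        have hr'prime : (r.comap (Ideal.Quotient.mk (p.map (algebraMap A A[X])))).IsPrime :=
          Ideal.comap_isPrime _ _
        have hPr : p.map (C : A →+* A[X]) < r.comap (Ideal.Quotient.mk (p.map (algebraMap A A[X]))) := by
          refine lt_of_le_of_ne ?_ ?_
          · intro x hx
            have h0 : Ideal.Quotient.mk (p.map (algebraMap A A[X])) x = 0 :=
              Ideal.Quotient.eq_zero_iff_mem.mpr hx
            rw [Ideal.mem_comap, h0]
            exact zero_mem _
          · intro h
            apply hrb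
            rw [← Ideal.map_comap_of_surjective _ Ideal.Quotient.mk_surjective r, ← h]
            exact Ideal.map_quotient_self _
        have hrq' : r.comap (Ideal.Quotient.mk (p.map (algebraMap A A[X]))) < q := by
          rw [← hcm]
          refine lt_of_le_of_ne (Ideal.comap_mono hrq.le) ?_
          intro h
          exact hrq.ne (Ideal.comap_injective_of_surjective _ Ideal.Quotient.mk_surjective h)
        have hrp : (r.comap (Ideal.Quotient.mk (p.map (algebraMap A A[X])))).comap
            (C : A →+* A[X]) = p := by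
          apply le_antisymm
          · exact (Ideal.comap_mono hrq'.le).trans hqp.le
          · exact (under_map_C p).ge.trans (Ideal.comap_mono hPr.le)
        exact no_three ⟨p, inferInstance⟩ ⟨_, hPprime⟩ ⟨_, hr'prime⟩ ⟨q, inferInstance⟩
          (PrimeSpectrum.ext (under_map_C p)) (PrimeSpectrum.ext hrp) (PrimeSpectrum.ext hqp)
          hPr hrq'
      · rw [ENat.one_le_iff_ne_zero]
        intro h
        haveI : IsDomain (A[X] ⧸ p.map (algebraMap A A[X])) :=
          (Ideal.Quotient.isDomain_iff_prime _).mpr hPprime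
        exact hne (Ideal.height_eq_zero_iff_eq_bot.mp h)
    have htr : Algebra.trdeg (A ⧸ p) (A[X] ⧸ q) = 0 := by
      rw [trdeg_eq_zero_iff]
      obtain ⟨f, hfq, hfP⟩ := SetLike.not_le_iff_exists.mp
        (fun h : q ≤ p.map (C : A →+* A[X]) => hq (le_antisymm h hPq))
      have hev : ∀ g : A[X], Polynomial.aeval (Ideal.Quotient.mk q X)
          (g.map (Ideal.Quotient.mk p)) = Ideal.Quotient.mk q g := by
        intro g
        rw [Polynomial.aeval_def, Polynomial.eval₂_map]
        have : (algebraMap (A ⧸ p) (A[X] ⧸ q)).comp (Ideal.Quotient.mk p) =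
            (Ideal.Quotient.mk q).comp C := by
          ext a
          rfl
        rw [this, ← Polynomial.hom_eval₂, Polynomial.eval₂_C_X]
      have halg : IsAlgebraic (A ⧸ p) (Ideal.Quotient.mk q X) := by
        refine ⟨f.map (Ideal.Quotient.mk p), ?_, ?_⟩
        · intro h0
          apply hfP
          rw [Ideal.mem_map_C_iff]
          intro n
          have := congrArg (fun g => Polynomial.coeff g n) h0
          simpa [Ideal.Quotient.eq_zero_iff_mem] using this
        · rw [hev, Ideal.Quotient.eq_zero_iff_mem]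
          exact hfq
      have hadj : (Algebra.adjoin (A ⧸ p) {Ideal.Quotient.mk q X}).IsAlgebraic :=
        Algebra.isAlgebraic_adjoin_singleton_iff.mpr halg
      constructor
      intro y
      obtain ⟨g, rfl⟩ := Ideal.Quotient.mk_surjective y
      apply hadj
      have hmem := Polynomial.aeval_mem_adjoin_singleton (A ⧸ p) (Ideal.Quotient.mk q X)
        (p := g.map (Ideal.Quotient.mk p))
      rwa [hev g] at hmem
    rw [hht, h1, htr]
    push_cast
    simp

end Groth.Agent.Lib.Helper26.DimFormulaPoly
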