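import Mathlib
import Groth.Prelude.Def_Flatn

set_option maxHeartbeats 400000

open CategoryTheory AlgebraicGeometry Limits Opposite

namespace Groth.Agent.Lib.Helper26.MorSchBC

universe u v

section general
variable {C : Type*} [Category C] {D : Type*} [Category D]

/-- If `F` is represented by `M` and `L ⊣ R`, then `L.op ⋙ F` is represented by `R.obj M`. -/
noncomputable def reprOfAdj {C : Type u} [Category.{v} C] {D : Type u} [Category.{v} D]
    {L : D ⥤ C} {R : C ⥤ D} (adj : L ⊣ R)
    {F : Cᵒᵖ ⥤ Type v} {M : C} (e : F.RepresentableBy M) :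
    (L.op ⋙ F).RepresentableBy (R.obj M) :=
  (adj.representableBy M).ofIso (Functor.isoWhiskerLeft L.op e.toIso)

end general

section BC
variable {C : Type u} [Category.{v} C] [HasPullbacks C]
variable {X S S' : C} (gX : X ⟶ S) (h : S' ⟶ S)

/-- The component iso `T' ×_{S'} X' ≅ T' ×_S X`. -/
noncomputable def θ (T' : Over S') :
    pullback T'.hom (pullback.snd gX h) ≅ pullback (T'.hom ≫ h) gX :=
  ((IsPullback.of_hasPullback T'.hom (pullback.snd gX h)).flip.paste_horiz
    (IsPullback.of_hasPullback gX h)).flip.isoPullback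

@[reassoc (attr := simp)]
lemma θ_hom_fst (T' : Over S') : (θ gX h T').hom ≫ pullback.fst _ _ = pullback.fst _ _ := by
  simp [θ]

@[reassoc (attr := simp)]
lemma θ_hom_snd (T' : Over S') : (θ gX h T').hom ≫ pullback.snd _ _ =
    pullback.snd _ _ ≫ pullback.fst gX h := by
  simp [θ]

set_option backward.isDefEq.respectTransparency false in
/-- Beck–Chevalley-type natural isomorphism. -/
noncomputable def β :
    (Over.pullback (pullback.snd gX h) ⋙ Over.map (pullback.snd gX h)) ⋙ Over.map h ≅
      Over.map h ⋙ (Over.pullback gX ⋙ Over.map gX) :=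
  NatIso.ofComponents (fun T' => Over.isoMk (θ gX h T') (by
    simp [pullback.condition])) (by
    intro T₁ T₂ φ
    ext
    simp only [Functor.comp_obj, Over.map_obj_left, Over.pullback_obj_left, Functor.comp_map,
      Over.comp_left, Over.map_map_left, Over.pullback_map_left, Over.isoMk_hom_left]
    apply pullback.hom_ext <;> simp)

end BC

section main
variable {X Y S S' : Scheme.{u}} (gX : X ⟶ S) (gY : Y ⟶ S) (h : S' ⟶ S)

noncomputable def morSIso :
    Flatn.morS (pullback.snd gX h) (pullback.snd gY h) ≅ (Over.map h).op ⋙ Flatn.morS gX gY :=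
  Functor.isoWhiskerLeft (Over.pullback (pullback.snd gX h) ⋙ Over.map (pullback.snd gX h)).op
      ((Over.mapPullbackAdj h).representableBy (Over.mk gY)).toIso ≪≫
    (Functor.associator (Over.pullback (pullback.snd gX h) ⋙ Over.map (pullback.snd gX h)).op
      (Over.map h).op (yoneda.obj (Over.mk gY))).symm ≪≫
    Functor.isoWhiskerRight (NatIso.op (β gX h)).symm (yoneda.obj (Over.mk gY)) ≪≫
    Functor.associator (Over.map h).op (Over.pullback gX ⋙ Over.map gX).op
      (yoneda.obj (Over.mk gY))

theorem main (M : Over S) (e : (Flatn.morS gX gY).RepresentableBy M) :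
    Nonempty ((Flatn.morS (pullback.snd gX h) (pullback.snd gY h)).RepresentableBy
      (Over.mk (pullback.snd M.hom h))) :=
  ⟨(reprOfAdj (Over.mapPullbackAdj h) e).ofIso (morSIso gX gY h).symm⟩

end main

end Groth.Agent.Lib.Helper26.MorSchBC
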