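import Mathlib.AlgebraicGeometry.QuasiAffine
import Mathlib.AlgebraicGeometry.Morphisms.QuasiSeparated
import Mathlib.AlgebraicGeometry.Morphisms.Affine

/-!
Quasi-affine morphisms: locality on the target, base change, composition.
-/

universe u

open CategoryTheory CategoryTheory.Limits AlgebraicGeometry TopologicalSpace

namespace Groth.Agent.Lib.Helper26.QuasiAffine

variable {X Y Z : Scheme.{u}}

lemma isQuasiAffine_of_iso (e : X ≅ Y) [Y.IsQuasiAffine] : X.IsQuasiAffine :=
  Scheme.IsQuasiAffine.of_isAffineHom e.hom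

/-- Key lemma: on a qcqs scheme, an affine basic open of a quasi-affine basic open `X_s`
can be shrunk to an affine basic open of `X` around any of its points. -/
lemma exists_isAffineOpen_basicOpen [CompactSpace X] [QuasiSeparatedSpace X] (s : Γ(X, ⊤))
    [(X.basicOpen s).toScheme.IsQuasiAffine] (x : X) (hx : x ∈ X.basicOpen s) :
    ∃ t : Γ(X, ⊤), IsAffineOpen (X.basicOpen t) ∧ x ∈ X.basicOpen t := by
  set U := X.basicOpen s with hU
  obtain ⟨_, ⟨_, ⟨r, hr, rfl⟩, rfl⟩, hxr, -⟩ :=
    (Scheme.IsQuasiAffine.isBasis_basicOpen U.toScheme).exists_subset_of_mem_open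
      (Set.mem_univ (⟨x, hx⟩ : U)) isOpen_univ
  obtain ⟨n, y, hy⟩ := exists_eq_pow_mul_of_isCompact_of_isQuasiSeparated X ⊤ isCompact_univ
    isQuasiSeparated_univ s (U.topIso.hom r)
  have hunit : IsUnit (s |_ X.basicOpen s) := RingedSpace.isUnit_res_basicOpen _ s
  have key : X.basicOpen (y * s) = U.ι ''ᵁ U.toScheme.basicOpen r := by
    have h1 : X.basicOpen (y |_ X.basicOpen s) = X.basicOpen s ⊓ X.basicOpen y :=
      Scheme.basicOpen_res _ _ _
    rw [hy, Scheme.basicOpen_mul, Scheme.basicOpen_of_isUnit _ (hunit.pow n)] at h1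
    rw [Scheme.basicOpen_mul, inf_comm, ← h1, inf_eq_right.mpr (X.basicOpen_le _),
      Scheme.Opens.ι_image_basicOpen]
    rw [Scheme.Opens.topIso_hom]
    exact Scheme.basicOpen_res_eq _ _ _
  refine ⟨y * s, ?_, ?_⟩
  · rw [key]
    exact hr.image_of_isOpenImmersion U.ι
  · rw [key]
    exact ⟨⟨x, hx⟩, hxr, rfl⟩

/-- A quasi-compact scheme covered by quasi-affine basic opens of global sections is
quasi-affine. -/
lemma isQuasiAffine_of_forall_exists_basicOpen [CompactSpace X]
    (H : ∀ x : X, ∃ s : Γ(X, ⊤), x ∈ X.basicOpen s ∧ (X.basicOpen s).toScheme.IsQuasiAffine) :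
    X.IsQuasiAffine := by
  choose s hxs hs using H
  have : QuasiSeparatedSpace X := by
    refine .of_isOpenCover (U := (X.basicOpen <| s ·))
      (eq_top_iff.mpr fun x _ ↦ Opens.mem_iSup.mpr ⟨x, hxs x⟩)
      (fun _ ↦ isRetrocompact_basicOpen _) (fun x ↦ ?_)
    have := hs x
    exact (isQuasiSeparated_iff_quasiSeparatedSpace _ (X.basicOpen (s x)).isOpen).mpr
      (inferInstanceAs (QuasiSeparatedSpace (X.basicOpen (s x)).toScheme))
  refine Scheme.IsQuasiAffine.of_forall_exists_mem_basicOpen X fun x ↦ ?_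
  have := hs x
  exact exists_isAffineOpen_basicOpen (s x) x (hxs x)

/-- The affine target property underlying quasi-affine morphisms. -/
def QA : AffineTargetMorphismProperty := fun X _ _ _ ↦ X.IsQuasiAffine

lemma QA_iff {X Y : Scheme.{u}} (f : X ⟶ Y) [IsAffine Y] : QA f ↔ X.IsQuasiAffine := Iff.rfl

instance QA_isLocal : QA.IsLocal where
  respectsIso := by
    apply AffineTargetMorphismProperty.respectsIso_mk <;> rintro X Y Z e _ _ H
    · have : Y.IsQuasiAffine := H
      exact isQuasiAffine_of_iso e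
    · exact H
  to_basicOpen {X Y} _ f r H := by
    have : X.IsQuasiAffine := H
    have : CompactSpace (f ⁻¹ᵁ Y.basicOpen r).toScheme := by
      rw [Scheme.preimage_basicOpen f r]
      exact isCompact_iff_compactSpace.mp (isCompact_basicOpen _ isCompact_univ _)
    exact Scheme.IsQuasiAffine.of_isImmersion (f ⁻¹ᵁ Y.basicOpen r).ι
  of_basicOpenCover {X Y} _ f s hs H := by
    have H' : ∀ r : s, (f ⁻¹ᵁ Y.basicOpen r.1).toScheme.IsQuasiAffine := H
    rw [← (isAffineOpen_top _).iSup_basicOpen_eq_self_iff] at hs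
    have hc : CompactSpace X := by
      rw [← isCompact_univ_iff, ← Opens.coe_top, ← f.preimage_top, ← hs, Scheme.Hom.preimage_iSup,
        Opens.iSup_mk, Opens.coe_mk]
      exact isCompact_iUnion fun i => isCompact_iff_compactSpace.mpr (H' i).toCompactSpace
    show X.IsQuasiAffine
    refine isQuasiAffine_of_forall_exists_basicOpen fun x ↦ ?_
    have hx : f x ∈ (⊤ : Y.Opens) := trivial
    rw [← hs, Opens.mem_iSup] at hx
    obtain ⟨r, hr⟩ := hx
    refine ⟨f.appTop r.1, ?_, ?_⟩
    · rw [← Scheme.preimage_basicOpen_top]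
      exact hr
    · rw [← Scheme.preimage_basicOpen_top]
      exact H' r

/-- Quasi-affine morphisms: preimages of affine opens are quasi-affine schemes. -/
def IsQAHom : MorphismProperty Scheme.{u} := targetAffineLocally QA

instance : HasAffineProperty IsQAHom QA := ⟨inferInstance, rfl⟩

lemma isQAHom_iff (f : X ⟶ Y) :
    IsQAHom f ↔ QuasiCompact f ∧
      ∀ V : Y.Opens, IsAffineOpen V → Scheme.IsQuasiAffine (f ⁻¹ᵁ V : Scheme.{u}) := by
  constructor
  · intro h
    have h' : ∀ V : Y.Opens, IsAffineOpen V → Scheme.IsQuasiAffine (f ⁻¹ᵁ V : Scheme.{u}) :=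
      fun V hV ↦ h ⟨V, hV⟩
    refine ⟨?_, h'⟩
    rw [quasiCompact_iff_forall_isAffineOpen]
    intro V hV
    exact isCompact_iff_compactSpace.mpr (h' V hV).toCompactSpace
  · rintro ⟨-, h⟩ ⟨V, hV⟩
    exact h V hV

lemma QA_isStableUnderBaseChange : QA.IsStableUnderBaseChange := by
  apply AffineTargetMorphismProperty.IsStableUnderBaseChange.mk
  intro X Y S _ _ f g hg
  have : Y.IsQuasiAffine := hg
  have : IsAffineHom (pullback.snd f g) := MorphismProperty.pullback_snd f g inferInstance
  exact Scheme.IsQuasiAffine.of_isAffineHom (pullback.snd f g)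

instance : MorphismProperty.IsStableUnderBaseChange IsQAHom.{u} :=
  HasAffineProperty.isStableUnderBaseChange QA_isStableUnderBaseChange

/-- A quasi-compact topological embedding into an affine scheme has quasi-affine source. -/
lemma isQuasiAffine_of_isEmbedding [IsAffine Y] (f : X ⟶ Y) [QuasiCompact f]
    (hf : Topology.IsEmbedding f) : X.IsQuasiAffine := by
  have := QuasiCompact.compactSpace_of_compactSpace f
  refine Scheme.IsQuasiAffine.of_forall_exists_mem_basicOpen X fun x ↦ ?_
  obtain ⟨W, hW, hxW, -⟩ := exists_isAffineOpen_mem_and_subset (x := x) (U := ⊤) trivial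
  obtain ⟨W', hW', hWW'⟩ := hf.isInducing.isOpen_iff.mp W.isOpen
  obtain ⟨g, hg, hxg⟩ := (isAffineOpen_top Y).exists_basicOpen_le
    (V := ⟨W', hW'⟩) ⟨f x, by
      have : x ∈ (W : Set X) := hxW
      rw [← hWW'] at this; exact this⟩ trivial
  have hle : X.basicOpen (f.appTop g) ≤ W := by
    rw [← Scheme.preimage_basicOpen_top]
    intro z hz
    have : f z ∈ W' := hg hz
    show z ∈ (W : Set X)
    rw [← hWW']
    exact this
  refine ⟨f.appTop g, ?_, ?_⟩
  · have h1 : X.basicOpen ((f.appTop g) |_ W) = W ⊓ X.basicOpen (f.appTop g) :=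
      Scheme.basicOpen_res _ _ _
    rw [inf_eq_right.mpr hle] at h1
    rw [← h1]
    exact hW.basicOpen _
  · rw [← Scheme.preimage_basicOpen_top]
    exact hxg

lemma isQAHom_of_isEmbedding (f : X ⟶ Y) [QuasiCompact f] (hf : Topology.IsEmbedding f) :
    IsQAHom f := by
  rintro ⟨V, hV⟩
  have : IsAffine V := hV
  refine isQuasiAffine_of_isEmbedding (f ∣_ V) ?_
  rw [morphismRestrict_base]
  exact hf.restrictPreimage _

lemma isQAHom_of_isAffineHom (f : X ⟶ Y) [IsAffineHom f] : IsQAHom f := by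
  rintro ⟨V, hV⟩
  have : IsAffine (f ⁻¹ᵁ V).toScheme := hV.preimage f
  exact (inferInstance : (f ⁻¹ᵁ V).toScheme.IsQuasiAffine)

lemma isQAHom_iff_of_isAffine [IsAffine Y] (f : X ⟶ Y) : IsQAHom f ↔ X.IsQuasiAffine :=
  HasAffineProperty.iff_of_isAffine (P := IsQAHom)

/-- The source of a quasi-affine morphism to a quasi-affine scheme is quasi-affine. -/
lemma isQuasiAffine_of_isQAHom (f : X ⟶ Y) (hf : IsQAHom f) [Y.IsQuasiAffine] :
    X.IsQuasiAffine := by
  have hqc : QuasiCompact f := ((isQAHom_iff f).mp hf).1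
  have := QuasiCompact.compactSpace_of_compactSpace f
  refine isQuasiAffine_of_forall_exists_basicOpen fun x ↦ ?_
  obtain ⟨_, ⟨_, ⟨r, hr, rfl⟩, rfl⟩, hxr, -⟩ := (Scheme.IsQuasiAffine.isBasis_basicOpen
    Y).exists_subset_of_mem_open (Set.mem_univ (f x)) isOpen_univ
  refine ⟨f.appTop r, ?_, ?_⟩
  · rw [← Scheme.preimage_basicOpen_top]
    exact hxr
  · rw [← Scheme.preimage_basicOpen_top]
    exact ((isQAHom_iff f).mp hf).2 _ hr

instance : MorphismProperty.IsStableUnderComposition IsQAHom.{u} where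
  comp_mem {X Y Z} f g hf hg := by
    rintro ⟨V, hV⟩
    have : IsAffine V := hV
    have hg' : IsQAHom (g ∣_ V) := IsZariskiLocalAtTarget.restrict hg V
    have hf' : IsQAHom (f ∣_ g ⁻¹ᵁ V) := IsZariskiLocalAtTarget.restrict hf _
    have : (g ⁻¹ᵁ V).toScheme.IsQuasiAffine := (isQAHom_iff_of_isAffine _).mp hg'
    exact isQuasiAffine_of_isQAHom _ hf'

instance : MorphismProperty.IsMultiplicative IsQAHom.{u} where
  id_mem _ := isQAHom_of_isAffineHom _

lemma quasiSeparated_le_diagonal : @QuasiSeparated ≤ IsQAHom.{u}.diagonal := by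
  intro X Y g hg
  have : QuasiCompact (pullback.diagonal g) := hg.1
  exact isQAHom_of_isEmbedding _ (pullback.diagonal g).isEmbedding

lemma isQAHom_of_comp (f : X ⟶ Y) (g : Y ⟶ Z) [QuasiSeparated g] (h : IsQAHom (f ≫ g)) :
    IsQAHom f := by
  have := (MorphismProperty.hasOfPostcompProperty_iff_le_diagonal (P := IsQAHom.{u})
    (Q := @QuasiSeparated)).mpr quasiSeparated_le_diagonal
  exact MorphismProperty.of_postcomp (W := IsQAHom.{u}) (W' := @QuasiSeparated) f g ‹_› h

end Groth.Agent.Lib.Helper26.QuasiAffine
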