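import Mathlib
import Groth.Prelude.Def_Found
import Groth.Agent.Lib.Helper26.N2Local

namespace Groth.Agent.Lib.Helper26.UJLocal

universe u

set_option linter.unusedSectionVars false
set_option linter.style.haveILetI false

/-- Removing the zero members of a spanning family in a quotient/algebra keeps it spanning. -/
lemma span_nonzero {R : Type u} [CommRing R] {S : Type u} [CommRing S] (φ : R →+* S)
    {ι : Type u} (f : ι → R) (hf : Ideal.span (Set.range f) = ⊤) :
    Ideal.span (Set.range (fun i : {i : ι // φ (f i) ≠ 0} => φ (f i.1))) = ⊤ := by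
  have h1 : Ideal.span (Set.range (fun i => φ (f i))) = ⊤ := by
    have := congrArg (Ideal.map φ) hf
    rw [Ideal.map_span, Ideal.map_top, ← Set.range_comp] at this
    exact this
  rw [eq_top_iff, ← h1, Ideal.span_le]
  rintro _ ⟨i, rfl⟩
  by_cases hi : φ (f i) = 0
  · simp only [hi]
    exact Ideal.zero_mem _
  · exact Ideal.subset_span ⟨⟨i, hi⟩, rfl⟩

theorem main (R : Type u) [CommRing R]
    {ι : Type u} [Finite ι] (f : ι → R) (hf : Ideal.span (Set.range f) = ⊤)
    (h : ∀ i, CAlg.IsUniversallyJapanese (Localization.Away (f i))) :
    CAlg.IsUniversallyJapanese R := by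
  intro S _ _ _ hS
  let g : {i : ι // algebraMap R S (f i) ≠ 0} → S := fun i => algebraMap R S (f i.1)
  have hg : Ideal.span (Set.range g) = ⊤ := span_nonzero (algebraMap R S) f hf
  haveI : ∀ i, IsDomain (Localization.Away (g i)) := fun i =>
    IsLocalization.isDomain_localization (powers_le_nonZeroDivisors_of_noZeroDivisors i.2)
  refine N2Local.main S g hg (fun i => Localization.Away (g i)) (fun i => ?_)
  letI : Algebra (Localization.Away (f i.1)) (Localization.Away (g i)) :=
    (Localization.awayMap (algebraMap R S) (f i.1)).toAlgebra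
  refine h i.1 (Localization.Away (g i)) ?_
  have hft : (algebraMap R S).FiniteType := RingHom.finiteType_algebraMap.mpr hS
  have := RingHom.localization_away_map_finiteType R S (Localization.Away (f i.1))
    (Localization.Away (g i)) (algebraMap R S) (f i.1) hft
  exact this

end Groth.Agent.Lib.Helper26.UJLocal
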