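import Mathlib
import Groth.Prelude.Def_Found
import Groth.Agent.S9392
import Groth.Agent.Lib.Helper26.N2Local
import Groth.Agent.Lib.Helper26.UJLocal

namespace Groth.Agent.Lib.Helper26.N2Cover

universe u

set_option linter.unusedSectionVars false
set_option linter.style.haveILetI false

open CategoryTheory AlgebraicGeometry TopologicalSpace

theorem n2_affine (X : Scheme.{u}) [IsIntegral X] {ι : Type u}
    (U : ι → X.Opens) [∀ i, Nonempty (U i)] (hU : iSup U = ⊤) (haff : ∀ i, IsAffineOpen (U i))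
    (hJ : ∀ i, CAlg.IsN2 Γ(X, U i)) (V : X.Opens) [Nonempty V] (hV : IsAffineOpen V) :
    CAlg.IsN2 Γ(X, V) := by
  have key := of_affine_open_cover
    (P := fun W : X.affineOpens => ∀ [Nonempty W.1], CAlg.IsN2 Γ(X, W.1))
    (fun i => (⟨U i, haff i⟩ : X.affineOpens)) hU ⟨V, hV⟩ ?_ ?_ (fun i => by intro _; exact hJ i)
  · exact key
  · intro W g hW hne
    haveI : Nonempty W.1 := by
      obtain ⟨x⟩ := hne
      exact ⟨⟨x.1, X.basicOpen_le g x.2⟩⟩
    haveI := W.2.isLocalization_basicOpen g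
    haveI : Nonempty (X.basicOpen g) := hne
    exact Groth.Agent.S9392.result Γ(X, W.1) (Submonoid.powers g) Γ(X, X.basicOpen g) hW
  · intro W s hs hP hne
    have hne' : ∀ g : {g : s // (RingHom.id Γ(X, W.1)) g.1 ≠ 0}, Nonempty (X.basicOpen g.1.1) := by
      intro g
      by_contra hcon
      rw [not_nonempty_iff] at hcon
      have hbot : X.basicOpen g.1.1 = ⊥ := by
        ext x
        simp only [Opens.coe_bot, Set.mem_empty_iff_false, iff_false]
        intro hx
        exact hcon.false ⟨x, hx⟩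
      exact g.2 ((basicOpen_eq_bot_iff _).mp hbot)
    haveI := hne'
    haveI : ∀ g : {g : s // (RingHom.id Γ(X, W.1)) g.1 ≠ 0},
        IsLocalization.Away ((RingHom.id Γ(X, W.1)) g.1.1) Γ(X, X.basicOpen g.1.1) :=
      fun g => W.2.isLocalization_basicOpen g.1.1
    have hspan := UJLocal.span_nonzero (RingHom.id Γ(X, W.1)) (fun g : s => g.1)
      (by rw [Subtype.range_coe_subtype]; exact hs)
    exact N2Local.main Γ(X, W.1) (fun g : {g : s // (RingHom.id Γ(X, W.1)) g.1 ≠ 0} =>
      (RingHom.id Γ(X, W.1)) g.1.1) hspan (fun g => Γ(X, X.basicOpen g.1.1)) (fun g => @hP g.1 (hne' g))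

end Groth.Agent.Lib.Helper26.N2Cover
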