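import Groth.Prelude.Def_QuadGrp
import Mathlib

/-!
# The universal half-discriminant (helper26)

* `two_mul_halfDiscUniv`: for odd `n`, `2 * halfDiscUniv n = discUniv n` (all coefficients of the
  universal discriminant are even).
* `eval_halfDiscUniv_general`: the universal transformation rule
  `halfDisc(a') = det G ^ 2 * halfDisc(a)` when `a'` is the coefficient table of `q ∘ G`.
* `halfDisc_comp`: `halfDisc b refl (Q.comp g) = det g ^ 2 * halfDisc b refl Q` for odd rank.
-/

open QuadGrp

namespace Groth.Agent.Lib.Helper26.HalfDisc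

/-- An involutive permutation of `Fin n` with `n` odd has a fixed point. -/
theorem exists_fixed_of_involutive {n : ℕ} (hn : Odd n) (σ : Equiv.Perm (Fin n)) (hσ : σ⁻¹ = σ) :
    ∃ i, σ i = i := by
  by_contra hcon
  push Not at hcon
  have h2 : σ ^ 2 ^ 1 = 1 := by
    rw [pow_one, sq]
    nth_rw 1 [← hσ]
    exact inv_mul_cancel σ
  have : Fact (Nat.Prime 2) := ⟨Nat.prime_two⟩
  have h := Equiv.Perm.card_compl_support_modEq (p := 2) (n := 1) (σ := σ) h2
  have hs : σ.supportᶜ = ∅ := by
    ext i
    simp [hcon i]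
  rw [hs, Finset.card_empty, Fintype.card_fin] at h
  have : n % 2 = 1 := Nat.odd_iff.mp hn
  have h' : 0 % 2 = n % 2 := h
  omega

theorem det_eq_zero_of_symm_of_diag {n : ℕ} (hn : Odd n) {S : Type*} [CommRing S] [CharP S 2]
    (M : Matrix (Fin n) (Fin n) S) (hsymm : ∀ i j, M i j = M j i) (hdiag : ∀ i, M i i = 0) :
    M.det = 0 := by
  rw [Matrix.det_apply]
  refine Finset.sum_involution (fun σ _ => σ⁻¹) ?_ ?_ (fun _ _ => Finset.mem_univ _) ?_
  · intro σ _
    have : (∏ i, M (σ⁻¹ i) i) = ∏ i, M (σ i) i := by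
      rw [← Equiv.prod_comp σ]
      simp [hsymm]
    rw [Equiv.Perm.sign_inv, this, ← two_mul]
    have h2 : (2 : S) = 0 := by exact_mod_cast CharP.cast_eq_zero S 2
    rw [h2, zero_mul]
  · intro σ _ hne heq
    apply hne
    obtain ⟨i, hi⟩ := exists_fixed_of_involutive hn σ heq
    have : (∏ j, M (σ j) j) = 0 := Finset.prod_eq_zero (Finset.mem_univ i) (by rw [hi, hdiag])
    rw [this, smul_zero]
  · intro σ _
    simp

theorem map_discUniv_zmod2 {n : ℕ} (hn : Odd n) :
    MvPolynomial.map (Int.castRingHom (ZMod 2)) (discUniv n) = 0 := by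
  rw [discUniv, RingHom.map_det]
  apply det_eq_zero_of_symm_of_diag hn
  · intro i j
    simp only [RingHom.mapMatrix_apply, Matrix.map_apply, univPolarMat, Matrix.of_apply]
    by_cases h : i = j
    · subst h; rfl
    · rw [if_neg h, if_neg (Ne.symm h), Sym2.eq_swap]
  · intro i
    simp only [RingHom.mapMatrix_apply, Matrix.map_apply, univPolarMat, Matrix.of_apply, if_true,
      map_mul, map_ofNat]
    have h2 : (2 : MvPolynomial (Sym2 (Fin n)) (ZMod 2)) = 0 := by
      have : (2 : ZMod 2) = 0 := by decide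
      rw [← map_ofNat (MvPolynomial.C (σ := Sym2 (Fin n)) (R := ZMod 2)) 2, this, map_zero]
    rw [h2, zero_mul]

theorem two_dvd_coeff_discUniv {n : ℕ} (hn : Odd n) (s : Sym2 (Fin n) →₀ ℕ) :
    (2 : ℤ) ∣ MvPolynomial.coeff s (discUniv n) := by
  have h := congrArg (MvPolynomial.coeff s) (map_discUniv_zmod2 hn)
  rw [MvPolynomial.coeff_map, MvPolynomial.coeff_zero] at h
  exact (ZMod.intCast_zmod_eq_zero_iff_dvd _ 2).mp h

theorem two_mul_halfDiscUniv {n : ℕ} (hn : Odd n) : 2 * halfDiscUniv n = discUniv n := by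
  ext s
  rw [two_mul, MvPolynomial.coeff_add, coeff_halfDiscUniv, ← two_mul]
  exact Int.mul_ediv_cancel' (two_dvd_coeff_discUniv hn s)

variable {R : Type*} [CommRing R] {n : ℕ}

/-- polar matrix attached to a coefficient table -/
def polMat (a : Sym2 (Fin n) → R) : Matrix (Fin n) (Fin n) R :=
  Matrix.of fun i j => if i = j then 2 * a (Sym2.mk i j) else a (Sym2.mk i j)

/-- upper triangular matrix attached to a coefficient table -/
def triMat (a : Sym2 (Fin n) → R) : Matrix (Fin n) (Fin n) R :=
  Matrix.of fun i j => if i = j then a (Sym2.mk i j) else if i < j then a (Sym2.mk i j) else 0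

theorem polMat_eq (a : Sym2 (Fin n) → R) : polMat a = triMat a + (triMat a).transpose := by
  ext i j
  simp only [polMat, triMat, Matrix.of_apply, Matrix.add_apply, Matrix.transpose_apply]
  by_cases h : i = j
  · subst h; simp [two_mul]
  · rw [if_neg h, if_neg h, if_neg (Ne.symm h)]
    rcases lt_or_gt_of_ne h with h' | h'
    · rw [if_pos h', if_neg (not_lt.mpr h'.le), add_zero]
    · rw [if_neg (not_lt.mpr h'.le), if_pos h', zero_add, Sym2.eq_swap]

theorem eval_discUniv (a : Sym2 (Fin n) → R) :
    MvPolynomial.eval₂ (Int.castRingHom R) a (discUniv n) = (polMat a).det := by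
  rw [← MvPolynomial.coe_eval₂Hom, discUniv, RingHom.map_det]
  congr 1
  ext i j
  simp only [RingHom.mapMatrix_apply, Matrix.map_apply, univPolarMat, Matrix.of_apply, polMat]
  split_ifs <;> simp

theorem two_mul_eval_halfDiscUniv (hn : Odd n) (a : Sym2 (Fin n) → R) :
    2 * MvPolynomial.eval₂ (Int.castRingHom R) a (halfDiscUniv n) = (polMat a).det := by
  rw [← eval_discUniv, ← two_mul_halfDiscUniv hn, MvPolynomial.eval₂_mul]
  congr 1
  rw [← MvPolynomial.coe_eval₂Hom, map_ofNat]

/-- The torsion-free case of the universal identity. -/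
theorem eval_halfDiscUniv_of_regular (hn : Odd n) (h2 : ∀ x : R, 2 * x = 0 → x = 0)
    (a a' : Sym2 (Fin n) → R) (G : Matrix (Fin n) (Fin n) R)
    (h1 : ∀ i, a' (Sym2.mk i i) = (G.transpose * triMat a * G) i i)
    (h1' : ∀ i j, i ≠ j → a' (Sym2.mk i j) =
      (G.transpose * triMat a * G) i j + (G.transpose * triMat a * G) j i) :
    MvPolynomial.eval₂ (Int.castRingHom R) a' (halfDiscUniv n) =
      G.det ^ 2 * MvPolynomial.eval₂ (Int.castRingHom R) a (halfDiscUniv n) := by
  have key : polMat a' = G.transpose * polMat a * G := by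
    rw [polMat_eq a, Matrix.mul_add, Matrix.add_mul]
    have : G.transpose * (triMat a).transpose * G = (G.transpose * triMat a * G).transpose := by
      rw [Matrix.transpose_mul, Matrix.transpose_mul, Matrix.transpose_transpose, Matrix.mul_assoc]
    rw [this]
    ext i j
    simp only [polMat, Matrix.of_apply, Matrix.add_apply, Matrix.transpose_apply]
    by_cases h : i = j
    · subst h; rw [if_pos rfl, h1, two_mul]
    · rw [if_neg h, h1' i j h]
  have hd : 2 * MvPolynomial.eval₂ (Int.castRingHom R) a' (halfDiscUniv n) =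
      2 * (G.det ^ 2 * MvPolynomial.eval₂ (Int.castRingHom R) a (halfDiscUniv n)) := by
    rw [two_mul_eval_halfDiscUniv hn, key, Matrix.det_mul, Matrix.det_mul, Matrix.det_transpose,
      ← two_mul_eval_halfDiscUniv hn a]
    ring
  have := h2 _ (by rw [mul_sub, hd, sub_self] :
    2 * (MvPolynomial.eval₂ (Int.castRingHom R) a' (halfDiscUniv n) -
      G.det ^ 2 * MvPolynomial.eval₂ (Int.castRingHom R) a (halfDiscUniv n)) = 0)
  exact sub_eq_zero.mp this

theorem map_triMat {S : Type*} [CommRing S] (φ : R →+* S) (a : Sym2 (Fin n) → R) :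
    (triMat a).map φ = triMat (φ ∘ a) := by
  ext i j
  simp only [triMat, Matrix.map_apply, Matrix.of_apply, Function.comp_apply]
  split_ifs <;> simp

/-- The universal identity over any commutative ring. -/
theorem eval_halfDiscUniv_general (hn : Odd n)
    (a a' : Sym2 (Fin n) → R) (G : Matrix (Fin n) (Fin n) R)
    (h1 : ∀ i, a' (Sym2.mk i i) = (G.transpose * triMat a * G) i i)
    (h1' : ∀ i j, i ≠ j → a' (Sym2.mk i j) =
      (G.transpose * triMat a * G) i j + (G.transpose * triMat a * G) j i) :
    MvPolynomial.eval₂ (Int.castRingHom R) a' (halfDiscUniv n) =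
      G.det ^ 2 * MvPolynomial.eval₂ (Int.castRingHom R) a (halfDiscUniv n) := by
  classical
  let U := MvPolynomial (Sym2 (Fin n) ⊕ (Fin n × Fin n)) ℤ
  let aU : Sym2 (Fin n) → U := fun s => MvPolynomial.X (Sum.inl s)
  let GU : Matrix (Fin n) (Fin n) U := Matrix.of fun i j => MvPolynomial.X (Sum.inr (i, j))
  let WU : Matrix (Fin n) (Fin n) U := GU.transpose * triMat aU * GU
  let a'U : Sym2 (Fin n) → U := Sym2.lift ⟨fun i j => if i = j then WU i i else WU i j + WU j i, by
    intro i j
    by_cases h : i = j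
    · subst h; rfl
    · dsimp only
      rw [if_neg h, if_neg (Ne.symm h), add_comm]⟩
  have hU : MvPolynomial.eval₂ (Int.castRingHom U) a'U (halfDiscUniv n) =
      GU.det ^ 2 * MvPolynomial.eval₂ (Int.castRingHom U) aU (halfDiscUniv n) := by
    apply eval_halfDiscUniv_of_regular hn
    · intro x hx
      rcases mul_eq_zero.mp hx with h | h
      · exact absurd h two_ne_zero
      · exact h
    · intro i
      change (if i = i then WU i i else WU i i + WU i i) = _
      rw [if_pos rfl]
    · intro i j hij
      change (if i = j then WU i i else WU i j + WU j i) = _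
      rw [if_neg hij]
  let φ : U →+* R := MvPolynomial.eval₂Hom (Int.castRingHom R) (Sum.elim a (fun p => G p.1 p.2))
  have hφa : φ ∘ aU = a := by
    ext s
    change φ (MvPolynomial.X (Sum.inl s)) = _
    rw [MvPolynomial.coe_eval₂Hom, MvPolynomial.eval₂_X]
    rfl
  have hφG : GU.map φ = G := by
    ext i j
    change φ (MvPolynomial.X (Sum.inr (i, j))) = _
    rw [MvPolynomial.coe_eval₂Hom, MvPolynomial.eval₂_X]
    rfl
  have hφW : WU.map φ = G.transpose * triMat a * G := by
    simp only [WU]
    rw [Matrix.map_mul, Matrix.map_mul, Matrix.transpose_map, hφG, map_triMat, hφa]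
  have hφa' : φ ∘ a'U = a' := by
    ext s
    induction s using Sym2.ind with
    | _ i j =>
      have hW : ∀ k l, φ (WU k l) = (G.transpose * triMat a * G) k l := by
        intro k l
        rw [← hφW, Matrix.map_apply]
      change φ (if i = j then WU i i else WU i j + WU j i) = _
      by_cases h : i = j
      · subst h
        rw [if_pos rfl, hW, h1]
      · rw [if_neg h, map_add, hW, hW, h1' i j h]
  have hcomp : φ.comp (Int.castRingHom U) = Int.castRingHom R := RingHom.ext_int _ _
  have e1 : ∀ (c : Sym2 (Fin n) → U), φ (MvPolynomial.eval₂ (Int.castRingHom U) c (halfDiscUniv n)) =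
      MvPolynomial.eval₂ (Int.castRingHom R) (φ ∘ c) (halfDiscUniv n) := by
    intro c
    rw [MvPolynomial.eval₂_comp_left φ, hcomp]
  have := congrArg φ hU
  rw [e1, hφa', map_mul, map_pow, e1, hφa, RingHom.map_det, RingHom.mapMatrix_apply, hφG] at this
  exact this

variable {M : Type*} [AddCommGroup M] [Module R M]

theorem triMat_coeffs (b : Module.Basis (Fin n) R M) (Q : QuadraticForm R M) :
    triMat (coeffs b (LinearEquiv.refl R R) Q) = LinearMap.BilinForm.toMatrix b (Q.toBilin b) := by
  ext i j
  rw [LinearMap.BilinForm.toMatrix_apply, QuadraticMap.toBilin_apply]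
  simp only [triMat, Matrix.of_apply, coeffs_mk, LinearEquiv.refl_apply]
  by_cases h : i = j
  · subst h; simp
  · simp [h]

theorem halfDisc_comp (hn : Odd n) (b : Module.Basis (Fin n) R M) (Q : QuadraticForm R M)
    (g : M →ₗ[R] M) :
    halfDisc b (LinearEquiv.refl R R) (Q.comp g) =
      LinearMap.det g ^ 2 * halfDisc b (LinearEquiv.refl R R) Q := by
  rw [← LinearMap.det_toMatrix b g]
  unfold halfDisc
  have hW : ∀ i j, ((LinearMap.toMatrix b b g).transpose * triMat (coeffs b (LinearEquiv.refl R R) Q) *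
      LinearMap.toMatrix b b g) i j = (Q.toBilin b) (g (b i)) (g (b j)) := by
    intro i j
    rw [triMat_coeffs, ← LinearMap.BilinForm.toMatrix_comp, LinearMap.BilinForm.toMatrix_apply,
      LinearMap.BilinForm.comp_apply]
  have hQ : ∀ x, Q x = (Q.toBilin b) x x := by
    intro x
    conv_lhs => rw [← QuadraticMap.toQuadraticMap_toBilin Q b]
    rfl
  apply eval_halfDiscUniv_general hn
  · intro i
    rw [hW, coeffs_mk, if_pos rfl, LinearEquiv.refl_apply, QuadraticMap.comp_apply, hQ]
  · intro i j hij
    rw [hW, hW, coeffs_mk, if_neg hij, LinearEquiv.refl_apply]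
    have : QuadraticMap.polar (Q.comp g) (b i) (b j) = QuadraticMap.polar Q (g (b i)) (g (b j)) := by
      simp [QuadraticMap.polar, QuadraticMap.comp_apply]
    rw [this]
    conv_lhs => rw [← QuadraticMap.toQuadraticMap_toBilin Q b]
    rw [LinearMap.BilinMap.polar_toQuadraticMap]

end Groth.Agent.Lib.Helper26.HalfDisc
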