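import Groth.Agent.Lib.Helper26.CatOrder
import Groth.Agent.Lib.Helper24.Catenary

/-!
The codimension formulation of catenarity agrees with the "saturated chains have equal lengths" one.
Irreducible closed subsets of subspaces.
-/

set_option autoImplicit false
universe u

namespace Groth.Agent.Lib.Helper26.CatOrder

open Groth.Agent.Lib.Helper24

variable {P : Type u} [PartialOrder P]

theorem cat_iff_catOrd :
    (∀ a b : P, a ≤ b → cod a b ≠ ⊤ ∧
      ∀ s : LTSeries P, s.head = a → s.last = b →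
        (∀ i : Fin s.length, s (Fin.castSucc i) ⋖ s (Fin.succ i)) → (s.length : ℕ∞) = cod a b) ↔
    CatOrd P := by
  constructor
  · intro H
    refine ⟨fun p q hpq => ?_, fun s t hh hl hs ht => ?_⟩
    · obtain ⟨n, hn⟩ := ENat.ne_top_iff_exists.1 (H p q hpq).1
      refine ⟨n, fun s h1 h2 => ?_⟩
      have := le_cod s h1 h2.le
      rw [← hn] at this
      exact_mod_cast this
    · have h1 := (H s.head s.last (LTSeries.head_le_last s)).2 s rfl rfl hs
      have h2 := (H s.head s.last (LTSeries.head_le_last s)).2 t hh.symm hl.symm ht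
      rw [← h2] at h1
      exact_mod_cast h1
  · rintro ⟨hb, hsat⟩ a b hab
    obtain ⟨n, hn⟩ := hb a b hab
    have hfin : cod a b ≠ ⊤ := by
      apply ne_top_of_le_ne_top (ENat.coe_ne_top n)
      apply cod_le
      intro s h1 h2
      rcases eq_or_lt_of_le h2 with h | h
      · exact_mod_cast hn s h1 h
      · have := hn (s.snoc b h) (by simp [h1]) (by simp)
        simp at this
        have : s.length ≤ n := by omega
        exact_mod_cast this
    refine ⟨hfin, fun s h1 h2 hs => ?_⟩
    obtain ⟨s0, a1, a2, a3, a4⟩ := exists_max hab hfin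
    rw [← a4, hsat s s0 (by rw [h1, a1]) (by rw [h2, a2]) hs a3]

end Groth.Agent.Lib.Helper26.CatOrder

namespace Groth.Agent.Lib.Helper26.IrrSub

open TopologicalSpace Topology

variable {X : Type u} [TopologicalSpace X]

lemma isIrreducible_of_image {Y : Type*} [TopologicalSpace Y] {f : Y → X} (hf : IsInducing f)
    {T : Set Y} (h : IsIrreducible (f '' T)) : IsIrreducible T := by
  refine ⟨h.nonempty.of_image, ?_⟩
  intro u v hu hv hTu hTv
  obtain ⟨u', hu', rfl⟩ := hf.isOpen_iff.1 hu
  obtain ⟨v', hv', rfl⟩ := hf.isOpen_iff.1 hv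
  obtain ⟨t1, ht1, ht1u⟩ := hTu
  obtain ⟨t2, ht2, ht2v⟩ := hTv
  obtain ⟨_, ⟨t, ht, rfl⟩, htu, htv⟩ :=
    h.2 u' v' hu' hv' ⟨f t1, ⟨t1, ht1, rfl⟩, ht1u⟩ ⟨f t2, ⟨t2, ht2, rfl⟩, ht2v⟩
  exact ⟨t, ht, htu, htv⟩

/-- the order embedding of irreducible closed subsets of a subspace -/
noncomputable def emb (S : Set X) : IrreducibleCloseds S ↪o IrreducibleCloseds X :=
  OrderEmbedding.ofMapLEIff (IrreducibleCloseds.map Subtype.val continuous_subtype_val)
    (by
      intro a b
      refine ⟨fun hle => ?_, fun hle => IrreducibleCloseds.map_mono continuous_subtype_val hle⟩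
      have h : IsInducing (Subtype.val : S → X) := IsInducing.subtypeVal
      have h2 := Set.preimage_mono (f := (Subtype.val : S → X)) hle
      simp only [IrreducibleCloseds.coe_map] at h2
      rw [← h.closure_eq_preimage_closure_image, ← h.closure_eq_preimage_closure_image,
        a.isClosed.closure_eq, b.isClosed.closure_eq] at h2
      exact h2)

lemma coe_emb (S : Set X) (T : IrreducibleCloseds S) :
    (emb S T : Set X) = closure (Subtype.val '' (T : Set S)) := rfl

lemma ordConnected_range_emb {S : Set X} (hS : IsLocallyClosed S) :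
    (Set.range (emb S)).OrdConnected := by
  constructor
  rintro _ ⟨T1, rfl⟩ _ ⟨T2, rfl⟩ W ⟨h1, h2⟩
  obtain ⟨U, Z, hU, hZ, rfl⟩ := hS
  have hWZ : (W : Set X) ⊆ Z := by
    refine (show (W : Set X) ⊆ (emb (U ∩ Z) T2 : Set X) from h2).trans ?_
    rw [coe_emb]
    refine closure_minimal ?_ hZ
    rintro _ ⟨t, _, rfl⟩
    exact t.2.2
  have hWS : (W : Set X) ∩ (U ∩ Z) = (W : Set X) ∩ U := by
    ext x
    constructor
    · rintro ⟨hx, hxU, _⟩; exact ⟨hx, hxU⟩
    · rintro ⟨hx, hxU⟩; exact ⟨hx, hxU, hWZ hx⟩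
  have hne : ((W : Set X) ∩ U).Nonempty := by
    obtain ⟨t, ht⟩ := T1.isIrreducible.nonempty
    refine ⟨t.1, ?_, t.2.1⟩
    apply (show (emb (U ∩ Z) T1 : Set X) ⊆ (W : Set X) from h1)
    rw [coe_emb]
    exact subset_closure ⟨t, ht, rfl⟩
  have hcl : closure ((W : Set X) ∩ U) = (W : Set X) := by
    apply le_antisymm
    · exact closure_minimal Set.inter_subset_left W.isClosed
    · exact subset_closure_inter_of_isPreirreducible_of_isOpen W.isIrreducible.isPreirreducible hU hne
  have himg : Subtype.val '' ((Subtype.val : ↥(U ∩ Z) → X) ⁻¹' (W : Set X)) = (W : Set X) ∩ U := by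
    rw [Subtype.image_preimage_coe, Set.inter_comm, hWS]
  have hirr : IsIrreducible ((Subtype.val : ↥(U ∩ Z) → X) ⁻¹' (W : Set X)) := by
    apply isIrreducible_of_image IsInducing.subtypeVal
    rw [himg, ← isIrreducible_iff_closure, hcl]
    exact W.isIrreducible
  refine ⟨⟨_, hirr, W.isClosed.preimage continuous_subtype_val⟩, ?_⟩
  apply SetLike.coe_injective
  rw [coe_emb]
  show closure (Subtype.val '' ((Subtype.val : ↥(U ∩ Z) → X) ⁻¹' (W : Set X))) = _
  rw [himg, hcl]

lemma mem_range_emb_of_isOpen {U : Set X} (hU : IsOpen U) (T : IrreducibleCloseds X) {x : X}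
    (hxU : x ∈ U) (hxT : x ∈ T) : T ∈ Set.range (emb U) := by
  let e := IrreducibleCloseds.orderIsoOfIsOpenEmbedding (Subtype.val : U → X)
    hU.isOpenEmbedding_subtypeVal
  have hT : T ∈ {V : IrreducibleCloseds X | ((Subtype.val : U → X) ⁻¹' V).Nonempty} :=
    ⟨⟨x, hxU⟩, hxT⟩
  obtain ⟨T', hT'⟩ := e.surjective ⟨T, hT⟩
  refine ⟨T', ?_⟩
  exact congrArg Subtype.val hT'

end Groth.Agent.Lib.Helper26.IrrSub
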