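import Groth.Agent.S11174

/-!
Injective hull of the residue field from power torsion and lengths of `Hom(A/m^n, I)`.
-/

set_option autoImplicit false
universe u

namespace Groth.Agent.Lib.Helper26.HullCriterion

open IsLocalRing

set_option backward.isDefEq.respectTransparency false in
lemma length_congrLeft {R : Type u} [CommRing R] {M N T : Type u} [AddCommGroup M] [AddCommGroup N]
    [AddCommGroup T] [Module R M] [Module R N] [Module R T] (e : M ≃ₗ[R] N) :
    Module.length R (M →ₗ[R] T) = Module.length R (N →ₗ[R] T) :=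
  (LinearEquiv.congrLeft T R e).length_eq

theorem exists_hull_of_lengths (A : Type u) [CommRing A] [IsLocalRing A] [IsNoetherianRing A]
    (I : Type u) [AddCommGroup I] [Module A I]
    (ha : LocCoh.IsPowerTorsion (maximalIdeal A) I)
    (hlen : ∀ n : ℕ, Module.length A (A ⧸ maximalIdeal A ^ n)
      = Module.length A ((A ⧸ maximalIdeal A ^ n) →ₗ[A] I)) :
    ∃ f : ResidueField A →ₗ[A] I, InjHull.IsInjectiveHull f := by
  have hb : Nonempty ((ResidueField A →ₗ[A] I) ≃ₗ[A] ResidueField A) := by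
    have hs0 : IsSimpleModule A (A ⧸ maximalIdeal A) :=
      isSimpleModule_iff_quot_maximal.mpr ⟨maximalIdeal A, inferInstance, ⟨LinearEquiv.refl _ _⟩⟩
    have h1 := hlen 1
    let ε' : (A ⧸ maximalIdeal A) ≃ₗ[A] (A ⧸ maximalIdeal A ^ 1) :=
      Submodule.quotEquivOfEq _ _ (pow_one _).symm
    let ε : ResidueField A ≃ₗ[A] (A ⧸ maximalIdeal A ^ 1) := ε'
    have h3 : Module.length A (ResidueField A →ₗ[A] I) = 1 := by
      rw [length_congrLeft (T := I) ε, ← h1, ← ε'.length_eq]
      exact Module.length_eq_one A _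
    have hs : IsSimpleModule A (ResidueField A →ₗ[A] I) := Module.length_eq_one_iff.mp h3
    obtain ⟨I', hI', ⟨e⟩⟩ := isSimpleModule_iff_quot_maximal.mp hs
    have hIm : I' = maximalIdeal A := IsLocalRing.eq_maximalIdeal hI'
    subst hIm
    let δ' : (A ⧸ maximalIdeal A) ≃ₗ[A] (A ⧸ maximalIdeal A) := LinearEquiv.refl _ _
    let δ : (A ⧸ maximalIdeal A) ≃ₗ[A] ResidueField A := δ'
    exact ⟨e.trans δ⟩
  refine Groth.Agent.S11174.result A I ha hb (fun n => maximalIdeal A ^ n) ?_ ?_ ?_ hlen
  · intro n n' hnn'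
    exact Ideal.pow_le_pow_right hnn'
  · intro n
    exact ⟨n, le_rfl⟩
  · intro N
    exact ⟨N, le_rfl⟩

end Groth.Agent.Lib.Helper26.HullCriterion
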