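import Mathlib.RingTheory.Artinian.Module
import Mathlib.Algebra.Module.Torsion.Basic
import Mathlib.RingTheory.Ideal.Operations

/-!
# Melkersson's lemma: torsion modules with Artinian socle-like part are Artinian
(helper26)

* `isArtinian_of_torsionBy`: if every element of `M` is killed by a power of `x` and the kernel of
  `x` on `M` is Artinian, then `M` is Artinian.
* `isArtinian_of_isPowerTorsion`: if `I` is a finitely generated ideal, every element of `M` is killed
  by a power of `I`, and the submodule of elements killed by `I` is Artinian, then `M` is Artinian.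
-/

set_option autoImplicit false

universe u v

namespace Groth.Agent.Lib.Helper26.Melkersson

variable {R : Type u} [CommRing R] {M : Type v} [AddCommGroup M] [Module R M]

/-- an antitone sequence of submodules contained in an Artinian submodule stabilizes -/
lemma stabilizes_of_le (K : Submodule R M) [IsArtinian R K] (A : ℕ → Submodule R M)
    (hA : Antitone A) (hK : ∀ n, A n ≤ K) : ∃ n, ∀ m, n ≤ m → A n = A m := by
  let B : ℕ →o (Submodule R K)ᵒᵈ :=
    ⟨fun n => OrderDual.toDual ((A n).comap K.subtype), fun i j hij =>
      OrderDual.toDual_le_toDual.2 (Submodule.comap_mono (hA hij))⟩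
  obtain ⟨n, hn⟩ := monotone_stabilizes_iff_artinian.2 (inferInstance : IsArtinian R K) B
  refine ⟨n, fun m hm => ?_⟩
  have h := hn m hm
  have h' : (A n).comap K.subtype = (A m).comap K.subtype := h
  have e : ∀ k, (A k) = ((A k).comap K.subtype).map K.subtype := by
    intro k
    rw [Submodule.map_comap_subtype, inf_eq_right.2 (hK k)]
  rw [e n, e m, h']

/-- the auxiliary submodules `x^p (N ∩ M[x^(p+1)])` -/
def L (x : R) (N : Submodule R M) (p : ℕ) : Submodule R M :=
  (N ⊓ Submodule.torsionBy R M (x ^ (p + 1))).map (LinearMap.lsmul R M (x ^ p))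

lemma mem_L {x : R} {N : Submodule R M} {p : ℕ} {z : M} :
    z ∈ L x N p ↔ ∃ y ∈ N, x ^ (p + 1) • y = 0 ∧ x ^ p • y = z := by
  unfold L
  rw [Submodule.mem_map]
  constructor
  · rintro ⟨y, ⟨hy1, hy2⟩, rfl⟩
    exact ⟨y, hy1, (Submodule.mem_torsionBy_iff _ _).1 hy2, rfl⟩
  · rintro ⟨y, hy1, hy2, rfl⟩
    exact ⟨y, ⟨hy1, (Submodule.mem_torsionBy_iff _ _).2 hy2⟩, rfl⟩

lemma L_le_torsionBy (x : R) (N : Submodule R M) (p : ℕ) :
    L x N p ≤ Submodule.torsionBy R M x := by
  intro z hz
  obtain ⟨y, -, hy2, rfl⟩ := mem_L.1 hz
  rw [Submodule.mem_torsionBy_iff, smul_smul, ← pow_succ']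
  exact hy2

lemma L_mono_left (x : R) {N N' : Submodule R M} (h : N ≤ N') (p : ℕ) : L x N p ≤ L x N' p := by
  intro z hz
  obtain ⟨y, hy1, hy2, rfl⟩ := mem_L.1 hz
  exact mem_L.2 ⟨y, h hy1, hy2, rfl⟩

lemma L_succ_le (x : R) (N : Submodule R M) (p : ℕ) : L x N (p + 1) ≤ L x N p := by
  intro z hz
  obtain ⟨y, hy1, hy2, rfl⟩ := mem_L.1 hz
  refine mem_L.2 ⟨x • y, N.smul_mem x hy1, ?_, ?_⟩
  · rw [smul_smul, ← pow_succ]; exact hy2
  · rw [smul_smul, ← pow_succ]

lemma L_antitone_right (x : R) (N : Submodule R M) : Antitone (L x N) :=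
  antitone_nat_of_succ_le (L_succ_le x N)

/-- **Melkersson's lemma.** -/
theorem isArtinian_of_torsionBy (x : R) (hx : ∀ y : M, ∃ n : ℕ, x ^ n • y = 0)
    [IsArtinian R (Submodule.torsionBy R M x)] : IsArtinian R M := by
  rw [← monotone_stabilizes_iff_artinian]
  intro N
  -- `N` as an antitone sequence of submodules
  let N' : ℕ → Submodule R M := fun n => OrderDual.ofDual (N n)
  have hN' : Antitone N' := fun i j hij => N.monotone hij
  set K := Submodule.torsionBy R M x with hK
  -- the diagonal stabilizes
  have hdiag : Antitone (fun n => L x (N' n) n) := by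
    apply antitone_nat_of_succ_le
    intro n
    exact (L_succ_le x (N' (n + 1)) n).trans (L_mono_left x (hN' (Nat.le_succ n)) n)
  obtain ⟨n0, hn0⟩ := stabilizes_of_le K _ hdiag (fun n => L_le_torsionBy x _ _)
  have hbig : ∀ n p, n0 ≤ n → n0 ≤ p → L x (N' n) p = L x (N' n0) n0 := by
    intro n p hn hp
    apply le_antisymm
    · exact (L_mono_left x (hN' hn) p).trans (L_antitone_right x _ hp)
    · have h1 : L x (N' (max n p)) (max n p) ≤ L x (N' n) p :=
        (L_mono_left x (hN' (le_max_left n p)) _).trans (L_antitone_right x _ (le_max_right n p))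
      have h2 : L x (N' n0) n0 = L x (N' (max n p)) (max n p) :=
        hn0 (max n p) (hn.trans (le_max_left n p))
      rw [h2]; exact h1
  -- each column stabilizes
  have hcol : ∀ p, ∃ n, ∀ m, n ≤ m → L x (N' n) p = L x (N' m) p := fun p =>
    stabilizes_of_le K (fun n => L x (N' n) p) (fun i j hij => L_mono_left x (hN' hij) p)
      (fun n => L_le_torsionBy x _ _)
  choose c hc using hcol
  -- a uniform bound
  let n1 := max n0 ((Finset.range n0).sup c)
  have hn1 : ∀ p n, n1 ≤ n → L x (N' n) p = L x (N' n1) p := by
    intro p n hn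
    by_cases hp : p < n0
    · have hcp : c p ≤ n1 :=
        (Finset.le_sup (f := c) (Finset.mem_range.2 hp)).trans (le_max_right _ _)
      rw [← hc p n (hcp.trans hn), ← hc p n1 hcp]
    · push Not at hp
      rw [hbig n p ((le_max_left _ _).trans hn) hp, hbig n1 p (le_max_left _ _) hp]
  refine ⟨n1, fun n hn => ?_⟩
  -- the torsion pieces agree
  have key : ∀ p, ∀ y ∈ N' n1, x ^ p • y = 0 → y ∈ N' n := by
    intro p
    induction p with
    | zero =>
      intro y _ hy
      rw [pow_zero, one_smul] at hy
      rw [hy]; exact Submodule.zero_mem _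
    | succ p ih =>
      intro y hy1 hy2
      have hz : x ^ p • y ∈ L x (N' n1) p := mem_L.2 ⟨y, hy1, hy2, rfl⟩
      rw [← hn1 p n hn] at hz
      obtain ⟨z, hz1, hz2, hz3⟩ := mem_L.1 hz
      have hyz : y - z ∈ N' n := by
        apply ih
        · exact Submodule.sub_mem _ hy1 (hN' hn hz1)
        · rw [smul_sub, hz3, sub_self]
      have : y = (y - z) + z := by abel
      rw [this]
      exact Submodule.add_mem _ hyz hz1
  show N' n1 = N' n
  apply le_antisymm
  · intro y hy
    obtain ⟨p, hp⟩ := hx y
    exact key p y hy hp
  · exact hN' hn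

/-- If `I = span s` for a finite set `s`, every element of `M` is killed by a power of `I` and the
submodule killed by `I` is Artinian, then `M` is Artinian. -/
theorem isArtinian_of_isPowerTorsion_span (s : Finset R) :
    ∀ (M : Type v) [AddCommGroup M] [Module R M]
    (_ : ∀ y : M, ∃ n : ℕ, ∀ a ∈ (Ideal.span (s : Set R)) ^ n, a • y = 0)
    (_ : IsArtinian R (Submodule.torsionBySet R M (Ideal.span (s : Set R) : Set R))),
    IsArtinian R M := by
  classical
  induction s using Finset.induction_on with
  | empty =>
    intro M _ _ _ hA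
    have htop : Submodule.torsionBySet R M (Ideal.span ((∅ : Finset R) : Set R) : Set R) = ⊤ := by
      rw [eq_top_iff]
      intro y _
      rw [Submodule.mem_torsionBySet_iff]
      rintro ⟨a, ha⟩
      have : a = 0 := by simpa using ha
      show a • y = 0
      rw [this, zero_smul]
    rw [htop] at hA
    exact isArtinian_of_linearEquiv (Submodule.topEquiv : (⊤ : Submodule R M) ≃ₗ[R] M)
  | insert x s _ ih =>
    intro M _ _ hM hA
    have hle : Ideal.span (s : Set R) ≤ Ideal.span ((insert x s : Finset R) : Set R) := by
      apply Ideal.span_mono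
      intro a ha
      simp only [Finset.coe_insert]
      exact Set.mem_insert_of_mem _ ha
    have hxI : x ∈ Ideal.span ((insert x s : Finset R) : Set R) :=
      Ideal.subset_span (by simp)
    -- the kernel of `x` is Artinian by induction
    have : IsArtinian R (Submodule.torsionBy R M x) := by
      apply ih (Submodule.torsionBy R M x)
      · intro y
        obtain ⟨n, hn⟩ := hM y
        refine ⟨n, fun a ha => ?_⟩
        apply Subtype.ext
        exact hn a (Ideal.pow_right_mono hle n ha)
      · let φ : Submodule.torsionBySet R (Submodule.torsionBy R M x) (Ideal.span (s : Set R) : Set R)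
            →ₗ[R] Submodule.torsionBySet R M
              (Ideal.span ((insert x s : Finset R) : Set R) : Set R) :=
          { toFun := fun y => ⟨y.1.1, by
              rw [Submodule.mem_torsionBySet_iff]
              rintro ⟨a, ha⟩
              show a • (y.1.1 : M) = 0
              have hcoe : ((insert x s : Finset R) : Set R) = {x} ∪ (s : Set R) := by
                rw [Finset.coe_insert, Set.insert_eq]
              have ha' : a ∈ Ideal.span ({x} ∪ (s : Set R)) := by
                rw [← hcoe]; exact ha
              rw [Ideal.span_union, Submodule.mem_sup] at ha'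
              obtain ⟨b, hb, c, hc, rfl⟩ := ha'
              obtain ⟨r, rfl⟩ := Ideal.mem_span_singleton'.1 hb
              have h1 : x • (y.1.1 : M) = 0 := (Submodule.mem_torsionBy_iff _ _).1 y.1.2
              have h2 : c • (y.1 : Submodule.torsionBy R M x) = 0 :=
                (Submodule.mem_torsionBySet_iff _ _).1 y.2 ⟨c, hc⟩
              have h2' : c • (y.1.1 : M) = 0 := congrArg Subtype.val h2
              rw [add_smul, mul_smul, h1, smul_zero, h2', add_zero]⟩
            map_add' := fun y z => rfl
            map_smul' := fun r y => rfl }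
        have hφ : Function.Injective φ := by
          intro y z hyz
          apply Subtype.ext
          apply Subtype.ext
          have h := congrArg Subtype.val hyz
          exact h
        exact isArtinian_of_injective φ hφ
    apply isArtinian_of_torsionBy x
    intro y
    obtain ⟨n, hn⟩ := hM y
    exact ⟨n, hn _ (Ideal.pow_mem_pow hxI n)⟩

/-- If `I` is a finitely generated ideal, every element of `M` is killed by a power of `I` and the
submodule killed by `I` is Artinian, then `M` is Artinian. -/
theorem isArtinian_of_isPowerTorsion (I : Ideal R) (hI : I.FG)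
    (hM : ∀ y : M, ∃ n : ℕ, ∀ a ∈ I ^ n, a • y = 0)
    [hA : IsArtinian R (Submodule.torsionBySet R M (I : Set R))] : IsArtinian R M := by
  obtain ⟨s, rfl⟩ := hI
  exact isArtinian_of_isPowerTorsion_span s M hM hA

end Groth.Agent.Lib.Helper26.Melkersson
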