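import Mathlib
import Groth.Prelude.Def_CAlgX

namespace Groth.Agent.Lib.Helper26.QRegBC

set_option linter.unusedSectionVars false
set_option linter.style.haveILetI false
set_option maxHeartbeats 400000

open TensorProduct LinearMap

universe u

section FlatExt

variable {A : Type u} [CommRing A]

lemma comm_sq {X X' Y Y' : Type*} [AddCommGroup X] [Module A X] [AddCommGroup X'] [Module A X']
    [AddCommGroup Y] [Module A Y] [AddCommGroup Y'] [Module A Y']
    (f : X →ₗ[A] X') (g : Y →ₗ[A] Y') (t : X ⊗[A] Y) :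
    f.rTensor Y' (g.lTensor X t) = g.lTensor X' (f.rTensor Y t) := by
  rw [← LinearMap.comp_apply, ← LinearMap.comp_apply, rTensor_comp_lTensor, lTensor_comp_rTensor]

/-- An extension of flat modules is flat. -/
theorem flat_of_exact {M1 M2 M3 : Type*} [AddCommGroup M1] [Module A M1] [AddCommGroup M2]
    [Module A M2] [AddCommGroup M3] [Module A M3] (g : M1 →ₗ[A] M2) (f : M2 →ₗ[A] M3)
    (hg : Function.Injective g) (hf : Function.Surjective f) (H : Function.Exact g f)
    [Module.Flat A M1] [Module.Flat A M3] : Module.Flat A M2 := by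
  rw [Module.Flat.iff_lTensor_injective']
  intro I
  rw [injective_iff_map_eq_zero]
  intro x hx
  have h3 : Function.Injective (I.subtype.lTensor M3) :=
    Module.Flat.lTensor_preserves_injective_linearMap _ I.injective_subtype
  have h1 : Function.Injective (I.subtype.lTensor M1) :=
    Module.Flat.lTensor_preserves_injective_linearMap _ I.injective_subtype
  have hgA : Function.Injective (g.rTensor A) :=
    Module.Flat.rTensor_preserves_injective_linearMap g hg
  have hxbar : f.rTensor I x = 0 := by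
    apply h3
    rw [map_zero, ← comm_sq, hx, map_zero]
  have hex : Function.Exact (g.rTensor I) (f.rTensor I) := rTensor_exact I H hf
  obtain ⟨y, rfl⟩ := (hex x).mp hxbar
  have hy : I.subtype.lTensor M1 y = 0 := by
    apply hgA
    rw [map_zero, comm_sq, hx]
  rw [h1 (by rw [hy, map_zero] : I.subtype.lTensor M1 y = I.subtype.lTensor M1 0), map_zero]

end FlatExt

section BC

variable (A B A' : Type u) [CommRing A] [CommRing B] [CommRing A'] [Algebra A B] [Algebra A A']
  {ι : Type} [Fintype ι] [DecidableEq ι] (m : ι → B)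

/-- `c ↦ Σ c_d m_d` as an `A`-linear map. -/
noncomputable def psi : (ι → B) →ₗ[A] B :=
  (Fintype.linearCombination B m).restrictScalars A

lemma psi_apply (c : ι → B) : psi A B m c = ∑ d, c d * m d := by
  simp [psi, Fintype.linearCombination_apply]

lemma key1 (t : A' ⊗[A] (ι → B)) :
    (psi A B m).lTensor A' t
      = ∑ d, (TensorProduct.piRight A A A' (fun _ : ι => B) t) d * ((1 : A') ⊗ₜ[A] m d) := by
  induction t using TensorProduct.induction_on with
  | zero => simp
  | tmul x b =>
    rw [LinearMap.lTensor_tmul, psi_apply, TensorProduct.tmul_sum]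
    refine Finset.sum_congr rfl fun i _ => ?_
    rw [TensorProduct.piRight_apply, TensorProduct.piRightHom_tmul,
      Algebra.TensorProduct.tmul_mul_tmul, mul_one]
  | add x y hx hy =>
    rw [map_add, map_add, hx, hy, ← Finset.sum_add_distrib]
    refine Finset.sum_congr rfl fun i _ => ?_
    rw [Pi.add_apply, add_mul]

/-- the inclusion `B → A' ⊗ B` -/
noncomputable abbrev incl : B →ₐ[A] A' ⊗[A] B := Algebra.TensorProduct.includeRight

lemma lTensor_mk_eq_zero (L : Ideal B) (y : A' ⊗[A] B) (hy : y ∈ L.map (incl A B A')) :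
    (Ideal.Quotient.mkₐ A L).toLinearMap.lTensor A' y = 0 := by
  let ρ : A' ⊗[A] B →ₐ[A] A' ⊗[A] (B ⧸ L) :=
    Algebra.TensorProduct.map (AlgHom.id A A') (Ideal.Quotient.mkₐ A L)
  have hρ : ∀ y, (Ideal.Quotient.mkₐ A L).toLinearMap.lTensor A' y = ρ y := by
    intro y
    induction y using TensorProduct.induction_on with
    | zero => simp
    | tmul a b => rfl
    | add a b ha hb => rw [map_add, map_add, ha, hb]
  rw [hρ]
  have hle : L.map (incl A B A') ≤ RingHom.ker ρ.toRingHom := by
    rw [Ideal.map_le_iff_le_comap]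
    intro l hl
    rw [Ideal.mem_comap, RingHom.mem_ker]
    change ρ ((1 : A') ⊗ₜ[A] l) = 0
    rw [Algebra.TensorProduct.map_tmul]
    have : (Ideal.Quotient.mkₐ A L) l = 0 := Ideal.Quotient.eq_zero_iff_mem.mpr hl
    rw [this, TensorProduct.tmul_zero]
  exact hle hy

theorem baseChange_coeff (L J : Ideal B)
    (hi : ∀ c : ι → B, psi A B m c ∈ L → ∀ d, c d ∈ J)
    (hfl : Module.Flat A (B ⧸ (L ⊔ Ideal.span (Set.range m))))
    (c' : ι → A' ⊗[A] B)
    (hc' : (∑ d, c' d * ((1 : A') ⊗ₜ[A] m d)) ∈ L.map (incl A B A')) (d : ι) :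
    c' d ∈ J.map (incl A B A') := by
  set L2 : Ideal B := L ⊔ Ideal.span (Set.range m) with hL2
  let q : B →ₗ[A] B ⧸ L := (Ideal.Quotient.mkₐ A L).toLinearMap
  let fct : (B ⧸ L) →ₗ[A] (B ⧸ L2) := (Ideal.Quotient.factorₐ A (le_sup_left : L ≤ L2)).toLinearMap
  have hfct : Function.Surjective fct := by
    intro y
    obtain ⟨b, rfl⟩ := Ideal.Quotient.mk_surjective y
    exact ⟨Ideal.Quotient.mk L b, rfl⟩
  let Φ : (ι → B) →ₗ[A] B ⧸ L := q ∘ₗ psi A B m
  have hΦ : ∀ c, Φ c = Ideal.Quotient.mk L (∑ d, c d * m d) := fun c => by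
    change Ideal.Quotient.mk L (psi A B m c) = _
    rw [psi_apply]
  let N := LinearMap.range Φ
  have hexact : Function.Exact N.subtype fct := by
    intro y
    constructor
    · intro hy
      obtain ⟨b, rfl⟩ := Ideal.Quotient.mk_surjective y
      have hb : b ∈ L2 := by
        have : Ideal.Quotient.mk L2 b = 0 := hy
        exact Ideal.Quotient.eq_zero_iff_mem.mp this
      rw [hL2, Submodule.mem_sup] at hb
      obtain ⟨l, hl, s, hs, rfl⟩ := hb
      rw [Ideal.mem_span_range_iff_exists_fun] at hs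
      obtain ⟨c, rfl⟩ := hs
      refine ⟨⟨Φ c, c, rfl⟩, ?_⟩
      change Φ c = _
      rw [hΦ, map_add, Ideal.Quotient.eq_zero_iff_mem.mpr hl, zero_add]
    · rintro ⟨⟨_, c, rfl⟩, rfl⟩
      change Ideal.Quotient.mk L2 (psi A B m c) = 0
      rw [Ideal.Quotient.eq_zero_iff_mem, psi_apply, hL2]
      refine Ideal.mem_sup_right ?_
      rw [Ideal.mem_span_range_iff_exists_fun]
      exact ⟨c, rfl⟩
  have hinjN : Function.Injective (N.subtype.lTensor A') :=
    LinearMap.lTensor_injective_of_exact_of_flat fct hfct N.subtype N.injective_subtype hexact A'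
  let Φ' : (ι → B) →ₗ[A] N := Φ.rangeRestrict
  have hΦ'surj : Function.Surjective Φ' := LinearMap.surjective_rangeRestrict Φ
  have hcomp : N.subtype ∘ₗ Φ' = Φ := LinearMap.ext fun _ => rfl
  have hex2 : Function.Exact ((LinearMap.ker Φ').subtype.lTensor A') (Φ'.lTensor A') :=
    lTensor_exact A' (LinearMap.exact_subtype_ker_map Φ') hΦ'surj
  set e := TensorProduct.piRight A A A' (fun _ : ι => B) with he
  obtain ⟨t, rfl⟩ := e.surjective c'
  have h1 : Φ.lTensor A' t = 0 := by
    change (q ∘ₗ psi A B m).lTensor A' t = 0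
    rw [LinearMap.lTensor_comp_apply]
    apply lTensor_mk_eq_zero
    rw [key1]
    exact hc'
  have h2 : Φ'.lTensor A' t = 0 := by
    apply hinjN
    rw [map_zero, ← LinearMap.comp_apply, ← LinearMap.lTensor_comp, hcomp]
    exact h1
  obtain ⟨s, rfl⟩ := (hex2 t).mp h2
  clear h2 h1 hc'
  induction s using TensorProduct.induction_on with
  | zero => simp
  | tmul x κ =>
    rw [LinearMap.lTensor_tmul, he, TensorProduct.piRight_apply, TensorProduct.piRightHom_tmul]
    have hκ : Φ κ.1 = 0 := by
      have := κ.2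
      rw [LinearMap.mem_ker] at this
      have h3 := congrArg Subtype.val this
      exact h3
    have hκ2 : psi A B m κ.1 ∈ L := Ideal.Quotient.eq_zero_iff_mem.mp hκ
    have hj := hi κ.1 hκ2 d
    have : x ⊗ₜ[A] (κ.1 d) = (x ⊗ₜ[A] (1 : B)) * (incl A B A' (κ.1 d)) := by
      change _ = (x ⊗ₜ[A] (1 : B)) * ((1 : A') ⊗ₜ[A] (κ.1 d))
      rw [Algebra.TensorProduct.tmul_mul_tmul, mul_one, one_mul]
    change x ⊗ₜ[A] (κ.1 d) ∈ _
    rw [this]
    exact Ideal.mul_mem_left _ _ (Ideal.mem_map_of_mem _ hj)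
  | add x y hx hy =>
    rw [map_add, map_add]
    exact Ideal.add_mem _ hx hy

end BC

end Groth.Agent.Lib.Helper26.QRegBC
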