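import Mathlib
import Groth.Prelude.Def_CAlgX
import Groth.Agent.Lib.Helper26.QRegBC

namespace Groth.Agent.Lib.Helper26.QRegBC

set_option linter.unusedSectionVars false
set_option linter.style.haveILetI false
set_option maxHeartbeats 400000

open TensorProduct LinearMap

universe u

section Mon

variable {B : Type u} [CommRing B] {r : ℕ} (f : Fin r → B)

/-- exponents of degree `n` -/
def Mn (r n : ℕ) : Finset (Fin r →₀ ℕ) := (Finset.univ).finsuppAntidiag n

lemma mem_Mn {n : ℕ} {d : Fin r →₀ ℕ} : d ∈ Mn r n ↔ ∑ i, d i = n := by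
  simp [Mn]

lemma mem_Mn' {n : ℕ} {d : Fin r →₀ ℕ} : d ∈ Mn r n ↔ d.degree = n := by
  rw [mem_Mn, Finsupp.degree_eq_sum]

/-- value of a monomial at `f` -/
def mval (d : Fin r →₀ ℕ) : B := d.prod fun i e => f i ^ e

lemma mval_eq (d : Fin r →₀ ℕ) : mval f d = ∏ i, f i ^ d i := by
  rw [mval, Finsupp.prod_fintype]
  intro i
  exact pow_zero _

lemma mval_mem {n : ℕ} {d : Fin r →₀ ℕ} (hd : d ∈ Mn r n) :
    mval f d ∈ Ideal.span (Set.range f) ^ n := by
  rw [mval_eq, ← mem_Mn.mp hd, ← Finset.prod_pow_eq_pow_sum]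
  refine Ideal.prod_mem_prod fun i _ => Ideal.pow_mem_pow (Ideal.subset_span (Set.mem_range_self i)) _

lemma mval_add_single (d : Fin r →₀ ℕ) (i : Fin r) :
    mval f (d + Finsupp.single i 1) = f i * mval f d := by
  rw [mval, mval, Finsupp.prod_add_index', Finsupp.prod_single_index, pow_one, mul_comm]
  · exact pow_zero _
  · intro a; exact pow_zero _
  · intro a b c; exact pow_add _ _ _

/-- the monomials of degree `n` as a family -/
def mfam (n : ℕ) : ↥(Mn r n) → B := fun d => mval f d.1

lemma pow_le_span (n : ℕ) :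
    Ideal.span (Set.range f) ^ n ≤ Ideal.span (Set.range (mfam f n)) := by
  induction n with
  | zero =>
    rw [pow_zero, Ideal.one_eq_top]
    refine le_of_eq (Eq.symm ?_)
    rw [Ideal.eq_top_iff_one]
    have h0 : (0 : Fin r →₀ ℕ) ∈ Mn r 0 := by rw [mem_Mn]; simp
    refine Ideal.subset_span ⟨⟨0, h0⟩, ?_⟩
    simp [mfam, mval]
  | succ n ih =>
    rw [pow_succ', Ideal.mul_le]
    intro a ha b hb
    have hb' := ih hb
    induction ha using Submodule.span_induction with
    | mem a ha =>
      obtain ⟨i, rfl⟩ := ha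
      clear hb
      induction hb' using Submodule.span_induction with
      | mem b hb2 =>
        obtain ⟨d, rfl⟩ := hb2
        have hd : d.1 + Finsupp.single i 1 ∈ Mn r (n + 1) := by
          rw [mem_Mn', map_add, Finsupp.degree_single, mem_Mn'.mp d.2]
        refine Ideal.subset_span ⟨⟨_, hd⟩, ?_⟩
        simp only [mfam]
        rw [mval_add_single]
      | zero => simp
      | add x y _ _ hx hy => rw [mul_add]; exact Ideal.add_mem _ hx hy
      | smul c x _ hx =>
        rw [smul_eq_mul, mul_left_comm]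
        exact Ideal.mul_mem_left _ _ hx
    | zero => simp
    | add x y _ _ hx hy => rw [add_mul]; exact Ideal.add_mem _ hx hy
    | smul c x _ hx =>
      rw [smul_eq_mul, mul_assoc]
      exact Ideal.mul_mem_left _ _ hx

lemma span_mfam (n : ℕ) :
    Ideal.span (Set.range (mfam f n)) = Ideal.span (Set.range f) ^ n := by
  apply le_antisymm
  · rw [Ideal.span_le]
    rintro _ ⟨d, rfl⟩
    exact mval_mem f d.2
  · exact pow_le_span f n

lemma sup_span_mfam (n : ℕ) :
    Ideal.span (Set.range f) ^ (n + 1) ⊔ Ideal.span (Set.range (mfam f n))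
      = Ideal.span (Set.range f) ^ n := by
  rw [span_mfam]
  exact sup_eq_right.mpr (Ideal.pow_le_pow_right (Nat.le_succ n))

/-- the polynomial attached to a coefficient family -/
noncomputable def polyOf {n : ℕ} (c : ↥(Mn r n) → B) : MvPolynomial (Fin r) B :=
  ∑ d : ↥(Mn r n), MvPolynomial.monomial d.1 (c d)

lemma polyOf_hom {n : ℕ} (c : ↥(Mn r n) → B) : (polyOf c).IsHomogeneous n := by
  refine MvPolynomial.IsHomogeneous.sum _ _ _ fun d _ => ?_
  exact MvPolynomial.isHomogeneous_monomial _ (mem_Mn'.mp d.2)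

lemma polyOf_eval {n : ℕ} (c : ↥(Mn r n) → B) :
    MvPolynomial.eval f (polyOf c) = ∑ d, c d * mfam f n d := by
  rw [polyOf, map_sum]
  refine Finset.sum_congr rfl fun d _ => ?_
  rw [MvPolynomial.eval_monomial]
  rfl

lemma polyOf_coeff {n : ℕ} (c : ↥(Mn r n) → B) (d : ↥(Mn r n)) :
    (polyOf c).coeff d.1 = c d := by
  rw [polyOf, MvPolynomial.coeff_sum]
  rw [Finset.sum_eq_single d]
  · rw [MvPolynomial.coeff_monomial, if_pos rfl]
  · intro b _ hb
    rw [MvPolynomial.coeff_monomial, if_neg]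
    intro h
    exact hb (Subtype.ext h)
  · intro h
    exact absurd (Finset.mem_univ d) h

/-- quasi-regularity in terms of coefficient families -/
lemma qreg_coeff (hq : CAlgX.IsQuasiRegular f) (n : ℕ) (c : ↥(Mn r n) → B)
    (hc : ∑ d, c d * mfam f n d ∈ Ideal.span (Set.range f) ^ (n + 1)) (d : ↥(Mn r n)) :
    c d ∈ Ideal.span (Set.range f) := by
  have := hq n (polyOf c) (polyOf_hom c) (by rw [polyOf_eval]; exact hc) d.1
  rwa [polyOf_coeff] at this

/-- a homogeneous polynomial is `polyOf` of its coefficients -/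
lemma eval_of_hom {n : ℕ} (P : MvPolynomial (Fin r) B) (hP : P.IsHomogeneous n) :
    MvPolynomial.eval f P = ∑ d : ↥(Mn r n), P.coeff d.1 * mfam f n d := by
  rw [MvPolynomial.eval_eq]
  have hsub : P.support ⊆ Mn r n := by
    intro d hd
    rw [mem_Mn']
    have := hP (MvPolynomial.mem_support_iff.mp hd)
    rw [Finsupp.degree_eq_weight_one]
    exact this
  have e : ∑ d : ↥(Mn r n), P.coeff d.1 * mfam f n d = ∑ d ∈ Mn r n, P.coeff d * mval f d :=
    Finset.sum_coe_sort (Mn r n) (fun d => P.coeff d * mval f d)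
  rw [e, ← Finset.sum_subset hsub]
  · rfl
  · intro d _ hd
    rw [MvPolynomial.notMem_support_iff.mp hd, zero_mul]

end Mon

end Groth.Agent.Lib.Helper26.QRegBC
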