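import Mathlib

namespace Groth.Agent.Lib.Helper26.FlatQuotPure

set_option linter.unusedSectionVars false
set_option linter.style.haveILetI false

open TensorProduct LinearMap

universe u v w

variable {A : Type u} [CommRing A]

lemma comm_sq {X X' Y Y' : Type*} [AddCommGroup X] [Module A X] [AddCommGroup X'] [Module A X']
    [AddCommGroup Y] [Module A Y] [AddCommGroup Y'] [Module A Y']
    (f : X →ₗ[A] X') (g : Y →ₗ[A] Y') (t : X ⊗[A] Y) :
    f.rTensor Y' (g.lTensor X t) = g.lTensor X' (f.rTensor Y t) := by
  rw [← LinearMap.comp_apply, ← LinearMap.comp_apply, rTensor_comp_lTensor, lTensor_comp_rTensor]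

/-- Diagram chase with an arbitrary flat presentation. -/
theorem aux {M : Type*} [AddCommGroup M] [Module A M]
    (N : Submodule A M) [Module.Flat A (M ⧸ N)] {P : Type*} [AddCommGroup P] [Module A P]
    {F : Type*} [AddCommGroup F] [Module A F] [Module.Flat A F]
    (π : F →ₗ[A] P) (hπ : Function.Surjective π) :
    Function.Injective (N.subtype.lTensor P) := by
  have rowExact : ∀ (X : Type _) [AddCommGroup X] [Module A X],
      Function.Exact ((LinearMap.ker π).subtype.rTensor X) (π.rTensor X) := fun X _ _ =>
    rTensor_exact X (LinearMap.exact_subtype_ker_map π) hπ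
  have colExact : ∀ (Y : Type _) [AddCommGroup Y] [Module A Y],
      Function.Exact (N.subtype.lTensor Y) (N.mkQ.lTensor Y) := fun Y _ _ =>
    lTensor_exact Y (LinearMap.exact_subtype_mkQ N) (Submodule.mkQ_surjective N)
  have inj1 : Function.Injective (N.subtype.lTensor F) :=
    Module.Flat.lTensor_preserves_injective_linearMap N.subtype N.injective_subtype
  have inj2 : Function.Injective ((LinearMap.ker π).subtype.rTensor (M ⧸ N)) :=
    Module.Flat.rTensor_preserves_injective_linearMap _ (LinearMap.ker π).injective_subtype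
  rw [injective_iff_map_eq_zero]
  intro x hx
  obtain ⟨y, rfl⟩ := rTensor_surjective N hπ x
  have h1 : π.rTensor M (N.subtype.lTensor F y) = 0 := by
    rw [comm_sq]
    exact hx
  obtain ⟨z, hz⟩ := (rowExact M (N.subtype.lTensor F y)).mp h1
  have h2 : (LinearMap.ker π).subtype.rTensor (M ⧸ N) (N.mkQ.lTensor _ z) = 0 := by
    rw [comm_sq, hz, ← LinearMap.comp_apply, ← LinearMap.lTensor_comp]
    have : N.mkQ ∘ₗ N.subtype = 0 := by
      ext n
      simp
    rw [this, LinearMap.lTensor_zero, LinearMap.zero_apply]
  have h3 : N.mkQ.lTensor _ z = 0 := inj2 (by rw [h2, map_zero])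
  obtain ⟨w, hw⟩ := (colExact _ z).mp h3
  have h4 : N.subtype.lTensor F ((LinearMap.ker π).subtype.rTensor N w) = N.subtype.lTensor F y := by
    rw [← comm_sq, hw, hz]
  have h5 : (LinearMap.ker π).subtype.rTensor N w = y := inj1 h4
  rw [← h5, ← LinearMap.comp_apply, ← LinearMap.rTensor_comp]
  have : π ∘ₗ (LinearMap.ker π).subtype = 0 := LinearMap.ext fun k => LinearMap.mem_ker.mp k.2
  rw [this, LinearMap.rTensor_zero, LinearMap.zero_apply]

/-- If `M ⧸ N` is flat, then `N → M` is universally injective. -/
theorem lTensor_injective_of_flat_quotient {M : Type v} [AddCommGroup M] [Module A M]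
    (N : Submodule A M) [Module.Flat A (M ⧸ N)] (P : Type w) [AddCommGroup P] [Module A P] :
    Function.Injective (N.subtype.lTensor P) :=
  aux N (Finsupp.linearCombination A (id : P → P)) (Finsupp.linearCombination_id_surjective A P)

end Groth.Agent.Lib.Helper26.FlatQuotPure
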