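import Mathlib
import Groth.Prelude.Def_CAlgX
import Groth.Agent.Lib.Helper26.FlatQuotPure

namespace Groth.Agent.Lib.Helper26.H1RegBC

set_option linter.unusedSectionVars false
set_option linter.style.haveILetI false

open TensorProduct

universe u

variable (A B A' : Type u) [CommRing A] [CommRing B] [CommRing A'] [Algebra A B] [Algebra A A']
  (r : ℕ) (f : Fin r → B)

/-- `a ↦ Σ aᵢ fᵢ` as an `A`-linear map. -/
noncomputable def phi : (Fin r → B) →ₗ[A] B :=
  (Fintype.linearCombination B f).restrictScalars A

lemma phi_apply (a : Fin r → B) : phi A B r f a = ∑ i, a i * f i := by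
  simp [phi, Fintype.linearCombination_apply]

/-- the ideal as an `A`-submodule -/
def JA : Submodule A B := (Ideal.span (Set.range f)).restrictScalars A

lemma phi_mem (a : Fin r → B) : phi A B r f a ∈ JA A B r f := by
  change phi A B r f a ∈ Ideal.span (Set.range f)
  rw [Ideal.mem_span_range_iff_exists_fun]
  exact ⟨a, (phi_apply A B r f a).symm⟩

noncomputable def phi' : (Fin r → B) →ₗ[A] JA A B r f :=
  (phi A B r f).codRestrict (JA A B r f) (phi_mem A B r f)

lemma phi'_surj : Function.Surjective (phi' A B r f) := by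
  rintro ⟨x, hx⟩
  change x ∈ Ideal.span (Set.range f) at hx
  rw [Ideal.mem_span_range_iff_exists_fun] at hx
  obtain ⟨a, ha⟩ := hx
  refine ⟨a, Subtype.ext ?_⟩
  change phi A B r f a = x
  rw [phi_apply, ha]

lemma subtype_comp_phi' : (JA A B r f).subtype ∘ₗ phi' A B r f = phi A B r f := by
  ext a
  rfl

/-- the trivial relations in `B^r` -/
def T : Submodule B (Fin r → B) :=
  Submodule.span B {v : Fin r → B | ∃ i j : Fin r, v = Pi.single i (f j) - Pi.single j (f i)}

/-- the trivial relations in `B'^r` -/
def T' : Submodule (A' ⊗[A] B) (Fin r → A' ⊗[A] B) :=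
  Submodule.span (A' ⊗[A] B) {v : Fin r → A' ⊗[A] B | ∃ i j : Fin r,
    v = Pi.single i ((1 : A') ⊗ₜ[A] f j) - Pi.single j ((1 : A') ⊗ₜ[A] f i)}

lemma key1 (t : A' ⊗[A] (Fin r → B)) :
    (phi A B r f).lTensor A' t
      = ∑ i, (TensorProduct.piRight A A A' (fun _ : Fin r => B) t) i * ((1 : A') ⊗ₜ[A] f i) := by
  induction t using TensorProduct.induction_on with
  | zero => simp
  | tmul x b =>
    rw [LinearMap.lTensor_tmul, phi_apply, TensorProduct.tmul_sum]
    refine Finset.sum_congr rfl fun i _ => ?_
    rw [TensorProduct.piRight_apply, TensorProduct.piRightHom_tmul,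
      Algebra.TensorProduct.tmul_mul_tmul, mul_one]
  | add x y hx hy =>
    rw [map_add, map_add, hx, hy, ← Finset.sum_add_distrib]
    refine Finset.sum_congr rfl fun i _ => ?_
    rw [Pi.add_apply, add_mul]

lemma key2 (x : A') (κ : Fin r → B) (hκ : κ ∈ T B r f) :
    TensorProduct.piRight A A A' (fun _ : Fin r => B) (x ⊗ₜ[A] κ) ∈ T' A B A' r f := by
  induction hκ using Submodule.span_induction with
  | mem v hv =>
    obtain ⟨i, j, rfl⟩ := hv
    have : TensorProduct.piRight A A A' (fun _ : Fin r => B)
        (x ⊗ₜ[A] (Pi.single i (f j) - Pi.single j (f i)))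
        = (x ⊗ₜ[A] (1 : B)) • (Pi.single i ((1 : A') ⊗ₜ[A] f j) - Pi.single j ((1 : A') ⊗ₜ[A] f i)) := by
      rw [TensorProduct.piRight_apply, TensorProduct.piRightHom_tmul]
      funext l
      simp only [Pi.sub_apply, Pi.smul_apply, smul_eq_mul, TensorProduct.tmul_sub, mul_sub]
      congr 1
      · by_cases h : l = i
        · subst h
          simp [Algebra.TensorProduct.tmul_mul_tmul]
        · simp [Pi.single_eq_of_ne h]
      · by_cases h : l = j
        · subst h
          simp [Algebra.TensorProduct.tmul_mul_tmul]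
        · simp [Pi.single_eq_of_ne h]
    rw [this]
    exact Submodule.smul_mem _ _ (Submodule.subset_span ⟨i, j, rfl⟩)
  | zero => simp
  | add v w _ _ hv hw =>
    rw [TensorProduct.tmul_add, map_add]
    exact Submodule.add_mem _ hv hw
  | smul b v _ hv =>
    have : TensorProduct.piRight A A A' (fun _ : Fin r => B) (x ⊗ₜ[A] (b • v))
        = ((1 : A') ⊗ₜ[A] b) • TensorProduct.piRight A A A' (fun _ : Fin r => B) (x ⊗ₜ[A] v) := by
      simp only [TensorProduct.piRight_apply, TensorProduct.piRightHom_tmul]
      funext l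
      simp [Algebra.TensorProduct.tmul_mul_tmul]
    rw [this]
    exact Submodule.smul_mem _ _ hv

theorem main (hflat : Module.Flat A (B ⧸ Ideal.span (Set.range f))) (hq : CAlgX.IsH1Regular f) :
    CAlgX.IsH1Regular (fun i => ((1 : A') ⊗ₜ[A] f i : TensorProduct A A' B)) := by
  intro a' ha'
  change a' ∈ T' A B A' r f
  set e := TensorProduct.piRight A A A' (fun _ : Fin r => B) with he
  obtain ⟨t, rfl⟩ := e.surjective a'
  have h1 : (phi A B r f).lTensor A' t = 0 := by
    rw [key1]
    exact ha'
  haveI : Module.Flat A (B ⧸ JA A B r f) :=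
    Module.Flat.of_linearEquiv (Submodule.Quotient.restrictScalarsEquiv A (Ideal.span (Set.range f)))
  have hinj := FlatQuotPure.lTensor_injective_of_flat_quotient (JA A B r f) A'
  have h2 : (phi' A B r f).lTensor A' t = 0 := by
    apply hinj
    rw [map_zero, ← LinearMap.comp_apply, ← LinearMap.lTensor_comp, subtype_comp_phi']
    exact h1
  have hex : Function.Exact ((LinearMap.ker (phi' A B r f)).subtype.lTensor A')
      ((phi' A B r f).lTensor A') :=
    lTensor_exact A' (LinearMap.exact_subtype_ker_map (phi' A B r f)) (phi'_surj A B r f)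
  obtain ⟨s, rfl⟩ := (hex t).mp h2
  clear h2 h1 ha'
  induction s using TensorProduct.induction_on with
  | zero => simp
  | tmul x κ =>
    rw [LinearMap.lTensor_tmul]
    apply key2
    apply hq
    have := κ.2
    rw [LinearMap.mem_ker] at this
    have h3 : phi A B r f κ.1 = 0 := by
      have := congrArg Subtype.val this
      exact this
    rw [phi_apply] at h3
    exact h3
  | add x y hx hy =>
    rw [map_add, map_add]
    exact Submodule.add_mem _ hx hy

end Groth.Agent.Lib.Helper26.H1RegBC
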