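import Mathlib
import Groth.Prelude.Def_CAlgX
import Groth.Agent.Lib.Helper26.QRegBC
import Groth.Agent.Lib.Helper26.QRegMon

namespace Groth.Agent.Lib.Helper26.QRegBC

set_option linter.unusedSectionVars false
set_option linter.style.haveILetI false
set_option maxHeartbeats 400000

open TensorProduct LinearMap

universe u

section Ext

variable (A B : Type u) [CommRing A] [CommRing B] [Algebra A B]
  {ι : Type} [Fintype ι] [DecidableEq ι] (m : ι → B)

lemma flat_of_eq_top (K : Ideal B) (h : K = ⊤) : Module.Flat A (B ⧸ K) := by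
  subst h
  haveI : Subsingleton (B ⧸ (⊤ : Ideal B)) := Ideal.Quotient.subsingleton_iff.mpr rfl
  infer_instance

lemma flat_congr {K K' : Ideal B} (h : K = K') (hK : Module.Flat A (B ⧸ K)) :
    Module.Flat A (B ⧸ K') := by
  subst h
  exact hK

lemma flat_pi (M : Type u) [AddCommGroup M] [Module A M] [Module.Flat A M] :
    Module.Flat A (ι → M) := by
  classical
  exact Module.Flat.of_linearEquiv
    ((Finsupp.linearEquivFunOnFinite A M ι).symm.trans (finsuppLequivDFinsupp A))

/-- extension step -/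
theorem flat_ext (L J : Ideal B)
    (hi : ∀ c : ι → B, psi A B m c ∈ L ↔ ∀ d, c d ∈ J)
    (hJ : Module.Flat A (B ⧸ J))
    (hfl : Module.Flat A (B ⧸ (L ⊔ Ideal.span (Set.range m)))) :
    Module.Flat A (B ⧸ L) := by
  set L2 : Ideal B := L ⊔ Ideal.span (Set.range m) with hL2
  let q : B →ₗ[A] B ⧸ L := (Ideal.Quotient.mkₐ A L).toLinearMap
  let fct : (B ⧸ L) →ₗ[A] (B ⧸ L2) := (Ideal.Quotient.factorₐ A (le_sup_left : L ≤ L2)).toLinearMap
  have hfct : Function.Surjective fct := by
    intro y
    obtain ⟨b, rfl⟩ := Ideal.Quotient.mk_surjective y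
    exact ⟨Ideal.Quotient.mk L b, rfl⟩
  let Φ : (ι → B) →ₗ[A] B ⧸ L := q ∘ₗ psi A B m
  have hΦ : ∀ c, Φ c = Ideal.Quotient.mk L (∑ d, c d * m d) := fun c => by
    change Ideal.Quotient.mk L (psi A B m c) = _
    rw [psi_apply]
  let Pq : (ι → B) →ₗ[A] (ι → B ⧸ J) := (Ideal.Quotient.mkₐ A J).toLinearMap.compLeft ι
  have hPqsurj : Function.Surjective Pq := by
    intro y
    choose c hc using fun d => Ideal.Quotient.mk_surjective (y d)
    exact ⟨c, funext hc⟩
  have hker : LinearMap.ker Pq = LinearMap.ker Φ := by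
    ext c
    rw [LinearMap.mem_ker, LinearMap.mem_ker]
    have h1 : Φ c = 0 ↔ psi A B m c ∈ L := Ideal.Quotient.eq_zero_iff_mem
    rw [h1, hi]
    constructor
    · intro h d
      have := congrFun h d
      exact Ideal.Quotient.eq_zero_iff_mem.mp this
    · intro h
      funext d
      exact Ideal.Quotient.eq_zero_iff_mem.mpr (h d)
  let g : ((ι → B) ⧸ LinearMap.ker Pq) →ₗ[A] B ⧸ L :=
    (LinearMap.ker Pq).liftQ Φ (le_of_eq hker)
  have hg : Function.Injective g := by
    rw [← LinearMap.ker_eq_bot]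
    exact Submodule.ker_liftQ_eq_bot _ _ _ (le_of_eq hker.symm)
  have hrange : LinearMap.range g = LinearMap.range Φ := Submodule.range_liftQ _ _ _
  have hexact : Function.Exact g fct := by
    intro y
    change fct y = 0 ↔ y ∈ LinearMap.range g
    rw [hrange]
    constructor
    · intro hy
      obtain ⟨b, rfl⟩ := Ideal.Quotient.mk_surjective y
      have hb : b ∈ L2 := by
        have : Ideal.Quotient.mk L2 b = 0 := hy
        exact Ideal.Quotient.eq_zero_iff_mem.mp this
      rw [hL2, Submodule.mem_sup] at hb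
      obtain ⟨l, hl, s, hs, rfl⟩ := hb
      rw [Ideal.mem_span_range_iff_exists_fun] at hs
      obtain ⟨c, rfl⟩ := hs
      refine ⟨c, ?_⟩
      rw [hΦ, map_add, Ideal.Quotient.eq_zero_iff_mem.mpr hl, zero_add]
    · rintro ⟨c, rfl⟩
      change Ideal.Quotient.mk L2 (psi A B m c) = 0
      rw [Ideal.Quotient.eq_zero_iff_mem, psi_apply, hL2]
      refine Ideal.mem_sup_right ?_
      rw [Ideal.mem_span_range_iff_exists_fun]
      exact ⟨c, rfl⟩
  haveI : Module.Flat A (ι → B ⧸ J) := flat_pi A (B ⧸ J)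
  haveI : Module.Flat A ((ι → B) ⧸ LinearMap.ker Pq) :=
    Module.Flat.of_linearEquiv (LinearMap.quotKerEquivOfSurjective Pq hPqsurj)
  exact flat_of_exact g fct hg hfct hexact

end Ext

section Main

variable (A B A' : Type u) [CommRing A] [CommRing B] [CommRing A'] [Algebra A B] [Algebra A A']
  (r : ℕ) (f : Fin r → B)

lemma hi_iff (hq : CAlgX.IsQuasiRegular f) (n : ℕ) (c : ↥(Mn r n) → B) :
    psi A B (mfam f n) c ∈ Ideal.span (Set.range f) ^ (n + 1) ↔
      ∀ d, c d ∈ Ideal.span (Set.range f) := by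
  rw [psi_apply]
  constructor
  · intro h d
    exact qreg_coeff f hq n c h d
  · intro h
    refine Ideal.sum_mem _ fun d _ => ?_
    rw [pow_succ']
    exact Ideal.mul_mem_mul (h d) (mval_mem f d.2)

theorem flat_pow (hflat : Module.Flat A (B ⧸ Ideal.span (Set.range f)))
    (hq : CAlgX.IsQuasiRegular f) (n : ℕ) :
    Module.Flat A (B ⧸ Ideal.span (Set.range f) ^ n) := by
  induction n with
  | zero => exact flat_of_eq_top A B _ (by rw [pow_zero, Ideal.one_eq_top])
  | succ n ih =>
    refine flat_ext A B (mfam f n) _ _ (hi_iff A B r f hq n) hflat ?_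
    exact flat_congr A B (sup_span_mfam f n).symm ih

end Main

end Groth.Agent.Lib.Helper26.QRegBC
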