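import Mathlib
import Groth.Prelude.Def_CAlgX
import Groth.Agent.Lib.Helper26.QRegFlat

namespace Groth.Agent.Lib.Helper26.QRegBC

set_option linter.unusedSectionVars false
set_option linter.style.haveILetI false
set_option maxHeartbeats 400000

open TensorProduct LinearMap

universe u

variable (A B A' : Type u) [CommRing A] [CommRing B] [CommRing A'] [Algebra A B] [Algebra A A']
  (r : ℕ) (f : Fin r → B)

lemma span_f' :
    Ideal.span (Set.range (fun i => ((1 : A') ⊗ₜ[A] f i : A' ⊗[A] B)))
      = (Ideal.span (Set.range f)).map (incl A B A') := by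
  rw [Ideal.map_span, ← Set.range_comp]
  rfl

lemma mval_f' (d : Fin r →₀ ℕ) :
    mval (fun i => ((1 : A') ⊗ₜ[A] f i : A' ⊗[A] B)) d = (1 : A') ⊗ₜ[A] mval f d := by
  rw [mval_eq, mval_eq]
  change _ = incl A B A' (∏ i, f i ^ d i)
  rw [map_prod]
  refine Finset.prod_congr rfl fun i _ => ?_
  rw [map_pow]
  rfl

theorem main (hflat : Module.Flat A (B ⧸ Ideal.span (Set.range f)))
    (hq : CAlgX.IsQuasiRegular f) :
    CAlgX.IsQuasiRegular (fun i => ((1 : A') ⊗ₜ[A] f i : TensorProduct A A' B)) := by
  intro n P' hP' hev d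
  rw [span_f'] at hev ⊢
  by_cases hd : d ∈ Mn r n
  · have key := baseChange_coeff A B A' (mfam f n) (Ideal.span (Set.range f) ^ (n + 1))
      (Ideal.span (Set.range f)) (fun c hc => (hi_iff A B r f hq n c).mp hc)
      (flat_congr A B (sup_span_mfam f n).symm (flat_pow A B r f hflat hq n))
      (fun d => P'.coeff d.1) ?_ ⟨d, hd⟩
    · exact key
    · rw [← Ideal.map_pow] at hev
      rw [eval_of_hom _ P' hP'] at hev
      convert hev using 2
      rename_i d' _
      rw [mfam, mfam, mval_f']
  · have : P'.coeff d = 0 := by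
      by_contra h
      apply hd
      rw [mem_Mn']
      have := hP' h
      rw [Finsupp.degree_eq_weight_one]
      exact this
    rw [this]
    exact Ideal.zero_mem _

end Groth.Agent.Lib.Helper26.QRegBC
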