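import Mathlib
import Groth.Prelude.Def_CxOX

set_option maxHeartbeats 400000
set_option linter.style.haveILetI false
set_option linter.unusedSectionVars false

universe u

open CategoryTheory CategoryTheory.Limits AlgebraicGeometry

namespace Groth.Agent.Lib.Helper26.MVMod1

open Scheme.Modules

variable {X : Scheme.{u}}

/-- `j_* j^*` for the open `O` -/
noncomputable abbrev A (O : X.Opens) : X.Modules ⥤ X.Modules :=
  restrictFunctor O.ι ⋙ pushforward O.ι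

/-- the unit `M ⟶ j_* j^* M` -/
noncomputable abbrev η (O : X.Opens) : 𝟭 X.Modules ⟶ A O := (restrictAdjunction O.ι).unit

lemma η_app_app (O : X.Opens) (M : X.Modules) (T : X.Opens) :
    ((η O).app M).app T = M.presheaf.map (homOfLE (O.ι.image_preimage_le T)).op := rfl

/-- restriction after `j_* j^*` for a smaller open -/
noncomputable def g {O O' : X.Opens} (h : O' ≤ O) :
    A O ⋙ restrictFunctor O'.ι ≅ restrictFunctor O'.ι :=
  Functor.isoWhiskerLeft (A O)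
      (restrictFunctorCongr (X.homOfLE_ι h).symm ≪≫ restrictFunctorComp (X.homOfLE h) O.ι) ≪≫
    Functor.isoWhiskerLeft (restrictFunctor O.ι)
      (Functor.isoWhiskerRight (restrictFunctorAdjCounitIso O.ι) (restrictFunctor (X.homOfLE h))) ≪≫
    (restrictFunctorCongr (X.homOfLE_ι h).symm ≪≫ restrictFunctorComp (X.homOfLE h) O.ι).symm


lemma le_aux {O O' : X.Opens} (h : O' ≤ O) (T' : O'.toScheme.Opens) :
    O'.ι ''ᵁ T' ≤ O.ι ''ᵁ (O.ι ⁻¹ᵁ (O'.ι ''ᵁ T')) := by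
  intro x hx
  obtain ⟨y, hy, rfl⟩ := hx
  refine ⟨⟨O'.ι y, h y.2⟩, ?_, rfl⟩
  exact ⟨y, hy, rfl⟩

/-- restriction of sections -/
noncomputable def res (M : X.Modules) {T T' : X.Opens} (h : T' ≤ T) : Γ(M, T) ⟶ Γ(M, T') :=
  M.presheaf.map (homOfLE h).op

lemma res_comp (M : X.Modules) {T T' T'' : X.Opens} (h : T' ≤ T) (h' : T'' ≤ T') :
    res M h ≫ res M h' = res M (h'.trans h) := by
  dsimp only [res]
  rw [← Functor.map_comp]
  rfl

lemma res_eq (M : X.Modules) {T T' : X.Opens} (i : Opposite.op T ⟶ Opposite.op T') :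
    M.presheaf.map i = res M (leOfHom i.unop) := rfl

lemma img_eq {O O' : X.Opens} (h : O' ≤ O) (T' : O'.toScheme.Opens) :
    O.ι ''ᵁ (X.homOfLE h ''ᵁ T') = O'.ι ''ᵁ T' := by
  apply TopologicalSpace.Opens.ext
  have h1 : ∀ y, O'.ι y = O.ι (X.homOfLE h y) := fun y => by
    rw [← Scheme.Hom.comp_apply, X.homOfLE_ι h]
  ext x
  simp only [Scheme.Hom.coe_image, Set.mem_image, SetLike.mem_coe]
  constructor
  · rintro ⟨_, ⟨y, hy, rfl⟩, rfl⟩
    exact ⟨y, hy, h1 y⟩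
  · rintro ⟨y, hy, rfl⟩
    exact ⟨_, ⟨y, hy, rfl⟩, (h1 y).symm⟩

lemma img_eq' {O O' : X.Opens} (h : O' ≤ O) (T' : O'.toScheme.Opens) :
    (X.homOfLE h ≫ O.ι) ''ᵁ T' = O'.ι ''ᵁ T' := by
  rw [Scheme.Hom.comp_image, img_eq]

lemma g_hom_app_app {O O' : X.Opens} (h : O' ≤ O) (M : X.Modules) (T' : O'.toScheme.Opens) :
    ((g h).hom.app M).app T' = res M (le_aux h T') := by
  have h1 : ((g h).hom.app M).app T' =
      res M (T := O.ι ''ᵁ (O.ι ⁻¹ᵁ (O'.ι ''ᵁ T'))) (T' := O.ι ''ᵁ (O.ι ⁻¹ᵁ ((X.homOfLE h ≫ O.ι) ''ᵁ T')))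
        (by rw [img_eq']) ≫
      res M (T' := O.ι ''ᵁ (O.ι ⁻¹ᵁ (O.ι ''ᵁ ((X.homOfLE h) ''ᵁ T'))))
        (by rw [Scheme.Hom.comp_image]) ≫
      res M (T' := O.ι ''ᵁ ((X.homOfLE h) ''ᵁ T')) (by rw [Scheme.Hom.preimage_image_eq]) ≫
      res M (T' := (X.homOfLE h ≫ O.ι) ''ᵁ T') (by rw [Scheme.Hom.comp_image]) ≫
      res M (T' := O'.ι ''ᵁ T') (by rw [img_eq']) := rfl
  rw [h1]
  simp only [res_comp]
  try rfl

/-- restriction `j_* j^* ⟶ j'_* j'^*` for a smaller open -/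
noncomputable def ρ {O O' : X.Opens} (h : O' ≤ O) : A O ⟶ A O' :=
  Functor.whiskerLeft (A O) (η O') ≫ Functor.whiskerRight (g h).hom (pushforward O'.ι)

lemma le_aux2 {O O' : X.Opens} (h : O' ≤ O) (T : X.Opens) :
    O'.ι ''ᵁ (O'.ι ⁻¹ᵁ T) ≤ O.ι ''ᵁ (O.ι ⁻¹ᵁ T) := by
  rw [Scheme.Hom.image_preimage_eq_opensRange_inf, Scheme.Hom.image_preimage_eq_opensRange_inf,
    Scheme.Opens.opensRange_ι, Scheme.Opens.opensRange_ι]
  exact inf_le_inf_right T h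

lemma ρ_app_app {O O' : X.Opens} (h : O' ≤ O) (M : X.Modules) (T : X.Opens) :
    ((ρ h).app M).app T = res M (le_aux2 h T) := by
  have h1 : ((ρ h).app M).app T =
      res M (T := O.ι ''ᵁ (O.ι ⁻¹ᵁ T)) (T' := O.ι ''ᵁ (O.ι ⁻¹ᵁ (O'.ι ''ᵁ (O'.ι ⁻¹ᵁ T))))
        (Scheme.Hom.image_mono _ (Scheme.Hom.preimage_mono _ (Scheme.Hom.image_preimage_le _ _))) ≫
      res M (T' := O.ι ''ᵁ (O.ι ⁻¹ᵁ ((X.homOfLE h ≫ O.ι) ''ᵁ (O'.ι ⁻¹ᵁ T))))
        (by rw [img_eq']) ≫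
      res M (T' := O.ι ''ᵁ (O.ι ⁻¹ᵁ (O.ι ''ᵁ ((X.homOfLE h) ''ᵁ (O'.ι ⁻¹ᵁ T)))))
        (by rw [Scheme.Hom.comp_image]) ≫
      res M (T' := O.ι ''ᵁ ((X.homOfLE h) ''ᵁ (O'.ι ⁻¹ᵁ T)))
        (by rw [Scheme.Hom.preimage_image_eq]) ≫
      res M (T' := (X.homOfLE h ≫ O.ι) ''ᵁ (O'.ι ⁻¹ᵁ T)) (by rw [Scheme.Hom.comp_image]) ≫
      res M (T' := O'.ι ''ᵁ (O'.ι ⁻¹ᵁ T)) (by rw [img_eq']) := rfl
  rw [h1]
  simp only [res_comp]
  try rfl


lemma cap_eq (O T : X.Opens) : O.ι ''ᵁ (O.ι ⁻¹ᵁ T) = O ⊓ T := by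
  rw [Scheme.Hom.image_preimage_eq_opensRange_inf, Scheme.Opens.opensRange_ι]

lemma isPullback_res (M : X.Modules) {T a b c : X.Opens} (haT : a ≤ T) (hbT : b ≤ T)
    (hca : c ≤ a) (hcb : c ≤ b) (h1 : a ⊔ b = T) (h2 : a ⊓ b = c) :
    IsPullback (res M haT) (res M hbT) (res M hca) (res M hcb) := by
  subst h1 h2
  exact IsPullback.of_isLimit (TopCat.Sheaf.isLimitPullbackCone ⟨M.presheaf, M.isSheaf⟩ a b)

lemma comp_eq_res (M : X.Modules) {T a c : X.Opens} {f : Γ(M, T) ⟶ Γ(M, a)}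
    {g : Γ(M, a) ⟶ Γ(M, c)} {ha : a ≤ T} {hc : c ≤ a} (hf : f = res M ha) (hg : g = res M hc) :
    f ≫ g = res M (hc.trans ha) := by
  subst hf hg
  exact res_comp M ha hc

lemma isIso_res (M : X.Modules) {T T' : X.Opens} (h : T' ≤ T) (h' : T ≤ T') : IsIso (res M h) :=
  ⟨res M h', by rw [res_comp]; exact M.presheaf.map_id _, by
    rw [res_comp]; exact M.presheaf.map_id _⟩

lemma isZero_sections {Y : Scheme.{u}} (P : Y.Modules) (hP : IsZero P) (T : Y.Opens) :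
    IsZero Γ(P, T) := by
  rw [IsZero.iff_id_eq_zero]
  have : 𝟙 P = 0 := (IsZero.iff_id_eq_zero P).1 hP
  have h2 := congrArg (fun φ => Scheme.Modules.Hom.app φ T) this
  exact h2

lemma isZero_of_sections (N : X.Modules) (h : ∀ T : X.Opens, IsZero Γ(N, T)) : IsZero N := by
  rw [IsZero.iff_id_eq_zero]
  apply Scheme.Modules.hom_ext
  intro T
  exact (h T).eq_of_src _ _

section MV

variable (U V : X.Opens) (hUV : U ⊔ V = ⊤)

lemma sq_comm (M : X.Modules) :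
    (η U).app M ≫ (ρ (inf_le_left : U ⊓ V ≤ U)).app M =
      (η V).app M ≫ (ρ (inf_le_right : U ⊓ V ≤ V)).app M := by
  apply Scheme.Modules.hom_ext
  intro T
  have h1 : ((η U).app M).app T = res M (U.ι.image_preimage_le T) := rfl
  have h2 : ((η V).app M).app T = res M (V.ι.image_preimage_le T) := rfl
  have e1 := comp_eq_res M (T := T) (a := U.ι ''ᵁ U.ι ⁻¹ᵁ T)
    (c := (U ⊓ V).ι ''ᵁ (U ⊓ V).ι ⁻¹ᵁ T) h1 (ρ_app_app (inf_le_left : U ⊓ V ≤ U) M T)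
  have e2 := comp_eq_res M (T := T) (a := V.ι ''ᵁ V.ι ⁻¹ᵁ T)
    (c := (U ⊓ V).ι ''ᵁ (U ⊓ V).ι ⁻¹ᵁ T) h2 (ρ_app_app (inf_le_right : U ⊓ V ≤ V) M T)
  exact e1.trans e2.symm


include hUV in
lemma isPullback_app (M : X.Modules) (T : X.Opens) :
    IsPullback (((η U).app M).app T) (((η V).app M).app T)
      (((ρ (inf_le_left : U ⊓ V ≤ U)).app M).app T)
      (((ρ (inf_le_right : U ⊓ V ≤ V)).app M).app T) := by
  have h := isPullback_res M (T := T) (a := U.ι ''ᵁ U.ι ⁻¹ᵁ T) (b := V.ι ''ᵁ V.ι ⁻¹ᵁ T)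
    (c := (U ⊓ V).ι ''ᵁ (U ⊓ V).ι ⁻¹ᵁ T) (U.ι.image_preimage_le T) (V.ι.image_preimage_le T)
    (le_aux2 inf_le_left T) (le_aux2 inf_le_right T)
    (by rw [cap_eq, cap_eq, ← inf_sup_right, hUV, top_inf_eq])
    (by
      rw [cap_eq, cap_eq, cap_eq]
      apply le_antisymm
      · exact le_inf (le_inf (inf_le_left.trans inf_le_left) (inf_le_right.trans inf_le_left))
          (inf_le_left.trans inf_le_right)
      · exact le_inf (le_inf (inf_le_left.trans inf_le_left) inf_le_right)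
          (le_inf (inf_le_left.trans inf_le_right) inf_le_right))
  have e3 := ρ_app_app (inf_le_left : U ⊓ V ≤ U) M T
  have e4 := ρ_app_app (inf_le_right : U ⊓ V ≤ V) M T
  rw [e3, e4]
  exact h


include hUV in
lemma isPullback (M : X.Modules) :
    IsPullback ((η U).app M) ((η V).app M)
      ((ρ (inf_le_left : U ⊓ V ≤ U)).app M) ((ρ (inf_le_right : U ⊓ V ≤ V)).app M) := by
  haveI : ReflectsLimit (cospan ((ρ (inf_le_left : U ⊓ V ≤ U)).app M)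
      ((ρ (inf_le_right : U ⊓ V ≤ V)).app M)) (Scheme.Modules.toPresheaf X) :=
    reflectsLimit_of_reflectsIsomorphisms _ _
  refine IsPullback.of_map (Scheme.Modules.toPresheaf X) (sq_comm U V M) ?_
  refine IsPullback.of_forall_isPullback_app (fun T => ?_)
  exact isPullback_app U V hUV M T.unop


include hUV in
lemma isZero_of_restrict (N : X.Modules) (hU : IsZero ((restrictFunctor U.ι).obj N))
    (hV : IsZero ((restrictFunctor V.ι).obj N)) : IsZero N := by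
  apply isZero_of_sections
  intro T
  have hp := isPullback_app U V hUV N T
  have h1 : IsZero Γ(N, U.ι ''ᵁ U.ι ⁻¹ᵁ T) := isZero_sections _ hU (U.ι ⁻¹ᵁ T)
  have h2 : IsZero Γ(N, V.ι ''ᵁ V.ι ⁻¹ᵁ T) := isZero_sections _ hV (V.ι ⁻¹ᵁ T)
  rw [IsZero.iff_id_eq_zero]
  apply hp.hom_ext
  · exact h1.eq_of_tgt _ _
  · exact h2.eq_of_tgt _ _

lemma isIso_restrict_ρ_right (M : X.Modules) :
    IsIso ((restrictFunctor U.ι).map ((ρ (inf_le_right : U ⊓ V ≤ V)).app M)) := by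
  rw [Scheme.Modules.Hom.isIso_iff_isIso_app]
  intro T'
  have h1 : ((restrictFunctor U.ι).map ((ρ (inf_le_right : U ⊓ V ≤ V)).app M)).app T' =
      ((ρ (inf_le_right : U ⊓ V ≤ V)).app M).app (U.ι ''ᵁ T') := rfl
  rw [h1, ρ_app_app]
  apply isIso_res
  rw [cap_eq, cap_eq]
  have : U.ι ''ᵁ T' ≤ U := U.ι_image_le T'
  exact le_inf (le_inf (inf_le_right.trans this) inf_le_left) inf_le_right

lemma isIso_restrict_ρ_left (M : X.Modules) :
    IsIso ((restrictFunctor V.ι).map ((ρ (inf_le_left : U ⊓ V ≤ U)).app M)) := by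
  rw [Scheme.Modules.Hom.isIso_iff_isIso_app]
  intro T'
  have h1 : ((restrictFunctor V.ι).map ((ρ (inf_le_left : U ⊓ V ≤ U)).app M)).app T' =
      ((ρ (inf_le_left : U ⊓ V ≤ U)).app M).app (V.ι ''ᵁ T') := rfl
  rw [h1, ρ_app_app]
  apply isIso_res
  rw [cap_eq, cap_eq]
  have : V.ι ''ᵁ T' ≤ V := V.ι_image_le T'
  exact le_inf (le_inf inf_le_left (inf_le_right.trans this)) inf_le_right

end MV

end Groth.Agent.Lib.Helper26.MVMod1
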