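import Mathlib
import Groth.Prelude.Def_CxOX
import Groth.Agent.Lib.Helper26.MVMod1

set_option maxHeartbeats 400000
set_option linter.style.haveILetI false
set_option linter.unusedSectionVars false

universe u

open CategoryTheory CategoryTheory.Limits AlgebraicGeometry

namespace Groth.Agent.Lib.Helper26.OpenBC1

open Scheme.Modules Groth.Agent.Lib.Helper26.MVMod1

variable {X Y : Scheme.{u}} (f : X ⟶ Y) (V : Y.Opens)

/-- `j_{U*} ⋙ f_* ≅ g_* ⋙ j_{V*}` -/
noncomputable def θ :
    pushforward (f ⁻¹ᵁ V).ι ⋙ pushforward f ≅ pushforward (f ∣_ V) ⋙ pushforward V.ι :=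
  pushforwardComp _ _ ≪≫ pushforwardCongr (morphismRestrict_ι f V).symm ≪≫
    (pushforwardComp _ _).symm

/-- the base change morphism -/
noncomputable def β :
    pushforward f ⋙ restrictFunctor V.ι ⟶
      restrictFunctor (f ⁻¹ᵁ V).ι ⋙ pushforward (f ∣_ V) :=
  (Functor.leftUnitor _).inv ≫
    Functor.whiskerRight (restrictAdjunction (f ⁻¹ᵁ V).ι).unit
      (pushforward f ⋙ restrictFunctor V.ι) ≫
    (Functor.associator _ _ _).hom ≫
    Functor.whiskerLeft (restrictFunctor (f ⁻¹ᵁ V).ι)
      ((Functor.associator _ _ _).inv ≫ Functor.whiskerRight (θ f V).hom (restrictFunctor V.ι) ≫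
        (Functor.associator _ _ _).hom ≫
        Functor.whiskerLeft (pushforward (f ∣_ V)) (restrictAdjunction V.ι).counit ≫
        (Functor.rightUnitor _).hom)

lemma β_app (M : X.Modules) :
    (β f V).app M =
      (restrictFunctor V.ι).map ((pushforward f).map ((η (f ⁻¹ᵁ V)).app M)) ≫
        (restrictFunctor V.ι).map ((θ f V).hom.app ((restrictFunctor (f ⁻¹ᵁ V).ι).obj M)) ≫
        (restrictAdjunction V.ι).counit.app
          ((pushforward (f ∣_ V)).obj ((restrictFunctor (f ⁻¹ᵁ V).ι).obj M)) := by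
  simp [β]

instance (M : X.Modules) : IsIso ((β f V).app M) := by
  rw [β_app]
  have : IsIso ((restrictFunctor V.ι).map ((pushforward f).map ((η (f ⁻¹ᵁ V)).app M))) := by
    rw [Scheme.Modules.Hom.isIso_iff_isIso_app]
    intro W
    change IsIso (((η (f ⁻¹ᵁ V)).app M).app (f ⁻¹ᵁ (V.ι ''ᵁ W)))
    rw [η_app_app]
    apply isIso_res
    rw [cap_eq]
    refine le_inf ?_ le_rfl
    exact Scheme.Hom.preimage_mono f (V.ι_image_le W)
  infer_instance

instance : IsIso (β f V) := NatIso.isIso_of_isIso_app _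

/-- open base change for the direct image of modules -/
noncomputable def bc :
    pushforward f ⋙ restrictFunctor V.ι ≅
      restrictFunctor (f ⁻¹ᵁ V).ι ⋙ pushforward (f ∣_ V) := asIso (β f V)

end Groth.Agent.Lib.Helper26.OpenBC1
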