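import Mathlib
set_option maxHeartbeats 400000
set_option linter.unusedSectionVars false
open CategoryTheory Limits ZeroObject

universe w v u
namespace Groth.Agent.Lib.Helper26.KInjAB5

variable {C : Type u} [Category.{v} C] [Abelian C]

section AB5
variable [IsGrothendieckAbelian.{w} C] {X : C} {K : Type w} [SmallCategory K] [IsFiltered K]
  (Y : K ⥤ Subobject X)

/-- the canonical cocone over `Y` with point the supremum -/
noncomputable def supCocone : Cocone Y where
  pt := ⨆ k, Y.obj k
  ι := { app k := homOfLE (le_iSup (fun k => Y.obj k) k) }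

/-- AB5: the supremum of a filtered family of subobjects is its colimit. -/
noncomputable def isColimitSup : IsColimit (Subobject.underlying.mapCocone (supCocone Y)) := by
  let c := (Subobject.representative ⋙ MonoOver.forget X).mapCocone (supCocone Y)
  haveI : Mono c.pt.hom := by
    change Mono (⨆ k, Y.obj k).arrow
    infer_instance
  have h1 : Subobject.mk c.pt.hom = ⨆ k, Subobject.mk ((Y ⋙ Subobject.representative).obj k).obj.hom := by
    change Subobject.mk (⨆ k, Y.obj k).arrow = _
    rw [Subobject.mk_arrow]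
    congr 1
    funext k
    change _ = Subobject.mk (Y.obj k).arrow
    rw [Subobject.mk_arrow]
  exact IsGrothendieckAbelian.isColimitMapCoconeOfSubobjectMkEqISup
    (Y ⋙ Subobject.representative) c h1
end AB5
section Modular
variable [IsGrothendieckAbelian.{w} C] {X : C} {K : Type w} [SmallCategory K] [IsFiltered K]
  (Y : K ⥤ Subobject X) (Bs : Subobject X)

noncomputable def infFunctor : K ⥤ Subobject X := Y ⋙ Subobject.inf.obj Bs

lemma infFunctor_obj (k : K) : (infFunctor Y Bs).obj k = Bs ⊓ Y.obj k := rfl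

noncomputable def infToSelf : infFunctor Y Bs ⟶ Y where
  app k := homOfLE (Subobject.inf_le_right Bs (Y.obj k))

noncomputable def toCoker :
    Y ⋙ Subobject.underlying ⟶ (Functor.const K).obj (cokernel Bs.arrow) where
  app k := (Y.obj k).arrow ≫ cokernel.π Bs.arrow
  naturality k k' φ := by
    dsimp
    rw [Category.comp_id, Subobject.underlying_arrow_assoc]

lemma inf_arrow_comp_cokernel (A : Subobject X) :
    (Bs ⊓ A).arrow ≫ cokernel.π Bs.arrow = 0 := by
  rw [← Subobject.ofLE_arrow (inf_le_left : Bs ⊓ A ≤ Bs), Category.assoc, cokernel.condition,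
    comp_zero]

noncomputable def sc : ShortComplex (K ⥤ C) :=
  ShortComplex.mk (Functor.whiskerRight (infToSelf Y Bs) Subobject.underlying) (toCoker Y Bs) (by
    ext k
    dsimp [toCoker, infToSelf]
    rw [Subobject.underlying_arrow_assoc]
    exact inf_arrow_comp_cokernel Bs (Y.obj k))

lemma sc_f_app (k : K) : (sc Y Bs).f.app k =
    Subobject.ofLE (Bs ⊓ Y.obj k) (Y.obj k) inf_le_right := rfl

lemma sc_g_app (k : K) : (sc Y Bs).g.app k = (Y.obj k).arrow ≫ cokernel.π Bs.arrow := rfl

/-- pointwise kernel property -/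
noncomputable def isLimitPointwise (k : K) :
    IsLimit (KernelFork.ofι (Subobject.ofLE (Bs ⊓ Y.obj k) (Y.obj k) inf_le_right)
      (show _ ≫ ((Y.obj k).arrow ≫ cokernel.π Bs.arrow) = 0 by
        rw [Subobject.ofLE_arrow_assoc]; exact inf_arrow_comp_cokernel Bs (Y.obj k))) :=
  KernelFork.IsLimit.ofι' _ _ (fun {A} x hx => by
    have h1 : Bs.Factors (x ≫ (Y.obj k).arrow) := by
      rw [Subobject.factors_iff]
      have hx' : (x ≫ (Y.obj k).arrow) ≫ cokernel.π Bs.arrow = 0 := by rw [Category.assoc, hx]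
      exact ⟨Abelian.monoLift Bs.arrow (x ≫ (Y.obj k).arrow) hx',
        Abelian.monoLift_comp Bs.arrow (x ≫ (Y.obj k).arrow) hx'⟩
    have h2 : (Y.obj k).Factors (x ≫ (Y.obj k).arrow) := Subobject.factors_comp_arrow x
    have h3 : (Bs ⊓ Y.obj k).Factors (x ≫ (Y.obj k).arrow) :=
      (Subobject.inf_factors _).mpr ⟨h1, h2⟩
    refine ⟨Subobject.factorThru _ _ h3, ?_⟩
    rw [← cancel_mono (Y.obj k).arrow, Category.assoc, Subobject.ofLE_arrow,
      Subobject.factorThru_arrow])

end Modular
section Modular2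
variable [IsGrothendieckAbelian.{w} C] {X : C} {K : Type w} [SmallCategory K] [IsFiltered K]
  (Y : K ⥤ Subobject X) (Bs : Subobject X)

lemma sc_exact : (sc Y Bs).Exact := by
  apply ShortComplex.exact_of_f_is_kernel
  apply evaluationJointlyReflectsLimits
  intro k
  exact (KernelFork.isLimitMapConeEquiv (KernelFork.ofι (sc Y Bs).f (sc Y Bs).zero)
    ((evaluation K C).obj k)).symm (isLimitPointwise Y Bs k)
end Modular2
section Modular3
variable [IsGrothendieckAbelian.{w} C] {X : C} {K : Type w} [SmallCategory K] [IsFiltered K]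
  (Y : K ⥤ Subobject X) (Bs : Subobject X)

attribute [local instance] IsFiltered.isConnected

lemma iSup_inf_le : (⨆ k, (Bs ⊓ Y.obj k)) ≤ ⨆ k, Y.obj k :=
  iSup_mono (fun _ => inf_le_right)

lemma iSup_inf_le' : (⨆ k, (Bs ⊓ Y.obj k)) ≤ Bs :=
  iSup_le (fun _ => inf_le_left)

/-- AB5 modular law: `Bs ⊓ ⨆ Y ≤ ⨆ (Bs ⊓ Y)` for filtered families. -/
lemma inf_iSup_le : Bs ⊓ (⨆ k, Y.obj k) ≤ ⨆ k, (Bs ⊓ Y.obj k) := by
  let S : Subobject X := ⨆ k, Y.obj k
  let S' : Subobject X := ⨆ k, (Bs ⊓ Y.obj k)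
  let f : (S' : C) ⟶ (S : C) := Subobject.ofLE S' S (iSup_inf_le Y Bs)
  let g : (S : C) ⟶ cokernel Bs.arrow := S.arrow ≫ cokernel.π Bs.arrow
  have hfg : f ≫ g = 0 := by
    dsimp only [f, g]
    rw [Subobject.ofLE_arrow_assoc, ← Subobject.ofLE_arrow (iSup_inf_le' Y Bs), Category.assoc,
      cokernel.condition, comp_zero]
  have hex : (ShortComplex.mk f g hfg).Exact :=
    colim.exact_mapShortComplex (S := sc Y Bs) (sc_exact Y Bs)
    (c₁ := Subobject.underlying.mapCocone (supCocone (infFunctor Y Bs)))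
    (isColimitSup (infFunctor Y Bs))
    (c₂ := Subobject.underlying.mapCocone (supCocone Y)) (isColimitSup Y)
    (c₃ := constCocone K (cokernel Bs.arrow)) (isColimitConstCocone K _) f g
    (fun k => by
      change Subobject.ofLE (Bs ⊓ Y.obj k) S' _ ≫ Subobject.ofLE S' S _ =
        Subobject.ofLE (Bs ⊓ Y.obj k) (Y.obj k) _ ≫ Subobject.ofLE (Y.obj k) S _
      apply (cancel_mono S.arrow).mp
      rw [Category.assoc, Category.assoc]
      erw [Subobject.ofLE_arrow, Subobject.ofLE_arrow, Subobject.ofLE_arrow, Subobject.ofLE_arrow])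
    (fun k => by
      change Subobject.ofLE (Y.obj k) S _ ≫ S.arrow ≫ cokernel.π Bs.arrow =
        ((Y.obj k).arrow ≫ cokernel.π Bs.arrow) ≫ 𝟙 _
      rw [Subobject.ofLE_arrow_assoc, Category.comp_id])
  -- now lift
  let x : ((Bs ⊓ S : Subobject X) : C) ⟶ (S : C) := Subobject.ofLE (Bs ⊓ S) S inf_le_right
  have hx : x ≫ g = 0 := by
    dsimp only [x, g]
    rw [Subobject.ofLE_arrow_assoc]
    exact inf_arrow_comp_cokernel Bs S
  have : Mono (ShortComplex.mk f g hfg).f := by dsimp only [f]; infer_instance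
  refine Subobject.le_of_comm (hex.lift x hx) ?_
  have h1 : hex.lift x hx ≫ f = x := hex.lift_f x hx
  calc hex.lift x hx ≫ S'.arrow = hex.lift x hx ≫ f ≫ S.arrow := by
        dsimp only [f]; rw [Subobject.ofLE_arrow]
    _ = x ≫ S.arrow := by rw [← Category.assoc, h1]
    _ = (Bs ⊓ S).arrow := Subobject.ofLE_arrow _
end Modular3

end Groth.Agent.Lib.Helper26.KInjAB5
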