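import Mathlib

set_option maxHeartbeats 400000
set_option backward.isDefEq.respectTransparency false

universe v u

open CategoryTheory CategoryTheory.Limits

namespace Groth.Agent.Lib.Helper26.KInjGen

variable {A : Type u} [Category.{v} A] [Abelian A]

section Basic

variable {X : A}

/-- factorisation descends along an epimorphism -/
lemma factors_of_epi_comp {W W' : A} (π : W' ⟶ W) [Epi π] (x : W ⟶ X) (U : Subobject X)
    (h : U.Factors (π ≫ x)) : U.Factors x := by
  let t := U.factorThru _ h
  have ht : t ≫ U.arrow = π ≫ x := U.factorThru_arrow _ h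
  have hk : kernel.ι π ≫ t = 0 := by
    rw [← cancel_mono U.arrow, Category.assoc, ht, kernel.condition_assoc, zero_comp, zero_comp]
  let e := Abelian.epiIsCokernelOfKernel (KernelFork.ofι (kernel.ι π) (kernel.condition π))
    (kernelIsKernel π)
  have h2 : π ≫ e.desc (CokernelCofork.ofπ t hk) = t := e.fac _ WalkingParallelPair.one
  have h3 : e.desc (CokernelCofork.ofπ t hk) ≫ U.arrow = x := by
    rw [← cancel_epi π, ← Category.assoc, h2, ht]
  rw [← h3]
  exact Subobject.factors_comp_arrow _

lemma le_iff_factors (T U : Subobject X) : T ≤ U ↔ U.Factors T.arrow := by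
  constructor
  · intro h
    exact Subobject.factors_of_le _ h (Subobject.factors_self T)
  · intro h
    exact Subobject.le_of_comm (U.factorThru _ h) (Subobject.factorThru_arrow _ _ _)

lemma factors_image_iff {E W : A} (p : E ⟶ X) (x : W ⟶ X) :
    (imageSubobject p).Factors x ↔
      ∃ (W' : A) (π : W' ⟶ W) (_ : Epi π) (y : W' ⟶ E), π ≫ x = y ≫ p := by
  constructor
  · intro h
    let t := (imageSubobject p).factorThru x h
    refine ⟨pullback t (factorThruImageSubobject p), pullback.fst _ _, inferInstance,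
      pullback.snd _ _, ?_⟩
    have h1 : t ≫ (imageSubobject p).arrow = x := Subobject.factorThru_arrow _ _ _
    rw [← h1, ← Category.assoc, pullback.condition, Category.assoc, imageSubobject_arrow_comp]
  · rintro ⟨W', π, _, y, h⟩
    apply factors_of_epi_comp π
    rw [h]
    exact imageSubobject_factors_comp_self p y

lemma factors_image_self {E : A} (p : E ⟶ X) : (imageSubobject p).Factors p := by
  have := imageSubobject_factors_comp_self p (𝟙 _)
  rwa [Category.id_comp] at this

end Basic


section Span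

variable [IsGrothendieckAbelian.{v} A] {G : A} {X Y : A}

/-- the subobject generated by a family of `G`-elements -/
noncomputable def gspan {μ : Type v} (f : μ → (G ⟶ X)) : Subobject X :=
  imageSubobject (Sigma.desc f)

lemma factors_gspan {μ : Type v} (f : μ → (G ⟶ X)) (i : μ) : (gspan f).Factors (f i) := by
  have : f i = Sigma.ι (fun _ : μ => G) i ≫ Sigma.desc f := by simp
  rw [this]
  exact imageSubobject_factors_comp_self _ _

lemma gspan_le_iff {μ : Type v} (f : μ → (G ⟶ X)) (U : Subobject X) :
    gspan f ≤ U ↔ ∀ i, U.Factors (f i) := by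
  constructor
  · intro h i
    exact Subobject.factors_of_le _ h (factors_gspan f i)
  · intro h
    refine imageSubobject_le _ (Sigma.desc (fun i => U.factorThru (f i) (h i))) ?_
    apply Sigma.hom_ext
    intro i
    simp

/-- direct image of a subobject -/
noncomputable def dIm (φ : X ⟶ Y) (T : Subobject X) : Subobject Y :=
  imageSubobject (T.arrow ≫ φ)

lemma dIm_le_iff (φ : X ⟶ Y) (T : Subobject X) (U : Subobject Y) :
    dIm φ T ≤ U ↔ U.Factors (T.arrow ≫ φ) := by
  constructor
  · intro h
    exact Subobject.factors_of_le _ h (factors_image_self _)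
  · intro h
    exact imageSubobject_le _ (U.factorThru _ h) (Subobject.factorThru_arrow _ _ _)

lemma factors_dIm (φ : X ⟶ Y) (T : Subobject X) {W : A} (x : W ⟶ X) (hx : T.Factors x) :
    (dIm φ T).Factors (x ≫ φ) := by
  have : x ≫ φ = T.factorThru x hx ≫ (T.arrow ≫ φ) := by
    rw [← Category.assoc, Subobject.factorThru_arrow]
  rw [this]
  exact imageSubobject_factors_comp_self _ _

lemma dIm_mono (φ : X ⟶ Y) {T T' : Subobject X} (h : T ≤ T') : dIm φ T ≤ dIm φ T' := by
  rw [dIm_le_iff]
  exact factors_dIm φ T' T.arrow (Subobject.factors_of_le _ h (Subobject.factors_self T))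

lemma dIm_le_iff_le_pullback (φ : X ⟶ Y) (T : Subobject X) (U : Subobject Y) :
    dIm φ T ≤ U ↔ T ≤ (Subobject.pullback φ).obj U := by
  rw [dIm_le_iff, le_iff_factors, Limits.pullback_factors_iff]

lemma dIm_iSup {ι : Type*} (φ : X ⟶ Y) (T : ι → Subobject X) :
    dIm φ (⨆ k, T k) = ⨆ k, dIm φ (T k) := by
  apply le_antisymm
  · rw [dIm_le_iff_le_pullback]
    apply iSup_le
    intro k
    rw [← dIm_le_iff_le_pullback]
    exact le_iSup (fun k => dIm φ (T k)) k
  · apply iSup_le
    intro k
    exact dIm_mono φ (le_iSup T k)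

lemma dIm_sup (φ : X ⟶ Y) (T T' : Subobject X) :
    dIm φ (T ⊔ T') = dIm φ T ⊔ dIm φ T' := by
  apply le_antisymm
  · rw [dIm_le_iff_le_pullback]
    apply sup_le
    · rw [← dIm_le_iff_le_pullback]; exact le_sup_left
    · rw [← dIm_le_iff_le_pullback]; exact le_sup_right
  · exact sup_le (dIm_mono φ le_sup_left) (dIm_mono φ le_sup_right)

lemma dIm_comp {Z : A} (φ : X ⟶ Y) (ψ : Y ⟶ Z) (T : Subobject X) :
    dIm ψ (dIm φ T) = dIm (φ ≫ ψ) T := by
  apply le_antisymm
  · rw [dIm_le_iff]
    apply factors_of_epi_comp (factorThruImageSubobject (T.arrow ≫ φ))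
    have : factorThruImageSubobject (T.arrow ≫ φ) ≫ (dIm φ T).arrow ≫ ψ =
        T.arrow ≫ (φ ≫ ψ) := by
      rw [← Category.assoc]
      erw [imageSubobject_arrow_comp]
      rw [Category.assoc]
    rw [this]
    exact factors_image_self _
  · rw [dIm_le_iff]
    have : T.arrow ≫ φ ≫ ψ = (T.arrow ≫ φ) ≫ ψ := by rw [Category.assoc]
    rw [this]
    apply factors_dIm
    exact factors_image_self _

lemma dIm_zero (T : Subobject X) : dIm (0 : X ⟶ Y) T = ⊥ := by
  rw [eq_bot_iff, dIm_le_iff, comp_zero, Subobject.bot_factors_iff_zero]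

lemma dIm_gspan {μ : Type v} (φ : X ⟶ Y) (f : μ → (G ⟶ X)) :
    dIm φ (gspan f) = gspan (fun i => f i ≫ φ) := by
  apply le_antisymm
  · rw [dIm_le_iff]
    apply factors_of_epi_comp (factorThruImageSubobject (Sigma.desc f))
    have : factorThruImageSubobject (Sigma.desc f) ≫ (gspan f).arrow ≫ φ =
        Sigma.desc (fun i => f i ≫ φ) := by
      rw [← Category.assoc]
      erw [imageSubobject_arrow_comp]
      apply Sigma.hom_ext
      intro i
      simp
    rw [this]
    exact factors_image_self _
  · rw [gspan_le_iff]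
    intro i
    exact factors_dIm φ _ _ (factors_gspan f i)

lemma gspan_sum {μ ν : Type v} (f : μ → (G ⟶ X)) (g : ν → (G ⟶ X)) :
    gspan (Sum.elim f g) = gspan f ⊔ gspan g := by
  apply le_antisymm
  · rw [gspan_le_iff]
    rintro (i | i)
    · exact Subobject.factors_of_le _ le_sup_left (factors_gspan f i)
    · exact Subobject.factors_of_le _ le_sup_right (factors_gspan g i)
  · apply sup_le
    · rw [gspan_le_iff]; intro i; exact factors_gspan (Sum.elim f g) (Sum.inl i)
    · rw [gspan_le_iff]; intro i; exact factors_gspan (Sum.elim f g) (Sum.inr i)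

lemma gspan_sigma {κ : Type v} {μ : κ → Type v}
    (f : ∀ k, μ k → (G ⟶ X)) :
    gspan (fun p : (Σ k, μ k) => f p.1 p.2) = ⨆ k, gspan (f k) := by
  apply le_antisymm
  · rw [gspan_le_iff]
    rintro ⟨k, i⟩
    exact Subobject.factors_of_le _ (le_iSup (fun k => gspan (f k)) k) (factors_gspan (f k) i)
  · apply iSup_le
    intro k
    rw [gspan_le_iff]
    intro i
    exact factors_gspan (fun p : (Σ k, μ k) => f p.1 p.2) ⟨k, i⟩

/-- comparison of subobjects on `G`-elements -/
lemma le_of_forall_G (hG : IsSeparator G) (T U : Subobject X)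
    (h : ∀ g : G ⟶ X, T.Factors g → U.Factors g) : T ≤ U := by
  rw [le_iff_factors]
  have := (isSeparator_iff_epi G).1 hG (T : A)
  apply factors_of_epi_comp (Sigma.desc fun f : G ⟶ (T : A) => f)
  have h2 : ∀ f : G ⟶ (T : A), U.Factors (f ≫ T.arrow) :=
    fun f => h _ (Subobject.factors_comp_arrow f)
  have : (Sigma.desc fun f : G ⟶ (T : A) => f) ≫ T.arrow =
      Sigma.desc (fun f : G ⟶ (T : A) => U.factorThru _ (h2 f)) ≫ U.arrow := by
    apply Sigma.hom_ext
    intro f
    simp
  rw [this]
  exact Subobject.factors_comp_arrow _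


lemma factors_of_forall_G (hG : IsSeparator G) (U : Subobject X) {W : A} (x : W ⟶ X)
    (h : ∀ g : G ⟶ W, U.Factors (g ≫ x)) : U.Factors x := by
  have := (isSeparator_iff_epi G).1 hG W
  apply factors_of_epi_comp (Sigma.desc fun f : G ⟶ W => f)
  have : (Sigma.desc fun f : G ⟶ W => f) ≫ x =
      Sigma.desc (fun f : G ⟶ W => U.factorThru _ (h f)) ≫ U.arrow := by
    apply Sigma.hom_ext
    intro f
    simp
  rw [this]
  exact Subobject.factors_comp_arrow _

open Classical in
/-- lifting a generated subobject along a morphism, with controlled size -/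
lemma exists_lift (hG : IsSeparator G) {E : A} (p : E ⟶ X) {μ : Type v} (f : μ → (G ⟶ X)) :
    ∃ g : (G ⟶ ∐ fun _ : μ => G) → (G ⟶ E),
      dIm p (gspan g) = gspan f ⊓ imageSubobject p := by
  let q : (∐ fun _ : μ => G) ⟶ X := Sigma.desc f
  let L : (G ⟶ ∐ fun _ : μ => G) → Prop := fun b => ∃ e : G ⟶ E, e ≫ p = b ≫ q
  let g : (G ⟶ ∐ fun _ : μ => G) → (G ⟶ E) := fun b => if h : L b then h.choose else 0
  have hg : ∀ b, L b → g b ≫ p = b ≫ q := by
    intro b hb
    simp only [g, dif_pos hb]
    exact hb.choose_spec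
  have hg' : ∀ b, ¬ L b → g b = 0 := by
    intro b hb
    simp only [g, dif_neg hb]
  refine ⟨g, ?_⟩
  rw [dIm_gspan]
  apply le_antisymm
  · rw [gspan_le_iff]
    intro b
    rw [Subobject.inf_factors]
    by_cases hb : L b
    · constructor
      · rw [hg b hb]
        exact imageSubobject_factors_comp_self _ _
      · exact imageSubobject_factors_comp_self _ _
    · rw [hg' b hb, zero_comp]
      exact ⟨Subobject.factors_zero, Subobject.factors_zero⟩
  · apply le_of_forall_G hG
    intro g₀ hg₀
    rw [Subobject.inf_factors] at hg₀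
    obtain ⟨h1, h2⟩ := hg₀
    obtain ⟨W₁, π₁, _, y₁, e₁⟩ := (factors_image_iff q g₀).1 h1
    have h2' : (imageSubobject p).Factors (π₁ ≫ g₀) := Subobject.factors_of_factors_right _ h2
    obtain ⟨W₂, π₂, _, y₂, e₂⟩ := (factors_image_iff p (π₁ ≫ g₀)).1 h2'
    apply factors_of_epi_comp (π₂ ≫ π₁)
    apply factors_of_forall_G hG
    intro h
    have hb : L (h ≫ π₂ ≫ y₁) := ⟨h ≫ y₂, by
      rw [Category.assoc, ← e₂, Category.assoc, Category.assoc, ← e₁]⟩
    have : h ≫ (π₂ ≫ π₁) ≫ g₀ = g (h ≫ π₂ ≫ y₁) ≫ p := by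
      rw [hg _ hb, Category.assoc, Category.assoc, Category.assoc, e₁]
    rw [this]
    exact factors_gspan (fun b => g b ≫ p) _

end Span

end Groth.Agent.Lib.Helper26.KInjGen
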