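import Mathlib
import Groth.Agent.Lib.Helper26.KInjGen
import Groth.Agent.Lib.Helper26.KInjAB5

set_option maxHeartbeats 400000
set_option backward.isDefEq.respectTransparency false

universe v u

open CategoryTheory CategoryTheory.Limits
open Groth.Agent.Lib.Helper26.KInjGen

namespace Groth.Agent.Lib.Helper26.KInjClosure

variable {A : Type u} [Category.{v} A] [Abelian A] [IsGrothendieckAbelian.{v} A]

/-- a family of subobjects of the terms of a complex -/
abbrev Fam (Z : CochainComplex A ℤ) := ∀ n : ℤ, Subobject (Z.X n)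

/-- stability under the differential -/
def Stable {Z : CochainComplex A ℤ} (S : Fam Z) : Prop :=
  ∀ i j : ℤ, dIm (Z.d i j) (S i) ≤ S j

section Sub

variable (Z : CochainComplex A ℤ) (S : Fam Z) (hS : Stable S)

include hS in

lemma factors_d (i j : ℤ) : (S j).Factors ((S i).arrow ≫ Z.d i j) :=
  (dIm_le_iff _ _ _).1 (hS i j)

/-- the differential of the subcomplex -/
noncomputable def subD (i j : ℤ) : (S i : A) ⟶ (S j : A) :=
  (S j).factorThru _ (factors_d Z S hS i j)

@[reassoc (attr := simp)]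
lemma subD_arrow (i j : ℤ) : subD Z S hS i j ≫ (S j).arrow = (S i).arrow ≫ Z.d i j :=
  Subobject.factorThru_arrow _ _ _

/-- the subcomplex attached to a stable family -/
noncomputable def sub : CochainComplex A ℤ where
  X n := (S n : A)
  d i j := subD Z S hS i j
  shape i j hij := by
    rw [← cancel_mono (S j).arrow, subD_arrow, Z.shape i j hij, comp_zero, zero_comp]
  d_comp_d' i j k _ _ := by
    rw [← cancel_mono (S k).arrow, Category.assoc, subD_arrow, subD_arrow_assoc, Z.d_comp_d,
      comp_zero, zero_comp]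

/-- the inclusion of the subcomplex -/
noncomputable def subι : sub Z S hS ⟶ Z where
  f n := (S n).arrow
  comm' i j _ := (subD_arrow Z S hS i j).symm

@[simp] lemma subι_f (n : ℤ) : (subι Z S hS).f n = (S n).arrow := rfl
@[simp] lemma sub_d (i j : ℤ) : (sub Z S hS).d i j = subD Z S hS i j := rfl
lemma sub_X (n : ℤ) : (sub Z S hS).X n = (S n : A) := rfl

instance : Mono (subι Z S hS) := by
  have : ∀ n, Mono ((subι Z S hS).f n) := fun n => by
    rw [subι_f]; infer_instance
  exact HomologicalComplex.mono_of_mono_f (subι Z S hS) this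

end Sub


section Closure

variable {G : A} (hG : IsSeparator G) (Z : CochainComplex A ℤ)

/-- the size-growth function -/
abbrev β (G : A) (μ : Type v) : Type v := G ⟶ ∐ fun _ : μ => G

/-- a stage of the closure: generators in each degree spanning a stable family -/
structure Stage (G : A) (Z : CochainComplex A ℤ) (μ : Type v) where
  f : ∀ n : ℤ, μ → (G ⟶ Z.X n)
  stable : Stable (fun n => gspan (f n))

variable {Z}

/-- the family of subobjects of a stage -/
noncomputable def Stage.S {μ : Type v} (s : Stage G Z μ) : Fam Z := fun n => gspan (s.f n)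

include hG in
lemma exists_next {μ : Type v} (s : Stage G Z μ) : ∃ s' : Stage G Z (μ ⊕ β G μ),
    (∀ n, s.S n ≤ s'.S n) ∧ ∀ i j, i + 1 = j →
      s.S j ⊓ imageSubobject (Z.d i j) ≤ dIm (Z.d i j) (s'.S i) := by
  choose g hg using fun i : ℤ => exists_lift hG (Z.d i (i + 1)) (s.f (i + 1))
  have key : ∀ n, gspan (Sum.elim (s.f n) (g n)) = s.S n ⊔ gspan (g n) := fun n => gspan_sum _ _
  refine ⟨⟨fun n => Sum.elim (s.f n) (g n), ?_⟩, ?_, ?_⟩
  · intro i j
    by_cases h : i + 1 = j
    · subst h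
      change dIm _ (gspan (Sum.elim (s.f i) (g i))) ≤ gspan (Sum.elim (s.f (i + 1)) (g (i + 1)))
      rw [key, key, dIm_sup, hg]
      refine sup_le ?_ ?_
      · exact (s.stable i (i + 1)).trans le_sup_left
      · exact inf_le_left.trans le_sup_left
    · have : Z.d i j = 0 := Z.shape i j h
      rw [this, dIm_zero]
      exact bot_le
  · intro n
    change s.S n ≤ gspan (Sum.elim (s.f n) (g n))
    rw [key]
    exact le_sup_left
  · intro i j h
    subst h
    change _ ≤ dIm _ (gspan (Sum.elim (s.f i) (g i)))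
    rw [key, dIm_sup, hg]
    exact le_sup_right

/-- the sizes of the successive stages -/
def μs (G : A) : ℕ → Type v
  | 0 => PUnit.{v + 1} ⊕ ULift.{v} ℤ
  | k + 1 => μs G k ⊕ β G (μs G k)

/-- the successive stages -/
noncomputable def stages (s₀ : Stage G Z (μs G 0)) : ∀ k, Stage G Z (μs G k)
  | 0 => s₀
  | k + 1 => (exists_next hG (stages s₀ k)).choose

lemma stages_le (s₀ : Stage G Z (μs G 0)) (k : ℕ) (n : ℤ) :
    (stages hG s₀ k).S n ≤ (stages hG s₀ (k + 1)).S n :=
  (exists_next hG (stages hG s₀ k)).choose_spec.1 n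

lemma stages_key (s₀ : Stage G Z (μs G 0)) (k : ℕ) (i j : ℤ) (h : i + 1 = j) :
    (stages hG s₀ k).S j ⊓ imageSubobject (Z.d i j) ≤ dIm (Z.d i j) ((stages hG s₀ (k + 1)).S i) :=
  (exists_next hG (stages hG s₀ k)).choose_spec.2 i j h

lemma stages_mono (s₀ : Stage G Z (μs G 0)) (n : ℤ) :
    Monotone (fun k : ULift.{v} ℕ => (stages hG s₀ k.down).S n) := by
  intro a b hab
  have : Monotone (fun k : ℕ => (stages hG s₀ k).S n) :=
    monotone_nat_of_le_succ (fun k => stages_le hG s₀ k n)
  exact this (ULift.down_le.mpr hab)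

/-- the index type of the union of all stages -/
abbrev μinf (G : A) : Type v := Σ k : ULift.{v} ℕ, μs G k.down

/-- generators of the union of all stages -/
noncomputable def finf (s₀ : Stage G Z (μs G 0)) (n : ℤ) : μinf G → (G ⟶ Z.X n) :=
  fun p => (stages hG s₀ p.1.down).f n p.2

lemma span_finf (s₀ : Stage G Z (μs G 0)) (n : ℤ) :
    gspan (finf hG s₀ n) = ⨆ k : ULift.{v} ℕ, (stages hG s₀ k.down).S n :=
  gspan_sigma (fun (k : ULift.{v} ℕ) => (stages hG s₀ k.down).f n)

lemma stable_finf (s₀ : Stage G Z (μs G 0)) : Stable (fun n => gspan (finf hG s₀ n)) := by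
  intro i j
  change dIm _ (gspan (finf hG s₀ i)) ≤ gspan (finf hG s₀ j)
  rw [span_finf, span_finf, dIm_iSup]
  exact iSup_mono (fun k => (stages hG s₀ k.down).stable i j)

lemma acyc_finf (s₀ : Stage G Z (μs G 0)) (i j : ℤ) (h : i + 1 = j) :
    gspan (finf hG s₀ j) ⊓ imageSubobject (Z.d i j) ≤ dIm (Z.d i j) (gspan (finf hG s₀ i)) := by
  rw [span_finf, span_finf, inf_comm]
  let Y : ULift.{v} ℕ ⥤ Subobject (Z.X j) := (stages_mono hG s₀ j).functor
  have h1 := Groth.Agent.Lib.Helper26.KInjAB5.inf_iSup_le Y (imageSubobject (Z.d i j))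
  refine h1.trans ?_
  apply iSup_le
  intro k
  have h2 : imageSubobject (Z.d i j) ⊓ Y.obj k ≤
      dIm (Z.d i j) ((stages hG s₀ (k.down + 1)).S i) := by
    rw [inf_comm]
    exact stages_key hG s₀ k.down i j h
  refine h2.trans (dIm_mono _ ?_)
  exact le_iSup (fun k : ULift.{v} ℕ => (stages hG s₀ k.down).S i) ⟨k.down + 1⟩

/-- the initial element family -/
noncomputable def e0 (n₀ : ℤ) (g : G ⟶ Z.X n₀) : ∀ n : ℤ, G ⟶ Z.X n :=
  Function.update (fun n => (0 : G ⟶ Z.X n)) n₀ g

lemma e0_self (n₀ : ℤ) (g : G ⟶ Z.X n₀) : e0 n₀ g n₀ = g := Function.update_self _ _ _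

/-- the initial generators -/
noncomputable def f0 (n₀ : ℤ) (g : G ⟶ Z.X n₀) (n : ℤ) : μs G 0 → (G ⟶ Z.X n) :=
  Sum.elim (fun _ => e0 n₀ g n) (fun i => e0 n₀ g i.down ≫ Z.d i.down n)

/-- the initial stage attached to an element -/
noncomputable def stage0 (n₀ : ℤ) (g : G ⟶ Z.X n₀) : Stage G Z (μs G 0) where
  f n := f0 n₀ g n
  stable := by
    intro i j
    change dIm _ (gspan (f0 n₀ g i)) ≤ gspan (f0 n₀ g j)
    rw [dIm_gspan, gspan_le_iff]
    rintro (x | x)
    · exact factors_gspan (f0 n₀ g j) (Sum.inr ⟨i⟩)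
    · change (gspan (f0 n₀ g j)).Factors ((e0 n₀ g x.down ≫ Z.d x.down i) ≫ Z.d i j)
      rw [Category.assoc, HomologicalComplex.d_comp_d, comp_zero]
      exact Subobject.factors_zero

lemma stage0_factors (n₀ : ℤ) (g : G ⟶ Z.X n₀) :
    ((stage0 (G := G) n₀ g).S n₀).Factors g := by
  have := factors_gspan (f0 n₀ g n₀) (Sum.inl PUnit.unit)
  change (gspan (f0 n₀ g n₀)).Factors (e0 n₀ g n₀) at this
  rw [e0_self] at this
  exact this

include hG in
/-- the closure: a small stable family satisfying the acyclicity condition -/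
theorem exists_closure (n₀ : ℤ) (g : G ⟶ Z.X n₀) (hg : g ≠ 0) :
    ∃ f : ∀ n : ℤ, μinf G → (G ⟶ Z.X n), Stable (fun n => gspan (f n)) ∧
      (∀ i j, i + 1 = j →
        gspan (f j) ⊓ imageSubobject (Z.d i j) ≤ dIm (Z.d i j) (gspan (f i))) ∧
      gspan (f n₀) ≠ ⊥ := by
  refine ⟨finf hG (stage0 n₀ g), stable_finf hG _, acyc_finf hG _, ?_⟩
  intro h
  have h1 : (gspan (finf hG (stage0 n₀ g) n₀)).Factors g := by
    rw [span_finf]
    exact Subobject.factors_of_le _
      (le_iSup (fun k : ULift.{v} ℕ => (stages hG (stage0 n₀ g) k.down).S n₀) ⟨0⟩)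
      (stage0_factors n₀ g)
  rw [h, Subobject.bot_factors_iff_zero] at h1
  exact hg h1

end Closure


section Lift

variable {G : A} (hG : IsSeparator G) {X Z : CochainComplex A ℤ} (π : X ⟶ Z)

lemma factors_image_of_epi {E Y W : A} (p : E ⟶ Y) [Epi p] (x : W ⟶ Y) :
    (imageSubobject p).Factors x := by
  rw [factors_image_iff]
  exact ⟨pullback x p, pullback.fst _ _, inferInstance, pullback.snd _ _, pullback.condition⟩

/-- the size of the lifted family -/
abbrev μB (G : A) (μ : Type v) : Type v := β G μ ⊕ (ULift.{v} ℤ × β G μ)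

include hG in
theorem exists_liftFam [∀ n, Epi (π.f n)] {μ : Type v} (f : ∀ n : ℤ, μ → (G ⟶ Z.X n))
    (hf : Stable (fun n => gspan (f n))) :
    ∃ h : ∀ n : ℤ, μB G μ → (G ⟶ X.X n), Stable (fun n => gspan (h n)) ∧
      ∀ n, dIm (π.f n) (gspan (h n)) = gspan (f n) := by
  choose g hg using fun n : ℤ => exists_lift hG (π.f n) (f n)
  have hg' : ∀ n, dIm (π.f n) (gspan (g n)) = gspan (f n) := by
    intro n
    rw [hg, inf_eq_left, le_iff_factors]
    exact factors_image_of_epi _ _
  let h : ∀ n : ℤ, μB G μ → (G ⟶ X.X n) := fun n =>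
    Sum.elim (g n) (fun q => g q.1.down q.2 ≫ X.d q.1.down n)
  have h1 : ∀ n b, (gspan (f n)).Factors (g n b ≫ π.f n) := by
    intro n b
    have := factors_dIm (π.f n) _ _ (factors_gspan (g n) b)
    rwa [hg'] at this
  refine ⟨h, ?_, ?_⟩
  · intro i j
    change dIm _ (gspan (h i)) ≤ gspan (h j)
    rw [dIm_gspan, gspan_le_iff]
    rintro (b | q)
    · exact factors_gspan (h j) (Sum.inr (⟨i⟩, b))
    · change (gspan (h j)).Factors ((g q.1.down q.2 ≫ X.d q.1.down i) ≫ X.d i j)
      rw [Category.assoc, HomologicalComplex.d_comp_d, comp_zero]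
      exact Subobject.factors_zero
  · intro n
    apply le_antisymm
    · rw [dIm_gspan, gspan_le_iff]
      rintro (b | q)
      · exact h1 n b
      · change (gspan (f n)).Factors ((g q.1.down q.2 ≫ X.d q.1.down n) ≫ π.f n)
        rw [Category.assoc, ← π.comm, ← Category.assoc]
        exact Subobject.factors_of_le _ (hf q.1.down n)
          (factors_dIm _ _ _ (h1 q.1.down q.2))
    · rw [← hg' n]
      apply dIm_mono
      rw [gspan_le_iff]
      intro b
      exact factors_gspan (h n) (Sum.inl b)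

end Lift

end Groth.Agent.Lib.Helper26.KInjClosure
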