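import Mathlib

set_option maxHeartbeats 400000
set_option backward.isDefEq.respectTransparency false

universe v u

open CategoryTheory CategoryTheory.Limits

namespace Groth.Agent.Lib.Helper26.KInjQI

variable {A : Type u} [Category.{v} A] [Abelian A]

section QI

variable {P B Z : CochainComplex A ℤ} (f : P ⟶ B) (ψ : B ⟶ Z)

/-- abstract criterion: `P = ker ψ` termwise and the image of `ψ` is "acyclic" -/
lemma quasiIso_of_ker (hf : ∀ j, Mono (f.f j)) (h0 : f ≫ ψ = 0)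
    (hK : ∀ (j : ℤ) ⦃W : A⦄ (t : W ⟶ B.X j), t ≫ ψ.f j = 0 → ∃ a' : W ⟶ P.X j, a' ≫ f.f j = t)
    (hE : ∀ (i j k : ℤ) (_ : i + 1 = j) (_ : j + 1 = k) ⦃W : A⦄ (b : W ⟶ B.X j),
      b ≫ ψ.f j ≫ Z.d j k = 0 → ∃ (W' : A) (π : W' ⟶ W) (_ : Epi π) (c : W' ⟶ B.X i),
        π ≫ b ≫ ψ.f j = c ≫ ψ.f i ≫ Z.d i j) :
    QuasiIso f := by
  have h0' : ∀ j, f.f j ≫ ψ.f j = 0 := fun j => by
    have := congrArg (fun φ => φ.f j) h0
    simpa using this
  -- the key property
  have KP : ∀ (i j k : ℤ) (_ : i + 1 = j) (_ : j + 1 = k) ⦃W : A⦄ (b : W ⟶ B.X j),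
      b ≫ ψ.f j ≫ Z.d j k = 0 → ∃ (W' : A) (π : W' ⟶ W) (_ : Epi π) (a' : W' ⟶ P.X j)
        (c : W' ⟶ B.X i), π ≫ b = a' ≫ f.f j + c ≫ B.d i j := by
    intro i j k hij hjk W b hb
    obtain ⟨W', π, hπ, c, hc⟩ := hE i j k hij hjk b hb
    have h1 : (π ≫ b - c ≫ B.d i j) ≫ ψ.f j = 0 := by
      rw [Preadditive.sub_comp, Category.assoc, hc, Category.assoc, ψ.comm, sub_self]
    obtain ⟨a', ha'⟩ := hK j _ h1
    exact ⟨W', π, hπ, a', c, by rw [ha']; abel⟩
  rw [quasiIso_iff]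
  intro j
  rw [quasiIsoAt_iff_isIso_homologyMap]
  have hm : Mono (HomologicalComplex.homologyMap f j) := by
    rw [HomologicalComplex.mono_homologyMap_iff_up_to_refinements f (j - 1) j (j + 1)
      (by simp) (by simp)]
    intro W x₂ hx₂ y₁ hy
    have hb : y₁ ≫ ψ.f (j - 1) ≫ Z.d (j - 1) j = 0 := by
      rw [ψ.comm, ← Category.assoc, ← hy, Category.assoc, h0', comp_zero]
    obtain ⟨W', π, hπ, a', c, hac⟩ := KP (j - 1 - 1) (j - 1) j (by omega) (by omega) y₁ hb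
    refine ⟨W', π, hπ, a', ?_⟩
    have := hf j
    rw [← cancel_mono (f.f j), Category.assoc, hy, ← Category.assoc, hac,
      Preadditive.add_comp, Category.assoc, Category.assoc, B.d_comp_d, comp_zero, add_zero,
      Category.assoc, f.comm]
  have he : Epi (HomologicalComplex.homologyMap f j) := by
    rw [HomologicalComplex.epi_homologyMap_iff_up_to_refinements f (j - 1) j (j + 1)
      (by simp) (by simp)]
    intro W y₂ hy₂
    have hb : y₂ ≫ ψ.f j ≫ Z.d j (j + 1) = 0 := by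
      rw [ψ.comm, ← Category.assoc, hy₂, zero_comp]
    obtain ⟨W', π, hπ, a', c, hac⟩ := KP (j - 1) j (j + 1) (by omega) rfl y₂ hb
    refine ⟨W', π, hπ, a', ?_, c, hac⟩
    have := hf (j + 1)
    rw [← cancel_mono (f.f (j + 1)), Category.assoc, ← f.comm, ← Category.assoc, zero_comp]
    have : a' ≫ f.f j = π ≫ y₂ - c ≫ B.d (j - 1) j := by rw [hac]; abel
    rw [this, Preadditive.sub_comp, Category.assoc, hy₂, comp_zero, Category.assoc,
      B.d_comp_d, comp_zero, sub_zero]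
  exact isIso_of_mono_of_epi _

end QI

end Groth.Agent.Lib.Helper26.KInjQI
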