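import Mathlib
import Groth.Agent.Lib.Helper26.KInjGen
import Groth.Agent.Lib.Helper26.KInjQI
import Groth.Agent.Lib.Helper26.KInjClosure

set_option maxHeartbeats 400000
set_option backward.isDefEq.respectTransparency false

universe v u

open CategoryTheory CategoryTheory.Limits
open Groth.Agent.Lib.Helper26.KInjGen Groth.Agent.Lib.Helper26.KInjClosure

namespace Groth.Agent.Lib.Helper26.KInjKey

variable {A : Type u} [Category.{v} A] [Abelian A] [IsGrothendieckAbelian.{v} A]

section

variable {G : A} (hG : IsSeparator G)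

include hG in
lemma exists_ne_zero {Y : A} (hY : ¬ IsZero Y) : ∃ g : G ⟶ Y, g ≠ 0 := by
  by_contra h
  push Not at h
  apply hY
  rw [IsZero.iff_id_eq_zero]
  apply (isSeparator_def G).1 hG
  intro g
  rw [h g, zero_comp, zero_comp]

variable {A₀ X : CochainComplex A ℤ} (a : A₀ ⟶ X)

/-- the short complex `A₀ ⟶ X ⟶ coker` -/
noncomputable abbrev sc : ShortComplex (CochainComplex A ℤ) :=
  ShortComplex.mk a (cokernel.π a) (cokernel.condition a)

lemma sc_shortExact [Mono a] : (sc a).ShortExact where
  exact := ShortComplex.exact_cokernel a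

include hG in
theorem key_lemma [Mono a] (ha : QuasiIso a) (hna : ¬ IsIso a) :
    ∃ (h : ∀ n : ℤ, μB G (μinf G) → (G ⟶ X.X n)) (hh : Stable (fun n => gspan (h n))),
      QuasiIso (pullback.snd a (subι X _ hh)) ∧ subι X _ hh ≫ cokernel.π a ≠ 0 := by
  let Z := cokernel a
  let π : X ⟶ Z := cokernel.π a
  have hS := sc_shortExact a
  have hZ : Z.Acyclic := hS.acyclic_X₃ ha
  have hZ0 : ¬ IsZero Z := by
    intro h0
    apply hna
    have : Epi a := Abelian.epi_of_cokernel_π_eq_zero a (h0.eq_of_tgt _ _)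
    exact isIso_of_mono_of_epi a
  obtain ⟨n₀, hn₀⟩ : ∃ n₀, ¬ IsZero (Z.X n₀) := by
    by_contra h
    push Not at h
    apply hZ0
    rw [IsZero.iff_id_eq_zero]
    ext n
    exact (h n).eq_of_src _ _
  obtain ⟨g, hg⟩ := exists_ne_zero hG hn₀
  obtain ⟨f, hf1, hf2, hf3⟩ := exists_closure hG n₀ g hg
  obtain ⟨h, hh, hπ⟩ := exists_liftFam hG π f hf1
  refine ⟨h, hh, ?_, ?_⟩
  · apply Groth.Agent.Lib.Helper26.KInjQI.quasiIso_of_ker (pullback.snd a (subι X _ hh))
      (subι X _ hh ≫ π)
    · intro j
      infer_instance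
    · rw [← pullback.condition_assoc, cokernel.condition, comp_zero]
    · intro j W t ht
      have hSj := hS.map_of_exact (HomologicalComplex.eval A (ComplexShape.up ℤ) j)
      have := hSj.mono_f
      have ht' : (t ≫ (subι X _ hh).f j) ≫ π.f j = 0 := by
        rw [Category.assoc]; exact ht
      let u : W ⟶ A₀.X j := hSj.exact.lift (t ≫ (subι X _ hh).f j) ht'
      have hu : u ≫ a.f j = t ≫ (subι X _ hh).f j := hSj.exact.lift_f _ ht'
      have hpb := (IsPullback.of_hasPullback a (subι X _ hh)).map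
        (HomologicalComplex.eval A (ComplexShape.up ℤ) j)
      exact ⟨hpb.lift u t hu, hpb.lift_snd u t hu⟩
    · intro i j k hij hjk W b hb
      let z : W ⟶ Z.X j := b ≫ (subι X _ hh ≫ π).f j
      have hz : z ≫ Z.d j k = 0 := by
        dsimp only [z]; rw [Category.assoc]; exact hb
      have h1 : (imageSubobject (Z.d i j)).Factors z := by
        obtain ⟨W₁, π₁, hπ₁, x₁, hx₁⟩ :=
          (Z.exactAt_iff_exact_up_to_refinements i j k (by subst hij; simp)
            (by subst hjk; simp)).1 (hZ j) z hz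
        exact (factors_image_iff _ _).2 ⟨W₁, π₁, hπ₁, x₁, hx₁⟩
      have h2 : (gspan (f j)).Factors z := by
        rw [← hπ j]
        have : z = (b ≫ (gspan (h j)).arrow) ≫ π.f j := by
          dsimp only [z]
          rw [HomologicalComplex.comp_f, subι_f, Category.assoc]
        rw [this]
        exact factors_dIm _ _ _ (Subobject.factors_comp_arrow b)
      have h3 : (dIm (Z.d i j) (gspan (f i))).Factors z :=
        Subobject.factors_of_le _ (hf2 i j hij) ((Subobject.inf_factors _).2 ⟨h2, h1⟩)
      rw [← hπ i, dIm_comp] at h3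
      obtain ⟨W', π', hπ', c, hc⟩ := (factors_image_iff _ _).1 h3
      refine ⟨W', π', hπ', c, ?_⟩
      rw [hc, HomologicalComplex.comp_f, subι_f, Category.assoc]
  · intro h0
    apply hf3
    rw [← hπ n₀, eq_bot_iff, dIm_le_iff, Subobject.bot_factors_iff_zero]
    have := congrArg (fun φ => φ.f n₀) h0
    simpa using this

end

end Groth.Agent.Lib.Helper26.KInjKey
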