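import Mathlib

set_option maxHeartbeats 400000

universe v u

open CategoryTheory CategoryTheory.Limits MorphismProperty Category

namespace Groth.Agent.Lib.Helper26.KInjLarger

variable {C : Type u} [Category.{v} C] [Abelian C]
  (J W : MorphismProperty C)

/-- hypotheses on a class `W` of "good" monomorphisms and a class `J` of generators -/
structure Hyp : Prop where
  respectsIso : W.RespectsIso
  iso_le : isomorphisms C ≤ W
  iso_le_pushouts : isomorphisms C ≤ J.pushouts
  exists_pushouts : ∀ {X Y : C} (p : X ⟶ Y) [Mono p], W p → ¬ IsIso p →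
    ∃ (X' : C) (i : X ⟶ X') (p' : X' ⟶ Y), J.pushouts i ∧ ¬ IsIso i ∧ Mono p' ∧ W p' ∧ i ≫ p' = p
  filtered : ∀ (K : Type v) [SmallCategory K] [IsFiltered K], W.IsStableUnderColimitsOfShape K

variable {J W} (h : Hyp J W)

include h

lemma Hyp.W_mk_arrow_iff {X Y : C} (f : Y ⟶ X) [Mono f] : W (Subobject.mk f).arrow ↔ W f := by
  have := h.respectsIso
  exact W.arrow_mk_iso_iff (Arrow.isoMk (Subobject.underlyingIso f) (Iso.refl _) (by simp))

lemma exists_larger_subobject {X : C} (A : Subobject X) (hA : A ≠ ⊤) (hW : W A.arrow) :
    ∃ (A' : Subobject X) (h' : A < A'),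
      J.pushouts (Subobject.ofLE A A' h'.le) ∧ W A'.arrow := by
  induction A using Subobject.ind with | _ f
  obtain ⟨X', i, p', hi, hi', hp', hW', fac⟩ := h.exists_pushouts f
    ((h.W_mk_arrow_iff f).1 hW)
    (by simpa only [Subobject.isIso_iff_mk_eq_top] using hA)
  refine ⟨Subobject.mk p', Subobject.mk_lt_mk_of_comm i fac hi',
    (MorphismProperty.arrow_mk_iso_iff _ ?_).2 hi, (h.W_mk_arrow_iff p').2 hW'⟩
  refine Arrow.isoMk (Subobject.underlyingIso f) (Subobject.underlyingIso p') ?_
  dsimp
  simp only [← cancel_mono p', assoc, fac,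
    Subobject.underlyingIso_hom_comp_eq_mk, Subobject.ofLE_arrow]

variable {X : C}

open scoped Classical in
/-- a larger good subobject -/
noncomputable def largerSubobject (A : Subobject X) : Subobject X :=
  if hA : A ≠ ⊤ ∧ W A.arrow then (exists_larger_subobject h A hA.1 hA.2).choose else ⊤

variable (X) in
@[simp]
lemma largerSubobject_top : largerSubobject h (⊤ : Subobject X) = ⊤ := dif_neg (by simp)

lemma lt_largerSubobject (A : Subobject X) (hA : A ≠ ⊤) :
    A < largerSubobject h A := by
  by_cases hA' : A ≠ ⊤ ∧ W A.arrow
  · rw [largerSubobject, dif_pos hA']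
    exact (exists_larger_subobject h A hA'.1 hA'.2).choose_spec.choose
  · rw [largerSubobject, dif_neg hA']
    exact lt_top_iff_ne_top.2 hA

lemma le_largerSubobject (A : Subobject X) :
    A ≤ largerSubobject h A := by
  by_cases hA : A = ⊤
  · subst hA
    simp only [largerSubobject_top, le_refl]
  · exact (lt_largerSubobject h A hA).le

lemma W_top_arrow : W (⊤ : Subobject X).arrow :=
  h.iso_le _ (isomorphisms.infer_property _)

lemma W_largerSubobject (A : Subobject X) : W (largerSubobject h A).arrow := by
  by_cases hA' : A ≠ ⊤ ∧ W A.arrow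
  · rw [largerSubobject, dif_pos hA']
    exact (exists_larger_subobject h A hA'.1 hA'.2).choose_spec.choose_spec.2
  · rw [largerSubobject, dif_neg hA']
    exact W_top_arrow h

set_option backward.defeqAttrib.useBackward true in
set_option backward.isDefEq.respectTransparency false in
lemma pushouts_ofLE_le_largerSubobject (A : Subobject X) (hW : W A.arrow) :
    J.pushouts (Subobject.ofLE _ _ (le_largerSubobject h A)) := by
  by_cases hA : A = ⊤
  · subst hA
    have := (Subobject.isIso_arrow_iff_eq_top (largerSubobject h (⊤ : Subobject X))).2 (by simp)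
    exact (MorphismProperty.arrow_mk_iso_iff _
      (Arrow.isoMk (asIso (Subobject.arrow _)) (asIso (Subobject.arrow _)) (by simp))).2
        (h.iso_le_pushouts (𝟙 X)
          (MorphismProperty.isomorphisms.infer_property _))
  · have hA' : A ≠ ⊤ ∧ W A.arrow := ⟨hA, hW⟩
    refine (MorphismProperty.arrow_mk_iso_iff _ ?_).1
      (exists_larger_subobject h A hA hW).choose_spec.choose_spec.1
    exact Arrow.isoMk (Iso.refl _)
      (Subobject.isoOfEq _ _ ((by simp [largerSubobject, dif_pos hA'])))

variable [IsGrothendieckAbelian.{v} C]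

lemma top_mem_range (A₀ : Subobject X) {K : Type v} [LinearOrder K] [OrderBot K] [SuccOrder K]
    [WellFoundedLT K] (hK : HasCardinalLT (Subobject X) (Cardinal.mk K)) :
    ∃ (j : K), transfiniteIterate (largerSubobject h) j A₀ = ⊤ :=
  top_mem_range_transfiniteIterate (largerSubobject h) A₀ (lt_largerSubobject h) (by simp)
    (fun h' ↦ by simpa [hasCardinalLT_iff_cardinal_mk_lt] using hK.of_injective _ h')

lemma exists_ordinal (A₀ : Subobject X) :
    ∃ (o : Ordinal.{v}) (j : o.ToType), transfiniteIterate (largerSubobject h) j A₀ = ⊤ := by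
  let κ := Order.succ (Cardinal.mk (Shrink.{v} (Subobject X)))
  have : Nonempty κ.ord.ToType := by simp [κ]
  have := WellFoundedLT.toOrderBot κ.ord.ToType
  exact ⟨κ.ord, top_mem_range h A₀ (lt_of_lt_of_le (Order.lt_succ _) (by simp [κ]))⟩

section

variable (A₀ : Subobject X) (K : Type v) [LinearOrder K] [OrderBot K] [SuccOrder K]
  [WellFoundedLT K]

/-- the functor `K ⥤ MonoOver X` given by transfinite iteration -/
@[simps]
noncomputable def functorToMonoOver : K ⥤ MonoOver X where
  obj j := MonoOver.mk (transfiniteIterate (largerSubobject h) j A₀).arrow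
  map {j j'} f := MonoOver.homMk (Subobject.ofLE _ _
      (monotone_transfiniteIterate _ _ (le_largerSubobject h) (leOfHom f)))

/-- The functor `K ⥤ C` induced by `functorToMonoOver`. -/
noncomputable abbrev functor : K ⥤ C :=
  functorToMonoOver h A₀ K ⋙ MonoOver.forget _ ⋙ Over.forget _

set_option backward.defeqAttrib.useBackward true in
instance : (functor h A₀ K).IsWellOrderContinuous where
  nonempty_isColimit m hm := ⟨by
    have := hm.nonempty_Iio.to_subtype
    let c := (Set.principalSegIio m).cocone (functorToMonoOver h A₀ K ⋙ MonoOver.forget _)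
    have : Mono c.pt.hom := by dsimp [c]; infer_instance
    apply IsGrothendieckAbelian.isColimitMapCoconeOfSubobjectMkEqISup
      ((Set.principalSegIio m).monotone.functor ⋙ functorToMonoOver h A₀ K) c
    dsimp [c]
    simp only [Subobject.mk_arrow]
    exact transfiniteIterate_limit (largerSubobject h) A₀ m hm⟩

set_option backward.defeqAttrib.useBackward true in
set_option backward.isDefEq.respectTransparency false in
lemma W_iterate (hA₀ : W A₀.arrow) (j : K) :
    W (transfiniteIterate (largerSubobject h) j A₀).arrow := by
  induction j using SuccOrder.limitRecOn with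
  | isMin k hk =>
    obtain rfl := hk.eq_bot
    rw [transfiniteIterate_bot]
    exact hA₀
  | succ k hk _ =>
    rw [transfiniteIterate_succ _ _ _ hk]
    exact W_largerSubobject h _
  | isSuccLimit k hk ih =>
    have := hk.nonempty_Iio.to_subtype
    have hc := (functor h A₀ K).isColimitOfIsWellOrderContinuous k hk
    have := h.filtered (Set.Iio k)
    let f : (Set.principalSegIio k).monotone.functor ⋙ functor h A₀ K ⟶
        (Functor.const _).obj X :=
      { app j := (transfiniteIterate (largerSubobject h) j.1 A₀).arrow
        naturality j j' φ := by simp [MonoOver.forget] }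
    exact IsStableUnderColimitsOfShape.condition _ _ _ _ hc
      (isColimitConstCocone (Set.Iio k) X) f (fun j => ih j.1 j.2) _
      (fun j => by simp [f, MonoOver.forget])

set_option backward.isDefEq.respectTransparency.types false in
set_option backward.defeqAttrib.useBackward true in
variable {K} in
/-- For any `j`, the map `(functor h A₀ K).map (homOfLE bot_le : ⊥ ⟶ j)`
is a transfinite composition of pushouts of morphisms in `J`. -/
noncomputable def transfiniteCompositionOfShapeMapFromBot (hA₀ : W A₀.arrow) (j : K) :
    J.pushouts.TransfiniteCompositionOfShape (Set.Iic j)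
    ((functor h A₀ K).map (homOfLE bot_le : ⊥ ⟶ j)) where
  F := (Set.initialSegIic j).monotone.functor ⋙ functor h A₀ K
  isoBot := Iso.refl _
  incl :=
    { app k := (functor h A₀ K).map (homOfLE k.2)
      naturality k k' h := by simp [MonoOver.forget] }
  isColimit := colimitOfDiagramTerminal isTerminalTop _
  map_mem k hk := by
    dsimp [MonoOver.forget]
    convert!
      pushouts_ofLE_le_largerSubobject h (transfiniteIterate (largerSubobject h) k.1 A₀)
        (W_iterate h A₀ K hA₀ k.1) using 2
    all_goals
      rw [Set.Iic.succ_eq_of_not_isMax hk,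
        transfiniteIterate_succ _ _ _ (Set.not_isMax_coe _ hk)]

end

variable {A : C} {f : A ⟶ X} [Mono f]

set_option backward.defeqAttrib.useBackward true in
set_option backward.isDefEq.respectTransparency false in
/-- If `transfiniteIterate (largerSubobject h) j (Subobject.mk f) = ⊤`,
then the monomorphism `f` is a transfinite composition of pushouts of
morphisms in `J`. -/
noncomputable def transfiniteCompositionOfShapeOfEqTop (hf : W f)
    {K : Type v} [LinearOrder K] [OrderBot K] [SuccOrder K] [WellFoundedLT K] {j : K}
    (hj : transfiniteIterate (largerSubobject h) j (Subobject.mk f) = ⊤) :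
    J.pushouts.TransfiniteCompositionOfShape (Set.Iic j) f := by
  let t := transfiniteIterate (largerSubobject h) j (Subobject.mk f)
  have := (Subobject.isIso_arrow_iff_eq_top t).2 hj
  apply (transfiniteCompositionOfShapeMapFromBot h (Subobject.mk f)
    ((h.W_mk_arrow_iff f).2 hf) j).ofArrowIso
  refine Arrow.isoMk ((Subobject.isoOfEq _ _ (transfiniteIterate_bot _ _) ≪≫
    Subobject.underlyingIso f)) (asIso t.arrow) ?_
  dsimp [MonoOver.forget]
  rw [assoc, Subobject.underlyingIso_hom_comp_eq_mk, Subobject.ofLE_arrow,
    Subobject.ofLE_arrow]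

variable (f)

lemma exists_transfiniteCompositionOfShape (hf : W f) :
    ∃ (K : Type v) (_ : LinearOrder K) (_ : OrderBot K) (_ : SuccOrder K)
        (_ : WellFoundedLT K),
    Nonempty (J.pushouts.TransfiniteCompositionOfShape K f) := by
  obtain ⟨o, j, hj⟩ := exists_ordinal h (Subobject.mk f)
  have : Nonempty o.ToType := ⟨j⟩
  have : OrderBot o.ToType := WellFoundedLT.toOrderBot _
  exact ⟨_, _, _, _, _, ⟨transfiniteCompositionOfShapeOfEqTop h hf hj⟩⟩

omit [Mono f] in
/-- the main consequence: right lifting against `J` implies right lifting against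
good monomorphisms -/
lemma rlp_le : J.rlp ≤ (monomorphisms C ⊓ W).rlp := by
  intro X Y p hp A B i hi
  have : Mono i := hi.1
  obtain ⟨K, _, _, _, _, ⟨h'⟩⟩ := exists_transfiniteCompositionOfShape h i hi.2
  exact transfiniteCompositionsOfShape_le_llp_rlp _ _ _ h'.mem _ (by simpa)

end Groth.Agent.Lib.Helper26.KInjLarger
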