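import Mathlib
import Groth.Agent.Lib.Helper8.HColim2

set_option maxHeartbeats 400000
set_option backward.isDefEq.respectTransparency false

universe w w' v u

open CategoryTheory CategoryTheory.Limits MorphismProperty

namespace Groth.Agent.Lib.Helper26.KInjStab

variable {A : Type u} [Category.{v} A] [Abelian A]

/-- quasi-isomorphisms of cochain complexes -/
abbrev qis (A : Type u) [Category.{v} A] [Abelian A] : MorphismProperty (CochainComplex A ℤ) :=
  HomologicalComplex.quasiIso A (ComplexShape.up ℤ)

/-- trivial cofibrations: monomorphisms which are quasi-isomorphisms -/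
def TC (A : Type u) [Category.{v} A] [Abelian A] : MorphismProperty (CochainComplex A ℤ) :=
  monomorphisms (CochainComplex A ℤ) ⊓ qis A

lemma tc_iff {K L : CochainComplex A ℤ} (f : K ⟶ L) : TC A f ↔ Mono f ∧ QuasiIso f := by
  rw [← HomologicalComplex.mem_quasiIso_iff]
  rfl

section ShortExact

variable {S : ShortComplex (CochainComplex A ℤ)}

lemma quasiIso_f_of_acyclic (hS : S.ShortExact) (h₃ : S.X₃.Acyclic) : QuasiIso S.f := by
  rw [quasiIso_iff]
  intro n
  rw [quasiIsoAt_iff_isIso_homologyMap]
  have h0 : ∀ m, IsZero (S.X₃.homology m) := fun m => by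
    rw [← HomologicalComplex.exactAt_iff_isZero_homology]; exact h₃ m
  have : Mono (HomologicalComplex.homologyMap S.f n) :=
    (hS.homology_exact₁ (n - 1) n (by simp)).mono_g ((h0 _).eq_of_src _ _)
  have : Epi (HomologicalComplex.homologyMap S.f n) :=
    (hS.homology_exact₂ n).epi_f ((h0 _).eq_of_tgt _ _)
  exact isIso_of_mono_of_epi _

lemma quasiIso_of_mono_of_acyclic_cokernel {K L : CochainComplex A ℤ} (f : K ⟶ L) [Mono f]
    (h : (cokernel f).Acyclic) : QuasiIso f :=
  quasiIso_f_of_acyclic (S := ShortComplex.mk f (cokernel.π f) (cokernel.condition f))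
    { exact := ShortComplex.exact_cokernel f } h

lemma acyclic_cokernel_of_quasiIso {K L : CochainComplex A ℤ} (f : K ⟶ L) [Mono f]
    (h : QuasiIso f) : (cokernel f).Acyclic :=
  ShortComplex.ShortExact.acyclic_X₃
    (S := ShortComplex.mk f (cokernel.π f) (cokernel.condition f))
    { exact := ShortComplex.exact_cokernel f } h

end ShortExact

section Pushout

variable {C : Type*} [Category C] [Abelian C] {X₁ X₂ X₃ X₄ : C} {t : X₁ ⟶ X₂} {l : X₁ ⟶ X₃}
  {r : X₂ ⟶ X₄} {b : X₃ ⟶ X₄}

/-- in a pushout square, the cokernels of the two vertical maps are isomorphic -/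
noncomputable def cokernelIsoOfIsPushout (sq : IsPushout t l r b) : cokernel l ≅ cokernel r where
  hom := cokernel.map l r t b sq.w.symm
  inv := cokernel.desc r (sq.desc 0 (cokernel.π l) (by simp)) (by simp)
  hom_inv_id := by
    apply coequalizer.hom_ext
    simp
  inv_hom_id := by
    apply coequalizer.hom_ext
    apply sq.hom_ext
    · simp
    · simp

end Pushout


section Stability

instance qis_isStableUnderColimitsOfShape (J : Type w) [Category.{w'} J] [HasColimitsOfShape J A]
    [HasExactColimitsOfShape J A] : (qis A).IsStableUnderColimitsOfShape J where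
  condition X₁ X₂ c₁ c₂ h₁ h₂ f hf φ hφ := by
    refine (HomologicalComplex.mem_quasiIso_iff _).2 ?_
    rw [quasiIso_iff]
    intro n
    rw [quasiIsoAt_iff_isIso_homologyMap]
    let F := HomologicalComplex.homologyFunctor A (ComplexShape.up ℤ) n
    exact (IsStableUnderColimitsOfShape.isomorphisms A J).condition (X₁ ⋙ F) (X₂ ⋙ F)
      (F.mapCocone c₁) (F.mapCocone c₂)
      (isColimitOfPreserves F h₁) (isColimitOfPreserves F h₂) (Functor.whiskerRight f F)
      (fun j => by
        have : QuasiIso (f.app j) := (HomologicalComplex.mem_quasiIso_iff _).1 (hf j)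
        dsimp [F]
        change IsIso (HomologicalComplex.homologyMap (f.app j) n)
        infer_instance)
      (F.map φ) (fun j => by
        dsimp
        rw [← F.map_comp, ← F.map_comp, hφ])

instance inf_isStableUnderColimitsOfShape {C : Type*} [Category C] (W₁ W₂ : MorphismProperty C)
    (J : Type*) [Category J] [W₁.IsStableUnderColimitsOfShape J]
    [W₂.IsStableUnderColimitsOfShape J] : (W₁ ⊓ W₂).IsStableUnderColimitsOfShape J where
  condition X₁ X₂ c₁ c₂ h₁ h₂ f hf φ hφ :=
    ⟨IsStableUnderColimitsOfShape.condition X₁ X₂ c₁ c₂ h₁ h₂ f (fun j => (hf j).1) φ hφ,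
      IsStableUnderColimitsOfShape.condition X₁ X₂ c₁ c₂ h₁ h₂ f (fun j => (hf j).2) φ hφ⟩

variable [IsGrothendieckAbelian.{v} A]

instance : IsStableUnderFilteredColimits.{v, v} (TC A) where
  isStableUnderColimitsOfShape J _ _ := by
    unfold TC
    infer_instance

instance : IsStableUnderCoproducts.{v} (TC A) where
  isStableUnderCoproductsOfShape J := by
    unfold TC
    infer_instance

instance : (TC A).RespectsIso := by unfold TC; infer_instance
instance : (TC A).IsMultiplicative := by unfold TC; infer_instance
instance : (TC A).IsStableUnderRetracts := by unfold TC; infer_instance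

lemma acyclic_of_iso {K L : CochainComplex A ℤ} (e : K ≅ L) (h : K.Acyclic) : L.Acyclic := by
  intro n
  have h' := h n
  rw [HomologicalComplex.exactAt_iff_isZero_homology] at h' ⊢
  exact IsZero.of_iso h'
    ((HomologicalComplex.homologyFunctor A (ComplexShape.up ℤ) n).mapIso e.symm)

instance : (TC A).IsStableUnderCobaseChange where
  of_isPushout {K₁ K₂ K₃ K₄ l t r b} sq hl := by
    rw [tc_iff] at hl ⊢
    obtain ⟨hl1, hl2⟩ := hl
    have hr : Mono r := (MorphismProperty.monomorphisms _).of_isPushout sq hl1
    refine ⟨hr, ?_⟩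
    apply quasiIso_of_mono_of_acyclic_cokernel
    exact acyclic_of_iso (cokernelIsoOfIsPushout sq) (acyclic_cokernel_of_quasiIso l hl2)

instance : IsStableUnderTransfiniteComposition.{v} (TC A) := inferInstance

end Stability

end Groth.Agent.Lib.Helper26.KInjStab
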