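import Mathlib
import Groth.Agent.Lib.Helper26.KInjKey
import Groth.Agent.Lib.Helper26.KInjStab
import Groth.Agent.Lib.Helper26.KInjLarger

set_option maxHeartbeats 400000
set_option backward.isDefEq.respectTransparency false

universe v u

open CategoryTheory CategoryTheory.Limits MorphismProperty
open Groth.Agent.Lib.Helper26.KInjGen Groth.Agent.Lib.Helper26.KInjClosure
  Groth.Agent.Lib.Helper26.KInjKey Groth.Agent.Lib.Helper26.KInjStab

namespace Groth.Agent.Lib.Helper26.KInjSet

variable {A : Type u} [Category.{v} A] [Abelian A] [IsGrothendieckAbelian.{v} A]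

section Cx

variable (P : A)

/-- the subobject of `P` attached to an element of the shrunk type of subobjects -/
noncomputable abbrev sb (k : Shrink.{v} (Subobject P)) : Subobject P := (equivShrink _).symm k

/-- data for a complex whose terms are cokernels of subobjects of `P` -/
structure Cx where
  K : ℤ → Shrink.{v} (Subobject P)
  d : ∀ n : ℤ, cokernel (sb P (K n)).arrow ⟶ cokernel (sb P (K (n + 1))).arrow
  sq : ∀ n : ℤ, d n ≫ d (n + 1) = 0

variable {P}

/-- the complex attached to the data -/
noncomputable def Cx.cx (Q : Cx P) : CochainComplex A ℤ :=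
  CochainComplex.of (fun n => cokernel (sb P (Q.K n)).arrow) Q.d Q.sq

/-- a quotient of `P` is the cokernel of a subobject of `P` -/
lemma exists_subobject_cokernel_iso {b : A} (π : P ⟶ b) [Epi π] :
    ∃ K : Shrink.{v} (Subobject P), Nonempty (cokernel (sb P K).arrow ≅ b) := by
  refine ⟨equivShrink _ (Subobject.mk (kernel.ι π)), ⟨?_⟩⟩
  have h0 : sb P (equivShrink _ (Subobject.mk (kernel.ι π))) = Subobject.mk (kernel.ι π) :=
    Equiv.symm_apply_apply _ _
  have hK : (sb P (equivShrink _ (Subobject.mk (kernel.ι π)))).arrow =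
      ((Subobject.isoOfEq _ _ h0).hom ≫ (Subobject.underlyingIso (kernel.ι π)).hom) ≫
        kernel.ι π := by
    rw [Category.assoc, Subobject.underlyingIso_hom_comp_eq_mk, Subobject.isoOfEq_hom,
      Subobject.ofLE_arrow]
  exact cokernelIsoOfEq hK ≪≫ cokernelEpiComp _ _ ≪≫
    (colimit.isColimit _).coconePointUniqueUpToIso
      (Abelian.epiIsCokernelOfKernel _ (limit.isLimit _))

/-- every complex whose terms are quotients of `P` is isomorphic to one of the set -/
lemma exists_cx (B : CochainComplex A ℤ) (hB : ∀ n, ∃ p : P ⟶ B.X n, Epi p) :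
    ∃ Q : Cx P, Nonempty (B ≅ Q.cx) := by
  choose p hp using hB
  choose K hK using fun n => exists_subobject_cokernel_iso (p n)
  let e : ∀ n, cokernel (sb P (K n)).arrow ≅ B.X n := fun n => (hK n).some
  let Q : Cx P :=
    { K := K
      d := fun n => (e n).hom ≫ B.d n (n + 1) ≫ (e (n + 1)).inv
      sq := fun n => by simp }
  refine ⟨Q, ⟨(HomologicalComplex.Hom.isoOfComponents (fun n => e n) ?_).symm⟩⟩
  rintro i j (rfl : i + 1 = j)
  have h1 : Q.cx.d i (i + 1) = Q.d i := CochainComplex.of_d _ Q.d i
  change (e i).hom ≫ B.d i (i + 1) = Q.cx.d i (i + 1) ≫ (e (i + 1)).hom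
  rw [h1]
  simp [Q]

end Cx

section J

variable (P : A)

/-- index type of the set of generating trivial cofibrations -/
def Idx := Σ Q : Cx P, {L : Subobject Q.cx // QuasiIso L.arrow}

instance : Small.{v} (Idx P) := by
  dsimp [Idx]
  infer_instance

/-- the set of generating trivial cofibrations -/
def J : MorphismProperty (CochainComplex A ℤ) :=
  MorphismProperty.ofHoms (fun i : Idx P => i.2.1.arrow)

instance : MorphismProperty.IsSmall.{v} (J P) := by
  dsimp [J]
  infer_instance

lemma J_le_TC : J P ≤ TC A := by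
  rintro _ _ _ ⟨i⟩
  exact (tc_iff _).2 ⟨inferInstance, i.2.2⟩

variable {P}

/-- a trivial cofibration whose target has terms which are quotients of `P` is isomorphic to
a member of `J P`. -/
lemma exists_J_iso {P' B : CochainComplex A ℤ} (f : P' ⟶ B) [Mono f] (hf : QuasiIso f)
    (hB : ∀ n, ∃ p : P ⟶ B.X n, Epi p) :
    ∃ (K L : CochainComplex A ℤ) (q : K ⟶ L) (_ : J P q), Nonempty (CategoryTheory.Arrow.mk q ≅ CategoryTheory.Arrow.mk f) := by
  obtain ⟨Q, ⟨e⟩⟩ := exists_cx B hB
  let L : Subobject Q.cx := Subobject.mk (f ≫ e.hom)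
  have hL : L.arrow = (Subobject.underlyingIso (f ≫ e.hom)).hom ≫ f ≫ e.hom :=
    (Subobject.underlyingIso_hom_comp_eq_mk _).symm
  have hq : QuasiIso L.arrow := by
    rw [hL]
    infer_instance
  refine ⟨_, _, L.arrow, ⟨(⟨Q, ⟨L, hq⟩⟩ : Idx P)⟩, ⟨?_⟩⟩
  exact CategoryTheory.Arrow.isoMk (Subobject.underlyingIso (f ≫ e.hom)) e.symm (by
    change (Subobject.underlyingIso (f ≫ e.hom)).hom ≫ f = L.arrow ≫ e.inv
    rw [hL, Category.assoc, Category.assoc, e.hom_inv_id, Category.comp_id])

lemma pushouts_of_arrow_iso {C : Type*} [Category C] (W : MorphismProperty C)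
    {K L K' L' X Y : C} {q : K ⟶ L} {q' : K' ⟶ L'}
    (e : CategoryTheory.Arrow.mk q ≅ CategoryTheory.Arrow.mk q') (hq : W q) {f : K' ⟶ X} {p : X ⟶ Y} {g : L' ⟶ Y}
    (sq : IsPushout f q' p g) : W.pushouts p :=
  ⟨_, _, q, e.hom.left ≫ f, e.hom.right ≫ g, hq,
    IsPushout.paste_horiz (IsPushout.of_horiz_isIso ⟨e.hom.w⟩) sq⟩

end J

section Main

variable (A) in
/-- the "big" object: all terms of the subcomplexes produced by the key lemma are its
quotients -/
noncomputable abbrev bigP : A :=
  ∐ fun _ : μB (separator A) (μinf (separator A)) => separator A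

lemma exists_pushouts_TC {A₀ X : CochainComplex A ℤ} (a : A₀ ⟶ X) [Mono a] (ha : QuasiIso a)
    (hna : ¬ IsIso a) :
    ∃ (X' : CochainComplex A ℤ) (i : A₀ ⟶ X') (p' : X' ⟶ X),
      (J (bigP A)).pushouts i ∧ ¬ IsIso i ∧ Mono p' ∧ qis A p' ∧ i ≫ p' = a := by
  obtain ⟨h, hh, hq, hne⟩ := key_lemma (isSeparator_separator A) a ha hna
  let ι := subι X _ hh
  have sq := IsPushout.of_hasPushout (pullback.fst a ι) (pullback.snd a ι)
  have hmono : Mono (pullback.snd a ι) := inferInstance
  obtain ⟨K, L, q, hJ, ⟨e⟩⟩ := exists_J_iso (P := bigP A) (pullback.snd a ι) hq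
    (fun n => ⟨factorThruImageSubobject (Sigma.desc (h n)), inferInstance⟩)
  refine ⟨pushout (pullback.fst a ι) (pullback.snd a ι), pushout.inl _ _,
    pushout.desc a ι pullback.condition, pushouts_of_arrow_iso _ e hJ sq, ?_, ?_, ?_, by simp⟩
  · intro hiso
    apply hne
    have h1 : ι = (pushout.inr _ _ ≫ inv (pushout.inl (pullback.fst a ι) (pullback.snd a ι))) ≫
        a := by
      have h2 : pushout.inl (pullback.fst a ι) (pullback.snd a ι) ≫
          pushout.desc a ι pullback.condition = a := by simp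
      have h3 : inv (pushout.inl (pullback.fst a ι) (pullback.snd a ι)) ≫ a =
          pushout.desc a ι pullback.condition := by
        rw [IsIso.inv_comp_eq, h2]
      rw [Category.assoc, h3, pushout.inr_desc]
    change ι ≫ cokernel.π a = 0
    rw [h1, Category.assoc, cokernel.condition, comp_zero]
  · exact sq.mono_of_isPullback_of_mono (IsPullback.of_hasPullback a ι) _ (by simp) (by simp)
  · have hinl : TC A (pushout.inl (pullback.fst a ι) (pullback.snd a ι)) :=
      MorphismProperty.IsStableUnderCobaseChange.of_isPushout sq ((tc_iff _).2 ⟨hmono, hq⟩)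
    have h1 : QuasiIso (pushout.inl (pullback.fst a ι) (pullback.snd a ι)) :=
      ((tc_iff _).1 hinl).2
    have h2 : QuasiIso (pushout.inl (pullback.fst a ι) (pullback.snd a ι) ≫
        pushout.desc a ι pullback.condition) := by
      rw [pushout.inl_desc]; exact ha
    refine (HomologicalComplex.mem_quasiIso_iff _).2 ?_
    exact quasiIso_of_comp_left (pushout.inl (pullback.fst a ι) (pullback.snd a ι)) _

/-- a trivial element of `Cx P` -/
noncomputable def Cx.zero (P : A) : Cx P where
  K := fun _ => equivShrink _ ⊤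
  d := fun _ => 0
  sq := fun _ => by simp

lemma hyp : Groth.Agent.Lib.Helper26.KInjLarger.Hyp (J (bigP A)) (qis A) where
  respectsIso := inferInstance
  iso_le := by
    intro K L f (hf : IsIso f)
    exact (HomologicalComplex.mem_quasiIso_iff _).2 inferInstance
  iso_le_pushouts := MorphismProperty.isomorphisms_le_pushouts _ (fun X => by
    have hq : QuasiIso (⊤ : Subobject (Cx.zero (bigP A)).cx).arrow := inferInstance
    exact ⟨_, _, (⊤ : Subobject (Cx.zero (bigP A)).cx).arrow,
      ⟨(⟨Cx.zero (bigP A), ⟨⊤, hq⟩⟩ : Idx (bigP A))⟩, 0, inferInstance⟩)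
  exists_pushouts := fun p _ hp hnp =>
    exists_pushouts_TC p ((HomologicalComplex.mem_quasiIso_iff _).1 hp) hnp
  filtered := fun K _ _ => inferInstance

/-- right lifting against the set `J` implies right lifting against all trivial cofibrations -/
lemma rlp_J_le : (J (bigP A)).rlp ≤ (TC A).rlp :=
  Groth.Agent.Lib.Helper26.KInjLarger.rlp_le hyp

end Main

end Groth.Agent.Lib.Helper26.KInjSet
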