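import Mathlib
import Groth.Agent.Lib.Helper26.KInjSet
import Groth.Agent.Lib.Helper8.KInjLift

set_option maxHeartbeats 400000

universe v u

open CategoryTheory CategoryTheory.Limits MorphismProperty
open Groth.Agent.Lib.Helper26.KInjStab Groth.Agent.Lib.Helper26.KInjSet

namespace Groth.Agent.Lib.Helper26.KInjMain

variable {A : Type u} [Category.{v} A] [Abelian A] [IsGrothendieckAbelian.{v} A]

instance (P : A) : HasSmallObjectArgument.{v} (J P) := by
  obtain ⟨κ, hκ', hκ⟩ := HasCardinalLT.exists_regular_cardinal_forall.{v}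
    (fun i : Idx P => Subobject (i.2.1 : CochainComplex A ℤ))
  have : Fact κ.IsRegular := ⟨hκ'⟩
  have : Nonempty κ.ord.ToType := by simpa using hκ'.ne_zero
  have := WellFoundedLT.toOrderBot κ.ord.ToType
  exact ⟨κ, inferInstance, inferInstance,
    { preservesColimit {A' B X Y} i hi f hf := by
        let hf' : (monomorphisms (CochainComplex A ℤ)).TransfiniteCompositionOfShape
            κ.ord.ToType f :=
          { toTransfiniteCompositionOfShape := hf.toTransfiniteCompositionOfShape
            map_mem j hj := by
              have := (hf.attachCells j hj).pushouts_coproducts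
              simp only [ofHoms_homFamily] at this
              refine (?_ : _ ≤ monomorphisms (CochainComplex A ℤ)) _ this
              simp only [pushouts_le_iff, coproducts_le_iff]
              exact (J_le_TC P).trans inf_le_left }
        have (j j' : κ.ord.ToType) (φ : j ⟶ j') : Mono (hf'.F.map φ) := hf'.mem_map φ
        apply IsGrothendieckAbelian.preservesColimit_coyoneda_obj_of_mono (Y := hf'.F) (κ := κ)
        obtain ⟨S⟩ := hi
        exact hκ S }⟩

lemma llp_rlp_J_le (P : A) : (J P).rlp.llp ≤ TC A := by
  rw [llp_rlp_of_hasSmallObjectArgument]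
  trans (transfiniteCompositions.{v} (coproducts.{v} (TC A)).pushouts).retracts
  · apply retracts_monotone
    apply transfiniteCompositions_monotone
    apply pushouts_monotone
    apply coproducts_monotone
    exact J_le_TC P
  · simp

open ZeroObject in
/-- **K-injective resolutions in Grothendieck abelian categories**: every complex admits a
termwise monomorphic quasi-isomorphism to a K-injective complex with injective terms. -/
theorem main (M : CochainComplex A ℤ) :
    ∃ (I : CochainComplex A ℤ) (f : M ⟶ I), I.IsKInjective ∧ QuasiIso f ∧ (∀ n, Mono (f.f n)) ∧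
      ∀ n, Injective (I.X n) := by
  let P := bigP A
  let fac := (functorialFactorizationData (J P).rlp.llp (J P).rlp).factorizationData
    (0 : M ⟶ 0)
  have hi : TC A fac.i := llp_rlp_J_le P _ fac.hi
  have hp : (TC A).rlp fac.p := rlp_J_le _ fac.hp
  obtain ⟨hi1, hi2⟩ := (tc_iff _).1 hi
  have hL : ∀ (S : ShortComplex (CochainComplex A ℤ)), S.ShortExact → S.X₃.Acyclic →
      ∀ φ : S.X₁ ⟶ fac.Z, ∃ ψ : S.X₂ ⟶ fac.Z, S.f ≫ ψ = φ := by
    intro S hS h3 φ
    have hSf : TC A S.f := (tc_iff _).2 ⟨hS.mono_f, quasiIso_f_of_acyclic hS h3⟩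
    have hl : HasLiftingProperty S.f fac.p := hp _ hSf
    have sq : CommSq φ S.f fac.p (0 : S.X₂ ⟶ 0) := ⟨(isZero_zero _).eq_of_tgt _ _⟩
    exact ⟨sq.lift, sq.fac_left⟩
  exact ⟨fac.Z, fac.i, Groth.Agent.Lib.Helper8.KInjLift.isKInjective _ hL, hi2,
    fun n => inferInstance, fun n => Groth.Agent.Lib.Helper8.KInjLift.injective_X _ hL n⟩

end Groth.Agent.Lib.Helper26.KInjMain
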