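import Mathlib
import Groth.Agent.Lib.Helper26.KInjMain
import Groth.Agent.Lib.Helper8.KInjDer
import Groth.Agent.Lib.Helper6.DerivedAdj

set_option maxHeartbeats 400000

universe w w' v v' u u'

open CategoryTheory CategoryTheory.Limits

namespace Groth.Agent.Lib.Helper26.KInjAdjH

variable {A : Type u} {B : Type u'} [Category.{v} A] [Category.{v'} B] [Abelian A] [Abelian B]
  [IsGrothendieckAbelian.{v'} B] [HasDerivedCategory.{w} A] [HasDerivedCategory.{w'} B]
  (F : A ⥤ B) (G : B ⥤ A) (adj : F ⊣ G) [F.Additive] [G.Additive]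
  [PreservesFiniteLimits F] [PreservesFiniteColimits F]

omit [HasDerivedCategory B] in
/-- K-injective resolutions exist in the homotopy category of a Grothendieck abelian category -/
lemma hK : ∀ X : HomotopyCategory B (ComplexShape.up ℤ),
    ∃ (J : HomotopyCategory B (ComplexShape.up ℤ)) (_ : Groth.Agent.Lib.Helper8.KInjDer.kinj J)
      (s : X ⟶ J), HomotopyCategory.quasiIso B (ComplexShape.up ℤ) s :=
  Groth.Agent.Lib.Helper8.KInjDer.hK_of_complexes (fun K => by
    obtain ⟨I, f, h1, h2, -, -⟩ := Groth.Agent.Lib.Helper26.KInjMain.main K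
    exact ⟨I, f, h1, h2⟩)

include adj in
/-- homotopy-category-level version of the derived adjunction -/
theorem derivedAdjH (RG : DerivedCategory B ⥤ DerivedCategory A)
    (α : G.mapHomotopyCategory (ComplexShape.up ℤ) ⋙ DerivedCategory.Qh ⟶
      DerivedCategory.Qh ⋙ RG)
    [RG.IsRightDerivedFunctor α (HomotopyCategory.quasiIso B (ComplexShape.up ℤ))] :
    Nonempty (F.mapDerivedCategory ⊣ RG) := by
  let W₁ := HomotopyCategory.quasiIso A (ComplexShape.up ℤ)
  let W₂ := HomotopyCategory.quasiIso B (ComplexShape.up ℤ)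
  let β : DerivedCategory.Qh ⋙ F.mapDerivedCategory ⟶
      F.mapHomotopyCategory (ComplexShape.up ℤ) ⋙ DerivedCategory.Qh :=
    F.mapDerivedCategoryFactorsh.hom
  have hinv : W₁.IsInvertedBy (F.mapHomotopyCategory (ComplexShape.up ℤ) ⋙ DerivedCategory.Qh) :=
    (MorphismProperty.IsInvertedBy.iff_of_iso W₁ F.mapDerivedCategoryFactorsh).1
      (MorphismProperty.IsInvertedBy.of_comp _ _ (Localization.inverts DerivedCategory.Qh W₁) _)
  have hβ : IsIso β := inferInstance
  have i1 : F.mapDerivedCategory.IsLeftDerivedFunctor β W₁ :=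
    (Functor.isLeftDerivedFunctor_iff_of_inverts _ β hinv).2 hβ
  have i2 : (F.mapDerivedCategory ⋙ RG).IsLeftDerivedFunctor
      ((Functor.associator _ _ _).inv ≫ Functor.whiskerRight β RG) W₁ :=
    (Functor.isLeftDerivedFunctor_iff_of_inverts _ _
      (MorphismProperty.IsInvertedBy.of_comp _ _ hinv _)).2 inferInstance
  have := Groth.Agent.Lib.Helper8.KInjDer.isRightDerivabilityStructure (hK (B := B))
  have i3 : (RG ⋙ F.mapDerivedCategory).IsRightDerivedFunctor
      (Functor.whiskerRight α F.mapDerivedCategory ≫ (Functor.associator _ _ _).hom) W₂ :=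
    (Groth.Agent.Lib.Helper8.KInjDer.derives _).isRightDerivedFunctor_of_isIso _ (fun X => by
      have := (Groth.Agent.Lib.Helper8.KInjDer.derives
        (G.mapHomotopyCategory (ComplexShape.up ℤ) ⋙ DerivedCategory.Qh)).isIso_of_isRightDerivedFunctor α X
      dsimp
      infer_instance)
  exact ⟨(Groth.Agent.Lib.Helper6.DerivedAdj.adjH adj (ComplexShape.up ℤ)).derived W₁ W₂ β α⟩

include adj in
/-- if moreover the right adjoint is fully faithful, the derived counit is an isomorphism -/
theorem derivedAdjH_counit_isIso [G.Full] [G.Faithful]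
    (RG : DerivedCategory B ⥤ DerivedCategory A)
    (α : G.mapHomotopyCategory (ComplexShape.up ℤ) ⋙ DerivedCategory.Qh ⟶
      DerivedCategory.Qh ⋙ RG)
    [RG.IsRightDerivedFunctor α (HomotopyCategory.quasiIso B (ComplexShape.up ℤ))] :
    ∃ adj' : F.mapDerivedCategory ⊣ RG, IsIso adj'.counit := by
  let W₁ := HomotopyCategory.quasiIso A (ComplexShape.up ℤ)
  let W₂ := HomotopyCategory.quasiIso B (ComplexShape.up ℤ)
  let β : DerivedCategory.Qh ⋙ F.mapDerivedCategory ⟶
      F.mapHomotopyCategory (ComplexShape.up ℤ) ⋙ DerivedCategory.Qh :=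
    F.mapDerivedCategoryFactorsh.hom
  have hinv : W₁.IsInvertedBy (F.mapHomotopyCategory (ComplexShape.up ℤ) ⋙ DerivedCategory.Qh) :=
    (MorphismProperty.IsInvertedBy.iff_of_iso W₁ F.mapDerivedCategoryFactorsh).1
      (MorphismProperty.IsInvertedBy.of_comp _ _ (Localization.inverts DerivedCategory.Qh W₁) _)
  have hβ : IsIso β := inferInstance
  have i1 : F.mapDerivedCategory.IsLeftDerivedFunctor β W₁ :=
    (Functor.isLeftDerivedFunctor_iff_of_inverts _ β hinv).2 hβ
  have i2 : (F.mapDerivedCategory ⋙ RG).IsLeftDerivedFunctor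
      ((Functor.associator _ _ _).inv ≫ Functor.whiskerRight β RG) W₁ :=
    (Functor.isLeftDerivedFunctor_iff_of_inverts _ _
      (MorphismProperty.IsInvertedBy.of_comp _ _ hinv _)).2 inferInstance
  have := Groth.Agent.Lib.Helper8.KInjDer.isRightDerivabilityStructure (hK (B := B))
  have hα : ∀ X : (Groth.Agent.Lib.Helper8.KInjDer.kinj (A := B)).FullSubcategory,
      IsIso (α.app (Groth.Agent.Lib.Helper8.KInjDer.Φ.functor.obj X)) := fun X =>
    (Groth.Agent.Lib.Helper8.KInjDer.derives
      (G.mapHomotopyCategory (ComplexShape.up ℤ) ⋙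
        DerivedCategory.Qh)).isIso_of_isRightDerivedFunctor α X
  have i3 : (RG ⋙ F.mapDerivedCategory).IsRightDerivedFunctor
      (Functor.whiskerRight α F.mapDerivedCategory ≫ (Functor.associator _ _ _).hom) W₂ :=
    (Groth.Agent.Lib.Helper8.KInjDer.derives _).isRightDerivedFunctor_of_isIso _ (fun X => by
      have := hα X
      dsimp
      infer_instance)
  let adjH := Groth.Agent.Lib.Helper6.DerivedAdj.adjH adj (ComplexShape.up ℤ)
  refine ⟨adjH.derived W₁ W₂ β α, ?_⟩
  rw [Adjunction.derived_counit, NatTrans.isIso_iff_isIso_app]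
  intro Y
  have hess := Groth.Agent.Lib.Helper8.KInjDer.Φ.essSurj_of_hasRightResolutions
    (W₁ := MorphismProperty.isomorphisms (Groth.Agent.Lib.Helper8.KInjDer.kinj (A := B)).FullSubcategory)
    (DerivedCategory.Qh (C := B))
  rw [NatTrans.isIso_app_iff_of_iso _
    ((Groth.Agent.Lib.Helper8.KInjDer.Φ.functor ⋙ DerivedCategory.Qh).objObjPreimageIso Y).symm]
  set X := (Groth.Agent.Lib.Helper8.KInjDer.Φ.functor ⋙ DerivedCategory.Qh).objPreimage Y
  have h1 := adjH.derivedε_fac_app W₂ β α (Groth.Agent.Lib.Helper8.KInjDer.Φ.functor.obj X)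
  have := hα X
  have hc : IsIso (adjH.counit.app (Groth.Agent.Lib.Helper8.KInjDer.Φ.functor.obj X)) := by
    have : ∀ i, IsIso (((Groth.Agent.Lib.Helper6.DerivedAdj.counitCx adj (ComplexShape.up ℤ)).app
        (Groth.Agent.Lib.Helper8.KInjDer.Φ.functor.obj X).as).f i) := fun i => by
      rw [Groth.Agent.Lib.Helper6.DerivedAdj.counitCx_app_f]
      exact (inferInstance : IsIso (adj.counit.app
        ((Groth.Agent.Lib.Helper8.KInjDer.Φ.functor.obj X).as.X i)))
    have h' : IsIso ((Groth.Agent.Lib.Helper6.DerivedAdj.counitCx adj (ComplexShape.up ℤ)).app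
        (Groth.Agent.Lib.Helper8.KInjDer.Φ.functor.obj X).as) :=
      HomologicalComplex.Hom.isIso_of_components _
    exact ((HomotopyCategory.quotient B (ComplexShape.up ℤ)).mapIso
      (@asIso _ _ _ _ _ h')).isIso_hom
  have h2 : IsIso (F.mapDerivedCategory.map (α.app (Groth.Agent.Lib.Helper8.KInjDer.Φ.functor.obj X)) ≫
      (adjH.derivedε W₂ β α).app (DerivedCategory.Qh.obj
        (Groth.Agent.Lib.Helper8.KInjDer.Φ.functor.obj X))) := by
    rw [h1]
    infer_instance
  have h3 : IsIso ((adjH.derivedε W₂ β α).app (DerivedCategory.Qh.obj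
      (Groth.Agent.Lib.Helper8.KInjDer.Φ.functor.obj X))) :=
    IsIso.of_isIso_comp_left
      (F.mapDerivedCategory.map (α.app (Groth.Agent.Lib.Helper8.KInjDer.Φ.functor.obj X))) _
  exact h3

end Groth.Agent.Lib.Helper26.KInjAdjH
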