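import Mathlib
import Groth.Agent.Lib.Helper26.KInjAdjH

set_option maxHeartbeats 400000

universe w w' v v' u u'

open CategoryTheory CategoryTheory.Limits

namespace Groth.Agent.Lib.Helper26.KInjComp

section Preserve

variable {A : Type u} {B : Type u'} [Category.{v} A] [Category.{v'} B] [Abelian A] [Abelian B]
  {L : B ⥤ A} {R : A ⥤ B} (adj : L ⊣ R) [L.Additive] [R.Additive]

omit [R.Additive] in
lemma acyclic_map [L.PreservesHomology] (K : CochainComplex B ℤ) (hK : K.Acyclic) :
    ((L.mapHomologicalComplex (ComplexShape.up ℤ)).obj K).Acyclic :=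
  fun n => (hK n).map L

include adj in
/-- a functor with an exact left adjoint preserves K-injective complexes -/
lemma isKInjective_map_of_adj [L.PreservesHomology] (I : CochainComplex A ℤ) [I.IsKInjective] :
    CochainComplex.IsKInjective ((R.mapHomologicalComplex (ComplexShape.up ℤ)).obj I) where
  nonempty_homotopy_zero {K} f hK := by
    let adjC := Groth.Agent.Lib.Helper6.DerivedAdj.adjCx adj (ComplexShape.up ℤ)
    let f' : (L.mapHomologicalComplex _).obj K ⟶ I := (adjC.homEquiv K I).symm f
    have h' : Homotopy f' 0 :=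
      CochainComplex.IsKInjective.homotopyZero f' (acyclic_map K hK)
    have hf : f = adjC.unit.app K ≫ (R.mapHomologicalComplex _).map f' := by
      have := adjC.homEquiv_unit (X := K) (Y := I) (f := f')
      rw [← this]
      simp [f']
    exact ⟨(Homotopy.ofEq hf).trans (((R.mapHomotopy h').compLeft (adjC.unit.app K)).trans
      (Homotopy.ofEq (by simp)))⟩

end Preserve

section Desc

variable {A : Type u} [Category.{v} A] [Abelian A] [IsGrothendieckAbelian.{v} A]
  [HasDerivedCategory.{w} A] {H : Type*} [Category H]
  (F' : HomotopyCategory A (ComplexShape.up ℤ) ⥤ H) (RF : DerivedCategory A ⥤ H)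
  (α : F' ⟶ DerivedCategory.Qh ⋙ RF)
  [RF.IsRightDerivedFunctor α (HomotopyCategory.quasiIso A (ComplexShape.up ℤ))]

/-- the unit of a right derived functor is an isomorphism on K-injective complexes -/
lemma isIso_unit_of_isKInjective (I : CochainComplex A ℤ) [hI : I.IsKInjective] :
    IsIso (α.app ((HomotopyCategory.quotient A (ComplexShape.up ℤ)).obj I)) := by
  have := Groth.Agent.Lib.Helper8.KInjDer.isRightDerivabilityStructure
    (Groth.Agent.Lib.Helper26.KInjAdjH.hK (B := A))
  exact (Groth.Agent.Lib.Helper8.KInjDer.derives F').isIso_of_isRightDerivedFunctor α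
    ⟨(HomotopyCategory.quotient A (ComplexShape.up ℤ)).obj I, hI⟩

/-- a natural transformation to another functor which is an isomorphism on K-injective
complexes induces an isomorphism from the right derived functor -/
theorem isIso_rightDerivedDesc_of_isIso_app (T : DerivedCategory A ⥤ H)
    (γ : F' ⟶ DerivedCategory.Qh ⋙ T)
    (hγ : ∀ I : CochainComplex A ℤ, I.IsKInjective →
      IsIso (γ.app ((HomotopyCategory.quotient A (ComplexShape.up ℤ)).obj I))) :
    IsIso (RF.rightDerivedDesc α (HomotopyCategory.quasiIso A (ComplexShape.up ℤ)) T γ) := by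
  rw [← Functor.isRightDerivedFunctor_iff_isIso_rightDerivedDesc]
  have := Groth.Agent.Lib.Helper8.KInjDer.isRightDerivabilityStructure
    (Groth.Agent.Lib.Helper26.KInjAdjH.hK (B := A))
  exact (Groth.Agent.Lib.Helper8.KInjDer.derives F').isRightDerivedFunctor_of_isIso γ
    (fun X => hγ X.obj.as X.property)

end Desc

end Groth.Agent.Lib.Helper26.KInjComp
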