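import Mathlib
import Groth.Prelude.Def_CxOX
import Groth.Prelude.Def_DCoh3
import Groth.Agent.Lib.Helper26.KInjComp
import Groth.Agent.Lib.Helper8.SheafModGroth
import Groth.Agent.S9086
import Groth.Agent.Lib.Helper26.KInjMain

set_option maxHeartbeats 400000
set_option linter.style.haveILetI false
set_option linter.unusedSectionVars false

universe w w' v v' u u'

open CategoryTheory CategoryTheory.Limits AlgebraicGeometry

namespace Groth.Agent.Lib.Helper26.MVMod4

section General

variable {A : Type u} [Category.{v} A] [Abelian A] [IsGrothendieckAbelian.{v} A]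
  [HasDerivedCategory.{w} A] {B : Type u'} [Category.{v'} B] [Abelian B]
  [HasDerivedCategory.{w'} B] (F : A ⥤ B) [F.Additive]
  [(F.mapHomotopyCategory (ComplexShape.up ℤ) ⋙ DerivedCategory.Qh).HasRightDerivedFunctor
    (HomotopyCategory.quasiIso A (ComplexShape.up ℤ))]

/-- The value of the total right derived functor on a K-injective complex. -/
noncomputable def unitIso (J : CochainComplex A ℤ) [J.IsKInjective] :
    DerivedCategory.Q.obj ((F.mapHomologicalComplex (ComplexShape.up ℤ)).obj J) ≅
      ((F.mapHomotopyCategory (ComplexShape.up ℤ) ⋙ DerivedCategory.Qh).totalRightDerived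
        DerivedCategory.Qh (HomotopyCategory.quasiIso A (ComplexShape.up ℤ))).obj
          (DerivedCategory.Q.obj J) :=
  haveI := Groth.Agent.Lib.Helper26.KInjComp.isIso_unit_of_isKInjective
    (F.mapHomotopyCategory (ComplexShape.up ℤ) ⋙ DerivedCategory.Qh) _
    ((F.mapHomotopyCategory (ComplexShape.up ℤ) ⋙ DerivedCategory.Qh).totalRightDerivedUnit
      DerivedCategory.Qh (HomotopyCategory.quasiIso A (ComplexShape.up ℤ))) J
  ((DerivedCategory.quotientCompQhIso B).app _).symm ≪≫
    DerivedCategory.Qh.mapIso ((F.mapHomotopyCategoryFactors (ComplexShape.up ℤ)).app J).symm ≪≫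
    asIso (((F.mapHomotopyCategory (ComplexShape.up ℤ) ⋙
      DerivedCategory.Qh).totalRightDerivedUnit
      DerivedCategory.Qh (HomotopyCategory.quasiIso A (ComplexShape.up ℤ))).app
        ((HomotopyCategory.quotient A (ComplexShape.up ℤ)).obj J)) ≪≫
    ((F.mapHomotopyCategory (ComplexShape.up ℤ) ⋙ DerivedCategory.Qh).totalRightDerived
        DerivedCategory.Qh (HomotopyCategory.quasiIso A (ComplexShape.up ℤ))).mapIso
      ((DerivedCategory.quotientCompQhIso A).app J)

end General


section Sch

attribute [local instance] HasDerivedCategory.standard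

open Scheme.Modules

instance grothendieckAbelian (X : Scheme.{u}) : IsGrothendieckAbelian.{u} X.Modules :=
  Groth.Agent.Lib.Helper8.SheafModGroth.main _ X.ringCatSheaf

instance extZero_preservesFiniteLimits {X : Scheme.{u}} (U : X.Opens) :
    PreservesFiniteLimits (CxOX.extZero U.ι) := by
  have h0 : PreservesFiniteLimits (ModSite.extZero X.sheaf U) :=
    Groth.Agent.S9086.result X.sheaf U
  have h1 : PreservesFiniteLimits (overEquiv U).inverse := by
    have : (overEquiv U).inverse.IsRightAdjoint := inferInstance
    have : PreservesLimitsOfSize.{0, 0} (overEquiv U).inverse := inferInstance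
    infer_instance
  have h2 : PreservesFiniteLimits ((overEquiv U).inverse ⋙ ModSite.extZero X.sheaf U) :=
    @comp_preservesFiniteLimits _ _ _ _ _ _ _ _ h1 h0
  exact @preservesFiniteLimits_of_natIso _ _ _ _ _ _ (CxOX.extZeroIsoSite U).symm h2

instance isKInjective_restrict {X : Scheme.{u}} (U : X.Opens)
    (I : CochainComplex X.Modules ℤ) [I.IsKInjective] :
    CochainComplex.IsKInjective
      (((restrictFunctor U.ι).mapHomologicalComplex (ComplexShape.up ℤ)).obj I) :=
  Groth.Agent.Lib.Helper26.KInjComp.isKInjective_map_of_adj (CxOX.extZeroAdj U.ι) I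

/-- K-injective resolutions with injective terms, in the derived category -/
lemma exists_kinj {X : Scheme.{u}} (E : DCoh.D X) :
    ∃ (I : CochainComplex X.Modules ℤ), I.IsKInjective ∧ (∀ n, Injective (I.X n)) ∧
      Nonempty (DerivedCategory.Q.obj I ≅ E) := by
  obtain ⟨I, f, h1, h2, -, h3⟩ :=
    Groth.Agent.Lib.Helper26.KInjMain.main (DerivedCategory.Q.objPreimage E)
  have : IsIso (DerivedCategory.Q.map f) := by
    rw [DerivedCategory.isIso_Q_map_iff_quasiIso]
    exact h2
  exact ⟨I, h1, h3, ⟨(asIso (DerivedCategory.Q.map f)).symm ≪≫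
    DerivedCategory.Q.objObjPreimageIso E⟩⟩

/-- restriction of the image of a complex -/
noncomputable def restrictDIso {X : Scheme.{u}} (U : X.Opens)
    [PreservesFiniteLimits (restrictFunctor U.ι)]
    (I : CochainComplex X.Modules ℤ) {E : DCoh.D X} (e : DerivedCategory.Q.obj I ≅ E) :
    (DCoh.restrictD U.ι).obj E ≅ DerivedCategory.Q.obj
      (((restrictFunctor U.ι).mapHomologicalComplex (ComplexShape.up ℤ)).obj I) :=
  (DCoh.restrictD U.ι).mapIso e.symm ≪≫
    ((restrictFunctor U.ι).mapDerivedCategoryFactors).app I

end Sch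

end Groth.Agent.Lib.Helper26.MVMod4
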