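import Mathlib
import Groth.Agent.Lib.Helper8.KInjDer

set_option maxHeartbeats 400000
set_option linter.style.haveILetI false
set_option linter.unusedSectionVars false

namespace Groth.Agent.Lib.Helper26.RFTri

open CategoryTheory Limits Pretriangulated Groth.Agent.Lib.Helper8

universe w v u v' u'

variable {A : Type u} [Category.{v} A] [Abelian A] [HasDerivedCategory.{w} A]

omit [HasDerivedCategory A] in
lemma kinj_of_distTriang (T : Triangle (HomotopyCategory A (ComplexShape.up ℤ)))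
    (hT : T ∈ distTriang _) (h₁ : KInjDer.kinj T.obj₁) (h₂ : KInjDer.kinj T.obj₂) :
    KInjDer.kinj T.obj₃ := by
  have key : ∀ X : HomotopyCategory A (ComplexShape.up ℤ), KInjDer.kinj X ↔
      (HomotopyCategory.subcategoryAcyclic A).rightOrthogonal X := by
    intro X
    obtain ⟨K, rfl⟩ := HomotopyCategory.quotient_obj_surjective X
    exact CochainComplex.isKInjective_iff_rightOrthogonal K
  rw [key] at h₁ h₂ ⊢
  exact ObjectProperty.ext_of_isTriangulatedClosed₃ _ T hT h₁ h₂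


variable (hK : ∀ X : HomotopyCategory A (ComplexShape.up ℤ),
  ∃ (J : HomotopyCategory A (ComplexShape.up ℤ)) (_ : KInjDer.kinj J) (s : X ⟶ J),
    HomotopyCategory.quasiIso A (ComplexShape.up ℤ) s)

include hK in
lemma exists_kinj (E : DerivedCategory A) :
    ∃ (I : HomotopyCategory A (ComplexShape.up ℤ)) (_ : KInjDer.kinj I),
      Nonempty (DerivedCategory.Qh.obj I ≅ E) := by
  obtain ⟨J, hJ, s, hs⟩ := hK (DerivedCategory.Qh.objPreimage E)
  have : IsIso (DerivedCategory.Qh.map s) :=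
    Localization.inverts DerivedCategory.Qh (HomotopyCategory.quasiIso A (ComplexShape.up ℤ)) s hs
  exact ⟨J, hJ, ⟨(asIso (DerivedCategory.Qh.map s)).symm ≪≫ DerivedCategory.Qh.objObjPreimageIso E⟩⟩

lemma distinguished_of_isos {C : Type*} [Category C] [HasZeroObject C] [HasShift C ℤ]
    [Preadditive C] [∀ n : ℤ, (shiftFunctor C n).Additive] [Pretriangulated C] (T : Triangle C)
    (hT : T ∈ distTriang C) {Y₁ Y₂ Y₃ : C} (e₁ : T.obj₁ ≅ Y₁) (e₂ : T.obj₂ ≅ Y₂)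
    (e₃ : T.obj₃ ≅ Y₃) :
    Triangle.mk (e₁.inv ≫ T.mor₁ ≫ e₂.hom) (e₂.inv ≫ T.mor₂ ≫ e₃.hom)
      (e₃.inv ≫ T.mor₃ ≫ e₁.hom⟦(1 : ℤ)⟧') ∈ distTriang C := by
  refine isomorphic_distinguished _ hT _
      (Triangle.isoMk _ _ e₁.symm e₂.symm e₃.symm ?_ ?_ ?_)
  · change (e₁.inv ≫ T.mor₁ ≫ e₂.hom) ≫ e₂.inv = e₁.inv ≫ T.mor₁
    simp only [Category.assoc, Iso.hom_inv_id, Category.comp_id]
  · change (e₂.inv ≫ T.mor₂ ≫ e₃.hom) ≫ e₃.inv = e₂.inv ≫ T.mor₂
    simp only [Category.assoc, Iso.hom_inv_id, Category.comp_id]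
  · change (e₃.inv ≫ T.mor₃ ≫ e₁.hom⟦(1 : ℤ)⟧') ≫ e₁.inv⟦(1 : ℤ)⟧' = e₃.inv ≫ T.mor₃
    simp only [Category.assoc, ← Functor.map_comp, Iso.hom_inv_id,
      CategoryTheory.Functor.map_id, Category.comp_id]

variable {D' : Type u'} [Category.{v'} D'] [HasZeroObject D'] [HasShift D' ℤ] [Preadditive D']
  [∀ n : ℤ, (shiftFunctor D' n).Additive] [Pretriangulated D']

include hK in
/-- a total right derived functor (computed on K-injectives) sends distinguished triangles to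
distinguished triangles -/
theorem exists_distinguished
    (F : HomotopyCategory A (ComplexShape.up ℤ) ⥤ D') [F.CommShift ℤ] [F.IsTriangulated]
    (RF : DerivedCategory A ⥤ D') (β : F ⟶ DerivedCategory.Qh ⋙ RF)
    [RF.IsRightDerivedFunctor β (HomotopyCategory.quasiIso A (ComplexShape.up ℤ))]
    (T : Triangle (DerivedCategory A)) (hT : T ∈ distTriang _) :
    ∃ δ : RF.obj T.obj₃ ⟶ (RF.obj T.obj₁)⟦(1 : ℤ)⟧,
      Triangle.mk (RF.map T.mor₁) (RF.map T.mor₂) δ ∈ distTriang D' := by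
  obtain ⟨I, hI, ⟨e₁⟩⟩ := exists_kinj hK T.obj₁
  obtain ⟨J, hJ, ⟨e₂⟩⟩ := exists_kinj hK T.obj₂
  obtain ⟨ψ, hψ⟩ := (KInjDer.Qh_map_bijective I J hJ).2 (e₁.hom ≫ T.mor₁ ≫ e₂.inv)
  obtain ⟨C, g, h, hC⟩ := distinguished_cocone_triangle ψ
  have hCk : KInjDer.kinj C := kinj_of_distTriang _ hC hI hJ
  have hQ : DerivedCategory.Qh.mapTriangle.obj (Triangle.mk ψ g h) ∈ distTriang _ :=
    DerivedCategory.Qh.map_distinguished _ hC
  have hF : F.mapTriangle.obj (Triangle.mk ψ g h) ∈ distTriang _ := F.map_distinguished _ hC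
  have comm : DerivedCategory.Qh.map ψ ≫ e₂.hom = e₁.hom ≫ T.mor₁ := by
    rw [hψ]
    simp
  let θ := isoTriangleOfIso₁₂ _ _ hQ hT e₁ e₂ comm
  let e₃ : DerivedCategory.Qh.obj C ≅ T.obj₃ := Triangle.π₃.mapIso θ
  have comm₂ : DerivedCategory.Qh.map g ≫ e₃.hom = e₂.hom ≫ T.mor₂ := θ.hom.comm₂
  have := KInjDer.isRightDerivabilityStructure hK
  have hβ : ∀ X, KInjDer.kinj X → IsIso (β.app X) := fun X hX =>
    (KInjDer.derives F).isIso_of_isRightDerivedFunctor β ⟨X, hX⟩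
  have := hβ I hI
  have := hβ J hJ
  have := hβ C hCk
  let E₁ : F.obj I ≅ RF.obj T.obj₁ := asIso (β.app I) ≪≫ RF.mapIso e₁
  let E₂ : F.obj J ≅ RF.obj T.obj₂ := asIso (β.app J) ≪≫ RF.mapIso e₂
  let E₃ : F.obj C ≅ RF.obj T.obj₃ := asIso (β.app C) ≪≫ RF.mapIso e₃
  have key := distinguished_of_isos _ hF E₁ E₂ E₃
  have h1 : E₁.inv ≫ (F.mapTriangle.obj (Triangle.mk ψ g h)).mor₁ ≫ E₂.hom = RF.map T.mor₁ := by
    rw [Iso.inv_comp_eq]
    change F.map ψ ≫ β.app J ≫ RF.map e₂.hom = (β.app I ≫ RF.map e₁.hom) ≫ RF.map T.mor₁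
    have nat := β.naturality ψ
    dsimp at nat
    rw [reassoc_of% nat, Category.assoc, ← Functor.map_comp, ← Functor.map_comp, comm]
  have h2 : E₂.inv ≫ (F.mapTriangle.obj (Triangle.mk ψ g h)).mor₂ ≫ E₃.hom = RF.map T.mor₂ := by
    rw [Iso.inv_comp_eq]
    change F.map g ≫ β.app C ≫ RF.map e₃.hom = (β.app J ≫ RF.map e₂.hom) ≫ RF.map T.mor₂
    have nat := β.naturality g
    dsimp at nat
    rw [reassoc_of% nat, Category.assoc, ← Functor.map_comp, ← Functor.map_comp, comm₂]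
  refine ⟨E₃.inv ≫ (F.mapTriangle.obj (Triangle.mk ψ g h)).mor₃ ≫ E₁.hom⟦(1 : ℤ)⟧', ?_⟩
  rw [← h1, ← h2]
  exact key

end Groth.Agent.Lib.Helper26.RFTri
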