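import Mathlib
import Groth.Agent.Lib.Helper26.RFTri
import Groth.Agent.Lib.Helper6.KInjSingle
import Groth.Agent.Lib.Helper16.DerTrunc2
import Groth.Agent.Lib.Helper6.RDShift

set_option maxHeartbeats 400000
set_option linter.style.haveILetI false
set_option linter.unusedSectionVars false

namespace Groth.Agent.Lib.Helper26.RFBd

open CategoryTheory Limits Pretriangulated Groth.Agent.Lib.Helper8 DerivedCategory

universe w w' v v' u u'

variable {A : Type u} [Category.{v} A] [Abelian A] [HasDerivedCategory.{w} A]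
  {B : Type u'} [Category.{v'} B] [Abelian B] [HasDerivedCategory.{w'} B]
  (hK : ∀ X : HomotopyCategory A (ComplexShape.up ℤ),
    ∃ (J : HomotopyCategory A (ComplexShape.up ℤ)) (_ : KInjDer.kinj J) (s : X ⟶ J),
      HomotopyCategory.quasiIso A (ComplexShape.up ℤ) s)
  [HasInjectiveResolutions A]

include hK in
/-- cohomology of `RF` on an object concentrated in one degree -/
lemma single_case (F : A ⥤ B) [F.Additive]
    (RF : DerivedCategory A ⥤ DerivedCategory B)
    (β : F.mapHomotopyCategory (ComplexShape.up ℤ) ⋙ Qh ⟶ Qh ⋙ RF)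
    [RF.IsRightDerivedFunctor β (HomotopyCategory.quasiIso A (ComplexShape.up ℤ))]
    (Y : DerivedCategory A) (j : ℤ) [Y.IsGE j] [Y.IsLE j] (N : ℕ)
    (hY : ∀ p : ℕ, N ≤ p → IsZero ((F.rightDerived p).obj ((homologyFunctor A j).obj Y)))
    (i : ℤ) (hi : i < j ∨ j + N ≤ i) : IsZero ((homologyFunctor B i).obj (RF.obj Y)) := by
  obtain ⟨I, hI, ⟨e⟩⟩ := Groth.Agent.Lib.Helper26.RFTri.exists_kinj hK Y
  obtain ⟨K, rfl⟩ := HomotopyCategory.quotient_obj_surjective I
  haveI : CochainComplex.IsKInjective K := hI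
  have := KInjDer.isRightDerivabilityStructure hK
  haveI hβ : IsIso (β.app ((HomotopyCategory.quotient _ _).obj K)) :=
    (KInjDer.derives _).isIso_of_isRightDerivedFunctor β ⟨_, hI⟩
  let e0 : Q.obj K ≅ Y := (quotientCompQhIso A).symm.app K ≪≫ e
  let e1 : RF.obj Y ≅ Q.obj ((F.mapHomologicalComplex (ComplexShape.up ℤ)).obj K) :=
    RF.mapIso e.symm ≪≫ (asIso (β.app ((HomotopyCategory.quotient _ _).obj K))).symm ≪≫
      (quotientCompQhIso B).app ((F.mapHomologicalComplex (ComplexShape.up ℤ)).obj K)
  have hH : ∀ n, K.homology n ≅ (homologyFunctor A n).obj Y := fun n =>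
    ((homologyFunctorFactors A n).app K).symm ≪≫ (homologyFunctor A n).mapIso e0
  have hX : ∀ n, n ≠ j → K.ExactAt n := by
    intro n hn
    rw [HomologicalComplex.exactAt_iff_isZero_homology]
    refine IsZero.of_iso ?_ (hH n)
    rcases lt_or_gt_of_ne hn with h | h
    · exact isZero_of_isGE Y j n h
    · exact isZero_of_isLE Y j n h
  refine IsZero.of_iso ?_ ((homologyFunctor B i).mapIso e1 ≪≫
    (homologyFunctorFactors B i).app _)
  change IsZero (((F.mapHomologicalComplex (ComplexShape.up ℤ)).obj K).homology i)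
  rcases hi with hi | hi
  · obtain ⟨M, R, g, hg⟩ := Groth.Agent.Lib.Helper6.KInjSingle.exists_quasiIso_W K j hX
    have hS := Groth.Agent.Lib.Helper6.KInjSingle.quasiIso_map_of_isKInjective F g hg
    refine IsZero.of_iso ?_ (asIso (HomologicalComplex.homologyMap
      ((F.mapHomologicalComplex (ComplexShape.up ℤ)).map g) i))
    exact CochainComplex.isZero_of_isGE _ j i hi
  · obtain ⟨p, hp⟩ : ∃ p : ℕ, j + p = i := ⟨(i - j).toNat, by omega⟩
    obtain ⟨ε⟩ := Groth.Agent.Lib.Helper6.KInjSingle.nonempty_homology_iso F K j hX p i hp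
    refine IsZero.of_iso ?_ (ε ≪≫ (F.rightDerived p).mapIso (hH j))
    exact hY p (by omega)


include hK in
/-- bounded dévissage: cohomological amplitude of `RF` on bounded objects whose cohomology
objects have `F`-dimension `< N` -/
theorem bounded (F : A ⥤ B) [F.Additive]
    (RF : DerivedCategory A ⥤ DerivedCategory B)
    (β : F.mapHomotopyCategory (ComplexShape.up ℤ) ⋙ Qh ⟶ Qh ⋙ RF)
    [RF.IsRightDerivedFunctor β (HomotopyCategory.quasiIso A (ComplexShape.up ℤ))]
    (P : A → Prop) (N : ℕ)
    (hF : ∀ G : A, P G → ∀ p : ℕ, N ≤ p → IsZero ((F.rightDerived p).obj G))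
    (E : DerivedCategory A) (hE : ∀ j, P ((homologyFunctor A j).obj E)) (a b : ℤ)
    (hab : ∀ i : ℤ, i < a ∨ b < i → IsZero ((homologyFunctor A i).obj E))
    (i : ℤ) (hi : i < a ∨ b + N - 1 < i) :
    IsZero ((homologyFunctor B i).obj (RF.obj E)) := by
  let S : DerivedCategory A → Prop := fun Y =>
    ∀ i : ℤ, (i < a ∨ b + N - 1 < i) → IsZero ((homologyFunctor B i).obj (RF.obj Y))
  have hiso : ∀ X Y : DerivedCategory A, (X ≅ Y) → S X → S Y := fun X Y e h i hi =>
    (h i hi).of_iso ((homologyFunctor B i).mapIso (RF.mapIso e.symm))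
  have hzero : ∀ X : DerivedCategory A, IsZero X → S X := by
    intro X hX i _
    haveI : X.IsGE i := by
      rw [isGE_iff]
      intro n _
      exact (homologyFunctor A n).map_isZero hX
    haveI : X.IsLE i := by
      rw [isLE_iff]
      intro n _
      exact (homologyFunctor A n).map_isZero hX
    haveI : EnoughInjectives A := ⟨fun Z => ⟨
      { J := (injectiveResolution Z).cocomplex.X 0
        injective := inferInstance
        f := (injectiveResolution Z).ι.f 0
        mono := inferInstanceAs (Mono ((injectiveResolution Z).ι.f 0)) }⟩⟩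
    haveI : ∀ p : ℕ, (F.rightDerived p).Additive := fun p =>
      Groth.Agent.Lib.Helper6.RDShift.rightDerived_additive _ _
    exact single_case hK F RF β X i 0
      (fun p _ => (F.rightDerived p).map_isZero ((homologyFunctor A i).map_isZero hX)) i
      (Or.inr (by simp))
  have hext : ∀ T ∈ distTriang (DerivedCategory A), S T.obj₁ → S T.obj₃ → S T.obj₂ := by
    intro T hT h1 h3 i hi
    obtain ⟨δ, hT'⟩ := Groth.Agent.Lib.Helper26.RFTri.exists_distinguished hK _ RF β T hT
    have hex := HomologySequence.exact₂ _ hT' i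
    exact hex.isZero_of_both_zeros ((h1 i hi).eq_of_src _ _) ((h3 i hi).eq_of_tgt _ _)
  haveI : E.IsGE a := by
    rw [isGE_iff]
    intro n hn
    exact hab n (Or.inl hn)
  haveI : E.IsLE (max b (a - 1)) := by
    rw [isLE_iff]
    intro n hn
    exact hab n (Or.inr (lt_of_le_of_lt (le_max_left _ _) hn))
  obtain ⟨n, hn⟩ : ∃ n : ℕ, max b (a - 1) + 1 = a + n :=
    ⟨(max b (a - 1) + 1 - a).toNat, by have := le_max_right b (a - 1); omega⟩
  refine Groth.Agent.Lib.Helper16.DerT.bounded_induction S hiso hzero hext n a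
    (max b (a - 1)) hn E ?_ i hi
  intro j hj1 hj2 i hi
  have hjb : j ≤ b := by
    rcases le_total b (a - 1) with h | h
    · rw [max_eq_right h] at hj2
      omega
    · rw [max_eq_left h] at hj2
      exact hj2
  refine single_case hK F RF β ((singleFunctor A j).obj ((homologyFunctor A j).obj E)) j N ?_ i
    (by omega)
  intro p hp
  exact IsZero.of_iso (hF _ (hE j) p hp) ((F.rightDerived p).mapIso
    ((singleFunctorCompHomologyFunctorIso A j).app ((homologyFunctor A j).obj E)))

end Groth.Agent.Lib.Helper26.RFBd
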