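import Mathlib
import Groth.Agent.Lib.Helper26.RFBd

set_option maxHeartbeats 400000
set_option linter.style.haveILetI false
set_option linter.unusedSectionVars false

namespace Groth.Agent.Lib.Helper26.RFSerre

open CategoryTheory Limits Pretriangulated Groth.Agent.Lib.Helper8 DerivedCategory

universe w w' v v' u u'

variable {A : Type u} [Category.{v} A] [Abelian A] [HasDerivedCategory.{w} A]
  {B : Type u'} [Category.{v'} B] [Abelian B] [HasDerivedCategory.{w'} B]
  (hK : ∀ X : HomotopyCategory A (ComplexShape.up ℤ),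
    ∃ (J : HomotopyCategory A (ComplexShape.up ℤ)) (_ : KInjDer.kinj J) (s : X ⟶ J),
      HomotopyCategory.quasiIso A (ComplexShape.up ℤ) s)
  [HasInjectiveResolutions A]
  (F : A ⥤ B) [F.Additive]
  (RF : DerivedCategory A ⥤ DerivedCategory B)
  (β : F.mapHomotopyCategory (ComplexShape.up ℤ) ⋙ Qh ⟶ Qh ⋙ RF)
  [RF.IsRightDerivedFunctor β (HomotopyCategory.quasiIso A (ComplexShape.up ℤ))]

open ZeroObject

include hK β in
/-- `RF (Q K) ≅ Q (F K)` for `K` K-injective -/
lemma nonempty_iso_of_isKInjective (K : CochainComplex A ℤ) [K.IsKInjective] :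
    Nonempty (RF.obj (Q.obj K) ≅ Q.obj ((F.mapHomologicalComplex (ComplexShape.up ℤ)).obj K)) := by
  have := KInjDer.isRightDerivabilityStructure hK
  haveI hβ : IsIso (β.app ((HomotopyCategory.quotient _ _).obj K)) :=
    (KInjDer.derives _).isIso_of_isRightDerivedFunctor β ⟨_, ‹K.IsKInjective›⟩
  exact ⟨RF.mapIso ((quotientCompQhIso A).symm.app K) ≪≫
    (asIso (β.app ((HomotopyCategory.quotient _ _).obj K))).symm ≪≫
      (quotientCompQhIso B).app ((F.mapHomologicalComplex (ComplexShape.up ℤ)).obj K)⟩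

include hK β in
/-- cohomology of `RF` on an object concentrated in one degree -/
lemma single_iso (Y : DerivedCategory A) (j : ℤ) [Y.IsGE j] [Y.IsLE j] (p : ℕ) (i : ℤ)
    (hp : j + p = i) :
    Nonempty ((homologyFunctor B i).obj (RF.obj Y) ≅
      (F.rightDerived p).obj ((homologyFunctor A j).obj Y)) := by
  obtain ⟨I, hI, ⟨e⟩⟩ := Groth.Agent.Lib.Helper26.RFTri.exists_kinj hK Y
  obtain ⟨K, rfl⟩ := HomotopyCategory.quotient_obj_surjective I
  haveI : CochainComplex.IsKInjective K := hI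
  let e0 : Q.obj K ≅ Y := (quotientCompQhIso A).symm.app K ≪≫ e
  obtain ⟨e2⟩ := nonempty_iso_of_isKInjective hK F RF β K
  let e1 : RF.obj Y ≅ Q.obj ((F.mapHomologicalComplex (ComplexShape.up ℤ)).obj K) :=
    RF.mapIso e0.symm ≪≫ e2
  have hH : ∀ n, K.homology n ≅ (homologyFunctor A n).obj Y := fun n =>
    ((homologyFunctorFactors A n).app K).symm ≪≫ (homologyFunctor A n).mapIso e0
  have hX : ∀ n, n ≠ j → K.ExactAt n := by
    intro n hn
    rw [HomologicalComplex.exactAt_iff_isZero_homology]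
    refine IsZero.of_iso ?_ (hH n)
    rcases lt_or_gt_of_ne hn with h | h
    · exact isZero_of_isGE Y j n h
    · exact isZero_of_isLE Y j n h
  obtain ⟨ε⟩ := Groth.Agent.Lib.Helper6.KInjSingle.nonempty_homology_iso F K j hX p i hp
  exact ⟨(homologyFunctor B i).mapIso e1 ≪≫ (homologyFunctorFactors B i).app _ ≪≫ ε ≪≫
    (F.rightDerived p).mapIso (hH j)⟩

include hK β in
lemma isZero_RF (Y : DerivedCategory A) (hY : IsZero Y) : IsZero (RF.obj Y) := by
  haveI : (0 : CochainComplex A ℤ).IsKInjective :=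
    ⟨fun _ _ => ⟨Homotopy.ofEq (IsZero.eq_of_tgt (isZero_zero _) _ _)⟩⟩
  have h0 : IsZero (Q.obj (0 : CochainComplex A ℤ)) := Functor.map_isZero _ (isZero_zero _)
  obtain ⟨e2⟩ := nonempty_iso_of_isKInjective hK F RF β (0 : CochainComplex A ℤ)
  have h1 : IsZero (Q.obj ((F.mapHomologicalComplex (ComplexShape.up ℤ)).obj
      (0 : CochainComplex A ℤ))) :=
    Functor.map_isZero _ (Functor.map_isZero _ (isZero_zero _))
  exact IsZero.of_iso h1 (RF.mapIso (hY.iso h0) ≪≫ e2)

include hK β in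
/-- `RF` preserves `D^{≥ n}` -/
lemma RF_isGE (Y : DerivedCategory A) (n : ℤ) [Y.IsGE n] : (RF.obj Y).IsGE n := by
  obtain ⟨K, hK', ⟨e⟩⟩ := DerivedCategory.exists_iso_Q_obj_of_isGE Y n
  haveI : EnoughInjectives A := ⟨fun Z => ⟨
    { J := (injectiveResolution Z).cocomplex.X 0
      injective := inferInstance
      f := (injectiveResolution Z).ι.f 0
      mono := inferInstanceAs (Mono ((injectiveResolution Z).ι.f 0)) }⟩⟩
  obtain ⟨L, i, hi, hL, hL'⟩ :=
    CochainComplex.Plus.modelCategoryQuillen.exists_quasiIso_injective K n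
  haveI : L.IsKInjective := CochainComplex.isKInjective_of_injective L n
  have : IsIso (DerivedCategory.Q.map i) := by
    rw [DerivedCategory.isIso_Q_map_iff_quasiIso]
    exact hi
  obtain ⟨e2⟩ := nonempty_iso_of_isKInjective hK F RF β L
  have e' : RF.obj Y ≅ Q.obj ((F.mapHomologicalComplex (ComplexShape.up ℤ)).obj L) :=
    RF.mapIso (e ≪≫ asIso (DerivedCategory.Q.map i)) ≪≫ e2
  have h1 : CochainComplex.IsStrictlyGE
      ((F.mapHomologicalComplex (ComplexShape.up ℤ)).obj L) n := inferInstance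
  have h2 : (Q.obj ((F.mapHomologicalComplex (ComplexShape.up ℤ)).obj L)).IsGE n := by
    rw [DerivedCategory.isGE_Q_obj_iff]
    infer_instance
  exact DerivedCategory.TStructure.t.isGE_of_iso e'.symm n

section Serre

variable (P : B → Prop) (hPiso : ∀ M N : B, (M ≅ N) → P M → P N)
    (hPzero : ∀ M : B, IsZero M → P M)
    (hPfive : ∀ (M₁ M₂ M₃ M₄ M₅ : B) (f₁ : M₁ ⟶ M₂) (f₂ : M₂ ⟶ M₃) (f₃ : M₃ ⟶ M₄) (f₄ : M₄ ⟶ M₅)
      (w₁ : f₁ ≫ f₂ = 0) (w₂ : f₂ ≫ f₃ = 0) (w₃ : f₃ ≫ f₄ = 0),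
      (ShortComplex.mk f₁ f₂ w₁).Exact → (ShortComplex.mk f₂ f₃ w₂).Exact →
      (ShortComplex.mk f₃ f₄ w₃).Exact → P M₁ → P M₂ → P M₄ → P M₅ → P M₃)

include hK β hPfive in
lemma ext_step (T : Triangle (DerivedCategory A)) (hT : T ∈ distTriang (DerivedCategory A)) (i : ℤ)
    (h1 : P ((homologyFunctor B i).obj (RF.obj T.obj₁)))
    (h1' : P ((homologyFunctor B (i + 1)).obj (RF.obj T.obj₁)))
    (h3 : P ((homologyFunctor B (i - 1)).obj (RF.obj T.obj₃)))
    (h3' : P ((homologyFunctor B i).obj (RF.obj T.obj₃))) :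
    P ((homologyFunctor B i).obj (RF.obj T.obj₂)) := by
  obtain ⟨δ, hT'⟩ := Groth.Agent.Lib.Helper26.RFTri.exists_distinguished hK _ RF β T hT
  exact hPfive _ _ _ _ _ _ _ _ _ _ _ _
    (HomologySequence.exact₁ _ hT' (i - 1) i (by omega))
    (HomologySequence.exact₂ _ hT' i)
    (HomologySequence.exact₃ _ hT' i (i + 1) rfl) h3 h1 h3' h1'

variable (Qp : A → Prop) (hQiso : ∀ M N : A, (M ≅ N) → Qp M → Qp N)
    (hQ : ∀ G : A, Qp G → ∀ p : ℕ, P ((F.rightDerived p).obj G))

include hK β hPiso hPzero hPfive hQiso hQ in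
theorem bdd (Y : DerivedCategory A) (a b : ℤ) [Y.IsGE a] [Y.IsLE b]
    (hY : ∀ j, a ≤ j → j ≤ b → Qp ((homologyFunctor A j).obj Y)) (i : ℤ) :
    P ((homologyFunctor B i).obj (RF.obj Y)) := by
  let S : DerivedCategory A → Prop := fun Y =>
    ∀ i : ℤ, P ((homologyFunctor B i).obj (RF.obj Y))
  have hiso : ∀ X Y : DerivedCategory A, (X ≅ Y) → S X → S Y := fun X Y e h i =>
    hPiso _ _ ((homologyFunctor B i).mapIso (RF.mapIso e)) (h i)
  have hzero : ∀ X : DerivedCategory A, IsZero X → S X := fun X hX i =>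
    hPzero _ ((homologyFunctor B i).map_isZero (isZero_RF hK F RF β X hX))
  have hext : ∀ T ∈ distTriang (DerivedCategory A), S T.obj₁ → S T.obj₃ → S T.obj₂ :=
    fun T hT h1 h3 i => ext_step hK F RF β P hPfive T hT i (h1 i) (h1 (i + 1)) (h3 (i - 1)) (h3 i)
  by_cases hab : b + 1 < a
  · exact hzero Y ((TStructure.t (C := A)).isZero Y b a (by omega)) i
  obtain ⟨n, hn⟩ : ∃ n : ℕ, b + 1 = a + n :=
    ⟨(b + 1 - a).toNat, by rw [Int.toNat_of_nonneg (by omega)]; omega⟩
  refine Groth.Agent.Lib.Helper16.DerT.bounded_induction S hiso hzero hext n a b hn Y ?_ i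
  intro j hj1 hj2 i
  haveI := RF_isGE hK F RF β ((singleFunctor A j).obj ((homologyFunctor A j).obj Y)) j
  by_cases hij : i < j
  · exact hPzero _ (isZero_of_isGE _ j i hij)
  · obtain ⟨p, hp⟩ : ∃ p : ℕ, j + p = i := ⟨(i - j).toNat, by omega⟩
    obtain ⟨ε⟩ := single_iso hK F RF β
      ((singleFunctor A j).obj ((homologyFunctor A j).obj Y)) j p i hp
    refine hPiso _ _ ε.symm (hQ _ ?_ p)
    exact hQiso _ _ ((singleFunctorCompHomologyFunctorIso A j).app
      ((homologyFunctor A j).obj Y)).symm (hY j hj1 hj2)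

include hK β hPiso hPzero hPfive hQiso hQ in
/-- **weak Serre dévissage for right derived functors on bounded below objects** -/
theorem serre (Y : DerivedCategory A) (a : ℤ) [Y.IsGE a]
    (hY : ∀ j, Qp ((homologyFunctor A j).obj Y)) (i : ℤ) :
    P ((homologyFunctor B i).obj (RF.obj Y)) := by
  have hT := (TStructure.t (C := A)).triangleLTGE_distinguished (i + 2) Y
  have hGE : (((TStructure.t (C := A)).truncLT (i + 2)).obj Y).IsGE a := by
    show (TStructure.t (C := A)).IsGE _ a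
    infer_instance
  have hLE : (((TStructure.t (C := A)).truncLT (i + 2)).obj Y).IsLE (i + 2 - 1) := by
    show (TStructure.t (C := A)).IsLE _ (i + 2 - 1)
    infer_instance
  have hGE3 : (((TStructure.t (C := A)).truncGE (i + 2)).obj Y).IsGE (i + 2) := by
    show (TStructure.t (C := A)).IsGE _ (i + 2)
    infer_instance
  haveI := RF_isGE hK F RF β (((TStructure.t (C := A)).truncGE (i + 2)).obj Y) (i + 2)
  have h1 : ∀ i', P ((homologyFunctor B i').obj
      (RF.obj (((TStructure.t (C := A)).truncLT (i + 2)).obj Y))) := by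
    intro i'
    refine bdd hK F RF β P hPiso hPzero hPfive Qp hQiso hQ _ a (i + 2 - 1) ?_ i'
    intro j _ hj2
    have := Groth.Agent.Lib.Helper16.DerT.isIso_homologyMap_truncLTι Y (i + 2) j (by omega)
    exact hQiso _ _ (asIso ((homologyFunctor A j).map
      (((TStructure.t (C := A)).truncLTι (i + 2)).app Y))).symm (hY j)
  have hz : ∀ i', i' < i + 2 → IsZero ((homologyFunctor B i').obj
      (RF.obj (((TStructure.t (C := A)).truncGE (i + 2)).obj Y))) :=
    fun i' hi' => isZero_of_isGE _ (i + 2) i' hi'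
  exact ext_step hK F RF β P hPfive _ hT i (h1 i) (h1 (i + 1))
    (hPzero _ (hz (i - 1) (by omega))) (hPzero _ (hz i (by omega)))

end Serre

end Groth.Agent.Lib.Helper26.RFSerre
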