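import Mathlib
import Groth.Prelude.Def_DCoh4
import Groth.Agent.Lib.Helper16.KD3
import Groth.Agent.Lib.Helper26.KInjComp
import Groth.Agent.Lib.Helper26.MVMod4

set_option maxHeartbeats 400000
set_option linter.style.haveILetI false
set_option linter.unusedSectionVars false

universe u

open CategoryTheory CategoryTheory.Limits AlgebraicGeometry

namespace Groth.Agent.Lib.Helper26.LpullAdj

open Groth.Agent.Lib.Helper16.KD

attribute [local instance] HasDerivedCategory.standard

variable {X Y : Scheme.{u}} (f : X ⟶ Y) [DCoh.HasLpull f] [DCoh.HasRpush f]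

/-- the derived adjunction `Lf^* ⊣ Rf_*` -/
theorem nonempty_adj : Nonempty (DCoh.Lpull f ⊣ DCoh.Rpush f) := by
  let adjH := Groth.Agent.Lib.Helper6.DerivedAdj.adjH
    (Scheme.Modules.pullbackPushforwardAdjunction f) (ComplexShape.up ℤ)
  let α : DerivedCategory.Qh ⋙ DCoh.Lpull f ⟶
      (Scheme.Modules.pullback f).mapHomotopyCategory (ComplexShape.up ℤ) ⋙ DerivedCategory.Qh :=
    LpullCounit f
  let β : (Scheme.Modules.pushforward f).mapHomotopyCategory (ComplexShape.up ℤ) ⋙
      DerivedCategory.Qh ⟶ DerivedCategory.Qh ⋙ DCoh.Rpush f :=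
    (DCoh.pushKh f).totalRightDerivedUnit DerivedCategory.Qh (qisH X)
  have i1 : (DCoh.Lpull f).IsLeftDerivedFunctor α (qisH Y) := inferInstance
  have i1' : (DCoh.Rpush f).IsRightDerivedFunctor β (qisH X) := inferInstance
  have i2 : (DCoh.Lpull f ⋙ DCoh.Rpush f).IsLeftDerivedFunctor
      ((Functor.associator _ _ _).inv ≫ Functor.whiskerRight α (DCoh.Rpush f)) (qisH Y) := by
    apply isLeftDerivedFunctor_h_of_isIso
    · intro P P' s hP hP' hs
      have := invertsKFlat_pullKh f s hP hP' hs
      exact Functor.map_isIso (DCoh.Rpush f) ((quot Y ⋙ DCoh.pullKh f).map s)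
    · intro P hP
      have := isIso_LpullCounit_app f P hP
      simp only [NatTrans.comp_app, Functor.associator_inv_app, Functor.whiskerRight_app]
      infer_instance
  have i3 : (DCoh.Rpush f ⋙ DCoh.Lpull f).IsRightDerivedFunctor
      (Functor.whiskerRight β (DCoh.Lpull f) ≫ (Functor.associator _ _ _).hom) (qisH X) := by
    have := Groth.Agent.Lib.Helper8.KInjDer.isRightDerivabilityStructure
      (Groth.Agent.Lib.Helper26.KInjAdjH.hK (B := X.Modules))
    exact (Groth.Agent.Lib.Helper8.KInjDer.derives _).isRightDerivedFunctor_of_isIso _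
      (fun J => by
        have := (Groth.Agent.Lib.Helper8.KInjDer.derives
          (DCoh.pushKh f)).isIso_of_isRightDerivedFunctor β J
        simp only [NatTrans.comp_app, Functor.associator_hom_app, Functor.whiskerRight_app]
        infer_instance)
  exact ⟨adjH.derived (qisH Y) (qisH X) α β⟩

end Groth.Agent.Lib.Helper26.LpullAdj
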