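import Mathlib
import Groth.Agent.Lib.Helper26.KInjMain

set_option maxHeartbeats 400000

universe v u

open CategoryTheory CategoryTheory.Limits

namespace Groth.Agent.Lib.Helper26.DProdK

section Homotopy

variable {A : Type u} [Category.{v} A] [Preadditive A] {ι : Type*} {c : ComplexShape ι}
  {J : Type*} (I : J → HomologicalComplex A c) [HasProduct I]
  [∀ i, PreservesLimit (Discrete.functor I) (HomologicalComplex.eval A c i)]
  {K : HomologicalComplex A c} (f : K ⟶ ∏ᶜ I)
  (h : ∀ j, Homotopy (f ≫ Pi.π I j) 0)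

/-- the product in each degree -/
noncomputable def isLimitEval (i : ι) :
    IsLimit ((HomologicalComplex.eval A c i).mapCone (limit.cone (Discrete.functor I))) :=
  isLimitOfPreserves _ (limit.isLimit _)

lemma hom_ext_eval (i : ι) {T : A} {a b : T ⟶ (∏ᶜ I).X i}
    (hab : ∀ j, a ≫ (Pi.π I j).f i = b ≫ (Pi.π I j).f i) : a = b :=
  (isLimitEval I i).hom_ext (fun ⟨j⟩ => hab j)

/-- the components of the assembled homotopy -/
noncomputable def hhom (i i' : ι) : K.X i ⟶ (∏ᶜ I).X i' :=
  (isLimitEval I i').lift (Cone.mk (K.X i) (Discrete.natTrans fun ⟨j⟩ => (h j).hom i i'))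

@[reassoc (attr := simp)]
lemma hhom_π (j : J) (i i' : ι) : hhom I f h i i' ≫ (Pi.π I j).f i' = (h j).hom i i' :=
  (isLimitEval I i').fac _ ⟨j⟩

/-- homotopies to zero on each factor assemble -/
noncomputable def homotopyPi : Homotopy f 0 where
  hom := hhom I f h
  zero i i' hii' := by
    apply hom_ext_eval
    intro j
    rw [hhom_π, zero_comp, (h j).zero i i' hii']
  comm i := by
    apply hom_ext_eval
    intro j
    have := (h j).comm i
    rw [HomologicalComplex.comp_f] at this
    rw [this]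
    simp only [HomologicalComplex.zero_f, add_zero, Preadditive.add_comp]
    congr 1
    · change _ = (K.d i (c.next i) ≫ hhom I f h (c.next i) i) ≫ (Pi.π I j).f i
      rw [Category.assoc, hhom_π]
      rfl
    · change _ = (hhom I f h i (c.prev i) ≫ (∏ᶜ I).d (c.prev i) i) ≫ (Pi.π I j).f i
      rw [Category.assoc, ← HomologicalComplex.Hom.comm, hhom_π_assoc]
      rfl

end Homotopy

section KInj

open DerivedCategory

variable {A : Type u} [Category.{v} A] [Abelian A] [HasDerivedCategory.{v} A]

/-- a product of K-injective complexes is K-injective -/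
lemma isKInjective_pi {J : Type*} (I : J → CochainComplex A ℤ) [HasProduct I]
    [∀ i, PreservesLimit (Discrete.functor I) (HomologicalComplex.eval A (ComplexShape.up ℤ) i)]
    [∀ j, (I j).IsKInjective] : (∏ᶜ I).IsKInjective where
  nonempty_homotopy_zero {K} f hK :=
    ⟨homotopyPi I f (fun j => CochainComplex.IsKInjective.homotopyZero _ hK)⟩

/-- morphisms in the derived category to a K-injective complex are represented by chain maps -/
lemma exists_Q_map_eq {K L : CochainComplex A ℤ} [L.IsKInjective] (ψ : Q.obj K ⟶ Q.obj L) :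
    ∃ g : K ⟶ L, Q.map g = ψ := by
  obtain ⟨g, hg⟩ := (CochainComplex.IsKInjective.Qh_map_bijective
    ((HomotopyCategory.quotient _ _).obj K) L).surjective
      ((quotientCompQhIso A).hom.app K ≫ ψ ≫ (quotientCompQhIso A).inv.app L)
  obtain ⟨g, rfl⟩ := (HomotopyCategory.quotient _ _).map_surjective g
  refine ⟨g, ?_⟩
  have := quotientCompQhIso_hom_naturality g
  rw [hg, Category.assoc, Category.assoc, Iso.inv_hom_id_app, Category.comp_id, cancel_epi] at this
  exact this.symm

/-- a chain map to a K-injective complex which vanishes in the derived category is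
null-homotopic -/
lemma homotopy_of_Q_map_eq_zero {K L : CochainComplex A ℤ} [L.IsKInjective] (g : K ⟶ L)
    (hg : Q.map g = 0) : Nonempty (Homotopy g 0) := by
  have h1 : Qh.map ((HomotopyCategory.quotient _ _).map g) = Qh.map 0 := by
    have := quotientCompQhIso_hom_naturality g
    rw [hg, comp_zero] at this
    rw [Functor.map_zero, ← cancel_mono ((quotientCompQhIso A).hom.app L), this, zero_comp]
  have h2 := (CochainComplex.IsKInjective.Qh_map_bijective
    ((HomotopyCategory.quotient _ _).obj K) L).injective h1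
  refine ⟨HomotopyCategory.homotopyOfEq _ _ ?_⟩
  rw [h2, Functor.map_zero]

section Fan

variable {J : Type*} (I : J → CochainComplex A ℤ) [HasProduct I]
  [∀ i, PreservesLimit (Discrete.functor I) (HomologicalComplex.eval A (ComplexShape.up ℤ) i)]
  [∀ j, (I j).IsKInjective]

lemma exists_lift (K : CochainComplex A ℤ) (ψ : ∀ j, Q.obj K ⟶ Q.obj (I j)) :
    ∃ φ : Q.obj K ⟶ Q.obj (∏ᶜ I), ∀ j, φ ≫ Q.map (Pi.π I j) = ψ j := by
  choose g hg using fun j => exists_Q_map_eq (ψ j)
  refine ⟨Q.map (Pi.lift g), fun j => ?_⟩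
  rw [← Q.map_comp, Pi.lift_π, hg]

lemma eq_zero_of_comp (K : CochainComplex A ℤ) (δ : Q.obj K ⟶ Q.obj (∏ᶜ I))
    (h : ∀ j, δ ≫ Q.map (Pi.π I j) = 0) : δ = 0 := by
  have := isKInjective_pi I
  obtain ⟨d, rfl⟩ := exists_Q_map_eq δ
  have h0 : ∀ j, Nonempty (Homotopy (d ≫ Pi.π I j) 0) := fun j =>
    homotopy_of_Q_map_eq_zero _ (by rw [Q.map_comp]; exact h j)
  have H : Homotopy d 0 := homotopyPi I d (fun j => (h0 j).some)
  have h2 := Q_map_eq_of_homotopy A H
  rw [Functor.map_zero] at h2
  exact h2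

end Fan

section

variable {J : Type*} (X : J → DerivedCategory A) (I : J → CochainComplex A ℤ) [HasProduct I]
  [∀ i, PreservesLimit (Discrete.functor I) (HomologicalComplex.eval A (ComplexShape.up ℤ) i)]
  [∀ j, (I j).IsKInjective] (e : ∀ j, Q.obj (I j) ≅ X j)

/-- the candidate product fan -/
noncomputable def fan : Fan X :=
  Fan.mk (Q.obj (∏ᶜ I)) (fun j => Q.map (Pi.π I j) ≫ (e j).hom)

lemma exists_lift' (Y : DerivedCategory A) (ψ : ∀ j, Y ⟶ X j) :
    ∃ φ : Y ⟶ Q.obj (∏ᶜ I), ∀ j, φ ≫ Q.map (Pi.π I j) ≫ (e j).hom = ψ j := by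
  let e' : Q.obj (Q.objPreimage Y) ≅ Y := Q.objObjPreimageIso Y
  obtain ⟨φ, hφ⟩ := exists_lift I (Q.objPreimage Y) (fun j => e'.hom ≫ ψ j ≫ (e j).inv)
  refine ⟨e'.inv ≫ φ, fun j => ?_⟩
  rw [Category.assoc, ← Category.assoc φ, hφ]
  simp

lemma hom_ext' (Y : DerivedCategory A) (m m' : Y ⟶ Q.obj (∏ᶜ I))
    (h : ∀ j, m ≫ Q.map (Pi.π I j) ≫ (e j).hom = m' ≫ Q.map (Pi.π I j) ≫ (e j).hom) :
    m = m' := by
  let e' : Q.obj (Q.objPreimage Y) ≅ Y := Q.objObjPreimageIso Y
  have : e'.hom ≫ (m - m') = 0 := by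
    apply eq_zero_of_comp I
    intro j
    have := h j
    rw [← Category.assoc, ← Category.assoc, cancel_mono] at this
    rw [Category.assoc, Preadditive.sub_comp, this, sub_self, comp_zero]
  rw [← cancel_epi e'.hom, ← sub_eq_zero, ← Preadditive.comp_sub, this]

/-- the fan is a limit -/
noncomputable def isLimitFan : IsLimit (fan X I e) :=
  Fan.IsLimit.mk _ (fun t => (exists_lift' X I e t.pt t.proj).choose)
    (fun t j => (exists_lift' X I e t.pt t.proj).choose_spec j)
    (fun t m hm => hom_ext' X I e t.pt _ _ (fun j =>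
      (hm j).trans ((exists_lift' X I e t.pt t.proj).choose_spec j).symm))

end

end KInj

section Main

open DerivedCategory

variable {A : Type u} [Category.{v} A] [Abelian A] [IsGrothendieckAbelian.{v} A]
  [HasDerivedCategory.{v} A]

theorem hasProducts : HasProducts.{v} (DerivedCategory A) := fun J =>
  ⟨fun F => by
    let X : J → DerivedCategory A := F.obj ∘ Discrete.mk
    choose I f hI hf _ _ using fun j =>
      Groth.Agent.Lib.Helper26.KInjMain.main (Q.objPreimage (X j))
    have : ∀ j, QuasiIso (f j) := hf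
    let e : ∀ j, Q.obj (I j) ≅ X j := fun j =>
      (asIso (Q.map (f j))).symm ≪≫ Q.objObjPreimageIso (X j)
    have : HasLimit (Discrete.functor X) := ⟨⟨⟨_, isLimitFan X I e⟩⟩⟩
    exact hasLimit_of_iso (Discrete.natIsoFunctor (F := F)).symm⟩

end Main

end Groth.Agent.Lib.Helper26.DProdK
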