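import Mathlib

set_option maxHeartbeats 400000
set_option linter.style.haveILetI false
set_option linter.unusedSectionVars false

universe w w' v u

open CategoryTheory CategoryTheory.Limits

namespace Groth.Agent.Lib.Helper26.ProdQI

variable {B : Type u} [Category.{v} B] [Abelian B] {J : Type w} [Category.{w'} J]
  [HasLimitsOfShape J B] {ι : Type*} {c : ComplexShape ι}

instance : (lim : (J ⥤ B) ⥤ B).IsRightAdjoint := ⟨_, ⟨constLimAdj⟩⟩

instance : (lim : (J ⥤ B) ⥤ B).Additive :=
  Functor.additive_of_preserves_binary_products _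

lemma preservesHomology_lim [(lim : (J ⥤ B) ⥤ B).PreservesEpimorphisms] :
    (lim : (J ⥤ B) ⥤ B).PreservesHomology :=
  Functor.preservesHomology_of_preservesEpis_and_kernels _

/-- a functor to complexes as a complex of functors -/
@[simps]
def toCx (Φ : J ⥤ HomologicalComplex B c) : HomologicalComplex (J ⥤ B) c where
  X n := Φ ⋙ HomologicalComplex.eval B c n
  d n m :=
    { app := fun j => (Φ.obj j).d n m
      naturality := fun X Y f => ((Φ.map f).comm n m) }
  shape n m h := by ext j; exact (Φ.obj j).shape n m h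
  d_comp_d' n m k _ _ := by ext j; exact (Φ.obj j).d_comp_d n m k

@[simps]
def toCxMap {Φ Ψ : J ⥤ HomologicalComplex B c} (α : Φ ⟶ Ψ) : toCx Φ ⟶ toCx Ψ where
  f n := Functor.whiskerRight α (HomologicalComplex.eval B c n)
  comm' n m _ := by ext j; exact (α.app j).comm n m

lemma quasiIso_toCxMap {Φ Ψ : J ⥤ HomologicalComplex B c} (α : Φ ⟶ Ψ)
    (hα : ∀ j, QuasiIso (α.app j)) : QuasiIso (toCxMap α) := by
  rw [HomologicalComplex.quasiIso_iff_evaluation]
  intro j
  exact hα j

/-- the degreewise limit -/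
noncomputable abbrev limCx (Φ : J ⥤ HomologicalComplex B c) : HomologicalComplex B c :=
  ((lim : (J ⥤ B) ⥤ B).mapHomologicalComplex c).obj (toCx Φ)

/-- the projections -/
noncomputable def limProj (Φ : J ⥤ HomologicalComplex B c) (j : J) : limCx Φ ⟶ Φ.obj j where
  f n := limit.π (Φ ⋙ HomologicalComplex.eval B c n) j
  comm' n m _ := by
    have := limMap_π ((toCx Φ).d n m) j
    exact this.symm

lemma limProj_f (Φ : J ⥤ HomologicalComplex B c) (j : J) (n : ι) :
    (limProj Φ j).f n = limit.π (Φ ⋙ HomologicalComplex.eval B c n) j := rfl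

/-- the cone -/
noncomputable def limCone (Φ : J ⥤ HomologicalComplex B c) : Cone Φ where
  pt := limCx Φ
  π :=
    { app := fun j => limProj Φ j
      naturality := fun j j' f => by
        ext n
        change 𝟙 _ ≫ limit.π (Φ ⋙ HomologicalComplex.eval B c n) j' =
          limit.π (Φ ⋙ HomologicalComplex.eval B c n) j ≫
            (Φ ⋙ HomologicalComplex.eval B c n).map f
        rw [Category.id_comp, limit.w] }

noncomputable def isLimitLimCone (Φ : J ⥤ HomologicalComplex B c) : IsLimit (limCone Φ) :=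
  HomologicalComplex.isLimitOfEval _ _ (fun n =>
    IsLimit.ofIsoLimit (limit.isLimit (Φ ⋙ HomologicalComplex.eval B c n))
      (Cone.ext (Iso.refl _) (fun j => by
        change limit.π (Φ ⋙ HomologicalComplex.eval B c n) j =
          𝟙 _ ≫ limit.π (Φ ⋙ HomologicalComplex.eval B c n) j
        rw [Category.id_comp])))

/-- the induced map on degreewise limits -/
noncomputable abbrev limMapCx {Φ Ψ : J ⥤ HomologicalComplex B c} (α : Φ ⟶ Ψ) :
    limCx Φ ⟶ limCx Ψ :=
  ((lim : (J ⥤ B) ⥤ B).mapHomologicalComplex c).map (toCxMap α)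

lemma limMapCx_proj {Φ Ψ : J ⥤ HomologicalComplex B c} (α : Φ ⟶ Ψ) (j : J) :
    limMapCx α ≫ limProj Ψ j = limProj Φ j ≫ α.app j := by
  ext n
  have := limMap_π ((toCxMap α).f n) j
  exact this

variable [(lim : (J ⥤ B) ⥤ B).PreservesEpimorphisms]

lemma quasiIso_limMapCx {Φ Ψ : J ⥤ HomologicalComplex B c} (α : Φ ⟶ Ψ)
    (hα : ∀ j, QuasiIso (α.app j)) : QuasiIso (limMapCx α) := by
  have := preservesHomology_lim (B := B) (J := J)
  have := quasiIso_toCxMap α hα
  infer_instance

/-- comparison with the abstract limit -/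
noncomputable def limIso (Φ : J ⥤ HomologicalComplex B c) : limit Φ ≅ limCx Φ :=
  (limit.isLimit Φ).conePointUniqueUpToIso (isLimitLimCone Φ)

omit [(lim : (J ⥤ B) ⥤ B).PreservesEpimorphisms] in
lemma limIso_hom_proj (Φ : J ⥤ HomologicalComplex B c) (j : J) :
    (limIso Φ).hom ≫ limProj Φ j = limit.π Φ j :=
  IsLimit.conePointUniqueUpToIso_hom_comp (limit.isLimit Φ) (isLimitLimCone Φ) j

omit [(lim : (J ⥤ B) ⥤ B).PreservesEpimorphisms] in
lemma limCx_hom_ext (Φ : J ⥤ HomologicalComplex B c) {T : HomologicalComplex B c}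
    {a b : T ⟶ limCx Φ} (h : ∀ j, a ≫ limProj Φ j = b ≫ limProj Φ j) : a = b :=
  (isLimitLimCone Φ).hom_ext h

omit [(lim : (J ⥤ B) ⥤ B).PreservesEpimorphisms] in
lemma limMap_limIso {Φ Ψ : J ⥤ HomologicalComplex B c} (α : Φ ⟶ Ψ) :
    limMap α ≫ (limIso Ψ).hom = (limIso Φ).hom ≫ limMapCx α := by
  apply limCx_hom_ext
  intro j
  rw [Category.assoc, limIso_hom_proj, limMap_π, Category.assoc, limMapCx_proj,
    ← Category.assoc, limIso_hom_proj]

theorem quasiIso_limMap {Φ Ψ : J ⥤ HomologicalComplex B c} (α : Φ ⟶ Ψ)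
    (hα : ∀ j, QuasiIso (α.app j)) : QuasiIso (limMap α) := by
  have h : limMap α = (limIso Φ).hom ≫ limMapCx α ≫ (limIso Ψ).inv := by
    rw [← cancel_mono (limIso Ψ).hom, limMap_limIso, Category.assoc, Category.assoc,
      Iso.inv_hom_id, Category.comp_id]
  have := quasiIso_limMapCx α hα
  rw [h]
  infer_instance

theorem quasiIso_piMap {I : Type w} [HasLimitsOfShape (Discrete I) B]
    [(lim : (Discrete I ⥤ B) ⥤ B).PreservesEpimorphisms]
    {K L : I → HomologicalComplex B c} (s : ∀ i, K i ⟶ L i) [hs : ∀ i, QuasiIso (s i)] :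
    QuasiIso (Limits.Pi.map s) :=
  quasiIso_limMap (Φ := Discrete.functor K) (Ψ := Discrete.functor L)
    (Discrete.natTrans fun X => s X.as) (fun X => hs X.as)

end Groth.Agent.Lib.Helper26.ProdQI
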