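import Mathlib
import Groth.Agent.Lib.Helper26.ProdQI
import Groth.Agent.Lib.Helper26.DProdK

set_option maxHeartbeats 400000
set_option linter.style.haveILetI false
set_option linter.unusedSectionVars false

universe w w' v u

open CategoryTheory CategoryTheory.Limits

namespace Groth.Agent.Lib.Helper26.DProdB

open DerivedCategory Groth.Agent.Lib.Helper26

variable {A : Type u} [Category.{v} A] [Abelian A] [HasDerivedCategory.{w} A]

/-- a morphism killed by `Q` is null-homotopic after postcomposition with a quasi-isomorphism -/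
lemma exists_quasiIso_homotopy_of_Q_map_eq_zero {K L : CochainComplex A ℤ} (f : K ⟶ L)
    (hf : Q.map f = 0) :
    ∃ (L' : CochainComplex A ℤ) (u : L ⟶ L') (_ : QuasiIso u), Nonempty (Homotopy (f ≫ u) 0) := by
  have h1 : Qh.map ((HomotopyCategory.quotient _ _).map f) = Qh.map 0 := by
    have := quotientCompQhIso_hom_naturality f
    rw [hf, comp_zero] at this
    rw [Functor.map_zero, ← cancel_mono ((quotientCompQhIso A).hom.app L), this, zero_comp]
  obtain ⟨Z, s, hs, hsf⟩ := (MorphismProperty.map_eq_iff_postcomp Qh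
    (HomotopyCategory.quasiIso A (ComplexShape.up ℤ)) _ _).1 h1
  obtain ⟨L', rfl⟩ := HomotopyCategory.quotient_obj_surjective Z
  obtain ⟨u, rfl⟩ := (HomotopyCategory.quotient _ _).map_surjective s
  rw [HomotopyCategory.quotient_map_mem_quasiIso_iff] at hs
  refine ⟨L', u, hs, ⟨HomotopyCategory.homotopyOfEq _ _ ?_⟩⟩
  rw [Functor.map_comp, hsf, zero_comp, Functor.map_zero]

variable {J : Type w'} [HasLimitsOfShape (Discrete J) A]
  [(lim : (Discrete J ⥤ A) ⥤ A).PreservesEpimorphisms] (K : J → CochainComplex A ℤ)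

lemma exists_lift (L : CochainComplex A ℤ) (ψ : ∀ j, Q.obj L ⟶ Q.obj (K j)) :
    ∃ φ : Q.obj L ⟶ Q.obj (∏ᶜ K), ∀ j, φ ≫ Q.map (Pi.π K j) = ψ j := by
  choose K' g s hs hg using fun j => left_fac (ψ j)
  have : ∀ j, QuasiIso (s j) := fun j => (isIso_Q_map_iff_quasiIso A (s j)).1 (hs j)
  have : IsIso (Q.map (Limits.Pi.map s)) :=
    (isIso_Q_map_iff_quasiIso A _).2 (ProdQI.quasiIso_piMap s)
  refine ⟨Q.map (Pi.lift g) ≫ inv (Q.map (Limits.Pi.map s)), fun j => ?_⟩
  have h1 : inv (Q.map (Limits.Pi.map s)) ≫ Q.map (Pi.π K j) =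
      Q.map (Pi.π K' j) ≫ inv (Q.map (s j)) := by
    rw [← cancel_epi (Q.map (Limits.Pi.map s)), IsIso.hom_inv_id_assoc, ← Category.assoc,
      ← Q.map_comp, Pi.map_π, Q.map_comp, Category.assoc, IsIso.hom_inv_id, Category.comp_id]
  rw [Category.assoc, h1, ← Category.assoc, ← Q.map_comp, Pi.lift_π, hg]


lemma eq_zero_of_comp (L : CochainComplex A ℤ) (δ : Q.obj L ⟶ Q.obj (∏ᶜ K))
    (h : ∀ j, δ ≫ Q.map (Pi.π K j) = 0) : δ = 0 := by
  obtain ⟨L', t, ht, g, rfl⟩ := right_fac δ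
  have h0 : ∀ j, Q.map (g ≫ Pi.π K j) = 0 := fun j => by
    have := h j
    rw [Category.assoc, ← Q.map_comp] at this
    rw [← cancel_epi (inv (Q.map t)), this, comp_zero]
  choose K' u hu hh using fun j => exists_quasiIso_homotopy_of_Q_map_eq_zero _ (h0 j)
  have : ∀ j, QuasiIso (u j) := hu
  have hσ : IsIso (Q.map (Limits.Pi.map u)) :=
    (isIso_Q_map_iff_quasiIso A _).2 (ProdQI.quasiIso_piMap u)
  have H : Homotopy (g ≫ Limits.Pi.map u) 0 :=
    DProdK.homotopyPi K' (g ≫ Limits.Pi.map u) (fun j =>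
      (Homotopy.ofEq (by
        rw [Category.assoc, Pi.map_π, Category.assoc])).trans (hh j).some)
  have h2 := Q_map_eq_of_homotopy A H
  rw [Q.map_comp, Functor.map_zero] at h2
  have h3 : Q.map g = 0 := by
    rw [← cancel_mono (Q.map (Limits.Pi.map u)), h2, zero_comp]
  rw [h3, comp_zero]

/-- the image under `Q` of the product fan -/
noncomputable def fanQ : Fan (fun j => Q.obj (K j)) :=
  Fan.mk (Q.obj (∏ᶜ K)) (fun j => Q.map (Pi.π K j))

lemma exists_lift' (Y : DerivedCategory A) (ψ : ∀ j, Y ⟶ Q.obj (K j)) :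
    ∃ φ : Y ⟶ Q.obj (∏ᶜ K), ∀ j, φ ≫ Q.map (Pi.π K j) = ψ j := by
  let e : Q.obj (Q.objPreimage Y) ≅ Y := Q.objObjPreimageIso Y
  obtain ⟨φ, hφ⟩ := exists_lift K (Q.objPreimage Y) (fun j => e.hom ≫ ψ j)
  refine ⟨e.inv ≫ φ, fun j => ?_⟩
  rw [Category.assoc, hφ, Iso.inv_hom_id_assoc]

lemma hom_ext' (Y : DerivedCategory A) (m m' : Y ⟶ Q.obj (∏ᶜ K))
    (h : ∀ j, m ≫ Q.map (Pi.π K j) = m' ≫ Q.map (Pi.π K j)) : m = m' := by
  let e : Q.obj (Q.objPreimage Y) ≅ Y := Q.objObjPreimageIso Y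
  have : e.hom ≫ (m - m') = 0 := by
    apply eq_zero_of_comp K
    intro j
    rw [Category.assoc, Preadditive.sub_comp, h j, sub_self, comp_zero]
  rw [← cancel_epi e.hom, ← sub_eq_zero, ← Preadditive.comp_sub, this]

/-- `Q` preserves the product -/
noncomputable def isLimitFanQ : IsLimit (fanQ K) :=
  Fan.IsLimit.mk _ (fun t => (exists_lift' K t.pt t.proj).choose)
    (fun t j => (exists_lift' K t.pt t.proj).choose_spec j)
    (fun t _ hm => hom_ext' K t.pt _ _ (fun j =>
      (hm j).trans ((exists_lift' K t.pt t.proj).choose_spec j).symm))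

instance : PreservesLimit (Discrete.functor K) (Q : CochainComplex A ℤ ⥤ DerivedCategory A) :=
  preservesLimit_of_preserves_limit_cone (productIsProduct K)
    ((isLimitMapConeFanMkEquiv Q K (Pi.π K)).symm (isLimitFanQ K))


variable (A J) in
lemma preservesLimitsOfShape_Q :
    PreservesLimitsOfShape (Discrete J) (Q : CochainComplex A ℤ ⥤ DerivedCategory A) :=
  preservesLimitsOfShape_of_discrete _

end Groth.Agent.Lib.Helper26.DProdB
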