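import Mathlib
import Groth.Agent.Lib.Helper26.DProdB
import Groth.Agent.Lib.Helper26.DProdK
import Groth.Agent.Lib.Helper8.KInjDer

set_option maxHeartbeats 400000
set_option linter.style.haveILetI false
set_option linter.unusedSectionVars false

universe w w' v u

open CategoryTheory CategoryTheory.Limits CategoryTheory.Pretriangulated

namespace Groth.Agent.Lib.Helper26.RlimRF

section Tri

variable {C : Type*} [Category C] [Preadditive C] [HasZeroObject C] [HasShift C ℤ]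
  [∀ n : ℤ, (shiftFunctor C n).Additive] [Pretriangulated C]

lemma nonempty_iso_obj₁ (T₁ T₂ : Triangle C) (hT₁ : T₁ ∈ distTriang C) (hT₂ : T₂ ∈ distTriang C)
    (e₂ : T₁.obj₂ ≅ T₂.obj₂) (e₃ : T₁.obj₃ ≅ T₂.obj₃)
    (comm : T₁.mor₂ ≫ e₃.hom = e₂.hom ≫ T₂.mor₂) : Nonempty (T₁.obj₁ ≅ T₂.obj₁) := by
  let e := isoTriangleOfIso₁₂ T₁.rotate T₂.rotate (rot_of_distTriang _ hT₁)
    (rot_of_distTriang _ hT₂) e₂ e₃ comm
  exact ⟨(shiftFunctor C (1 : ℤ)).preimageIso (Triangle.π₃.mapIso e)⟩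

end Tri

section Fan

variable {C : Type*} [Category C] {J : Type*} {f g : J → C}

/-- transport a limit fan along isomorphisms of the components -/
def isLimitFanOfIsos (c : Fan f) (hc : IsLimit c) (ε : ∀ j, f j ≅ g j) :
    IsLimit (Fan.mk c.pt (fun j => c.proj j ≫ (ε j).hom)) :=
  Fan.IsLimit.mk _ (fun s => Fan.IsLimit.lift hc (fun j => s.proj j ≫ (ε j).inv))
    (fun s j => by
      dsimp
      rw [← Category.assoc, Fan.IsLimit.fac, Category.assoc, Iso.inv_hom_id, Category.comp_id])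
    (fun s m hm => by
      apply Fan.IsLimit.hom_ext hc
      intro j
      rw [Fan.IsLimit.fac, ← hm j]
      dsimp
      rw [Category.assoc, Category.assoc, Iso.hom_inv_id, Category.comp_id])

end Fan

section Main

open DerivedCategory Groth.Agent.Lib.Helper26 Groth.Agent.Lib.Helper8

variable {A : Type u} [Category.{v} A] [Abelian A] [IsGrothendieckAbelian.{v} A]
  [HasDerivedCategory.{v} A]

/-- `Z` in a distinguished triangle with two K-injective vertices is K-injective -/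
lemma kinj_of_triangle (T : Triangle (HomotopyCategory A (ComplexShape.up ℤ)))
    (hT : T ∈ distTriang _) (h₂ : KInjDer.kinj T.obj₂) (h₃ : KInjDer.kinj T.obj₃) :
    KInjDer.kinj T.obj₁ := by
  have h₂' : (HomotopyCategory.subcategoryAcyclic A).rightOrthogonal T.obj₂ :=
    (CochainComplex.isKInjective_iff_rightOrthogonal T.obj₂.as).1 h₂
  have h₃' : (HomotopyCategory.subcategoryAcyclic A).rightOrthogonal T.obj₃ :=
    (CochainComplex.isKInjective_iff_rightOrthogonal T.obj₃.as).1 h₃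
  exact (CochainComplex.isKInjective_iff_rightOrthogonal T.obj₁.as).2
    (ObjectProperty.ext_of_isTriangulatedClosed₁ _ T hT h₂' h₃')

lemma hK : ∀ X : HomotopyCategory A (ComplexShape.up ℤ),
      ∃ (J : HomotopyCategory A (ComplexShape.up ℤ)) (_ : KInjDer.kinj J) (s : X ⟶ J),
        HomotopyCategory.quasiIso A (ComplexShape.up ℤ) s :=
  KInjDer.hK_of_complexes (fun K => by
    obtain ⟨I, f, hI, hf, _, _⟩ := KInjMain.main K
    exact ⟨I, f, hI, hf⟩)


variable {B : Type u} [Category.{v} B] [Abelian B] [HasDerivedCategory.{v} B]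
  [HasProductsOfShape ℕ B] [(lim : (Discrete ℕ ⥤ B) ⥤ B).PreservesEpimorphisms]
  (F : A ⥤ B) [F.Additive] [PreservesLimitsOfShape (Discrete ℕ) F]

/-- the functor to be derived -/
noncomputable abbrev G : HomotopyCategory A (ComplexShape.up ℤ) ⥤ DerivedCategory B :=
  F.mapHomotopyCategory (ComplexShape.up ℤ) ⋙ DerivedCategory.Qh

variable [(G F).HasRightDerivedFunctor (HomotopyCategory.quasiIso A (ComplexShape.up ℤ))]

/-- the derived functor -/
noncomputable abbrev RF : DerivedCategory A ⥤ DerivedCategory B :=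
  (G F).totalRightDerived DerivedCategory.Qh (HomotopyCategory.quasiIso A (ComplexShape.up ℤ))

/-- the unit -/
noncomputable abbrev α : G F ⟶ DerivedCategory.Qh ⋙ RF F :=
  (G F).totalRightDerivedUnit DerivedCategory.Qh (HomotopyCategory.quasiIso A (ComplexShape.up ℤ))

lemma isIso_α (J : HomotopyCategory A (ComplexShape.up ℤ)) (hJ : KInjDer.kinj J) :
    IsIso ((α F).app J) :=
  KInjDer.isIso_unit hK (G F) J hJ

/-- the quotient functor -/
noncomputable abbrev q : CochainComplex A ℤ ⥤ HomotopyCategory A (ComplexShape.up ℤ) :=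
  HomotopyCategory.quotient A (ComplexShape.up ℤ)

lemma G_map_q {K L : CochainComplex A ℤ} (f : K ⟶ L) :
    (G F).map ((q (A := A)).map f) = Q.map ((F.mapHomologicalComplex (ComplexShape.up ℤ)).map f) :=
  rfl

/-- the unit at a complex -/
noncomputable def αQ (M : CochainComplex A ℤ) :
    (G F).obj ((q (A := A)).obj M) ⟶ (RF F).obj (Q.obj M) :=
  (α F).app ((q (A := A)).obj M)

lemma αQ_naturality {M N : CochainComplex A ℤ} (g : M ⟶ N) :
    (G F).map ((q (A := A)).map g) ≫ αQ F N = αQ F M ≫ (RF F).map (Q.map g) :=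
  (α F).naturality ((q (A := A)).map g)

lemma isIso_αQ (M : CochainComplex A ℤ) [hM : M.IsKInjective] : IsIso (αQ F M) :=
  isIso_α F _ hM

/-- the image of a product fan of complexes under `F` then `Q` is a limit fan -/
noncomputable def isLimitFanB (I : ℕ → CochainComplex A ℤ) :
    IsLimit (Fan.mk ((G F).obj ((q (A := A)).obj (∏ᶜ I)))
      (fun n => (G F).map ((q (A := A)).map (Pi.π I n)))) := by
  haveI := DProdB.preservesLimitsOfShape_Q B ℕ
  have h := isLimitOfPreserves (F.mapHomologicalComplex (ComplexShape.up ℤ) ⋙ Q)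
    (productIsProduct I)
  exact (isLimitMapConeFanMkEquiv (F.mapHomologicalComplex (ComplexShape.up ℤ) ⋙ Q) I
    (Pi.π I)) h


theorem main (K : ℕ → DerivedCategory A) (t : ∀ n, K (n + 1) ⟶ K n) (L : DerivedCategory A)
    [HasProduct K] [HasProduct fun n => (RF F).obj (K n)]
    (a : L ⟶ ∏ᶜ K) (c : ∏ᶜ K ⟶ L⟦(1 : ℤ)⟧)
    (hL : Triangle.mk a (Pi.lift fun n => Pi.π K n - Pi.π K (n + 1) ≫ t n) c ∈
      distinguishedTriangles) :
    ∃ (a' : (RF F).obj L ⟶ ∏ᶜ fun n => (RF F).obj (K n))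
      (c' : (∏ᶜ fun n => (RF F).obj (K n)) ⟶ ((RF F).obj L)⟦(1 : ℤ)⟧),
      Triangle.mk a' (Pi.lift fun n => Pi.π (fun n => (RF F).obj (K n)) n -
        Pi.π (fun n => (RF F).obj (K n)) (n + 1) ≫ (RF F).map (t n)) c' ∈
        distinguishedTriangles := by
  -- K-injective models
  choose I f hI hf _ _ using fun n => KInjMain.main (Q.objPreimage (K n))
  have : ∀ n, QuasiIso (f n) := hf
  have : ∀ n, (I n).IsKInjective := hI
  let e : ∀ n, Q.obj (I n) ≅ K n := fun n =>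
    (asIso (Q.map (f n))).symm ≪≫ Q.objObjPreimageIso (K n)
  choose τ hτ using fun n => DProdK.exists_Q_map_eq ((e (n + 1)).hom ≫ t n ≫ (e n).inv)
  have hP : (∏ᶜ I).IsKInjective := DProdK.isKInjective_pi I
  -- the product in `D(A)`
  let θ : Q.obj (∏ᶜ I) ≅ ∏ᶜ K :=
    (DProdK.isLimitFan K I e).conePointUniqueUpToIso (productIsProduct K)
  have hθ : ∀ n, θ.hom ≫ Pi.π K n = Q.map (Pi.π I n) ≫ (e n).hom := fun n =>
    IsLimit.conePointUniqueUpToIso_hom_comp (DProdK.isLimitFan K I e) (productIsProduct K) ⟨n⟩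
  let φ : ∏ᶜ I ⟶ ∏ᶜ I := Pi.lift (fun n => Pi.π I n - Pi.π I (n + 1) ≫ τ n)
  have hφ : ∀ n, φ ≫ Pi.π I n = Pi.π I n - Pi.π I (n + 1) ≫ τ n := fun n => Pi.lift_π _ _
  have hφθ : Q.map φ ≫ θ.hom =
      θ.hom ≫ Pi.lift (fun n => Pi.π K n - Pi.π K (n + 1) ≫ t n) := by
    apply Pi.hom_ext
    intro n
    rw [Category.assoc, Category.assoc, Pi.lift_π, hθ, ← Category.assoc, ← Q.map_comp, hφ,
      Functor.map_sub, Preadditive.sub_comp, Preadditive.comp_sub, hθ, Q.map_comp, hτ]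
    congr 1
    rw [← Category.assoc θ.hom, hθ]
    simp only [Category.assoc, Iso.inv_hom_id, Category.comp_id]
  -- the fibre in `K(A)`
  obtain ⟨Z, a₀, c₀, hT₀⟩ := distinguished_cocone_triangle₁ ((q (A := A)).map φ)
  have hZ : KInjDer.kinj Z := kinj_of_triangle _ hT₀ hP hP
  -- `L` is the image of `Z`
  have hT₁ := (Qh (C := A)).map_distinguished _ hT₀
  have hcomm : (Pi.lift fun n => Pi.π K n - Pi.π K (n + 1) ≫ t n) ≫ θ.inv = θ.inv ≫ Q.map φ := by
    rw [← cancel_mono θ.hom, Category.assoc, Category.assoc, Iso.inv_hom_id, Category.comp_id,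
      hφθ, Iso.inv_hom_id_assoc]
  obtain ⟨ζ⟩ := nonempty_iso_obj₁ _ _ hL hT₁ θ.symm θ.symm hcomm
  have := isIso_α F Z hZ
  let ξ : (RF F).obj L ≅ (G F).obj Z := (RF F).mapIso ζ ≪≫ (asIso ((α F).app Z)).symm
  -- the product in `D(B)`
  have : ∀ n, IsIso (αQ F (I n)) := fun n => isIso_αQ F (I n)
  let ε : ∀ n, (G F).obj ((q (A := A)).obj (I n)) ≅ (RF F).obj (K n) := fun n =>
    asIso (αQ F (I n)) ≪≫ (RF F).mapIso (e n)
  have hε : ∀ n, (ε n).hom = αQ F (I n) ≫ (RF F).map (e n).hom := fun n => rfl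
  let hB := isLimitFanOfIsos _ (isLimitFanB F I) ε
  let ψ : (G F).obj ((q (A := A)).obj (∏ᶜ I)) ≅ ∏ᶜ fun n => (RF F).obj (K n) :=
    hB.conePointUniqueUpToIso (productIsProduct _)
  have hψ : ∀ n, ψ.hom ≫ Pi.π (fun n => (RF F).obj (K n)) n =
      (G F).map ((q (A := A)).map (Pi.π I n)) ≫ (ε n).hom := fun n =>
    IsLimit.conePointUniqueUpToIso_hom_comp hB (productIsProduct _) ⟨n⟩
  have hnat : ∀ n, (G F).map ((q (A := A)).map (τ n)) ≫ (ε n).hom =
      (ε (n + 1)).hom ≫ (RF F).map (t n) := fun n => by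
    rw [hε, hε, ← Category.assoc, αQ_naturality, hτ]
    simp only [Category.assoc, Functor.map_comp, Iso.map_inv_hom_id, Category.comp_id]
  have hψφ : (G F).map ((q (A := A)).map φ) ≫ ψ.hom =
      ψ.hom ≫ Pi.lift (fun n => Pi.π (fun n => (RF F).obj (K n)) n -
        Pi.π (fun n => (RF F).obj (K n)) (n + 1) ≫ (RF F).map (t n)) := by
    apply Pi.hom_ext
    intro n
    rw [Category.assoc, Category.assoc, Pi.lift_π, hψ, ← Category.assoc, ← Functor.map_comp,
      ← Functor.map_comp, hφ, Functor.map_sub, Functor.map_sub, Preadditive.sub_comp,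
      Preadditive.comp_sub, hψ, Functor.map_comp, Functor.map_comp, Category.assoc, hnat,
      ← Category.assoc ψ.hom, hψ, Category.assoc]
  -- the triangle in `D(B)`
  have hTB := (G F).map_distinguished _ hT₀
  let m₃ : (G F).obj ((q (A := A)).obj (∏ᶜ I)) ⟶ ((G F).obj Z)⟦(1 : ℤ)⟧ :=
    ((G F).mapTriangle.obj (Triangle.mk a₀ ((q (A := A)).map φ) c₀)).mor₃
  have c₁ : (ξ.hom ≫ (G F).map a₀ ≫ ψ.hom) ≫ ψ.inv = ξ.hom ≫ (G F).map a₀ := by
    simp only [Category.assoc, Iso.hom_inv_id, Category.comp_id]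
  have c₂ : (Pi.lift (fun n => Pi.π (fun n => (RF F).obj (K n)) n -
        Pi.π (fun n => (RF F).obj (K n)) (n + 1) ≫ (RF F).map (t n))) ≫ ψ.inv =
      ψ.inv ≫ (G F).map ((q (A := A)).map φ) := by
    rw [← cancel_mono ψ.hom, Category.assoc, Category.assoc, Iso.inv_hom_id, Category.comp_id,
      hψφ, Iso.inv_hom_id_assoc]
  have c₃ : (ψ.inv ≫ m₃ ≫ (ξ.inv)⟦(1 : ℤ)⟧') ≫ (ξ.hom)⟦(1 : ℤ)⟧' = ψ.inv ≫ m₃ := by
    simp only [Category.assoc, ← Functor.map_comp, Iso.inv_hom_id]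
    rw [CategoryTheory.Functor.map_id, Category.comp_id]
  refine ⟨ξ.hom ≫ (G F).map a₀ ≫ ψ.hom, ψ.inv ≫ m₃ ≫ (ξ.inv)⟦(1 : ℤ)⟧', ?_⟩
  refine isomorphic_distinguished _ hTB _ ?_
  exact Triangle.isoMk _ _ ξ ψ.symm ψ.symm c₁ c₂ c₃

end Main

end Groth.Agent.Lib.Helper26.RlimRF
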