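import Mathlib
import Groth.Agent.Lib.Helper26.RlimRF
import Groth.Agent.Lib.Helper26.DProdKU
import Groth.Agent.Lib.Helper26.KInjComp

set_option maxHeartbeats 800000
set_option linter.style.haveILetI false
set_option linter.unusedSectionVars false

universe w w' v v' u u'

open CategoryTheory CategoryTheory.Limits CategoryTheory.Pretriangulated

namespace Groth.Agent.Lib.Helper26.RlimRF2

open DerivedCategory Groth.Agent.Lib.Helper26 Groth.Agent.Lib.Helper8
open Groth.Agent.Lib.Helper26.RlimRF (nonempty_iso_obj₁ isLimitFanOfIsos)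

variable {A : Type u} [Category.{v} A] [Abelian A] [IsGrothendieckAbelian.{v} A]
  [HasDerivedCategory.{w} A]

/-- `Z` in a distinguished triangle with two K-injective vertices is K-injective -/
lemma kinj_of_triangle (T : Triangle (HomotopyCategory A (ComplexShape.up ℤ)))
    (hT : T ∈ distTriang _) (h₂ : KInjDer.kinj T.obj₂) (h₃ : KInjDer.kinj T.obj₃) :
    KInjDer.kinj T.obj₁ := by
  have h₂' : (HomotopyCategory.subcategoryAcyclic A).rightOrthogonal T.obj₂ :=
    (CochainComplex.isKInjective_iff_rightOrthogonal T.obj₂.as).1 h₂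
  have h₃' : (HomotopyCategory.subcategoryAcyclic A).rightOrthogonal T.obj₃ :=
    (CochainComplex.isKInjective_iff_rightOrthogonal T.obj₃.as).1 h₃
  exact (CochainComplex.isKInjective_iff_rightOrthogonal T.obj₁.as).2
    (ObjectProperty.ext_of_isTriangulatedClosed₁ _ T hT h₂' h₃')

variable {B : Type u'} [Category.{v'} B] [Abelian B] [HasDerivedCategory.{w'} B]
  (F : A ⥤ B) [F.Additive]

/-- the functor to be derived -/
noncomputable abbrev G : HomotopyCategory A (ComplexShape.up ℤ) ⥤ DerivedCategory B :=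
  F.mapHomotopyCategory (ComplexShape.up ℤ) ⋙ DerivedCategory.Qh

variable [(G F).HasRightDerivedFunctor (HomotopyCategory.quasiIso A (ComplexShape.up ℤ))]

/-- the derived functor -/
noncomputable abbrev RF : DerivedCategory A ⥤ DerivedCategory B :=
  (G F).totalRightDerived DerivedCategory.Qh (HomotopyCategory.quasiIso A (ComplexShape.up ℤ))

/-- the unit -/
noncomputable abbrev α : G F ⟶ DerivedCategory.Qh ⋙ RF F :=
  (G F).totalRightDerivedUnit DerivedCategory.Qh (HomotopyCategory.quasiIso A (ComplexShape.up ℤ))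

lemma isIso_α (J : HomotopyCategory A (ComplexShape.up ℤ)) (hJ : KInjDer.kinj J) :
    IsIso ((α F).app J) :=
  KInjDer.isIso_unit (Groth.Agent.Lib.Helper26.KInjAdjH.hK (B := A)) (G F) J hJ

/-- the quotient functor -/
noncomputable abbrev q : CochainComplex A ℤ ⥤ HomotopyCategory A (ComplexShape.up ℤ) :=
  HomotopyCategory.quotient A (ComplexShape.up ℤ)

/-- the unit at a complex -/
noncomputable def αQ (M : CochainComplex A ℤ) :
    (G F).obj ((q (A := A)).obj M) ⟶ (RF F).obj (Q.obj M) :=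
  (α F).app ((q (A := A)).obj M)

lemma αQ_naturality {M N : CochainComplex A ℤ} (g : M ⟶ N) :
    (G F).map ((q (A := A)).map g) ≫ αQ F N = αQ F M ≫ (RF F).map (Q.map g) :=
  (α F).naturality ((q (A := A)).map g)

lemma isIso_αQ (M : CochainComplex A ℤ) [hM : M.IsKInjective] : IsIso (αQ F M) :=
  isIso_α F _ hM

theorem main (K : ℕ → DerivedCategory A) (t : ∀ n, K (n + 1) ⟶ K n) (L : DerivedCategory A)
    [HasProduct K] [HasProduct fun n => (RF F).obj (K n)]
    [PreservesLimit (Discrete.functor K) (RF F)]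
    (a : L ⟶ ∏ᶜ K) (c : ∏ᶜ K ⟶ L⟦(1 : ℤ)⟧)
    (hL : Triangle.mk a (Pi.lift fun n => Pi.π K n - Pi.π K (n + 1) ≫ t n) c ∈
      distinguishedTriangles) :
    ∃ (a' : (RF F).obj L ⟶ ∏ᶜ fun n => (RF F).obj (K n))
      (c' : (∏ᶜ fun n => (RF F).obj (K n)) ⟶ ((RF F).obj L)⟦(1 : ℤ)⟧),
      Triangle.mk a' (Pi.lift fun n => Pi.π (fun n => (RF F).obj (K n)) n -
        Pi.π (fun n => (RF F).obj (K n)) (n + 1) ≫ (RF F).map (t n)) c' ∈
        distinguishedTriangles := by
  -- K-injective models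
  choose I f hI hf _ _ using fun n => KInjMain.main (Q.objPreimage (K n))
  have : ∀ n, QuasiIso (f n) := hf
  have : ∀ n, (I n).IsKInjective := hI
  let e : ∀ n, Q.obj (I n) ≅ K n := fun n =>
    (asIso (Q.map (f n))).symm ≪≫ Q.objObjPreimageIso (K n)
  choose τ hτ using fun n => DProdKU.exists_Q_map_eq ((e (n + 1)).hom ≫ t n ≫ (e n).inv)
  have hP : (∏ᶜ I).IsKInjective := DProdKU.isKInjective_pi I
  -- the product in `D(A)`
  let θ : Q.obj (∏ᶜ I) ≅ ∏ᶜ K :=
    (DProdKU.isLimitFan K I e).conePointUniqueUpToIso (productIsProduct K)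
  have hθ : ∀ n, θ.hom ≫ Pi.π K n = Q.map (Pi.π I n) ≫ (e n).hom := fun n =>
    IsLimit.conePointUniqueUpToIso_hom_comp (DProdKU.isLimitFan K I e) (productIsProduct K) ⟨n⟩
  let φ : ∏ᶜ I ⟶ ∏ᶜ I := Pi.lift (fun n => Pi.π I n - Pi.π I (n + 1) ≫ τ n)
  have hφ : ∀ n, φ ≫ Pi.π I n = Pi.π I n - Pi.π I (n + 1) ≫ τ n := fun n => Pi.lift_π _ _
  have hφθ : Q.map φ ≫ θ.hom =
      θ.hom ≫ Pi.lift (fun n => Pi.π K n - Pi.π K (n + 1) ≫ t n) := by
    apply Pi.hom_ext
    intro n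
    rw [Category.assoc, Category.assoc, Pi.lift_π, hθ, ← Category.assoc, ← Q.map_comp, hφ,
      Functor.map_sub, Preadditive.sub_comp, Preadditive.comp_sub, hθ, Q.map_comp, hτ]
    congr 1
    rw [← Category.assoc θ.hom, hθ]
    simp only [Category.assoc, Iso.inv_hom_id, Category.comp_id]
  -- the fibre in `K(A)`
  obtain ⟨Z, a₀, c₀, hT₀⟩ := distinguished_cocone_triangle₁ ((q (A := A)).map φ)
  have hZ : KInjDer.kinj Z := kinj_of_triangle _ hT₀ hP hP
  -- `L` is the image of `Z`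
  have hT₁ := (Qh (C := A)).map_distinguished _ hT₀
  have hcomm : (Pi.lift fun n => Pi.π K n - Pi.π K (n + 1) ≫ t n) ≫ θ.inv = θ.inv ≫ Q.map φ := by
    rw [← cancel_mono θ.hom, Category.assoc, Category.assoc, Iso.inv_hom_id, Category.comp_id,
      hφθ, Iso.inv_hom_id_assoc]
  obtain ⟨ζ⟩ := nonempty_iso_obj₁ _ _ hL hT₁ θ.symm θ.symm hcomm
  have := isIso_α F Z hZ
  let ξ : (RF F).obj L ≅ (G F).obj Z := (RF F).mapIso ζ ≪≫ (asIso ((α F).app Z)).symm
  -- the product in `D(B)`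
  have : ∀ n, IsIso (αQ F (I n)) := fun n => isIso_αQ F (I n)
  have : IsIso (αQ F (∏ᶜ I)) := isIso_αQ F (∏ᶜ I)
  let ε : ∀ n, (G F).obj ((q (A := A)).obj (I n)) ≅ (RF F).obj (K n) := fun n =>
    asIso (αQ F (I n)) ≪≫ (RF F).mapIso (e n)
  have hε : ∀ n, (ε n).hom = αQ F (I n) ≫ (RF F).map (e n).hom := fun n => rfl
  let ψ' : (RF F).obj (∏ᶜ K) ≅ ∏ᶜ fun n => (RF F).obj (K n) := PreservesProduct.iso (RF F) K
  have hψ' : ∀ n, ψ'.hom ≫ Pi.π (fun n => (RF F).obj (K n)) n = (RF F).map (Pi.π K n) :=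
    fun n => by
      dsimp only [ψ']
      rw [PreservesProduct.iso_hom, piComparison_comp_π]
  let ψ : (G F).obj ((q (A := A)).obj (∏ᶜ I)) ≅ ∏ᶜ fun n => (RF F).obj (K n) :=
    asIso (αQ F (∏ᶜ I)) ≪≫ (RF F).mapIso θ ≪≫ ψ'
  have hψ : ∀ n, ψ.hom ≫ Pi.π (fun n => (RF F).obj (K n)) n =
      (G F).map ((q (A := A)).map (Pi.π I n)) ≫ (ε n).hom := fun n => by
    dsimp only [ψ]
    rw [Iso.trans_hom, Iso.trans_hom, asIso_hom, Functor.mapIso_hom, Category.assoc,
      Category.assoc, hψ', ← Functor.map_comp, hθ, Functor.map_comp, hε,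
      ← Category.assoc, ← αQ_naturality, Category.assoc]
  have hnat : ∀ n, (G F).map ((q (A := A)).map (τ n)) ≫ (ε n).hom =
      (ε (n + 1)).hom ≫ (RF F).map (t n) := fun n => by
    rw [hε, hε, ← Category.assoc, αQ_naturality, hτ]
    simp only [Category.assoc, Functor.map_comp, Iso.map_inv_hom_id, Category.comp_id]
  have hψφ : (G F).map ((q (A := A)).map φ) ≫ ψ.hom =
      ψ.hom ≫ Pi.lift (fun n => Pi.π (fun n => (RF F).obj (K n)) n -
        Pi.π (fun n => (RF F).obj (K n)) (n + 1) ≫ (RF F).map (t n)) := by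
    apply Pi.hom_ext
    intro n
    rw [Category.assoc, Category.assoc, Pi.lift_π, hψ, ← Category.assoc, ← Functor.map_comp,
      ← Functor.map_comp, hφ, Functor.map_sub, Functor.map_sub, Preadditive.sub_comp,
      Preadditive.comp_sub, hψ, Functor.map_comp, Functor.map_comp, Category.assoc, hnat,
      ← Category.assoc ψ.hom, hψ, Category.assoc]
  -- the triangle in `D(B)`
  have hTB := (G F).map_distinguished _ hT₀
  let m₃ : (G F).obj ((q (A := A)).obj (∏ᶜ I)) ⟶ ((G F).obj Z)⟦(1 : ℤ)⟧ :=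
    ((G F).mapTriangle.obj (Triangle.mk a₀ ((q (A := A)).map φ) c₀)).mor₃
  have c₁ : (ξ.hom ≫ (G F).map a₀ ≫ ψ.hom) ≫ ψ.inv = ξ.hom ≫ (G F).map a₀ := by
    simp only [Category.assoc, Iso.hom_inv_id, Category.comp_id]
  have c₂ : (Pi.lift (fun n => Pi.π (fun n => (RF F).obj (K n)) n -
        Pi.π (fun n => (RF F).obj (K n)) (n + 1) ≫ (RF F).map (t n))) ≫ ψ.inv =
      ψ.inv ≫ (G F).map ((q (A := A)).map φ) := by
    rw [← cancel_mono ψ.hom, Category.assoc, Category.assoc, Iso.inv_hom_id, Category.comp_id,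
      hψφ, Iso.inv_hom_id_assoc]
  have c₃ : (ψ.inv ≫ m₃ ≫ (ξ.inv)⟦(1 : ℤ)⟧') ≫ (ξ.hom)⟦(1 : ℤ)⟧' = ψ.inv ≫ m₃ := by
    simp only [Category.assoc, ← Functor.map_comp, Iso.inv_hom_id]
    rw [CategoryTheory.Functor.map_id, Category.comp_id]
  refine ⟨ξ.hom ≫ (G F).map a₀ ≫ ψ.hom, ψ.inv ≫ m₃ ≫ (ξ.inv)⟦(1 : ℤ)⟧', ?_⟩
  refine isomorphic_distinguished _ hTB _ ?_
  exact Triangle.isoMk _ _ ξ ψ.symm ψ.symm c₁ c₂ c₃

end Groth.Agent.Lib.Helper26.RlimRF2
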