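import Mathlib
import Groth.Prelude.Def_DCoh4
import Groth.Agent.Lib.Helper26.LpullAdj
import Groth.Agent.Lib.Helper26.RlimRF2

set_option maxHeartbeats 400000
set_option linter.style.haveILetI false
set_option linter.unusedSectionVars false

universe u

open CategoryTheory CategoryTheory.Limits AlgebraicGeometry

namespace Groth.Agent.Lib.Helper26.RpushAdjCor

open Groth.Agent.Lib.Helper16.KD Groth.Agent.Lib.Helper26.LpullAdj

attribute [local instance] HasDerivedCategory.standard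

theorem rpush_comp {X Y Z : Scheme.{u}} (f : X ⟶ Y) (g : Y ⟶ Z)
    [DCoh.HasRpush f] [DCoh.HasRpush g] [DCoh.HasRpush (f ≫ g)] :
    Nonempty (DCoh.Rpush f ⋙ DCoh.Rpush g ≅ DCoh.Rpush (f ≫ g)) := by
  haveI := hasLpull f
  haveI := hasLpull g
  haveI := hasLpull (f ≫ g)
  obtain ⟨adjf⟩ := nonempty_adj f
  obtain ⟨adjg⟩ := nonempty_adj g
  obtain ⟨adjfg⟩ := nonempty_adj (f ≫ g)
  exact ⟨((adjg.comp adjf).ofNatIsoLeft (LpullCompIso f g)).rightAdjointUniq adjfg⟩

theorem rpush_isRlim {X Y : Scheme.{u}} (f : X ⟶ Y) [DCoh.HasRpush f]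
    (K : ℕ → DCoh.D X) (t : ∀ n, K (n + 1) ⟶ K n) [HasProduct K]
    [HasProduct fun n => (DCoh.Rpush f).obj (K n)]
    (L : DCoh.D X) (hL : DCoh.IsRlim K t L) :
    DCoh.IsRlim (fun n => (DCoh.Rpush f).obj (K n)) (fun n => (DCoh.Rpush f).map (t n))
      ((DCoh.Rpush f).obj L) := by
  obtain ⟨a, c, hT⟩ := hL
  haveI := hasLpull f
  obtain ⟨adj⟩ := nonempty_adj f
  haveI : (DCoh.Rpush f).IsRightAdjoint := adj.isRightAdjoint
  exact Groth.Agent.Lib.Helper26.RlimRF2.main (Scheme.Modules.pushforward f) K t L a c hT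

end Groth.Agent.Lib.Helper26.RpushAdjCor
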