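import Mathlib
import Groth.Prelude.Def_DCoh2
import Groth.Agent.Lib.Helper26.MVMod4

set_option maxHeartbeats 400000
set_option linter.style.haveILetI false
set_option linter.unusedSectionVars false

universe u

open CategoryTheory CategoryTheory.Limits AlgebraicGeometry

namespace Groth.Agent.Lib.Helper26.RpushGE

open Scheme.Modules Groth.Agent.Lib.Helper26.MVMod4

attribute [local instance] HasDerivedCategory.standard

theorem Rpush_isGE {X Y : Scheme.{u}} (f : X ⟶ Y) [DCoh.HasRpush f]
    (F : DCoh.D X) (n : ℤ) [F.IsGE n] : ((DCoh.Rpush f).obj F).IsGE n := by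
  obtain ⟨K, hK, ⟨e⟩⟩ := DerivedCategory.exists_iso_Q_obj_of_isGE F n
  obtain ⟨L, i, hi, hL, hL'⟩ :=
    CochainComplex.Plus.modelCategoryQuillen.exists_quasiIso_injective K n
  have : L.IsKInjective := CochainComplex.isKInjective_of_injective L n
  have : IsIso (DerivedCategory.Q.map i) := by
    rw [DerivedCategory.isIso_Q_map_iff_quasiIso]
    exact hi
  have e' : (DCoh.Rpush f).obj F ≅ DerivedCategory.Q.obj
      (((pushforward f).mapHomologicalComplex (ComplexShape.up ℤ)).obj L) :=
    (DCoh.Rpush f).mapIso (e ≪≫ asIso (DerivedCategory.Q.map i)) ≪≫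
      (unitIso (pushforward f) L).symm
  have h1 : CochainComplex.IsStrictlyGE
      (((pushforward f).mapHomologicalComplex (ComplexShape.up ℤ)).obj L) n :=
    inferInstance
  have h2 : (DerivedCategory.Q.obj
      (((pushforward f).mapHomologicalComplex (ComplexShape.up ℤ)).obj L)).IsGE n := by
    rw [DerivedCategory.isGE_Q_obj_iff]
    infer_instance
  exact DerivedCategory.TStructure.t.isGE_of_iso e'.symm n

end Groth.Agent.Lib.Helper26.RpushGE
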