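import Mathlib
import Groth.Prelude.Def_CxOX
import Groth.Agent.Lib.Helper26.MVMod1

set_option maxHeartbeats 400000
set_option linter.style.haveILetI false
set_option linter.unusedSectionVars false

universe u

open CategoryTheory CategoryTheory.Limits AlgebraicGeometry

namespace Groth.Agent.Lib.Helper26.MVMod2

open Scheme.Modules Groth.Agent.Lib.Helper26.MVMod1

variable {X : Scheme.{u}} (U V : X.Opens) (hUV : U ⊔ V = ⊤)

/-- the difference map -/
noncomputable def d (M : X.Modules) : (A U).obj M ⊞ (A V).obj M ⟶ (A (U ⊓ V)).obj M :=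
  biprod.desc ((ρ (inf_le_left : U ⊓ V ≤ U)).app M) (-(ρ (inf_le_right : U ⊓ V ≤ V)).app M)

lemma epi_of_comp_isIso {C : Type*} [Category C] {P Q R : C} (i : P ⟶ Q) (f : Q ⟶ R)
    [IsIso (i ≫ f)] : Epi f := epi_of_epi_fac (f := i) (h := i ≫ f) rfl

include hUV in
lemma epi_d (M : X.Modules) : Epi (d U V M) := by
  apply Preadditive.epi_of_isZero_cokernel
  apply isZero_of_restrict U V hUV
  · have : IsIso ((restrictFunctor U.ι).map (biprod.inr ≫ d U V M)) := by
      have h : biprod.inr ≫ d U V M = -(ρ (inf_le_right : U ⊓ V ≤ V)).app M := biprod.inr_desc _ _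
      rw [h, Functor.map_neg]
      have := isIso_restrict_ρ_right U V M
      exact ⟨⟨-inv ((restrictFunctor U.ι).map ((ρ (inf_le_right : U ⊓ V ≤ V)).app M)),
        by simp, by simp⟩⟩
    rw [Functor.map_comp] at this
    have : Epi ((restrictFunctor U.ι).map (d U V M)) :=
      epi_of_comp_isIso ((restrictFunctor U.ι).map biprod.inr) _
    exact (isZero_cokernel_of_epi _).of_iso
      (PreservesCokernel.iso (restrictFunctor U.ι) (d U V M))
  · have : IsIso ((restrictFunctor V.ι).map (biprod.inl ≫ d U V M)) := by
      have h : biprod.inl ≫ d U V M = (ρ (inf_le_left : U ⊓ V ≤ U)).app M := biprod.inl_desc _ _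
      rw [h]
      exact isIso_restrict_ρ_left U V M
    rw [Functor.map_comp] at this
    have : Epi ((restrictFunctor V.ι).map (d U V M)) :=
      epi_of_comp_isIso ((restrictFunctor V.ι).map biprod.inl) _
    exact (isZero_cokernel_of_epi _).of_iso
      (PreservesCokernel.iso (restrictFunctor V.ι) (d U V M))


/-- the module-level Mayer–Vietoris short complex -/
noncomputable def SM (M : X.Modules) : ShortComplex X.Modules :=
  ShortComplex.mk (biprod.lift ((η U).app M) ((η V).app M)) (d U V M) (by
    simp [d, sq_comm U V M])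

include hUV in
lemma SM_shortExact (M : X.Modules) : (SM U V M).ShortExact := by
  have hp := isPullback U V hUV M
  have : Mono (SM U V M).f := hp.mono_shortComplex'_f
  have : Epi (SM U V M).g := epi_d U V hUV M
  exact ShortComplex.ShortExact.mk hp.exact_shortComplex'

section Cx

variable (K : CochainComplex X.Modules ℤ)

/-- the unit on complexes -/
noncomputable def ηC (O : X.Opens) :
    K ⟶ ((A O).mapHomologicalComplex (ComplexShape.up ℤ)).obj K where
  f n := (η O).app (K.X n)
  comm' i j _ := ((η O).naturality (K.d i j)).symm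

/-- restriction on complexes -/
noncomputable def ρC {O O' : X.Opens} (h : O' ≤ O) :
    ((A O).mapHomologicalComplex (ComplexShape.up ℤ)).obj K ⟶
      ((A O').mapHomologicalComplex (ComplexShape.up ℤ)).obj K :=
  (NatTrans.mapHomologicalComplex (ρ h) (ComplexShape.up ℤ)).app K

lemma sqC_comm : ηC K U ≫ ρC K (inf_le_left : U ⊓ V ≤ U) =
    ηC K V ≫ ρC K (inf_le_right : U ⊓ V ≤ V) := by
  refine HomologicalComplex.hom_ext _ _ (fun n => ?_)
  exact sq_comm U V (K.X n)

/-- the complex-level Mayer–Vietoris short complex -/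
noncomputable def SC : ShortComplex (CochainComplex X.Modules ℤ) :=
  ShortComplex.mk (biprod.lift (ηC K U) (ηC K V))
    (biprod.desc (ρC K (inf_le_left : U ⊓ V ≤ U)) (-ρC K (inf_le_right : U ⊓ V ≤ V))) (by
    simp [sqC_comm U V K])

/-- degreewise the complex-level short complex is the module-level one -/
noncomputable def SCIso (n : ℤ) :
    (SC U V K).map (HomologicalComplex.eval _ _ n) ≅ SM U V (K.X n) :=
  ShortComplex.isoMk (Iso.refl _) ((HomologicalComplex.eval _ _ n).mapBiprod _ _) (Iso.refl _)
    (by
      change 𝟙 _ ≫ biprod.lift ((η U).app (K.X n)) ((η V).app (K.X n)) =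
        (HomologicalComplex.eval _ _ n).map (biprod.lift (ηC K U) (ηC K V)) ≫
          ((HomologicalComplex.eval _ _ n).mapBiprod _ _).hom
      rw [Category.id_comp, ← biprod.lift_mapBiprod, Category.assoc, Iso.inv_hom_id,
        Category.comp_id]
      rfl)
    (by
      change ((HomologicalComplex.eval _ _ n).mapBiprod _ _).hom ≫ d U V (K.X n) =
        (HomologicalComplex.eval _ _ n).map (biprod.desc (ρC K (inf_le_left : U ⊓ V ≤ U))
          (-ρC K (inf_le_right : U ⊓ V ≤ V))) ≫ 𝟙 _
      rw [Category.comp_id, ← biprod.mapBiprod_hom_desc]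
      rfl)

include hUV in
lemma SC_shortExact : (SC U V K).ShortExact :=
  HomologicalComplex.shortExact_of_degreewise_shortExact _ (fun n =>
    ShortComplex.shortExact_of_iso (SCIso U V K n).symm (SM_shortExact U V hUV (K.X n)))

end Cx

end Groth.Agent.Lib.Helper26.MVMod2
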