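import Mathlib
import Groth.Prelude.Def_CxOX
import Groth.Agent.Lib.Helper26.MVMod2

set_option maxHeartbeats 400000
set_option linter.style.haveILetI false
set_option linter.unusedSectionVars false

universe w v' u' u

open CategoryTheory CategoryTheory.Limits AlgebraicGeometry

namespace Groth.Agent.Lib.Helper26.MVMod3

open Scheme.Modules Groth.Agent.Lib.Helper26.MVMod1 Groth.Agent.Lib.Helper26.MVMod2
open Pretriangulated

/-- transport a distinguished triangle along isomorphisms of its objects -/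
lemma exists_of_isos {C : Type*} [Category C] [HasZeroObject C] [HasShift C ℤ] [Preadditive C]
    [∀ n : ℤ, (shiftFunctor C n).Additive] [Pretriangulated C] (T : Triangle C)
    (hT : T ∈ distTriang C) {Y₁ Y₂ Y₃ : C} (e₁ : T.obj₁ ≅ Y₁) (e₂ : T.obj₂ ≅ Y₂)
    (e₃ : T.obj₃ ≅ Y₃) :
    ∃ (a : Y₁ ⟶ Y₂) (b : Y₂ ⟶ Y₃) (c : Y₃ ⟶ Y₁⟦(1 : ℤ)⟧),
      Triangle.mk a b c ∈ distTriang C := by
  refine ⟨e₁.inv ≫ T.mor₁ ≫ e₂.hom, e₂.inv ≫ T.mor₂ ≫ e₃.hom,
    e₃.inv ≫ T.mor₃ ≫ e₁.hom⟦(1 : ℤ)⟧', isomorphic_distinguished _ hT _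
      (Triangle.isoMk _ _ e₁.symm e₂.symm e₃.symm ?_ ?_ ?_)⟩
  · change (e₁.inv ≫ T.mor₁ ≫ e₂.hom) ≫ e₂.inv = e₁.inv ≫ T.mor₁
    simp only [Category.assoc, Iso.hom_inv_id, Category.comp_id]
  · change (e₂.inv ≫ T.mor₂ ≫ e₃.hom) ≫ e₃.inv = e₂.inv ≫ T.mor₂
    simp only [Category.assoc, Iso.hom_inv_id, Category.comp_id]
  · change (e₃.inv ≫ T.mor₃ ≫ e₁.hom⟦(1 : ℤ)⟧') ≫ e₁.inv⟦(1 : ℤ)⟧' = e₃.inv ≫ T.mor₃
    simp only [Category.assoc, ← Functor.map_comp, Iso.hom_inv_id,
      CategoryTheory.Functor.map_id, Category.comp_id]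

variable {X : Scheme.{u}} (U V : X.Opens) (hUV : U ⊔ V = ⊤)
  {B : Type u'} [Category.{v'} B] [Abelian B] (Φ : X.Modules ⥤ B) [Φ.Additive]
  (I : CochainComplex X.Modules ℤ) (hI : ∀ n, Injective (I.X n))

include hUV hI in
lemma SC_map_shortExact :
    ((SC U V I).map (Φ.mapHomologicalComplex (ComplexShape.up ℤ))).ShortExact :=
  HomologicalComplex.shortExact_of_degreewise_shortExact _ (fun n => by
    have : Injective (SM U V (I.X n)).X₁ := hI n
    have s : (SM U V (I.X n)).Splitting := (SM_shortExact U V hUV (I.X n)).splittingOfInjective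
    have s' := (s.ofIso (SCIso U V I n).symm).map Φ
    exact s'.shortExact)

variable [HasDerivedCategory.{w} B]

include hUV hI in
theorem exists_mv :
    ∃ (a : DerivedCategory.Q.obj ((Φ.mapHomologicalComplex (ComplexShape.up ℤ)).obj I) ⟶
        DerivedCategory.Q.obj ((Φ.mapHomologicalComplex (ComplexShape.up ℤ)).obj
          (((A U).mapHomologicalComplex (ComplexShape.up ℤ)).obj I)) ⊞
        DerivedCategory.Q.obj ((Φ.mapHomologicalComplex (ComplexShape.up ℤ)).obj
          (((A V).mapHomologicalComplex (ComplexShape.up ℤ)).obj I)))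
      (b : DerivedCategory.Q.obj ((Φ.mapHomologicalComplex (ComplexShape.up ℤ)).obj
          (((A U).mapHomologicalComplex (ComplexShape.up ℤ)).obj I)) ⊞
        DerivedCategory.Q.obj ((Φ.mapHomologicalComplex (ComplexShape.up ℤ)).obj
          (((A V).mapHomologicalComplex (ComplexShape.up ℤ)).obj I)) ⟶
        DerivedCategory.Q.obj ((Φ.mapHomologicalComplex (ComplexShape.up ℤ)).obj
          (((A (U ⊓ V)).mapHomologicalComplex (ComplexShape.up ℤ)).obj I)))
      (c : DerivedCategory.Q.obj ((Φ.mapHomologicalComplex (ComplexShape.up ℤ)).obj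
          (((A (U ⊓ V)).mapHomologicalComplex (ComplexShape.up ℤ)).obj I)) ⟶
        (DerivedCategory.Q.obj ((Φ.mapHomologicalComplex (ComplexShape.up ℤ)).obj I))⟦(1 : ℤ)⟧),
      Triangle.mk a b c ∈ distTriang (DerivedCategory B) := by
  have hS := SC_map_shortExact U V hUV Φ I hI
  have := preservesBinaryBiproducts_of_preservesBiproducts
    (Φ.mapHomologicalComplex (ComplexShape.up ℤ) ⋙ DerivedCategory.Q)
  exact exists_of_isos _ (DerivedCategory.triangleOfSES_distinguished hS) (Iso.refl _)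
    ((Φ.mapHomologicalComplex (ComplexShape.up ℤ) ⋙ DerivedCategory.Q).mapBiprod _ _)
    (Iso.refl _)

end Groth.Agent.Lib.Helper26.MVMod3
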