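import Mathlib
import Groth.Prelude.Def_CxOX
import Groth.Prelude.Def_DCoh3
import Groth.Agent.Lib.Helper26.MVMod3
import Groth.Agent.Lib.Helper26.MVMod4

set_option maxHeartbeats 400000
set_option linter.style.haveILetI false
set_option linter.unusedSectionVars false

universe w w' v v' u u'

open CategoryTheory CategoryTheory.Limits AlgebraicGeometry

namespace Groth.Agent.Lib.Helper26.MVMod5

open Scheme.Modules Groth.Agent.Lib.Helper26.MVMod1 Groth.Agent.Lib.Helper26.MVMod2
  Groth.Agent.Lib.Helper26.MVMod3 Groth.Agent.Lib.Helper26.MVMod4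
open Pretriangulated

attribute [local instance] HasDerivedCategory.standard

variable {X : Scheme.{u}} {B : Type u'} [Category.{v'} B] [Abelian B]
  [HasDerivedCategory.{w'} B] (Φ : X.Modules ⥤ B) [Φ.Additive]

/-- identification of the terms of the Mayer–Vietoris triangle -/
noncomputable def termIso (O : X.Opens) [PreservesFiniteLimits (restrictFunctor O.ι)]
    (G : (O : Scheme.{u}).Modules ⥤ B) [G.Additive]
    (iso : pushforward O.ι ⋙ Φ ≅ G)
    [(G.mapHomotopyCategory (ComplexShape.up ℤ) ⋙ DerivedCategory.Qh).HasRightDerivedFunctor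
      (HomotopyCategory.quasiIso (O : Scheme.{u}).Modules (ComplexShape.up ℤ))]
    (I : CochainComplex X.Modules ℤ) [I.IsKInjective] {E : DCoh.D X}
    (e : DerivedCategory.Q.obj I ≅ E) :
    DerivedCategory.Q.obj ((Φ.mapHomologicalComplex (ComplexShape.up ℤ)).obj
        (((A O).mapHomologicalComplex (ComplexShape.up ℤ)).obj I)) ≅
      ((G.mapHomotopyCategory (ComplexShape.up ℤ) ⋙ DerivedCategory.Qh).totalRightDerived
        DerivedCategory.Qh (HomotopyCategory.quasiIso (O : Scheme.{u}).Modules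
          (ComplexShape.up ℤ))).obj ((DCoh.restrictD O.ι).obj E) :=
  DerivedCategory.Q.mapIso
    ((Functor.mapHomologicalComplexCompIso
      (Functor.associator _ _ _ ≪≫ Functor.isoWhiskerLeft (restrictFunctor O.ι) iso)
        (ComplexShape.up ℤ)).app I ≪≫
     (Functor.mapHomologicalComplexCompIso (Iso.refl (restrictFunctor O.ι ⋙ G))
        (ComplexShape.up ℤ)).symm.app I) ≪≫
    unitIso G (((restrictFunctor O.ι).mapHomologicalComplex (ComplexShape.up ℤ)).obj I) ≪≫
    ((G.mapHomotopyCategory (ComplexShape.up ℤ) ⋙ DerivedCategory.Qh).totalRightDerived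
        DerivedCategory.Qh (HomotopyCategory.quasiIso (O : Scheme.{u}).Modules
          (ComplexShape.up ℤ))).mapIso (restrictDIso O I e).symm


/-- the general Mayer–Vietoris triangle -/
theorem mv_general (U V : X.Opens) (hUV : U ⊔ V = ⊤)
    [PreservesFiniteLimits (restrictFunctor U.ι)]
    [PreservesFiniteLimits (restrictFunctor V.ι)]
    [PreservesFiniteLimits (restrictFunctor (U ⊓ V).ι)]
    (GU : (U : Scheme.{u}).Modules ⥤ B) (GV : (V : Scheme.{u}).Modules ⥤ B)
    (GW : ((U ⊓ V : X.Opens) : Scheme.{u}).Modules ⥤ B) [GU.Additive] [GV.Additive] [GW.Additive]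
    (isoU : pushforward U.ι ⋙ Φ ≅ GU) (isoV : pushforward V.ι ⋙ Φ ≅ GV)
    (isoW : pushforward (U ⊓ V).ι ⋙ Φ ≅ GW)
    [(GU.mapHomotopyCategory (ComplexShape.up ℤ) ⋙ DerivedCategory.Qh).HasRightDerivedFunctor
      (HomotopyCategory.quasiIso (U : Scheme.{u}).Modules (ComplexShape.up ℤ))]
    [(GV.mapHomotopyCategory (ComplexShape.up ℤ) ⋙ DerivedCategory.Qh).HasRightDerivedFunctor
      (HomotopyCategory.quasiIso (V : Scheme.{u}).Modules (ComplexShape.up ℤ))]
    [(GW.mapHomotopyCategory (ComplexShape.up ℤ) ⋙ DerivedCategory.Qh).HasRightDerivedFunctor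
      (HomotopyCategory.quasiIso ((U ⊓ V : X.Opens) : Scheme.{u}).Modules (ComplexShape.up ℤ))]
    (E : DCoh.D X) (Y₁ : DerivedCategory B)
    (h₁ : ∀ (I : CochainComplex X.Modules ℤ) [I.IsKInjective]
      (_ : DerivedCategory.Q.obj I ≅ E),
      Nonempty (DerivedCategory.Q.obj ((Φ.mapHomologicalComplex (ComplexShape.up ℤ)).obj I) ≅ Y₁)) :
    ∃ (a : Y₁ ⟶
        ((GU.mapHomotopyCategory (ComplexShape.up ℤ) ⋙ DerivedCategory.Qh).totalRightDerived
          DerivedCategory.Qh (HomotopyCategory.quasiIso (U : Scheme.{u}).Modules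
            (ComplexShape.up ℤ))).obj ((DCoh.restrictD U.ι).obj E) ⊞
        ((GV.mapHomotopyCategory (ComplexShape.up ℤ) ⋙ DerivedCategory.Qh).totalRightDerived
          DerivedCategory.Qh (HomotopyCategory.quasiIso (V : Scheme.{u}).Modules
            (ComplexShape.up ℤ))).obj ((DCoh.restrictD V.ι).obj E))
      (b : ((GU.mapHomotopyCategory (ComplexShape.up ℤ) ⋙ DerivedCategory.Qh).totalRightDerived
          DerivedCategory.Qh (HomotopyCategory.quasiIso (U : Scheme.{u}).Modules
            (ComplexShape.up ℤ))).obj ((DCoh.restrictD U.ι).obj E) ⊞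
        ((GV.mapHomotopyCategory (ComplexShape.up ℤ) ⋙ DerivedCategory.Qh).totalRightDerived
          DerivedCategory.Qh (HomotopyCategory.quasiIso (V : Scheme.{u}).Modules
            (ComplexShape.up ℤ))).obj ((DCoh.restrictD V.ι).obj E) ⟶
        ((GW.mapHomotopyCategory (ComplexShape.up ℤ) ⋙ DerivedCategory.Qh).totalRightDerived
          DerivedCategory.Qh (HomotopyCategory.quasiIso ((U ⊓ V : X.Opens) : Scheme.{u}).Modules
            (ComplexShape.up ℤ))).obj ((DCoh.restrictD (U ⊓ V).ι).obj E))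
      (c : ((GW.mapHomotopyCategory (ComplexShape.up ℤ) ⋙ DerivedCategory.Qh).totalRightDerived
          DerivedCategory.Qh (HomotopyCategory.quasiIso ((U ⊓ V : X.Opens) : Scheme.{u}).Modules
            (ComplexShape.up ℤ))).obj ((DCoh.restrictD (U ⊓ V).ι).obj E) ⟶ Y₁⟦(1 : ℤ)⟧),
      Triangle.mk a b c ∈ distTriang (DerivedCategory B) := by
  obtain ⟨I, hI, hinj, ⟨e⟩⟩ := exists_kinj E
  obtain ⟨e₁⟩ := h₁ I e
  obtain ⟨a, b, c, hT⟩ := exists_mv U V hUV Φ I hinj
  exact exists_of_isos _ hT e₁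
    (biprod.mapIso (termIso Φ U GU isoU I e) (termIso Φ V GV isoV I e))
    (termIso Φ (U ⊓ V) GW isoW I e)

end Groth.Agent.Lib.Helper26.MVMod5
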