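import Mathlib
import Groth.Prelude.Def_CxOX
import Groth.Prelude.Def_CohB1
import Groth.Agent.Lib.Helper26.MVMod1

set_option maxHeartbeats 400000
set_option linter.style.haveILetI false
set_option linter.unusedSectionVars false

universe u

open CategoryTheory CategoryTheory.Limits AlgebraicGeometry Opposite

namespace Groth.Agent.Lib.Helper26.SuppD1

open Scheme.Modules Groth.Agent.Lib.Helper26.MVMod1

variable {X : Scheme.{u}}

lemma res_naturality {M N : X.Modules} (φ : M ⟶ N) {T T' : X.Opens} (h : T' ≤ T) :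
    φ.app T ≫ res N h = res M h ≫ φ.app T' :=
  (φ.mapPresheaf.naturality (homOfLE h).op).symm

/-- sections over an open missing the support vanish -/
lemma isZero_sections_of_support (N : X.Modules) (O : X.Opens)
    (h : ∀ x ∈ O, x ∉ CohB1.support N) : IsZero Γ(N, O) := by
  have : Subsingleton Γ(N, O) := by
    constructor
    intro s t
    apply TopCat.Presheaf.section_ext ⟨N.presheaf, N.isSheaf⟩ O s t
    intro x hx
    have hx' := h x hx
    simp only [CohB1.support, Set.mem_ofPred_eq, not_not] at hx'
    exact Subsingleton.elim _ _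
  exact AddCommGrpCat.isZero_of_subsingleton _

/-- the restriction to an open missing the support vanishes -/
lemma isZero_restrict_of_support (N : X.Modules) (O : X.Opens)
    (h : ∀ x ∈ O, x ∉ CohB1.support N) : IsZero ((restrictFunctor O.ι).obj N) := by
  apply isZero_of_sections
  intro T
  exact isZero_sections_of_support N (O.ι ''ᵁ T) (fun x hx => h x (O.ι_image_le T hx))


/-- every morphism from a module supported away from `V'` to the restriction of a
direct image from `V'` vanishes -/
lemma hom_eq_zero_of_support (U V' : X.Opens) (N : (U : Scheme.{u}).Modules)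
    (h : ∀ x ∈ CohB1.support N, U.ι x ∉ V') (P : (V' : Scheme.{u}).Modules)
    (φ : N ⟶ (restrictFunctor U.ι).obj ((pushforward V'.ι).obj P)) : φ = 0 := by
  apply Scheme.Modules.hom_ext
  intro T
  rw [Scheme.Modules.Hom.zero_app]
  let T'' : (U : Scheme.{u}).Opens := T ⊓ U.ι ⁻¹ᵁ V'
  have hT : T'' ≤ T := inf_le_left
  have hz : IsZero Γ(N, T'') := isZero_sections_of_support N T'' (fun x hx hx' =>
    h x hx' hx.2)
  have hnat := res_naturality φ hT
  have hmono : Mono (res ((restrictFunctor U.ι).obj ((pushforward V'.ι).obj P)) hT) := by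
    have : IsIso (res ((restrictFunctor U.ι).obj ((pushforward V'.ι).obj P)) hT) := by
      change IsIso (P.presheaf.map (homOfLE (_ : V'.ι ⁻¹ᵁ (U.ι ''ᵁ T'') ≤
        V'.ι ⁻¹ᵁ (U.ι ''ᵁ T))).op)
      have heq : V'.ι ⁻¹ᵁ (U.ι ''ᵁ T) ≤ V'.ι ⁻¹ᵁ (U.ι ''ᵁ T'') := by
        intro y hy
        obtain ⟨x, hx, hxy⟩ := hy
        refine ⟨x, ⟨hx, ?_⟩, hxy⟩
        have : U.ι x = V'.ι y := hxy
        change U.ι x ∈ V'
        rw [this]
        exact y.2
      exact ⟨P.presheaf.map (homOfLE heq).op, by
        rw [← Functor.map_comp]; exact P.presheaf.map_id _, by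
        rw [← Functor.map_comp]; exact P.presheaf.map_id _⟩
    infer_instance
  rw [← cancel_mono (res ((restrictFunctor U.ι).obj ((pushforward V'.ι).obj P)) hT), hnat,
    zero_comp]
  rw [hz.eq_of_tgt (res N hT) 0, zero_comp]


/-- the extension by zero of a module supported away from `V'` vanishes on `V'` -/
lemma isZero_restrict_extZero (U V' : X.Opens) (N : (U : Scheme.{u}).Modules)
    (h : ∀ x ∈ CohB1.support N, U.ι x ∉ V') :
    IsZero ((restrictFunctor V'.ι).obj ((CxOX.extZero U.ι).obj N)) := by
  rw [IsZero.iff_id_eq_zero]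
  apply ((restrictAdjunction V'.ι).homEquiv _ _).injective
  apply ((CxOX.extZeroAdj U.ι).homEquiv _ _).injective
  rw [hom_eq_zero_of_support U V' N h _ (((CxOX.extZeroAdj U.ι).homEquiv _ _)
    (((restrictAdjunction V'.ι).homEquiv _ _) (𝟙 _)))]
  simp [Adjunction.homEquiv_unit]

end Groth.Agent.Lib.Helper26.SuppD1
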