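import Mathlib

set_option maxHeartbeats 400000
set_option linter.style.haveILetI false
set_option linter.unusedSectionVars false

universe w w' v v' u u'

open CategoryTheory CategoryTheory.Limits ZeroObject

namespace Groth.Agent.Lib.Helper26.SuppD2

variable {A : Type u} [Category.{v} A] [Abelian A] [HasDerivedCategory.{w} A]
  {B : Type u'} [Category.{v'} B] [Abelian B] [HasDerivedCategory.{w'} B]

/-- an object of the derived category with vanishing cohomology is zero -/
lemma isZero_of_homology (E : DerivedCategory A)
    (h : ∀ i : ℤ, IsZero ((DerivedCategory.homologyFunctor A i).obj E)) : IsZero E := by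
  let K := DerivedCategory.Q.objPreimage E
  let e : DerivedCategory.Q.obj K ≅ E := DerivedCategory.Q.objObjPreimageIso E
  have hK : ∀ i : ℤ, IsZero (K.homology i) := fun i =>
    (h i).of_iso (((DerivedCategory.homologyFunctorFactors A i).app K).symm ≪≫
      (DerivedCategory.homologyFunctor A i).mapIso e)
  have hq : QuasiIso (0 : K ⟶ 0) := by
    rw [quasiIso_iff]
    intro i
    rw [quasiIsoAt_iff_isIso_homologyMap]
    refine ⟨0, (hK i).eq_of_src _ _, IsZero.eq_of_src ?_ _ _⟩
    exact Functor.map_isZero (HomologicalComplex.homologyFunctor A _ i) (isZero_zero _)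
  have : IsIso (DerivedCategory.Q.map (0 : K ⟶ 0)) := by
    rw [DerivedCategory.isIso_Q_map_iff_quasiIso]
    exact hq
  exact (Functor.map_isZero DerivedCategory.Q (isZero_zero _)).of_iso
    (e.symm ≪≫ asIso (DerivedCategory.Q.map (0 : K ⟶ 0)))

variable (G : A ⥤ B) [G.Additive] [PreservesFiniteLimits G] [PreservesFiniteColimits G]

/-- exact functors commute with cohomology of complexes -/
noncomputable def homologyMapIso (K : CochainComplex A ℤ) (i : ℤ) :
    ((G.mapHomologicalComplex (ComplexShape.up ℤ)).obj K).homology i ≅ G.obj (K.homology i) :=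
  (K.sc i).mapHomologyIso G

/-- exact functors commute with cohomology in the derived category -/
noncomputable def homologyIso (E : DerivedCategory A) (i : ℤ) :
    (DerivedCategory.homologyFunctor B i).obj (G.mapDerivedCategory.obj E) ≅
      G.obj ((DerivedCategory.homologyFunctor A i).obj E) :=
  (DerivedCategory.homologyFunctor B i).mapIso
      (G.mapDerivedCategory.mapIso (DerivedCategory.Q.objObjPreimageIso E).symm ≪≫
        G.mapDerivedCategoryFactors.app _) ≪≫
    (DerivedCategory.homologyFunctorFactors B i).app _ ≪≫
    homologyMapIso G _ i ≪≫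
    G.mapIso (((DerivedCategory.homologyFunctorFactors A i).app _).symm ≪≫
      (DerivedCategory.homologyFunctor A i).mapIso (DerivedCategory.Q.objObjPreimageIso E))

lemma isZero_mapDerivedCategory_obj (E : DerivedCategory A)
    (h : ∀ i : ℤ, IsZero (G.obj ((DerivedCategory.homologyFunctor A i).obj E))) :
    IsZero (G.mapDerivedCategory.obj E) :=
  isZero_of_homology _ (fun i => (h i).of_iso (homologyIso G E i))

end Groth.Agent.Lib.Helper26.SuppD2
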