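import Mathlib
import Groth.Prelude.Def_CxOX
import Groth.Prelude.Def_DCoh3
import Groth.Prelude.Def_CohB1
import Groth.Agent.Lib.Helper26.SuppD1
import Groth.Agent.Lib.Helper26.SuppD2
import Groth.Agent.Lib.Helper26.MVMod5

set_option maxHeartbeats 400000
set_option linter.style.haveILetI false
set_option linter.unusedSectionVars false

universe u

open CategoryTheory CategoryTheory.Limits AlgebraicGeometry Opposite ZeroObject

namespace Groth.Agent.Lib.Helper26.SuppD3

open Scheme.Modules Groth.Agent.Lib.Helper26.MVMod1 Groth.Agent.Lib.Helper26.MVMod4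
  Groth.Agent.Lib.Helper26.SuppD1 Groth.Agent.Lib.Helper26.SuppD2
open Pretriangulated

attribute [local instance] HasDerivedCategory.standard

instance isKInjective_zero {A : Type*} [Category A] [Abelian A] :
    (0 : CochainComplex A ℤ).IsKInjective :=
  ⟨fun _ _ => ⟨Homotopy.ofEq (IsZero.eq_of_tgt (isZero_zero _) _ _)⟩⟩

/-- the derived direct image exists -/
lemma hasRpush {X Y : Scheme.{u}} (g : X ⟶ Y) : DCoh.HasRpush g :=
  Groth.Agent.Lib.Helper8.KInjDer.hasRightDerivedFunctor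
    (Groth.Agent.Lib.Helper26.KInjAdjH.hK (B := X.Modules)) _

lemma isZero_Rpush_obj {X Y : Scheme.{u}} (g : X ⟶ Y) [DCoh.HasRpush g] (F : DCoh.D X)
    (hF : IsZero F) : IsZero ((DCoh.Rpush g).obj F) := by
  have h0 : IsZero (DerivedCategory.Q.obj (0 : CochainComplex X.Modules ℤ)) :=
    Functor.map_isZero _ (isZero_zero _)
  have e : F ≅ DerivedCategory.Q.obj (0 : CochainComplex X.Modules ℤ) := hF.iso h0
  have h1 : IsZero (DerivedCategory.Q.obj (((pushforward g).mapHomologicalComplex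
      (ComplexShape.up ℤ)).obj (0 : CochainComplex X.Modules ℤ))) :=
    Functor.map_isZero _ (Functor.map_isZero _ (isZero_zero _))
  exact h1.of_iso ((DCoh.Rpush g).mapIso e ≪≫ (unitIso (pushforward g) 0).symm)

variable {X : Scheme.{u}}

/-- if `E` vanishes on `V'` and `X = U ∪ V'`, then `E ≅ Rj_*(E|_U)` -/
theorem iso_Rpush_restrict (U V' : X.Opens) (hUV : U ⊔ V' = ⊤) [DCoh.HasRpush U.ι]
    (E : DCoh.D X) (hV : IsZero ((DCoh.restrictD V'.ι).obj E))
    (hW : IsZero ((DCoh.restrictD (U ⊓ V').ι).obj E)) :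
    Nonempty (E ≅ (DCoh.Rpush U.ι).obj ((DCoh.restrictD U.ι).obj E)) := by
  haveI := hasRpush V'.ι
  haveI := hasRpush (U ⊓ V').ι
  obtain ⟨a, b, c, hT⟩ := Groth.Agent.Lib.Helper26.MVMod5.mv_general (𝟭 X.Modules) U V' hUV
    (pushforward U.ι) (pushforward V'.ι)
    (pushforward (U ⊓ V').ι) (Functor.rightUnitor _) (Functor.rightUnitor _)
    (Functor.rightUnitor _) E E (fun I _ e => ⟨DerivedCategory.Q.mapIso
      ((Functor.mapHomologicalComplexIdIso X.Modules (ComplexShape.up ℤ)).app I) ≪≫ e⟩)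
  have h3 : IsZero (Triangle.mk a b c).obj₃ := isZero_Rpush_obj _ _ hW
  have ha : IsIso a := (Triangle.isZero₃_iff_isIso₁ _ hT).1 h3
  have h2 : IsZero ((DCoh.Rpush V'.ι).obj ((DCoh.restrictD V'.ι).obj E)) :=
    isZero_Rpush_obj _ _ hV
  have : IsIso (biprod.fst : (DCoh.Rpush U.ι).obj ((DCoh.restrictD U.ι).obj E) ⊞
      (DCoh.Rpush V'.ι).obj ((DCoh.restrictD V'.ι).obj E) ⟶ _) := by
    refine ⟨biprod.inl, ?_, biprod.inl_fst⟩
    apply biprod.hom_ext
    · simp
    · exact h2.eq_of_tgt _ _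
  exact ⟨asIso a ≪≫ asIso biprod.fst⟩


/-- `j^* j_! ≅ id` on modules -/
noncomputable def restrictExtZeroIso (U : X.Opens) :
    CxOX.extZero U.ι ⋙ restrictFunctor U.ι ≅ 𝟭 _ :=
  haveI : IsIso (CxOX.extZeroAdj U.ι).unit :=
    (Adjunction.Triple.isIso_unit_iff_isIso_counit
      ⟨CxOX.extZeroAdj U.ι, restrictAdjunction U.ι⟩).2 inferInstance
  (asIso (CxOX.extZeroAdj U.ι).unit).symm

/-- `j^* j_! ≅ id` on derived categories, objectwise -/
noncomputable def restrictDExtZeroDIso (U : X.Opens) [PreservesFiniteLimits (CxOX.extZero U.ι)]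
    (F : DCoh.D (U : Scheme.{u})) :
    (DCoh.restrictD U.ι).obj ((CxOX.extZeroD U.ι).obj F) ≅ F :=
  (DCoh.restrictD U.ι).mapIso ((CxOX.extZeroD U.ι).mapIso
      (DerivedCategory.Q.objObjPreimageIso F).symm ≪≫
      (CxOX.extZero U.ι).mapDerivedCategoryFactors.app _) ≪≫
    (restrictFunctor U.ι).mapDerivedCategoryFactors.app _ ≪≫
    DerivedCategory.Q.mapIso
      ((Functor.mapHomologicalComplexCompIso (restrictExtZeroIso U) (ComplexShape.up ℤ)).app _ ≪≫
        (Functor.mapHomologicalComplexIdIso _ (ComplexShape.up ℤ)).app _) ≪≫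
    DerivedCategory.Q.objObjPreimageIso F

theorem main (U : X.Opens) [DCoh.HasRpush U.ι]
    [PreservesFiniteLimits (CxOX.extZero U.ι)] (T : Set X) (hT : IsClosed T)
    (hTU : T ⊆ (U : Set X)) :
    (∀ E : DCoh.D X, (∀ i : ℤ, CohB1.support (DCoh.HD E i) ⊆ T) →
      Nonempty (E ≅ (DCoh.Rpush U.ι).obj ((DCoh.restrictD U.ι).obj E))) ∧
    (∀ F : DCoh.D (U : Scheme.{u}),
      (∀ i : ℤ, (fun x : (U : Scheme.{u}) => U.ι.base x) '' CohB1.support (DCoh.HD F i) ⊆ T) →
      Nonempty ((CxOX.extZeroD U.ι).obj F ≅ (DCoh.Rpush U.ι).obj F)) := by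
  let V' : X.Opens := ⟨Tᶜ, hT.isOpen_compl⟩
  have hUV : U ⊔ V' = ⊤ := by
    apply TopologicalSpace.Opens.ext
    ext x
    simp only [TopologicalSpace.Opens.coe_sup, Set.mem_union, SetLike.mem_coe,
      TopologicalSpace.Opens.coe_top, Set.mem_univ, iff_true]
    by_cases hx : x ∈ T
    · exact Or.inl (hTU hx)
    · exact Or.inr hx
  constructor
  · intro E hE
    apply iso_Rpush_restrict U V' hUV E
    · exact isZero_mapDerivedCategory_obj (restrictFunctor V'.ι) E (fun i =>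
        isZero_restrict_of_support _ V' (fun x hx hx' => hx (hE i hx')))
    · exact isZero_mapDerivedCategory_obj (restrictFunctor (U ⊓ V').ι) E (fun i =>
        isZero_restrict_of_support _ (U ⊓ V') (fun x hx hx' => hx.2 (hE i hx')))
  · intro F hF
    have key : ∀ (O : X.Opens), O ≤ V' →
        IsZero ((DCoh.restrictD O.ι).obj ((CxOX.extZeroD U.ι).obj F)) := by
      intro O hO
      apply isZero_mapDerivedCategory_obj (restrictFunctor O.ι)
      intro i
      refine IsZero.of_iso ?_ ((restrictFunctor O.ι).mapIso (homologyIso (CxOX.extZero U.ι) F i))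
      apply isZero_restrict_extZero U O
      intro x hx hx'
      exact hO hx' (hF i ⟨x, hx, rfl⟩)
    obtain ⟨e⟩ := iso_Rpush_restrict U V' hUV ((CxOX.extZeroD U.ι).obj F) (key V' le_rfl)
      (key (U ⊓ V') inf_le_right)
    exact ⟨e ≪≫ (DCoh.Rpush U.ι).mapIso (restrictDExtZeroDIso U F)⟩

end Groth.Agent.Lib.Helper26.SuppD3
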