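import Mathlib
import Groth.Prelude.Def_Coh
import Groth.Prelude.Def_DCoh2
import Groth.Agent.Lib.Helper26.RFSerre
import Groth.Agent.Lib.Helper26.KInjAdjH
import Groth.Agent.Lib.Helper26.SuppD3
import Groth.Agent.Lib.Helper26.RpushAdjCor
import Groth.Agent.Lib.Helper26.RpushGE
import Groth.Agent.S0028
import Groth.Agent.S11319

set_option autoImplicit false
set_option maxHeartbeats 400000
set_option linter.style.haveILetI false
set_option linter.unusedSectionVars false
universe u
open CategoryTheory CategoryTheory.Limits AlgebraicGeometry Opposite TopologicalSpace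

attribute [local instance] HasDerivedCategory.standard

namespace Groth.Agent.Lib.Helper26.PushComp

open Groth.Agent.Lib.Helper26 DerivedCategory

variable {X Y Z : Scheme.{u}}

/-- `H^i(Rf_* E) ≅ R^p f_* (H^j E)` for `E` concentrated in degree `j`, `i = j + p`. -/
theorem HD_Rpush_of_single (f : X ⟶ Y) [HasInjectiveResolutions X.Modules] [DCoh.HasRpush f]
    (E : DCoh.D X) (j : ℤ) [E.IsGE j] [E.IsLE j] (p : ℕ) (i : ℤ) (hp : j + p = i) :
    Nonempty (DCoh.HD ((DCoh.Rpush f).obj E) i ≅ (Coh.Rpush f p).obj (DCoh.HD E j)) :=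
  RFSerre.single_iso (KInjAdjH.hK (B := X.Modules)) (Scheme.Modules.pushforward f) (DCoh.Rpush f)
    ((DCoh.pushKh f).totalRightDerivedUnit Qh
      (HomotopyCategory.quasiIso X.Modules (ComplexShape.up ℤ))) E j p i hp

/-- the forgetful functor to abelian sheaves reflects zero objects -/
theorem isZero_of_isZero_toAb (M : X.Modules) (h : IsZero (Coh.toAb M)) : IsZero M := by
  rw [IsZero.iff_id_eq_zero]
  have h1 : (SheafOfModules.toSheaf X.ringCatSheaf).map (𝟙 M) =
      (SheafOfModules.toSheaf X.ringCatSheaf).map (0 : M ⟶ M) :=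
    h.eq_of_src _ _
  exact (SheafOfModules.toSheaf X.ringCatSheaf).map_injective h1

/-- higher direct images (as modules) of a quasi-coherent module along an affine morphism vanish -/
theorem isZero_Rpush_of_isAffineHom (i : Z ⟶ X) [IsAffineHom i] [HasInjectiveResolutions Z.Modules]
    (G : Z.Modules) [Coh.IsQCoh G] (q : ℕ) (hq : 0 < q) : IsZero ((Coh.Rpush i q).obj G) := by
  obtain ⟨e⟩ := Groth.Agent.S11319.result i G q
  exact isZero_of_isZero_toAb _ (IsZero.of_iso (Groth.Agent.S0028.result i G q hq) e)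

/-- `H^0` of a module placed in degree `0` -/
noncomputable def HDinD (G : Z.Modules) : DCoh.HD (DCoh.inD Z G) 0 ≅ G :=
  ((DerivedCategory.singleFunctorCompHomologyFunctorIso Z.Modules 0).app G : _)

/-- For an affine morphism `i : Z ⟶ X` and a quasi-coherent module `G` on `Z`:
`R^p f_* (i_* G) ≅ R^p (i ≫ f)_* G`. -/
theorem nonempty_Rpush_comp_iso (i : Z ⟶ X) [IsAffineHom i] (f : X ⟶ Y)
    [HasInjectiveResolutions Z.Modules] [HasInjectiveResolutions X.Modules]
    (G : Z.Modules) [Coh.IsQCoh G] (p : ℕ) :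
    Nonempty ((Coh.Rpush f p).obj ((Scheme.Modules.pushforward i).obj G) ≅
      (Coh.Rpush (i ≫ f) p).obj G) := by
  haveI := SuppD3.hasRpush i
  haveI := SuppD3.hasRpush f
  haveI := SuppD3.hasRpush (i ≫ f)
  let E : DCoh.D Z := DCoh.inD Z G
  haveI : E.IsGE 0 := by dsimp [E]; infer_instance
  haveI : E.IsLE 0 := by dsimp [E]; infer_instance
  let Y' : DCoh.D X := (DCoh.Rpush i).obj E
  haveI : Y'.IsGE 0 := RpushGE.Rpush_isGE i E 0
  have hq : ∀ q : ℕ, Nonempty (DCoh.HD Y' (q : ℤ) ≅ (Coh.Rpush i q).obj G) := fun q => by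
    obtain ⟨e⟩ := HD_Rpush_of_single i E 0 q (q : ℤ) (by simp)
    exact ⟨e ≪≫ (Coh.Rpush i q).mapIso (HDinD G)⟩
  haveI : Y'.IsLE 0 := by
    rw [DerivedCategory.isLE_iff]
    intro k hk
    obtain ⟨q, rfl⟩ := Int.eq_ofNat_of_zero_le (le_of_lt hk)
    obtain ⟨e⟩ := hq q
    exact IsZero.of_iso (isZero_Rpush_of_isAffineHom i G q (by exact_mod_cast hk)) e
  obtain ⟨e0⟩ := hq 0
  haveI : PreservesFiniteLimits (Scheme.Modules.pushforward i) := by
    haveI : (Scheme.Modules.pushforward i).IsRightAdjoint :=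
      (Scheme.Modules.pullbackPushforwardAdjunction i).isRightAdjoint
    infer_instance
  let e0' : DCoh.HD Y' 0 ≅ (Scheme.Modules.pushforward i).obj G :=
    e0 ≪≫ (Functor.rightDerivedZeroIsoSelf (Scheme.Modules.pushforward i)).app G
  obtain ⟨e1⟩ := HD_Rpush_of_single f Y' 0 p (p : ℤ) (by simp)
  obtain ⟨c⟩ := RpushAdjCor.rpush_comp i f
  obtain ⟨e2⟩ := HD_Rpush_of_single (i ≫ f) E 0 p (p : ℤ) (by simp)
  exact ⟨((Coh.Rpush f p).mapIso e0').symm ≪≫ e1.symm ≪≫
    (DerivedCategory.homologyFunctor _ (p : ℤ)).mapIso (c.app E) ≪≫ e2 ≪≫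
    (Coh.Rpush (i ≫ f) p).mapIso (HDinD G)⟩

end Groth.Agent.Lib.Helper26.PushComp
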