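import Mathlib

set_option maxHeartbeats 400000
set_option linter.style.haveILetI false
set_option linter.unusedSectionVars false
set_option linter.unusedVariables false

universe v u

open CategoryTheory CategoryTheory.Limits ZeroObject Pretriangulated

namespace Groth.Agent.Lib.Helper26.LC3

/-- Mittag-Leffler: `1 - shift` is surjective on the product of an eventually surjective tower -/
theorem ml_surj : ∀ (n₀ : ℕ) (A : ℕ → Type v) [∀ j, AddCommGroup (A j)] (t : ∀ j, A (j + 1) →+ A j)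
    (_ : ∀ j, n₀ ≤ j → Function.Surjective (t j)) (ε : ∀ j, A j),
    ∃ a : ∀ j, A j, ∀ j, a j - t j (a (j + 1)) = ε j := by
  intro n₀
  induction n₀ with
  | zero =>
    intro A _ t h ε
    let a : ∀ j, A j := fun j => Nat.rec (motive := A) 0
      (fun j aj => Classical.choose (h j (Nat.zero_le j) (aj - ε j))) j
    refine ⟨a, fun j => ?_⟩
    have h1 : t j (a (j + 1)) = a j - ε j :=
      Classical.choose_spec (h j (Nat.zero_le j) (a j - ε j))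
    rw [h1]
    abel
  | succ n₀ ih =>
    intro A _ t h ε
    obtain ⟨a', ha'⟩ := ih (fun j => A (j + 1)) (fun j => t (j + 1))
      (fun j hj => h (j + 1) (Nat.succ_le_succ hj)) (fun j => ε (j + 1))
    let a : ∀ j, A j := fun j => match j with
      | 0 => ε 0 + t 0 (a' 0)
      | j + 1 => a' j
    refine ⟨a, fun j => ?_⟩
    cases j with
    | zero =>
      change ε 0 + t 0 (a' 0) - t 0 (a' 0) = ε 0
      abel
    | succ j => exact ha' j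

variable {C : Type u} [Category.{v} C] [Preadditive C] [HasZeroObject C] [HasShift C ℤ]
  [∀ n : ℤ, (shiftFunctor C n).Additive] [Pretriangulated C]

/-- **Milnor injectivity**: for a tower with homotopy limit `R`, a class in `R` which dies in a
late enough stage of the tower is zero. -/
theorem milnor_inj (K : ℕ → C) (t : ∀ j, K (j + 1) ⟶ K j) [HasProduct K]
    (R : C) (ι : R ⟶ ∏ᶜ K) (c : ∏ᶜ K ⟶ R⟦(1 : ℤ)⟧)
    (hT : Triangle.mk ι (Pi.lift fun j => Pi.π K j - Pi.π K (j + 1) ≫ t j) c ∈ distTriang C)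
    (G : C) (n₀ : ℕ)
    (hinj : ∀ j, n₀ ≤ j → ∀ γ : G ⟶ K (j + 1), γ ≫ t j = 0 → γ = 0)
    (hsurj : ∀ j, n₀ ≤ j → ∀ γ : G⟦(1 : ℤ)⟧ ⟶ K j, ∃ γ' : G⟦(1 : ℤ)⟧ ⟶ K (j + 1), γ' ≫ t j = γ)
    (β : G ⟶ R) (n : ℕ) (hn : n₀ ≤ n) (hβ : β ≫ ι ≫ Pi.π K n = 0) : β = 0 := by
  set σ : ∏ᶜ K ⟶ ∏ᶜ K := Pi.lift fun j => Pi.π K j - Pi.π K (j + 1) ≫ t j with hσ
  have hισ : ι ≫ σ = 0 := comp_distTriang_mor_zero₁₂ _ hT
  have hσc : σ ≫ c = 0 := comp_distTriang_mor_zero₂₃ _ hT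
  have hσπ : ∀ j, σ ≫ Pi.π K j = Pi.π K j - Pi.π K (j + 1) ≫ t j := fun j => by
    rw [hσ, Pi.lift_π]
  have rel : ∀ j, β ≫ ι ≫ Pi.π K j = (β ≫ ι ≫ Pi.π K (j + 1)) ≫ t j := fun j => by
    have h1 : β ≫ ι ≫ σ ≫ Pi.π K j = 0 := by
      rw [← Category.assoc ι, hισ, zero_comp, comp_zero]
    rw [hσπ, Preadditive.comp_sub, Preadditive.comp_sub, sub_eq_zero] at h1
    rw [h1]
    simp
  have hdown : ∀ j, β ≫ ι ≫ Pi.π K (j + 1) = 0 → β ≫ ι ≫ Pi.π K j = 0 := fun j hj => by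
    rw [rel, hj, zero_comp]
  have hup : ∀ j, n₀ ≤ j → β ≫ ι ≫ Pi.π K j = 0 → β ≫ ι ≫ Pi.π K (j + 1) = 0 := fun j hj h0 => by
    apply hinj j hj
    rw [← rel, h0]
  have hall : ∀ j, β ≫ ι ≫ Pi.π K j = 0 := by
    intro j
    rcases le_total n j with h | h
    · induction j, h using Nat.le_induction with
      | base => exact hβ
      | succ j hj ih => exact hup j (hn.trans hj) ih
    · obtain ⟨k, hk⟩ := Nat.exists_eq_add_of_le h
      have key : ∀ (k j : ℕ), n = j + k → β ≫ ι ≫ Pi.π K j = 0 := by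
        intro k
        induction k with
        | zero =>
          intro j hj
          have : j = n := by omega
          rw [this]
          exact hβ
        | succ k ih =>
          intro j hj
          exact hdown j (ih (j + 1) (by omega))
      exact key k j hk
  have hβι : β ≫ ι = 0 := by
    apply Pi.hom_ext
    intro j
    rw [Category.assoc, hall, zero_comp]
  have hrot := rot_of_distTriang _ hT
  obtain ⟨(ε : G⟦(1 : ℤ)⟧ ⟶ ∏ᶜ K), hε⟩ := Triangle.coyoneda_exact₃ _ hrot (β⟦(1 : ℤ)⟧') (by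
    change β⟦(1 : ℤ)⟧' ≫ (-ι⟦(1 : ℤ)⟧') = 0
    rw [Preadditive.comp_neg, ← Functor.map_comp, hβι, Functor.map_zero, neg_zero])
  have hε' : β⟦(1 : ℤ)⟧' = ε ≫ c := hε
  obtain ⟨a, ha⟩ := ml_surj n₀ (fun j => (G⟦(1 : ℤ)⟧ ⟶ K j))
    (fun j => Preadditive.rightComp (G⟦(1 : ℤ)⟧) (t j))
    (fun j hj γ => hsurj j hj γ) (fun j => ε ≫ Pi.π K j)
  have hεa : ε = Pi.lift a ≫ σ := by
    apply Pi.hom_ext
    intro j
    rw [Category.assoc, hσπ, Preadditive.comp_sub, Pi.lift_π, ← Category.assoc, Pi.lift_π]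
    exact (ha j).symm
  have : β⟦(1 : ℤ)⟧' = 0 := by
    rw [hε', hεa, Category.assoc, hσc, comp_zero]
  apply (shiftFunctor C (1 : ℤ)).map_injective
  rw [this, Functor.map_zero]


/-- shifted version of Milnor injectivity, with the vanishing hypothesis expressed on the
fibres of the transition maps -/
theorem milnor_inj_shift (K : ℕ → C) (t : ∀ j, K (j + 1) ⟶ K j) [HasProduct K]
    (R : C) (ι : R ⟶ ∏ᶜ K) (c : ∏ᶜ K ⟶ R⟦(1 : ℤ)⟧)
    (hT : Triangle.mk ι (Pi.lift fun j => Pi.π K j - Pi.π K (j + 1) ≫ t j) c ∈ distTriang C)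
    (G : C) (m : ℤ) (n₀ : ℕ)
    (F : ℕ → C) (f : ∀ j, F j ⟶ K (j + 1)) (δ : ∀ j, K j ⟶ (F j)⟦(1 : ℤ)⟧)
    (hF : ∀ j, n₀ ≤ j → Triangle.mk (f j) (t j) (δ j) ∈ distTriang C)
    (hvan : ∀ j, n₀ ≤ j → ∀ γ : G ⟶ (F j)⟦m⟧, γ = 0)
    (β : G ⟶ R⟦m⟧) (n : ℕ) (hn : n₀ ≤ n) (hβ : β ≫ (ι ≫ Pi.π K n)⟦m⟧' = 0) : β = 0 := by
  let adj : shiftFunctor C (-m) ⊣ shiftFunctor C m := (shiftEquiv C m).symm.toAdjunction
  let G' : C := (shiftFunctor C (-m)).obj G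
  have hΦ0 : ∀ Y : C, adj.homEquiv G Y (0 : G' ⟶ Y) = 0 := fun Y => by
    rw [Adjunction.homEquiv_unit, Functor.map_zero, comp_zero]
  have hvan' : ∀ j, n₀ ≤ j → ∀ γ : G' ⟶ F j, γ = 0 := fun j hj γ => by
    apply (adj.homEquiv G (F j)).injective
    rw [hvan j hj (adj.homEquiv G (F j) γ), hvan j hj (adj.homEquiv G (F j) 0)]
  have hinj : ∀ j, n₀ ≤ j → ∀ γ : G' ⟶ K (j + 1), γ ≫ t j = 0 → γ = 0 := fun j hj γ hγ => by
    obtain ⟨γ₀, hγ₀⟩ := Triangle.coyoneda_exact₂ _ (hF j hj) γ hγ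
    have h0 : γ₀ = 0 := hvan' j hj γ₀
    rw [hγ₀, h0]
    exact zero_comp
  have hsurj : ∀ j, n₀ ≤ j → ∀ γ : G'⟦(1 : ℤ)⟧ ⟶ K j,
      ∃ γ' : G'⟦(1 : ℤ)⟧ ⟶ K (j + 1), γ' ≫ t j = γ := fun j hj γ => by
    obtain ⟨ψ₀, hψ₀⟩ := (shiftFunctor C (1 : ℤ)).map_surjective (γ ≫ δ j)
    have h0 : ψ₀ = 0 := hvan' j hj ψ₀
    have h1 : γ ≫ δ j = 0 := by rw [← hψ₀, h0, Functor.map_zero]
    obtain ⟨γ', hγ'⟩ := Triangle.coyoneda_exact₃ _ (hF j hj) γ h1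
    exact ⟨γ', hγ'.symm⟩
  let β' : G' ⟶ R := (adj.homEquiv G R).symm β
  have hβ' : β' ≫ ι ≫ Pi.π K n = 0 := by
    apply (adj.homEquiv G (K n)).injective
    rw [Adjunction.homEquiv_naturality_right, hΦ0, Equiv.apply_symm_apply]
    exact hβ
  have h0 := milnor_inj K t R ι c hT G' n₀ hinj hsurj β' n hn hβ'
  have : β = adj.homEquiv G R β' := (Equiv.apply_symm_apply _ _).symm
  rw [this, h0, hΦ0]


/-- exactness of `Hom(A, -⟦m⟧)` at the middle term of a distinguished triangle -/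
lemma shift_exact₂ (T : Triangle C) (hT : T ∈ distTriang C) (m : ℤ) {A : C}
    (α : A ⟶ T.obj₂⟦m⟧) (h : α ≫ T.mor₂⟦m⟧' = 0) :
    ∃ γ : A ⟶ T.obj₁⟦m⟧, α = γ ≫ T.mor₁⟦m⟧' := by
  have hT' := Triangle.shift_distinguished T hT m
  obtain ⟨(γ₀ : A ⟶ T.obj₁⟦m⟧), hγ₀⟩ := Triangle.coyoneda_exact₂ _ hT' α (by
    change α ≫ ((m.negOnePow : ℤˣ) • T.mor₂⟦m⟧') = 0
    rw [Linear.comp_units_smul, h, smul_zero])
  refine ⟨(m.negOnePow : ℤˣ) • γ₀, ?_⟩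
  have h2 : α = γ₀ ≫ ((m.negOnePow : ℤˣ) • T.mor₁⟦m⟧') := hγ₀
  rw [h2, Linear.units_smul_comp, Linear.comp_units_smul]

/-- exactness of `Hom(A, -⟦m⟧)` at the third term of a distinguished triangle -/
lemma shift_exact₃ (T : Triangle C) (hT : T ∈ distTriang C) (m : ℤ) {A : C}
    (α : A ⟶ T.obj₃⟦m⟧) (h : α ≫ T.mor₃⟦m⟧' = 0) :
    ∃ γ : A ⟶ T.obj₂⟦m⟧, α = γ ≫ T.mor₂⟦m⟧' := by
  have hT' := Triangle.shift_distinguished T hT m
  obtain ⟨(γ₀ : A ⟶ T.obj₂⟦m⟧), hγ₀⟩ := Triangle.coyoneda_exact₃ _ hT' α (by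
    change α ≫ ((m.negOnePow : ℤˣ) • T.mor₃⟦m⟧' ≫ (shiftFunctorComm C 1 m).hom.app T.obj₁) = 0
    rw [Linear.comp_units_smul, ← Category.assoc, h, zero_comp, smul_zero])
  refine ⟨(m.negOnePow : ℤˣ) • γ₀, ?_⟩
  have h2 : α = γ₀ ≫ ((m.negOnePow : ℤˣ) • T.mor₂⟦m⟧') := hγ₀
  rw [h2, Linear.units_smul_comp, Linear.comp_units_smul]

end Groth.Agent.Lib.Helper26.LC3
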