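import Mathlib
import Groth.Prelude.Def_DCoh4
import Groth.Agent.Lib.Helper16.Stk7

set_option maxHeartbeats 400000
set_option linter.style.haveILetI false
set_option linter.unusedSectionVars false

universe u

open CategoryTheory CategoryTheory.Limits AlgebraicGeometry Opposite ZeroObject

namespace Groth.Agent.Lib.Helper26.AffAcycA

variable {Y : Scheme.{u}}

/-- a short complex of modules is exact if every section killed by the second map is
locally in the image of the first -/
lemma exact_of_locally (T : ShortComplex Y.Modules)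
    (h : ∀ (x : Y) (W : Y.Opens) (_ : x ∈ W) (s : Γ(T.X₂, W)), T.g.app W s = 0 →
      ∃ (V : Y.Opens) (hVW : V ≤ W) (_ : x ∈ V) (t : Γ(T.X₁, V)),
        T.f.app V t = T.X₂.presheaf.map (homOfLE hVW).op s) : T.Exact := by
  apply Groth.Agent.Lib.Helper16.Stk.exact_of_forall_stalk
  intro x
  rw [ShortComplex.moduleCat_exact_iff]
  intro y hy
  obtain ⟨W, hxW, s, rfl⟩ := T.X₂.presheaf.exists_germ_eq (x := x) y
  have h1 : T.X₃.presheaf.germ W x hxW (T.g.app W s) = 0 := by
    rw [← DerSch.stalkFunctor_map_germ]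
    exact hy
  have h2 : T.X₃.presheaf.germ W x hxW (T.g.app W s) = T.X₃.presheaf.germ W x hxW 0 := by
    rw [h1, map_zero]
  obtain ⟨W', hxW', i1, i2, h3⟩ := T.X₃.presheaf.germ_eq x hxW hxW _ _ h2
  have hs' : T.g.app W' (T.X₂.presheaf.map i1.op s) = 0 := by
    have hn := congr($(T.g.mapPresheaf.naturality i1.op) s)
    have hn' : T.g.app W' (T.X₂.presheaf.map i1.op s) =
        T.X₃.presheaf.map i1.op (T.g.app W s) := hn
    rw [hn']
    exact h3.trans (map_zero _)
  obtain ⟨V, hVW', hxV, t, ht⟩ := h x W' hxW' _ hs'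
  refine ⟨T.X₁.presheaf.germ V x hxV t, ?_⟩
  have := DerSch.stalkFunctor_map_germ x T.f V hxV t
  refine this.trans ?_
  rw [ht]
  rw [TopCat.Presheaf.germ_res_apply, TopCat.Presheaf.germ_res_apply]


/-- a complex of modules whose sections over every affine open form an acyclic complex is
acyclic -/
theorem acyclic_of_affine (M : CochainComplex Y.Modules ℤ)
    (h : ∀ U : Y.Opens, IsAffineOpen U →
      (((DCoh.gammaAb (U : Scheme.{u})).mapHomologicalComplex (ComplexShape.up ℤ)).obj
        ((DCoh.restrictCx U).obj M)).Acyclic) : M.Acyclic := by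
  intro n
  rw [HomologicalComplex.exactAt_iff' _ (n - 1) n (n + 1) (by simp) (by simp)]
  apply exact_of_locally
  intro x W hxW s hs
  obtain ⟨_, ⟨(U : Y.Opens), (hU : IsAffineOpen U), rfl⟩, (hxU : x ∈ U), (hUW : U ≤ W)⟩ :=
    Y.isBasis_affineOpens.exists_subset_of_mem_open hxW W.isOpen
  let U' : Y.Opens := U.ι ''ᵁ ⊤
  have hU' : U' = U := Scheme.Opens.ι_image_top U
  have hU'W : U' ≤ W := hU' ▸ hUW
  have hx' : x ∈ U' := hU' ▸ hxU
  have hex := h U hU n
  rw [HomologicalComplex.exactAt_iff' _ (n - 1) n (n + 1) (by simp) (by simp),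
    ShortComplex.ab_exact_iff] at hex
  have hn := congr($((M.d n (n + 1)).mapPresheaf.naturality (homOfLE hU'W).op) s)
  have hn' : (M.d n (n + 1)).app U' ((M.X n).presheaf.map (homOfLE hU'W).op s) =
      (M.X (n + 1)).presheaf.map (homOfLE hU'W).op ((M.d n (n + 1)).app W s) := hn
  obtain ⟨t, ht⟩ := hex ((M.X n).presheaf.map (homOfLE hU'W).op s) (by
    refine hn'.trans ?_
    have hs' : (M.d n (n + 1)).app W s = 0 := hs
    rw [hs', map_zero]
    rfl)
  exact ⟨U', hU'W, hx', t, ht⟩

end Groth.Agent.Lib.Helper26.AffAcycA
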