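import Mathlib
import Groth.Prelude.Def_DCoh4
import Groth.Agent.Lib.Helper16.Stk6
import Groth.Agent.S6242

set_option maxHeartbeats 400000
set_option linter.style.haveILetI false
set_option linter.unusedSectionVars false

universe u

open CategoryTheory CategoryTheory.Limits AlgebraicGeometry Opposite ZeroObject

namespace Groth.Agent.Lib.Helper26.RGPushB

variable {Y : Scheme.{u}}

/-- the compatible family of sections defined by a section over the whole space -/
noncomputable def gsec (N : Y.Modules) (m : N.val.obj (op ⊤)) : N.sections :=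
  PresheafOfModules.sectionsMk (fun U => N.val.map (homOfLE le_top : U.unop ⟶ ⊤).op m) (by
    intro U V f
    rw [← PresheafOfModules.map_comp_apply]
    rfl)

/-- the morphism `O_Y ⟶ N` defined by a global section -/
noncomputable def ofSec (N : Y.Modules) (m : N.val.obj (op ⊤)) : Coh.structureModule Y ⟶ N :=
  (SheafOfModules.unitHomEquiv N).symm (gsec N m)

lemma ofSec_top (N : Y.Modules) (m : N.val.obj (op ⊤)) :
    (ofSec N m).val.app (op ⊤) (1 : Y.ringCatSheaf.obj.obj (op ⊤)) = m := by
  have h := SheafOfModules.unitHomEquiv_apply_coe N (ofSec N m) (op ⊤)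
  have h2 : SheafOfModules.unitHomEquiv N (ofSec N m) = gsec N m := Equiv.apply_symm_apply _ _
  rw [h2] at h
  rw [← h]
  change N.val.map (𝟙 _) m = m
  simp

lemma ext_unit {N : Y.Modules} (f g : Coh.structureModule Y ⟶ N)
    (h : f.val.app (op ⊤) (1 : Y.ringCatSheaf.obj.obj (op ⊤)) =
      g.val.app (op ⊤) (1 : Y.ringCatSheaf.obj.obj (op ⊤))) : f = g := by
  apply (SheafOfModules.unitHomEquiv N).injective
  apply Subtype.ext
  funext V
  have hf := (SheafOfModules.unitHomEquiv N f).2 (homOfLE le_top : V.unop ⟶ ⊤).op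
  have hg := (SheafOfModules.unitHomEquiv N g).2 (homOfLE le_top : V.unop ⟶ ⊤).op
  rw [← hf, ← hg]
  congr 1


/-- the structure sheaf placed in degree `n` -/
noncomputable abbrev unitAt (Y : Scheme.{u}) (n : ℤ) : CochainComplex Y.Modules ℤ :=
  (HomologicalComplex.single _ (ComplexShape.up ℤ) n).obj (Coh.structureModule Y)

lemma isKFlat_unitAt (Y : Scheme.{u}) (n : ℤ) : DCoh.IsKFlat (unitAt Y n) := by
  refine Groth.Agent.Lib.Helper16.Stk.isKFlat_of_boundedAbove_flat _ n ?_ (fun i => ?_)
  · exact (CochainComplex.isStrictlyLE_iff _ _).2 (fun i hi =>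
      HomologicalComplex.isZero_single_obj_X _ _ _ _ (by omega))
  · by_cases hn : i = n
    · subst hn
      exact Groth.Agent.Lib.Helper16.Stk.isFlat_of_iso
        (HomologicalComplex.singleObjXSelf (ComplexShape.up ℤ) i (Coh.structureModule Y)).symm
        (Groth.Agent.S6242.isFlat_structureModule Y)
    · exact Groth.Agent.Lib.Helper16.KD.isFlat_of_isZero
        (HomologicalComplex.isZero_single_obj_X _ _ _ _ hn)

/-- if every map from a shifted structure sheaf to `M` is null-homotopic, then the complex of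
global sections of `M` is acyclic -/
theorem acyclic_gamma (M : CochainComplex Y.Modules ℤ)
    (h : ∀ (n : ℤ) (s : unitAt Y n ⟶ M), Nonempty (Homotopy s 0)) :
    (((DCoh.gammaAb Y).mapHomologicalComplex (ComplexShape.up ℤ)).obj M).Acyclic := by
  intro n
  rw [HomologicalComplex.exactAt_iff' _ (n - 1) n (n + 1) (by simp) (by simp)]
  rw [ShortComplex.ab_exact_iff]
  intro (m : (M.X n).val.obj (op ⊤)) hm
  have hm' : (M.d n (n + 1)).val.app (op ⊤) m = 0 := hm
  have hd : ofSec (M.X n) m ≫ M.d n (n + 1) = 0 := by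
    apply ext_unit
    change (M.d n (n + 1)).val.app (op ⊤) ((ofSec (M.X n) m).val.app (op ⊤)
      (1 : Y.ringCatSheaf.obj.obj (op ⊤))) = _
    rw [ofSec_top, hm']
    rfl
  let s : unitAt Y n ⟶ M := HomologicalComplex.mkHomFromSingle (ofSec (M.X n) m) (by
    intro k hk
    have : n + 1 = k := hk
    subst this
    exact hd)
  obtain ⟨H⟩ := h n s
  have hc := H.comm n
  have h1 : dNext n H.hom = 0 := by
    rw [dNext_eq H.hom (show (ComplexShape.up ℤ).Rel n (n + 1) by simp)]
    simp [unitAt]
  have h2 : prevD n H.hom = H.hom n (n - 1) ≫ M.d (n - 1) n :=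
    prevD_eq H.hom (show (ComplexShape.up ℤ).Rel (n - 1) n by simp)
  rw [h1, h2, zero_add, HomologicalComplex.zero_f, add_zero,
    HomologicalComplex.mkHomFromSingle_f] at hc
  let h' : Coh.structureModule Y ⟶ M.X (n - 1) :=
    (HomologicalComplex.singleObjXSelf (ComplexShape.up ℤ) n (Coh.structureModule Y)).inv ≫
      H.hom n (n - 1)
  have hh : ofSec (M.X n) m = h' ≫ M.d (n - 1) n := by
    simp only [h', Category.assoc, ← hc, Iso.inv_hom_id_assoc]
  refine ⟨(h'.val.app (op ⊤) (1 : Y.ringCatSheaf.obj.obj (op ⊤)) : (M.X (n - 1)).val.obj (op ⊤)), ?_⟩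
  have := ofSec_top (M.X n) m
  rw [hh] at this
  exact this

end Groth.Agent.Lib.Helper26.RGPushB
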