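import Mathlib
import Groth.Prelude.Def_DCoh4
import Groth.Prelude.Def_CxOX
import Groth.Agent.Lib.Helper26.RGPushB
import Groth.Agent.Lib.Helper26.MVMod4
import Groth.Agent.Lib.Helper26.AffAcycA

set_option maxHeartbeats 400000
set_option linter.style.haveILetI false
set_option linter.unusedSectionVars false
set_option linter.unusedVariables false

universe u

open CategoryTheory CategoryTheory.Limits AlgebraicGeometry Opposite ZeroObject

namespace Groth.Agent.Lib.Helper26.LC1

open Groth.Agent.Lib.Helper26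

variable {X : Scheme.{u}}

/-- `j_! O_U` -/
noncomputable abbrev G (U : X.Opens) : X.Modules := CxOX.extZeroUnit U.ι

/-- `Hom(O_Y, N) ≃ Γ(N, ⊤)` -/
noncomputable def secTop {Y : Scheme.{u}} (N : Y.Modules) :
    (Coh.structureModule Y ⟶ N) ≃ Γ(N, ⊤) where
  toFun f := f.val.app (op ⊤) (1 : Y.ringCatSheaf.obj.obj (op ⊤))
  invFun m := RGPushB.ofSec N m
  left_inv f := RGPushB.ext_unit _ _ (RGPushB.ofSec_top N _)
  right_inv m := RGPushB.ofSec_top N m

lemma secTop_comp {Y : Scheme.{u}} {N N' : Y.Modules} (f : Coh.structureModule Y ⟶ N) (p : N ⟶ N') :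
    secTop N' (f ≫ p) = p.app ⊤ (secTop N f) := rfl

lemma im_eq (U : X.Opens) : U.ι ''ᵁ ⊤ = U := Scheme.Opens.ι_image_top U

/-- restriction of sections along an inclusion of opens -/
noncomputable def res (M : X.Modules) {A B : X.Opens} (h : A ≤ B) (s : Γ(M, B)) : Γ(M, A) :=
  M.presheaf.map (homOfLE h).op s

lemma res_res (M : X.Modules) {A B C : X.Opens} (h : A ≤ B) (h' : B ≤ C) (s : Γ(M, C)) :
    res M h (res M h' s) = res M (h.trans h') s := by
  unfold res
  rw [← ConcreteCategory.comp_apply, ← Functor.map_comp]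
  rfl

lemma res_refl (M : X.Modules) {A : X.Opens} (s : Γ(M, A)) : res M (le_refl A) s = s := by
  unfold res
  have : (homOfLE (le_refl A)).op = 𝟙 (op A) := rfl
  rw [this, M.presheaf.map_id]
  rfl

lemma app_res {M N : X.Modules} (p : M ⟶ N) {A B : X.Opens} (h : A ≤ B) (s : Γ(M, B)) :
    p.app A (res M h s) = res N h (p.app B s) :=
  congr($(p.mapPresheaf.naturality (homOfLE h).op) s)

lemma res_zero (M : X.Modules) {A B : X.Opens} (h : A ≤ B) : res M h 0 = 0 := map_zero _

/-- sections over `U.ι ''ᵁ ⊤` versus sections over `U` -/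
noncomputable def toU (U : X.Opens) (M : X.Modules) :
    Γ((Scheme.Modules.restrictFunctor U.ι).obj M, ⊤) ≃ Γ(M, U) where
  toFun s := res M (im_eq U).ge ((M.restrictAppIso U.ι ⊤).hom s)
  invFun s := (M.restrictAppIso U.ι ⊤).inv (res M (im_eq U).le s)
  left_inv s := by
    change (M.restrictAppIso U.ι ⊤).inv (res M (im_eq U).le (res M (im_eq U).ge _)) = s
    rw [res_res, res_refl]
    rfl
  right_inv s := by
    change res M (im_eq U).ge (res M (im_eq U).le s) = s
    rw [res_res, res_refl]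

lemma toU_nat (U : X.Opens) {M N : X.Modules} (p : M ⟶ N)
    (s : Γ((Scheme.Modules.restrictFunctor U.ι).obj M, ⊤)) :
    toU U N (((Scheme.Modules.restrictFunctor U.ι).map p).app ⊤ s) = p.app U (toU U M s) := by
  change res N (im_eq U).ge (p.app (U.ι ''ᵁ ⊤) _) = p.app U (res M (im_eq U).ge _)
  rw [app_res]
  rfl

/-- `Hom(j_! O_U, M) ≃ Γ(M, U)` -/
noncomputable def sec (U : X.Opens) (M : X.Modules) : (G U ⟶ M) ≃ Γ(M, U) :=
  (((CxOX.extZeroAdj U.ι).homEquiv (Coh.structureModule U) M).trans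
    (secTop ((Scheme.Modules.restrictFunctor U.ι).obj M))).trans (toU U M)

lemma sec_comp (U : X.Opens) {M N : X.Modules} (g : G U ⟶ M) (p : M ⟶ N) :
    sec U N (g ≫ p) = p.app U (sec U M g) := by
  unfold sec
  simp only [Equiv.trans_apply]
  rw [Adjunction.homEquiv_naturality_right, secTop_comp, toU_nat]

lemma sec_zero (U : X.Opens) (M : X.Modules) : sec U M 0 = 0 := by
  have h := sec_comp U (𝟙 (G U)) (0 : G U ⟶ M)
  rw [Category.id_comp] at h
  rw [h]
  rfl

/-- the canonical map `j_{V!} O_V ⟶ j_{U!} O_U` for `V ≤ U` -/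
noncomputable def ρ {V U : X.Opens} (h : V ≤ U) : G V ⟶ G U :=
  (sec V (G U)).symm (res (G U) h (sec U (G U) (𝟙 _)))

lemma sec_ρ_comp {V U : X.Opens} (h : V ≤ U) {M : X.Modules} (f : G U ⟶ M) :
    sec V M (ρ h ≫ f) = res M h (sec U M f) := by
  rw [sec_comp, ρ, Equiv.apply_symm_apply, app_res, ← sec_comp, Category.id_comp]

lemma ρ_trans {W V U : X.Opens} (h : W ≤ V) (h' : V ≤ U) : ρ h ≫ ρ h' = ρ (h.trans h') := by
  apply (sec W (G U)).injective
  rw [sec_ρ_comp, ρ, ρ, Equiv.apply_symm_apply, Equiv.apply_symm_apply, res_res]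


/-! ### chain-level dictionary -/

/-- `j_! O_U` as a complex concentrated in degree `0` -/
noncomputable abbrev Gc (U : X.Opens) : CochainComplex X.Modules ℤ :=
  (HomologicalComplex.single _ (ComplexShape.up ℤ) 0).obj (G U)

/-- the canonical maps between the complexes `Gc` -/
noncomputable abbrev ρc {V U : X.Opens} (h : V ≤ U) : Gc V ⟶ Gc U :=
  (HomologicalComplex.single _ (ComplexShape.up ℤ) 0).map (ρ h)

/-- the identification of the degree `0` term of `Gc U` -/
noncomputable abbrev ι0 (U : X.Opens) : (Gc U).X 0 ≅ G U :=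
  HomologicalComplex.singleObjXSelf (ComplexShape.up ℤ) 0 (G U)

variable (J : CochainComplex X.Modules ℤ)

/-- the cocycle associated with a chain map `Gc U ⟶ J` -/
noncomputable def cocycle (U : X.Opens) (a : Gc U ⟶ J) : Γ(J.X 0, U) :=
  sec U (J.X 0) ((ι0 U).inv ≫ a.f 0)

lemma d_cocycle (U : X.Opens) (a : Gc U ⟶ J) : (J.d 0 1).app U (cocycle J U a) = 0 := by
  rw [cocycle, ← sec_comp, Category.assoc, a.comm]
  have : (Gc U).d 0 1 = 0 := HomologicalComplex.single_obj_d _ _ _ _ _
  rw [this, zero_comp, comp_zero, sec_zero]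

/-- the chain map associated with a cocycle -/
noncomputable def ofCocycle (U : X.Opens) (s : Γ(J.X 0, U)) (hs : (J.d 0 1).app U s = 0) :
    Gc U ⟶ J :=
  HomologicalComplex.mkHomFromSingle ((sec U (J.X 0)).symm s) (by
    intro k hk
    have : 0 + 1 = k := hk
    subst this
    apply (sec U _).injective
    rw [sec_comp, Equiv.apply_symm_apply, sec_zero]
    exact hs)

lemma cocycle_ofCocycle (U : X.Opens) (s : Γ(J.X 0, U)) (hs : (J.d 0 1).app U s = 0) :
    cocycle J U (ofCocycle J U s hs) = s := by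
  rw [cocycle, ofCocycle, HomologicalComplex.mkHomFromSingle_f, Iso.inv_hom_id_assoc,
    Equiv.apply_symm_apply]

lemma cocycle_ρc_comp {V U : X.Opens} (h : V ≤ U) (a : Gc U ⟶ J) :
    cocycle J V (ρc h ≫ a) = res (J.X 0) h (cocycle J U a) := by
  rw [cocycle, cocycle, ← sec_ρ_comp]
  congr 1

/-- a chain map whose cocycle is a coboundary is null-homotopic -/
noncomputable def homotopyOfEq (U : X.Opens) (a : Gc U ⟶ J) (t : Γ(J.X (-1), U))
    (ht : (J.d (-1) 0).app U t = cocycle J U a) : Homotopy a 0 where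
  hom i j := if h : i = 0 ∧ j = -1 then
      eqToHom (by rw [h.1]) ≫ (ι0 U).hom ≫ (sec U (J.X (-1))).symm t ≫ eqToHom (by rw [h.2])
    else 0
  zero i j hij := by
    rw [dif_neg]
    rintro ⟨rfl, rfl⟩
    exact hij (by simp)
  comm i := by
    by_cases hi : i = 0
    · subst hi
      rw [dNext_eq _ (show (ComplexShape.up ℤ).Rel 0 1 by simp),
        prevD_eq _ (show (ComplexShape.up ℤ).Rel (-1) 0 by simp)]
      have h1 : (Gc U).d 0 1 = 0 := HomologicalComplex.single_obj_d _ _ _ _ _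
      rw [h1, zero_comp, zero_add, HomologicalComplex.zero_f, add_zero, dif_pos ⟨rfl, rfl⟩]
      simp only [eqToHom_refl, Category.id_comp, Category.comp_id, Category.assoc]
      rw [← cancel_epi (ι0 U).inv, Iso.inv_hom_id_assoc]
      apply (sec U _).injective
      rw [sec_comp (g := (sec U (J.X (-1))).symm t), Equiv.apply_symm_apply, ht]
      rfl
    · exact (HomologicalComplex.isZero_single_obj_X _ _ _ _ hi).eq_of_src _ _

/-- a null-homotopic chain map has a coboundary as its cocycle -/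
lemma exists_of_homotopy (U : X.Opens) (a : Gc U ⟶ J) (H : Homotopy a 0) :
    ∃ t : Γ(J.X (-1), U), (J.d (-1) 0).app U t = cocycle J U a := by
  have hc := H.comm 0
  rw [dNext_eq _ (show (ComplexShape.up ℤ).Rel 0 1 by simp),
    prevD_eq _ (show (ComplexShape.up ℤ).Rel (-1) 0 by simp)] at hc
  have h1 : (Gc U).d 0 1 = 0 := HomologicalComplex.single_obj_d _ _ _ _ _
  rw [h1, zero_comp, zero_add, HomologicalComplex.zero_f, add_zero] at hc
  refine ⟨sec U (J.X (-1)) ((ι0 U).inv ≫ H.hom 0 (-1)), ?_⟩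
  rw [← sec_comp, cocycle, hc, Category.assoc]


/-! ### local lifting for exact sequences -/

omit J in
lemma exists_local_lift (T : ShortComplex X.Modules) (hT : T.Exact) (x : X) (W : X.Opens)
    (hx : x ∈ W) (s : Γ(T.X₂, W)) (hs : T.g.app W s = 0) :
    ∃ (V : X.Opens) (hVW : V ≤ W) (_ : x ∈ V) (t : Γ(T.X₁, V)),
      T.f.app V t = res T.X₂ hVW s := by
  have hx' : (T.map (DerSch.stalkFunctor X x)).Exact := hT.map _
  rw [ShortComplex.moduleCat_exact_iff] at hx'
  obtain ⟨y, hy⟩ := hx' (T.X₂.presheaf.germ W x hx s) (by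
    change (DerSch.stalkFunctor X x).map T.g _ = 0
    rw [DerSch.stalkFunctor_map_germ, hs, map_zero]
    rfl)
  obtain ⟨V', hxV', t', rfl⟩ := T.X₁.presheaf.exists_germ_eq (x := x) y
  have h2 : T.X₂.presheaf.germ V' x hxV' (T.f.app V' t') = T.X₂.presheaf.germ W x hx s := by
    rw [← DerSch.stalkFunctor_map_germ]
    exact hy
  obtain ⟨V, hxV, i1, i2, h3⟩ := T.X₂.presheaf.germ_eq x hxV' hx _ _ h2
  refine ⟨V, leOfHom i2, hxV, res T.X₁ (leOfHom i1) t', ?_⟩
  rw [app_res]
  exact h3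


/-! ### derived level -/

attribute [local instance] HasDerivedCategory.standard

/-- `j_! O_U` in the derived category -/
noncomputable abbrev GD (U : X.Opens) : DCoh.D X := DerivedCategory.Q.obj (Gc U)

/-- the canonical maps between the `GD` -/
noncomputable abbrev ρD {V U : X.Opens} (h : V ≤ U) : GD V ⟶ GD U := DerivedCategory.Q.map (ρc h)

omit J in
lemma ρD_trans {W V U : X.Opens} (h : W ≤ V) (h' : V ≤ U) : ρD h ≫ ρD h' = ρD (h.trans h') := by
  rw [ρD, ρD, ← Functor.map_comp, ρc, ρc, ← Functor.map_comp, ρ_trans]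

omit J in
lemma Q_map_eq_zero_of_homotopy {K L : CochainComplex X.Modules ℤ} (f : K ⟶ L)
    (H : Homotopy f 0) : DerivedCategory.Q.map f = 0 := by
  have h := HomotopyCategory.eq_of_homotopy _ _ H
  have h2 : DerivedCategory.Q.map f =
      DerivedCategory.Qh.map ((HomotopyCategory.quotient _ _).map f) := rfl
  rw [h2, h, Functor.map_zero, Functor.map_zero]
  rfl

lemma exists_chain [J.IsKInjective] (U : X.Opens) (α : GD U ⟶ DerivedCategory.Q.obj J) :
    ∃ a : Gc U ⟶ J, DerivedCategory.Q.map a = α := by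
  obtain ⟨g', hg'⟩ := (CochainComplex.IsKInjective.Qh_map_bijective
    ((HomotopyCategory.quotient _ _).obj (Gc U)) J).surjective α
  obtain ⟨g, rfl⟩ := (HomotopyCategory.quotient _ _).map_surjective g'
  exact ⟨g, hg'⟩

lemma homotopy_of_Q_map_eq_zero [J.IsKInjective] (U : X.Opens) (a : Gc U ⟶ J)
    (h : DerivedCategory.Q.map a = 0) : Nonempty (Homotopy a 0) := by
  have h1 : DerivedCategory.Qh.map ((HomotopyCategory.quotient _ _).map a) =
      DerivedCategory.Qh.map ((HomotopyCategory.quotient _ _).map (0 : Gc U ⟶ J)) := by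
    rw [Functor.map_zero, Functor.map_zero]
    exact h
  have h2 := (CochainComplex.IsKInjective.Qh_map_bijective
    ((HomotopyCategory.quotient _ _).obj (Gc U)) J).injective h1
  exact ⟨HomotopyCategory.homotopyOfEq _ _ h2⟩

/-- **local vanishing**: a class `j_!O_U ⟶ Q(J)` with `J` K-injective and exact in degree `0`
vanishes locally. -/
theorem locally_zero [J.IsKInjective] (hJ : J.ExactAt 0) (U : X.Opens)
    (α : GD U ⟶ DerivedCategory.Q.obj J) (x : X) (hx : x ∈ U) :
    ∃ (V : X.Opens) (hVU : V ≤ U), x ∈ V ∧ IsAffineOpen V ∧ ρD hVU ≫ α = 0 := by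
  obtain ⟨a, rfl⟩ := exists_chain J U α
  rw [HomologicalComplex.exactAt_iff' _ (-1) 0 1 (by simp) (by simp)] at hJ
  obtain ⟨V', hV'U, hxV', t0, ht0⟩ :=
    exists_local_lift _ hJ x U hx (cocycle J U a) (d_cocycle J U a)
  let t : Γ(J.X (-1), V') := t0
  have ht : (J.d (-1) 0).app V' t = res (J.X 0) hV'U (cocycle J U a) := ht0
  obtain ⟨_, ⟨(V : X.Opens), (hV : IsAffineOpen V), rfl⟩, (hxV : x ∈ V), (hVV' : V ≤ V')⟩ :=
    X.isBasis_affineOpens.exists_subset_of_mem_open hxV' V'.isOpen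
  refine ⟨V, hVV'.trans hV'U, hxV, hV, ?_⟩
  rw [ρD, ← Functor.map_comp]
  have H : Homotopy (ρc (hVV'.trans hV'U) ≫ a) 0 :=
    homotopyOfEq J V _ (res (J.X (-1)) hVV' t) (by
      rw [cocycle_ρc_comp, ← res_res (J.X 0) hVV' hV'U, app_res]
      exact congrArg _ ht)
  exact Q_map_eq_zero_of_homotopy _ H

/-- **detection**: if every class `j_!O_U ⟶ Q(J)` (`U` affine) vanishes locally, then the
K-injective complex `J` is exact in degree `0`. -/
theorem exactAt_zero_of_locally_zero [J.IsKInjective]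
    (h : ∀ (U : X.Opens), IsAffineOpen U → ∀ (α : GD U ⟶ DerivedCategory.Q.obj J) (x : X), x ∈ U →
      ∃ (V : X.Opens) (hVU : V ≤ U), x ∈ V ∧ ρD hVU ≫ α = 0) : J.ExactAt 0 := by
  rw [HomologicalComplex.exactAt_iff' _ (-1) 0 1 (by simp) (by simp)]
  apply AffAcycA.exact_of_locally
  intro x W hxW s hs
  obtain ⟨_, ⟨(U : X.Opens), (hU : IsAffineOpen U), rfl⟩, (hxU : x ∈ U), (hUW : U ≤ W)⟩ :=
    X.isBasis_affineOpens.exists_subset_of_mem_open hxW W.isOpen
  have hs' : (J.d 0 1).app U (res (J.X 0) hUW s) = 0 := by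
    rw [app_res]
    have : (J.d 0 1).app W s = 0 := hs
    rw [this, res_zero]
  obtain ⟨V, hVU, hxV, hz⟩ := h U hU (DerivedCategory.Q.map (ofCocycle J U _ hs')) x hxU
  rw [ρD, ← Functor.map_comp] at hz
  obtain ⟨H⟩ := homotopy_of_Q_map_eq_zero J V _ hz
  obtain ⟨t, ht⟩ := exists_of_homotopy J V _ H
  refine ⟨V, hVU.trans hUW, hxV, t, ?_⟩
  rw [cocycle_ρc_comp, cocycle_ofCocycle, res_res] at ht
  exact ht

end Groth.Agent.Lib.Helper26.LC1
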