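import Mathlib
import Groth.Agent.Lib.Helper26.LC1
import Groth.Agent.Lib.Helper26.SuppD2

set_option maxHeartbeats 400000
set_option linter.style.haveILetI false
set_option linter.unusedSectionVars false
set_option linter.unusedVariables false

universe u

open CategoryTheory CategoryTheory.Limits AlgebraicGeometry Opposite ZeroObject Pretriangulated

namespace Groth.Agent.Lib.Helper26.LC2

open Groth.Agent.Lib.Helper26 Groth.Agent.Lib.Helper26.LC1

attribute [local instance] HasDerivedCategory.standard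

variable {X : Scheme.{u}}

/-- a class on `U` vanishes locally (on affine opens) -/
def LocZero {U : X.Opens} {T : DCoh.D X} (α : GD U ⟶ T) : Prop :=
  ∀ x : X, x ∈ U → ∃ (V : X.Opens) (hVU : V ≤ U), x ∈ V ∧ IsAffineOpen V ∧ ρD hVU ≫ α = 0

/-- **local vanishing** of classes with values in `D^{≤ -1}` -/
theorem locZero_of_isLE (T : DCoh.D X) [T.IsLE (-1)] {U : X.Opens} (α : GD U ⟶ T) :
    LocZero α := by
  intro x hx
  obtain ⟨J, hJ, -, ⟨e⟩⟩ := MVMod4.exists_kinj T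
  haveI : (DerivedCategory.Q.obj J).IsLE (-1) := DerivedCategory.TStructure.t.isLE_of_iso e.symm (-1)
  haveI : J.IsLE (-1) := (DerivedCategory.isLE_Q_obj_iff J (-1)).1 inferInstance
  have hJ0 : J.ExactAt 0 := J.exactAt_of_isLE (-1) 0
  obtain ⟨V, hVU, hxV, hV, hz⟩ := locally_zero J hJ0 U (α ≫ e.inv) x hx
  refine ⟨V, hVU, hxV, hV, ?_⟩
  have : ρD hVU ≫ α = (ρD hVU ≫ α ≫ e.inv) ≫ e.hom := by simp
  rw [this, hz, zero_comp]

/-- **detection**: an object all of whose local classes vanish locally is zero -/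
theorem isZero_of_locZero (C : DCoh.D X)
    (h : ∀ (m : ℤ) (U : X.Opens), IsAffineOpen U → ∀ α : GD U ⟶ C⟦m⟧, LocZero α) : IsZero C := by
  apply SuppD2.isZero_of_homology
  intro m
  obtain ⟨J, hJ, -, ⟨e⟩⟩ := MVMod4.exists_kinj (C⟦m⟧)
  have hJ0 : J.ExactAt 0 := by
    apply exactAt_zero_of_locally_zero
    intro U hU α x hx
    obtain ⟨V, hVU, hxV, hV, hz⟩ := h m U hU (α ≫ e.hom) x hx
    refine ⟨V, hVU, hxV, ?_⟩
    have : ρD hVU ≫ α = (ρD hVU ≫ α ≫ e.hom) ≫ e.inv := by simp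
    rw [this, hz, zero_comp]
  have h0 : IsZero ((DerivedCategory.homologyFunctor X.Modules 0).obj (C⟦m⟧)) :=
    (hJ0.isZero_homology).of_iso
      ((DerivedCategory.homologyFunctor X.Modules 0).mapIso e.symm ≪≫
        (DerivedCategory.homologyFunctorFactors X.Modules 0).app J)
  exact h0.of_iso
    (((DerivedCategory.homologyFunctor X.Modules 0).shiftIso m 0 m (add_zero m)).app C).symm


/-- local injectivity on classes -/
def LInj {E F : DCoh.D X} (φ : E ⟶ F) : Prop :=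
  ∀ (U : X.Opens), IsAffineOpen U → ∀ α : GD U ⟶ E, α ≫ φ = 0 → LocZero α

/-- local surjectivity on classes -/
def LSurj {E F : DCoh.D X} (φ : E ⟶ F) : Prop :=
  ∀ (U : X.Opens), IsAffineOpen U → ∀ (β : GD U ⟶ F) (x : X), x ∈ U →
    ∃ (V : X.Opens) (hVU : V ≤ U) (α : GD V ⟶ E), x ∈ V ∧ IsAffineOpen V ∧ α ≫ φ = ρD hVU ≫ β

lemma LInj.of_iso {E F E' F' : DCoh.D X} {φ : E ⟶ F} {φ' : E' ⟶ F'} (h : LInj φ)
    (e₁ : E' ≅ E) (e₂ : F' ≅ F) (comm : φ' ≫ e₂.hom = e₁.hom ≫ φ) : LInj φ' := by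
  intro U hU α hα x hx
  obtain ⟨V, hVU, hxV, hV, hz⟩ := h U hU (α ≫ e₁.hom) (by
    rw [Category.assoc, ← comm, ← Category.assoc, hα, zero_comp]) x hx
  refine ⟨V, hVU, hxV, hV, ?_⟩
  have : ρD hVU ≫ α = (ρD hVU ≫ α ≫ e₁.hom) ≫ e₁.inv := by simp
  rw [this, hz, zero_comp]

lemma LSurj.of_iso {E F E' F' : DCoh.D X} {φ : E ⟶ F} {φ' : E' ⟶ F'} (h : LSurj φ)
    (e₁ : E' ≅ E) (e₂ : F' ≅ F) (comm : φ' ≫ e₂.hom = e₁.hom ≫ φ) : LSurj φ' := by
  intro U hU β x hx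
  obtain ⟨V, hVU, α, hxV, hV, hα⟩ := h U hU (β ≫ e₂.hom) x hx
  refine ⟨V, hVU, α ≫ e₁.inv, hxV, hV, ?_⟩
  have h1 : φ' = e₁.hom ≫ φ ≫ e₂.inv := by
    rw [← Category.assoc, ← comm, Category.assoc, Iso.hom_inv_id, Category.comp_id]
  rw [h1, Category.assoc, Iso.inv_hom_id_assoc, ← Category.assoc, hα]
  simp

lemma LInj.units_smul {E F : DCoh.D X} {φ : E ⟶ F} (h : LInj φ) (ε : ℤˣ) : LInj (ε • φ) := by
  intro U hU α hα
  apply h U hU α
  rw [Linear.comp_units_smul] at hα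
  have := congrArg (fun t => ε⁻¹ • t) hα
  simp only [smul_smul, inv_mul_cancel, one_smul, smul_zero] at this
  exact this

lemma LSurj.units_smul {E F : DCoh.D X} {φ : E ⟶ F} (h : LSurj φ) (ε : ℤˣ) : LSurj (ε • φ) := by
  intro U hU β x hx
  obtain ⟨V, hVU, α, hxV, hV, hα⟩ := h U hU β x hx
  refine ⟨V, hVU, ε⁻¹ • α, hxV, hV, ?_⟩
  rw [Linear.comp_units_smul, Linear.units_smul_comp, smul_smul, mul_inv_cancel,
    one_smul, hα]

/-- the cone chase -/
theorem locZero_cone (T : Triangle (DCoh.D X)) (hT : T ∈ distTriang (DCoh.D X))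
    (h1 : LInj T.mor₁) (h2 : LSurj T.mor₁) (h3 : LInj (T.mor₁⟦(1 : ℤ)⟧'))
    (U : X.Opens) (hU : IsAffineOpen U) (α : GD U ⟶ T.obj₃) : LocZero α := by
  intro x hx
  obtain ⟨V, hVU, hxV, hV, hz⟩ := h3 U hU (α ≫ T.mor₃) (by
    rw [Category.assoc, comp_distTriang_mor_zero₃₁ T hT, comp_zero]) x hx
  rw [← Category.assoc] at hz
  obtain ⟨β, hβ⟩ := Triangle.coyoneda_exact₃ T hT (ρD hVU ≫ α) hz
  obtain ⟨W, hWV, α', hxW, hW, hα'⟩ := h2 V hV β x hxV
  refine ⟨W, hWV.trans hVU, hxW, hW, ?_⟩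
  rw [← ρD_trans hWV hVU, Category.assoc, hβ, ← Category.assoc, ← hα', Category.assoc,
    comp_distTriang_mor_zero₁₂ T hT, comp_zero]

/-- a morphism which is locally bijective on classes in all degrees is an isomorphism -/
theorem isIso_of_LI {E F : DCoh.D X} (φ : E ⟶ F)
    (h : ∀ m : ℤ, LInj (φ⟦m⟧') ∧ LSurj (φ⟦m⟧')) : IsIso φ := by
  obtain ⟨C, ψ, δ, hT⟩ := distinguished_cocone_triangle φ
  have hiff := Triangle.isZero₃_iff_isIso₁ _ hT
  refine hiff.1 ?_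
  change IsZero C
  apply isZero_of_locZero
  intro m U hU α
  have hT' := Triangle.shift_distinguished _ hT m
  refine locZero_cone _ hT' ?_ ?_ ?_ U hU α
  · exact (h m).1.units_smul _
  · exact (h m).2.units_smul _
  · have h4 : LInj ((φ⟦m⟧')⟦(1 : ℤ)⟧') :=
      (h (m + 1)).1.of_iso ((shiftFunctorAdd' (DCoh.D X) m 1 (m + 1) rfl).app E).symm
        ((shiftFunctorAdd' (DCoh.D X) m 1 (m + 1) rfl).app F).symm
        ((shiftFunctorAdd' (DCoh.D X) m 1 (m + 1) rfl).inv.naturality φ)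
    have h5 : ((CategoryTheory.shiftFunctor (Triangle (DCoh.D X)) m).obj
        (Triangle.mk φ ψ δ)).mor₁⟦(1 : ℤ)⟧' = (m.negOnePow : ℤˣ) • ((φ⟦m⟧')⟦(1 : ℤ)⟧') := by
      change (CategoryTheory.shiftFunctor _ (1 : ℤ)).map ((m.negOnePow : ℤˣ) • (φ⟦m⟧')) = _
      rw [Functor.map_units_smul]
    rw [h5]
    exact h4.units_smul _

end Groth.Agent.Lib.Helper26.LC2
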