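import Mathlib
import Groth.Agent.Lib.Helper26.LC2
import Groth.Agent.Lib.Helper6.ModAbCoh
import Groth.Agent.Lib.Helper17.AffineVanish
import Groth.Agent.Lib.Helper6.DerivedCatAdj
import Groth.Agent.Lib.Helper16.DerTrunc2

set_option maxHeartbeats 400000
set_option linter.style.haveILetI false
set_option linter.unusedSectionVars false
set_option linter.unusedVariables false

universe u

open CategoryTheory CategoryTheory.Limits AlgebraicGeometry Opposite ZeroObject Pretriangulated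

namespace Groth.Agent.Lib.Helper26.LC4

open Groth.Agent.Lib.Helper26 Groth.Agent.Lib.Helper26.LC1 Groth.Agent.Lib.Helper26.LC2

attribute [local instance] HasDerivedCategory.standard

theorem ext_sub (Y : Scheme.{u}) [IsAffine Y] (N : Y.Modules) [N.IsQuasicoherent] (q : ℕ)
    [hE : HasExt.{u} (SheafOfModules.{u} Y.ringCatSheaf)] :
    Subsingleton (Abelian.Ext.{u} (SheafOfModules.unit Y.ringCatSheaf) (N : SheafOfModules.{u} Y.ringCatSheaf) (q + 1)) := by
  obtain ⟨e⟩ := Groth.Agent.Lib.Helper6.ModAbCoh.nonempty_ext_addEquiv Y.ringCatSheaf N (q + 1)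
  have h1 := Groth.Agent.Lib.Helper17.AffineVanish.subsingleton_H_of_isAffine N q
  have h2 : Subsingleton (((SheafOfModules.toSheaf Y.ringCatSheaf).obj N).H (q+1)) := h1
  exact @Equiv.subsingleton _ _ e.toEquiv h2

theorem ext_unit_eq_zero (Y : Scheme.{u}) [IsAffine Y] (N : Y.Modules) [N.IsQuasicoherent] (q : ℕ)
    (γ : DCoh.inD Y (Coh.structureModule Y) ⟶ (DCoh.inD Y N)⟦((q + 1 : ℕ) : ℤ)⟧) : γ = 0 := by
  have : EnoughInjectives Y.Modules :=
    Groth.Agent.Lib.Helper8.SheafModGroth.enoughInjectives _ Y.ringCatSheaf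
  have hE : HasExt.{u} Y.Modules := hasExt_of_enoughInjectives.{u} _
  have h1 : Subsingleton (Abelian.Ext.{u} (Coh.structureModule Y) N (q + 1)) :=
    @ext_sub Y _ N _ q hE
  have h2 : Subsingleton (ShiftedHom ((DerivedCategory.singleFunctor Y.Modules 0).obj
      (Coh.structureModule Y)) ((DerivedCategory.singleFunctor Y.Modules 0).obj N)
      ((q + 1 : ℕ) : ℤ)) :=
    @Equiv.subsingleton _ _ (Abelian.Ext.homEquiv :
      Abelian.Ext.{u} (Coh.structureModule Y) N (q + 1) ≃ _).symm h1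
  exact @Subsingleton.elim (ShiftedHom ((DerivedCategory.singleFunctor Y.Modules 0).obj
      (Coh.structureModule Y)) ((DerivedCategory.singleFunctor Y.Modules 0).obj N)
      ((q + 1 : ℕ) : ℤ)) h2 γ 0

variable {X : Scheme.{u}}

/-- exact functors are t-exact on derived categories (≤) -/
lemma isLE_map {A B : Type (u + 1)} [Category.{u} A] [Category.{u} B] [Abelian A] [Abelian B]
    (G : A ⥤ B) [G.Additive] [PreservesFiniteLimits G] [PreservesFiniteColimits G]
    (E : DerivedCategory A) (n : ℤ) [E.IsLE n] : (G.mapDerivedCategory.obj E).IsLE n := by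
  rw [DerivedCategory.isLE_iff]
  intro i hi
  exact (G.map_isZero (DerivedCategory.isZero_of_isLE E n i hi)).of_iso (SuppD2.homologyIso G E i)

/-- exact functors are t-exact on derived categories (≥) -/
lemma isGE_map {A B : Type (u + 1)} [Category.{u} A] [Category.{u} B] [Abelian A] [Abelian B]
    (G : A ⥤ B) [G.Additive] [PreservesFiniteLimits G] [PreservesFiniteColimits G]
    (E : DerivedCategory A) (n : ℤ) [E.IsGE n] : (G.mapDerivedCategory.obj E).IsGE n := by
  rw [DerivedCategory.isGE_iff]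
  intro i hi
  exact (G.map_isZero (DerivedCategory.isZero_of_isGE E n i hi)).of_iso (SuppD2.homologyIso G E i)

/-- objects concentrated in one degree with quasi-coherent cohomology on an affine scheme
receive no nonzero maps from `O[-p]` for `p` above that degree -/
theorem hom_unit_eq_zero (Y : Scheme.{u}) [IsAffine Y] (T : DCoh.D Y) (a : ℤ) [T.IsGE a] [T.IsLE a]
    (hq : Coh.IsQCoh (DCoh.HD T a)) (p : ℤ) (hp : a < p)
    (γ : DCoh.inD Y (Coh.structureModule Y) ⟶ T⟦p⟧) : γ = 0 := by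
  obtain ⟨e⟩ := Groth.Agent.Lib.Helper16.DerT.nonempty_iso_single_homology T a
  haveI : (DCoh.HD T a).IsQuasicoherent := hq
  obtain ⟨q, hq'⟩ : ∃ q : ℕ, p - a = ((q + 1 : ℕ) : ℤ) := ⟨(p - a - 1).toNat, by
    push_cast
    omega⟩
  let N := DCoh.HD T a
  let e1 : T⟦p⟧ ≅ (DerivedCategory.singleFunctor Y.Modules (a - p)).obj N :=
    (shiftFunctor _ p).mapIso e ≪≫
      ((DerivedCategory.singleFunctors Y.Modules).shiftIso p (a - p) a (by ring)).app N
  let e2 : (DCoh.inD Y N)⟦((q + 1 : ℕ) : ℤ)⟧ ≅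
      (DerivedCategory.singleFunctor Y.Modules (a - p)).obj N :=
    ((DerivedCategory.singleFunctors Y.Modules).shiftIso ((q + 1 : ℕ) : ℤ) (a - p) 0
      (by rw [← hq']; ring)).app N
  have h0 := ext_unit_eq_zero Y N q (γ ≫ e1.hom ≫ e2.inv)
  have : γ = (γ ≫ e1.hom ≫ e2.inv) ≫ e2.hom ≫ e1.inv := by simp
  rw [this, h0, zero_comp]

/-- the derived adjunction `j_! ⊣ j^*` -/
noncomputable def adjD (V : X.Opens) : CxOX.extZeroD V.ι ⊣ DCoh.restrictD V.ι :=
  Groth.Agent.Lib.Helper6.DerivedCatAdj.mapDerivedCategoryAdj (CxOX.extZeroAdj V.ι)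

/-- `GD V ≅ j_!(O_V[0])` -/
noncomputable def gdIso (V : X.Opens) :
    GD V ≅ (CxOX.extZeroD V.ι).obj (DCoh.inD V (Coh.structureModule V)) :=
  ((DerivedCategory.singleFunctorIsoCompQ X.Modules 0).app _).symm ≪≫
    ((CxOX.extZero V.ι).mapDerivedCategorySingleFunctor 0).symm.app (Coh.structureModule V)

/-- **affine vanishing** -/
theorem affine_vanishing (V : X.Opens) (hV : IsAffineOpen V) (T : DCoh.D X) (a : ℤ)
    [T.IsGE a] [T.IsLE a] (hq : Coh.IsQCoh (DCoh.HD T a)) (p : ℤ) (hp : a < p)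
    (γ : GD V ⟶ T⟦p⟧) : γ = 0 := by
  haveI : IsAffine (V : Scheme.{u}) := hV
  let T' := (DCoh.restrictD V.ι).obj T
  haveI : T'.IsGE a := isGE_map _ T a
  haveI : T'.IsLE a := isLE_map _ T a
  have hq' : Coh.IsQCoh (DCoh.HD T' a) := by
    haveI : (DCoh.HD T a).IsQuasicoherent := hq
    exact (SheafOfModules.isQuasicoherent.{u} (V : Scheme.{u}).ringCatSheaf).prop_of_iso
      (SuppD2.homologyIso (Scheme.Modules.restrictFunctor V.ι) T a).symm
      (inferInstance : ((DCoh.HD T a).restrict V.ι).IsQuasicoherent)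
  let ec : (DCoh.restrictD V.ι).obj (T⟦p⟧) ≅ T'⟦p⟧ :=
    ((DCoh.restrictD V.ι).commShiftIso p).app T
  have key : ∀ δ : DCoh.inD V (Coh.structureModule V) ⟶ (DCoh.restrictD V.ι).obj (T⟦p⟧),
      δ = 0 := by
    intro δ
    have h0 := hom_unit_eq_zero (V : Scheme.{u}) T' a hq' p hp (δ ≫ ec.hom)
    have : δ = (δ ≫ ec.hom) ≫ ec.inv := by simp
    rw [this, h0, zero_comp]
  have h1 : (gdIso V).inv ≫ γ = 0 := by
    apply ((adjD V).homEquiv _ _).injective
    rw [key ((adjD V).homEquiv _ _ ((gdIso V).inv ≫ γ)), key ((adjD V).homEquiv _ _ 0)]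
  have : γ = (gdIso V).hom ≫ (gdIso V).inv ≫ γ := by simp
  rw [this, h1, comp_zero]

end Groth.Agent.Lib.Helper26.LC4
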