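import Mathlib
import Groth.Agent.Lib.Helper26.LC3
import Groth.Agent.Lib.Helper26.LC4

set_option maxHeartbeats 400000
set_option linter.style.haveILetI false
set_option linter.unusedSectionVars false
set_option linter.unusedVariables false

universe u

open CategoryTheory CategoryTheory.Limits AlgebraicGeometry Opposite ZeroObject Pretriangulated

namespace Groth.Agent.Lib.Helper26.LC5

open Groth.Agent.Lib.Helper26 Groth.Agent.Lib.Helper26.LC1 Groth.Agent.Lib.Helper26.LC2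
  Groth.Agent.Lib.Helper26.LC3 Groth.Agent.Lib.Helper26.LC4

attribute [local instance] HasDerivedCategory.standard

section Fiber

variable {A : Type (u + 1)} [Category.{u} A] [Abelian A]

variable (A) in
/-- the canonical t-structure -/
noncomputable abbrev tS : Triangulated.TStructure (DerivedCategory A) :=
  DerivedCategory.TStructure.t

variable (E : DerivedCategory A) (a b : ℤ) (hab : a ≤ b)

/-- the fibre of `τ_{≥a} E ⟶ τ_{≥b} E` -/
noncomputable abbrev Fib : DerivedCategory A := ((tS A).truncLT b).obj (((tS A).truncGE a).obj E)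

/-- the comparison `τ_{≥b} E ≅ τ_{≥b} τ_{≥a} E` -/
noncomputable def cmpIso : ((tS A).truncGE b).obj E ≅ ((tS A).truncGE b).obj (((tS A).truncGE a).obj E) :=
  haveI := (tS A).isIso_truncGE_map_truncGEπ_app b a hab E
  asIso (((tS A).truncGE b).map (((tS A).truncGEπ a).app E))

lemma π_cmp : ((tS A).truncGEπ b).app (((tS A).truncGE a).obj E) =
    ((tS A).natTransTruncGEOfLE a b hab).app E ≫ (cmpIso E a b hab).hom := by
  haveI : (tS A).IsGE (((tS A).truncGE b).obj (((tS A).truncGE a).obj E)) a :=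
    (tS A).isGE_of_ge _ a b hab
  apply (tS A).from_truncGE_obj_ext
  rw [cmpIso, asIso_hom, ← Category.assoc, Triangulated.TStructure.π_natTransTruncGEOfLE_app,
    Triangulated.TStructure.truncGEπ_naturality]

theorem fib_triangle : ∃ δ : ((tS A).truncGE b).obj E ⟶ (Fib E a b)⟦(1 : ℤ)⟧,
    Triangle.mk (((tS A).truncLTι b).app (((tS A).truncGE a).obj E))
      (((tS A).natTransTruncGEOfLE a b hab).app E) δ ∈ distTriang (DerivedCategory A) := by
  refine ⟨(cmpIso E a b hab).hom ≫ ((tS A).truncGEδLT b).app (((tS A).truncGE a).obj E), ?_⟩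
  refine isomorphic_distinguished _ ((tS A).triangleLTGE_distinguished b (((tS A).truncGE a).obj E)) _ ?_
  refine Triangle.isoMk _ _ (Iso.refl _) (Iso.refl _) (cmpIso E a b hab) ?_ ?_ ?_
  · exact (Category.comp_id _).trans (Category.id_comp _).symm
  · refine Eq.trans ?_ (Category.id_comp _).symm
    exact (π_cmp E a b hab).symm
  · have h1 : (𝟙 (((tS A).truncLT b).obj (((tS A).truncGE a).obj E)))⟦(1 : ℤ)⟧' = 𝟙 _ :=
      CategoryTheory.Functor.map_id _ _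
    exact (congrArg (fun z => ((cmpIso E a b hab).hom ≫
      ((tS A).truncGEδLT b).app (((tS A).truncGE a).obj E)) ≫ z) h1).trans (Category.comp_id _)

end Fiber


section Main

variable {X : Scheme.{u}} (E : DCoh.D X)

/-- the truncation tower -/
noncomputable abbrev K (n : ℕ) : DCoh.D X := ((tS X.Modules).truncGE (-(n : ℤ))).obj E

/-- the transition maps of the truncation tower -/
noncomputable abbrev tr (n : ℕ) : K E (n + 1) ⟶ K E n :=
  ((tS X.Modules).natTransTruncGEOfLE (-((n + 1 : ℕ) : ℤ)) (-(n : ℤ))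
    (Int.neg_le_neg (Int.ofNat_le.mpr (Nat.le_succ n)))).app E

/-- the projections to the truncation tower -/
noncomputable abbrev πE (n : ℕ) : E ⟶ K E n := ((tS X.Modules).truncGEπ (-(n : ℤ))).app E

/-- the fibres of the transition maps -/
noncomputable abbrev F (j : ℕ) : DCoh.D X := Fib E (-((j + 1 : ℕ) : ℤ)) (-(j : ℤ))

lemma isQCoh_of_iso {M N : X.Modules} (e : M ≅ N) (h : Coh.IsQCoh M) : Coh.IsQCoh N := by
  haveI : M.IsQuasicoherent := h
  exact (SheafOfModules.isQuasicoherent.{u} X.ringCatSheaf).prop_of_iso e inferInstance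

/-- vanishing of classes on affine opens with values in shifted fibres -/
theorem F_van (hE : DCoh.IsQCohD E) (V : X.Opens) (hV : IsAffineOpen V) (j : ℕ) (m : ℤ)
    (hm : -((j + 1 : ℕ) : ℤ) < m) (γ : GD V ⟶ (F E j)⟦m⟧) : γ = 0 := by
  haveI : (tS X.Modules).IsLE (F E j) (-((j + 1 : ℕ) : ℤ)) :=
    (tS X.Modules).isLE_truncLT_obj _ _ _ (by push_cast; omega)
  haveI : (F E j).IsLE (-((j + 1 : ℕ) : ℤ)) := this
  haveI : (tS X.Modules).IsGE (F E j) (-((j + 1 : ℕ) : ℤ)) := inferInstance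
  haveI : (F E j).IsGE (-((j + 1 : ℕ) : ℤ)) := this
  refine affine_vanishing V hV (F E j) (-((j + 1 : ℕ) : ℤ)) ?_ m hm γ
  haveI h1 := Groth.Agent.Lib.Helper16.DerT.isIso_homologyMap_truncLTι
    (((tS X.Modules).truncGE (-((j + 1 : ℕ) : ℤ))).obj E) (-(j : ℤ)) (-((j + 1 : ℕ) : ℤ))
    (by push_cast; omega)
  haveI h2 := Groth.Agent.Lib.Helper16.DerT.isIso_homologyMap_truncGEπ E
    (-((j + 1 : ℕ) : ℤ)) (-((j + 1 : ℕ) : ℤ)) le_rfl
  exact isQCoh_of_iso ((asIso ((DerivedCategory.homologyFunctor X.Modules _).map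
    (((tS X.Modules).truncGEπ (-((j + 1 : ℕ) : ℤ))).app E))) ≪≫
    (asIso ((DerivedCategory.homologyFunctor X.Modules _).map
    (((tS X.Modules).truncLTι (-(j : ℤ))).app
      (((tS X.Modules).truncGE (-((j + 1 : ℕ) : ℤ))).obj E)))).symm) (hE _)


/-- the truncated pieces have bounded above shifts -/
lemma isLE_shift_truncLT (n : ℕ) (m : ℤ) (hm : -(n : ℤ) ≤ m) :
    ((((tS X.Modules).truncLT (-(n : ℤ))).obj E)⟦m⟧).IsLE (-1) := by
  haveI : (tS X.Modules).IsLE ((((tS X.Modules).truncLT (-(n : ℤ))).obj E)⟦m⟧)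
      (-(n : ℤ) - 1 - m) :=
    (tS X.Modules).isLE_shift _ (-(n : ℤ) - 1) m _ (by ring)
  exact (tS X.Modules).isLE_of_le _ (-(n : ℤ) - 1 - m) (-1) (by omega)

lemma isLE_shift_shift_truncLT (n : ℕ) (m : ℤ) (hm : -(n : ℤ) ≤ m) :
    (((((tS X.Modules).truncLT (-(n : ℤ))).obj E)⟦(1 : ℤ)⟧)⟦m⟧).IsLE (-1) := by
  haveI : (tS X.Modules).IsLE ((((tS X.Modules).truncLT (-(n : ℤ))).obj E)⟦(1 : ℤ)⟧)
      (-(n : ℤ) - 2) :=
    (tS X.Modules).isLE_shift _ (-(n : ℤ) - 1) 1 _ (by ring)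
  haveI : (tS X.Modules).IsLE (((((tS X.Modules).truncLT (-(n : ℤ))).obj E)⟦(1 : ℤ)⟧)⟦m⟧)
      (-(n : ℤ) - 2 - m) :=
    (tS X.Modules).isLE_shift _ (-(n : ℤ) - 2) m _ (by ring)
  exact (tS X.Modules).isLE_of_le _ (-(n : ℤ) - 2 - m) (-1) (by omega)

/-- **left completeness for `D_QCoh`** (S1007) -/
theorem main (hE : DCoh.IsQCohD E) [HasProduct (K E)] :
    ∃ c : ∏ᶜ (K E) ⟶ E⟦(1 : ℤ)⟧,
      Triangle.mk (Pi.lift (πE E))
        (Pi.lift fun n : ℕ => Pi.π (K E) n - Pi.π (K E) (n + 1) ≫ tr E n) c ∈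
        distTriang (DCoh.D X) := by
  set σ : ∏ᶜ (K E) ⟶ ∏ᶜ (K E) :=
    Pi.lift fun n : ℕ => Pi.π (K E) n - Pi.π (K E) (n + 1) ≫ tr E n with hσ
  obtain ⟨R, ι, c, hT⟩ := distinguished_cocone_triangle₁ σ
  have hlσ : Pi.lift (πE E) ≫ σ = 0 := by
    apply Pi.hom_ext
    intro n
    rw [Category.assoc, hσ, Pi.lift_π, Preadditive.comp_sub, Pi.lift_π, ← Category.assoc,
      Pi.lift_π, zero_comp, sub_eq_zero]
    exact ((tS X.Modules).π_natTransTruncGEOfLE_app _ _ _ E).symm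
  obtain ⟨(φ : E ⟶ R), hφ⟩ := Triangle.coyoneda_exact₂ _ hT (Pi.lift (πE E)) hlσ
  have hφ' : Pi.lift (πE E) = φ ≫ ι := hφ
  have hφπ : ∀ n, φ ≫ ι ≫ Pi.π (K E) n = πE E n := fun n => by
    rw [← Category.assoc, ← hφ', Pi.lift_π]
  have hTn : ∀ n : ℕ, Triangle.mk (((tS X.Modules).truncLTι (-(n : ℤ))).app E) (πE E n)
      (((tS X.Modules).truncGEδLT (-(n : ℤ))).app E) ∈ distTriang (DCoh.D X) :=
    fun n => (tS X.Modules).triangleLTGE_distinguished (-(n : ℤ)) E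
  have hn0 : ∀ m : ℤ, -(((-m).toNat : ℕ) : ℤ) ≤ m := fun m => by omega
  have linj : ∀ m : ℤ, LInj (φ⟦m⟧') := by
    intro m U hU α hα
    have h1 : α ≫ (πE E (-m).toNat)⟦m⟧' = 0 := by
      rw [← hφπ, Functor.map_comp, ← Category.assoc, hα, zero_comp]
    obtain ⟨(γ : GD U ⟶ (((tS X.Modules).truncLT (-(((-m).toNat : ℕ) : ℤ))).obj E)⟦m⟧), hγ⟩ :=
      shift_exact₂ _ (hTn (-m).toNat) m α h1
    have hγ' : α = γ ≫ (((tS X.Modules).truncLTι (-(((-m).toNat : ℕ) : ℤ))).app E)⟦m⟧' := hγ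
    haveI := isLE_shift_truncLT E (-m).toNat m (hn0 m)
    intro x hx
    obtain ⟨V, hVU, hxV, hV, hz⟩ := locZero_of_isLE
      ((((tS X.Modules).truncLT (-(((-m).toNat : ℕ) : ℤ))).obj E)⟦m⟧) γ x hx
    refine ⟨V, hVU, hxV, hV, ?_⟩
    rw [hγ', ← Category.assoc, hz, zero_comp]
  have lsurj : ∀ m : ℤ, LSurj (φ⟦m⟧') := by
    intro m U hU β x hx
    set n := (-m).toNat with hn
    haveI := isLE_shift_shift_truncLT E n m (hn0 m)
    obtain ⟨V, hVU, hxV, hV, hz⟩ := locZero_of_isLE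
      (((((tS X.Modules).truncLT (-(n : ℤ))).obj E)⟦(1 : ℤ)⟧)⟦m⟧)
      (β ≫ (ι ≫ Pi.π (K E) n)⟦m⟧' ≫ (((tS X.Modules).truncGEδLT (-(n : ℤ))).app E)⟦m⟧') x hx
    obtain ⟨(α : GD V ⟶ E⟦m⟧), hα⟩ :=
      shift_exact₃ _ (hTn n) m (ρD hVU ≫ β ≫ (ι ≫ Pi.π (K E) n)⟦m⟧') (by
        rw [Category.assoc, Category.assoc]
        exact hz)
    have hα' : ρD hVU ≫ β ≫ (ι ≫ Pi.π (K E) n)⟦m⟧' = α ≫ (πE E n)⟦m⟧' := hα
    refine ⟨V, hVU, α, hxV, hV, ?_⟩
    rw [← sub_eq_zero]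
    refine milnor_inj_shift (K E) (tr E) R ι c hT (GD V) m n (F E)
      (fun j => ((tS X.Modules).truncLTι (-(j : ℤ))).app _)
      (fun j => Classical.choose (fib_triangle E (-((j + 1 : ℕ) : ℤ)) (-(j : ℤ))
        (Int.neg_le_neg (Int.ofNat_le.mpr (Nat.le_succ j)))))
      (fun j _ => Classical.choose_spec (fib_triangle E (-((j + 1 : ℕ) : ℤ)) (-(j : ℤ))
        (Int.neg_le_neg (Int.ofNat_le.mpr (Nat.le_succ j)))))
      (fun j hj γ => F_van E hE V hV j m (by push_cast; omega) γ) _ n le_rfl ?_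
    rw [Preadditive.sub_comp, sub_eq_zero, Category.assoc, Category.assoc, ← Functor.map_comp,
      hφπ, hα']
  have hiso : IsIso φ := isIso_of_LI φ (fun m => ⟨linj m, lsurj m⟩)
  refine ⟨c ≫ (@inv _ _ _ _ φ hiso)⟦(1 : ℤ)⟧', ?_⟩
  refine isomorphic_distinguished _ hT _ ?_
  refine Triangle.isoMk _ _ (@asIso _ _ _ _ φ hiso) (Iso.refl _) (Iso.refl _) ?_ ?_ ?_
  · exact (Category.comp_id _).trans hφ'
  · exact (Category.comp_id _).trans (Category.id_comp _).symm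
  · change (c ≫ (@inv _ _ _ _ φ hiso)⟦(1 : ℤ)⟧') ≫ φ⟦(1 : ℤ)⟧' = 𝟙 _ ≫ c
    rw [Category.assoc, ← Functor.map_comp, @IsIso.inv_hom_id _ _ _ _ φ hiso,
      CategoryTheory.Functor.map_id, Category.comp_id, Category.id_comp]

end Main

end Groth.Agent.Lib.Helper26.LC5
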