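import Mathlib
import Groth.Agent.Lib.Helper26.LC5
import Groth.Agent.Lib.Helper26.DProdK2
import Groth.Agent.Lib.Helper2.RpushQC4

set_option maxHeartbeats 400000
set_option linter.style.haveILetI false
set_option linter.unusedSectionVars false
set_option linter.unusedVariables false

universe u

open CategoryTheory CategoryTheory.Limits AlgebraicGeometry Opposite ZeroObject Pretriangulated

namespace Groth.Agent.Lib.Helper26.LC6

open Groth.Agent.Lib.Helper26 Groth.Agent.Lib.Helper26.LC1 Groth.Agent.Lib.Helper26.LC2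
  Groth.Agent.Lib.Helper26.LC3 Groth.Agent.Lib.Helper26.LC4 Groth.Agent.Lib.Helper26.LC5

attribute [local instance] HasDerivedCategory.standard

variable {X : Scheme.{u}}

/-- `D(O_X)` has all small products -/
instance hasProductsD : HasProducts.{u} (DCoh.D X) := DProdK2.hasProducts

instance hasCountableProductsD (K : ℕ → DCoh.D X) : HasProduct K := by
  haveI : HasProducts.{0} (DCoh.D X) := has_smallest_products_of_hasProducts.{u}
  infer_instance

/-- vanishing of classes over `U` in degrees above `b` -/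
def S (U : X.Opens) (b : ℤ) (Y : DCoh.D X) : Prop :=
  ∀ m : ℤ, b < m → ∀ γ : GD U ⟶ Y⟦m⟧, γ = 0

theorem S_iso (U : X.Opens) (b : ℤ) (Y Z : DCoh.D X) (e : Y ≅ Z) (h : S U b Y) : S U b Z := by
  intro n hn φ
  have := h n hn (φ ≫ ((shiftFunctor (DCoh.D X) n).mapIso e).inv)
  have h2 : φ = (φ ≫ ((shiftFunctor (DCoh.D X) n).mapIso e).inv) ≫
      ((shiftFunctor (DCoh.D X) n).mapIso e).hom := by simp
  rw [h2, this, zero_comp]

theorem S_zero (U : X.Opens) (b : ℤ) (Y : DCoh.D X) (h : IsZero Y) : S U b Y := by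
  intro n hn φ
  exact ((shiftFunctor (DCoh.D X) n).map_isZero h).eq_of_tgt _ _

theorem S_ext (U : X.Opens) (b : ℤ) (T : Triangle (DCoh.D X)) (hT : T ∈ distTriang (DCoh.D X))
    (h1 : S U b T.obj₁) (h3 : S U b T.obj₃) : S U b T.obj₂ := by
  intro n hn φ
  obtain ⟨ψ, hψ⟩ := shift_exact₂ T hT n φ (h3 n hn _)
  rw [hψ, h1 n hn ψ, zero_comp]

theorem S_single (U : X.Opens) (hU : IsAffineOpen U) (G : X.Modules) (hG : Coh.IsQCoh G)
    (b j : ℤ) (hj : j ≤ b) : S U b ((DerivedCategory.singleFunctor X.Modules j).obj G) := by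
  intro m hm γ
  refine affine_vanishing U hU _ j ?_ m (by omega) γ
  exact isQCoh_of_iso ((DerivedCategory.singleFunctorCompHomologyFunctorIso X.Modules j).app G).symm hG

/-- **affine vanishing, bounded case** -/
theorem bounded_vanishing (U : X.Opens) (hU : IsAffineOpen U) (T : DCoh.D X)
    (hT : DCoh.IsQCohD T) (a b : ℤ) [T.IsGE a] [T.IsLE b] : S U b T := by
  by_cases hab : b + 1 < a
  · exact S_zero U _ T ((DerivedCategory.TStructure.t (C := X.Modules)).isZero T b a (by omega))
  · obtain ⟨k, hk⟩ : ∃ k : ℕ, b + 1 = a + k :=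
      ⟨(b + 1 - a).toNat, by rw [Int.toNat_of_nonneg (by omega)]; omega⟩
    refine Groth.Agent.Lib.Helper16.DerT.bounded_induction (S U b)
      (fun Y Z e h => S_iso U _ Y Z e h) (fun Y h => S_zero U _ Y h)
      (fun T hT h1 h3 => S_ext U _ T hT h1 h3) k a b hk T ?_
    intro j hj1 hj2
    exact S_single U hU _ (hT j) b j hj2

/-- truncations of objects of `D_QCoh` are in `D_QCoh` -/
theorem isQCohD_truncGE (E : DCoh.D X) (hE : DCoh.IsQCohD E) (c : ℤ) :
    DCoh.IsQCohD (((tS X.Modules).truncGE c).obj E) := by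
  intro i
  by_cases hi : c ≤ i
  · haveI := Groth.Agent.Lib.Helper16.DerT.isIso_homologyMap_truncGEπ E c i hi
    exact isQCoh_of_iso (asIso ((DerivedCategory.homologyFunctor X.Modules i).map
      (((tS X.Modules).truncGEπ c).app E))) (hE i)
  · haveI : (((tS X.Modules).truncGE c).obj E).IsGE c := by
      change (tS X.Modules).IsGE _ c
      infer_instance
    exact Groth.Agent.Lib.Helper2.RpushQC4.isQuasicoherent_of_isZero _
      (DerivedCategory.isZero_of_isGE _ c i (by omega))

/-- **affine vanishing, unbounded case**: for `E ∈ D_QCoh^{≤ b}` and `U` affine, the classes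
over `U` in degrees above `b` vanish. -/
theorem unbounded_vanishing (U : X.Opens) (hU : IsAffineOpen U) (E : DCoh.D X)
    (hE : DCoh.IsQCohD E) (b : ℤ) [E.IsLE b] : S U b E := by
  intro m hm α
  obtain ⟨c, hT⟩ := LC5.main E hE
  set n := (-m).toNat with hn
  refine milnor_inj_shift (K E) (tr E) E _ c hT (GD U) m n (F E)
      (fun j => ((tS X.Modules).truncLTι (-(j : ℤ))).app _)
      (fun j => Classical.choose (fib_triangle E (-((j + 1 : ℕ) : ℤ)) (-(j : ℤ))
        (Int.neg_le_neg (Int.ofNat_le.mpr (Nat.le_succ j)))))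
      (fun j _ => Classical.choose_spec (fib_triangle E (-((j + 1 : ℕ) : ℤ)) (-(j : ℤ))
        (Int.neg_le_neg (Int.ofNat_le.mpr (Nat.le_succ j)))))
      (fun j hj γ => F_van E hE U hU j m (by push_cast; omega) γ) α n le_rfl ?_
  rw [Pi.lift_π]
  haveI : (K E n).IsGE (-(n : ℤ)) := by
    change (tS X.Modules).IsGE _ _
    infer_instance
  haveI : (K E n).IsLE b := by
    change (tS X.Modules).IsLE _ _
    infer_instance
  exact bounded_vanishing U hU (K E n) (isQCohD_truncGE E hE _) (-(n : ℤ)) b m hm _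

end Groth.Agent.Lib.Helper26.LC6
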