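import Mathlib
import Groth.Agent.Lib.Helper26.LC6

set_option maxHeartbeats 400000
set_option linter.style.haveILetI false
set_option linter.unusedSectionVars false
set_option linter.unusedVariables false

universe u

open CategoryTheory CategoryTheory.Limits AlgebraicGeometry Opposite ZeroObject Pretriangulated

namespace Groth.Agent.Lib.Helper26.LC7

open Groth.Agent.Lib.Helper26 Groth.Agent.Lib.Helper26.LC1 Groth.Agent.Lib.Helper26.LC2
  Groth.Agent.Lib.Helper26.LC3 Groth.Agent.Lib.Helper26.LC4 Groth.Agent.Lib.Helper26.LC5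
  Groth.Agent.Lib.Helper26.LC6

attribute [local instance] HasDerivedCategory.standard

section T1

variable {A : Type (u + 1)} [Category.{u} A] [Abelian A]

open DerivedCategory

/-- the natural isomorphism `H^0(M[0]) ≅ M` -/
noncomputable abbrev h0Iso : singleFunctor A 0 ⋙ homologyFunctor A 0 ≅ 𝟭 A :=
  singleFunctorCompHomologyFunctorIso A 0

lemma H0_single_map {M N : A} (φ : M ⟶ N) :
    (homologyFunctor A 0).map ((singleFunctor A 0).map φ) =
      (h0Iso (A := A)).hom.app M ≫ φ ≫ (h0Iso (A := A)).inv.app N := by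
  have := (h0Iso (A := A)).hom.naturality φ
  simp only [Functor.comp_map, Functor.id_map] at this
  rw [← Category.assoc, ← this, Category.assoc, Iso.hom_inv_id_app, Category.comp_id]

/-- maps from an object of the heart to an object of `D^{≥0}` are detected on `H^0` -/
theorem H0_injective (M : A) (B : DerivedCategory A) [B.IsGE 0]
    (f : (singleFunctor A 0).obj M ⟶ B) (hf : (homologyFunctor A 0).map f = 0) : f = 0 := by
  let B' := ((tS A).truncLT 1).obj B
  let i : B' ⟶ B := ((tS A).truncLTι 1).app B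
  haveI : (tS A).IsLE ((singleFunctor A 0).obj M) 0 :=
    (inferInstance : ((singleFunctor A 0).obj M).IsLE 0)
  haveI : (tS A).IsGE B 0 := (inferInstance : B.IsGE 0)
  haveI h1 : (tS A).IsLE B' 0 := (tS A).isLE_truncLT_obj _ 1 0
  haveI h2 : (tS A).IsGE B' 0 := inferInstance
  haveI : B'.IsLE 0 := h1
  haveI : B'.IsGE 0 := h2
  obtain ⟨e⟩ := Groth.Agent.Lib.Helper16.DerT.nonempty_iso_single_homology B' 0
  let g : (singleFunctor A 0).obj M ⟶ B' := (tS A).liftTruncLT f 0 1 (by simp)
  have hg : g ≫ i = f := (tS A).liftTruncLT_ι f 0 1 (by simp)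
  haveI := Groth.Agent.Lib.Helper16.DerT.isIso_homologyMap_truncLTι B 1 0 (by omega)
  have hg0 : (homologyFunctor A 0).map g = 0 := by
    rw [← cancel_mono ((homologyFunctor A 0).map i), ← Functor.map_comp, hg, hf, zero_comp]
  obtain ⟨φ, hφ⟩ := (singleFunctor A 0).map_surjective (g ≫ e.hom)
  have h3 : (homologyFunctor A 0).map ((singleFunctor A 0).map φ) = 0 := by
    rw [hφ, Functor.map_comp, hg0, zero_comp]
  rw [H0_single_map] at h3
  have hφ0 : φ = 0 := by
    have := congrArg (fun z => (h0Iso (A := A)).inv.app M ≫ z ≫ (h0Iso (A := A)).hom.app _) h3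
    simpa using this
  have hge : g ≫ e.hom = 0 := by rw [← hφ, hφ0, Functor.map_zero]
  have hg' : g = 0 := by
    rw [← cancel_mono e.hom, hge, zero_comp]
  rw [← hg, hg', zero_comp]

/-- every map on `H^0` from an object of the heart to an object of `D^{≥0}` is induced by a map
in the derived category -/
theorem H0_surjective (M : A) (B : DerivedCategory A) [B.IsGE 0]
    (h : (homologyFunctor A 0).obj ((singleFunctor A 0).obj M) ⟶ (homologyFunctor A 0).obj B) :
    ∃ f : (singleFunctor A 0).obj M ⟶ B, (homologyFunctor A 0).map f = h := by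
  let B' := ((tS A).truncLT 1).obj B
  let i : B' ⟶ B := ((tS A).truncLTι 1).app B
  haveI : (tS A).IsGE B 0 := (inferInstance : B.IsGE 0)
  haveI h1 : (tS A).IsLE B' 0 := (tS A).isLE_truncLT_obj _ 1 0
  haveI h2 : (tS A).IsGE B' 0 := inferInstance
  haveI : B'.IsLE 0 := h1
  haveI : B'.IsGE 0 := h2
  obtain ⟨e⟩ := Groth.Agent.Lib.Helper16.DerT.nonempty_iso_single_homology B' 0
  haveI := Groth.Agent.Lib.Helper16.DerT.isIso_homologyMap_truncLTι B 1 0 (by omega)
  obtain ⟨φ, hφ⟩ : ∃ φ : M ⟶ (homologyFunctor A 0).obj B', φ =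
    (h0Iso (A := A)).inv.app M ≫ h ≫ inv ((homologyFunctor A 0).map i) ≫
      (homologyFunctor A 0).map e.hom ≫ (h0Iso (A := A)).hom.app _ := ⟨_, rfl⟩
  refine ⟨(singleFunctor A 0).map φ ≫ e.inv ≫ i, ?_⟩
  rw [Functor.map_comp, Functor.map_comp, H0_single_map, hφ]
  simp only [Category.assoc, Iso.hom_inv_id_app_assoc, Iso.hom_inv_id_app]
  have h5 : (homologyFunctor A 0).map e.hom ≫ (homologyFunctor A 0).map e.inv = 𝟙 _ := by
    rw [← Functor.map_comp, Iso.hom_inv_id, CategoryTheory.Functor.map_id]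
  erw [Category.id_comp]
  rw [reassoc_of% h5, IsIso.inv_hom_id, Category.comp_id]

end T1


section KF2

variable {X : Scheme.{u}}

open DerivedCategory

/-- `GD U ≅ (j_!O_U)[0]` -/
noncomputable def gdSingle (U : X.Opens) :
    GD U ≅ (singleFunctor X.Modules 0).obj (G U) :=
  ((singleFunctorIsoCompQ X.Modules 0).app (G U)).symm

/-- truncations of objects of `D_QCoh` are in `D_QCoh` -/
theorem isQCohD_truncLT (E : DCoh.D X) (hE : DCoh.IsQCohD E) (c : ℤ) :
    DCoh.IsQCohD (((tS X.Modules).truncLT c).obj E) := by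
  intro i
  by_cases hi : i < c
  · haveI := Groth.Agent.Lib.Helper16.DerT.isIso_homologyMap_truncLTι E c i hi
    exact isQCoh_of_iso (asIso ((homologyFunctor X.Modules i).map
      (((tS X.Modules).truncLTι c).app E))).symm (hE i)
  · haveI : (((tS X.Modules).truncLT c).obj E).IsLE (c - 1) := by
      change (tS X.Modules).IsLE _ (c - 1)
      infer_instance
    exact Groth.Agent.Lib.Helper2.RpushQC4.isQuasicoherent_of_isZero _
      (isZero_of_isLE _ (c - 1) i (by omega))

/-- classes over an affine open with values in an object of `D_QCoh` are detected on `H^0` -/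
theorem H0_injective_of_isQCohD (U : X.Opens) (hU : IsAffineOpen U) (E : DCoh.D X)
    (hE : DCoh.IsQCohD E) (α : GD U ⟶ E) (hα : (homologyFunctor X.Modules 0).map α = 0) :
    α = 0 := by
  let B := ((tS X.Modules).truncGE 0).obj E
  let π : E ⟶ B := ((tS X.Modules).truncGEπ 0).app E
  haveI : B.IsGE 0 := by
    change (tS X.Modules).IsGE _ 0
    infer_instance
  have h1 : (gdSingle U).inv ≫ α ≫ π = 0 := by
    apply H0_injective
    rw [Functor.map_comp, Functor.map_comp, hα, zero_comp, comp_zero]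
  have h2 : α ≫ π = 0 := by
    rw [← cancel_epi (gdSingle U).inv, h1, comp_zero]
  let T := ((tS X.Modules).truncLT 0).obj E
  obtain ⟨(γ : GD U ⟶ T), hγ⟩ :=
    Triangle.coyoneda_exact₂ _ ((tS X.Modules).triangleLTGE_distinguished 0 E) α h2
  have hγ' : α = γ ≫ ((tS X.Modules).truncLTι 0).app E := hγ
  haveI : T.IsLE (-1) := by
    change (tS X.Modules).IsLE _ (-1)
    exact (tS X.Modules).isLE_truncLT_obj _ 0 (-1)
  have h3 := unbounded_vanishing U hU T (isQCohD_truncLT E hE 0) (-1) 0 (by omega)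
    (γ ≫ (shiftFunctorZero (DCoh.D X) ℤ).inv.app T)
  have h4 : γ = 0 := by
    have : γ = (γ ≫ (shiftFunctorZero (DCoh.D X) ℤ).inv.app T) ≫
        (shiftFunctorZero (DCoh.D X) ℤ).hom.app T := by
      rw [Category.assoc, Iso.inv_hom_id_app]
      exact (Category.comp_id _).symm
    rw [this, h3, zero_comp]
  rw [hγ', h4, zero_comp]

/-- every map on `H^0` from `j_!O_U` (`U` affine) to an object of `D_QCoh` is induced by a class -/
theorem H0_surjective_of_isQCohD (U : X.Opens) (hU : IsAffineOpen U) (E : DCoh.D X)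
    (hE : DCoh.IsQCohD E)
    (h : (homologyFunctor X.Modules 0).obj (GD U) ⟶ (homologyFunctor X.Modules 0).obj E) :
    ∃ α : GD U ⟶ E, (homologyFunctor X.Modules 0).map α = h := by
  let B := ((tS X.Modules).truncGE 0).obj E
  let π : E ⟶ B := ((tS X.Modules).truncGEπ 0).app E
  let T := ((tS X.Modules).truncLT 0).obj E
  haveI : B.IsGE 0 := by
    change (tS X.Modules).IsGE _ 0
    infer_instance
  haveI := Groth.Agent.Lib.Helper16.DerT.isIso_homologyMap_truncGEπ E 0 0 le_rfl
  obtain ⟨β', hβ'⟩ := H0_surjective (G U) B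
    ((homologyFunctor X.Modules 0).map (gdSingle U).inv ≫ h ≫ (homologyFunctor X.Modules 0).map π)
  let β : GD U ⟶ B := (gdSingle U).hom ≫ β'
  have hβ : (homologyFunctor X.Modules 0).map β = h ≫ (homologyFunctor X.Modules 0).map π := by
    rw [Functor.map_comp, hβ', ← Functor.map_comp_assoc, Iso.hom_inv_id,
      CategoryTheory.Functor.map_id, Category.id_comp]
  haveI : T.IsLE (-1) := by
    change (tS X.Modules).IsLE _ (-1)
    exact (tS X.Modules).isLE_truncLT_obj _ 0 (-1)
  have h3 : β ≫ ((tS X.Modules).truncGEδLT 0).app E = 0 :=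
    unbounded_vanishing U hU T (isQCohD_truncLT E hE 0) (-1) 1 (by omega) _
  obtain ⟨(α : GD U ⟶ E), hα⟩ := Triangle.coyoneda_exact₃ _
    ((tS X.Modules).triangleLTGE_distinguished 0 E) β h3
  have hα' : β = α ≫ π := hα
  refine ⟨α, ?_⟩
  rw [← cancel_mono ((homologyFunctor X.Modules 0).map π), ← Functor.map_comp, ← hα', hβ]

end KF2

end Groth.Agent.Lib.Helper26.LC7
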