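import Mathlib
import Groth.Agent.Lib.Helper26.LC7
import Groth.Agent.Lib.Helper17.FTExt

set_option maxHeartbeats 400000
set_option linter.style.haveILetI false
set_option linter.unusedSectionVars false
set_option linter.unusedVariables false

universe u

open CategoryTheory CategoryTheory.Limits AlgebraicGeometry Opposite ZeroObject Pretriangulated

namespace Groth.Agent.Lib.Helper26.LC8

open Groth.Agent.Lib.Helper26 Groth.Agent.Lib.Helper26.LC1 Groth.Agent.Lib.Helper26.LC2
  Groth.Agent.Lib.Helper26.LC3 Groth.Agent.Lib.Helper26.LC4 Groth.Agent.Lib.Helper26.LC5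
  Groth.Agent.Lib.Helper26.LC6 Groth.Agent.Lib.Helper26.LC7

attribute [local instance] HasDerivedCategory.standard

variable {X : Scheme.{u}}

/-! ### affine exactness in terms of maps out of `j_!O_W` -/

/-- lifting maps `j_!O_W ⟶ coker φ` to `B` on affine opens -/
theorem lift_cokernel {A B C : X.Modules} (hA : Coh.IsQCoh A) (hB : Coh.IsQCoh B) (φ : A ⟶ B)
    (π : B ⟶ C) (w : φ ≫ π = 0) (hπ : IsColimit (CokernelCofork.ofπ π w))
    {W : X.Opens} (hW : IsAffineOpen W) (g : G W ⟶ C) : ∃ g' : G W ⟶ B, g' ≫ π = g := by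
  haveI : A.IsQuasicoherent := hA
  haveI : B.IsQuasicoherent := hB
  have hc := cokernelIsCokernel φ
  let e : C ≅ cokernel φ := (IsColimit.coconePointUniqueUpToIso hπ hc :)
  have he : π ≫ e.hom = cokernel.π φ :=
    (IsColimit.comp_coconePointUniqueUpToIso_hom hπ hc WalkingParallelPair.one :)
  obtain ⟨b, hb⟩ := Groth.Agent.Lib.Helper17.FTExt.cokernel_π_app_surjective φ hW
    (sec W _ (g ≫ e.hom))
  refine ⟨(sec W B).symm b, ?_⟩
  rw [← cancel_mono e.hom, Category.assoc, he]
  apply (sec W _).injective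
  rw [sec_comp, Equiv.apply_symm_apply]
  exact hb

/-- exactness at `B` for maps out of `j_!O_W` on affine opens -/
theorem lift_of_comp_cokernel_eq_zero {A B C : X.Modules} (hA : Coh.IsQCoh A) (hB : Coh.IsQCoh B)
    (φ : A ⟶ B) (π : B ⟶ C) (w : φ ≫ π = 0) (hπ : IsColimit (CokernelCofork.ofπ π w))
    {W : X.Opens} (hW : IsAffineOpen W) (g : G W ⟶ B) (hg : g ≫ π = 0) :
    ∃ g' : G W ⟶ A, g' ≫ φ = g := by
  haveI : A.IsQuasicoherent := hA
  haveI : B.IsQuasicoherent := hB
  have hc := cokernelIsCokernel φ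
  let e : C ≅ cokernel φ := (IsColimit.coconePointUniqueUpToIso hπ hc :)
  have he : π ≫ e.hom = cokernel.π φ :=
    (IsColimit.comp_coconePointUniqueUpToIso_hom hπ hc WalkingParallelPair.one :)
  obtain ⟨a, ha⟩ := Groth.Agent.Lib.Helper17.FTExt.exists_app_eq_of_cokernel_π_app_eq_zero φ hW
    (sec W _ g) (by
      rw [← sec_comp, ← he, ← Category.assoc, hg, zero_comp, sec_zero])
  refine ⟨(sec W A).symm a, ?_⟩
  apply (sec W _).injective
  rw [sec_comp, Equiv.apply_symm_apply]
  exact ha

/-! ### cycles and homology of complexes with quasi-coherent terms -/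

variable (F : CochainComplex X.Modules ℤ)

lemma isQCoh_cycles (hF : ∀ n, Coh.IsQCoh (F.X n)) (n : ℤ) : Coh.IsQCoh (F.cycles n) := by
  haveI : (F.X n).IsQuasicoherent := hF n
  haveI : (F.X (n + 1)).IsQuasicoherent := hF (n + 1)
  have h := Groth.Agent.Lib.Helper17.CohKer.isQuasicoherent_kernel (F.d n (n + 1))
  have hk := kernelIsKernel (F.d n (n + 1))
  let e : F.cycles n ≅ kernel (F.d n (n + 1)) :=
    (IsLimit.conePointUniqueUpToIso (F.cyclesIsKernel n (n + 1) (by simp)) hk :)
  exact isQCoh_of_iso e.symm h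

lemma isQCoh_homology (hF : ∀ n, Coh.IsQCoh (F.X n)) (n : ℤ) : Coh.IsQCoh (F.homology n) := by
  haveI : (F.X (n - 1)).IsQuasicoherent := hF (n - 1)
  haveI : (F.cycles n).IsQuasicoherent := isQCoh_cycles F hF n
  have h := Groth.Agent.Lib.Helper17.CohKer.isQuasicoherent_cokernel (F.toCycles (n - 1) n)
  have hc := cokernelIsCokernel (F.toCycles (n - 1) n)
  let e : F.homology n ≅ cokernel (F.toCycles (n - 1) n) :=
    (IsColimit.coconePointUniqueUpToIso (F.homologyIsCokernel (n - 1) n (by simp)) hc :)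
  exact isQCoh_of_iso e.symm h

lemma isQCohD_Q (hF : ∀ n, Coh.IsQCoh (F.X n)) : DCoh.IsQCohD (DerivedCategory.Q.obj F) := by
  intro i
  exact isQCoh_of_iso ((DerivedCategory.homologyFunctorFactors X.Modules i).app F).symm
    (isQCoh_homology F hF i)

/-! ### chain maps out of `Gc W` into complexes with quasi-coherent terms -/

variable {W : X.Opens}

/-- the cycle class of a chain map out of `Gc W` -/
noncomputable def cyc (b : Gc W ⟶ F) : G W ⟶ F.cycles 0 :=
  F.liftCycles ((ι0 W).inv ≫ b.f 0) 1 (by simp) (by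
    rw [Category.assoc, b.comm]
    have : (Gc W).d 0 1 = 0 := HomologicalComplex.single_obj_d _ _ _ _ _
    rw [this, zero_comp, comp_zero])

lemma cyc_i (b : Gc W ⟶ F) : cyc F b ≫ F.iCycles 0 = (ι0 W).inv ≫ b.f 0 :=
  F.liftCycles_i _ _ _ _

/-- the cohomology class of a chain map out of `Gc W` -/
noncomputable def hom (b : Gc W ⟶ F) : G W ⟶ F.homology 0 := cyc F b ≫ F.homologyπ 0

lemma hom_eq (b : Gc W ⟶ F) :
    hom F b = (HomologicalComplex.singleObjHomologySelfIso (ComplexShape.up ℤ) 0 (G W)).inv ≫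
      HomologicalComplex.homologyMap b 0 := by
  rw [← HomologicalComplex.singleObjCyclesSelfIso_inv_homologyπ, Category.assoc,
    HomologicalComplex.homologyπ_naturality, ← Category.assoc, hom]
  congr 1
  rw [← cancel_mono (F.iCycles 0), cyc_i, Category.assoc, HomologicalComplex.cyclesMap_i,
    HomologicalComplex.singleObjCyclesSelfIso_inv_iCycles_assoc]

/-- (D-inj) a chain map into a complex with quasi-coherent terms whose class vanishes is
null-homotopic -/
theorem homotopy_of_hom_eq_zero (hF : ∀ n, Coh.IsQCoh (F.X n)) (hW : IsAffineOpen W)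
    (b : Gc W ⟶ F) (hb : hom F b = 0) : Nonempty (Homotopy b 0) := by
  obtain ⟨g', hg'⟩ := lift_of_comp_cokernel_eq_zero (hF (-1)) (isQCoh_cycles F hF 0)
    (F.toCycles (-1) 0) (F.homologyπ 0) (by simp) (F.homologyIsCokernel (-1) 0 (by simp)) hW
    (cyc F b) hb
  refine ⟨homotopyOfEq F W b (sec W _ g') ?_⟩
  rw [← sec_comp, cocycle]
  congr 1
  rw [← F.toCycles_i (-1) 0, ← Category.assoc, hg', cyc_i]

/-- (D-surj) every class is the class of a chain map -/
theorem exists_hom_eq (hF : ∀ n, Coh.IsQCoh (F.X n)) (hW : IsAffineOpen W)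
    (h : G W ⟶ F.homology 0) : ∃ b : Gc W ⟶ F, hom F b = h := by
  obtain ⟨g', hg'⟩ := lift_cokernel (hF (-1)) (isQCoh_cycles F hF 0)
    (F.toCycles (-1) 0) (F.homologyπ 0) (by simp) (F.homologyIsCokernel (-1) 0 (by simp)) hW h
  have hs : (F.d 0 1).app W (sec W _ (g' ≫ F.iCycles 0)) = 0 := by
    rw [← sec_comp, Category.assoc, F.iCycles_d, comp_zero, sec_zero]
  refine ⟨ofCocycle F W (sec W _ (g' ≫ F.iCycles 0)) hs, ?_⟩
  rw [hom, ← hg']
  congr 1
  rw [← cancel_mono (F.iCycles 0), cyc_i, ofCocycle, HomologicalComplex.mkHomFromSingle_f,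
    Iso.inv_hom_id_assoc, Equiv.symm_apply_apply]

/-! ### comparison with the derived category -/

/-- `H^0(GD W) ≅ G W` -/
noncomputable def e1 (W : X.Opens) :
    (DerivedCategory.homologyFunctor X.Modules 0).obj (GD W) ≅ G W :=
  (DerivedCategory.homologyFunctorFactors X.Modules 0).app (Gc W) ≪≫
    HomologicalComplex.singleObjHomologySelfIso (ComplexShape.up ℤ) 0 (G W)

/-- `H^0(Q F) ≅ H^0(F)` -/
noncomputable def e2 :
    (DerivedCategory.homologyFunctor X.Modules 0).obj (DerivedCategory.Q.obj F) ≅ F.homology 0 :=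
  (DerivedCategory.homologyFunctorFactors X.Modules 0).app F

/-- the `H^0` of `Q.map b` in terms of the class of `b` -/
lemma H0_Q_map (b : Gc W ⟶ F) :
    (DerivedCategory.homologyFunctor X.Modules 0).map (DerivedCategory.Q.map b) =
      (e1 W).hom ≫ hom F b ≫ (e2 F).inv := by
  have nat := (DerivedCategory.homologyFunctorFactors X.Modules 0).hom.naturality b
  rw [← cancel_mono (e2 F).hom, Category.assoc, Category.assoc, Iso.inv_hom_id, Category.comp_id,
    hom_eq]
  refine nat.trans ?_
  have h1 : (e1 W).hom = (DerivedCategory.homologyFunctorFactors X.Modules 0).hom.app (Gc W) ≫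
      (HomologicalComplex.singleObjHomologySelfIso (ComplexShape.up ℤ) 0 (G W)).hom := rfl
  have h2 : (HomologicalComplex.singleObjHomologySelfIso (ComplexShape.up ℤ) 0 (G W)).hom ≫
      (HomologicalComplex.singleObjHomologySelfIso (ComplexShape.up ℤ) 0 (G W)).inv ≫
        HomologicalComplex.homologyMap b 0 = HomologicalComplex.homologyMap b 0 :=
    Iso.hom_inv_id_assoc _ _
  rw [h1, Category.assoc]
  exact congrArg (fun z => (DerivedCategory.homologyFunctorFactors X.Modules 0).hom.app (Gc W) ≫ z)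
    h2.symm

/-- (INJ) chain maps from `Gc W` to a complex with quasi-coherent terms that vanish in the
derived category are null-homotopic -/
theorem homotopy_of_Q_map_eq_zero' (hF : ∀ n, Coh.IsQCoh (F.X n)) (hW : IsAffineOpen W)
    (b : Gc W ⟶ F) (hb : DerivedCategory.Q.map b = 0) : Nonempty (Homotopy b 0) := by
  apply homotopy_of_hom_eq_zero F hF hW
  have h := H0_Q_map F b
  rw [hb, Functor.map_zero] at h
  rw [← cancel_epi (e1 W).hom, ← cancel_mono (e2 F).inv, Category.assoc, ← h, comp_zero,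
    zero_comp]

/-- (SURJ) morphisms from `GD W` to a complex with quasi-coherent terms in the derived category
are represented by chain maps -/
theorem exists_chain' (hF : ∀ n, Coh.IsQCoh (F.X n)) (hW : IsAffineOpen W)
    (α : GD W ⟶ DerivedCategory.Q.obj F) : ∃ b : Gc W ⟶ F, DerivedCategory.Q.map b = α := by
  obtain ⟨b, hb⟩ := exists_hom_eq F hF hW
    ((e1 W).inv ≫ (DerivedCategory.homologyFunctor X.Modules 0).map α ≫ (e2 F).hom)
  refine ⟨b, ?_⟩
  rw [← sub_eq_zero]
  apply H0_injective_of_isQCohD W hW _ (isQCohD_Q F hF)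
  rw [Functor.map_sub, sub_eq_zero, H0_Q_map, hb]
  simp

/-! ### sections over affine opens of the cone of a K-injective resolution -/

omit F in
/-- `Q.map` is `Qh.map ∘ quotient.map` -/
lemma Q_map_eq {K L : CochainComplex X.Modules ℤ} (f : K ⟶ L) :
    DerivedCategory.Q.map f =
      DerivedCategory.Qh.map ((HomotopyCategory.quotient _ _).map f) := rfl

omit F in
/-- (C₀) every chain map from `Gc W` to the cone of a quasi-isomorphism from a complex with
quasi-coherent terms to a K-injective complex is null-homotopic -/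
theorem homotopy_zero_of_cone {F I : CochainComplex X.Modules ℤ} (a : F ⟶ I) [I.IsKInjective]
    [QuasiIso a] (hF : ∀ n, Coh.IsQCoh (F.X n)) (hW : IsAffineOpen W)
    (c : Gc W ⟶ CochainComplex.mappingCone a) : Nonempty (Homotopy c 0) := by
  let q := HomotopyCategory.quotient X.Modules (ComplexShape.up ℤ)
  have hT := HomotopyCategory.mappingCone_triangleh_distinguished a
  let δ : CochainComplex.mappingCone a ⟶ F⟦(1 : ℤ)⟧ := (CochainComplex.mappingCone.triangle a).mor₃
  -- `δ ≫ a⟦1⟧'` vanishes in the homotopy category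
  have h31 : (q.map δ ≫ (q.commShiftIso (1 : ℤ)).hom.app F) ≫ (q.map a)⟦(1 : ℤ)⟧' = 0 :=
    comp_distTriang_mor_zero₃₁ _ hT
  have nat' : q.map (a⟦(1 : ℤ)⟧') ≫ (q.commShiftIso (1 : ℤ)).hom.app I =
      (q.commShiftIso (1 : ℤ)).hom.app F ≫ (q.map a)⟦(1 : ℤ)⟧' :=
    (q.commShiftIso (1 : ℤ)).hom.naturality a
  have hδ : q.map δ ≫ q.map (a⟦(1 : ℤ)⟧') = 0 := by
    rw [← cancel_mono ((q.commShiftIso (1 : ℤ)).hom.app I), zero_comp, Category.assoc, nat',
      ← Category.assoc]
    exact h31
  -- step 1: `c ≫ δ` is null-homotopic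
  have hδ' : (HomotopyCategory.quotient X.Modules (ComplexShape.up ℤ)).map
      (c ≫ δ ≫ a⟦(1 : ℤ)⟧') = 0 := by
    rw [Functor.map_comp, Functor.map_comp]
    exact (congrArg (fun z => q.map c ≫ z) hδ).trans comp_zero
  have h1 : Nonempty (Homotopy (c ≫ δ) 0) := by
    apply homotopy_of_Q_map_eq_zero' (F⟦(1 : ℤ)⟧) (fun n => hF (n + 1)) hW
    haveI : IsIso (DerivedCategory.Q.map (a⟦(1 : ℤ)⟧')) := inferInstance
    rw [← cancel_mono (DerivedCategory.Q.map (a⟦(1 : ℤ)⟧')), zero_comp, ← Functor.map_comp,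
      Category.assoc, Q_map_eq, hδ', Functor.map_zero]
    rfl
  obtain ⟨H1⟩ := h1
  have h1' : q.map c ≫ (q.map δ ≫ (q.commShiftIso (1 : ℤ)).hom.app F) = 0 := by
    rw [← Category.assoc, ← Functor.map_comp, HomotopyCategory.eq_of_homotopy _ _ H1,
      Functor.map_zero, zero_comp]
  -- step 2: `c` factors through `I` up to homotopy
  obtain ⟨g, hg⟩ := Triangle.coyoneda_exact₃ _ hT (q.map c) h1'
  obtain ⟨(b' : Gc W ⟶ I), rfl⟩ := q.map_surjective g
  have hg' : q.map c = q.map b' ≫ q.map (CochainComplex.mappingCone.inr a) := hg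
  -- step 3: `b'` factors through `a` up to homotopy
  haveI : IsIso (DerivedCategory.Q.map a) := inferInstance
  obtain ⟨b'', hb''⟩ := exists_chain' F hF hW
    (DerivedCategory.Q.map b' ≫ inv (DerivedCategory.Q.map a))
  obtain ⟨H2⟩ := homotopy_of_Q_map_eq_zero I W (b'' ≫ a - b') (by
    rw [Functor.map_sub, Functor.map_comp, hb'', Category.assoc, IsIso.inv_hom_id,
      Category.comp_id, sub_self])
  have h2 : q.map b' = q.map b'' ≫ q.map a := by
    have := HomotopyCategory.eq_of_homotopy _ _ H2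
    rw [Functor.map_sub, Functor.map_zero, sub_eq_zero, Functor.map_comp] at this
    exact this.symm
  have h12 : q.map a ≫ q.map (CochainComplex.mappingCone.inr a) = 0 :=
    comp_distTriang_mor_zero₁₂ _ hT
  have hc : q.map c = 0 := by
    rw [hg', h2, Category.assoc, h12, comp_zero]
  exact ⟨HomotopyCategory.homotopyOfEq c 0 (by rw [hc, Functor.map_zero])⟩

omit F in
/-- (C₀) in all degrees -/
theorem homotopy_zero_of_cone_shift {F I : CochainComplex X.Modules ℤ} (a : F ⟶ I)
    [I.IsKInjective] [QuasiIso a] (hF : ∀ n, Coh.IsQCoh (F.X n)) (hW : IsAffineOpen W) (n : ℤ)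
    (c : Gc W ⟶ (CochainComplex.mappingCone a)⟦n⟧) : Nonempty (Homotopy c 0) := by
  obtain ⟨H⟩ := homotopy_zero_of_cone (a⟦n⟧') (fun m => hF (m + n)) hW
    (c ≫ (CochainComplex.mappingCone.shiftIso a n).hom)
  have hc : c = (c ≫ (CochainComplex.mappingCone.shiftIso a n).hom) ≫
      (CochainComplex.mappingCone.shiftIso a n).inv := by
    rw [Category.assoc, Iso.hom_inv_id, Category.comp_id]
  rw [hc]
  exact ⟨(H.compRight (CochainComplex.mappingCone.shiftIso a n).inv).trans
    (Homotopy.ofEq (by rw [zero_comp]))⟩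

omit F W in
lemma units_smul_app_eq_zero_iff {M N : X.Modules} (ε : ℤˣ) (φ : M ⟶ N) (U : X.Opens)
    (s : Γ(M, U)) : (ε • φ).app U s = 0 ↔ φ.app U s = 0 := by
  rcases Int.units_eq_one_or ε with rfl | rfl
  · rw [one_smul]
  · rw [Units.neg_smul, one_smul]
    change -(φ.app U s) = 0 ↔ _
    exact neg_eq_zero

omit F W in
lemma exists_of_units_smul {M N : X.Modules} (ε : ℤˣ) (φ : M ⟶ N) (U : X.Opens) (t : Γ(M, U))
    (s : Γ(N, U)) (h : (ε • φ).app U t = s) : ∃ t', φ.app U t' = s := by
  rcases Int.units_eq_one_or ε with rfl | rfl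
  · exact ⟨t, by rwa [one_smul] at h⟩
  · refine ⟨-t, ?_⟩
    rw [Units.neg_smul, one_smul] at h
    rw [map_neg]
    exact h

omit F in
/-- complexes all of whose chain maps from `Gc W` to shifts are null-homotopic have exact
sections over `W` -/
theorem exists_section_lift_aux (J : CochainComplex X.Modules ℤ)
    (hJ : ∀ (n : ℤ) (c : Gc W ⟶ J⟦n⟧), Nonempty (Homotopy c 0)) (n : ℤ)
    (s : Γ(J.X (0 + n), W)) (hs : (J.d (0 + n) (1 + n)).app W s = 0) :
    ∃ t : Γ(J.X (-1 + n), W), (J.d (-1 + n) (0 + n)).app W t = s := by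
  have hs' : ((J⟦n⟧).d 0 1).app W s = 0 := by
    rw [CochainComplex.shiftFunctor_obj_d']
    exact (units_smul_app_eq_zero_iff _ _ _ _).2 hs
  obtain ⟨H⟩ := hJ n (ofCocycle (J⟦n⟧) W s hs')
  obtain ⟨t, ht⟩ := exists_of_homotopy (J⟦n⟧) W _ H
  rw [cocycle_ofCocycle, CochainComplex.shiftFunctor_obj_d'] at ht
  exact exists_of_units_smul _ _ _ t s ht

omit F in
/-- **sections over an affine open of the cone of a K-injective resolution of a complex with
quasi-coherent terms are exact** -/
theorem exists_section_lift {F I : CochainComplex X.Modules ℤ} (a : F ⟶ I)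
    [I.IsKInjective] [QuasiIso a] (hF : ∀ n, Coh.IsQCoh (F.X n)) (hW : IsAffineOpen W)
    (i j k : ℤ) (hij : i + 1 = j) (hjk : j + 1 = k)
    (s : Γ((CochainComplex.mappingCone a).X j, W))
    (hs : ((CochainComplex.mappingCone a).d j k).app W s = 0) :
    ∃ t : Γ((CochainComplex.mappingCone a).X i, W),
      ((CochainComplex.mappingCone a).d i j).app W t = s := by
  have key : ∀ (n i j k : ℤ) (hi : i = -1 + n) (hj : j = 0 + n) (hk : k = 1 + n)
      (s : Γ((CochainComplex.mappingCone a).X j, W))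
      (hs : ((CochainComplex.mappingCone a).d j k).app W s = 0),
      ∃ t : Γ((CochainComplex.mappingCone a).X i, W),
        ((CochainComplex.mappingCone a).d i j).app W t = s := by
    intro n i j k hi hj hk
    subst hi hj hk
    exact exists_section_lift_aux _ (homotopy_zero_of_cone_shift a hF hW) n
  exact key j i j k (by omega) (by omega) (by omega) s hs

end Groth.Agent.Lib.Helper26.LC8
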