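import Mathlib
import Groth.Agent.Lib.Helper26.LC8
import Groth.Agent.Lib.Helper4.QCZero

set_option maxHeartbeats 400000
set_option linter.style.haveILetI false
set_option linter.unusedSectionVars false
set_option linter.unusedVariables false

universe u

open CategoryTheory CategoryTheory.Limits AlgebraicGeometry Opposite ZeroObject TopologicalSpace

namespace Groth.Agent.Lib.Helper26.LC10

open Groth.Agent.Lib.Helper26 Groth.Agent.Lib.Helper26.LC1 Groth.Agent.Lib.Helper26.LC8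

variable {X : Scheme.{u}}

/-- a quasi-coherent module without nonzero sections over the members of an affine open cover
vanishes -/
theorem isZero_of_affine_cover (K : X.Modules) [K.IsQuasicoherent] (𝒰 : Set X.Opens)
    (h𝒰 : ∀ W ∈ 𝒰, IsAffineOpen W) (hcov : ∀ x : X, ∃ W ∈ 𝒰, x ∈ W)
    (h : ∀ W ∈ 𝒰, ∀ s : Γ(K, W), s = 0) : IsZero K := by
  refine Groth.Agent.Lib.Helper28.QCohLoc.isZero_of_sections_zero K (fun U x => ?_)
  refine Groth.Agent.Lib.Helper28.QCohLoc.eq_of_locally_eq K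
    (fun V : Σ W : 𝒰, {r : Γ(X, W.1) // X.basicOpen r ≤ U} => X.basicOpen V.2.1) U
    (fun V => V.2.2) ?_ x 0 (fun V => ?_)
  · intro y hy
    obtain ⟨W, hW, hyW⟩ := hcov y
    obtain ⟨r, hr, hyr⟩ := (h𝒰 W hW).exists_basicOpen_le ⟨y, hy⟩ hyW
    exact Opens.mem_iSup.mpr ⟨⟨⟨W, hW⟩, ⟨r, hr⟩⟩, hyr⟩
  · have hsub : Subsingleton Γ(K, V.1.1) :=
      ⟨fun a b => (h _ V.1.2 a).trans (h _ V.1.2 b).symm⟩
    rw [Groth.Agent.Lib.Helper4.QCZero.eq_zero_of_subsingleton K (h𝒰 _ V.1.2) hsub V.2.1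
      (Groth.Agent.Lib.Helper28.QCohLoc.res K V.2.2 x)]
    exact (Groth.Agent.Lib.Helper4.QCZero.eq_zero_of_subsingleton K (h𝒰 _ V.1.2) hsub V.2.1 _).symm

/-- a morphism of quasi-coherent modules inducing bijections on maps from `j_!O_W` for the members
`W` of an affine open cover is an isomorphism -/
theorem isIso_of_affine_cover {A B : X.Modules} (hA : Coh.IsQCoh A) (hB : Coh.IsQCoh B) (φ : A ⟶ B)
    (𝒰 : Set X.Opens) (h𝒰 : ∀ W ∈ 𝒰, IsAffineOpen W) (hcov : ∀ x : X, ∃ W ∈ 𝒰, x ∈ W)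
    (h : ∀ W ∈ 𝒰, Function.Bijective (fun g : G W ⟶ A => g ≫ φ)) : IsIso φ := by
  haveI : A.IsQuasicoherent := hA
  haveI : B.IsQuasicoherent := hB
  haveI : (kernel φ).IsQuasicoherent := Groth.Agent.Lib.Helper17.CohKer.isQuasicoherent_kernel φ
  haveI : (cokernel φ).IsQuasicoherent :=
    Groth.Agent.Lib.Helper17.CohKer.isQuasicoherent_cokernel φ
  have hk : IsZero (kernel φ) := by
    apply isZero_of_affine_cover _ 𝒰 h𝒰 hcov
    intro W hW s
    obtain ⟨g, rfl⟩ := (sec W (kernel φ)).surjective s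
    have : g ≫ kernel.ι φ = 0 := by
      apply (h W hW).1
      change (g ≫ kernel.ι φ) ≫ φ = 0 ≫ φ
      rw [Category.assoc, kernel.condition, comp_zero, zero_comp]
    have hg : g = 0 := by
      rw [← cancel_mono (kernel.ι φ), this, zero_comp]
    rw [hg, sec_zero]
  have hc : IsZero (cokernel φ) := by
    apply isZero_of_affine_cover _ 𝒰 h𝒰 hcov
    intro W hW s
    obtain ⟨g, rfl⟩ := (sec W (cokernel φ)).surjective s
    obtain ⟨g', hg'⟩ := lift_cokernel hA hB φ (cokernel.π φ) (cokernel.condition φ)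
      (cokernelIsCokernel φ) (h𝒰 W hW) g
    obtain ⟨g'', hg''⟩ := (h W hW).2 g'
    have hg''' : g'' ≫ φ = g' := hg''
    rw [← hg', ← hg''', Category.assoc, cokernel.condition, comp_zero, sec_zero]
  haveI : Mono φ := Preadditive.mono_of_kernel_zero (hk.eq_of_src _ _)
  haveI : Epi φ := Preadditive.epi_of_cokernel_zero (hc.eq_of_tgt _ _)
  exact isIso_of_mono_of_epi φ

end Groth.Agent.Lib.Helper26.LC10
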