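import Mathlib
import Groth.Agent.Lib.Helper26.LC10

set_option maxHeartbeats 400000
set_option linter.style.haveILetI false
set_option linter.unusedSectionVars false
set_option linter.unusedVariables false

universe u

open CategoryTheory CategoryTheory.Limits AlgebraicGeometry Opposite ZeroObject TopologicalSpace

namespace Groth.Agent.Lib.Helper26.LC11

open Groth.Agent.Lib.Helper26 Groth.Agent.Lib.Helper26.LC1 Groth.Agent.Lib.Helper26.LC5
  Groth.Agent.Lib.Helper26.LC7 Groth.Agent.Lib.Helper26.LC8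

attribute [local instance] HasDerivedCategory.standard

variable {X : Scheme.{u}}

/-- shifts of objects of `D_QCoh` are in `D_QCoh` -/
lemma isQCohD_shift (E : DCoh.D X) (hE : DCoh.IsQCohD E) (n : ℤ) : DCoh.IsQCohD (E⟦n⟧) := by
  intro i
  exact isQCoh_of_iso
    (((DerivedCategory.homologyFunctor X.Modules 0).shiftIso n i (n + i) rfl).app E).symm
    (hE (n + i))

/-- isomorphic objects -/
lemma isQCohD_of_iso {E E' : DCoh.D X} (e : E ≅ E') (hE : DCoh.IsQCohD E) : DCoh.IsQCohD E' := by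
  intro i
  exact isQCoh_of_iso ((DerivedCategory.homologyFunctor X.Modules i).mapIso e) (hE i)

/-- the class map `Hom_D(j_!O_W, E) ⟶ Hom(j_!O_W, H^0(E))` -/
noncomputable def cls (W : X.Opens) (E : DCoh.D X) (α : GD W ⟶ E) :
    G W ⟶ (DerivedCategory.homologyFunctor X.Modules 0).obj E :=
  (e1 W).inv ≫ (DerivedCategory.homologyFunctor X.Modules 0).map α

lemma cls_comp (W : X.Opens) {E E' : DCoh.D X} (α : GD W ⟶ E) (ψ : E ⟶ E') :
    cls W E' (α ≫ ψ) = cls W E α ≫ (DerivedCategory.homologyFunctor X.Modules 0).map ψ := by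
  rw [cls, cls, Functor.map_comp, Category.assoc]

lemma cls_bijective (W : X.Opens) (hW : IsAffineOpen W) (E : DCoh.D X) (hE : DCoh.IsQCohD E) :
    Function.Bijective (cls W E) := by
  constructor
  · intro α β h
    rw [← sub_eq_zero]
    apply H0_injective_of_isQCohD W hW E hE
    rw [Functor.map_sub, sub_eq_zero]
    rw [cls, cls] at h
    exact (cancel_epi (e1 W).inv).1 h
  · intro g
    obtain ⟨α, hα⟩ := H0_surjective_of_isQCohD W hW E hE ((e1 W).hom ≫ g)
    exact ⟨α, by rw [cls, hα, Iso.inv_hom_id_assoc]⟩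

/-- bijectivity on classes passes to `H^0` -/
lemma bijective_H0 (W : X.Opens) (hW : IsAffineOpen W) {E E' : DCoh.D X} (hE : DCoh.IsQCohD E)
    (hE' : DCoh.IsQCohD E') (ψ : E ⟶ E')
    (h : Function.Bijective (fun α : GD W ⟶ E => α ≫ ψ)) :
    Function.Bijective (fun g : G W ⟶ (DerivedCategory.homologyFunctor X.Modules 0).obj E =>
      g ≫ (DerivedCategory.homologyFunctor X.Modules 0).map ψ) := by
  have comm : (fun g : G W ⟶ (DerivedCategory.homologyFunctor X.Modules 0).obj E =>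
      g ≫ (DerivedCategory.homologyFunctor X.Modules 0).map ψ) ∘ cls W E =
      cls W E' ∘ (fun α : GD W ⟶ E => α ≫ ψ) := by
    funext α
    exact (cls_comp W α ψ).symm
  rw [← Function.Bijective.of_comp_iff _ (cls_bijective W hW E hE), comm]
  exact (cls_bijective W hW E' hE').comp h

/-- **detection of isomorphisms in `D_QCoh` by the objects `j_!O_W[n]`, `W` in an affine
open cover** -/
theorem isIso_of_bijective {Y Y' : DCoh.D X} (hY : DCoh.IsQCohD Y) (hY' : DCoh.IsQCohD Y')
    (φ : Y ⟶ Y') (𝒰 : Set X.Opens) (h𝒰 : ∀ W ∈ 𝒰, IsAffineOpen W)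
    (hcov : ∀ x : X, ∃ W ∈ 𝒰, x ∈ W)
    (h : ∀ W ∈ 𝒰, ∀ n : ℤ, Function.Bijective (fun g : GD W ⟶ Y⟦n⟧ => g ≫ φ⟦n⟧')) :
    IsIso φ := by
  rw [DerivedCategory.isIso_iff]
  intro n
  have h0 : IsIso ((DerivedCategory.homologyFunctor X.Modules 0).map (φ⟦n⟧')) := by
    apply Groth.Agent.Lib.Helper26.LC10.isIso_of_affine_cover (isQCohD_shift Y hY n 0) (isQCohD_shift Y' hY' n 0) _ 𝒰 h𝒰 hcov
    intro W hW
    exact bijective_H0 W (h𝒰 W hW) (isQCohD_shift Y hY n) (isQCohD_shift Y' hY' n) _ (h W hW n)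
  exact (NatIso.isIso_map_iff
    ((DerivedCategory.homologyFunctor X.Modules 0).shiftIso n 0 n (add_zero n)) φ).1 h0

end Groth.Agent.Lib.Helper26.LC11
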