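import Mathlib
import Groth.Agent.Lib.Helper26.KInjAdjH

set_option maxHeartbeats 400000
set_option linter.style.haveILetI false
set_option linter.unusedSectionVars false
set_option linter.unusedVariables false

universe w w' v v' u u'

open CategoryTheory CategoryTheory.Limits

namespace Groth.Agent.Lib.Helper26.LC12

open Groth.Agent.Lib.Helper26.KInjAdjH

variable {A : Type u} {B : Type u'} [Category.{v} A] [Category.{v'} B] [Abelian A] [Abelian B]
  [IsGrothendieckAbelian.{v'} B] [HasDerivedCategory.{w} A] [HasDerivedCategory.{w'} B]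
  (F : A ⥤ B) (G : B ⥤ A) (adj : F ⊣ G) [F.Additive] [G.Additive]
  [PreservesFiniteLimits F] [PreservesFiniteColimits F]

include adj in
/-- if the unit of the adjunction is an isomorphism and the derived functor of the right adjoint
is computed termwise on the image of the left adjoint, the derived unit is an isomorphism -/
theorem derivedAdjH_unit_isIso [IsIso adj.unit]
    (RG : DerivedCategory B ⥤ DerivedCategory A)
    (α : G.mapHomotopyCategory (ComplexShape.up ℤ) ⋙ DerivedCategory.Qh ⟶
      DerivedCategory.Qh ⋙ RG)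
    [RG.IsRightDerivedFunctor α (HomotopyCategory.quasiIso B (ComplexShape.up ℤ))]
    (hα : ∀ K : HomotopyCategory A (ComplexShape.up ℤ),
      IsIso (α.app ((F.mapHomotopyCategory (ComplexShape.up ℤ)).obj K))) :
    ∃ adj' : F.mapDerivedCategory ⊣ RG, IsIso adj'.unit := by
  let W₁ := HomotopyCategory.quasiIso A (ComplexShape.up ℤ)
  let W₂ := HomotopyCategory.quasiIso B (ComplexShape.up ℤ)
  let β : DerivedCategory.Qh ⋙ F.mapDerivedCategory ⟶
      F.mapHomotopyCategory (ComplexShape.up ℤ) ⋙ DerivedCategory.Qh :=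
    F.mapDerivedCategoryFactorsh.hom
  have hinv : W₁.IsInvertedBy (F.mapHomotopyCategory (ComplexShape.up ℤ) ⋙ DerivedCategory.Qh) :=
    (MorphismProperty.IsInvertedBy.iff_of_iso W₁ F.mapDerivedCategoryFactorsh).1
      (MorphismProperty.IsInvertedBy.of_comp _ _ (Localization.inverts DerivedCategory.Qh W₁) _)
  have hβ : IsIso β := inferInstance
  have i1 : F.mapDerivedCategory.IsLeftDerivedFunctor β W₁ :=
    (Functor.isLeftDerivedFunctor_iff_of_inverts _ β hinv).2 hβ
  have i2 : (F.mapDerivedCategory ⋙ RG).IsLeftDerivedFunctor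
      ((Functor.associator _ _ _).inv ≫ Functor.whiskerRight β RG) W₁ :=
    (Functor.isLeftDerivedFunctor_iff_of_inverts _ _
      (MorphismProperty.IsInvertedBy.of_comp _ _ hinv _)).2 inferInstance
  have := Groth.Agent.Lib.Helper8.KInjDer.isRightDerivabilityStructure (hK (B := B))
  have i3 : (RG ⋙ F.mapDerivedCategory).IsRightDerivedFunctor
      (Functor.whiskerRight α F.mapDerivedCategory ≫ (Functor.associator _ _ _).hom) W₂ :=
    (Groth.Agent.Lib.Helper8.KInjDer.derives _).isRightDerivedFunctor_of_isIso _ (fun X => by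
      have := (Groth.Agent.Lib.Helper8.KInjDer.derives
        (G.mapHomotopyCategory (ComplexShape.up ℤ) ⋙ DerivedCategory.Qh)).isIso_of_isRightDerivedFunctor α X
      dsimp
      infer_instance)
  let adjH := Groth.Agent.Lib.Helper6.DerivedAdj.adjH adj (ComplexShape.up ℤ)
  refine ⟨adjH.derived W₁ W₂ β α, ?_⟩
  rw [Adjunction.derived_unit, NatTrans.isIso_iff_isIso_app]
  intro Y
  rw [NatTrans.isIso_app_iff_of_iso _ (DerivedCategory.Qh.objObjPreimageIso Y).symm]
  set X₁ := DerivedCategory.Qh.objPreimage Y
  have h1 := adjH.derivedη_fac_app W₁ β α X₁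
  have hu : IsIso (adjH.unit.app X₁) := by
    have : ∀ i, IsIso (((Groth.Agent.Lib.Helper6.DerivedAdj.unitCx adj (ComplexShape.up ℤ)).app
        X₁.as).f i) := fun i => by
      change IsIso (adj.unit.app (X₁.as.X i))
      infer_instance
    have h' : IsIso ((Groth.Agent.Lib.Helper6.DerivedAdj.unitCx adj (ComplexShape.up ℤ)).app
        X₁.as) :=
      HomologicalComplex.Hom.isIso_of_components _
    exact ((HomotopyCategory.quotient A (ComplexShape.up ℤ)).mapIso
      (@asIso _ _ _ _ _ h')).isIso_hom
  have := hα X₁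
  have h2 : IsIso ((adjH.derivedη W₁ β α).app (DerivedCategory.Qh.obj X₁) ≫
      RG.map (β.app X₁)) := by
    rw [h1]
    infer_instance
  exact IsIso.of_isIso_comp_right _ (RG.map (β.app X₁))

end Groth.Agent.Lib.Helper26.LC12
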