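import Mathlib
import Groth.Prelude.Def_DCoh4
import Groth.Agent.Lib.Helper16.PB2
import Groth.Agent.Lib.Helper16.FRes2
import Groth.Agent.Lib.Helper16.BiCx4
import Groth.Agent.Lib.Helper6.DerivedAdj

set_option maxHeartbeats 400000
set_option linter.style.haveILetI false
set_option linter.unusedSectionVars false

universe u

open CategoryTheory CategoryTheory.Limits AlgebraicGeometry Opposite ZeroObject

namespace Groth.Agent.Lib.Helper26.RGPushA

open Pretriangulated CochainComplex

variable {X Y : Scheme.{u}}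

/-- the quotient functor to the homotopy category -/
noncomputable abbrev q (Y : Scheme.{u}) := HomotopyCategory.quotient Y.Modules (ComplexShape.up ℤ)

/-- right orthogonal (at chain level, up to homotopy) to acyclic K-flat complexes -/
def RO (M : CochainComplex Y.Modules ℤ) : Prop :=
  ∀ (Fl : CochainComplex Y.Modules ℤ), DCoh.IsKFlat Fl → Fl.Acyclic →
    ∀ t : Fl ⟶ M, Nonempty (Homotopy t 0)

lemma RO.of_iso {M M' : CochainComplex Y.Modules ℤ} (h : RO M) (e : M ≅ M') : RO M' := by
  intro Fl h1 h2 t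
  obtain ⟨H⟩ := h Fl h1 h2 (t ≫ e.inv)
  exact ⟨(Homotopy.ofEq (by simp)).trans ((H.compRight e.hom).trans (Homotopy.ofEq (by simp)))⟩

lemma RO.of_isKInjective (J : CochainComplex Y.Modules ℤ) [J.IsKInjective] : RO J :=
  fun _ _ h2 t => ⟨IsKInjective.homotopyZero t h2⟩

/-- the direct image of a K-injective complex is right orthogonal to acyclic K-flat complexes -/
lemma RO.pushforward (f : X ⟶ Y) (B : CochainComplex X.Modules ℤ) [B.IsKInjective] :
    RO (((Scheme.Modules.pushforward f).mapHomologicalComplex (ComplexShape.up ℤ)).obj B) := by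
  intro Fl h1 h2 t
  let adjC := Groth.Agent.Lib.Helper6.DerivedAdj.adjCx
    (Scheme.Modules.pullbackPushforwardAdjunction f) (ComplexShape.up ℤ)
  let t' : ((Scheme.Modules.pullback f).mapHomologicalComplex _).obj Fl ⟶ B :=
    (adjC.homEquiv Fl B).symm t
  have hac : (((Scheme.Modules.pullback f).mapHomologicalComplex
      (ComplexShape.up ℤ)).obj Fl).Acyclic := by
    rw [← Groth.Agent.Lib.Helper16.BiCx.acyc_iff_acyclic]
    exact Groth.Agent.Lib.Helper16.Stk.acyc_pullback_of_acyc_of_isKFlat f Fl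
      ((Groth.Agent.Lib.Helper16.BiCx.acyc_iff_acyclic _).2 h2) h1
  have h' : Homotopy t' 0 := IsKInjective.homotopyZero t' hac
  have hf : t = adjC.unit.app Fl ≫
      ((Scheme.Modules.pushforward f).mapHomologicalComplex _).map t' := by
    have := adjC.homEquiv_unit (X := Fl) (Y := B) (f := t')
    rw [← this]
    simp [t']
  exact ⟨(Homotopy.ofEq hf).trans
    ((((Scheme.Modules.pushforward f).mapHomotopy h').compLeft (adjC.unit.app Fl)).trans
      (Homotopy.ofEq (by simp)))⟩

/-- cones: if `A⟦1⟧` is right orthogonal and `J` is K-injective then the cone of `A ⟶ J` is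
right orthogonal -/
lemma RO.cone {A J : CochainComplex Y.Modules ℤ} (a : A ⟶ J) [J.IsKInjective]
    (hA : RO (A⟦(1 : ℤ)⟧)) : RO (CochainComplex.mappingCone a) := by
  intro Fl h1 h2 t
  have hT := HomotopyCategory.mappingCone_triangleh_distinguished a
  have h0 : (q Y).map t ≫ (CochainComplex.mappingCone.triangleh a).mor₃ = 0 := by
    obtain ⟨H⟩ := hA Fl h1 h2 (t ≫ (CochainComplex.mappingCone.triangle a).mor₃)
    have e1 : (q Y).map (t ≫ (CochainComplex.mappingCone.triangle a).mor₃) = 0 :=
      (HomotopyCategory.eq_of_homotopy _ _ H).trans (Functor.map_zero _ _ _)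
    change (q Y).map t ≫ ((q Y).map ((CochainComplex.mappingCone.triangle a).mor₃) ≫ _) = 0
    rw [← Category.assoc, ← Functor.map_comp, e1, zero_comp]
  obtain ⟨g, hg⟩ := Triangle.coyoneda_exact₃ _ hT ((q Y).map t) h0
  obtain ⟨g', rfl⟩ : ∃ g' : Fl ⟶ J, (q Y).map g' = g := (q Y).map_surjective g
  have e2 : (q Y).map g' = 0 :=
    (HomotopyCategory.eq_of_homotopy _ _ (IsKInjective.homotopyZero g' h2)).trans
      (Functor.map_zero _ _ _)
  rw [e2] at hg
  exact ⟨HomotopyCategory.homotopyOfEq _ _
    (hg.trans (zero_comp.trans (Functor.map_zero (q Y) _ _).symm))⟩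

/-- maps from K-flat complexes to acyclic right orthogonal complexes are null homotopic -/
theorem homotopy_zero_of_isKFlat (M : CochainComplex Y.Modules ℤ) (hM : M.Acyclic) (hRO : RO M)
    (P : CochainComplex Y.Modules ℤ) (hP : DCoh.IsKFlat P) (s : P ⟶ M) :
    Nonempty (Homotopy s 0) := by
  obtain ⟨R, ψ, hR⟩ := Groth.Agent.Lib.Helper16.Stk.exists_functorial_kFlat_resolution Y
  -- the resolution of `M` is null homotopic
  have hMt : (R.obj M).Acyclic := by
    intro n
    have hq : QuasiIso (ψ.app M) := (hR M).2.2.1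
    have : QuasiIsoAt (ψ.app M) n := inferInstance
    exact (quasiIsoAt_iff_exactAt' (ψ.app M) n (hM n)).1 this
  obtain ⟨H1⟩ := hRO (R.obj M) (hR M).1 hMt (ψ.app M)
  have e1 : (q Y).map (ψ.app M) = 0 :=
    (HomotopyCategory.eq_of_homotopy _ _ H1).trans (Functor.map_zero _ _ _)
  have hnat : ψ.app P ≫ s = R.map s ≫ ψ.app M := (ψ.naturality s).symm
  -- the cone of the resolution of `P`
  have hq : QuasiIso (ψ.app P) := (hR P).2.2.1
  have hcK : DCoh.IsKFlat (CochainComplex.mappingCone (ψ.app P)) :=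
    (Groth.Agent.Lib.Helper16.BiCx.dcoh_isKFlat_mappingCone_two_out_of_three (ψ.app P)).1
      (hR P).1 hP
  have hcA : (CochainComplex.mappingCone (ψ.app P)).Acyclic := by
    have h := hq
    rw [← HomologicalComplex.mem_quasiIso_iff, ← HomotopyCategory.quotient_map_mem_quasiIso_iff,
      HomotopyCategory.quasiIso_eq_trW_subcategoryAcyclic] at h
    rw [← HomotopyCategory.quotient_obj_mem_subcategoryAcyclic_iff_acyclic]
    exact ((HomotopyCategory.subcategoryAcyclic Y.Modules).trW_iff_of_distinguished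
      (CochainComplex.mappingCone.triangleh (ψ.app P))
      (HomotopyCategory.mappingCone_triangleh_distinguished (ψ.app P))).1 h
  have hT := HomotopyCategory.mappingCone_triangleh_distinguished (ψ.app P)
  have h0 : (CochainComplex.mappingCone.triangleh (ψ.app P)).mor₁ ≫ (q Y).map s = 0 := by
    change (q Y).map (ψ.app P) ≫ (q Y).map s = 0
    rw [← Functor.map_comp, hnat, Functor.map_comp, e1, comp_zero]
  obtain ⟨g, hg⟩ := Triangle.yoneda_exact₂ _ hT ((q Y).map s) h0
  obtain ⟨g', rfl⟩ : ∃ g' : CochainComplex.mappingCone (ψ.app P) ⟶ M, (q Y).map g' = g :=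
    (q Y).map_surjective g
  obtain ⟨H2⟩ := hRO _ hcK hcA g'
  have e2 : (q Y).map g' = 0 :=
    (HomotopyCategory.eq_of_homotopy _ _ H2).trans (Functor.map_zero _ _ _)
  rw [e2] at hg
  exact ⟨HomotopyCategory.homotopyOfEq _ _
    (hg.trans (comp_zero.trans (Functor.map_zero (q Y) _ _).symm))⟩

end Groth.Agent.Lib.Helper26.RGPushA
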