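import Mathlib
import Groth.Prelude.Def_DCoh4
import Groth.Agent.Lib.Helper26.RGPushA
import Groth.Agent.Lib.Helper26.RGPushB
import Groth.Agent.Lib.Helper26.MVMod4
import Groth.Agent.Lib.Helper26.OpenBC1
import Groth.Agent.Lib.Helper26.KInjMain
import Groth.Agent.Lib.Helper26.KInjComp

set_option maxHeartbeats 400000
set_option linter.style.haveILetI false
set_option linter.unusedSectionVars false

universe u

open CategoryTheory CategoryTheory.Limits AlgebraicGeometry Opposite ZeroObject

namespace Groth.Agent.Lib.Helper26.RGPushC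

open Pretriangulated CochainComplex Groth.Agent.Lib.Helper26.RGPushA
  Groth.Agent.Lib.Helper26.RGPushB Groth.Agent.Lib.Helper26.MVMod4

attribute [local instance] HasDerivedCategory.standard

section Gen

variable {C : Type*} [Category C] [Abelian C]

lemma quasiIso_iff_acyclic_mappingCone {K L : CochainComplex C ℤ} (φ : K ⟶ L) :
    QuasiIso φ ↔ (CochainComplex.mappingCone φ).Acyclic := by
  rw [← HomologicalComplex.mem_quasiIso_iff, ← HomotopyCategory.quotient_map_mem_quasiIso_iff,
    HomotopyCategory.quasiIso_eq_trW_subcategoryAcyclic,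
    ← HomotopyCategory.quotient_obj_mem_subcategoryAcyclic_iff_acyclic]
  exact (HomotopyCategory.subcategoryAcyclic C).trW_iff_of_distinguished
    (CochainComplex.mappingCone.triangleh φ)
    (HomotopyCategory.mappingCone_triangleh_distinguished φ)

end Gen

variable {X Y : Scheme.{u}}

/-- global sections preserve a quasi-isomorphism to a K-injective complex whose source is
right orthogonal to acyclic K-flat complexes -/
theorem quasiIso_gamma_map {A J : CochainComplex Y.Modules ℤ} (a : A ⟶ J) [J.IsKInjective]
    [QuasiIso a] (hA : RO (A⟦(1 : ℤ)⟧)) :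
    QuasiIso (((DCoh.gammaAb Y).mapHomologicalComplex (ComplexShape.up ℤ)).map a) := by
  rw [quasiIso_iff_acyclic_mappingCone]
  have hM : (CochainComplex.mappingCone a).Acyclic :=
    (quasiIso_iff_acyclic_mappingCone a).1 inferInstance
  have hRO := RO.cone a hA
  have := acyclic_gamma (CochainComplex.mappingCone a)
    (fun n s => homotopy_zero_of_isKFlat _ hM hRO _ (isKFlat_unitAt Y n) s)
  intro n
  exact (this n).of_iso (CochainComplex.mappingCone.mapHomologicalComplexIso a (DCoh.gammaAb Y))

/-- the unit of `RΓ` is an isomorphism on complexes right orthogonal to acyclic K-flat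
complexes -/
theorem isIso_unit [DCoh.HasRΓ Y] (A : CochainComplex Y.Modules ℤ) (hA : RO (A⟦(1 : ℤ)⟧)) :
    IsIso (((DCoh.gammaKh Y).totalRightDerivedUnit DerivedCategory.Qh
      (HomotopyCategory.quasiIso Y.Modules (ComplexShape.up ℤ))).app ((q Y).obj A)) := by
  obtain ⟨J, a, hJ, hq, -, -⟩ := Groth.Agent.Lib.Helper26.KInjMain.main A
  let η := (DCoh.gammaKh Y).totalRightDerivedUnit DerivedCategory.Qh
      (HomotopyCategory.quasiIso Y.Modules (ComplexShape.up ℤ))
  have nat := η.naturality ((q Y).map a)
  have h1 : IsIso (η.app ((q Y).obj J)) :=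
    Groth.Agent.Lib.Helper26.KInjComp.isIso_unit_of_isKInjective (DCoh.gammaKh Y) _ η J
  have h2 : IsIso (DerivedCategory.Qh.map ((q Y).map a)) := by
    apply Localization.inverts DerivedCategory.Qh
      (HomotopyCategory.quasiIso Y.Modules (ComplexShape.up ℤ))
    rw [HomotopyCategory.quotient_map_mem_quasiIso_iff, HomologicalComplex.mem_quasiIso_iff]
    exact hq
  have h2' : IsIso ((DerivedCategory.Qh ⋙ DCoh.RΓ Y).map ((q Y).map a)) := by
    rw [Functor.comp_map]
    infer_instance
  have h3 : IsIso ((DCoh.gammaKh Y).map ((q Y).map a)) := by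
    have hq' := quasiIso_gamma_map a hA
    have : IsIso (DerivedCategory.Qh.map ((HomotopyCategory.quotient _ _).map
        (((DCoh.gammaAb Y).mapHomologicalComplex (ComplexShape.up ℤ)).map a))) := by
      apply Localization.inverts DerivedCategory.Qh
        (HomotopyCategory.quasiIso AddCommGrpCat (ComplexShape.up ℤ))
      rw [HomotopyCategory.quotient_map_mem_quasiIso_iff, HomologicalComplex.mem_quasiIso_iff]
      exact hq'
    exact this
  have : η.app ((q Y).obj A) = (DCoh.gammaKh Y).map ((q Y).map a) ≫ η.app ((q Y).obj J) ≫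
      inv ((DerivedCategory.Qh ⋙ DCoh.RΓ Y).map ((q Y).map a)) := by
    rw [← Category.assoc, nat, Category.assoc, IsIso.hom_inv_id, Category.comp_id]
  rw [this]
  infer_instance

/-- the shift of a direct image of a K-injective complex is right orthogonal -/
lemma RO_shift_pushforward (f : X ⟶ Y) (B : CochainComplex X.Modules ℤ) [B.IsKInjective] :
    RO ((((Scheme.Modules.pushforward f).mapHomologicalComplex (ComplexShape.up ℤ)).obj B)⟦(1 : ℤ)⟧) :=
  (RO.pushforward f (B⟦(1 : ℤ)⟧)).of_iso
    ((((Scheme.Modules.pushforward f).mapHomologicalComplex (ComplexShape.up ℤ)).commShiftIso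
      (1 : ℤ)).app B)

/-- direct images of K-injective complexes are acyclic for global sections -/
theorem isIso_unit_pushforward [DCoh.HasRΓ Y] (f : X ⟶ Y) (B : CochainComplex X.Modules ℤ)
    [B.IsKInjective] :
    IsIso (((DCoh.gammaKh Y).totalRightDerivedUnit DerivedCategory.Qh
      (HomotopyCategory.quasiIso Y.Modules (ComplexShape.up ℤ))).app ((q Y).obj
        (((Scheme.Modules.pushforward f).mapHomologicalComplex (ComplexShape.up ℤ)).obj B))) :=
  isIso_unit _ (RO_shift_pushforward f B)


/-- restriction of a direct image to an open as a direct image -/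
noncomputable def restrictPushIso (f : X ⟶ Y) (U : Y.Opens) (B : CochainComplex X.Modules ℤ) :
    (DCoh.restrictCx U).obj
      (((Scheme.Modules.pushforward f).mapHomologicalComplex (ComplexShape.up ℤ)).obj B) ≅
    ((Scheme.Modules.pushforward (f ∣_ U)).mapHomologicalComplex (ComplexShape.up ℤ)).obj
      ((DCoh.restrictCx (f ⁻¹ᵁ U)).obj B) :=
  (Functor.mapHomologicalComplexCompIso (Groth.Agent.Lib.Helper26.OpenBC1.bc f U)
    (ComplexShape.up ℤ)).app B ≪≫
  ((Functor.mapHomologicalComplexCompIso (Iso.refl
    (Scheme.Modules.restrictFunctor (f ⁻¹ᵁ U).ι ⋙ Scheme.Modules.pushforward (f ∣_ U)))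
    (ComplexShape.up ℤ)).symm).app B

/-- **Γ-acyclicity of restrictions of direct images of K-injective complexes** -/
theorem isIso_unit_restrict_pushforward (f : X ⟶ Y) (B : CochainComplex X.Modules ℤ)
    [B.IsKInjective] (U : Y.Opens) [DCoh.HasRΓ (U : Scheme.{u})] :
    IsIso (((DCoh.gammaKh (U : Scheme.{u})).totalRightDerivedUnit DerivedCategory.Qh
      (HomotopyCategory.quasiIso (U : Scheme.{u}).Modules (ComplexShape.up ℤ))).app
      ((HomotopyCategory.quotient (U : Scheme.{u}).Modules (ComplexShape.up ℤ)).obj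
        ((DCoh.restrictCx U).obj
          (((Scheme.Modules.pushforward f).mapHomologicalComplex (ComplexShape.up ℤ)).obj B)))) := by
  haveI : CochainComplex.IsKInjective ((DCoh.restrictCx (f ⁻¹ᵁ U)).obj B) :=
    isKInjective_restrict (f ⁻¹ᵁ U) B
  exact isIso_unit _ ((RO_shift_pushforward (f ∣_ U) ((DCoh.restrictCx (f ⁻¹ᵁ U)).obj B)).of_iso
    ((CategoryTheory.shiftFunctor (CochainComplex (U : Scheme.{u}).Modules ℤ) (1 : ℤ)).mapIso
      (restrictPushIso f U B).symm))

end Groth.Agent.Lib.Helper26.RGPushC
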