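import Mathlib
import Groth.Agent.Lib.Helper26.LC8
import Groth.Agent.Lib.Helper26.RGPushC

set_option maxHeartbeats 400000
set_option linter.style.haveILetI false
set_option linter.unusedSectionVars false
set_option linter.unusedVariables false

universe u

open CategoryTheory CategoryTheory.Limits AlgebraicGeometry Opposite ZeroObject Pretriangulated

namespace Groth.Agent.Lib.Helper26.LC9

open Groth.Agent.Lib.Helper26 Groth.Agent.Lib.Helper26.LC1 Groth.Agent.Lib.Helper26.LC8

attribute [local instance] HasDerivedCategory.standard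

variable {X S : Scheme.{u}}

/-- direct images along affine morphisms preserve quasi-isomorphisms from complexes with
quasi-coherent terms to K-injective complexes -/
theorem quasiIso_pushforward_map (f : X ⟶ S) [IsAffineHom f] {F I : CochainComplex X.Modules ℤ}
    (a : F ⟶ I) [I.IsKInjective] [QuasiIso a] (hF : ∀ n, Coh.IsQCoh (F.X n)) :
    QuasiIso (((Scheme.Modules.pushforward f).mapHomologicalComplex (ComplexShape.up ℤ)).map a) := by
  rw [RGPushC.quasiIso_iff_acyclic_mappingCone]
  intro n
  refine HomologicalComplex.ExactAt.of_iso ?_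
    (CochainComplex.mappingCone.mapHomologicalComplexIso a (Scheme.Modules.pushforward f))
  rw [HomologicalComplex.exactAt_iff' _ (n - 1) n (n + 1) (by simp) (by simp)]
  apply AffAcycA.exact_of_locally
  intro x V hxV s hs
  obtain ⟨_, ⟨(U : S.Opens), (hU : IsAffineOpen U), rfl⟩, (hxU : x ∈ U), (hUV : U ≤ V)⟩ :=
    S.isBasis_affineOpens.exists_subset_of_mem_open hxV V.isOpen
  have hW : IsAffineOpen (f ⁻¹ᵁ U) := hU.preimage f
  have hle : f ⁻¹ᵁ U ≤ f ⁻¹ᵁ V := fun y hy => hUV hy
  obtain ⟨t, ht⟩ := exists_section_lift a hF hW (n - 1) n (n + 1) (by simp) (by simp)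
    (res ((CochainComplex.mappingCone a).X n) hle s) (by
      rw [app_res]
      have hs' : ((CochainComplex.mappingCone a).d n (n + 1)).app (f ⁻¹ᵁ V) s = 0 := hs
      rw [hs', res_zero])
  exact ⟨U, hUV, hxU, t, ht⟩

/-- **for an affine morphism, `f_*` computes `Rf_*` on complexes with quasi-coherent terms** -/
theorem isIso_unit_of_affine (f : X ⟶ S) [IsAffineHom f] [DCoh.HasRpush f]
    (F : CochainComplex X.Modules ℤ) (hq : ∀ n : ℤ, Coh.IsQCoh (F.X n)) :
    IsIso (((DCoh.pushKh f).totalRightDerivedUnit DerivedCategory.Qh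
      (HomotopyCategory.quasiIso X.Modules (ComplexShape.up ℤ))).app
      ((HomotopyCategory.quotient X.Modules (ComplexShape.up ℤ)).obj F)) := by
  obtain ⟨J, a, hJ, hq', -, -⟩ := Groth.Agent.Lib.Helper26.KInjMain.main F
  let q := HomotopyCategory.quotient X.Modules (ComplexShape.up ℤ)
  let η := (DCoh.pushKh f).totalRightDerivedUnit DerivedCategory.Qh
      (HomotopyCategory.quasiIso X.Modules (ComplexShape.up ℤ))
  have nat := η.naturality (q.map a)
  have h1 : IsIso (η.app (q.obj J)) :=
    Groth.Agent.Lib.Helper26.KInjComp.isIso_unit_of_isKInjective (DCoh.pushKh f) _ η J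
  have h2 : IsIso (DerivedCategory.Qh.map (q.map a)) := by
    apply Localization.inverts DerivedCategory.Qh
      (HomotopyCategory.quasiIso X.Modules (ComplexShape.up ℤ))
    rw [HomotopyCategory.quotient_map_mem_quasiIso_iff, HomologicalComplex.mem_quasiIso_iff]
    exact hq'
  have h2' : IsIso ((DerivedCategory.Qh ⋙ DCoh.Rpush f).map (q.map a)) := by
    rw [Functor.comp_map]
    infer_instance
  have h3 : IsIso ((DCoh.pushKh f).map (q.map a)) := by
    have hq'' := quasiIso_pushforward_map f a hq
    have : IsIso (DerivedCategory.Qh.map ((HomotopyCategory.quotient _ _).map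
        (((Scheme.Modules.pushforward f).mapHomologicalComplex (ComplexShape.up ℤ)).map a))) := by
      apply Localization.inverts DerivedCategory.Qh
        (HomotopyCategory.quasiIso S.Modules (ComplexShape.up ℤ))
      rw [HomotopyCategory.quotient_map_mem_quasiIso_iff, HomologicalComplex.mem_quasiIso_iff]
      exact hq''
    exact this
  have : η.app (q.obj F) = (DCoh.pushKh f).map (q.map a) ≫ η.app (q.obj J) ≫
      inv ((DerivedCategory.Qh ⋙ DCoh.Rpush f).map (q.map a)) := by
    rw [← Category.assoc, nat, Category.assoc, IsIso.hom_inv_id, Category.comp_id]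
  rw [this]
  infer_instance

end Groth.Agent.Lib.Helper26.LC9
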