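import Mathlib
import Groth.Agent.Lib.Helper26.LC9
import Groth.Agent.Lib.Helper26.LC11
import Groth.Agent.Lib.Helper26.LC12

set_option maxHeartbeats 400000
set_option linter.style.haveILetI false
set_option linter.unusedSectionVars false
set_option linter.unusedVariables false

universe u

open CategoryTheory CategoryTheory.Limits AlgebraicGeometry Opposite ZeroObject TopologicalSpace

namespace Groth.Agent.Lib.Helper26.LC13

open Groth.Agent.Lib.Helper26 Groth.Agent.Lib.Helper26.LC1 Groth.Agent.Lib.Helper26.LC5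
  Groth.Agent.Lib.Helper26.LC7 Groth.Agent.Lib.Helper26.LC8 Groth.Agent.Lib.Helper26.MVMod4

attribute [local instance] HasDerivedCategory.standard

variable (R : CommRingCat.{u})

/-- the global sections functor `Mod(O_{Spec R}) ⥤ Mod(R)` -/
noncomputable abbrev ΓR : (Spec (CommRingCat.of R)).Modules ⥤ ModuleCat.{u} R :=
  moduleSpecΓFunctor (R := R)

instance : (ΓR R).Additive := (tilde.adjunction (R := R)).right_adjoint_additive

variable {R}

/-- global sections on an affine scheme preserve quasi-isomorphisms from complexes with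
quasi-coherent terms to K-injective complexes -/
theorem quasiIso_gammaR_map {F I : CochainComplex (Spec (CommRingCat.of R)).Modules ℤ}
    (a : F ⟶ I) [I.IsKInjective] [QuasiIso a] (hF : ∀ n, Coh.IsQCoh (F.X n)) :
    QuasiIso (((ΓR R).mapHomologicalComplex (ComplexShape.up ℤ)).map a) := by
  rw [RGPushC.quasiIso_iff_acyclic_mappingCone]
  intro n
  refine HomologicalComplex.ExactAt.of_iso ?_
    (CochainComplex.mappingCone.mapHomologicalComplexIso a (ΓR R))
  rw [HomologicalComplex.exactAt_iff' _ (n - 1) n (n + 1) (by simp) (by simp),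
    ShortComplex.moduleCat_exact_iff]
  intro s hs
  obtain ⟨t, ht⟩ := exists_section_lift a hF (isAffineOpen_top (Spec (CommRingCat.of R)))
    (n - 1) n (n + 1) (by simp) (by simp) s hs
  exact ⟨t, ht⟩

variable (R)

/-- `K(Γ)` followed by localization -/
noncomputable abbrev ΓKh : HomotopyCategory (Spec (CommRingCat.of R)).Modules (ComplexShape.up ℤ) ⥤
    DerivedCategory (ModuleCat.{u} R) :=
  (ΓR R).mapHomotopyCategory (ComplexShape.up ℤ) ⋙ DerivedCategory.Qh

instance : (ΓKh R).HasRightDerivedFunctor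
    (HomotopyCategory.quasiIso (Spec (CommRingCat.of R)).Modules (ComplexShape.up ℤ)) :=
  Groth.Agent.Lib.Helper8.KInjDer.hasRightDerivedFunctor
    (Groth.Agent.Lib.Helper26.KInjAdjH.hK (B := (Spec (CommRingCat.of R)).Modules)) _

/-- `RΓ : D(O_{Spec R}) ⥤ D(R)` -/
noncomputable abbrev RΓR : DCoh.D (Spec (CommRingCat.of R)) ⥤ DerivedCategory (ModuleCat.{u} R) :=
  (ΓKh R).totalRightDerived DerivedCategory.Qh
    (HomotopyCategory.quasiIso (Spec (CommRingCat.of R)).Modules (ComplexShape.up ℤ))

/-- the unit of `RΓ` -/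
noncomputable abbrev αR : ΓKh R ⟶ DerivedCategory.Qh ⋙ RΓR R :=
  (ΓKh R).totalRightDerivedUnit DerivedCategory.Qh
    (HomotopyCategory.quasiIso (Spec (CommRingCat.of R)).Modules (ComplexShape.up ℤ))

variable {R}

/-- **on an affine scheme, `Γ` computes `RΓ` on complexes with quasi-coherent terms** -/
theorem isIso_unit_gammaR (F : CochainComplex (Spec (CommRingCat.of R)).Modules ℤ)
    (hq : ∀ n : ℤ, Coh.IsQCoh (F.X n)) :
    IsIso ((αR R).app ((HomotopyCategory.quotient _ (ComplexShape.up ℤ)).obj F)) := by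
  obtain ⟨J, a, hJ, hq', -, -⟩ := Groth.Agent.Lib.Helper26.KInjMain.main F
  let q := HomotopyCategory.quotient (Spec (CommRingCat.of R)).Modules (ComplexShape.up ℤ)
  let η := αR R
  have nat := η.naturality (q.map a)
  have h1 : IsIso (η.app (q.obj J)) :=
    Groth.Agent.Lib.Helper26.KInjComp.isIso_unit_of_isKInjective (ΓKh R) _ η J
  have h2 : IsIso (DerivedCategory.Qh.map (q.map a)) := by
    apply Localization.inverts DerivedCategory.Qh
      (HomotopyCategory.quasiIso (Spec (CommRingCat.of R)).Modules (ComplexShape.up ℤ))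
    rw [HomotopyCategory.quotient_map_mem_quasiIso_iff, HomologicalComplex.mem_quasiIso_iff]
    exact hq'
  have h2' : IsIso ((DerivedCategory.Qh ⋙ RΓR R).map (q.map a)) := by
    rw [Functor.comp_map]
    infer_instance
  have h3 : IsIso ((ΓKh R).map (q.map a)) := by
    have hq'' := quasiIso_gammaR_map a hq
    have : IsIso (DerivedCategory.Qh.map ((HomotopyCategory.quotient _ _).map
        (((ΓR R).mapHomologicalComplex (ComplexShape.up ℤ)).map a))) := by
      apply Localization.inverts DerivedCategory.Qh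
        (HomotopyCategory.quasiIso (ModuleCat.{u} R) (ComplexShape.up ℤ))
      rw [HomotopyCategory.quotient_map_mem_quasiIso_iff, HomologicalComplex.mem_quasiIso_iff]
      exact hq''
    exact this
  have : η.app (q.obj F) = (ΓKh R).map (q.map a) ≫ η.app (q.obj J) ≫
      inv ((DerivedCategory.Qh ⋙ RΓR R).map (q.map a)) := by
    rw [← Category.assoc, nat, Category.assoc, IsIso.hom_inv_id, Category.comp_id]
  rw [this]
  infer_instance

variable (R)

/-- the derived adjunction `tildeD ⊣ RΓ` with invertible unit -/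
theorem exists_adj [PreservesFiniteLimits (tilde.functor R)] :
    ∃ adj' : DCoh.tildeD R ⊣ RΓR R, IsIso adj'.unit := by
  haveI : IsIso (tilde.adjunction (R := R)).unit := inferInstance
  refine Groth.Agent.Lib.Helper26.LC12.derivedAdjH_unit_isIso (tilde.functor R) (ΓR R)
    (tilde.adjunction (R := R)) (RΓR R) (αR R) ?_
  intro K
  obtain ⟨K, rfl⟩ := HomotopyCategory.quotient_obj_surjective K
  exact isIso_unit_gammaR (((tilde.functor R).mapHomologicalComplex (ComplexShape.up ℤ)).obj K)
    (fun n => (inferInstance : ((tilde.functor R).obj (K.X n)).IsQuasicoherent))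

/-! ### generalities on adjunctions and shifts -/

section Gen

variable {C D : Type*} [Category C] [Category D]

/-- if the unit of an adjunction is an isomorphism, composition with the counit is bijective on
maps out of the image of the left adjoint -/
lemma bijective_comp_counit {L : C ⥤ D} {Rr : D ⥤ C} (adj : L ⊣ Rr) [IsIso adj.unit] (T : C)
    (K : D) : Function.Bijective (fun g : L.obj T ⟶ L.obj (Rr.obj K) => g ≫ adj.counit.app K) := by
  haveI : IsIso (Rr.map (adj.counit.app K)) := by
    have h := adj.right_triangle_components K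
    exact IsIso.of_isIso_fac_left h
  have comm : (adj.homEquiv T K) ∘ (fun g : L.obj T ⟶ L.obj (Rr.obj K) => g ≫ adj.counit.app K) =
      (fun g' : T ⟶ Rr.obj (L.obj (Rr.obj K)) => g' ≫ Rr.map (adj.counit.app K)) ∘
        (adj.homEquiv T (L.obj (Rr.obj K))) := by
    funext g
    exact adj.homEquiv_naturality_right g (adj.counit.app K)
  rw [← Function.Bijective.of_comp_iff' (adj.homEquiv T K).bijective, comm]
  refine Function.Bijective.comp ?_ (adj.homEquiv T _).bijective
  constructor
  · intro a b h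
    exact (cancel_mono (Rr.map (adj.counit.app K))).1 h
  · intro b
    exact ⟨b ≫ inv (Rr.map (adj.counit.app K)), by simp⟩

variable [HasShift D ℤ]

/-- moving a shift from the source to the target -/
lemma bijective_shift {P Y Y' : D} (φ : Y ⟶ Y') (n : ℤ)
    (h : Function.Bijective (fun g : P⟦-n⟧ ⟶ Y => g ≫ φ)) :
    Function.Bijective (fun g : P ⟶ Y⟦n⟧ => g ≫ φ⟦n⟧') := by
  let adj : shiftFunctor D (-n) ⊣ shiftFunctor D n := (shiftEquiv D n).symm.toAdjunction
  have comm : (fun g : P ⟶ Y⟦n⟧ => g ≫ φ⟦n⟧') ∘ (adj.homEquiv P Y) =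
      (adj.homEquiv P Y') ∘ (fun g : P⟦-n⟧ ⟶ Y => g ≫ φ) := by
    funext g
    exact (adj.homEquiv_naturality_right g φ).symm
  rw [← Function.Bijective.of_comp_iff _ (adj.homEquiv P Y).bijective, comm]
  exact (adj.homEquiv P Y').bijective.comp h

/-- bijectivity of composition is invariant under isomorphisms of the source -/
lemma bijective_of_iso {P P' Y Y' : D} (e : P ≅ P') (φ : Y ⟶ Y')
    (h : Function.Bijective (fun g : P ⟶ Y => g ≫ φ)) :
    Function.Bijective (fun g : P' ⟶ Y => g ≫ φ) := by
  constructor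
  · intro a b hab
    have hab' : a ≫ φ = b ≫ φ := hab
    have := h.1 (show (e.hom ≫ a) ≫ φ = (e.hom ≫ b) ≫ φ by
      rw [Category.assoc, Category.assoc, hab'])
    exact (cancel_epi e.hom).1 this
  · intro b
    obtain ⟨a, ha⟩ := h.2 (e.hom ≫ b)
    have ha' : a ≫ φ = e.hom ≫ b := ha
    exact ⟨e.inv ≫ a, by
      change (e.inv ≫ a) ≫ φ = b
      rw [Category.assoc, ha', Iso.inv_hom_id_assoc]⟩

end Gen

/-! ### the essential image of `tildeD` -/

/-- `j_!O_X ≅ O_X` for the open `⊤` -/
noncomputable def gTopIso (Y : Scheme.{u}) : G (⊤ : Y.Opens) ≅ Coh.structureModule Y where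
  hom := (sec ⊤ (Coh.structureModule Y)).symm (secTop (Coh.structureModule Y) (𝟙 _))
  inv := (secTop (G (⊤ : Y.Opens))).symm (sec ⊤ (G (⊤ : Y.Opens)) (𝟙 _))
  hom_inv_id := by
    apply (sec ⊤ _).injective
    rw [sec_comp, Equiv.apply_symm_apply, ← secTop_comp, Category.id_comp,
      Equiv.apply_symm_apply]
  inv_hom_id := by
    apply (secTop _).injective
    rw [secTop_comp, Equiv.apply_symm_apply, ← sec_comp, Category.id_comp,
      Equiv.apply_symm_apply]

variable [PreservesFiniteLimits (tilde.functor R)]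

/-- objects in the image of `tildeD` are in `D_QCoh` -/
lemma isQCohD_tildeD (M : DerivedCategory (ModuleCat.{u} R)) :
    DCoh.IsQCohD ((DCoh.tildeD R).obj M) := by
  let M' := DerivedCategory.Q.objPreimage M
  let e : DerivedCategory.Q.obj M' ≅ M := DerivedCategory.Q.objObjPreimageIso M
  have h1 : DCoh.IsQCohD (DerivedCategory.Q.obj
      (((tilde.functor R).mapHomologicalComplex (ComplexShape.up ℤ)).obj M')) :=
    isQCohD_Q _ (fun n => (inferInstance : ((tilde.functor R).obj (M'.X n)).IsQuasicoherent))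
  exact Groth.Agent.Lib.Helper26.LC11.isQCohD_of_iso
    (((tilde.functor R).mapDerivedCategoryFactors.app M').symm ≪≫ (DCoh.tildeD R).mapIso e) h1

/-- the object of `D(R)` whose image is `j_!O_X[0]` -/
noncomputable abbrev T₀ : DerivedCategory (ModuleCat.{u} R) :=
  DerivedCategory.Q.obj ((HomologicalComplex.single (ModuleCat.{u} R) (ComplexShape.up ℤ) 0).obj
    (ModuleCat.of R R))

/-- `tildeD(R[0]) ≅ j_!O_X[0]` -/
noncomputable def e₀ : (DCoh.tildeD R).obj (T₀ R) ≅ GD (⊤ : (Spec (CommRingCat.of R)).Opens) :=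
  (tilde.functor R).mapDerivedCategoryFactors.app _ ≪≫
    DerivedCategory.Q.mapIso
      ((HomologicalComplex.singleMapHomologicalComplex (tilde.functor R) (ComplexShape.up ℤ) 0).app
        (ModuleCat.of R R) ≪≫
      (HomologicalComplex.single _ (ComplexShape.up ℤ) 0).mapIso
        (tildeSelf (R := R) ≪≫ (gTopIso (Spec (CommRingCat.of R))).symm))

/-- **`D(R) ⥤ D(O_{Spec R})` is fully faithful with essential image `D_QCoh`** -/
theorem main : (DCoh.tildeD R).Full ∧ (DCoh.tildeD R).Faithful ∧
    ∀ K : DCoh.D (Spec (CommRingCat.of R)),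
      DCoh.IsQCohD K ↔ ∃ M, Nonempty ((DCoh.tildeD R).obj M ≅ K) := by
  obtain ⟨adj, hadj⟩ := exists_adj R
  have ff := adj.fullyFaithfulLOfIsIsoUnit
  refine ⟨ff.full, ff.faithful, fun K => ⟨fun hK => ?_, ?_⟩⟩
  · haveI : IsIso (adj.counit.app K) := by
      apply Groth.Agent.Lib.Helper26.LC11.isIso_of_bijective (isQCohD_tildeD R _) hK _
        {(⊤ : (Spec (CommRingCat.of R)).Opens)}
        (by rintro W rfl; exact isAffineOpen_top _) (fun x => ⟨⊤, rfl, trivial⟩)
      rintro W rfl n
      apply bijective_shift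
      refine bijective_of_iso (((DCoh.tildeD R).commShiftIso (-n)).app (T₀ R) ≪≫
        (shiftFunctor _ (-n)).mapIso (e₀ R)) _ ?_
      exact bijective_comp_counit adj _ K
    exact ⟨(RΓR R).obj K, ⟨asIso (adj.counit.app K)⟩⟩
  · rintro ⟨M, ⟨e⟩⟩
    exact Groth.Agent.Lib.Helper26.LC11.isQCohD_of_iso e (isQCohD_tildeD R M)

end Groth.Agent.Lib.Helper26.LC13
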