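import Mathlib
import Groth.Agent.Lib.Helper26.LC13
import Groth.Prelude.Def_DDual2

set_option maxHeartbeats 400000
set_option linter.style.haveILetI false
set_option linter.unusedSectionVars false
set_option linter.unusedVariables false

universe u

open CategoryTheory CategoryTheory.Limits AlgebraicGeometry Opposite ZeroObject TopologicalSpace

namespace Groth.Agent.Lib.Helper26.LC15

attribute [local instance] HasDerivedCategory.standard

variable {R S : CommRingCat.{u}} (φ : R ⟶ S)

/-- `Γ ∘ f_* ≅ restriction of scalars ∘ Γ` for `f = Spec φ` -/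
noncomputable def θ : Scheme.Modules.pushforward (Spec.map φ) ⋙ moduleSpecΓFunctor (R := R) ≅
    moduleSpecΓFunctor (R := S) ⋙ ModuleCat.restrictScalars φ.hom :=
  Functor.isoWhiskerRight (pushforwardCompModulesSpecToSheafIso φ)
    (TopCat.Sheaf.forget _ _ ⋙ (evaluation _ _).obj (.op ⊤)) ≪≫
  NatIso.ofComponents (fun M => Iso.refl _) (fun f => by
    rfl)

/-- the counit of the tilde adjunction is invertible on direct images of tildes -/
instance isIso_counit_push (N : ModuleCat.{u} S) :
    IsIso ((tilde.adjunction (R := R)).counit.app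
      ((Scheme.Modules.pushforward (Spec.map φ)).obj ((tilde.functor S).obj N))) := by
  haveI : IsIso (Scheme.Modules.fromTildeΓ ((tilde.functor S).obj N)) :=
    isIso_fromTildeΓ_iff.2 ((tilde.functor S).obj_mem_essImage N)
  exact isIso_fromTildeΓ_pushforward φ ((tilde.functor S).obj N)

/-- `f_*(N~) ≅ (N_R)~` naturally in the `S`-module `N`, `f = Spec φ` -/
noncomputable def κ : tilde.functor S ⋙ Scheme.Modules.pushforward (Spec.map φ) ≅
    ModuleCat.restrictScalars φ.hom ⋙ tilde.functor R := by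
  let c : (tilde.functor S ⋙ Scheme.Modules.pushforward (Spec.map φ)) ⋙
      (moduleSpecΓFunctor (R := R) ⋙ tilde.functor R) ⟶
      (tilde.functor S ⋙ Scheme.Modules.pushforward (Spec.map φ)) ⋙ 𝟭 _ :=
    Functor.whiskerLeft _ (tilde.adjunction (R := R)).counit
  haveI : IsIso c := by
    rw [NatTrans.isIso_iff_isIso_app]
    intro N
    exact isIso_counit_push φ N
  exact (Functor.rightUnitor _).symm ≪≫ (asIso c).symm ≪≫
    (Functor.associator _ _ _).symm ≪≫
    Functor.isoWhiskerRight (Functor.associator _ _ _ ≪≫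
      Functor.isoWhiskerLeft (tilde.functor S) (θ φ) ≪≫ (Functor.associator _ _ _).symm ≪≫
      Functor.isoWhiskerRight (tilde.toTildeΓNatIso (R := S)).symm _ ≪≫
      Functor.leftUnitor _) (tilde.functor R)

variable [PreservesFiniteLimits (tilde.functor R)] [PreservesFiniteLimits (tilde.functor S)]
  [DCoh.HasRpush (Spec.map φ)]

/-- **`Rf_*(M~) ≅ (M_R)~` for `f = Spec φ`, as functors `D(S) ⥤ D(O_{Spec R})`** -/
theorem nonempty_iso : Nonempty (DCoh.tildeD S ⋙ DCoh.Rpush (Spec.map φ) ≅
    (ModuleCat.restrictScalars.{u} φ.hom).mapDerivedCategory ⋙ DCoh.tildeD R) := by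
  let f := Spec.map φ
  let tS := (tilde.functor S).mapHomotopyCategory (ComplexShape.up ℤ)
  let tR := (tilde.functor R).mapHomotopyCategory (ComplexShape.up ℤ)
  let rs := (ModuleCat.restrictScalars.{u} φ.hom).mapHomotopyCategory (ComplexShape.up ℤ)
  let η := (DCoh.pushKh f).totalRightDerivedUnit DerivedCategory.Qh
      (HomotopyCategory.quasiIso (Spec (CommRingCat.of S)).Modules (ComplexShape.up ℤ))
  let T : tS ⋙ DCoh.pushKh f ⟶ tS ⋙ (DerivedCategory.Qh ⋙ DCoh.Rpush f) := Functor.whiskerLeft tS η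
  haveI : IsIso T := by
    rw [NatTrans.isIso_iff_isIso_app]
    intro K
    obtain ⟨K, rfl⟩ := HomotopyCategory.quotient_obj_surjective K
    exact Groth.Agent.Lib.Helper26.LC9.isIso_unit_of_affine f
      (((tilde.functor S).mapHomologicalComplex (ComplexShape.up ℤ)).obj K)
      (fun n => (inferInstance : ((tilde.functor S).obj (K.X n)).IsQuasicoherent))
  haveI hadd : (ModuleCat.restrictScalars.{u} φ.hom ⋙ tilde.functor R).Additive := inferInstance
  let i1 : tS ⋙ (Scheme.Modules.pushforward f).mapHomotopyCategory (ComplexShape.up ℤ) ≅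
      (ModuleCat.restrictScalars.{u} φ.hom ⋙ tilde.functor R).mapHomotopyCategory
        (ComplexShape.up ℤ) :=
    Functor.mapHomotopyCategoryCompIso (κ φ) (ComplexShape.up ℤ)
  let i2 : rs ⋙ tR ≅
      (ModuleCat.restrictScalars.{u} φ.hom ⋙ tilde.functor R).mapHomotopyCategory
        (ComplexShape.up ℤ) :=
    Functor.mapHomotopyCategoryCompIso
      (Iso.refl (ModuleCat.restrictScalars.{u} φ.hom ⋙ tilde.functor R)) (ComplexShape.up ℤ)
  let e : DerivedCategory.Qh ⋙ (DCoh.tildeD S ⋙ DCoh.Rpush f) ≅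
      DerivedCategory.Qh ⋙ ((ModuleCat.restrictScalars.{u} φ.hom).mapDerivedCategory ⋙
        DCoh.tildeD R) :=
    (Functor.associator _ _ _).symm ≪≫
    Functor.isoWhiskerRight (tilde.functor S).mapDerivedCategoryFactorsh (DCoh.Rpush f) ≪≫
    Functor.associator _ _ _ ≪≫ (asIso T).symm ≪≫
    (Functor.associator _ _ _).symm ≪≫
    Functor.isoWhiskerRight (i1 ≪≫ i2.symm) DerivedCategory.Qh ≪≫
    Functor.associator _ _ _ ≪≫
    Functor.isoWhiskerLeft rs (tilde.functor R).mapDerivedCategoryFactorsh.symm ≪≫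
    (Functor.associator _ _ _).symm ≪≫
    Functor.isoWhiskerRight
      (ModuleCat.restrictScalars.{u} φ.hom).mapDerivedCategoryFactorsh.symm (DCoh.tildeD R) ≪≫
    Functor.associator _ _ _
  letI : Localization.Lifting DerivedCategory.Qh
      (HomotopyCategory.quasiIso (ModuleCat.{u} S) (ComplexShape.up ℤ))
      (DerivedCategory.Qh ⋙ (DCoh.tildeD S ⋙ DCoh.Rpush f)) (DCoh.tildeD S ⋙ DCoh.Rpush f) :=
    ⟨Iso.refl _⟩
  letI : Localization.Lifting DerivedCategory.Qh
      (HomotopyCategory.quasiIso (ModuleCat.{u} S) (ComplexShape.up ℤ))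
      (DerivedCategory.Qh ⋙ ((ModuleCat.restrictScalars.{u} φ.hom).mapDerivedCategory ⋙
        DCoh.tildeD R))
      ((ModuleCat.restrictScalars.{u} φ.hom).mapDerivedCategory ⋙ DCoh.tildeD R) :=
    ⟨Iso.refl _⟩
  exact ⟨Localization.liftNatIso DerivedCategory.Qh
    (HomotopyCategory.quasiIso (ModuleCat.{u} S) (ComplexShape.up ℤ)) _ _ _ _ e⟩

end Groth.Agent.Lib.Helper26.LC15
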