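import Mathlib

set_option maxHeartbeats 400000
set_option linter.style.haveILetI false
set_option linter.unusedSectionVars false

namespace Groth.Agent.Lib.Helper26.WSerre

open CategoryTheory Limits

universe v u

variable {B : Type u} [Category.{v} B] [Abelian B]

/-- a class of objects closed under kernels, cokernels and extensions satisfies the
five-term closure property -/
theorem five (P : B → Prop)
    (hker : ∀ {M N : B} (f : M ⟶ N), P M → P N → P (kernel f))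
    (hcoker : ∀ {M N : B} (f : M ⟶ N), P M → P N → P (cokernel f))
    (hext : ∀ S : ShortComplex B, S.ShortExact → P S.X₁ → P S.X₃ → P S.X₂)
    (M₁ M₂ M₃ M₄ M₅ : B) (f₁ : M₁ ⟶ M₂) (f₂ : M₂ ⟶ M₃) (f₃ : M₃ ⟶ M₄) (f₄ : M₄ ⟶ M₅)
    (w₁ : f₁ ≫ f₂ = 0) (w₂ : f₂ ≫ f₃ = 0) (w₃ : f₃ ≫ f₄ = 0)
    (e₁ : (ShortComplex.mk f₁ f₂ w₁).Exact) (e₂ : (ShortComplex.mk f₂ f₃ w₂).Exact)
    (e₃ : (ShortComplex.mk f₃ f₄ w₃).Exact) (h₁ : P M₁) (h₂ : P M₂) (h₄ : P M₄) (h₅ : P M₅) :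
    P M₃ := by
  let g : cokernel f₁ ⟶ M₃ := cokernel.desc f₁ f₂ w₁
  let h : M₃ ⟶ kernel f₄ := kernel.lift f₄ f₃ w₃
  have hg : Mono g := e₁.mono_cokernelDesc
  have hh : Epi h := e₃.epi_kernelLift
  have w : g ≫ h = 0 := by
    apply (cancel_epi (cokernel.π f₁)).1
    apply (cancel_mono (kernel.ι f₄)).1
    simp [g, h, w₂]
  have w' : g ≫ f₃ = 0 := by
    apply (cancel_epi (cokernel.π f₁)).1
    simp [g, w₂]
  have hex' : (ShortComplex.mk g f₃ w').Exact := by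
    let φ : ShortComplex.mk f₂ f₃ w₂ ⟶ ShortComplex.mk g f₃ w' :=
      { τ₁ := cokernel.π f₁
        τ₂ := 𝟙 _
        τ₃ := 𝟙 _
        comm₁₂ := by simp [g]
        comm₂₃ := by simp }
    haveI : Epi φ.τ₁ := inferInstanceAs (Epi (cokernel.π f₁))
    haveI : IsIso φ.τ₂ := inferInstanceAs (IsIso (𝟙 _))
    haveI : Mono φ.τ₃ := inferInstanceAs (Mono (𝟙 _))
    exact (ShortComplex.exact_iff_of_epi_of_isIso_of_mono φ).1 e₂
  have hex : (ShortComplex.mk g h w).Exact := by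
    let φ : ShortComplex.mk g h w ⟶ ShortComplex.mk g f₃ w' :=
      { τ₁ := 𝟙 _
        τ₂ := 𝟙 _
        τ₃ := kernel.ι f₄
        comm₁₂ := by simp
        comm₂₃ := by simp [h] }
    haveI : Epi φ.τ₁ := inferInstanceAs (Epi (𝟙 _))
    haveI : IsIso φ.τ₂ := inferInstanceAs (IsIso (𝟙 _))
    haveI : Mono φ.τ₃ := inferInstanceAs (Mono (kernel.ι f₄))
    exact (ShortComplex.exact_iff_of_epi_of_isIso_of_mono φ).2 hex'
  exact hext (ShortComplex.mk g h w) ⟨hex⟩ (hcoker f₁ h₁ h₂) (hker f₄ h₄ h₅)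

end Groth.Agent.Lib.Helper26.WSerre
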