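import Mathlib
import Groth.Prelude.Def_Coh
import Groth.Agent.Lib.Helper26.WSerre
import Groth.Agent.Lib.Helper17.AffineSurj
import Groth.Agent.Lib.Helper17.CohKer
import Groth.Agent.Lib.Helper17.FinTypeConv
import Groth.Agent.Lib.Helper28.FinType
import Groth.Agent.Lib.Helper2.RpushQC4

set_option autoImplicit false
set_option maxHeartbeats 400000
set_option linter.style.haveILetI false
set_option linter.unusedSectionVars false
universe u
open CategoryTheory CategoryTheory.Limits AlgebraicGeometry Opposite TopologicalSpace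

namespace Groth.Agent.Lib.Helper26.CohFive

open Groth.Agent.Lib.Helper26 Groth.Agent.Lib.Helper17.CohKer

variable {X : Scheme.{u}}

theorem isCoh_of_iso {M N : X.Modules} (e : M ≅ N) (hM : Coh.IsCoh M) : Coh.IsCoh N := by
  haveI : M.IsQuasicoherent := hM.1
  haveI : SheafOfModules.IsFiniteType.{u} (R := X.ringCatSheaf) M := hM.2
  exact ⟨(SheafOfModules.isQuasicoherent X.ringCatSheaf).prop_of_iso e (inferInstance : M.IsQuasicoherent),
    isFiniteType_of_epi e.hom⟩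

theorem isCoh_of_isZero (M : X.Modules) (h : IsZero M) : Coh.IsCoh M := by
  haveI : M.IsQuasicoherent := Groth.Agent.Lib.Helper2.RpushQC4.isQuasicoherent_of_isZero M h
  refine ⟨inferInstance, ?_⟩
  refine Groth.Agent.Lib.Helper17.FinTypeConv.isFiniteType_of_forall_finite_sections M fun U => ?_
  haveI : Subsingleton Γ(M, U.1) := by
    refine ⟨fun a b => ?_⟩
    have h0 : (𝟙 M : M ⟶ M) = 0 := (IsZero.iff_id_eq_zero _).1 h
    have ha : (𝟙 M : M ⟶ M).app U.1 a = a := rfl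
    have hb : (𝟙 M : M ⟶ M).app U.1 b = b := rfl
    rw [← ha, ← hb, h0]
    rfl
  infer_instance

/-- an extension of coherent modules is coherent -/
theorem isCoh_of_extension (S : ShortComplex X.Modules) (hS : S.ShortExact)
    (h1 : Coh.IsCoh S.X₁) (h3 : Coh.IsCoh S.X₃) : Coh.IsCoh S.X₂ := by
  haveI : S.X₁.IsQuasicoherent := h1.1
  haveI : S.X₃.IsQuasicoherent := h3.1
  haveI : SheafOfModules.IsFiniteType.{u} (R := X.ringCatSheaf) S.X₁ := h1.2
  haveI : SheafOfModules.IsFiniteType.{u} (R := X.ringCatSheaf) S.X₃ := h3.2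
  haveI hq2 : S.X₂.IsQuasicoherent :=
    Groth.Agent.Lib.Helper17.AffineSurj.isQuasicoherent_of_extension S hS
  refine ⟨hq2, ?_⟩
  refine Groth.Agent.Lib.Helper17.FinTypeConv.isFiniteType_of_forall_finite_sections S.X₂ fun U => ?_
  haveI : Module.Finite Γ(X, U.1) Γ(S.X₁, U.1) :=
    Groth.Agent.Lib.Helper28.FinType.finite_of_isAffineOpen S.X₁ U.2
  haveI : Module.Finite Γ(X, U.1) Γ(S.X₃, U.1) :=
    Groth.Agent.Lib.Helper28.FinType.finite_of_isAffineOpen S.X₃ U.2
  let ℓf : Γ(S.X₁, U.1) →ₗ[Γ(X, U.1)] Γ(S.X₂, U.1) :=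
    { toFun := fun k => S.f.app U.1 k
      map_add' := fun a b => map_add _ a b
      map_smul' := fun r a => Scheme.Modules.Hom.app_smul S.f r a }
  let ℓg : Γ(S.X₂, U.1) →ₗ[Γ(X, U.1)] Γ(S.X₃, U.1) :=
    { toFun := fun k => S.g.app U.1 k
      map_add' := fun a b => map_add _ a b
      map_smul' := fun r a => Scheme.Modules.Hom.app_smul S.g r a }
  have hsurj : Function.Surjective ℓg :=
    Groth.Agent.Lib.Helper17.AffineSurj.surjective_app_of_shortExact S hS U.2
  have hex : Function.Exact ℓf ℓg := by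
    intro y
    constructor
    · intro hy
      obtain ⟨k, hk⟩ := exists_kernel_app_eq S.g U.1 y hy
      let e : kernel S.g ≅ S.X₁ :=
        IsLimit.conePointUniqueUpToIso (kernelIsKernel S.g) hS.fIsKernel
      have he : e.hom ≫ S.f = kernel.ι S.g :=
        IsLimit.conePointUniqueUpToIso_hom_comp (kernelIsKernel S.g) hS.fIsKernel
          WalkingParallelPair.zero
      refine ⟨e.hom.app U.1 k, ?_⟩
      rw [← hk, ← he]
      rfl
    · rintro ⟨k, rfl⟩
      exact Groth.Agent.Lib.Helper17.AffineSurj.app_comp_zero S U.1 k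
  exact Module.Finite.of_exact hex hsurj

theorem isCoh_cokernel {A B : X.Modules} (f : A ⟶ B) (hA : Coh.IsCoh A) (hB : Coh.IsCoh B) :
    Coh.IsCoh (cokernel f) := by
  haveI : A.IsQuasicoherent := hA.1
  haveI : B.IsQuasicoherent := hB.1
  haveI : SheafOfModules.IsFiniteType.{u} (R := X.ringCatSheaf) B := hB.2
  exact ⟨isQuasicoherent_cokernel f, isFiniteType_cokernel f⟩

theorem isCoh_kernel [IsLocallyNoetherian X] {A B : X.Modules} (f : A ⟶ B) (hA : Coh.IsCoh A)
    (hB : Coh.IsCoh B) : Coh.IsCoh (kernel f) := by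
  haveI : A.IsQuasicoherent := hA.1
  haveI : B.IsQuasicoherent := hB.1
  haveI : SheafOfModules.IsFiniteType.{u} (R := X.ringCatSheaf) A := hA.2
  exact ⟨isQuasicoherent_kernel f, isFiniteType_kernel f⟩

/-- coherent modules on a locally Noetherian scheme satisfy the five-term closure property -/
theorem coh_five [IsLocallyNoetherian X] (M₁ M₂ M₃ M₄ M₅ : X.Modules) (f₁ : M₁ ⟶ M₂) (f₂ : M₂ ⟶ M₃)
    (f₃ : M₃ ⟶ M₄) (f₄ : M₄ ⟶ M₅) (w₁ : f₁ ≫ f₂ = 0) (w₂ : f₂ ≫ f₃ = 0) (w₃ : f₃ ≫ f₄ = 0)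
    (e₁ : (ShortComplex.mk f₁ f₂ w₁).Exact) (e₂ : (ShortComplex.mk f₂ f₃ w₂).Exact)
    (e₃ : (ShortComplex.mk f₃ f₄ w₃).Exact) (h₁ : Coh.IsCoh M₁) (h₂ : Coh.IsCoh M₂)
    (h₄ : Coh.IsCoh M₄) (h₅ : Coh.IsCoh M₅) : Coh.IsCoh M₃ := by
  refine WSerre.five (fun M : X.Modules => Coh.IsCoh M) ?_ ?_ ?_ M₁ M₂ M₃ M₄ M₅ f₁ f₂ f₃ f₄
    w₁ w₂ w₃ e₁ e₂ e₃ h₁ h₂ h₄ h₅
  · intro M N f hM hN
    exact isCoh_kernel f hM hN
  · intro M N f hM hN
    exact isCoh_cokernel f hM hN
  · intro S hS h1 h3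
    exact isCoh_of_extension S hS h1 h3

end Groth.Agent.Lib.Helper26.CohFive
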