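import Mathlib
import Groth.Agent.Lib.Helper26.LC9
import Groth.Agent.Lib.Helper26.LC11
import Groth.Agent.Lib.Helper26.LC13

set_option maxHeartbeats 400000
set_option linter.style.haveILetI false
set_option linter.unusedSectionVars false
set_option linter.unusedVariables false

universe u

open CategoryTheory CategoryTheory.Limits AlgebraicGeometry Opposite ZeroObject TopologicalSpace

namespace Groth.Agent.Lib.Helper26.LC14

open Groth.Agent.Lib.Helper26 Groth.Agent.Lib.Helper26.LC1 Groth.Agent.Lib.Helper26.LC5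
  Groth.Agent.Lib.Helper26.LC7 Groth.Agent.Lib.Helper26.LC8 Groth.Agent.Lib.Helper26.MVMod4
  Groth.Agent.Lib.Helper26.RGPushA Groth.Agent.Lib.Helper26.RGPushB

attribute [local instance] HasDerivedCategory.standard

variable {X S : Scheme.{u}}

instance preservesFiniteLimits_restrict (U : X.Opens) :
    PreservesFiniteLimits (Scheme.Modules.restrictFunctor U.ι) := by
  have : PreservesLimitsOfSize.{0, 0} (Scheme.Modules.restrictFunctor U.ι) :=
    (CxOX.extZeroAdj U.ι).rightAdjoint_preservesLimits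
  infer_instance

instance preservesFiniteColimits_restrict (U : X.Opens) :
    PreservesFiniteColimits (Scheme.Modules.restrictFunctor U.ι) := by
  have : PreservesColimitsOfSize.{0, 0} (Scheme.Modules.restrictFunctor U.ι) :=
    (Scheme.Modules.restrictAdjunction U.ι).leftAdjoint_preservesColimits
  infer_instance

/-- (Q2) sections over preimages of opens of a K-injective complex with acyclic direct image
are exact -/
theorem exists_section_lift_of_acyclic_push (f : X ⟶ S) (M : CochainComplex X.Modules ℤ)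
    [M.IsKInjective]
    (hN : (((Scheme.Modules.pushforward f).mapHomologicalComplex (ComplexShape.up ℤ)).obj
      M).Acyclic) (V : S.Opens) (n : ℤ)
    (s : Γ(M.X n, f ⁻¹ᵁ V)) (hs : (M.d n (n + 1)).app (f ⁻¹ᵁ V) s = 0) :
    ∃ t : Γ(M.X (n - 1), f ⁻¹ᵁ V), (M.d (n - 1) n).app (f ⁻¹ᵁ V) t = s := by
  let N := ((Scheme.Modules.pushforward f).mapHomologicalComplex (ComplexShape.up ℤ)).obj M
  let NV := (DCoh.restrictCx V).obj N
  haveI : CochainComplex.IsKInjective ((DCoh.restrictCx (f ⁻¹ᵁ V)).obj M) :=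
    isKInjective_restrict (f ⁻¹ᵁ V) M
  have hRO : RO NV :=
    (RO.pushforward (f ∣_ V) ((DCoh.restrictCx (f ⁻¹ᵁ V)).obj M)).of_iso
      (RGPushC.restrictPushIso f V M).symm
  have hac : NV.Acyclic :=
    Groth.Agent.Lib.Helper26.KInjComp.acyclic_map (L := Scheme.Modules.restrictFunctor V.ι) N hN
  have hΓ := acyclic_gamma NV
    (fun m c => homotopy_zero_of_isKFlat NV hac hRO _ (isKFlat_unitAt (V : Scheme.{u}) m) c)
  have hex := hΓ n
  rw [HomologicalComplex.exactAt_iff' _ (n - 1) n (n + 1) (by simp) (by simp),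
    ShortComplex.ab_exact_iff] at hex
  have hV' : V.ι ''ᵁ ⊤ = V := im_eq V
  have hle : f ⁻¹ᵁ (V.ι ''ᵁ ⊤) ≤ f ⁻¹ᵁ V := by rw [hV']
  have hge : f ⁻¹ᵁ V ≤ f ⁻¹ᵁ (V.ι ''ᵁ ⊤) := by rw [hV']
  obtain ⟨t₁, ht₁⟩ := hex (res (M.X n) hle s) (by
    have h1 : (M.d n (n + 1)).app (f ⁻¹ᵁ (V.ι ''ᵁ ⊤)) (res (M.X n) hle s) = 0 := by
      rw [app_res, hs, res_zero]
    exact h1)
  have ht₁' : (M.d (n - 1) n).app (f ⁻¹ᵁ (V.ι ''ᵁ ⊤)) t₁ = res (M.X n) hle s := ht₁
  refine ⟨res (M.X (n - 1)) hge t₁, ?_⟩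
  rw [app_res, ht₁', res_res, res_refl]

/-- cones of morphisms of K-injective complexes are K-injective -/
lemma isKInjective_mappingCone {A : Type*} [Category A] [Abelian A] {I J : CochainComplex A ℤ}
    (a : I ⟶ J) [I.IsKInjective] [J.IsKInjective] :
    (CochainComplex.mappingCone a).IsKInjective := by
  rw [CochainComplex.isKInjective_iff_rightOrthogonal]
  exact (HomotopyCategory.subcategoryAcyclic A).rightOrthogonal.ext_of_isTriangulatedClosed₃ _
    (HomotopyCategory.mappingCone_triangleh_distinguished a)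
    (CochainComplex.IsKInjective.rightOrthogonal I) (CochainComplex.IsKInjective.rightOrthogonal J)

/-- complexes with exact sections over `W` admit only null-homotopic maps from `Gc W` to their
shifts -/
theorem homotopy_zero_of_sections_exact {W : X.Opens} (J : CochainComplex X.Modules ℤ)
    (hJ : ∀ (i j k : ℤ) (_ : i + 1 = j) (_ : j + 1 = k) (s : Γ(J.X j, W)),
      (J.d j k).app W s = 0 → ∃ t : Γ(J.X i, W), (J.d i j).app W t = s)
    (n : ℤ) (c : Gc W ⟶ J⟦n⟧) : Nonempty (Homotopy c 0) := by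
  have hd := d_cocycle (J⟦n⟧) W c
  rw [CochainComplex.shiftFunctor_obj_d'] at hd
  have hd' := (units_smul_app_eq_zero_iff _ _ _ _).1 hd
  obtain ⟨t, ht⟩ := hJ (-1 + n) (0 + n) (1 + n) (by omega) (by omega) _ hd'
  obtain ⟨t', ht'⟩ := exists_of_units_smul n.negOnePow (n.negOnePow • J.d (-1 + n) (0 + n)) W t
    (cocycle (J⟦n⟧) W c) (by
      rw [smul_smul, Int.units_mul_self, one_smul]
      exact ht)
  refine ⟨homotopyOfEq (J⟦n⟧) W c t' ?_⟩
  rw [CochainComplex.shiftFunctor_obj_d']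
  exact ht'

/-- vanishing of maps from `GD W` to the shifts of a K-injective complex with exact sections
over `W` -/
lemma hom_eq_zero {W : X.Opens} (M : CochainComplex X.Modules ℤ) [M.IsKInjective]
    (hM : ∀ (n : ℤ) (c : Gc W ⟶ M⟦n⟧), Nonempty (Homotopy c 0)) (m : ℤ)
    (β : GD W ⟶ (DerivedCategory.Q.obj M)⟦m⟧) : β = 0 := by
  let e : (DerivedCategory.Q.obj M)⟦m⟧ ≅ DerivedCategory.Q.obj (M⟦m⟧) :=
    ((DerivedCategory.Q.commShiftIso m).app M).symm
  obtain ⟨c, hc⟩ := exists_chain (M⟦m⟧) W (β ≫ e.hom)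
  obtain ⟨H⟩ := hM m c
  have h0 : β ≫ e.hom = 0 := by
    rw [← hc]
    exact Q_map_eq_zero_of_homotopy c H
  rw [← cancel_mono e.hom, h0, zero_comp]

section Tri

variable {C : Type*} [Category C] [Preadditive C] [HasZeroObject C] [HasShift C ℤ]
  [∀ n : ℤ, (shiftFunctor C n).Additive] [Pretriangulated C]

open Pretriangulated

/-- bijectivity of composition with the first map of a distinguished triangle, for objects with
no maps to the shifts of the third term -/
lemma bijective_of_triangle (T : Triangle C) (hT : T ∈ distTriang C) (A : C)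
    (hA : ∀ (m : ℤ) (β : A ⟶ T.obj₃⟦m⟧), β = 0) (n : ℤ) :
    Function.Bijective (fun g : A ⟶ T.obj₁⟦n⟧ => g ≫ T.mor₁⟦n⟧') := by
  constructor
  · intro g1 g2 h
    rw [← sub_eq_zero]
    have h' : (g1 - g2) ≫ T.mor₁⟦n⟧' = 0 := by
      rw [Preadditive.sub_comp, sub_eq_zero]
      exact h
    obtain ⟨γ, hγ⟩ := Groth.Agent.Lib.Helper26.LC3.shift_exact₂ T.invRotate
      (inv_rot_of_distTriang _ hT) n (g1 - g2) h'
    have hγ0 : γ = 0 := by
      let iso := (shiftFunctorAdd' C (-1) n (-1 + n) rfl).app T.obj₃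
      have h1 : γ ≫ iso.inv = 0 := hA _ _
      have h2 : γ ≫ iso.inv = 0 ≫ iso.inv := h1.trans zero_comp.symm
      exact (cancel_mono iso.inv).1 h2
    exact hγ.trans (by rw [hγ0, zero_comp]; rfl)
  · intro β
    obtain ⟨γ, hγ⟩ := Groth.Agent.Lib.Helper26.LC3.shift_exact₂ T hT n β (hA n _)
    exact ⟨γ, hγ.symm⟩

end Tri

/-- bijectivity of composition is invariant under conjugation by isomorphisms -/
lemma bijective_conj {C : Type*} [Category C] {A Y Y' Z Z' : C} (e : Y ≅ Z) (e' : Y' ≅ Z')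
    (φ : Y ⟶ Y') (ψ : Z ⟶ Z') (comm : φ ≫ e'.hom = e.hom ≫ ψ)
    (h : Function.Bijective (fun g : A ⟶ Z => g ≫ ψ)) :
    Function.Bijective (fun g : A ⟶ Y => g ≫ φ) := by
  constructor
  · intro g1 g2 hg
    have hg' : g1 ≫ φ = g2 ≫ φ := hg
    have := h.1 (show (g1 ≫ e.hom) ≫ ψ = (g2 ≫ e.hom) ≫ ψ by
      rw [Category.assoc, Category.assoc, ← comm, ← Category.assoc, ← Category.assoc, hg'])
    exact (cancel_mono e.hom).1 this
  · intro β
    obtain ⟨g, hg⟩ := h.2 (β ≫ e'.hom)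
    have hg' : g ≫ ψ = β ≫ e'.hom := hg
    refine ⟨g ≫ e.inv, ?_⟩
    change (g ≫ e.inv) ≫ φ = β
    rw [← cancel_mono e'.hom, Category.assoc, Category.assoc, comm, Iso.inv_hom_id_assoc, hg']

open Pretriangulated in
/-- **for an affine morphism, `Rf_*` reflects isomorphisms on `D_QCoh`** -/
theorem isIso_of_isIso_Rpush (f : X ⟶ S) [IsAffineHom f] [DCoh.HasRpush f] {E F : DCoh.D X}
    (hE : DCoh.IsQCohD E) (hF : DCoh.IsQCohD F) (α : E ⟶ F)
    (hα : IsIso ((DCoh.Rpush f).map α)) : IsIso α := by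
  obtain ⟨I, hI, -, ⟨eE⟩⟩ := exists_kinj E
  obtain ⟨J, hJ, -, ⟨eF⟩⟩ := exists_kinj F
  let q := HomotopyCategory.quotient X.Modules (ComplexShape.up ℤ)
  obtain ⟨g', hg'⟩ := (CochainComplex.IsKInjective.Qh_map_bijective (q.obj I) J).surjective
    (eE.hom ≫ α ≫ eF.inv)
  obtain ⟨a, rfl⟩ := q.map_surjective g'
  have ha : DerivedCategory.Q.map a = eE.hom ≫ α ≫ eF.inv := hg'
  have h1 : IsIso ((DCoh.Rpush f).map (DerivedCategory.Q.map a)) := by
    rw [ha, Functor.map_comp, Functor.map_comp]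
    infer_instance
  let η := (DCoh.pushKh f).totalRightDerivedUnit DerivedCategory.Qh
      (HomotopyCategory.quasiIso X.Modules (ComplexShape.up ℤ))
  have nat := η.naturality (q.map a)
  have hηI : IsIso (η.app (q.obj I)) :=
    Groth.Agent.Lib.Helper26.KInjComp.isIso_unit_of_isKInjective (DCoh.pushKh f) _ η I
  have hηJ : IsIso (η.app (q.obj J)) :=
    Groth.Agent.Lib.Helper26.KInjComp.isIso_unit_of_isKInjective (DCoh.pushKh f) _ η J
  have h2 : IsIso ((DCoh.pushKh f).map (q.map a)) := by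
    have h1' : IsIso ((DerivedCategory.Qh ⋙ DCoh.Rpush f).map (q.map a)) := h1
    have : (DCoh.pushKh f).map (q.map a) = η.app (q.obj I) ≫
        (DerivedCategory.Qh ⋙ DCoh.Rpush f).map (q.map a) ≫ inv (η.app (q.obj J)) := by
      rw [← Category.assoc, ← nat, Category.assoc, IsIso.hom_inv_id, Category.comp_id]
    rw [this]
    infer_instance
  have h3 : QuasiIso (((Scheme.Modules.pushforward f).mapHomologicalComplex
      (ComplexShape.up ℤ)).map a) := by
    rw [← DerivedCategory.isIso_Q_map_iff_quasiIso]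
    exact h2
  let M := CochainComplex.mappingCone a
  haveI : M.IsKInjective := isKInjective_mappingCone a
  have hN : (((Scheme.Modules.pushforward f).mapHomologicalComplex (ComplexShape.up ℤ)).obj
      M).Acyclic := by
    have h4 := (RGPushC.quasiIso_iff_acyclic_mappingCone _).1 h3
    intro n
    exact (h4 n).of_iso
      (CochainComplex.mappingCone.mapHomologicalComplexIso a (Scheme.Modules.pushforward f)).symm
  have hT : (DerivedCategory.Qh.mapTriangle.obj (CochainComplex.mappingCone.triangleh a)) ∈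
      distTriang (DCoh.D X) :=
    DerivedCategory.Qh.map_distinguished _ (HomotopyCategory.mappingCone_triangleh_distinguished a)
  have hcomm : α ≫ eF.inv = eE.inv ≫ DerivedCategory.Q.map a := by
    rw [ha, Iso.inv_hom_id_assoc]
  apply Groth.Agent.Lib.Helper26.LC11.isIso_of_bijective hE hF α
    {W | ∃ V : S.Opens, IsAffineOpen V ∧ W = f ⁻¹ᵁ V}
  · rintro W ⟨V, hV, rfl⟩
    exact hV.preimage f
  · intro x
    obtain ⟨_, ⟨(V : S.Opens), (hV : IsAffineOpen V), rfl⟩, (hxV : f x ∈ V), -⟩ :=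
      S.isBasis_affineOpens.exists_subset_of_mem_open (Set.mem_univ (f x)) isOpen_univ
    exact ⟨f ⁻¹ᵁ V, ⟨V, hV, rfl⟩, hxV⟩
  · rintro W ⟨V, hV, rfl⟩ n
    have hsec : ∀ (i j k : ℤ) (_ : i + 1 = j) (_ : j + 1 = k) (s : Γ(M.X j, f ⁻¹ᵁ V)),
        (M.d j k).app (f ⁻¹ᵁ V) s = 0 → ∃ t : Γ(M.X i, f ⁻¹ᵁ V), (M.d i j).app (f ⁻¹ᵁ V) t = s := by
      have key : ∀ (m i j k : ℤ) (_ : i = m - 1) (_ : j = m) (_ : k = m + 1)
          (s : Γ(M.X j, f ⁻¹ᵁ V)), (M.d j k).app (f ⁻¹ᵁ V) s = 0 →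
          ∃ t : Γ(M.X i, f ⁻¹ᵁ V), (M.d i j).app (f ⁻¹ᵁ V) t = s := by
        intro m i j k hi hj hk
        subst hi hj hk
        exact exists_section_lift_of_acyclic_push f M hN V j
      intro i j k hij hjk
      exact key j i j k (by omega) rfl (by omega)
    have hM := homotopy_zero_of_sections_exact M hsec
    have bij : Function.Bijective (fun g : GD (f ⁻¹ᵁ V) ⟶ (DerivedCategory.Q.obj I)⟦n⟧ =>
        g ≫ (DerivedCategory.Q.map a)⟦n⟧') :=
      bijective_of_triangle _ hT (GD (f ⁻¹ᵁ V)) (fun m β => hom_eq_zero M hM m β) n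
    refine bijective_conj ((shiftFunctor (DCoh.D X) n).mapIso eE.symm)
      ((shiftFunctor (DCoh.D X) n).mapIso eF.symm) _ _ ?_ bij
    simp only [Functor.mapIso_hom, Iso.symm_hom, ← Functor.map_comp, hcomm]

end Groth.Agent.Lib.Helper26.LC14
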