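import Mathlib
import Groth.Agent.Lib.Helper26.LC14
import Groth.Agent.Lib.Helper28.QCohPush

set_option maxHeartbeats 400000
set_option linter.style.haveILetI false
set_option linter.unusedSectionVars false
set_option linter.unusedVariables false

universe u

open CategoryTheory CategoryTheory.Limits AlgebraicGeometry Opposite ZeroObject TopologicalSpace

namespace Groth.Agent.Lib.Helper26.LC16

open Groth.Agent.Lib.Helper26 Groth.Agent.Lib.Helper26.LC1 Groth.Agent.Lib.Helper26.LC5
  Groth.Agent.Lib.Helper26.LC7 Groth.Agent.Lib.Helper26.LC8 Groth.Agent.Lib.Helper26.MVMod4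

attribute [local instance] HasDerivedCategory.standard

variable {X S : Scheme.{u}}

section General

variable {C D : Type*} [Category C] [Category D] [Abelian C] [Abelian D] (F : C ⥤ D) [F.Additive]
  [PreservesFiniteLimits F]

lemma map_toCycles_comp (S : ShortComplex C) :
    F.map S.toCycles ≫ F.map S.homologyπ = 0 := by
  rw [← F.map_comp, S.toCycles_comp_homologyπ, F.map_zero]

/-- the left homology data of `S.map F` for a left exact functor `F`, when `F` preserves the
cokernel of `S.toCycles` -/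
noncomputable def leftHomologyDataMap (S : ShortComplex C)
    (hex : (ShortComplex.mk (F.map S.toCycles) (F.map S.homologyπ) (map_toCycles_comp F S)).Exact)
    (hepi : Epi (F.map S.homologyπ)) : (S.map F).LeftHomologyData := by
  have wi : F.map S.iCycles ≫ (S.map F).g = 0 := by
    change F.map S.iCycles ≫ F.map S.g = 0
    rw [← F.map_comp, S.iCycles_g, F.map_zero]
  have hi : IsLimit (KernelFork.ofι (F.map S.iCycles) wi) :=
    KernelFork.mapIsLimit _ S.cyclesIsKernel F
  have hf' : hi.lift (KernelFork.ofι (S.map F).f (S.map F).zero) = F.map S.toCycles := by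
    apply Fork.IsLimit.hom_ext hi
    rw [Fork.IsLimit.lift_ι]
    change F.map S.f = F.map S.toCycles ≫ F.map S.iCycles
    rw [← F.map_comp, S.toCycles_i]
  have wπ : hi.lift (KernelFork.ofι (S.map F).f (S.map F).zero) ≫ F.map S.homologyπ = 0 := by
    rw [hf']; exact map_toCycles_comp F S
  have hπ : IsColimit (CokernelCofork.ofπ (F.map S.homologyπ) wπ) := by
    have h1 := hex.gIsCokernel
    revert wπ
    rw [hf']
    intro wπ
    exact h1
  exact
    { K := F.obj S.cycles
      H := F.obj S.homology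
      i := F.map S.iCycles
      π := F.map S.homologyπ
      wi := wi
      hi := hi
      wπ := wπ
      hπ := hπ }

noncomputable def homologyIsoOfExact (S : ShortComplex C)
    (hex : (ShortComplex.mk (F.map S.toCycles) (F.map S.homologyπ) (map_toCycles_comp F S)).Exact)
    (hepi : Epi (F.map S.homologyπ)) : (S.map F).homology ≅ F.obj S.homology :=
  (leftHomologyDataMap F S hex hepi).homologyIso

noncomputable def homologyIsoOfExact' (K : CochainComplex C ℤ) (j : ℤ)
    (hex : (ShortComplex.mk (F.map (K.toCycles ((ComplexShape.up ℤ).prev j) j))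
      (F.map (K.homologyπ j))
      (by rw [← F.map_comp, K.toCycles_comp_homologyπ, F.map_zero])).Exact)
    (hepi : Epi (F.map (K.homologyπ j))) :
    (((F.mapHomologicalComplex (ComplexShape.up ℤ)).obj K).homology j) ≅ F.obj (K.homology j) :=
  homologyIsoOfExact F (K.sc j) hex hepi

end General



/-! ### exactness and epimorphisms via maps out of `j_!O_T`, `T` affine -/

/-- a short complex of modules is exact if maps from `j_!O_T`, `T` affine, killed by the second
map lift along the first -/
theorem exact_of_affine_lift (𝒯 : ShortComplex S.Modules)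
    (h : ∀ (T : S.Opens), IsAffineOpen T → ∀ u : G T ⟶ 𝒯.X₂, u ≫ 𝒯.g = 0 →
      ∃ v : G T ⟶ 𝒯.X₁, v ≫ 𝒯.f = u) : 𝒯.Exact := by
  apply AffAcycA.exact_of_locally
  intro x W₀ hxW s hs
  obtain ⟨_, ⟨(T : S.Opens), (hT : IsAffineOpen T), rfl⟩, (hxT : x ∈ T), (hTW : T ≤ W₀)⟩ :=
    S.isBasis_affineOpens.exists_subset_of_mem_open hxW W₀.isOpen
  obtain ⟨v, hv⟩ := h T hT ((sec T 𝒯.X₂).symm (res 𝒯.X₂ hTW s)) (by
    apply (sec T _).injective
    rw [sec_comp, Equiv.apply_symm_apply, app_res, sec_zero]
    have hs' : 𝒯.g.app W₀ s = 0 := hs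
    rw [hs', res_zero])
  refine ⟨T, hTW, hxT, sec T _ v, ?_⟩
  rw [← sec_comp, hv, Equiv.apply_symm_apply]
  rfl

/-- a morphism of modules is an epimorphism if maps from `j_!O_T`, `T` affine, lift -/
theorem epi_of_affine_lift {M N : S.Modules} (φ : M ⟶ N)
    (h : ∀ (T : S.Opens), IsAffineOpen T → ∀ u : G T ⟶ N, ∃ v : G T ⟶ M, v ≫ φ = u) : Epi φ := by
  have hex : (ShortComplex.mk φ (0 : N ⟶ 0) comp_zero).Exact :=
    exact_of_affine_lift _ (fun T hT u _ => h T hT u)
  exact (ShortComplex.exact_iff_epi _ rfl).1 hex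

/-- maps from `j_!O_T` to a direct image -/
noncomputable def pushSec (g : X ⟶ S) (T : S.Opens) (M : X.Modules) :
    (G T ⟶ (Scheme.Modules.pushforward g).obj M) ≃ (G (g ⁻¹ᵁ T) ⟶ M) where
  toFun u := (sec (g ⁻¹ᵁ T) M).symm
    (show Γ(M, g ⁻¹ᵁ T) from sec T ((Scheme.Modules.pushforward g).obj M) u)
  invFun v := (sec T ((Scheme.Modules.pushforward g).obj M)).symm
    (show Γ((Scheme.Modules.pushforward g).obj M, T) from sec (g ⁻¹ᵁ T) M v)
  left_inv u := by
    have h1 : sec (g ⁻¹ᵁ T) M ((sec (g ⁻¹ᵁ T) M).symm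
        (show Γ(M, g ⁻¹ᵁ T) from sec T ((Scheme.Modules.pushforward g).obj M) u)) =
        sec T ((Scheme.Modules.pushforward g).obj M) u := Equiv.apply_symm_apply _ _
    exact (congrArg (sec T ((Scheme.Modules.pushforward g).obj M)).symm h1).trans
      (Equiv.symm_apply_apply _ _)
  right_inv v := by
    have h1 : sec T ((Scheme.Modules.pushforward g).obj M)
        ((sec T ((Scheme.Modules.pushforward g).obj M)).symm
          (show Γ((Scheme.Modules.pushforward g).obj M, T) from sec (g ⁻¹ᵁ T) M v)) =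
        sec (g ⁻¹ᵁ T) M v := Equiv.apply_symm_apply _ _
    exact (congrArg (sec (g ⁻¹ᵁ T) M).symm h1).trans (Equiv.symm_apply_apply _ _)

lemma sec_pushSec (g : X ⟶ S) (T : S.Opens) (M : X.Modules)
    (u : G T ⟶ (Scheme.Modules.pushforward g).obj M) :
    sec (g ⁻¹ᵁ T) M (pushSec g T M u) = sec T ((Scheme.Modules.pushforward g).obj M) u :=
  Equiv.apply_symm_apply _ _

lemma pushSec_comp (g : X ⟶ S) (T : S.Opens) {M M' : X.Modules}
    (u : G T ⟶ (Scheme.Modules.pushforward g).obj M) (p : M ⟶ M') :
    pushSec g T M' (u ≫ (Scheme.Modules.pushforward g).map p) = pushSec g T M u ≫ p := by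
  apply (sec (g ⁻¹ᵁ T) M').injective
  rw [sec_comp, sec_pushSec, sec_pushSec, sec_comp]
  rfl

/-! ### lifting classes for K-injective complexes in `D_QCoh` -/

section Lift

variable (K : CochainComplex X.Modules ℤ) [K.IsKInjective]
  (hK : DCoh.IsQCohD (DerivedCategory.Q.obj K)) {W : X.Opens} (hW : IsAffineOpen W)

include hK hW in
/-- classes over affine opens lift to cycles -/
theorem exists_cycle_lift (h : G W ⟶ K.homology 0) :
    ∃ c' : G W ⟶ K.cycles 0, c' ≫ K.homologyπ 0 = h := by
  obtain ⟨α, hα⟩ := H0_surjective_of_isQCohD W hW _ hK ((e1 W).hom ≫ h ≫ (e2 K).inv)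
  obtain ⟨b, rfl⟩ := exists_chain K W α
  refine ⟨cyc K b, ?_⟩
  have h1 := H0_Q_map K b
  rw [hα] at h1
  have h2 : hom K b = h := by
    rw [← cancel_epi (e1 W).hom, ← cancel_mono (e2 K).inv, Category.assoc, Category.assoc]
    exact h1.symm
  exact h2

include hK hW in
/-- cycles over affine opens with vanishing class are coboundaries -/
theorem exists_boundary_lift (c' : G W ⟶ K.cycles 0) (hc' : c' ≫ K.homologyπ 0 = 0) :
    ∃ t : G W ⟶ K.X (-1), t ≫ K.toCycles (-1) 0 = c' := by
  have hs : (K.d 0 1).app W (sec W _ (c' ≫ K.iCycles 0)) = 0 := by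
    rw [← sec_comp, Category.assoc, K.iCycles_d, comp_zero, sec_zero]
  obtain ⟨b, hb⟩ : ∃ b : Gc W ⟶ K, b = ofCocycle K W (sec W _ (c' ≫ K.iCycles 0)) hs :=
    ⟨_, rfl⟩
  have hcyc : cyc K b = c' := by
    rw [← cancel_mono (K.iCycles 0), cyc_i, hb, ofCocycle, HomologicalComplex.mkHomFromSingle_f,
      Iso.inv_hom_id_assoc, Equiv.symm_apply_apply]
  have hhom : hom K b = 0 := by
    rw [hom, hcyc, hc']
  have hQ : DerivedCategory.Q.map b = 0 := by
    apply H0_injective_of_isQCohD W hW _ hK
    rw [H0_Q_map, hhom, zero_comp, comp_zero]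
  obtain ⟨H⟩ := homotopy_of_Q_map_eq_zero K W b hQ
  obtain ⟨t₀, ht₀⟩ := exists_of_homotopy K W b H
  rw [hb, cocycle_ofCocycle] at ht₀
  refine ⟨(sec W _).symm t₀, ?_⟩
  rw [← cancel_mono (K.iCycles 0), Category.assoc, K.toCycles_i]
  apply (sec W _).injective
  rw [sec_comp, Equiv.apply_symm_apply]
  exact ht₀

end Lift


/-! ### direct images along affine morphisms of K-injective complexes in `D_QCoh` -/

lemma pushSec_zero (g : X ⟶ S) (T : S.Opens) (M : X.Modules) :
    pushSec g T M 0 = 0 := by
  apply (sec (g ⁻¹ᵁ T) M).injective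
  rw [sec_pushSec, sec_zero, sec_zero]
  rfl

section Aff

variable (g : X ⟶ S) [IsAffineHom g] (K : CochainComplex X.Modules ℤ) [K.IsKInjective]
  (hK : DCoh.IsQCohD (DerivedCategory.Q.obj K))

include hK in
lemma epi_push_homologyπ : Epi ((Scheme.Modules.pushforward g).map (K.homologyπ 0)) := by
  apply epi_of_affine_lift
  intro T hT u
  obtain ⟨c', hc'⟩ := exists_cycle_lift K hK (hT.preimage g) (pushSec g T _ u)
  refine ⟨(pushSec g T _).symm c', ?_⟩
  apply (pushSec g T _).injective
  rw [pushSec_comp, Equiv.apply_symm_apply, hc']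

include hK in
lemma exact_push_toCycles :
    (ShortComplex.mk ((Scheme.Modules.pushforward g).map
        (K.toCycles ((ComplexShape.up ℤ).prev 0) 0))
      ((Scheme.Modules.pushforward g).map (K.homologyπ 0))
      (by rw [← Functor.map_comp, K.toCycles_comp_homologyπ, Functor.map_zero])).Exact := by
  apply exact_of_affine_lift
  intro T hT u hu
  have hu' : pushSec g T _ u ≫ K.homologyπ 0 = 0 := by
    have hu2 : u ≫ (Scheme.Modules.pushforward g).map (K.homologyπ 0) = 0 := hu
    rw [← pushSec_comp, hu2, pushSec_zero]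
  have hp : (ComplexShape.up ℤ).prev 0 = -1 := by simp
  obtain ⟨t, ht⟩ : ∃ t : G (g ⁻¹ᵁ T) ⟶ K.X ((ComplexShape.up ℤ).prev 0),
      t ≫ K.toCycles ((ComplexShape.up ℤ).prev 0) 0 = pushSec g T _ u := by
    rw [hp]
    exact exists_boundary_lift K hK (hT.preimage g) _ hu'
  refine ⟨(pushSec g T _).symm t, ?_⟩
  apply (pushSec g T _).injective
  change pushSec g T _ ((pushSec g T _).symm t ≫ (Scheme.Modules.pushforward g).map _) = _
  rw [pushSec_comp, Equiv.apply_symm_apply, ht]

/-- `H^0(g_* K) ≅ g_* H^0(K)` for `g` affine, `K` K-injective with quasi-coherent cohomology -/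
noncomputable def pushHomologyIso :
    (((Scheme.Modules.pushforward g).mapHomologicalComplex (ComplexShape.up ℤ)).obj K).homology 0 ≅
      (Scheme.Modules.pushforward g).obj (K.homology 0) :=
  homologyIsoOfExact' (Scheme.Modules.pushforward g) K 0 (exact_push_toCycles g K hK)
    (epi_push_homologyπ g K hK)

include hK in
lemma isQCoh_push_homology_zero :
    Coh.IsQCoh ((((Scheme.Modules.pushforward g).mapHomologicalComplex
      (ComplexShape.up ℤ)).obj K).homology 0) := by
  have h0 : Coh.IsQCoh (K.homology 0) :=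
    isQCoh_of_iso ((DerivedCategory.homologyFunctorFactors X.Modules 0).app K) (hK 0)
  haveI : (K.homology 0).IsQuasicoherent := h0
  have h1 : Coh.IsQCoh ((Scheme.Modules.pushforward g).obj (K.homology 0)) :=
    Groth.Agent.Lib.Helper28.QCohLoc.isQuasicoherent_pushforward g (K.homology 0)
  exact isQCoh_of_iso (pushHomologyIso g K hK).symm h1

end Aff

/-- the direct image along an affine morphism of a K-injective complex with quasi-coherent
cohomology has quasi-coherent cohomology -/
theorem isQCohD_push_of_affine (g : X ⟶ S) [IsAffineHom g] (K : CochainComplex X.Modules ℤ)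
    [K.IsKInjective] (hK : DCoh.IsQCohD (DerivedCategory.Q.obj K)) :
    DCoh.IsQCohD (DerivedCategory.Q.obj
      (((Scheme.Modules.pushforward g).mapHomologicalComplex (ComplexShape.up ℤ)).obj K)) := by
  intro i
  have hKi : DCoh.IsQCohD (DerivedCategory.Q.obj (K⟦i⟧)) :=
    LC11.isQCohD_of_iso (((DerivedCategory.Q (C := X.Modules)).commShiftIso i).app K).symm
      (LC11.isQCohD_shift _ hK i)
  have h1 := isQCoh_push_homology_zero g (K⟦i⟧) hKi
  let L := ((Scheme.Modules.pushforward g).mapHomologicalComplex (ComplexShape.up ℤ)).obj K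
  let e1 : (((Scheme.Modules.pushforward g).mapHomologicalComplex
      (ComplexShape.up ℤ)).obj (K⟦i⟧)) ≅ L⟦i⟧ :=
    ((Scheme.Modules.pushforward g).mapCochainComplexShiftIso i).app K
  let e2 : (L⟦i⟧).homology 0 ≅
      (DerivedCategory.homologyFunctor S.Modules 0).obj (DerivedCategory.Q.obj (L⟦i⟧)) :=
    ((DerivedCategory.homologyFunctorFactors S.Modules 0).app (L⟦i⟧)).symm
  let e3 : (DerivedCategory.homologyFunctor S.Modules 0).obj (DerivedCategory.Q.obj (L⟦i⟧)) ≅
      (DerivedCategory.homologyFunctor S.Modules 0).obj ((DerivedCategory.Q.obj L)⟦i⟧) :=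
    (DerivedCategory.homologyFunctor S.Modules 0).mapIso
      (((DerivedCategory.Q (C := S.Modules)).commShiftIso i).app L)
  let e4 : (DerivedCategory.homologyFunctor S.Modules 0).obj ((DerivedCategory.Q.obj L)⟦i⟧) ≅
      (DerivedCategory.homologyFunctor S.Modules i).obj (DerivedCategory.Q.obj L) :=
    ((DerivedCategory.homologyFunctor S.Modules 0).shiftIso i 0 i (by simp)).app _
  exact isQCoh_of_iso
    ((HomologicalComplex.homologyFunctor _ _ 0).mapIso e1 ≪≫ e2 ≪≫ e3 ≪≫ e4) h1

end Groth.Agent.Lib.Helper26.LC16
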