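import Mathlib
import Groth.Agent.Lib.Helper26.LC16
import Groth.Agent.Lib.Helper2.RpushQC6
import Groth.Agent.Lib.Helper26.RGPushC
import Groth.Agent.Lib.Helper26.SuppD2

set_option maxHeartbeats 400000
set_option linter.style.haveILetI false
set_option linter.unusedSectionVars false
set_option linter.unusedVariables false

universe u

open CategoryTheory CategoryTheory.Limits AlgebraicGeometry Opposite ZeroObject TopologicalSpace

namespace Groth.Agent.Lib.Helper26.LC17

open Groth.Agent.Lib.Helper26 Groth.Agent.Lib.Helper26.LC1 Groth.Agent.Lib.Helper26.LC5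
  Groth.Agent.Lib.Helper26.LC7 Groth.Agent.Lib.Helper26.LC8 Groth.Agent.Lib.Helper26.MVMod4
  Groth.Agent.Lib.Helper26.LC16

attribute [local instance] HasDerivedCategory.standard

variable {X S : Scheme.{u}}

/-! ### quasi-coherence in long exact sequences -/

section Five

variable (T : ShortComplex (CochainComplex S.Modules ℤ)) (hT : T.ShortExact)

include hT in
lemma five_X₁ (h₂ : ∀ j, Coh.IsQCoh (T.X₂.homology j)) (h₃ : ∀ j, Coh.IsQCoh (T.X₃.homology j))
    (j : ℤ) : Coh.IsQCoh (T.X₁.homology j) := by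
  have hij : (ComplexShape.up ℤ).Rel (j - 1) j := by simp
  exact Groth.Agent.Lib.Helper2.RpushQC3.qc_of_five
    (HomologicalComplex.homologyMap T.g (j - 1)) (hT.δ (j - 1) j hij)
    (HomologicalComplex.homologyMap T.f j) (HomologicalComplex.homologyMap T.g j) _ _ _
    (hT.homology_exact₃ (j - 1) j hij) (hT.homology_exact₁ (j - 1) j hij) (hT.homology_exact₂ j)
    (h₂ _) (h₃ _) (h₂ _) (h₃ _)

include hT in
lemma five_X₂ (h₁ : ∀ j, Coh.IsQCoh (T.X₁.homology j)) (h₃ : ∀ j, Coh.IsQCoh (T.X₃.homology j))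
    (j : ℤ) : Coh.IsQCoh (T.X₂.homology j) := by
  have hij : (ComplexShape.up ℤ).Rel (j - 1) j := by simp
  have hij' : (ComplexShape.up ℤ).Rel j (j + 1) := by simp
  exact Groth.Agent.Lib.Helper2.RpushQC3.qc_of_five
    (hT.δ (j - 1) j hij) (HomologicalComplex.homologyMap T.f j)
    (HomologicalComplex.homologyMap T.g j) (hT.δ j (j + 1) hij') _ _ _
    (hT.homology_exact₁ (j - 1) j hij) (hT.homology_exact₂ j) (hT.homology_exact₃ j (j + 1) hij')
    (h₃ _) (h₁ _) (h₃ _) (h₁ _)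

end Five

/-! ### Mayer–Vietoris short exact sequences of complexes -/

section MV

open Groth.Agent.Lib.Helper6 Groth.Agent.Lib.Helper6.RDMV

variable {𝒜 : Type*} [Category 𝒜] [Abelian 𝒜] [HasInjectiveResolutions 𝒜]
  {ℬ : Type*} [Category ℬ] [Abelian ℬ]
  {A B₁ B₂ C : 𝒜 ⥤ ℬ} [A.Additive] [B₁.Additive] [B₂.Additive] [C.Additive]
  (α₁ : A ⟶ B₁) (α₂ : A ⟶ B₂) (β₁ : B₁ ⟶ C) (β₂ : B₂ ⟶ C) (comm : α₁ ≫ β₁ = α₂ ≫ β₂)

include comm in
lemma shortExact_of_isPullback (M : 𝒜)
    (hpb : IsPullback (α₁.app M) (α₂.app M) (β₁.app M) (β₂.app M)) (hepi : Epi (β₁.app M)) :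
    (ShortComplex.mk ((αs α₁ α₂).app M) ((βs β₁ β₂).app M)
      (by rw [← NatTrans.comp_app, hw α₁ α₂ β₁ β₂ comm]; rfl)).ShortExact := by
  let sq : Square ℬ := ⟨α₁.app M, α₂.app M, β₁.app M, β₂.app M, hpb.w⟩
  have hsq : sq.IsPullback := hpb
  have hlim : IsLimit sq.kernelFork := hsq.isLimitKernelFork
  have hex : (ShortComplex.mk ((αs α₁ α₂).app M) ((βs β₁ β₂).app M)
      (by rw [← NatTrans.comp_app, hw α₁ α₂ β₁ β₂ comm]; rfl)).Exact :=
    ShortComplex.exact_of_f_is_kernel _ hlim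
  have hmono : Mono ((αs α₁ α₂).app M) := mono_of_isLimit_fork hlim
  have hepi' : Epi ((βs β₁ β₂).app M) := by
    have hfac : biprod.inl ≫ (βs β₁ β₂).app M = β₁.app M := biprod.inl_desc _ _
    haveI : Epi (biprod.inl ≫ (βs β₁ β₂).app M) := by
      rw [hfac]
      exact hepi
    exact epi_of_epi biprod.inl _
  exact { exact := hex, mono_f := hmono, epi_g := hepi' }

variable (I : CochainComplex 𝒜 ℤ)

/-- the Mayer–Vietoris short complex of complexes -/
noncomputable def mvSC : ShortComplex (CochainComplex ℬ ℤ) :=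
  ShortComplex.mk ((NatTrans.mapHomologicalComplex (αs α₁ α₂) (ComplexShape.up ℤ)).app I)
    ((NatTrans.mapHomologicalComplex (βs β₁ β₂) (ComplexShape.up ℤ)).app I) (by
      ext n
      have := congrArg (fun t => t.app (I.X n)) (hw α₁ α₂ β₁ β₂ comm)
      exact this)

lemma mvSC_shortExact
    (hpb : ∀ n, IsPullback (α₁.app (I.X n)) (α₂.app (I.X n)) (β₁.app (I.X n)) (β₂.app (I.X n)))
    (hepi : ∀ n, Epi (β₁.app (I.X n))) : (mvSC α₁ α₂ β₁ β₂ comm I).ShortExact :=
  HomologicalComplex.shortExact_of_degreewise_shortExact _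
    (fun n => shortExact_of_isPullback α₁ α₂ β₁ β₂ comm (I.X n) (hpb n) (hepi n))

variable (B₁ B₂) in
/-- the split short complex of complexes `B₁ I ⟶ (B₁ ⊞ B₂) I ⟶ B₂ I` -/
noncomputable def splitSC : ShortComplex (CochainComplex ℬ ℤ) :=
  ShortComplex.mk ((NatTrans.mapHomologicalComplex (ι₁ B₁ B₂) (ComplexShape.up ℤ)).app I)
    ((NatTrans.mapHomologicalComplex (π₂ B₁ B₂) (ComplexShape.up ℤ)).app I) (by
      ext n
      have := congrArg (fun t => t.app (I.X n)) (ι₁_π₂ (B₁ := B₁) (B₂ := B₂))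
      exact this)

variable (B₁ B₂) in
lemma splitSC_shortExact : (splitSC B₁ B₂ I).ShortExact :=
  HomologicalComplex.shortExact_of_degreewise_shortExact _
    (fun n => (ShortComplex.Splitting.ofHasBinaryBiproduct (B₁.obj (I.X n))
      (B₂.obj (I.X n))).shortExact)

end MV

/-! ### cohomology of complexes and `D_QCoh` -/

lemma isQCohD_Q_iff (L : CochainComplex X.Modules ℤ) :
    DCoh.IsQCohD (DerivedCategory.Q.obj L) ↔ ∀ j, Coh.IsQCoh (L.homology j) := by
  constructor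
  · intro h j
    exact isQCoh_of_iso ((DerivedCategory.homologyFunctorFactors X.Modules j).app L) (h j)
  · intro h j
    exact isQCoh_of_iso ((DerivedCategory.homologyFunctorFactors X.Modules j).app L).symm (h j)

lemma isQCohD_restrict (I : CochainComplex X.Modules ℤ)
    (hI : DCoh.IsQCohD (DerivedCategory.Q.obj I)) (W : X.Opens) :
    DCoh.IsQCohD (DerivedCategory.Q.obj ((DCoh.restrictCx W).obj I)) := by
  rw [isQCohD_Q_iff] at hI ⊢
  intro j
  haveI : (I.homology j).IsQuasicoherent := hI j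
  have h1 : ((Scheme.Modules.restrictFunctor W.ι).obj (I.homology j)).IsQuasicoherent :=
    inferInstance
  exact isQCoh_of_iso
    (Groth.Agent.Lib.Helper26.SuppD2.homologyMapIso (Scheme.Modules.restrictFunctor W.ι) I j).symm
    h1

/-! ### the induction over quasi-compact opens -/

section Ind

open Groth.Agent.Lib.Helper2.RpushQC2 Groth.Agent.Lib.Helper2.RpushQC3
  Groth.Agent.Lib.Helper2.RpushQC4 Groth.Agent.Lib.Helper2.RpushQC5

variable (f : X ⟶ S) (I : CochainComplex X.Modules ℤ)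

/-- the complex `(f|_W)_*(I|_W)` has quasi-coherent cohomology -/
def P (W : X.Opens) : Prop :=
  ∀ j : ℤ, Coh.IsQCoh ((((Φ f W).mapHomologicalComplex (ComplexShape.up ℤ)).obj I).homology j)

lemma P_sup (hI : ∀ n, TopCat.Sheaf.IsFlasque (Coh.toAb (I.X n))) (U V : X.Opens)
    (hU : P f I U) (hV : P f I V) (hUV : P f I (U ⊓ V)) : P f I (U ⊔ V) := by
  let α₁ := ρ f (le_sup_left : U ≤ U ⊔ V)
  let α₂ := ρ f (le_sup_right : V ≤ U ⊔ V)
  let β₁ := ρ f (inf_le_left : U ⊓ V ≤ U)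
  let β₂ := ρ f (inf_le_right : U ⊓ V ≤ V)
  have comm : α₁ ≫ β₁ = α₂ ≫ β₂ := by
    simp only [α₁, α₂, β₁, β₂, ρ_comp]
  have hS := mvSC_shortExact α₁ α₂ β₁ β₂ comm I (fun n => isPullback_ρ f U V (I.X n))
    (fun n => epi_ρ f _ (I.X n) (hI n))
  have hB : ∀ j, Coh.IsQCoh ((mvSC α₁ α₂ β₁ β₂ comm I).X₂.homology j) :=
    five_X₂ (splitSC (Φ f U) (Φ f V) I) (splitSC_shortExact (Φ f U) (Φ f V) I) hU hV
  exact five_X₁ _ hS hB hUV

lemma P_of_affine [IsAffine S] [I.IsKInjective] (hQ : DCoh.IsQCohD (DerivedCategory.Q.obj I))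
    (W : X.Opens) (hW : IsAffineOpen W) : P f I W := by
  haveI : IsAffine (W : Scheme.{u}) := hW
  have h1 := isQCohD_restrict I hQ W
  have h2 := isQCohD_push_of_affine (W.ι ≫ f) ((DCoh.restrictCx W).obj I) h1
  rw [isQCohD_Q_iff] at h2
  exact h2

theorem isQCoh_push_homology_of_isAffine [IsAffine S] [QuasiCompact f] [QuasiSeparated f]
    [I.IsKInjective] (hI : ∀ n, TopCat.Sheaf.IsFlasque (Coh.toAb (I.X n)))
    (hQ : DCoh.IsQCohD (DerivedCategory.Q.obj I)) (j : ℤ) :
    Coh.IsQCoh ((((Scheme.Modules.pushforward f).mapHomologicalComplex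
      (ComplexShape.up ℤ)).obj I).homology j) := by
  haveI : CompactSpace X := QuasiCompact.compactSpace_of_compactSpace f
  haveI : QuasiSeparatedSpace X := quasiSeparatedSpace_of_quasiSeparated f
  have hP : P f I ⊤ := by
    refine Groth.Agent.S0015.result X (P f I) ?_ ?_ ⊤ isCompact_univ
    · intro U hU
      exact P_of_affine f I hQ U hU
    · intro U V _ _ hPU hPV hPUV
      exact P_sup f I hI U V hPU hPV hPUV
  exact isQCoh_of_iso ((HomologicalComplex.homologyFunctor _ _ j).mapIso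
    ((NatIso.mapHomologicalComplex (ΦtopIso f) (ComplexShape.up ℤ)).app I)).symm (hP j)

theorem isQCoh_push_homology [QuasiCompact f] [QuasiSeparated f]
    [I.IsKInjective] (hI : ∀ n, TopCat.Sheaf.IsFlasque (Coh.toAb (I.X n)))
    (hQ : DCoh.IsQCohD (DerivedCategory.Q.obj I)) (j : ℤ) :
    Coh.IsQCoh ((((Scheme.Modules.pushforward f).mapHomologicalComplex
      (ComplexShape.up ℤ)).obj I).homology j) := by
  refine Groth.Agent.Lib.Helper28.QCohLoc.isQuasicoherent_of_forall_isLocOn _ (fun V => ?_)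
  haveI : IsAffine (V.1 : Scheme.{u}) := V.2
  have hI' : ∀ n, TopCat.Sheaf.IsFlasque
      (Coh.toAb (((DCoh.restrictCx (f ⁻¹ᵁ V.1)).obj I).X n)) :=
    fun n => isFlasque_restrict _ (I.X n) (hI n)
  have hQ' := isQCohD_restrict I hQ (f ⁻¹ᵁ V.1)
  have h1 := isQCoh_push_homology_of_isAffine (f ∣_ V.1) ((DCoh.restrictCx (f ⁻¹ᵁ V.1)).obj I)
    hI' hQ' j
  have h2 : Coh.IsQCoh ((Scheme.Modules.restrictFunctor V.1.ι).obj
      ((((Scheme.Modules.pushforward f).mapHomologicalComplex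
      (ComplexShape.up ℤ)).obj I).homology j)) :=
    isQCoh_of_iso ((HomologicalComplex.homologyFunctor _ _ j).mapIso
      (Groth.Agent.Lib.Helper26.RGPushC.restrictPushIso f V.1 I).symm ≪≫
      Groth.Agent.Lib.Helper26.SuppD2.homologyMapIso (Scheme.Modules.restrictFunctor V.1.ι) _ j) h1
  haveI : (((((Scheme.Modules.pushforward f).mapHomologicalComplex
      (ComplexShape.up ℤ)).obj I).homology j).restrict V.1.ι).IsQuasicoherent := h2
  exact Groth.Agent.Lib.Helper17.QCohOn.isLocOn_of_isQuasicoherent_restrict V.1 _ V.2 le_rfl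

end Ind

/-- **`Rf_*` preserves `D_QCoh` for `f` quasi-compact and quasi-separated** -/
theorem main (f : X ⟶ S) [QuasiCompact f] [QuasiSeparated f] [DCoh.HasRpush f]
    (K : DCoh.D X) (hK : DCoh.IsQCohD K) : DCoh.IsQCohD ((DCoh.Rpush f).obj K) := by
  obtain ⟨I, hI1, hI2, ⟨e⟩⟩ := exists_kinj K
  haveI := hI1
  have hQ : DCoh.IsQCohD (DerivedCategory.Q.obj I) := LC11.isQCohD_of_iso e.symm hK
  have hfl : ∀ n, TopCat.Sheaf.IsFlasque (Coh.toAb (I.X n)) := fun n => by
    haveI := hI2 n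
    exact Groth.Agent.Lib.Helper2.PushEdge3.isFlasque_of_injective (I.X n)
  have h1 : DCoh.IsQCohD (DerivedCategory.Q.obj
      (((Scheme.Modules.pushforward f).mapHomologicalComplex (ComplexShape.up ℤ)).obj I)) :=
    (isQCohD_Q_iff _).2 (isQCoh_push_homology f I hfl hQ)
  exact LC11.isQCohD_of_iso
    (unitIso (Scheme.Modules.pushforward f) I ≪≫ (DCoh.Rpush f).mapIso e) h1

end Groth.Agent.Lib.Helper26.LC17
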