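import Mathlib
import Groth.Agent.Lib.Helper16.TS1
import Groth.Agent.Lib.Helper16.TildeLoc
import Groth.Agent.Lib.Helper16.Stk7
import Groth.Agent.Lib.Helper16.KF10
import Groth.Agent.Lib.Helper16.RS7
import Groth.Agent.Lib.Helper16.KD2
import Groth.Agent.Lib.Helper17.ModPullback
import Groth.Agent.Lib.Helper17.CohKer
import Groth.Agent.Lib.Helper26.LC17

set_option maxHeartbeats 400000
set_option linter.style.haveILetI false
set_option linter.unusedSectionVars false
set_option linter.unusedVariables false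

universe u

open CategoryTheory CategoryTheory.Limits AlgebraicGeometry Opposite ZeroObject TopologicalSpace

namespace Groth.Agent.Lib.Helper26.LC19

open Groth.Agent.Lib.Helper16.Stk

/-- **`M ↦ M~` is left exact** (checked on stalks) -/
instance preservesFiniteLimits_tilde (R : CommRingCat.{u}) :
    PreservesFiniteLimits (tilde.functor R) := by
  rw [Functor.preservesFiniteLimits_iff_forall_exact_map_and_mono]
  intro S hS
  have hSE : (S.map (tilde.functor R)).ShortExact := by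
    apply shortExact_of_forall_stalk
    intro x
    haveI := ModuleCat.preservesFiniteLimits_extendScalars_of_flat.{u}
      (Groth.Agent.Lib.Helper16.TildeLoc.flat_ψ R x)
    have h1 : (S.map (ModuleCat.extendScalars.{u, u, u} (ψ R x))).ShortExact := hS.map_of_exact _
    exact ShortComplex.shortExact_of_iso (S.mapNatIso (tildeStkIso R x)).symm h1
  exact ⟨hSE.exact, hSE.mono_f⟩

attribute [local instance] HasDerivedCategory.standard

open Groth.Agent.Lib.Helper26 Groth.Agent.Lib.Helper16.KD Groth.Agent.Lib.Helper16.RS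

/-- pullbacks of K-flat complexes with quasi-coherent cohomology on `Spec R` have quasi-coherent
cohomology -/
theorem isQCoh_pull_homology_spec (R : CommRingCat.{u})
    (P₁ : CochainComplex (Spec (CommRingCat.of R)).Modules ℤ) (hP₁ : DCoh.IsKFlat P₁)
    (hQ : DCoh.IsQCohD (DerivedCategory.Q.obj P₁)) {Z : Scheme.{u}}
    (g : Z ⟶ Spec (CommRingCat.of R)) (i : ℤ) :
    Coh.IsQCoh (((pullCx g).obj P₁).homology i) := by
  haveI := hasLpull g
  obtain ⟨M, ⟨e⟩⟩ := ((LC13.main R).2.2 (DerivedCategory.Q.obj P₁)).1 hQ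
  obtain ⟨P, hKP, hproj, hfl, ⟨e'⟩⟩ := Groth.Agent.Lib.Helper16.KF.exists_kprojective_kflat M
  have hP₂ : DCoh.IsKFlat (((tilde.functor R).mapHomologicalComplex (ComplexShape.up ℤ)).obj P) :=
    tilde_isKFlat R P hfl
  let e₂ : DerivedCategory.Q.obj
      (((tilde.functor R).mapHomologicalComplex (ComplexShape.up ℤ)).obj P) ≅
      DerivedCategory.Q.obj P₁ :=
    ((tilde.functor R).mapDerivedCategoryFactors.app P).symm ≪≫ (DCoh.tildeD R).mapIso e' ≪≫ e
  let e₃ := (LpullIso g _ hP₂).symm ≪≫ (DCoh.Lpull g).mapIso e₂ ≪≫ LpullIso g P₁ hP₁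
  have h₂ : DCoh.IsQCohD (DerivedCategory.Q.obj ((pullCx g).obj
      (((tilde.functor R).mapHomologicalComplex (ComplexShape.up ℤ)).obj P))) := by
    apply LC8.isQCohD_Q
    intro n
    exact Groth.Agent.Lib.Helper17.ModPullback.isQuasicoherent_pullback g
      ((tilde.functor R).obj (P.X n))
  exact (LC17.isQCohD_Q_iff _).1 (LC11.isQCohD_of_iso e₃ h₂) i

/-- K-flat representatives -/
lemma exists_kflat_rep {X : Scheme.{u}} (K : DCoh.D X) :
    ∃ P₀ : CochainComplex X.Modules ℤ, DCoh.IsKFlat P₀ ∧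
      Nonempty (DerivedCategory.Q.obj P₀ ≅ K) := by
  obtain ⟨P, ψ, hP⟩ := exists_functorial_kFlat_resolution X
  let F₀ := DerivedCategory.Q.objPreimage K
  let e₀ : DerivedCategory.Q.obj F₀ ≅ K := DerivedCategory.Q.objObjPreimageIso K
  haveI : QuasiIso (ψ.app F₀) := (hP F₀).2.2.1
  have hs : IsIso (DerivedCategory.Q.map (ψ.app F₀)) := by
    rw [DerivedCategory.isIso_Q_map_iff_quasiIso]; infer_instance
  exact ⟨P.obj F₀, (hP F₀).1, ⟨@asIso _ _ _ _ (DerivedCategory.Q.map (ψ.app F₀)) hs ≪≫ e₀⟩⟩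

/-- restriction along an open immersion preserves quasi-coherent cohomology -/
lemma isQCohD_RCx {U X : Scheme.{u}} (j : U ⟶ X) [IsOpenImmersion j]
    (I : CochainComplex X.Modules ℤ) (hI : DCoh.IsQCohD (DerivedCategory.Q.obj I)) :
    DCoh.IsQCohD (DerivedCategory.Q.obj ((RCx j).obj I)) := by
  rw [LC17.isQCohD_Q_iff] at hI ⊢
  intro i
  haveI : (I.homology i).IsQuasicoherent := hI i
  have h1 : ((Scheme.Modules.restrictFunctor j).obj (I.homology i)).IsQuasicoherent :=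
    inferInstance
  exact LC5.isQCoh_of_iso
    (Groth.Agent.Lib.Helper26.SuppD2.homologyMapIso (Scheme.Modules.restrictFunctor j) I i).symm
    h1

/-- **`Lf^*` preserves `D_QCoh`** -/
theorem main {Y X : Scheme.{u}} (f : Y ⟶ X) [DCoh.HasLpull f] (K : DCoh.D X)
    (hK : DCoh.IsQCohD K) : DCoh.IsQCohD ((DCoh.Lpull f).obj K) := by
  obtain ⟨P₀, hP₀, ⟨e₁⟩⟩ := exists_kflat_rep K
  have hQ₀ : DCoh.IsQCohD (DerivedCategory.Q.obj P₀) := LC11.isQCohD_of_iso e₁.symm hK
  refine LC11.isQCohD_of_iso ((LpullIso f P₀ hP₀).symm ≪≫ (DCoh.Lpull f).mapIso e₁) ?_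
  rw [LC17.isQCohD_Q_iff]
  intro i
  -- the affine opens of `Y` mapping into an affine open of `X`
  let ι : Type u := {W : Y.affineOpens // ∃ V : X.affineOpens, W.1 ≤ f ⁻¹ᵁ V.1}
  refine Groth.Agent.Lib.Helper17.CohKer.isQuasicoherent_of_restrict_fromSpec _
    (fun W : ι => W.1.1) ?_ (fun W => W.1.2) (fun W => ?_)
  · apply TopologicalSpace.IsOpenCover.mk
    rw [eq_top_iff]
    intro y _
    obtain ⟨V, hV⟩ : ∃ V : X.affineOpens, f y ∈ V.1 := by
      have hx : f y ∈ (⨆ V : X.affineOpens, (V.1 : X.Opens)) := by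
        rw [iSup_affineOpens_eq_top]; trivial
      exact Opens.mem_iSup.1 hx
    obtain ⟨_, ⟨(W : Y.Opens), (hW : IsAffineOpen W), rfl⟩, (hyW : y ∈ W), (hWV : W ≤ f ⁻¹ᵁ V.1)⟩ :=
      Y.isBasis_affineOpens.exists_subset_of_mem_open (show y ∈ ((f ⁻¹ᵁ V.1 : Y.Opens) : Set Y) from hV)
        (f ⁻¹ᵁ V.1).isOpen
    exact Opens.mem_iSup.2 ⟨⟨⟨W, hW⟩, V, hWV⟩, hyW⟩
  · obtain ⟨⟨W, (hW : IsAffineOpen W)⟩, ⟨⟨V, (hV : IsAffineOpen V)⟩, (hWV : W ≤ f ⁻¹ᵁ V)⟩⟩ := W
    change ((((pullCx f).obj P₀).homology i).restrict hW.fromSpec).IsQuasicoherent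
    -- the induced morphism of spectra
    have hr : Set.range (hW.fromSpec ≫ f) ⊆ Set.range hV.fromSpec := by
      rintro _ ⟨z, rfl⟩
      rw [hV.range_fromSpec]
      have hz : (hW.fromSpec z : Y) ∈ (W : Set Y) := by
        rw [← hW.range_fromSpec]; exact ⟨z, rfl⟩
      exact hWV hz
    let g : Spec Γ(Y, W) ⟶ Spec Γ(X, V) :=
      IsOpenImmersion.lift hV.fromSpec (hW.fromSpec ≫ f) hr
    have hg : hW.fromSpec ≫ f = g ≫ hV.fromSpec :=
      (IsOpenImmersion.lift_fac hV.fromSpec (hW.fromSpec ≫ f) hr).symm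
    have h1 := isQCoh_pull_homology_spec Γ(X, V) ((RCx hV.fromSpec).obj P₀)
      (isKFlat_RCx hV.fromSpec P₀ hP₀) (isQCohD_RCx hV.fromSpec P₀ hQ₀) g i
    exact LC5.isQCoh_of_iso
      ((HomologicalComplex.homologyFunctor _ _ i).mapIso
        ((pullCxRCxIso f hW.fromSpec hV.fromSpec g hg).app P₀).symm ≪≫
      Groth.Agent.Lib.Helper26.SuppD2.homologyMapIso
        (Scheme.Modules.restrictFunctor hW.fromSpec) _ i) h1

end Groth.Agent.Lib.Helper26.LC19
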