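import Mathlib
import Groth.Agent.Lib.Helper16.RM4
import Groth.Agent.Lib.Helper16.QCohSigma
import Groth.Agent.Lib.Helper17.TensorQC
import Groth.Agent.Lib.Helper26.LC19

set_option maxHeartbeats 400000
set_option linter.style.haveILetI false
set_option linter.unusedSectionVars false
set_option linter.unusedVariables false

universe u

open CategoryTheory CategoryTheory.Limits AlgebraicGeometry Opposite ZeroObject TopologicalSpace

namespace Groth.Agent.Lib.Helper26.LC22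

attribute [local instance] HasDerivedCategory.standard

open Groth.Agent.Lib.Helper26 Groth.Agent.Lib.Helper16.KD Groth.Agent.Lib.Helper16.RS
  Groth.Agent.Lib.Helper16.BiCx Groth.Agent.Lib.Helper16.RM

/-- small coproducts of quasi-coherent modules are quasi-coherent (index type in `Type`) -/
lemma isQuasicoherent_sigma' {X : Scheme.{u}} {ι : Type} (F : ι → X.Modules)
    (h : ∀ i, (F i).IsQuasicoherent) : (∐ F).IsQuasicoherent := by
  haveI : ∀ i : ULift.{u} ι, ((F ∘ Equiv.ulift) i).IsQuasicoherent := fun i => h i.down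
  have h1 : (∐ (F ∘ (Equiv.ulift : ULift.{u} ι ≃ ι))).IsQuasicoherent :=
    Groth.Agent.Lib.Helper16.QCohSigma.isQuasicoherent_sigma _
  exact LC5.isQCoh_of_iso (Sigma.reindex (Equiv.ulift : ULift.{u} ι ≃ ι) F) h1

/-- the terms of the tensor product of complexes with quasi-coherent terms are quasi-coherent -/
lemma isQCoh_T_X {X : Scheme.{u}} (L K : CochainComplex X.Modules ℤ)
    (hL : ∀ n, (L.X n).IsQuasicoherent) (hK : ∀ n, (K.X n).IsQuasicoherent) (n : ℤ) :
    ((T (DCoh.tensorBi (X := X)) L K).X n).IsQuasicoherent := by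
  apply isQuasicoherent_sigma'
  rintro ⟨⟨p, q⟩, hpq⟩
  haveI := hL p
  haveI := hK q
  exact Groth.Agent.Lib.Helper17.TensorQC.isQuasicoherent_tensorMod (L.X p) (K.X q)

/-- on `Spec R`: the tensor product of a K-flat complex with quasi-coherent cohomology and a complex
with quasi-coherent cohomology has quasi-coherent cohomology -/
theorem isQCoh_tensor_homology_spec (R : CommRingCat.{u})
    (P₁ F₁ : CochainComplex (Spec (CommRingCat.of R)).Modules ℤ) (hP₁ : DCoh.IsKFlat P₁)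
    (hQ : DCoh.IsQCohD (DerivedCategory.Q.obj P₁)) (hF : DCoh.IsQCohD (DerivedCategory.Q.obj F₁))
    (i : ℤ) :
    Coh.IsQCoh ((T (DCoh.tensorBi (X := Spec (CommRingCat.of R))) P₁ F₁).homology i) := by
  obtain ⟨M, ⟨e⟩⟩ := ((LC13.main R).2.2 (DerivedCategory.Q.obj P₁)).1 hQ
  obtain ⟨P, hKP, hproj, hfl, ⟨e'⟩⟩ := Groth.Agent.Lib.Helper16.KF.exists_kprojective_kflat M
  obtain ⟨N, ⟨eN⟩⟩ := ((LC13.main R).2.2 (DerivedCategory.Q.obj F₁)).1 hF
  obtain ⟨B, hKB, hprojB, hflB, ⟨eB'⟩⟩ := Groth.Agent.Lib.Helper16.KF.exists_kprojective_kflat N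
  let tP := ((tilde.functor R).mapHomologicalComplex (ComplexShape.up ℤ)).obj P
  let tB := ((tilde.functor R).mapHomologicalComplex (ComplexShape.up ℤ)).obj B
  have hP₂ : DCoh.IsKFlat tP := Groth.Agent.Lib.Helper16.Stk.tilde_isKFlat R P hfl
  have hB₂ : DCoh.IsKFlat tB := Groth.Agent.Lib.Helper16.Stk.tilde_isKFlat R B hflB
  let e₂ : DerivedCategory.Q.obj tP ≅ DerivedCategory.Q.obj P₁ :=
    ((tilde.functor R).mapDerivedCategoryFactors.app P).symm ≪≫ (DCoh.tildeD R).mapIso e' ≪≫ e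
  let e₃ : DerivedCategory.Q.obj tB ≅ DerivedCategory.Q.obj F₁ :=
    ((tilde.functor R).mapDerivedCategoryFactors.app B).symm ≪≫ (DCoh.tildeD R).mapIso eB' ≪≫ eN
  obtain ⟨e₄⟩ := nonempty_iso_Q_T hB₂ hP₁ e₂ e₃
  have h₂ : DCoh.IsQCohD (DerivedCategory.Q.obj
      (T (DCoh.tensorBi (X := Spec (CommRingCat.of R))) tP tB)) := by
    apply LC8.isQCohD_Q
    intro n
    exact isQCoh_T_X tP tB (fun n => inferInstanceAs ((tilde.functor R).obj (P.X n)).IsQuasicoherent)
      (fun n => inferInstanceAs ((tilde.functor R).obj (B.X n)).IsQuasicoherent) n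
  exact (LC17.isQCohD_Q_iff _).1 (LC11.isQCohD_of_iso e₄ h₂) i

/-- **`E ⊗^L F ∈ D_QCoh` for `E, F ∈ D_QCoh`** -/
theorem main {X : Scheme.{u}} (F : CochainComplex X.Modules ℤ)
    (hF : DCoh.IsQCohD (DCoh.toD X F)) [DCoh.HasLTensorCx F]
    (E : DCoh.D X) (hE : DCoh.IsQCohD E) : DCoh.IsQCohD ((DCoh.LTensorCx F).obj E) := by
  obtain ⟨P₀, hP₀, ⟨e₁⟩⟩ := LC19.exists_kflat_rep E
  have hQ₀ : DCoh.IsQCohD (DerivedCategory.Q.obj P₀) := LC11.isQCohD_of_iso e₁.symm hE
  refine LC11.isQCohD_of_iso ((LTensorCxIso F P₀ hP₀).symm ≪≫ (DCoh.LTensorCx F).mapIso e₁) ?_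
  rw [LC17.isQCohD_Q_iff]
  intro i
  refine Groth.Agent.Lib.Helper17.CohKer.isQuasicoherent_of_restrict_fromSpec _
    (fun V : X.affineOpens => V.1) ?_ (fun V => V.2) (fun V => ?_)
  · exact TopologicalSpace.IsOpenCover.mk (iSup_affineOpens_eq_top X)
  · obtain ⟨V, (hV : IsAffineOpen V)⟩ := V
    have h1 := isQCoh_tensor_homology_spec Γ(X, V) ((RCx hV.fromSpec).obj P₀)
      ((RCx hV.fromSpec).obj F) (isKFlat_RCx hV.fromSpec P₀ hP₀)
      (LC19.isQCohD_RCx hV.fromSpec P₀ hQ₀) (LC19.isQCohD_RCx hV.fromSpec F hF) i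
    exact LC5.isQCoh_of_iso
      ((HomologicalComplex.homologyFunctor _ _ i).mapIso (tensorRCxIso hV.fromSpec P₀ F) ≪≫
        Groth.Agent.Lib.Helper26.SuppD2.homologyMapIso
          (Scheme.Modules.restrictFunctor hV.fromSpec) _ i) h1

end Groth.Agent.Lib.Helper26.LC22
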