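import Mathlib
import Groth.Prelude.Def_CxOX
import Groth.Prelude.Def_DCoh3
import Groth.Agent.Lib.Helper26.OpenBC1
import Groth.Agent.Lib.Helper26.MVMod4

set_option maxHeartbeats 400000
set_option linter.style.haveILetI false
set_option linter.unusedSectionVars false

universe w w' v v' u u'

open CategoryTheory CategoryTheory.Limits AlgebraicGeometry

namespace Groth.Agent.Lib.Helper26.OpenBC2

section General

variable {A : Type u} [Category.{v} A] [Abelian A] [IsGrothendieckAbelian.{v} A]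
  [HasDerivedCategory.{w} A] {H : Type*} [Category H]
  (F' : HomotopyCategory A (ComplexShape.up ℤ) ⥤ H)

/-- a natural transformation which is an isomorphism on K-injective complexes exhibits a
right derived functor -/
lemma isRightDerivedFunctor_of_isIso_app (T : DerivedCategory A ⥤ H)
    (γ : F' ⟶ DerivedCategory.Qh ⋙ T)
    (hγ : ∀ I : CochainComplex A ℤ, I.IsKInjective →
      IsIso (γ.app ((HomotopyCategory.quotient A (ComplexShape.up ℤ)).obj I))) :
    T.IsRightDerivedFunctor γ (HomotopyCategory.quasiIso A (ComplexShape.up ℤ)) := by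
  have := Groth.Agent.Lib.Helper8.KInjDer.isRightDerivabilityStructure
    (Groth.Agent.Lib.Helper26.KInjAdjH.hK (B := A))
  exact (Groth.Agent.Lib.Helper8.KInjDer.derives F').isRightDerivedFunctor_of_isIso γ
    (fun X => hγ X.obj.as X.property)

/-- two functors receiving natural transformations which are isomorphisms on K-injective
complexes are isomorphic -/
lemma nonempty_iso_of_isIso_app (T₁ T₂ : DerivedCategory A ⥤ H)
    (γ₁ : F' ⟶ DerivedCategory.Qh ⋙ T₁) (γ₂ : F' ⟶ DerivedCategory.Qh ⋙ T₂)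
    (hγ₁ : ∀ I : CochainComplex A ℤ, I.IsKInjective →
      IsIso (γ₁.app ((HomotopyCategory.quotient A (ComplexShape.up ℤ)).obj I)))
    (hγ₂ : ∀ I : CochainComplex A ℤ, I.IsKInjective →
      IsIso (γ₂.app ((HomotopyCategory.quotient A (ComplexShape.up ℤ)).obj I))) :
    Nonempty (T₁ ≅ T₂) := by
  have h1 := isRightDerivedFunctor_of_isIso_app F' T₁ γ₁ hγ₁
  have h2 := isRightDerivedFunctor_of_isIso_app F' T₂ γ₂ hγ₂
  exact ⟨Functor.rightDerivedUnique T₁ T₂ γ₁ γ₂
    (HomotopyCategory.quasiIso A (ComplexShape.up ℤ))⟩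

end General


section Sch

attribute [local instance] HasDerivedCategory.standard

open Scheme.Modules Groth.Agent.Lib.Helper26.OpenBC1 Groth.Agent.Lib.Helper26.MVMod4

variable {X Y : Scheme.{u}} (f : X ⟶ Y) (V : Y.Opens)
  [DCoh.HasRpush f] [DCoh.HasRpush (f ∣_ V)]
  [PreservesFiniteLimits (restrictFunctor V.ι)]
  [PreservesFiniteLimits (restrictFunctor (f ⁻¹ᵁ V).ι)]

/-- first natural transformation -/
noncomputable def γ₁ : DCoh.pushKh f ⋙ DCoh.restrictD V.ι ⟶
    DerivedCategory.Qh ⋙ (DCoh.Rpush f ⋙ DCoh.restrictD V.ι) :=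
  Functor.whiskerRight ((DCoh.pushKh f).totalRightDerivedUnit DerivedCategory.Qh
    (HomotopyCategory.quasiIso X.Modules (ComplexShape.up ℤ))) (DCoh.restrictD V.ι) ≫
    (Functor.associator _ _ _).hom

/-- rewriting the source -/
noncomputable def e₁ : DCoh.pushKh f ⋙ DCoh.restrictD V.ι ≅
    (restrictFunctor (f ⁻¹ᵁ V).ι).mapHomotopyCategory (ComplexShape.up ℤ) ⋙
      DCoh.pushKh (f ∣_ V) :=
  Functor.associator _ _ _ ≪≫
  Functor.isoWhiskerLeft _ (restrictFunctor V.ι).mapDerivedCategoryFactorsh ≪≫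
  (Functor.associator _ _ _).symm ≪≫
  Functor.isoWhiskerRight (Functor.mapHomotopyCategoryCompIso (bc f V) (ComplexShape.up ℤ) ≪≫
    (Functor.mapHomotopyCategoryCompIso (Iso.refl _) (ComplexShape.up ℤ)).symm)
      DerivedCategory.Qh ≪≫
  Functor.associator _ _ _

/-- rewriting the target -/
noncomputable def e₂ :
    (restrictFunctor (f ⁻¹ᵁ V).ι).mapHomotopyCategory (ComplexShape.up ℤ) ⋙
      (DerivedCategory.Qh ⋙ DCoh.Rpush (f ∣_ V)) ≅
    DerivedCategory.Qh ⋙ (DCoh.restrictD (f ⁻¹ᵁ V).ι ⋙ DCoh.Rpush (f ∣_ V)) :=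
  (Functor.associator _ _ _).symm ≪≫
    Functor.isoWhiskerRight (restrictFunctor (f ⁻¹ᵁ V).ι).mapDerivedCategoryFactorsh.symm
      (DCoh.Rpush (f ∣_ V)) ≪≫
    Functor.associator _ _ _

/-- second natural transformation -/
noncomputable def γ₂ : DCoh.pushKh f ⋙ DCoh.restrictD V.ι ⟶
    DerivedCategory.Qh ⋙ (DCoh.restrictD (f ⁻¹ᵁ V).ι ⋙ DCoh.Rpush (f ∣_ V)) :=
  (e₁ f V).hom ≫
    Functor.whiskerLeft _ ((DCoh.pushKh (f ∣_ V)).totalRightDerivedUnit DerivedCategory.Qh
      (HomotopyCategory.quasiIso _ (ComplexShape.up ℤ))) ≫ (e₂ f V).hom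

theorem main :
    Nonempty (DCoh.Rpush f ⋙ DCoh.restrictD V.ι ≅
      DCoh.restrictD (f ⁻¹ᵁ V).ι ⋙ DCoh.Rpush (f ∣_ V)) := by
  refine nonempty_iso_of_isIso_app _ _ _ (γ₁ f V) (γ₂ f V) ?_ ?_
  · intro I hI
    have := Groth.Agent.Lib.Helper26.KInjComp.isIso_unit_of_isKInjective (DCoh.pushKh f) _
      ((DCoh.pushKh f).totalRightDerivedUnit DerivedCategory.Qh
        (HomotopyCategory.quasiIso X.Modules (ComplexShape.up ℤ))) I
    simp only [γ₁, NatTrans.comp_app, Functor.whiskerRight_app, Functor.associator_hom_app]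
    infer_instance
  · intro I hI
    have := Groth.Agent.Lib.Helper26.KInjComp.isIso_unit_of_isKInjective
      (DCoh.pushKh (f ∣_ V)) _
      ((DCoh.pushKh (f ∣_ V)).totalRightDerivedUnit DerivedCategory.Qh
        (HomotopyCategory.quasiIso _ (ComplexShape.up ℤ)))
      (((restrictFunctor (f ⁻¹ᵁ V).ι).mapHomologicalComplex (ComplexShape.up ℤ)).obj I)
    simp only [γ₂, NatTrans.comp_app, Functor.whiskerLeft_app]
    have : IsIso (((DCoh.pushKh (f ∣_ V)).totalRightDerivedUnit DerivedCategory.Qh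
      (HomotopyCategory.quasiIso _ (ComplexShape.up ℤ))).app
        (((restrictFunctor (f ⁻¹ᵁ V).ι).mapHomotopyCategory (ComplexShape.up ℤ)).obj
          ((HomotopyCategory.quotient _ _).obj I))) := this
    infer_instance

end Sch

end Groth.Agent.Lib.Helper26.OpenBC2
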