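import Mathlib
import Groth.Prelude.Def_CxOX
import Groth.Prelude.Def_DCoh3
import Groth.Prelude.Def_CohB1
import Groth.Agent.Lib.Helper26.SuppD3
import Groth.Agent.Lib.Helper26.OpenBC2

set_option maxHeartbeats 400000
set_option linter.style.haveILetI false
set_option linter.unusedSectionVars false

universe u

open CategoryTheory CategoryTheory.Limits AlgebraicGeometry Opposite ZeroObject

namespace Groth.Agent.Lib.Helper26.SuppD4

open Scheme.Modules Groth.Agent.Lib.Helper26.MVMod1 Groth.Agent.Lib.Helper26.MVMod4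
  Groth.Agent.Lib.Helper26.SuppD1 Groth.Agent.Lib.Helper26.SuppD2 Groth.Agent.Lib.Helper26.SuppD3

attribute [local instance] HasDerivedCategory.standard

/-- if the restriction to an open vanishes, the stalks at its points vanish -/
lemma stalk_subsingleton_of_isZero_restrict {Y : Scheme.{u}} (N : Y.Modules) (V : Y.Opens)
    (h : IsZero ((restrictFunctor V.ι).obj N)) (y : Y) (hy : y ∈ V) :
    Subsingleton (N.presheaf.stalk y) := by
  have key : ∀ t : N.presheaf.stalk y, t = 0 := by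
    intro t
    obtain ⟨W, hW, s, rfl⟩ := TopCat.Presheaf.exists_germ_eq N.presheaf t
    have hW' : V.ι ''ᵁ (V.ι ⁻¹ᵁ W) ≤ W := V.ι.image_preimage_le W
    have hyW' : y ∈ V.ι ''ᵁ (V.ι ⁻¹ᵁ W) := by
      rw [cap_eq]
      exact ⟨hy, hW⟩
    have hz : IsZero Γ(N, V.ι ''ᵁ (V.ι ⁻¹ᵁ W)) := isZero_sections _ h (V.ι ⁻¹ᵁ W)
    rw [← TopCat.Presheaf.germ_res_apply N.presheaf (homOfLE hW') y hyW' s]
    have : N.presheaf.map (homOfLE hW').op s = 0 :=
      congrArg (fun φ => φ s) (hz.eq_of_tgt (N.presheaf.map (homOfLE hW').op) 0)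
    rw [this, map_zero]
  exact ⟨fun a b => (key a).trans (key b).symm⟩

theorem support_Rpush {X Y : Scheme.{u}} (f : X ⟶ Y) [IsProper f]
    [DCoh.HasRpush f] (Z : Set ↥X) (hZ : IsClosed Z) (E : DCoh.D X)
    (hE : ∀ i : ℤ, CohB1.support (DCoh.HD E i) ⊆ Z) (i : ℤ) :
    CohB1.support (DCoh.HD ((DCoh.Rpush f).obj E) i) ⊆ f.base '' Z := by
  have hcl : IsClosed (f.base '' Z) := f.isClosedMap _ hZ
  let V : Y.Opens := ⟨(f.base '' Z)ᶜ, hcl.isOpen_compl⟩
  have hU : ∀ x ∈ f ⁻¹ᵁ V, x ∉ Z := fun x hx hxZ => hx ⟨x, hxZ, rfl⟩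
  have h1 : IsZero ((DCoh.restrictD (f ⁻¹ᵁ V).ι).obj E) :=
    isZero_mapDerivedCategory_obj (restrictFunctor (f ⁻¹ᵁ V).ι) E (fun i =>
      isZero_restrict_of_support _ _ (fun x hx hx' => hU x hx (hE i hx')))
  haveI := hasRpush (f ∣_ V)
  obtain ⟨e⟩ := Groth.Agent.Lib.Helper26.OpenBC2.main f V
  have h2 : IsZero ((DCoh.restrictD V.ι).obj ((DCoh.Rpush f).obj E)) :=
    (isZero_Rpush_obj (f ∣_ V) _ h1).of_iso (e.app E)
  have h3 : IsZero ((restrictFunctor V.ι).obj (DCoh.HD ((DCoh.Rpush f).obj E) i)) :=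
    (Functor.map_isZero (DerivedCategory.homologyFunctor _ i) h2).of_iso
      (homologyIso (restrictFunctor V.ι) ((DCoh.Rpush f).obj E) i).symm
  intro y hy
  by_contra hyZ
  exact hy (stalk_subsingleton_of_isZero_restrict _ V h3 y hyZ)

end Groth.Agent.Lib.Helper26.SuppD4
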