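import Mathlib
import Groth.Prelude.Def_CxOX
import Groth.Agent.Lib.Helper26.SuppD4

set_option maxHeartbeats 400000
set_option linter.style.haveILetI false
set_option linter.unusedSectionVars false

universe u

open CategoryTheory CategoryTheory.Limits AlgebraicGeometry Opposite ZeroObject

namespace Groth.Agent.Lib.Helper26.CxB

open Scheme.Modules Groth.Agent.Lib.Helper26.MVMod1 Groth.Agent.Lib.Helper26.MVMod4
  Groth.Agent.Lib.Helper26.SuppD1 Groth.Agent.Lib.Helper26.SuppD2 Groth.Agent.Lib.Helper26.SuppD3

attribute [local instance] HasDerivedCategory.standard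

/-- if the restriction along an open immersion vanishes, the stalks at points of its range
vanish -/
lemma stalk_subsingleton_of_isZero_restrict {X Y : Scheme.{u}} (j : X ⟶ Y) [IsOpenImmersion j]
    (N : Y.Modules) (h : IsZero ((restrictFunctor j).obj N)) (y : Y)
    (hy : y ∈ Set.range j.base) : Subsingleton (N.presheaf.stalk y) := by
  have key : ∀ t : N.presheaf.stalk y, t = 0 := by
    intro t
    obtain ⟨W, hW, s, rfl⟩ := TopCat.Presheaf.exists_germ_eq N.presheaf t
    have hW' : j ''ᵁ (j ⁻¹ᵁ W) ≤ W := j.image_preimage_le W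
    have hyW' : y ∈ j ''ᵁ (j ⁻¹ᵁ W) := by
      obtain ⟨x, rfl⟩ := hy
      exact ⟨x, hW, rfl⟩
    have hz : IsZero Γ(N, j ''ᵁ (j ⁻¹ᵁ W)) := isZero_sections _ h (j ⁻¹ᵁ W)
    rw [← TopCat.Presheaf.germ_res_apply N.presheaf (homOfLE hW') y hyW' s]
    have : N.presheaf.map (homOfLE hW').op s = 0 :=
      congrArg (fun φ => φ s) (hz.eq_of_tgt (N.presheaf.map (homOfLE hW').op) 0)
    rw [this, map_zero]
  exact ⟨fun a b => (key a).trans (key b).symm⟩

/-- a module with vanishing stalks is zero -/
lemma isZero_of_stalks {Y : Scheme.{u}} (N : Y.Modules)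
    (h : ∀ y : Y, Subsingleton (N.presheaf.stalk y)) : IsZero N := by
  apply isZero_of_sections
  intro T
  have : Subsingleton Γ(N, T) := by
    constructor
    intro s t
    apply TopCat.Presheaf.section_ext ⟨N.presheaf, N.isSheaf⟩ T s t
    intro x hx
    exact (h x).elim _ _
  exact AddCommGrpCat.isZero_of_subsingleton _

/-- a module vanishing on both pieces of an open cover is zero -/
lemma isZero_of_restrict_cover {X Y : Scheme.{u}} (j : X ⟶ Y) [IsOpenImmersion j]
    (W : Y.Opens) (hW : (W : Set Y)ᶜ ⊆ Set.range j.base) (N : Y.Modules)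
    (h1 : IsZero ((restrictFunctor j).obj N)) (h2 : IsZero ((restrictFunctor W.ι).obj N)) :
    IsZero N := by
  apply isZero_of_stalks
  intro y
  by_cases hy : y ∈ W
  · exact Groth.Agent.Lib.Helper26.SuppD4.stalk_subsingleton_of_isZero_restrict N W h2 y hy
  · exact stalk_subsingleton_of_isZero_restrict j N h1 y (hW hy)

/-- an object of the derived category vanishing on both pieces of an open cover is zero -/
lemma isZero_of_restrictD_cover {X Y : Scheme.{u}} (j : X ⟶ Y) [IsOpenImmersion j]
    (W : Y.Opens) (hW : (W : Set Y)ᶜ ⊆ Set.range j.base) (C : DCoh.D Y)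
    (h1 : IsZero ((DCoh.restrictD j).obj C)) (h2 : IsZero ((DCoh.restrictD W.ι).obj C)) :
    IsZero C := by
  apply isZero_of_homology
  intro i
  apply isZero_of_restrict_cover j W hW
  · exact (Functor.map_isZero (DerivedCategory.homologyFunctor _ i) h1).of_iso
      (homologyIso (restrictFunctor j) C i).symm
  · exact (Functor.map_isZero (DerivedCategory.homologyFunctor _ i) h2).of_iso
      (homologyIso (restrictFunctor W.ι) C i).symm

open Pretriangulated in
/-- a morphism of the derived category which is an isomorphism on both pieces of an open cover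
is an isomorphism -/
lemma isIso_of_restrictD_cover {X Y : Scheme.{u}} (j : X ⟶ Y) [IsOpenImmersion j]
    (W : Y.Opens) (hW : (W : Set Y)ᶜ ⊆ Set.range j.base) {E E' : DCoh.D Y} (φ : E ⟶ E')
    (h1 : IsIso ((DCoh.restrictD j).map φ)) (h2 : IsIso ((DCoh.restrictD W.ι).map φ)) :
    IsIso φ := by
  obtain ⟨C, g, h, hT⟩ := distinguished_cocone_triangle φ
  refine (Triangle.isZero₃_iff_isIso₁ _ hT).1 ?_
  change IsZero C
  apply isZero_of_restrictD_cover j W hW
  · have hT' := (DCoh.restrictD j).map_distinguished _ hT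
    exact (Triangle.isZero₃_iff_isIso₁ _ hT').2 h1
  · have hT' := (DCoh.restrictD W.ι).map_distinguished _ hT
    exact (Triangle.isZero₃_iff_isIso₁ _ hT').2 h2

end Groth.Agent.Lib.Helper26.CxB
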