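import Mathlib.RingTheory.Length
import Mathlib.RingTheory.Flat.Basic
import Mathlib.RingTheory.TensorProduct.Quotient
import Mathlib.RingTheory.LocalRing.ResidueField.Basic
import Mathlib.RingTheory.SimpleModule.Basic
import Mathlib.LinearAlgebra.TensorProduct.RightExactness

/-!
Length under a flat local base change `A → B` with `m_A B = m_B`.
-/

set_option autoImplicit false
universe u

namespace Groth.Agent.Lib.Helper26.FlatLocalLength

open IsLocalRing TensorProduct

variable {A : Type u} [CommRing A] [IsLocalRing A] {B : Type u} [CommRing B] [IsLocalRing B]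
  [Algebra A B] [Module.Flat A B]

/-- `B ⊗ (A/J) ≃ B/JB` as `B`-modules (from Mathlib, as a linear equivalence). -/
noncomputable def quotEquiv (J : Ideal A) :
    (B ⧸ J.map (algebraMap A B)) ≃ₗ[B] B ⊗[A] (A ⧸ J) :=
  (Algebra.TensorProduct.quotIdealMapEquivTensorQuot B J).toLinearEquiv

omit [IsLocalRing A] [IsLocalRing B] [Module.Flat A B] in
theorem quotEquiv_mk (J : Ideal A) (b : B) :
    quotEquiv (B := B) J (Submodule.Quotient.mk b) = b ⊗ₜ[A] 1 := rfl

theorem length_quot_maximal (hm : (maximalIdeal A).map (algebraMap A B) = maximalIdeal B) :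
    Module.length B (B ⊗[A] (A ⧸ maximalIdeal A)) = 1 := by
  rw [← (quotEquiv (B := B) (maximalIdeal A)).length_eq, hm]
  have : IsSimpleModule B (B ⧸ maximalIdeal B) :=
    isSimpleModule_iff_quot_maximal.mpr ⟨maximalIdeal B, inferInstance, ⟨LinearEquiv.refl _ _⟩⟩
  exact Module.length_eq_one B _

theorem length_baseChange (hm : (maximalIdeal A).map (algebraMap A B) = maximalIdeal B)
    (M : Type u) [AddCommGroup M] [Module A M] (hM : IsFiniteLength A M) :
    Module.length B (B ⊗[A] M) = Module.length A M := by
  induction hM with
  | of_subsingleton =>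
    rw [Module.length_eq_zero, Module.length_eq_zero]
  | @of_simple_quotient M _ _ N hs hN ih =>
    have hinj : Function.Injective (LinearMap.baseChange B N.subtype) :=
      Module.Flat.lTensor_preserves_injective_linearMap _ (Submodule.subtype_injective N)
    have hsurj : Function.Surjective (LinearMap.baseChange B N.mkQ) :=
      LinearMap.lTensor_surjective B (Submodule.mkQ_surjective N)
    have hex : Function.Exact (LinearMap.baseChange B N.subtype) (LinearMap.baseChange B N.mkQ) :=
      lTensor_exact B (LinearMap.exact_subtype_mkQ N) (Submodule.mkQ_surjective N)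
    obtain ⟨I, hI, ⟨e⟩⟩ := isSimpleModule_iff_quot_maximal.mp hs
    have hIm : I = maximalIdeal A := IsLocalRing.eq_maximalIdeal hI
    subst hIm
    have h1 : Module.length B (B ⊗[A] (M ⧸ N)) = 1 := by
      rw [(LinearEquiv.baseChange A B _ _ e).length_eq]
      exact length_quot_maximal hm
    rw [Module.length_eq_add_of_exact _ _ hinj hsurj hex, ih, h1,
      Module.length_eq_add_of_exact N.subtype N.mkQ (Submodule.subtype_injective _)
        (Submodule.mkQ_surjective N) (LinearMap.exact_subtype_mkQ N),
      Module.length_eq_one A (M ⧸ N)]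

end Groth.Agent.Lib.Helper26.FlatLocalLength
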