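import Mathlib
import Groth.Prelude.Def_CohB1

set_option autoImplicit false
set_option maxHeartbeats 400000
set_option linter.style.haveILetI false
set_option linter.unusedSectionVars false
universe u
open CategoryTheory CategoryTheory.Limits AlgebraicGeometry Opposite TopologicalSpace

namespace Groth.Agent.Lib.Helper26.SuppRes

variable {X : Scheme.{u}}

lemma section_eq_zero_of_isZero (N : X.Modules) (h : IsZero N) (T : X.Opens) (s : Γ(N, T)) :
    s = 0 := by
  have h1 : (𝟙 N : N ⟶ N) = 0 := (IsZero.iff_id_eq_zero N).1 h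
  have h2 := congrArg (fun φ : N ⟶ N => φ.app T s) h1
  simpa using h2

/-- a module whose restriction to the open `U` is zero is supported off `U` -/
theorem support_subset_compl (N : X.Modules) (U : X.Opens)
    (h : IsZero ((Scheme.Modules.restrictFunctor U.ι).obj N)) :
    CohB1.support N ⊆ (U : Set X)ᶜ := by
  intro x hx hxU
  apply hx
  suffices h0 : ∀ a : N.presheaf.stalk x, a = 0 from ⟨fun a b => by rw [h0 a, h0 b]⟩
  intro a
  obtain ⟨V, hxV, t, rfl⟩ := TopCat.Presheaf.exists_germ_eq N.presheaf a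
  have hW : x ∈ U.ι ''ᵁ (U.ι ⁻¹ᵁ V) := by
    rw [Scheme.Hom.image_preimage_eq_opensRange_inf, Scheme.Opens.opensRange_ι]
    exact ⟨hxU, hxV⟩
  have hle : U.ι ''ᵁ (U.ι ⁻¹ᵁ V) ≤ V := U.ι.image_preimage_le V
  rw [← TopCat.Presheaf.germ_res_apply N.presheaf (homOfLE hle) x hW t]
  have h0 : N.presheaf.map (homOfLE hle).op t = 0 :=
    section_eq_zero_of_isZero ((Scheme.Modules.restrictFunctor U.ι).obj N) h (U.ι ⁻¹ᵁ V) _
  rw [h0, map_zero]

end Groth.Agent.Lib.Helper26.SuppRes
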