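import Mathlib
import Groth.Prelude.Def_CycAlg

set_option maxHeartbeats 400000
set_option autoImplicit false
set_option linter.unusedSectionVars false

namespace Groth.Agent.Lib.Helper26.Herbrand

open CycAlg Function

universe u v

section maps

variable {R : Type u} [CommRing R] {M N M' N' : Type v}
  [AddCommGroup M] [Module R M] [AddCommGroup N] [Module R N]
  [AddCommGroup M'] [Module R M'] [AddCommGroup N'] [Module R N']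
  (φ : M →ₗ[R] N) (ψ : N →ₗ[R] M) (φ' : M' →ₗ[R] N') (ψ' : N' →ₗ[R] M')
  (f : M →ₗ[R] M') (g : N →ₗ[R] N')

lemma mem_sub (x : LinearMap.ker φ) :
    x ∈ (LinearMap.range ψ).submoduleOf (LinearMap.ker φ) ↔ (x : M) ∈ LinearMap.range ψ := Iff.rfl

lemma f_mem_ker (cφ : φ' ∘ₗ f = g ∘ₗ φ) : ∀ x ∈ LinearMap.ker φ, f x ∈ LinearMap.ker φ' := by
  intro x hx
  rw [LinearMap.mem_ker] at hx ⊢
  have := LinearMap.congr_fun cφ x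
  simp only [LinearMap.comp_apply] at this
  rw [this, hx, map_zero]

lemma f_mem_range (cψ : ψ' ∘ₗ g = f ∘ₗ ψ) : ∀ x ∈ LinearMap.range ψ, f x ∈ LinearMap.range ψ' := by
  rintro _ ⟨n, rfl⟩
  refine ⟨g n, ?_⟩
  exact LinearMap.congr_fun cψ n

/-- induced map on cohomology -/
noncomputable def Hmap (cφ : φ' ∘ₗ f = g ∘ₗ φ) (cψ : ψ' ∘ₗ g = f ∘ₗ ψ) :
    perH φ ψ →ₗ[R] perH φ' ψ' :=
  Submodule.mapQ _ _ (f.restrict (f_mem_ker φ φ' f g cφ)) (by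
    rintro ⟨x, hx⟩ hx'
    exact f_mem_range ψ ψ' f g cψ x hx')

lemma Hmap_mk (cφ : φ' ∘ₗ f = g ∘ₗ φ) (cψ : ψ' ∘ₗ g = f ∘ₗ ψ) (x : LinearMap.ker φ) :
    Hmap φ ψ φ' ψ' f g cφ cψ (Submodule.Quotient.mk x) =
      Submodule.Quotient.mk ⟨f x, f_mem_ker φ φ' f g cφ x x.2⟩ := rfl

/-- top row map -/
noncomputable def topMap (cψ : ψ' ∘ₗ g = f ∘ₗ ψ) :
    (M ⧸ LinearMap.range ψ) →ₗ[R] (M' ⧸ LinearMap.range ψ') :=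
  Submodule.mapQ _ _ f (fun x hx => f_mem_range ψ ψ' f g cψ x hx)

/-- bottom row map -/
noncomputable def botMap (cψ : ψ' ∘ₗ g = f ∘ₗ ψ) :
    LinearMap.ker ψ →ₗ[R] LinearMap.ker ψ' :=
  g.restrict (f_mem_ker ψ ψ' g f cψ)

/-- vertical map induced by φ -/
noncomputable def vert (h : IsPeriodic φ ψ) : (M ⧸ LinearMap.range ψ) →ₗ[R] LinearMap.ker ψ :=
  (LinearMap.range ψ).liftQ (φ.codRestrict (LinearMap.ker ψ) (fun x => LinearMap.congr_fun h.2 x))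
    (by
      rintro _ ⟨n, rfl⟩
      rw [LinearMap.mem_ker]
      apply Subtype.ext
      exact LinearMap.congr_fun h.1 n)

lemma vert_mk (h : IsPeriodic φ ψ) (x : M) :
    (vert φ ψ h (Submodule.Quotient.mk x) : N) = φ x := rfl

/-- inclusion of cohomology into coker -/
noncomputable def iota : perH φ ψ →ₗ[R] (M ⧸ LinearMap.range ψ) :=
  Submodule.mapQ _ _ (LinearMap.ker φ).subtype le_rfl

lemma iota_mk (x : LinearMap.ker φ) :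
    iota φ ψ (Submodule.Quotient.mk x) = Submodule.Quotient.mk (x : M) := rfl

lemma iota_injective : Injective (iota φ ψ) := by
  rw [← LinearMap.ker_eq_bot, LinearMap.ker_eq_bot']
  intro y hy
  obtain ⟨x, rfl⟩ := Submodule.Quotient.mk_surjective _ y
  rw [iota_mk, Submodule.Quotient.mk_eq_zero] at hy
  rw [Submodule.Quotient.mk_eq_zero]
  exact hy

lemma exact_iota_vert (h : IsPeriodic φ ψ) : Exact (iota φ ψ) (vert φ ψ h) := by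
  intro y
  obtain ⟨x, rfl⟩ := Submodule.Quotient.mk_surjective _ y
  constructor
  · intro hx
    have hx' : φ x = 0 := by
      rw [← vert_mk φ ψ h x, hx]; rfl
    exact ⟨Submodule.Quotient.mk ⟨x, hx'⟩, rfl⟩
  · rintro ⟨z, hz⟩
    obtain ⟨x', rfl⟩ := Submodule.Quotient.mk_surjective _ z
    rw [← hz, iota_mk]
    apply Subtype.ext
    rw [vert_mk]
    exact x'.2

/-- projection from ker onto cohomology -/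
noncomputable def pi : LinearMap.ker ψ →ₗ[R] perH ψ φ := Submodule.mkQ _

lemma pi_surjective : Surjective (pi φ ψ) := Submodule.mkQ_surjective _

lemma exact_vert_pi (h : IsPeriodic φ ψ) : Exact (vert φ ψ h) (pi φ ψ) := by
  intro n
  constructor
  · intro hn
    have hn' : (n : N) ∈ LinearMap.range φ := by
      have := (Submodule.Quotient.mk_eq_zero _).mp hn
      exact this
    obtain ⟨x, hx⟩ := hn'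
    exact ⟨Submodule.Quotient.mk x, Subtype.ext hx⟩
  · rintro ⟨y, rfl⟩
    obtain ⟨x, rfl⟩ := Submodule.Quotient.mk_surjective _ y
    refine (Submodule.Quotient.mk_eq_zero _).mpr ?_
    exact ⟨x, rfl⟩

end maps


section half

variable {R : Type u} [CommRing R] {M₁ N₁ M₂ N₂ M₃ N₃ : Type v}
  [AddCommGroup M₁] [Module R M₁] [AddCommGroup N₁] [Module R N₁]
  [AddCommGroup M₂] [Module R M₂] [AddCommGroup N₂] [Module R N₂]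
  [AddCommGroup M₃] [Module R M₃] [AddCommGroup N₃] [Module R N₃]
  (φ₁ : M₁ →ₗ[R] N₁) (ψ₁ : N₁ →ₗ[R] M₁) (φ₂ : M₂ →ₗ[R] N₂) (ψ₂ : N₂ →ₗ[R] M₂)
  (φ₃ : M₃ →ₗ[R] N₃) (ψ₃ : N₃ →ₗ[R] M₃)
  (f₁ : M₁ →ₗ[R] M₂) (g₁ : N₁ →ₗ[R] N₂) (f₂ : M₂ →ₗ[R] M₃) (g₂ : N₂ →ₗ[R] N₃)

include φ₁ φ₂ φ₃ in
lemma exact_top (cψ₁ : ψ₂ ∘ₗ g₁ = f₁ ∘ₗ ψ₁) (cψ₂ : ψ₃ ∘ₗ g₂ = f₂ ∘ₗ ψ₂)
    (hg₂ : Surjective g₂) (hM : LinearMap.range f₁ = LinearMap.ker f₂) :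
    Exact (topMap ψ₁ ψ₂ f₁ g₁ cψ₁) (topMap ψ₂ ψ₃ f₂ g₂ cψ₂) := by
  intro y
  obtain ⟨x, rfl⟩ := Submodule.Quotient.mk_surjective _ y
  constructor
  · intro hx
    have hx' : f₂ x ∈ LinearMap.range ψ₃ := (Submodule.Quotient.mk_eq_zero _).mp hx
    obtain ⟨n₃, hn₃⟩ := hx'
    obtain ⟨n₂, rfl⟩ := hg₂ n₃
    have h0 : x - ψ₂ n₂ ∈ LinearMap.ker f₂ := by
      rw [LinearMap.mem_ker, map_sub, ← hn₃]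
      have := LinearMap.congr_fun cψ₂ n₂
      simp only [LinearMap.comp_apply] at this
      rw [this, sub_self]
    rw [← hM] at h0
    obtain ⟨m₁, hm₁⟩ := h0
    refine ⟨Submodule.Quotient.mk m₁, ?_⟩
    change Submodule.Quotient.mk (f₁ m₁) = Submodule.Quotient.mk x
    rw [hm₁, Submodule.Quotient.mk_sub, sub_eq_self, Submodule.Quotient.mk_eq_zero]
    exact ⟨n₂, rfl⟩
  · rintro ⟨z, hz⟩
    obtain ⟨m₁, rfl⟩ := Submodule.Quotient.mk_surjective _ z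
    rw [← hz]
    change Submodule.Quotient.mk (f₂ (f₁ m₁)) = 0
    have : f₁ m₁ ∈ LinearMap.ker f₂ := hM ▸ ⟨m₁, rfl⟩
    rw [LinearMap.mem_ker.mp this, Submodule.Quotient.mk_zero]

include φ₂ φ₃ in
lemma surj_top (cψ₂ : ψ₃ ∘ₗ g₂ = f₂ ∘ₗ ψ₂) (hf₂ : Surjective f₂) :
    Surjective (topMap ψ₂ ψ₃ f₂ g₂ cψ₂) := by
  intro y
  obtain ⟨x, rfl⟩ := Submodule.Quotient.mk_surjective _ y
  obtain ⟨x', rfl⟩ := hf₂ x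
  exact ⟨Submodule.Quotient.mk x', rfl⟩

include φ₁ φ₂ φ₃ in
lemma exact_bot (cψ₁ : ψ₂ ∘ₗ g₁ = f₁ ∘ₗ ψ₁) (cψ₂ : ψ₃ ∘ₗ g₂ = f₂ ∘ₗ ψ₂)
    (hf₁ : Injective f₁) (hN : LinearMap.range g₁ = LinearMap.ker g₂) :
    Exact (botMap ψ₁ ψ₂ f₁ g₁ cψ₁) (botMap ψ₂ ψ₃ f₂ g₂ cψ₂) := by
  intro n
  constructor
  · intro hn
    have hn' : g₂ (n : N₂) = 0 := congrArg Subtype.val hn
    have : (n : N₂) ∈ LinearMap.range g₁ := hN ▸ (LinearMap.mem_ker.mpr hn')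
    obtain ⟨n₁, hn₁⟩ := this
    have h1 : ψ₁ n₁ = 0 := by
      apply hf₁
      have := LinearMap.congr_fun cψ₁ n₁
      simp only [LinearMap.comp_apply] at this
      rw [← this, hn₁, map_zero]
      exact n.2
    exact ⟨⟨n₁, h1⟩, Subtype.ext hn₁⟩
  · rintro ⟨z, rfl⟩
    apply Subtype.ext
    change g₂ (g₁ (z : N₁)) = 0
    have : g₁ (z : N₁) ∈ LinearMap.ker g₂ := hN ▸ ⟨_, rfl⟩
    exact LinearMap.mem_ker.mp this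

include φ₁ φ₂ in
lemma inj_bot (cψ₁ : ψ₂ ∘ₗ g₁ = f₁ ∘ₗ ψ₁) (hg₁ : Injective g₁) :
    Injective (botMap ψ₁ ψ₂ f₁ g₁ cψ₁) := by
  intro a b hab
  apply Subtype.ext
  apply hg₁
  exact congrArg Subtype.val hab

lemma exact_H (cφ₁ : φ₂ ∘ₗ f₁ = g₁ ∘ₗ φ₁) (cψ₁ : ψ₂ ∘ₗ g₁ = f₁ ∘ₗ ψ₁)
    (cφ₂ : φ₃ ∘ₗ f₂ = g₂ ∘ₗ φ₂) (cψ₂ : ψ₃ ∘ₗ g₂ = f₂ ∘ₗ ψ₂)
    (h₂ : IsPeriodic φ₂ ψ₂)
    (hg₁ : Injective g₁) (hg₂ : Surjective g₂) (hM : LinearMap.range f₁ = LinearMap.ker f₂) :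
    Exact (Hmap φ₁ ψ₁ φ₂ ψ₂ f₁ g₁ cφ₁ cψ₁) (Hmap φ₂ ψ₂ φ₃ ψ₃ f₂ g₂ cφ₂ cψ₂) := by
  intro y
  obtain ⟨x, rfl⟩ := Submodule.Quotient.mk_surjective _ y
  constructor
  · intro hx
    rw [Hmap_mk, Submodule.Quotient.mk_eq_zero] at hx
    obtain ⟨n₃, hn₃⟩ := hx
    obtain ⟨n₂, rfl⟩ := hg₂ n₃
    change ψ₃ (g₂ n₂) = f₂ (x : M₂) at hn₃
    have h0 : (x : M₂) - ψ₂ n₂ ∈ LinearMap.ker f₂ := by
      rw [LinearMap.mem_ker, map_sub, ← hn₃]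
      have := LinearMap.congr_fun cψ₂ n₂
      simp only [LinearMap.comp_apply] at this
      rw [this, sub_self]
    rw [← hM] at h0
    obtain ⟨m₁, hm₁⟩ := h0
    have hm : φ₁ m₁ = 0 := by
      apply hg₁
      have := LinearMap.congr_fun cφ₁ m₁
      simp only [LinearMap.comp_apply] at this
      rw [← this, hm₁, map_sub, map_zero, LinearMap.mem_ker.mp x.2]
      have := LinearMap.congr_fun h₂.1 n₂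
      simp only [LinearMap.comp_apply, LinearMap.zero_apply] at this
      rw [this, sub_zero]
    refine ⟨Submodule.Quotient.mk ⟨m₁, hm⟩, ?_⟩
    rw [Hmap_mk, Submodule.Quotient.eq]
    change f₁ m₁ - (x : M₂) ∈ LinearMap.range ψ₂
    rw [hm₁]
    refine ⟨-n₂, ?_⟩
    rw [map_neg]; abel
  · rintro ⟨z, hz⟩
    obtain ⟨m₁, rfl⟩ := Submodule.Quotient.mk_surjective _ z
    rw [← hz, Hmap_mk, Hmap_mk, Submodule.Quotient.mk_eq_zero]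
    change f₂ (f₁ (m₁ : M₁)) ∈ LinearMap.range ψ₃
    have : f₁ (m₁ : M₁) ∈ LinearMap.ker f₂ := hM ▸ ⟨_, rfl⟩
    rw [LinearMap.mem_ker.mp this]
    exact zero_mem _

theorem half (h₁ : IsPeriodic φ₁ ψ₁) (h₂ : IsPeriodic φ₂ ψ₂) (h₃ : IsPeriodic φ₃ ψ₃)
    (cφ₁ : φ₂ ∘ₗ f₁ = g₁ ∘ₗ φ₁) (cψ₁ : ψ₂ ∘ₗ g₁ = f₁ ∘ₗ ψ₁)
    (cφ₂ : φ₃ ∘ₗ f₂ = g₂ ∘ₗ φ₂) (cψ₂ : ψ₃ ∘ₗ g₂ = f₂ ∘ₗ ψ₂)
    (hf₁ : Injective f₁) (hg₁ : Injective g₁) (hf₂ : Surjective f₂) (hg₂ : Surjective g₂)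
    (hM : LinearMap.range f₁ = LinearMap.ker f₂) (hN : LinearMap.range g₁ = LinearMap.ker g₂) :
    ∃ δ : perH φ₃ ψ₃ →ₗ[R] perH ψ₁ φ₁,
      Exact (Hmap φ₁ ψ₁ φ₂ ψ₂ f₁ g₁ cφ₁ cψ₁) (Hmap φ₂ ψ₂ φ₃ ψ₃ f₂ g₂ cφ₂ cψ₂) ∧
      Exact (Hmap φ₂ ψ₂ φ₃ ψ₃ f₂ g₂ cφ₂ cψ₂) δ ∧
      Exact δ (Hmap ψ₁ φ₁ ψ₂ φ₂ g₁ f₁ cψ₁ cφ₁) := by
  have hf := exact_top φ₁ ψ₁ φ₂ ψ₂ φ₃ ψ₃ f₁ g₁ f₂ g₂ cψ₁ cψ₂ hg₂ hM
  have hg := exact_bot φ₁ ψ₁ φ₂ ψ₂ φ₃ ψ₃ f₁ g₁ f₂ g₂ cψ₁ cψ₂ hf₁ hN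
  have hs := surj_top φ₂ ψ₂ φ₃ ψ₃ f₂ g₂ cψ₂ hf₂
  have hi := inj_bot φ₁ ψ₁ φ₂ ψ₂ f₁ g₁ cψ₁ hg₁
  have c₁ : (botMap ψ₁ ψ₂ f₁ g₁ cψ₁).comp (vert φ₁ ψ₁ h₁) =
      (vert φ₂ ψ₂ h₂).comp (topMap ψ₁ ψ₂ f₁ g₁ cψ₁) := by
    apply Submodule.linearMap_qext
    ext x
    exact (LinearMap.congr_fun cφ₁ x).symm
  have c₂ : (botMap ψ₂ ψ₃ f₂ g₂ cψ₂).comp (vert φ₂ ψ₂ h₂) =
      (vert φ₃ ψ₃ h₃).comp (topMap ψ₂ ψ₃ f₂ g₂ cψ₂) := by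
    apply Submodule.linearMap_qext
    ext x
    exact (LinearMap.congr_fun cφ₂ x).symm
  refine ⟨SnakeLemma.δ' (vert φ₁ ψ₁ h₁) (vert φ₂ ψ₂ h₂) (vert φ₃ ψ₃ h₃)
    (topMap ψ₁ ψ₂ f₁ g₁ cψ₁) (topMap ψ₂ ψ₃ f₂ g₂ cψ₂) hf
    (botMap ψ₁ ψ₂ f₁ g₁ cψ₁) (botMap ψ₂ ψ₃ f₂ g₂ cψ₂) hg c₁ c₂
    (iota φ₃ ψ₃) (exact_iota_vert φ₃ ψ₃ h₃) (pi φ₁ ψ₁) (exact_vert_pi φ₁ ψ₁ h₁) hs hi,
    exact_H φ₁ ψ₁ φ₂ ψ₂ φ₃ ψ₃ f₁ g₁ f₂ g₂ cφ₁ cψ₁ cφ₂ cψ₂ h₂ hg₁ hg₂ hM, ?_, ?_⟩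
  · exact SnakeLemma.exact_δ'_right (vert φ₁ ψ₁ h₁) (vert φ₂ ψ₂ h₂) (vert φ₃ ψ₃ h₃)
      (topMap ψ₁ ψ₂ f₁ g₁ cψ₁) (topMap ψ₂ ψ₃ f₂ g₂ cψ₂) hf
      (botMap ψ₁ ψ₂ f₁ g₁ cψ₁) (botMap ψ₂ ψ₃ f₂ g₂ cψ₂) hg c₁ c₂
      (iota φ₂ ψ₂) (exact_iota_vert φ₂ ψ₂ h₂)
      (iota φ₃ ψ₃) (exact_iota_vert φ₃ ψ₃ h₃) (pi φ₁ ψ₁) (exact_vert_pi φ₁ ψ₁ h₁) hs hi
      (Hmap φ₂ ψ₂ φ₃ ψ₃ f₂ g₂ cφ₂ cψ₂)
      (by
        apply Submodule.linearMap_qext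
        rfl)
      (iota_injective φ₃ ψ₃)
  · exact SnakeLemma.exact_δ'_left (vert φ₁ ψ₁ h₁) (vert φ₂ ψ₂ h₂) (vert φ₃ ψ₃ h₃)
      (topMap ψ₁ ψ₂ f₁ g₁ cψ₁) (topMap ψ₂ ψ₃ f₂ g₂ cψ₂) hf
      (botMap ψ₁ ψ₂ f₁ g₁ cψ₁) (botMap ψ₂ ψ₃ f₂ g₂ cψ₂) hg c₁ c₂
      (iota φ₃ ψ₃) (exact_iota_vert φ₃ ψ₃ h₃) (pi φ₁ ψ₁) (exact_vert_pi φ₁ ψ₁ h₁)
      (pi φ₂ ψ₂) (exact_vert_pi φ₂ ψ₂ h₂) hs hi
      (Hmap ψ₁ φ₁ ψ₂ φ₂ g₁ f₁ cψ₁ cφ₁)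
      rfl
      (pi_surjective φ₁ ψ₁)

end half

section len

variable {R : Type u} [CommRing R]

lemma length_eq_ker_add_range {A B : Type v} [AddCommGroup A] [Module R A] [AddCommGroup B]
    [Module R B] (f : A →ₗ[R] B) :
    Module.length R A = Module.length R (LinearMap.ker f) + Module.length R (LinearMap.range f) := by
  refine Module.length_eq_add_of_exact (LinearMap.ker f).subtype f.rangeRestrict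
    (Submodule.subtype_injective _) f.surjective_rangeRestrict ?_
  intro x
  constructor
  · intro hx
    have : f x = 0 := congrArg Subtype.val hx
    exact ⟨⟨x, this⟩, rfl⟩
  · rintro ⟨y, rfl⟩
    apply Subtype.ext
    exact y.2

lemma length_mid {A B C : Type v} [AddCommGroup A] [Module R A] [AddCommGroup B]
    [Module R B] [AddCommGroup C] [Module R C] (f : A →ₗ[R] B) (g : B →ₗ[R] C) (h : Exact f g) :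
    Module.length R B = Module.length R (LinearMap.range f) + Module.length R (LinearMap.range g) := by
  rw [length_eq_ker_add_range g, ← h.linearMap_ker_eq]

lemma length_range_le_left {A B : Type v} [AddCommGroup A] [Module R A] [AddCommGroup B]
    [Module R B] (f : A →ₗ[R] B) : Module.length R (LinearMap.range f) ≤ Module.length R A :=
  Module.length_le_of_surjective f.rangeRestrict f.surjective_rangeRestrict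

lemma length_range_le_right {A B : Type v} [AddCommGroup A] [Module R A] [AddCommGroup B]
    [Module R B] (f : A →ₗ[R] B) : Module.length R (LinearMap.range f) ≤ Module.length R B :=
  Module.length_le_of_injective (LinearMap.range f).subtype (Submodule.subtype_injective _)

lemma finite_mid {A B C : Type v} [AddCommGroup A] [Module R A] [AddCommGroup B]
    [Module R B] [AddCommGroup C] [Module R C] (f : A →ₗ[R] B) (g : B →ₗ[R] C) (h : Exact f g)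
    (hA : Module.length R A < ⊤) (hC : Module.length R C < ⊤) : Module.length R B < ⊤ := by
  rw [length_mid f g h]
  exact ENat.add_lt_top.mpr ⟨lt_of_le_of_lt (length_range_le_left f) hA,
    lt_of_le_of_lt (length_range_le_right g) hC⟩

lemma six {A₁ A₂ A₃ A₄ A₅ A₆ : Type v} [AddCommGroup A₁] [Module R A₁] [AddCommGroup A₂]
    [Module R A₂] [AddCommGroup A₃] [Module R A₃] [AddCommGroup A₄] [Module R A₄]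
    [AddCommGroup A₅] [Module R A₅] [AddCommGroup A₆] [Module R A₆]
    (d₁ : A₁ →ₗ[R] A₂) (d₂ : A₂ →ₗ[R] A₃) (d₃ : A₃ →ₗ[R] A₄) (d₄ : A₄ →ₗ[R] A₅)
    (d₅ : A₅ →ₗ[R] A₆) (d₆ : A₆ →ₗ[R] A₁)
    (e₁ : Exact d₁ d₂) (e₂ : Exact d₂ d₃) (e₃ : Exact d₃ d₄) (e₄ : Exact d₄ d₅)
    (e₅ : Exact d₅ d₆) (e₆ : Exact d₆ d₁) :
    Module.length R A₁ + Module.length R A₃ + Module.length R A₅ =
      Module.length R A₂ + Module.length R A₄ + Module.length R A₆ := by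
  rw [length_mid d₆ d₁ e₆, length_mid d₁ d₂ e₁, length_mid d₂ d₃ e₂, length_mid d₃ d₄ e₃,
    length_mid d₄ d₅ e₄, length_mid d₅ d₆ e₅]
  abel

end len

section main

variable {R : Type u} [CommRing R] {M₁ N₁ M₂ N₂ M₃ N₃ : Type v}
  [AddCommGroup M₁] [Module R M₁] [AddCommGroup N₁] [Module R N₁]
  [AddCommGroup M₂] [Module R M₂] [AddCommGroup N₂] [Module R N₂]
  [AddCommGroup M₃] [Module R M₃] [AddCommGroup N₃] [Module R N₃]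

lemma IsPeriodic.swap {M N : Type v} [AddCommGroup M] [Module R M] [AddCommGroup N] [Module R N]
    {φ : M →ₗ[R] N} {ψ : N →ₗ[R] M} (h : IsPeriodic φ ψ) : IsPeriodic ψ φ := ⟨h.2, h.1⟩

theorem main (φ₁ : M₁ →ₗ[R] N₁) (ψ₁ : N₁ →ₗ[R] M₁) (φ₂ : M₂ →ₗ[R] N₂) (ψ₂ : N₂ →ₗ[R] M₂)
    (φ₃ : M₃ →ₗ[R] N₃) (ψ₃ : N₃ →ₗ[R] M₃)
    (h₁ : CycAlg.IsPeriodic φ₁ ψ₁) (h₂ : CycAlg.IsPeriodic φ₂ ψ₂) (h₃ : CycAlg.IsPeriodic φ₃ ψ₃)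
    (f₁ : M₁ →ₗ[R] M₂) (g₁ : N₁ →ₗ[R] N₂) (f₂ : M₂ →ₗ[R] M₃) (g₂ : N₂ →ₗ[R] N₃)
    (cφ₁ : φ₂ ∘ₗ f₁ = g₁ ∘ₗ φ₁) (cψ₁ : ψ₂ ∘ₗ g₁ = f₁ ∘ₗ ψ₁)
    (cφ₂ : φ₃ ∘ₗ f₂ = g₂ ∘ₗ φ₂) (cψ₂ : ψ₃ ∘ₗ g₂ = f₂ ∘ₗ ψ₂)
    (hf₁ : Function.Injective f₁) (hg₁ : Function.Injective g₁)
    (hf₂ : Function.Surjective f₂) (hg₂ : Function.Surjective g₂)
    (hM : LinearMap.range f₁ = LinearMap.ker f₂) (hN : LinearMap.range g₁ = LinearMap.ker g₂)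
    (htwo : (CycAlg.FinCoh R φ₁ ψ₁ ∧ CycAlg.FinCoh R φ₂ ψ₂) ∨
      (CycAlg.FinCoh R φ₁ ψ₁ ∧ CycAlg.FinCoh R φ₃ ψ₃) ∨
      (CycAlg.FinCoh R φ₂ ψ₂ ∧ CycAlg.FinCoh R φ₃ ψ₃)) :
    CycAlg.FinCoh R φ₁ ψ₁ ∧ CycAlg.FinCoh R φ₂ ψ₂ ∧ CycAlg.FinCoh R φ₃ ψ₃ ∧
      CycAlg.herbrand R φ₂ ψ₂ = CycAlg.herbrand R φ₁ ψ₁ + CycAlg.herbrand R φ₃ ψ₃ := by
  obtain ⟨δ, e₁, e₂, e₃⟩ := half φ₁ ψ₁ φ₂ ψ₂ φ₃ ψ₃ f₁ g₁ f₂ g₂ h₁ h₂ h₃ cφ₁ cψ₁ cφ₂ cψ₂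
    hf₁ hg₁ hf₂ hg₂ hM hN
  obtain ⟨δ', e₄, e₅, e₆⟩ := half ψ₁ φ₁ ψ₂ φ₂ ψ₃ φ₃ g₁ f₁ g₂ f₂ (IsPeriodic.swap h₁)
    (IsPeriodic.swap h₂) (IsPeriodic.swap h₃) cψ₁ cφ₁ cψ₂ cφ₂ hg₁ hf₁ hg₂ hf₂ hN hM
  have key := six _ _ _ _ _ _ e₁ e₂ e₃ e₄ e₅ e₆
  have hall : CycAlg.FinCoh R φ₁ ψ₁ ∧ CycAlg.FinCoh R φ₂ ψ₂ ∧ CycAlg.FinCoh R φ₃ ψ₃ := by
    rcases htwo with ⟨⟨a0, a1⟩, ⟨b0, b1⟩⟩ | ⟨⟨a0, a1⟩, ⟨c0, c1⟩⟩ | ⟨⟨b0, b1⟩, ⟨c0, c1⟩⟩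
    · exact ⟨⟨a0, a1⟩, ⟨b0, b1⟩, ⟨finite_mid _ _ e₂ b0 a1, finite_mid _ _ e₅ b1 a0⟩⟩
    · exact ⟨⟨a0, a1⟩, ⟨finite_mid _ _ e₁ a0 c0, finite_mid _ _ e₄ a1 c1⟩, ⟨c0, c1⟩⟩
    · exact ⟨⟨finite_mid _ _ e₆ c1 b0, finite_mid _ _ e₃ c0 b1⟩, ⟨b0, b1⟩, ⟨c0, c1⟩⟩
  obtain ⟨⟨a0, a1⟩, ⟨b0, b1⟩, ⟨c0, c1⟩⟩ := hall
  refine ⟨⟨a0, a1⟩, ⟨b0, b1⟩, ⟨c0, c1⟩, ?_⟩
  unfold CycAlg.herbrand
  generalize Module.length R (perH φ₁ ψ₁) = x0 at *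
  generalize Module.length R (perH ψ₁ φ₁) = x1 at *
  generalize Module.length R (perH φ₂ ψ₂) = y0 at *
  generalize Module.length R (perH ψ₂ φ₂) = y1 at *
  generalize Module.length R (perH φ₃ ψ₃) = z0 at *
  generalize Module.length R (perH ψ₃ φ₃) = z1 at *
  lift x0 to ℕ using a0.ne
  lift x1 to ℕ using a1.ne
  lift y0 to ℕ using b0.ne
  lift y1 to ℕ using b1.ne
  lift z0 to ℕ using c0.ne
  lift z1 to ℕ using c1.ne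
  simp only [ENat.toNat_natCast]
  have key' : x0 + z0 + y1 = y0 + x1 + z1 := by exact_mod_cast key
  omega

end main

end Groth.Agent.Lib.Helper26.Herbrand
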