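import Mathlib
import Groth.Prelude.Def_CycAlg
import Groth.Agent.Lib.Helper26.Herbrand

set_option maxHeartbeats 400000
set_option autoImplicit false

namespace Groth.Agent.Lib.Helper26.Herbrand2

open CycAlg Function Groth.Agent.Lib.Helper26.Herbrand

universe u v

variable {R : Type u} [CommRing R]

lemma length_sub_add_quot {A : Type v} [AddCommGroup A] [Module R A] (S : Submodule R A) :
    Module.length R A = Module.length R S + Module.length R (A ⧸ S) :=
  Module.length_eq_add_of_exact S.subtype S.mkQ (Submodule.subtype_injective _)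
    (Submodule.mkQ_surjective _) (LinearMap.exact_subtype_mkQ S)

lemma length_ker_eq {A B : Type v} [AddCommGroup A] [Module R A] [AddCommGroup B] [Module R B]
    (φ : A →ₗ[R] B) (ψ : B →ₗ[R] A) (h : φ ∘ₗ ψ = 0) :
    Module.length R (LinearMap.ker φ) =
      Module.length R (LinearMap.range ψ) + Module.length R (CycAlg.perH φ ψ) := by
  have hle : LinearMap.range ψ ≤ LinearMap.ker φ := by
    rintro _ ⟨y, rfl⟩
    exact LinearMap.congr_fun h y
  rw [length_sub_add_quot ((LinearMap.range ψ).submoduleOf (LinearMap.ker φ)),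
    (Submodule.submoduleOfEquivOfLe hle).length_eq]

/-- A 2-periodic complex on a module of finite length has vanishing Herbrand quotient. -/
lemma herbrand_of_finite {A : Type v} [AddCommGroup A] [Module R A]
    (φ ψ : A →ₗ[R] A) (h : IsPeriodic φ ψ) (hA : Module.length R A < ⊤) :
    FinCoh R φ ψ ∧ herbrand R φ ψ = 0 := by
  obtain ⟨h1, h2⟩ := h
  have eM := length_eq_ker_add_range (R := R) φ
  have eN := length_eq_ker_add_range (R := R) ψ
  have eKφ := length_ker_eq φ ψ h1
  have eKψ := length_ker_eq ψ φ h2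
  have fKφ : Module.length R (LinearMap.ker φ) < ⊤ := lt_of_le_of_lt (eM ▸ le_self_add) hA
  have fRφ : Module.length R (LinearMap.range φ) < ⊤ := lt_of_le_of_lt (eM ▸ le_add_self) hA
  have fKψ : Module.length R (LinearMap.ker ψ) < ⊤ := lt_of_le_of_lt (eN ▸ le_self_add) hA
  have fRψ : Module.length R (LinearMap.range ψ) < ⊤ := lt_of_le_of_lt (eN ▸ le_add_self) hA
  have fH0 : Module.length R (CycAlg.perH φ ψ) < ⊤ := lt_of_le_of_lt (eKφ ▸ le_add_self) fKφ
  have fH1 : Module.length R (CycAlg.perH ψ φ) < ⊤ := lt_of_le_of_lt (eKψ ▸ le_add_self) fKψ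
  refine ⟨⟨fH0, fH1⟩, ?_⟩
  unfold CycAlg.herbrand
  generalize Module.length R A = lM at *
  generalize Module.length R (LinearMap.ker φ) = kφ at *
  generalize Module.length R (LinearMap.ker ψ) = kψ at *
  generalize Module.length R (LinearMap.range φ) = rφ at *
  generalize Module.length R (LinearMap.range ψ) = rψ at *
  generalize Module.length R (CycAlg.perH φ ψ) = h0 at *
  generalize Module.length R (CycAlg.perH ψ φ) = h1' at *
  lift lM to ℕ using hA.ne
  lift kφ to ℕ using fKφ.ne
  lift kψ to ℕ using fKψ.ne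
  lift rφ to ℕ using fRφ.ne
  lift rψ to ℕ using fRψ.ne
  lift h0 to ℕ using fH0.ne
  lift h1' to ℕ using fH1.ne
  simp only [ENat.toNat_natCast]
  have eM' : lM = kφ + rφ := by exact_mod_cast eM
  have eN' : lM = kψ + rψ := by exact_mod_cast eN
  have eKφ' : kφ = rψ + h0 := by exact_mod_cast eKφ
  have eKψ' : kψ = rφ + h1' := by exact_mod_cast eKψ
  omega

section s1870

variable {M M' : Type v} [AddCommGroup M] [Module R M] [AddCommGroup M'] [Module R M']

theorem s1870 (φ ψ : M →ₗ[R] M) (φ' ψ' : M' →ₗ[R] M')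
    (h : CycAlg.IsPeriodic φ ψ) (h' : CycAlg.IsPeriodic φ' ψ') (f : M →ₗ[R] M')
    (cφ : φ' ∘ₗ f = f ∘ₗ φ) (cψ : ψ' ∘ₗ f = f ∘ₗ ψ)
    (hfin : CycAlg.FinCoh R φ ψ) (hfin' : CycAlg.FinCoh R φ' ψ')
    (hker : Module.length R (LinearMap.ker f) < ⊤)
    (hcoker : Module.length R (M' ⧸ LinearMap.range f) < ⊤) :
    CycAlg.herbrand R φ ψ = CycAlg.herbrand R φ' ψ' := by
  -- restrictions to the kernel
  have kφ : ∀ x ∈ LinearMap.ker f, φ x ∈ LinearMap.ker f := by
    intro x hx
    rw [LinearMap.mem_ker] at hx ⊢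
    have := LinearMap.congr_fun cφ x
    simp only [LinearMap.comp_apply] at this
    rw [← this, hx, map_zero]
  have kψ : ∀ x ∈ LinearMap.ker f, ψ x ∈ LinearMap.ker f := by
    intro x hx
    rw [LinearMap.mem_ker] at hx ⊢
    have := LinearMap.congr_fun cψ x
    simp only [LinearMap.comp_apply] at this
    rw [← this, hx, map_zero]
  have iφ : ∀ y ∈ LinearMap.range f, φ' y ∈ LinearMap.range f := by
    rintro _ ⟨x, rfl⟩
    exact ⟨φ x, (LinearMap.congr_fun cφ x).symm⟩
  have iψ : ∀ y ∈ LinearMap.range f, ψ' y ∈ LinearMap.range f := by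
    rintro _ ⟨x, rfl⟩
    exact ⟨ψ x, (LinearMap.congr_fun cψ x).symm⟩
  set φK : LinearMap.ker f →ₗ[R] LinearMap.ker f := φ.restrict kφ with hφK
  set ψK : LinearMap.ker f →ₗ[R] LinearMap.ker f := ψ.restrict kψ with hψK
  set φI : LinearMap.range f →ₗ[R] LinearMap.range f := φ'.restrict iφ with hφI
  set ψI : LinearMap.range f →ₗ[R] LinearMap.range f := ψ'.restrict iψ with hψI
  set φC : (M' ⧸ LinearMap.range f) →ₗ[R] (M' ⧸ LinearMap.range f) :=
    Submodule.mapQ _ _ φ' iφ with hφC
  set ψC : (M' ⧸ LinearMap.range f) →ₗ[R] (M' ⧸ LinearMap.range f) :=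
    Submodule.mapQ _ _ ψ' iψ with hψC
  have pK : IsPeriodic φK ψK := by
    constructor
    · ext x
      exact LinearMap.congr_fun h.1 x
    · ext x
      exact LinearMap.congr_fun h.2 x
  have pI : IsPeriodic φI ψI := by
    constructor
    · ext x
      exact LinearMap.congr_fun h'.1 x
    · ext x
      exact LinearMap.congr_fun h'.2 x
  have pC : IsPeriodic φC ψC := by
    constructor
    · apply Submodule.linearMap_qext
      ext x
      change Submodule.Quotient.mk (φ' (ψ' x)) = 0
      have := LinearMap.congr_fun h'.1 x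
      simp only [LinearMap.comp_apply, LinearMap.zero_apply] at this
      rw [this, Submodule.Quotient.mk_zero]
    · apply Submodule.linearMap_qext
      ext x
      change Submodule.Quotient.mk (ψ' (φ' x)) = 0
      have := LinearMap.congr_fun h'.2 x
      simp only [LinearMap.comp_apply, LinearMap.zero_apply] at this
      rw [this, Submodule.Quotient.mk_zero]
  obtain ⟨finK, eK⟩ := herbrand_of_finite φK ψK pK hker
  obtain ⟨finC, eC⟩ := herbrand_of_finite φC ψC pC hcoker
  -- first short exact sequence: 0 → ker f → M → range f → 0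
  have S1 := main φK ψK φ ψ φI ψI pK h pI
    (LinearMap.ker f).subtype (LinearMap.ker f).subtype f.rangeRestrict f.rangeRestrict
    (by ext x; rfl) (by ext x; rfl)
    (by ext x; exact LinearMap.congr_fun cφ x) (by ext x; exact LinearMap.congr_fun cψ x)
    (Submodule.subtype_injective _) (Submodule.subtype_injective _)
    f.surjective_rangeRestrict f.surjective_rangeRestrict
    (by rw [Submodule.range_subtype, LinearMap.ker_rangeRestrict])
    (by rw [Submodule.range_subtype, LinearMap.ker_rangeRestrict])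
    (Or.inl ⟨finK, hfin⟩)
  obtain ⟨-, -, finI, e1⟩ := S1
  -- second short exact sequence: 0 → range f → M' → M'/range f → 0
  have S2 := main φI ψI φ' ψ' φC ψC pI h' pC
    (LinearMap.range f).subtype (LinearMap.range f).subtype
    (LinearMap.range f).mkQ (LinearMap.range f).mkQ
    (by ext x; rfl) (by ext x; rfl)
    (by ext x; rfl) (by ext x; rfl)
    (Submodule.subtype_injective _) (Submodule.subtype_injective _)
    (Submodule.mkQ_surjective _) (Submodule.mkQ_surjective _)
    (by rw [Submodule.range_subtype, Submodule.ker_mkQ])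
    (by rw [Submodule.range_subtype, Submodule.ker_mkQ])
    (Or.inr (Or.inl ⟨finI, finC⟩))
  obtain ⟨-, -, -, e2⟩ := S2
  rw [e1, e2, eK, eC, zero_add, add_zero]

end s1870

end Groth.Agent.Lib.Helper26.Herbrand2
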