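import Mathlib
import Groth.Prelude.Def_CycAlg

set_option maxHeartbeats 400000
set_option autoImplicit false

namespace Groth.Agent.Lib.Helper26.NilHerbrand

open Function

universe u v

section sq

variable {R : Type u} [CommRing R] {M M' M'' : Type v} [AddCommGroup M] [Module R M]
  [AddCommGroup M'] [Module R M'] [AddCommGroup M''] [Module R M'']

/-- relative length of `A` over `B` (meaningful when `B ≤ A`). -/
noncomputable def rl (A B : Submodule R M) : ℕ∞ := Module.length R (↥A ⧸ B.submoduleOf A)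

/-- map of subquotients induced by `g`. -/
noncomputable def sqMap (g : M →ₗ[R] M') (A B : Submodule R M) (A' B' : Submodule R M')
    (hA : ∀ a ∈ A, g a ∈ A') (hB : ∀ b ∈ B, g b ∈ B') :
    (↥A ⧸ B.submoduleOf A) →ₗ[R] (↥A' ⧸ B'.submoduleOf A') :=
  Submodule.mapQ _ _ (g.restrict hA) (fun x hx => hB x hx)

lemma sqMap_mk (g : M →ₗ[R] M') (A B : Submodule R M) (A' B' : Submodule R M')
    (hA : ∀ a ∈ A, g a ∈ A') (hB : ∀ b ∈ B, g b ∈ B') (a : A) :
    sqMap g A B A' B' hA hB (Submodule.Quotient.mk a) =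
      Submodule.Quotient.mk ⟨g a, hA a a.2⟩ := rfl

lemma mk_eq_zero_iff (A B : Submodule R M) (a : A) :
    (Submodule.Quotient.mk a : ↥A ⧸ B.submoduleOf A) = 0 ↔ (a : M) ∈ B :=
  Submodule.Quotient.mk_eq_zero _

lemma sqMap_injective (g : M →ₗ[R] M') (A B : Submodule R M) (A' B' : Submodule R M')
    (hA : ∀ a ∈ A, g a ∈ A') (hB : ∀ b ∈ B, g b ∈ B')
    (h : ∀ a ∈ A, g a ∈ B' → a ∈ B) : Injective (sqMap g A B A' B' hA hB) := by
  rw [← LinearMap.ker_eq_bot, LinearMap.ker_eq_bot']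
  intro y hy
  obtain ⟨a, rfl⟩ := Submodule.Quotient.mk_surjective _ y
  rw [sqMap_mk, mk_eq_zero_iff] at hy
  rw [mk_eq_zero_iff]
  exact h a a.2 hy

lemma sqMap_surjective (g : M →ₗ[R] M') (A B : Submodule R M) (A' B' : Submodule R M')
    (hA : ∀ a ∈ A, g a ∈ A') (hB : ∀ b ∈ B, g b ∈ B')
    (h : ∀ a' ∈ A', ∃ a ∈ A, g a - a' ∈ B') : Surjective (sqMap g A B A' B' hA hB) := by
  intro y
  obtain ⟨a', rfl⟩ := Submodule.Quotient.mk_surjective _ y
  obtain ⟨a, ha, hd⟩ := h a' a'.2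
  refine ⟨Submodule.Quotient.mk ⟨a, ha⟩, ?_⟩
  rw [sqMap_mk, Submodule.Quotient.eq]
  exact hd

lemma sqMap_exact (g : M →ₗ[R] M') (w : M' →ₗ[R] M'') (A B : Submodule R M)
    (A' B' : Submodule R M') (A'' B'' : Submodule R M'')
    (hA : ∀ a ∈ A, g a ∈ A') (hB : ∀ b ∈ B, g b ∈ B')
    (hA' : ∀ a ∈ A', w a ∈ A'') (hB' : ∀ b ∈ B', w b ∈ B'')
    (h0 : ∀ a ∈ A, w (g a) ∈ B'')
    (h : ∀ a' ∈ A', w a' ∈ B'' → ∃ a ∈ A, g a - a' ∈ B') :
    Exact (sqMap g A B A' B' hA hB) (sqMap w A' B' A'' B'' hA' hB') := by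
  intro y
  obtain ⟨a', rfl⟩ := Submodule.Quotient.mk_surjective _ y
  constructor
  · intro hy
    rw [sqMap_mk, mk_eq_zero_iff] at hy
    obtain ⟨a, ha, hd⟩ := h a' a'.2 hy
    refine ⟨Submodule.Quotient.mk ⟨a, ha⟩, ?_⟩
    rw [sqMap_mk, Submodule.Quotient.eq]
    exact hd
  · rintro ⟨z, hz⟩
    obtain ⟨a, rfl⟩ := Submodule.Quotient.mk_surjective _ z
    rw [← hz, sqMap_mk, sqMap_mk, mk_eq_zero_iff]
    exact h0 a a.2

lemma rl_eq_zero (A B : Submodule R M) (h : A ≤ B) : rl A B = 0 := by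
  unfold rl
  rw [Module.length_eq_zero_iff]
  constructor
  intro x y
  obtain ⟨a, rfl⟩ := Submodule.Quotient.mk_surjective _ x
  obtain ⟨b, rfl⟩ := Submodule.Quotient.mk_surjective _ y
  rw [Submodule.Quotient.eq]
  exact h (A.sub_mem a.2 b.2)

/-- P1: additivity along a chain `C ≤ B ≤ A`. -/
lemma rl_add (A B C : Submodule R M) (hCB : C ≤ B) (hBA : B ≤ A) :
    rl A C = rl A B + rl B C := by
  unfold rl
  rw [add_comm]
  refine Module.length_eq_add_of_exact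
    (sqMap LinearMap.id B C A C (fun a ha => hBA ha) (fun b hb => hb))
    (sqMap LinearMap.id A C A B (fun a ha => ha) (fun b hb => hCB hb)) ?_ ?_ ?_
  · exact sqMap_injective _ _ _ _ _ _ _ (fun a _ h => h)
  · exact sqMap_surjective _ _ _ _ _ _ _ (fun a ha => ⟨a, ha, by simp⟩)
  · refine sqMap_exact _ _ _ _ _ _ _ _ _ _ _ _ (fun a ha => ha) ?_
    intro a _ ha'
    exact ⟨a, ha', by simp⟩

/-- P2: image/kernel decomposition. -/
lemma rl_map (g : M →ₗ[R] M') (A B : Submodule R M) (hBA : B ≤ A) :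
    rl A B = rl (A.map g) (B.map g) + rl (A ⊓ LinearMap.ker g) (B ⊓ LinearMap.ker g) := by
  unfold rl
  rw [add_comm]
  refine Module.length_eq_add_of_exact
    (sqMap LinearMap.id (A ⊓ LinearMap.ker g) (B ⊓ LinearMap.ker g) A B
      (fun a ha => ha.1) (fun b hb => hb.1))
    (sqMap g A B (A.map g) (B.map g) (fun a ha => Submodule.mem_map_of_mem ha)
      (fun b hb => Submodule.mem_map_of_mem hb)) ?_ ?_ ?_
  · exact sqMap_injective _ _ _ _ _ _ _ (fun a ha h => ⟨h, ha.2⟩)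
  · refine sqMap_surjective _ _ _ _ _ _ _ ?_
    rintro _ ⟨a, ha, rfl⟩
    exact ⟨a, ha, by simp⟩
  · refine sqMap_exact _ _ _ _ _ _ _ _ _ _ _ _ ?_ ?_
    · intro a ha
      have : g a = 0 := ha.2
      simp [this]
    · intro a ha hga
      obtain ⟨b, hb, hbe⟩ := hga
      refine ⟨a - b, ⟨A.sub_mem ha (hBA hb), ?_⟩, ?_⟩
      · change a - b ∈ LinearMap.ker g
        rw [LinearMap.mem_ker, map_sub, hbe, sub_self]
      · simp only [LinearMap.id_coe, id_eq, sub_sub_cancel_left]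
        exact B.neg_mem hb

lemma rl_mono_right (A B C : Submodule R M) (hCB : C ≤ B) (hBA : B ≤ A) : rl A B ≤ rl A C := by
  rw [rl_add A B C hCB hBA]; exact le_self_add

lemma rl_mono_left (A B C : Submodule R M) (hCB : C ≤ B) (hBA : B ≤ A) : rl B C ≤ rl A C := by
  rw [rl_add A B C hCB hBA]; exact le_add_self

end sq

section nil

variable {R : Type u} [CommRing R] {M : Type v} [AddCommGroup M] [Module R M] (φ : M →ₗ[R] M)

/-- `K i = ker φ^i` -/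
def K (i : ℕ) : Submodule R M := LinearMap.ker (φ ^ i)
/-- `I j = range φ^j` -/
def I (j : ℕ) : Submodule R M := LinearMap.range (φ ^ j)

lemma mem_K (i : ℕ) (x : M) : x ∈ K φ i ↔ (φ ^ i) x = 0 := LinearMap.mem_ker
lemma mem_I (j : ℕ) (x : M) : x ∈ I φ j ↔ ∃ y, (φ ^ j) y = x := LinearMap.mem_range

lemma K_zero : K φ 0 = ⊥ := by
  ext x; simp [mem_K]
lemma I_zero : I φ 0 = ⊤ := by
  ext x; simp [mem_I]
lemma K_one : K φ 1 = LinearMap.ker φ := by simp [K]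

lemma pow_add_apply (i j : ℕ) (x : M) : (φ ^ (i + j)) x = (φ ^ i) ((φ ^ j) x) := by
  rw [pow_add, Module.End.mul_apply]

lemma K_mono {i j : ℕ} (h : i ≤ j) : K φ i ≤ K φ j := by
  intro x hx
  rw [mem_K] at hx ⊢
  obtain ⟨k, rfl⟩ := Nat.exists_eq_add_of_le' h
  rw [pow_add_apply, hx, map_zero]

lemma I_anti {i j : ℕ} (h : i ≤ j) : I φ j ≤ I φ i := by
  rintro _ ⟨y, rfl⟩
  obtain ⟨k, rfl⟩ := Nat.exists_eq_add_of_le h
  exact ⟨(φ ^ k) y, (pow_add_apply φ i k y).symm⟩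

lemma I_le_K (n : ℕ) (hφ : φ ^ n = 0) {i j : ℕ} (h : n ≤ i + j) : I φ j ≤ K φ i := by
  rintro _ ⟨y, rfl⟩
  rw [mem_K, ← pow_add_apply]
  obtain ⟨k, hk⟩ := Nat.exists_eq_add_of_le' h
  rw [hk, pow_add_apply, hφ, LinearMap.zero_apply, map_zero]

lemma map_inf_K (A : Submodule R M) (i j : ℕ) :
    (A ⊓ K φ (i + j)).map (φ ^ i) = A.map (φ ^ i) ⊓ K φ j := by
  ext y
  constructor
  · rintro ⟨x, ⟨hxA, hxK⟩, rfl⟩
    refine ⟨Submodule.mem_map_of_mem hxA, ?_⟩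
    rw [SetLike.mem_coe, mem_K] at hxK ⊢
    rw [← pow_add_apply, add_comm, hxK]
  · rintro ⟨⟨x, hxA, rfl⟩, hy⟩
    refine ⟨x, ⟨hxA, ?_⟩, rfl⟩
    rw [SetLike.mem_coe, mem_K] at hy ⊢
    rw [add_comm, pow_add_apply, hy]

lemma map_K (i j : ℕ) : (K φ (i + j)).map (φ ^ i) = I φ i ⊓ K φ j := by
  have := map_inf_K φ ⊤ i j
  rwa [top_inf_eq, Submodule.map_top] at this

lemma map_I (i j : ℕ) : (I φ j).map (φ ^ i) = I φ (i + j) := by
  ext y
  constructor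
  · rintro ⟨_, ⟨x, rfl⟩, rfl⟩
    exact ⟨x, pow_add_apply φ i j x⟩
  · rintro ⟨x, rfl⟩
    exact ⟨(φ ^ j) x, ⟨x, rfl⟩, (pow_add_apply φ i j x).symm⟩

lemma Ea (n : ℕ) (hφ : φ ^ n = 0) (i : ℕ) (hi : i < n) :
    rl (K φ (i + 1)) (I φ (n - (i + 1))) + rl (K φ i) (K φ i ⊓ I φ 1) =
      rl (K φ i) (I φ (n - i)) + rl (K φ 1) (K φ 1 ⊓ I φ (n - (i + 1))) := by
  have h1 := rl_map (φ ^ 1) (K φ (i + 1)) (I φ (n - (i + 1))) (I_le_K φ n hφ (by omega))
  rw [add_comm i 1, map_K, map_I, add_comm 1 i, show 1 + (n - (i + 1)) = n - i by omega] at h1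
  change _ = _ + rl (K φ (i + 1) ⊓ K φ 1) (I φ (n - (i + 1)) ⊓ K φ 1) at h1
  rw [inf_eq_right.mpr (K_mono φ (by omega : 1 ≤ i + 1))] at h1
  have h2 := rl_add (K φ i) (K φ i ⊓ I φ 1) (I φ (n - i))
    (le_inf (I_le_K φ n hφ (by omega)) (I_anti φ (by omega : 1 ≤ n - i))) inf_le_left
  rw [h1, h2, inf_comm (I φ 1), inf_comm (I φ _) (K φ 1)]
  ac_rfl

lemma Eb (i : ℕ) :
    rl (K φ (i + 1)) (K φ (i + 1) ⊓ I φ 1) =
      rl (K φ 1 ⊓ I φ i) (K φ 1 ⊓ I φ (i + 1)) + rl (K φ i) (K φ i ⊓ I φ 1) := by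
  have h1 := rl_map (φ ^ i) (K φ (i + 1)) (K φ (i + 1) ⊓ I φ 1) inf_le_left
  rw [map_K, inf_comm (K φ (i + 1)) (I φ 1), map_inf_K, map_I] at h1
  change _ = _ + rl (K φ (i + 1) ⊓ K φ i) (I φ 1 ⊓ K φ (i + 1) ⊓ K φ i) at h1
  rw [inf_eq_right.mpr (K_mono φ (by omega : i ≤ i + 1)), inf_assoc,
    inf_eq_right.mpr (K_mono φ (by omega : i ≤ i + 1))] at h1
  rw [inf_comm (K φ (i + 1)) (I φ 1), h1, inf_comm (I φ i), inf_comm (I φ (i + 1)),
    inf_comm (I φ 1)]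

lemma Ec (i : ℕ) :
    rl (K φ 1) (K φ 1 ⊓ I φ (i + 1)) =
      rl (K φ 1) (K φ 1 ⊓ I φ i) + rl (K φ 1 ⊓ I φ i) (K φ 1 ⊓ I φ (i + 1)) :=
  rl_add _ _ _ (inf_le_inf_left _ (I_anti φ (Nat.le_succ i))) inf_le_left

lemma b_eq_c (i : ℕ) : rl (K φ i) (K φ i ⊓ I φ 1) = rl (K φ 1) (K φ 1 ⊓ I φ i) := by
  induction i with
  | zero =>
    rw [rl_eq_zero _ _ (by rw [K_zero]; exact bot_le),
      rl_eq_zero _ _ (by rw [I_zero, inf_top_eq])]
  | succ i ih =>
    rw [Eb, Ec, ih, add_comm]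

--PARTC
theorem main (n : ℕ) (hn : 0 < n) (hφ : φ ^ n = 0)
    (hfin : Module.length R (CycAlg.perH φ (φ ^ (n - 1))) < ⊤) (i : ℕ) (hi : i ≤ n) :
    CycAlg.FinCoh R (φ ^ i) (φ ^ (n - i)) ∧ CycAlg.herbrand R (φ ^ i) (φ ^ (n - i)) = 0 := by
  -- the c's are finite
  have hc_top : rl (K φ 1) (K φ 1 ⊓ I φ (n - 1)) < ⊤ := by
    rw [inf_eq_right.mpr (I_le_K φ n hφ (by omega))]
    have : rl (K φ 1) (I φ (n - 1)) = Module.length R (CycAlg.perH φ (φ ^ (n - 1))) := by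
      unfold rl CycAlg.perH I
      rw [K_one]
    rw [this]; exact hfin
  have hc_mono : ∀ j k, j ≤ k → rl (K φ 1) (K φ 1 ⊓ I φ j) ≤ rl (K φ 1) (K φ 1 ⊓ I φ k) := by
    intro j k hjk
    induction k, hjk using Nat.le_induction with
    | base => exact le_rfl
    | succ k _ ih => exact ih.trans (by rw [Ec φ k]; exact le_self_add)
  have hc : ∀ j, j ≤ n - 1 → rl (K φ 1) (K φ 1 ⊓ I φ j) < ⊤ := fun j hj =>
    lt_of_le_of_lt (hc_mono j (n - 1) hj) hc_top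
  -- rewrite Ea using b = c
  have hE : ∀ k, k < n → rl (K φ (k + 1)) (I φ (n - (k + 1))) + rl (K φ 1) (K φ 1 ⊓ I φ k) =
      rl (K φ k) (I φ (n - k)) + rl (K φ 1) (K φ 1 ⊓ I φ (n - (k + 1))) := by
    intro k hk
    rw [← b_eq_c φ k]; exact Ea φ n hφ k hk
  -- the a's are finite
  have ha : ∀ k, k ≤ n → rl (K φ k) (I φ (n - k)) < ⊤ := by
    intro k
    induction k with
    | zero =>
      intro _
      rw [rl_eq_zero _ _ (by rw [K_zero]; exact bot_le)]; simp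
    | succ k ih =>
      intro hk
      have h1 := hE k (by omega)
      have h2 : rl (K φ k) (I φ (n - k)) + rl (K φ 1) (K φ 1 ⊓ I φ (n - (k + 1))) < ⊤ :=
        ENat.add_lt_top.mpr ⟨ih (by omega), hc _ (by omega)⟩
      rw [← h1] at h2
      exact lt_of_le_of_lt le_self_add h2
  -- integer version
  have hEN : ∀ k, k < n → (rl (K φ (k + 1)) (I φ (n - (k + 1)))).toNat +
      (rl (K φ 1) (K φ 1 ⊓ I φ k)).toNat =
      (rl (K φ k) (I φ (n - k))).toNat + (rl (K φ 1) (K φ 1 ⊓ I φ (n - (k + 1)))).toNat := by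
    intro k hk
    rw [← ENat.toNat_add (ha (k + 1) (by omega)).ne (hc k (by omega)).ne,
      ← ENat.toNat_add (ha k (by omega)).ne (hc _ (by omega)).ne, hE k hk]
  have h0 : (rl (K φ 0) (I φ (n - 0))).toNat = 0 := by
    rw [rl_eq_zero _ _ (by rw [K_zero]; exact bot_le)]; rfl
  have hnn : (rl (K φ n) (I φ (n - n))).toNat = 0 := by
    rw [rl_eq_zero _ _ (by rw [Nat.sub_self, I_zero]; exact le_top)]; rfl
  have hsym : ∀ k, k ≤ n → (rl (K φ k) (I φ (n - k))).toNat =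
      (rl (K φ (n - k)) (I φ (n - (n - k)))).toNat := by
    intro k
    induction k with
    | zero =>
      intro _
      rw [h0, Nat.sub_zero, hnn]
    | succ k ih =>
      intro hk
      have e1 := hEN k (by omega)
      have e2 := hEN (n - (k + 1)) (by omega)
      have i1 : n - (k + 1) + 1 = n - k := by omega
      have i2 : n - (n - (k + 1) + 1) = k := by omega
      have i3 : n - (n - (k + 1)) = k + 1 := by omega
      rw [i1, i3] at e2
      have i4 : n - (n - k) = k := by omega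
      have e3 := ih (by omega)
      rw [i4] at e3
      rw [i3]
      have i5 : n - (n - k) = k := i4
      rw [i5] at e2
      omega
  have hfin1 : Module.length R (CycAlg.perH (φ ^ i) (φ ^ (n - i))) < ⊤ := ha i hi
  have hfin2 : Module.length R (CycAlg.perH (φ ^ (n - i)) (φ ^ i)) < ⊤ := by
    have := ha (n - i) (by omega)
    rw [Nat.sub_sub_self hi] at this
    exact this
  refine ⟨⟨hfin1, hfin2⟩, ?_⟩
  unfold CycAlg.herbrand
  have := hsym i hi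
  rw [Nat.sub_sub_self hi] at this
  have e : (Module.length R (CycAlg.perH (φ ^ i) (φ ^ (n - i)))).toNat =
      (Module.length R (CycAlg.perH (φ ^ (n - i)) (φ ^ i))).toNat := this
  rw [e, sub_self]

end nil

end Groth.Agent.Lib.Helper26.NilHerbrand
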