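import Mathlib
import Groth.Prelude.Def_CycAlg
import Groth.Agent.Lib.Helper26.NilHerbrand

set_option maxHeartbeats 400000
set_option autoImplicit false

namespace Groth.Agent.Lib.Helper26.HerbrandSmul

open Function CycAlg Pointwise Groth.Agent.Lib.Helper26.NilHerbrand

universe u v

/-- A finite module over a Noetherian ring with zero-dimensional support has finite length.
(Same argument as helper22's `DimOneCoker.isFiniteLength_of_supportDim_le_zero`.) -/
theorem length_lt_top_of_supportDim_le_zero {R : Type u} [CommRing R] [IsNoetherianRing R]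
    {N : Type v} [AddCommGroup N] [Module R N] [Module.Finite R N]
    (h : Module.supportDim R N ≤ 0) : Module.length R N < ⊤ := by
  have hdim : ringKrullDim (R ⧸ Module.annihilator R N) ≤ 0 := by
    rw [← Module.supportDim_eq_ringKrullDim_quotient_annihilator]; exact h
  haveI : Ring.KrullDimLE 0 (R ⧸ Module.annihilator R N) := Ring.krullDimLE_iff.mpr hdim
  haveI : IsArtinianRing (R ⧸ Module.annihilator R N) := isArtinianRing_iff_krullDimLE_zero.mpr this
  have htors : Module.IsTorsionBySet R N (Module.annihilator R N) :=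
    Module.isTorsionBySet_annihilator R N
  letI : Module (R ⧸ Module.annihilator R N) N := htors.module
  haveI : IsScalarTower R (R ⧸ Module.annihilator R N) N := htors.isScalarTower
  haveI : Module.Finite (R ⧸ Module.annihilator R N) N :=
    Module.Finite.of_restrictScalars_finite R (R ⧸ Module.annihilator R N) N
  haveI : IsArtinian (R ⧸ Module.annihilator R N) N := inferInstance
  haveI : IsArtinian R N :=
    isArtinian_of_surjective_algebraMap (S := R) (R := R ⧸ Module.annihilator R N)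
      Ideal.Quotient.mk_surjective
  rw [lt_top_iff_ne_top, Module.length_ne_top_iff, isFiniteLength_iff_isNoetherian_isArtinian]
  exact ⟨inferInstance, inferInstance⟩

section basics

variable {R : Type u} [CommRing R] {M : Type v} [AddCommGroup M] [Module R M]

lemma rl_top (B : Submodule R M) : rl ⊤ B = Module.length R (M ⧸ B) := by
  unfold rl
  refine (Submodule.Quotient.equiv (B.submoduleOf ⊤) B Submodule.topEquiv ?_).length_eq
  ext y
  constructor
  · rintro ⟨z, hz, rfl⟩
    exact hz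
  · intro hy
    exact ⟨⟨y, trivial⟩, hy, rfl⟩

lemma rl_bot (A : Submodule R M) : rl A ⊥ = Module.length R A := by
  unfold rl
  have : (⊥ : Submodule R M).submoduleOf A = ⊥ := by
    ext y
    rw [Submodule.mem_bot]
    change (y : M) ∈ (⊥ : Submodule R M) ↔ _
    rw [Submodule.mem_bot]
    exact ⟨fun h => Subtype.ext h, fun h => by rw [h]; rfl⟩
  rw [this]
  exact (Submodule.quotEquivOfEqBot _ rfl).length_eq

lemma rl_sub (L : Submodule R M) (A B : Submodule R L) (h : B ≤ A) :
    rl A B = rl (A.map L.subtype) (B.map L.subtype) := by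
  rw [rl_map L.subtype A B h, Submodule.ker_subtype,
    rl_eq_zero (A ⊓ ⊥) (B ⊓ ⊥) (by rw [inf_bot_eq, inf_bot_eq]), add_zero]

end basics

--PART2
section fin

variable {R : Type u} [CommRing R] {M : Type v} [AddCommGroup M] [Module R M]

lemma mem_smul_top (x : R) (y : M) : y ∈ x • (⊤ : Submodule R M) ↔ ∃ z, x • z = y := by
  rw [Submodule.mem_smul_pointwise_iff_exists]
  simp

lemma length_quot_pow (x : R) (hq : Module.length R (M ⧸ x • (⊤ : Submodule R M)) < ⊤) (N : ℕ) :
    Module.length R (M ⧸ x ^ N • (⊤ : Submodule R M)) < ⊤ := by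
  induction N with
  | zero =>
    rw [pow_zero, one_smul, ← rl_top, rl_eq_zero _ _ le_rfl]; simp
  | succ N ih =>
    have hle : x ^ (N + 1) • (⊤ : Submodule R M) ≤ x ^ N • (⊤ : Submodule R M) := by
      intro y hy
      rw [mem_smul_top] at hy ⊢
      obtain ⟨z, rfl⟩ := hy
      exact ⟨x • z, by rw [pow_succ, mul_smul]⟩
    rw [← rl_top] at ih hq ⊢
    rw [rl_add ⊤ (x ^ N • (⊤ : Submodule R M)) _ hle le_top]
    refine ENat.add_lt_top.mpr ⟨ih, ?_⟩
    have h1 := rl_map (DistribMulAction.toLinearMap R M (x ^ N)) ⊤ (x • (⊤ : Submodule R M)) le_top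
    have e1 : (⊤ : Submodule R M).map (DistribMulAction.toLinearMap R M (x ^ N)) =
        x ^ N • (⊤ : Submodule R M) := rfl
    have e2 : (x • (⊤ : Submodule R M)).map (DistribMulAction.toLinearMap R M (x ^ N)) =
        x ^ (N + 1) • (⊤ : Submodule R M) := by
      change x ^ N • (x • (⊤ : Submodule R M)) = _
      rw [smul_smul, ← pow_succ]
    rw [e1, e2] at h1
    exact lt_of_le_of_lt (h1 ▸ le_self_add) hq

lemma length_ker_smul [IsNoetherian R M] (x : R)
    (hq : Module.length R (M ⧸ x • (⊤ : Submodule R M)) < ⊤) :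
    Module.length R (LinearMap.ker (x • (LinearMap.id : M →ₗ[R] M))) < ⊤ := by
  -- the chain of `x^k`-torsion submodules stabilises
  let T : ℕ →o Submodule R M :=
    { toFun := fun k => LinearMap.ker ((x ^ k) • (LinearMap.id : M →ₗ[R] M))
      monotone' := by
        intro a b hab y hy
        rw [LinearMap.mem_ker, LinearMap.smul_apply, LinearMap.id_apply] at hy ⊢
        obtain ⟨c, rfl⟩ := Nat.exists_eq_add_of_le' hab
        rw [pow_add, mul_smul, hy, smul_zero] }
  obtain ⟨N, hN⟩ := monotone_stabilizes_iff_noetherian.mpr ‹IsNoetherian R M› T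
  have hN1 := hN (N + 1) (Nat.le_succ N)
  -- `ker x` injects into `M / x^N M`
  let f : LinearMap.ker (x • (LinearMap.id : M →ₗ[R] M)) →ₗ[R] M ⧸ x ^ N • (⊤ : Submodule R M) :=
    (Submodule.mkQ _).comp (Submodule.subtype _)
  have hf : Injective f := by
    rw [← LinearMap.ker_eq_bot, LinearMap.ker_eq_bot']
    rintro ⟨y, hy⟩ hy0
    have hy0' : y ∈ x ^ N • (⊤ : Submodule R M) := (Submodule.Quotient.mk_eq_zero _).mp hy0
    rw [mem_smul_top] at hy0'
    obtain ⟨z, rfl⟩ := hy0'
    rw [LinearMap.mem_ker, LinearMap.smul_apply, LinearMap.id_apply, smul_smul, ← pow_succ'] at hy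
    have hz : z ∈ T (N + 1) := by
      change z ∈ LinearMap.ker ((x ^ (N + 1)) • (LinearMap.id : M →ₗ[R] M))
      rw [LinearMap.mem_ker, LinearMap.smul_apply, LinearMap.id_apply, hy]
    rw [← hN1] at hz
    have hz' : x ^ N • z = 0 := by
      have : z ∈ LinearMap.ker ((x ^ N) • (LinearMap.id : M →ₗ[R] M)) := hz
      rwa [LinearMap.mem_ker, LinearMap.smul_apply, LinearMap.id_apply] at this
    apply Subtype.ext
    exact hz'
  exact lt_of_le_of_lt (Module.length_le_of_injective f hf) (length_quot_pow x hq N)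

end fin

--PART3
section claim

variable {R : Type u} [CommRing R] {M : Type v} [AddCommGroup M] [Module R M]

theorem claim1 (φ ψ : M →ₗ[R] M) (hper : IsPeriodic φ ψ) (hfin : FinCoh R φ ψ) (x : R)
    (hq : Module.length R (M ⧸ x • (⊤ : Submodule R M)) < ⊤)
    (hp : Module.length R (LinearMap.ker (x • (LinearMap.id : M →ₗ[R] M))) < ⊤) :
    FinCoh R (x • φ) ψ ∧ herbrand R (x • φ) ψ = herbrand R φ ψ -
      herbrand R (0 : ↥(LinearMap.range φ) →ₗ[R] ↥(LinearMap.range φ)) (x • LinearMap.id) := by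
  set L : Submodule R M := LinearMap.range φ with hL
  set T : Submodule R M := LinearMap.ker (x • (LinearMap.id : M →ₗ[R] M)) with hT
  have memT : ∀ y, y ∈ T ↔ x • y = 0 := fun y => by
    rw [hT, LinearMap.mem_ker, LinearMap.smul_apply, LinearMap.id_apply]
  -- inclusions
  have i1 : LinearMap.range ψ ≤ LinearMap.ker φ := by
    rintro _ ⟨y, rfl⟩; exact LinearMap.congr_fun hper.1 y
  have i2 : LinearMap.ker φ ≤ LinearMap.ker (x • φ) := by
    intro y hy
    rw [LinearMap.mem_ker] at hy ⊢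
    rw [LinearMap.smul_apply, hy, smul_zero]
  have i3 : LinearMap.range (x • φ) ≤ L := by
    rintro _ ⟨y, rfl⟩
    exact ⟨x • y, by rw [map_smul, LinearMap.smul_apply]⟩
  have i4 : L ≤ LinearMap.ker ψ := by
    rintro _ ⟨y, rfl⟩; exact LinearMap.congr_fun hper.2 y
  -- images
  have m1 : (LinearMap.ker (x • φ)).map φ = L ⊓ T := by
    ext y
    constructor
    · rintro ⟨z, hz, rfl⟩
      refine ⟨⟨z, rfl⟩, ?_⟩
      rw [SetLike.mem_coe, memT]
      rwa [SetLike.mem_coe, LinearMap.mem_ker, LinearMap.smul_apply] at hz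
    · rintro ⟨⟨z, rfl⟩, hy⟩
      rw [SetLike.mem_coe, memT] at hy
      exact ⟨z, by rw [SetLike.mem_coe, LinearMap.mem_ker, LinearMap.smul_apply, hy], rfl⟩
  have m2 : (LinearMap.ker φ).map φ = ⊥ := by
    rw [eq_bot_iff]
    rintro _ ⟨z, hz, rfl⟩
    exact hz
  have m3 : (⊤ : Submodule R M).map φ = L := Submodule.map_top φ
  have m4 : (x • (⊤ : Submodule R M)).map φ = LinearMap.range (x • φ) := by
    ext y
    constructor
    · rintro ⟨z, hz, rfl⟩
      rw [SetLike.mem_coe, mem_smul_top] at hz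
      obtain ⟨w, rfl⟩ := hz
      exact ⟨w, by rw [LinearMap.smul_apply, map_smul]⟩
    · rintro ⟨w, rfl⟩
      refine ⟨x • w, ?_, by rw [LinearMap.smul_apply, map_smul]⟩
      rw [SetLike.mem_coe, mem_smul_top]
      exact ⟨w, rfl⟩
  -- the four relative lengths
  have e0 : Module.length R (perH (x • φ) ψ) =
      rl (L ⊓ T) ⊥ + Module.length R (perH φ ψ) := by
    change rl (LinearMap.ker (x • φ)) (LinearMap.range ψ) = _ + rl (LinearMap.ker φ) (LinearMap.range ψ)
    rw [rl_add _ _ _ i1 i2, rl_map φ _ _ i2, m1, m2,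
      rl_eq_zero (LinearMap.ker (x • φ) ⊓ LinearMap.ker φ) (LinearMap.ker φ ⊓ LinearMap.ker φ)
        (le_inf inf_le_right inf_le_right), add_zero]
  have e1 : Module.length R (perH ψ (x • φ)) =
      Module.length R (perH ψ φ) + rl L (LinearMap.range (x • φ)) := by
    change rl (LinearMap.ker ψ) (LinearMap.range (x • φ)) = rl (LinearMap.ker ψ) L + _
    rw [rl_add _ _ _ i3 i4]
  have e2 : Module.length R (perH (0 : L →ₗ[R] L) (x • LinearMap.id)) =
      rl L (LinearMap.range (x • φ)) := by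
    change rl (LinearMap.ker (0 : L →ₗ[R] L)) (LinearMap.range (x • (LinearMap.id : L →ₗ[R] L))) = _
    rw [LinearMap.ker_zero, rl_sub L _ _ le_top, Submodule.map_subtype_top]
    congr 1
    ext y
    constructor
    · rintro ⟨_, ⟨⟨_, ⟨w, rfl⟩⟩, rfl⟩, rfl⟩
      exact ⟨w, by simp⟩
    · rintro ⟨w, rfl⟩
      exact ⟨x • ⟨φ w, ⟨w, rfl⟩⟩, ⟨⟨φ w, ⟨w, rfl⟩⟩, by simp⟩, by simp⟩
  have e3 : Module.length R (perH (x • (LinearMap.id : L →ₗ[R] L)) 0) = rl (L ⊓ T) ⊥ := by
    change rl (LinearMap.ker (x • (LinearMap.id : L →ₗ[R] L))) (LinearMap.range (0 : L →ₗ[R] L)) = _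
    rw [LinearMap.range_zero, rl_sub L _ _ bot_le, Submodule.map_bot]
    congr 1
    ext y
    constructor
    · rintro ⟨⟨z, hz⟩, hz', rfl⟩
      refine ⟨hz, ?_⟩
      rw [SetLike.mem_coe, LinearMap.mem_ker, LinearMap.smul_apply, LinearMap.id_apply] at hz'
      rw [SetLike.mem_coe, memT]
      exact congrArg Subtype.val hz'
    · rintro ⟨hyL, hyT⟩
      rw [SetLike.mem_coe, memT] at hyT
      refine ⟨⟨y, hyL⟩, ?_, rfl⟩
      rw [SetLike.mem_coe, LinearMap.mem_ker, LinearMap.smul_apply, LinearMap.id_apply]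
      exact Subtype.ext hyT
  -- finiteness
  have fq : rl L (LinearMap.range (x • φ)) < ⊤ := by
    have h1 := rl_map φ ⊤ (x • (⊤ : Submodule R M)) le_top
    rw [m3, m4, rl_top] at h1
    exact lt_of_le_of_lt (h1 ▸ le_self_add) hq
  have fp : rl (L ⊓ T) ⊥ < ⊤ := by
    refine lt_of_le_of_lt (rl_mono_left T (L ⊓ T) ⊥ bot_le inf_le_right) ?_
    rw [rl_bot]; exact hp
  obtain ⟨f0, f1⟩ := hfin
  have g0 : Module.length R (perH (x • φ) ψ) < ⊤ := by
    rw [e0]; exact ENat.add_lt_top.mpr ⟨fp, f0⟩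
  have g1 : Module.length R (perH ψ (x • φ)) < ⊤ := by
    rw [e1]; exact ENat.add_lt_top.mpr ⟨f1, fq⟩
  refine ⟨⟨g0, g1⟩, ?_⟩
  unfold herbrand
  rw [e0, e1, e2, e3]
  generalize Module.length R (perH φ ψ) = h0 at *
  generalize Module.length R (perH ψ φ) = h1 at *
  generalize rl (L ⊓ T) ⊥ = p at *
  generalize rl L (LinearMap.range (x • φ)) = q at *
  lift h0 to ℕ using f0.ne
  lift h1 to ℕ using f1.ne
  lift p to ℕ using fp.ne
  lift q to ℕ using fq.ne
  have c1 : ((p : ℕ∞) + (h0 : ℕ∞)).toNat = p + h0 := by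
    rw [← Nat.cast_add, ENat.toNat_coe]
  have c2 : ((h1 : ℕ∞) + (q : ℕ∞)).toNat = h1 + q := by
    rw [← Nat.cast_add, ENat.toNat_coe]
  rw [c1, c2]
  simp only [ENat.toNat_coe]
  push_cast
  ring

theorem main {R : Type u} [CommRing R] [IsNoetherianRing R] {M : Type v} [AddCommGroup M]
    [Module R M] [Module.Finite R M] (φ ψ : M →ₗ[R] M) (hper : CycAlg.IsPeriodic φ ψ)
    (hfin : CycAlg.FinCoh R φ ψ) (x : R)
    (hx : Module.supportDim R (M ⧸ x • (⊤ : Submodule R M)) ≤ 0) :
    (CycAlg.FinCoh R (x • φ) ψ ∧ CycAlg.herbrand R (x • φ) ψ = CycAlg.herbrand R φ ψ -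
      CycAlg.herbrand R (0 : ↥(LinearMap.range φ) →ₗ[R] ↥(LinearMap.range φ)) (x • LinearMap.id)) ∧
    (CycAlg.FinCoh R φ (x • ψ) ∧ CycAlg.herbrand R φ (x • ψ) = CycAlg.herbrand R φ ψ +
      CycAlg.herbrand R (0 : ↥(LinearMap.range ψ) →ₗ[R] ↥(LinearMap.range ψ)) (x • LinearMap.id)) := by
  have hq := length_lt_top_of_supportDim_le_zero hx
  haveI : IsNoetherian R M := isNoetherian_of_isNoetherianRing_of_finite R M
  have hp := length_ker_smul x hq
  refine ⟨claim1 φ ψ hper hfin x hq hp, ?_⟩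
  obtain ⟨⟨a, b⟩, e⟩ := claim1 ψ φ ⟨hper.2, hper.1⟩ ⟨hfin.2, hfin.1⟩ x hq hp
  refine ⟨⟨b, a⟩, ?_⟩
  have s1 : herbrand R φ (x • ψ) = - herbrand R (x • ψ) φ := by unfold herbrand; ring
  have s2 : herbrand R ψ φ = - herbrand R φ ψ := by unfold herbrand; ring
  rw [s1, e, s2]; ring

end claim

end Groth.Agent.Lib.Helper26.HerbrandSmul
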