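import Mathlib
import Groth.Agent.Lib.Helper6.FinLocFreeExt
import Groth.Agent.Lib.Helper6.DCohSheafHom
import Groth.Agent.Lib.Helper16.QCohSigma

set_option autoImplicit false
set_option maxHeartbeats 400000
set_option linter.style.haveILetI false
set_option linter.unusedSectionVars false
universe u
open CategoryTheory CategoryTheory.Limits AlgebraicGeometry Opposite TopologicalSpace

namespace Groth.Agent.Lib.Helper26.ExtVanA

open Groth.Agent.Lib.Helper6.FinFreeExt Groth.Agent.Lib.Helper6.FinLocFreeExt

attribute [local instance] Abelian.hasFiniteBiproducts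

variable {X : Scheme.{u}}

/-- finite powers of a quasi-coherent module are quasi-coherent -/
theorem isQuasicoherent_pow (G : X.Modules) [G.IsQuasicoherent] (n : ℕ) :
    (⨁ (fun _ : Fin n => G)).IsQuasicoherent := by
  haveI : ∀ i : ULift.{u} (Fin n), ((fun _ : ULift.{u} (Fin n) => G) i).IsQuasicoherent :=
    fun _ => inferInstance
  have h := Groth.Agent.Lib.Helper16.QCohSigma.isQuasicoherent_sigma
    (fun _ : ULift.{u} (Fin n) => G)
  let e : (∐ (fun _ : ULift.{u} (Fin n) => G)) ≅ ⨁ (fun _ : Fin n => G) :=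
    Sigma.reindex (Equiv.ulift : ULift.{u} (Fin n) ≃ Fin n) (fun _ : Fin n => G) ≪≫
      (biproduct.isoCoproduct (fun _ : Fin n => G)).symm
  exact (SheafOfModules.isQuasicoherent.{u} X.ringCatSheaf).prop_of_iso e h

end Groth.Agent.Lib.Helper26.ExtVanA

namespace Groth.Agent.Lib.Helper26.ExtVanA

open Groth.Agent.Lib.Helper6.FinFreeExt Groth.Agent.Lib.Helper6.FinLocFreeExt

attribute [local instance] Abelian.hasFiniteBiproducts

variable {X : Scheme.{u}}

theorem coversTop_of_mem (U : X → X.Opens) (hU : ∀ x, x ∈ U x) :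
    (Opens.grothendieckTopology X).CoversTop U := by
  intro W x hx
  exact ⟨W ⊓ U x, homOfLE inf_le_left, ⟨x, ⟨homOfLE inf_le_right⟩⟩, ⟨hx, hU x⟩⟩

/-- the sheaf Hom out of a finite locally free module into a quasi-coherent module is
quasi-coherent. -/
theorem isQuasicoherent_sheafHom (E G : X.Modules) (hE : FlatMod.IsFinLocFree E)
    [G.IsQuasicoherent] [ModSite.HasSheafHom (O := X.sheaf) E] :
    SheafOfModules.IsQuasicoherent.{u} (R := X.ringCatSheaf)
      ((ModSite.sheafHom (O := X.sheaf) E).obj G) := by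
  choose U n hxU he using fun x => exists_restr_iso_free E hE x
  haveI : ∀ x, SheafOfModules.IsQuasicoherent.{u}
      (SheafOfModules.over.{u} (R := X.ringCatSheaf)
        ((ModSite.sheafHom (O := X.sheaf) E).obj G) (U x)) := by
    intro x
    obtain ⟨e⟩ := he x
    haveI : ModSite.HasSheafHom (restrE E (U x)) :=
      Groth.Agent.Lib.Helper1.TensorAdj.hasSheafHom (X.sheaf.over (U x)) _
    let iso1 := (Groth.Agent.Lib.Helper1.SheafHomRestr.sheafHomRestrIso X.sheaf (U x)
      (show ModSite.Mod X.sheaf from E)).app G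
    let iso2 := (sheafHomFreeIso e).app ((ModSite.restr X.sheaf (U x)).obj G)
    let P : ModSite.Mod X.sheaf := ⨁ (fun _ : Fin (n x) => (show ModSite.Mod X.sheaf from G))
    haveI hP : SheafOfModules.IsQuasicoherent.{u} (R := X.ringCatSheaf) P :=
      isQuasicoherent_pow G (n x)
    haveI : (ModSite.restr X.sheaf (U x)).Additive := inferInstance
    let iso3 := (ModSite.restr X.sheaf (U x)).mapBiproduct (fun _ : Fin (n x) => G)
    have hq : SheafOfModules.IsQuasicoherent.{u}
        (SheafOfModules.over.{u} (R := X.ringCatSheaf) P (U x)) :=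
      SheafOfModules.isQuasicoherent_over.{u} (R := X.ringCatSheaf) P (U x)
    exact (SheafOfModules.isQuasicoherent.{u} _).prop_of_iso
      (iso3 ≪≫ iso2.symm ≪≫ iso1.symm) hq
  exact SheafOfModules.IsQuasicoherent.of_coversTop.{u} (R := X.ringCatSheaf) _ U
    (coversTop_of_mem U hxU)

end Groth.Agent.Lib.Helper26.ExtVanA
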