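import Mathlib
import Groth.Agent.Lib.Helper26.ExtVanA
import Groth.Agent.Lib.Helper16.DerTrunc3
import Groth.Agent.S12483
import Groth.Agent.S0016

set_option autoImplicit false
set_option maxHeartbeats 400000
set_option linter.style.haveILetI false
set_option linter.unusedSectionVars false
universe u
open CategoryTheory CategoryTheory.Limits AlgebraicGeometry Opposite TopologicalSpace

attribute [local instance] HasDerivedCategory.standard

namespace Groth.Agent.Lib.Helper26.ExtVanB

open Groth.Agent.Lib.Helper26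

variable {X : Scheme.{u}}

theorem hasSheafHom (A : X.Modules) : DCoh.HasSheafHom A := by
  haveI : (Groth.Agent.Lib.Helper1.ModFlat.tens X.sheaf A).IsLeftAdjoint :=
    Groth.Agent.Lib.Helper1.TensorAdj.hasSheafHom X.sheaf A
  exact ⟨_, ⟨(Adjunction.ofIsLeftAdjoint (Groth.Agent.Lib.Helper1.ModFlat.tens X.sheaf A)).ofNatIsoLeft
    (Groth.Agent.Lib.Helper6.DCohSheafHom.tensIso A).symm⟩⟩

theorem isQCoh_sheafHom (A B : X.Modules) (hA : FlatMod.IsFinLocFree A) (hB : Coh.IsQCoh B)
    [DCoh.HasSheafHom A] : Coh.IsQCoh ((DCoh.sheafHom A).obj B) := by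
  haveI : ModSite.HasSheafHom (O := X.sheaf) A :=
    Groth.Agent.Lib.Helper1.TensorAdj.hasSheafHom X.sheaf A
  haveI : B.IsQuasicoherent := hB
  have h := ExtVanA.isQuasicoherent_sheafHom A B hA
  exact (SheafOfModules.isQuasicoherent.{u} X.ringCatSheaf).prop_of_iso
    ((Groth.Agent.Lib.Helper6.DCohSheafHom.sheafHomIso A).app B).symm h

/-- uniform vanishing of `Ext^p(F, G)` for `F` finite locally free and `G` quasi-coherent -/
theorem single_case (X : Scheme.{u}) [CompactSpace X] [QuasiSeparatedSpace X] :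
    ∃ d : ℕ, ∀ (F G : X.Modules), FlatMod.IsFinLocFree F → Coh.IsQCoh G → ∀ p : ℕ, d ≤ p →
      ∀ φ : DCoh.inD X F ⟶ (DCoh.inD X G)⟦(p : ℤ)⟧, φ = 0 := by
  obtain ⟨d, hd⟩ := Groth.Agent.S0016.result X
  refine ⟨d, fun F G hF hG p hp φ => ?_⟩
  haveI : EnoughInjectives X.Modules :=
    Groth.Agent.Lib.Helper8.SheafModGroth.enoughInjectives _ X.ringCatSheaf
  haveI : HasExt.{u} X.Modules := hasExt_of_enoughInjectives.{u} _
  haveI := hasSheafHom F
  obtain ⟨e⟩ := Groth.Agent.S12483.result X F G hF p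
  haveI := hd _ (isQCoh_sheafHom F G hF hG) p hp
  haveI : Subsingleton (Abelian.Ext.{u} F G p) := e.toEquiv.subsingleton
  haveI : Subsingleton (ShiftedHom ((DerivedCategory.singleFunctor X.Modules 0).obj F)
      ((DerivedCategory.singleFunctor X.Modules 0).obj G) (p : ℤ)) :=
    (Abelian.Ext.homEquiv : Abelian.Ext.{u} F G p ≃ _).symm.subsingleton
  exact Subsingleton.elim (α := ShiftedHom ((DerivedCategory.singleFunctor X.Modules 0).obj F)
      ((DerivedCategory.singleFunctor X.Modules 0).obj G) (p : ℤ)) φ 0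

end Groth.Agent.Lib.Helper26.ExtVanB
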