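import Mathlib
import Groth.Prelude.Def_GrLC

/-!
# Homogeneous components in a module graded by a general abelian group

`proj ℳ g x` is the degree `g` component of `x`.  We prove the basic calculus (additivity,
behaviour under homogeneous scalars and graded maps), that `Γ_a` of a homogeneous ideal is
stable under components, and an abstract lemma: a subquotient `Z / (B ∩ Z)` of a graded module
by component-stable submodules is the internal direct sum of the classes of homogeneous elements.
-/

namespace Groth.Agent.Lib.Helper26.GrProj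

set_option linter.unusedSectionVars false
set_option maxHeartbeats 400000

open DirectSum

universe u

variable {ι : Type} [AddCommGroup ι] [DecidableEq ι]
  {R : Type u} [CommRing R] (𝒜 : ι → AddSubgroup R) [GradedRing 𝒜]
  {M : Type u} [AddCommGroup M] [Module R M] (ℳ : ι → AddSubgroup M)
  [DirectSum.Decomposition ℳ] [SetLike.GradedSMul 𝒜 ℳ]

/-- the degree `n` component -/
def proj (n : ι) (x : M) : M := (DirectSum.decompose ℳ x n : M)

lemma proj_zero (n : ι) : proj ℳ n 0 = 0 := by simp [proj]

lemma proj_add (n : ι) (x y : M) : proj ℳ n (x + y) = proj ℳ n x + proj ℳ n y := by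
  simp [proj, DirectSum.decompose_add]

lemma proj_sum {κ : Type*} (s : Finset κ) (f : κ → M) (n : ι) :
    proj ℳ n (∑ i ∈ s, f i) = ∑ i ∈ s, proj ℳ n (f i) := by
  classical
  induction s using Finset.induction_on with
  | empty => simp [proj_zero]
  | insert a s ha ih => rw [Finset.sum_insert ha, Finset.sum_insert ha, proj_add, ih]

lemma proj_of_mem_same {n : ι} {x : M} (hx : x ∈ ℳ n) : proj ℳ n x = x :=
  DirectSum.decompose_of_mem_same ℳ hx

lemma proj_of_mem_ne {i n : ι} {x : M} (hx : x ∈ ℳ i) (h : i ≠ n) : proj ℳ n x = 0 :=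
  DirectSum.decompose_of_mem_ne ℳ hx h

lemma proj_mem (n : ι) (x : M) : proj ℳ n x ∈ ℳ n := (DirectSum.decompose ℳ x n).2

open Classical in
lemma sum_proj (x : M) : ∑ j ∈ (DirectSum.decompose ℳ x).support, proj ℳ j x = x :=
  DirectSum.sum_support_decompose ℳ x

open Classical in
lemma proj_eq_zero_of_notMem {x : M} {g : ι} (h : g ∉ (DirectSum.decompose ℳ x).support) :
    proj ℳ g x = 0 := by
  rw [DFinsupp.notMem_support_iff] at h
  rw [proj, h]
  rfl

lemma proj_smul_of_mem {k : ι} {r : R} (hr : r ∈ 𝒜 k) (n : ι) (x : M) :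
    proj ℳ n (r • x) = r • proj ℳ (n - k) x := by
  classical
  conv_lhs => rw [← sum_proj ℳ x, Finset.smul_sum, proj_sum]
  have hterm : ∀ j, proj ℳ n (r • proj ℳ j x) = if n - k = j then r • proj ℳ j x else 0 := by
    intro j
    have hmem : r • proj ℳ j x ∈ ℳ (k + j) := by
      have := SetLike.GradedSMul.smul_mem hr (proj_mem ℳ j x)
      simpa using this
    split_ifs with h
    · have : k + j = n := by rw [← h]; abel
      rw [← this]; exact proj_of_mem_same ℳ hmem
    · refine proj_of_mem_ne ℳ hmem fun h' => h ?_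
      rw [← h']; abel
  simp only [hterm]
  rw [Finset.sum_ite_eq]
  split_ifs with h
  · rfl
  · rw [proj_eq_zero_of_notMem ℳ h, smul_zero]

/-- graded maps commute with components -/
lemma proj_hom {N : Type u} [AddCommGroup N] [Module R N] (𝒩 : ι → AddSubgroup N)
    [DirectSum.Decomposition 𝒩] (f : M →ₗ[R] N) (hf : GrLC.IsGrHom ℳ 𝒩 f) (g : ι) (z : M) :
    proj 𝒩 g (f z) = f (proj ℳ g z) := by
  classical
  conv_lhs => rw [← sum_proj ℳ z, map_sum, proj_sum]
  have hterm : ∀ j, proj 𝒩 g (f (proj ℳ j z)) = if g = j then f (proj ℳ j z) else 0 := by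
    intro j
    have hmem : f (proj ℳ j z) ∈ 𝒩 j := hf j _ (proj_mem ℳ j z)
    split_ifs with h
    · rw [h]; exact proj_of_mem_same 𝒩 hmem
    · exact proj_of_mem_ne 𝒩 hmem (Ne.symm h)
  simp only [hterm]
  rw [Finset.sum_ite_eq]
  split_ifs with h
  · rfl
  · rw [proj_eq_zero_of_notMem ℳ h, map_zero]

lemma pow_isHomogeneous (a : HomogeneousIdeal 𝒜) (n : ℕ) :
    (a.toIdeal ^ n).IsHomogeneous 𝒜 := by
  induction n with
  | zero => rw [pow_zero, Ideal.one_eq_top]; exact Ideal.IsHomogeneous.top 𝒜
  | succ n ih => rw [pow_succ]; exact ih.mul a.isHomogeneous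

/-- `Γ_a` of a homogeneous ideal is stable under taking components -/
lemma proj_mem_gam (a : HomogeneousIdeal 𝒜) (g : ι) (x : M)
    (hx : x ∈ GrLC.gam a.toIdeal M) : proj ℳ g x ∈ GrLC.gam a.toIdeal M := by
  classical
  obtain ⟨n, hn⟩ := hx
  refine ⟨n, fun r hr => ?_⟩
  have hrsum : r = ∑ k ∈ (DirectSum.decompose 𝒜 r).support, (DirectSum.decompose 𝒜 r k : R) :=
    (DirectSum.sum_support_decompose 𝒜 r).symm
  rw [hrsum, Finset.sum_smul]
  refine Finset.sum_eq_zero fun k _ => ?_
  have hk : (DirectSum.decompose 𝒜 r k : R) ∈ a.toIdeal ^ n := pow_isHomogeneous 𝒜 a n k hr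
  have := proj_smul_of_mem 𝒜 ℳ (DirectSum.decompose 𝒜 r k).2 (g + k) x
  rw [add_sub_cancel_right] at this
  rw [← this, hn _ hk, proj_zero]

/-- A subquotient of a graded module by component-stable submodules is the internal direct sum
of the subgroups of classes of homogeneous elements. -/
theorem quot_isInternal (Z B : Submodule R M)
    (hZ : ∀ g z, z ∈ Z → proj ℳ g z ∈ Z) (hB : ∀ g z, z ∈ B → proj ℳ g z ∈ B)
    (A : ι → AddSubgroup (Z ⧸ B.comap Z.subtype))
    (hA : ∀ g x, x ∈ A g ↔ ∃ z : Z, (z : M) ∈ ℳ g ∧ (B.comap Z.subtype).mkQ z = x) :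
    DirectSum.IsInternal A := by
  classical
  constructor
  · rw [injective_iff_map_eq_zero]
    intro f hf
    have hex : ∀ g, ∃ z : Z, (z : M) ∈ ℳ g ∧ (B.comap Z.subtype).mkQ z = (f g : _) :=
      fun g => (hA g _).1 (f g).2
    choose z hz1 hz2 using hex
    rw [DirectSum.coeAddMonoidHom_eq_dfinsuppSum, DFinsupp.sum] at hf
    have h1 : (B.comap Z.subtype).mkQ (∑ g ∈ f.support, z g) = 0 := by
      rw [map_sum, ← hf]
      exact Finset.sum_congr rfl fun g _ => hz2 g
    rw [Submodule.mkQ_apply, Submodule.Quotient.mk_eq_zero, Submodule.mem_comap] at h1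
    rw [map_sum] at h1
    ext h
    by_cases hh : h ∈ f.support
    · have h2 := hB h _ h1
      rw [proj_sum] at h2
      have hterm : ∀ g, proj ℳ h (Z.subtype (z g)) = if h = g then (z g : M) else 0 := by
        intro g
        split_ifs with e
        · rw [e]; exact proj_of_mem_same ℳ (hz1 g)
        · exact proj_of_mem_ne ℳ (hz1 g) (Ne.symm e)
      simp only [hterm] at h2
      rw [Finset.sum_ite_eq, if_pos hh] at h2
      have h3 : (B.comap Z.subtype).mkQ (z h) = 0 := by
        rw [Submodule.mkQ_apply, Submodule.Quotient.mk_eq_zero, Submodule.mem_comap]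
        exact h2
      rw [hz2 h] at h3
      simpa using h3
    · rw [DFinsupp.notMem_support_iff] at hh
      rw [hh]
      rfl
  · intro x
    obtain ⟨z, rfl⟩ := Submodule.mkQ_surjective _ x
    let w : ι → Z := fun g => ⟨proj ℳ g z, hZ g z z.2⟩
    have hzsum : z = ∑ g ∈ (DirectSum.decompose ℳ (z : M)).support, w g := by
      apply Subtype.ext
      rw [Submodule.coe_sum]
      exact (sum_proj ℳ (z : M)).symm
    refine ⟨∑ g ∈ (DirectSum.decompose ℳ (z : M)).support,
      DirectSum.of (fun g => A g) g ⟨(B.comap Z.subtype).mkQ (w g),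
        (hA g _).2 ⟨w g, proj_mem ℳ g z, rfl⟩⟩, ?_⟩
    rw [map_sum]
    conv_rhs => rw [hzsum, map_sum]
    refine Finset.sum_congr rfl fun g _ => ?_
    rw [DirectSum.coeAddMonoidHom_of]

end Groth.Agent.Lib.Helper26.GrProj
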