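import Mathlib
import Groth.Prelude.Def_GrLC
import Groth.Prelude.Def_Wider
import Groth.Agent.Lib.Helper26.GrProj

/-!
# *essential extensions are essential (Bruns–Herzog 3.6.2 type)
-/

namespace Groth.Agent.Lib.Helper26.StarEss

set_option linter.unusedSectionVars false
set_option maxHeartbeats 400000

open DirectSum Groth.Agent.Lib.Helper26.GrProj

universe u

variable {ι : Type} [AddCommGroup ι] [DecidableEq ι]
  {R : Type u} [CommRing R] (𝒜 : ι → AddSubgroup R) [GradedRing 𝒜]
  {M : Type u} [AddCommGroup M] [Module R M] (ℳ : ι → AddSubgroup M)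
  [DirectSum.Decomposition ℳ] [SetLike.GradedSMul 𝒜 ℳ]

/-- component of `s • x` for homogeneous `x` -/
lemma proj_smul_right {e : ι} {x : M} (hx : x ∈ ℳ e) (s : R) (g : ι) :
    proj ℳ g (s • x) = (DirectSum.decompose 𝒜 s (g - e) : R) • x := by
  classical
  conv_lhs => rw [← DirectSum.sum_support_decompose 𝒜 s, Finset.sum_smul, proj_sum]
  have hterm : ∀ k, proj ℳ g ((DirectSum.decompose 𝒜 s k : R) • x) =
      if g - e = k then (DirectSum.decompose 𝒜 s k : R) • x else 0 := by
    intro k
    have hmem : (DirectSum.decompose 𝒜 s k : R) • x ∈ ℳ (k + e) := by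
      have := SetLike.GradedSMul.smul_mem (DirectSum.decompose 𝒜 s k).2 hx
      simpa using this
    split_ifs with h
    · have : k + e = g := by rw [← h]; abel
      rw [← this]; exact proj_of_mem_same ℳ hmem
    · refine proj_of_mem_ne ℳ hmem fun h' => h ?_
      rw [← h']; abel
  simp only [hterm]
  rw [Finset.sum_ite_eq]
  split_ifs with h
  · rfl
  · rw [DFinsupp.notMem_support_iff] at h
    rw [h]; simp

/-- an element all of whose components vanish is zero -/
lemma eq_zero_of_proj (x : M) (h : ∀ g, proj ℳ g x = 0) : x = 0 := by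
  classical
  rw [← sum_proj ℳ x]
  exact Finset.sum_eq_zero fun g _ => h g

open Classical in
lemma mem_support_iff (x : M) (g : ι) :
    g ∈ (DirectSum.decompose ℳ x).support ↔ proj ℳ g x ≠ 0 := by
  rw [DFinsupp.mem_support_iff, proj]
  constructor
  · intro h h'
    exact h (Subtype.ext h')
  · intro h h'
    apply h
    rw [h']
    rfl

variable (P : Submodule R M) (hP : ∀ g z, z ∈ P → proj ℳ g z ∈ P)
  (hess : ∀ N : Submodule R M, N.IsHomogeneous ℳ → N ≠ ⊥ → N ⊓ P ≠ ⊥)

include hP hess in
/-- base case: a nonzero homogeneous element has a nonzero homogeneous multiple in `P` -/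
lemma base {e : ι} {x : M} (hx : x ∈ ℳ e) (hx0 : x ≠ 0) :
    ∃ (k : ι) (b : R), b ∈ 𝒜 k ∧ b • x ∈ P ∧ b • x ≠ 0 := by
  classical
  have hhom : (Submodule.span R {x}).IsHomogeneous ℳ := by
    intro i m hm
    obtain ⟨s, rfl⟩ := Submodule.mem_span_singleton.1 hm
    have := proj_smul_right 𝒜 ℳ hx s i
    rw [proj] at this
    rw [this]
    exact Submodule.smul_mem _ _ (Submodule.mem_span_singleton_self x)
  have hne : Submodule.span R {x} ≠ ⊥ := by
    intro h
    apply hx0
    have := Submodule.mem_span_singleton_self (R := R) x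
    rw [h] at this
    exact (Submodule.mem_bot R).1 this
  have h := hess _ hhom hne
  obtain ⟨y, hy, hy0⟩ := Submodule.exists_mem_ne_zero_of_ne_bot h
  obtain ⟨hy1, hy2⟩ := Submodule.mem_inf.1 hy
  obtain ⟨s, rfl⟩ := Submodule.mem_span_singleton.1 hy1
  have : ∃ g, proj ℳ g (s • x) ≠ 0 := by
    by_contra hcon
    push_neg at hcon
    exact hy0 (eq_zero_of_proj ℳ _ hcon)
  obtain ⟨g, hg⟩ := this
  have h1 := hP g _ hy2
  rw [proj_smul_right 𝒜 ℳ hx s g] at hg h1
  exact ⟨g - e, _, (DirectSum.decompose 𝒜 s (g - e)).2, h1, hg⟩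

include hP hess in
lemma step (n : ℕ) : ∀ x : M, x ≠ 0 →
    (∃ s : Finset ι, s.card ≤ n ∧ ∀ g, proj ℳ g x ≠ 0 → g ∈ s) →
    ∃ (k : ι) (b : R), b ∈ 𝒜 k ∧ b • x ∈ P ∧ b • x ≠ 0 := by
  classical
  induction n with
  | zero =>
    rintro x hx0 ⟨s, hs, hsx⟩
    exfalso
    apply hx0
    apply eq_zero_of_proj ℳ
    intro g
    by_contra hg
    have := hsx g hg
    rw [Finset.card_eq_zero.1 (Nat.le_zero.1 hs)] at this
    exact absurd this (Finset.notMem_empty g)
  | succ n ih =>
    rintro x hx0 ⟨s, hs, hsx⟩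
    have : ∃ e, proj ℳ e x ≠ 0 := by
      by_contra hcon
      push_neg at hcon
      exact hx0 (eq_zero_of_proj ℳ _ hcon)
    obtain ⟨e, he⟩ := this
    obtain ⟨k, a, hak, haP, ha0⟩ := base 𝒜 ℳ P hP hess (proj_mem ℳ e x) he
    set y := x - proj ℳ e x with hy
    have hprojy : ∀ h, proj ℳ h y = if h = e then 0 else proj ℳ h x := by
      intro h
      have hx' : x = y + proj ℳ e x := by rw [hy]; abel
      have h1 : proj ℳ h x = proj ℳ h y + proj ℳ h (proj ℳ e x) := by
        conv_lhs => rw [hx']
        rw [proj_add]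
      split_ifs with hh
      · rw [hh] at h1
        rw [proj_of_mem_same ℳ (proj_mem ℳ e x)] at h1
        rw [hh]
        exact (add_eq_right.1 h1.symm)
      · rw [proj_of_mem_ne ℳ (proj_mem ℳ e x) (Ne.symm hh), add_zero] at h1
        exact h1.symm
    have hxy : x = y + proj ℳ e x := by rw [hy]; abel
    by_cases hay : a • y = 0
    · refine ⟨k, a, hak, ?_, ?_⟩
      · rw [hxy, smul_add, hay, zero_add]; exact haP
      · rw [hxy, smul_add, hay, zero_add]; exact ha0
    · -- apply induction to a • y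
      have hsupp : ∃ t : Finset ι, t.card ≤ n ∧ ∀ g, proj ℳ g (a • y) ≠ 0 → g ∈ t := by
        refine ⟨(s.erase e).image (fun j => j + k), ?_, ?_⟩
        · refine le_trans Finset.card_image_le ?_
          have hes : e ∈ s := hsx e he
          rw [Finset.card_erase_of_mem hes]
          omega
        · intro g hg
          rw [proj_smul_of_mem 𝒜 ℳ hak g y] at hg
          have hg' : proj ℳ (g - k) y ≠ 0 := by
            intro h0
            apply hg
            rw [h0, smul_zero]
          rw [hprojy] at hg'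
          split_ifs at hg' with hh
          · exact absurd rfl hg'
          · rw [Finset.mem_image]
            exact ⟨g - k, Finset.mem_erase.2 ⟨hh, hsx _ hg'⟩, by abel⟩
      obtain ⟨k', b, hbk, hbP, hb0⟩ := ih (a • y) hay hsupp
      have hc : b * a ∈ 𝒜 (k' + k) := SetLike.GradedMul.mul_mem hbk hak
      refine ⟨k' + k, b * a, hc, ?_, ?_⟩
      · rw [hxy, smul_add, mul_smul, mul_smul]
        exact P.add_mem hbP (P.smul_mem b haP)
      · -- nonzero
        have : ∃ g, proj ℳ g (b • a • y) ≠ 0 := by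
          by_contra hcon
          push_neg at hcon
          exact hb0 (eq_zero_of_proj ℳ _ hcon)
        obtain ⟨g, hg⟩ := this
        rw [← mul_smul, proj_smul_of_mem 𝒜 ℳ hc g y] at hg
        have hg' : proj ℳ (g - (k' + k)) y ≠ 0 := by
          intro h0
          apply hg
          rw [h0, smul_zero]
        rw [hprojy] at hg hg'
        split_ifs at hg hg' with hh
        · exact absurd rfl hg'
        · intro hzero
          apply hg
          rw [← proj_smul_of_mem 𝒜 ℳ hc g x, hzero, proj_zero]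

include 𝒜 hP hess in
theorem essential_of_star (N : Submodule R M) (hN : N ≠ ⊥) : N ⊓ P ≠ ⊥ := by
  classical
  obtain ⟨x, hxN, hx0⟩ := Submodule.exists_mem_ne_zero_of_ne_bot hN
  obtain ⟨k, b, -, hbP, hb0⟩ := step 𝒜 ℳ P hP hess _ x hx0
    ⟨(DirectSum.decompose ℳ x).support, le_rfl, fun g hg => (mem_support_iff ℳ x g).2 hg⟩
  intro h
  apply hb0
  have : b • x ∈ N ⊓ P := Submodule.mem_inf.2 ⟨N.smul_mem b hxN, hbP⟩
  rw [h] at this
  exact (Submodule.mem_bot R).1 this

end Groth.Agent.Lib.Helper26.StarEss
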