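import Mathlib
import Groth.Prelude.Def_GrLC
import Groth.Prelude.Def_Wider
import Groth.Agent.Lib.Helper26.GrProj
import Groth.Agent.Lib.Helper26.StarEss

namespace Groth.Agent.Lib.Helper26.StarEssMain

set_option linter.unusedSectionVars false
set_option maxHeartbeats 400000

open DirectSum Groth.Agent.Lib.Helper26.GrProj Groth.Agent.Lib.Helper26.StarEss

universe u

theorem main {ι : Type} [AddCommGroup ι] [DecidableEq ι]
    (R : Type u) [CommRing R] (𝒜 : ι → AddSubgroup R) [GradedRing 𝒜]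
    (M : Type u) [AddCommGroup M] [Module R M] (ℳ : ι → AddSubgroup M)
    [DirectSum.Decomposition ℳ] [SetLike.GradedSMul 𝒜 ℳ]
    (L : Type u) [AddCommGroup L] [Module R L] (𝓛 : ι → AddSubgroup L)
    [DirectSum.Decomposition 𝓛] [SetLike.GradedSMul 𝒜 𝓛]
    (f : M →ₗ[R] L) (hf : GrLC.IsStarEss ℳ 𝓛 f) : InjHull.IsEssentialInj f := by
  refine ⟨hf.injective, fun N hN => ?_⟩
  refine essential_of_star 𝒜 𝓛 (LinearMap.range f) ?_ hf.essential N hN
  rintro g z ⟨m, rfl⟩
  exact ⟨proj ℳ g m, (proj_hom ℳ 𝓛 f hf.grHom g m).symm⟩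

end Groth.Agent.Lib.Helper26.StarEssMain
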