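import Groth.Agent.Lib.Helper26.Matlis
import Groth.Agent.Lib.Helper26.Melkersson

/-!
# The injective hull of the residue field is Artinian (helper26)
-/

set_option autoImplicit false

universe u

namespace Groth.Agent.Lib.Helper26.Matlis

open IsLocalRing

variable {R : Type u} [CommRing R] [IsLocalRing R]

instance isArtinian_residueField : IsArtinian R (ResidueField R) :=
  isArtinian_of_surjective_algebraMap (R := ResidueField R) (S := R) (M := ResidueField R)
    residue_surjective

variable {E : Type u} [AddCommGroup E] [Module R E]
variable {f : ResidueField R →ₗ[R] E}

/-- Over a Noetherian local ring, an essential extension of the residue field is Artinian. -/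
theorem isArtinian_of_isEssentialInj [IsNoetherianRing R] (hf : InjHull.IsEssentialInj f) :
    IsArtinian R E := by
  have hle : Submodule.torsionBySet R E (maximalIdeal R : Set R) ≤ LinearMap.range f := by
    intro x hx
    apply mem_range_of_smul_eq_zero hf
    intro a ha
    exact (Submodule.mem_torsionBySet_iff _ _).1 hx ⟨a, ha⟩
  haveI : IsArtinian R (Submodule.torsionBySet R E (maximalIdeal R : Set R)) :=
    isArtinian_of_injective (Submodule.inclusion hle) (Submodule.inclusion_injective hle)
  exact Melkersson.isArtinian_of_isPowerTorsion (maximalIdeal R) (IsNoetherian.noetherian _)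
    (isPowerTorsion hf)

end Groth.Agent.Lib.Helper26.Matlis
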