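import Mathlib
import Groth.Prelude.Def_GrLC
import Groth.Agent.Lib.Helper26.GrProj

namespace Groth.Agent.Lib.Helper26.GrProjMain

set_option linter.unusedSectionVars false
set_option maxHeartbeats 400000

open DirectSum Groth.Agent.Lib.Helper26.GrProj

universe u

theorem main {ι : Type} [AddCommGroup ι] [DecidableEq ι]
    (R : Type u) [CommRing R] (𝒜 : ι → AddSubgroup R) [GradedRing 𝒜]
    (a : HomogeneousIdeal 𝒜) (M : Type u) [AddCommGroup M] [Module R M] (ℳ : ι → AddSubgroup M)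
    [DirectSum.Decomposition ℳ] [SetLike.GradedSMul 𝒜 ℳ] (E : GrLC.StarInjRes 𝒜 ℳ) (i : ℕ) :
    DirectSum.IsInternal (E.Hgr a i) := by
  refine quot_isInternal (E.X i).gr (E.cocyc a i) (E.cobdy a i) ?_ ?_ (E.Hgr a i)
    (fun g x => Iff.rfl)
  · intro g z hz
    obtain ⟨h1, h2⟩ := Submodule.mem_inf.1 hz
    refine Submodule.mem_inf.2 ⟨proj_mem_gam 𝒜 _ a g z h1, ?_⟩
    rw [LinearMap.mem_ker] at h2 ⊢
    rw [← proj_hom (E.X i).gr (E.X (i + 1)).gr (E.d i) (E.d_grHom i), h2, proj_zero]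
  · cases i with
    | zero =>
      intro g z hz
      have hz0 : z = 0 := (Submodule.mem_bot R).1 hz
      rw [hz0, proj_zero]
      exact Submodule.zero_mem _
    | succ n =>
      rintro g z ⟨y, hy, rfl⟩
      exact ⟨proj (E.X n).gr g y, proj_mem_gam 𝒜 _ a g y hy,
        (proj_hom (E.X n).gr (E.X (n + 1)).gr (E.d n) (E.d_grHom n) g y).symm⟩

end Groth.Agent.Lib.Helper26.GrProjMain
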