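import Mathlib

/-!
Locally free of rank one ⇒ invertible.
-/

set_option autoImplicit false
universe u

namespace Groth.Agent.Lib.Helper26.InvLocal

open TensorProduct

section loc

variable {R : Type*} [CommRing R] (S : Submonoid R) (A : Type*) [CommRing A] [Algebra R A]
  [IsLocalization S A] (N : Type*) [AddCommGroup N] [Module R N] [Module A N] [IsScalarTower R A N]

/-- local contraction map -/
noncomputable def cr : (N →ₗ[R] A) ⊗[R] N →ₗ[R] A := TensorProduct.lift LinearMap.id

@[simp] lemma cr_tmul (ψ : N →ₗ[R] A) (n : N) : cr A N (ψ ⊗ₜ[R] n) = ψ n := by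
  simp [cr]

include S in
lemma cr_bijective (e : N ≃ₗ[A] A) : Function.Bijective (cr (R := R) A N) := by
  haveI := IsLocalization.tensorProduct_compatibleSMul S A (N →ₗ[R] A) N
  set m0 : N := e.symm 1 with hm0
  have hm : ∀ m : N, m = e m • m0 := by
    intro m
    apply e.injective
    rw [map_smul, hm0, e.apply_symm_apply, smul_eq_mul, mul_one]
  have key : ∀ t : (N →ₗ[R] A) ⊗[R] N, ∃ ψ : N →ₗ[R] A, t = ψ ⊗ₜ[R] m0 := by
    intro t
    induction t using TensorProduct.induction_on with
    | zero => exact ⟨0, by simp⟩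
    | tmul ψ m =>
      refine ⟨e m • ψ, ?_⟩
      conv_lhs => rw [hm m]
      rw [TensorProduct.smul_tmul]
    | add x y hx hy =>
      obtain ⟨ψ1, h1⟩ := hx
      obtain ⟨ψ2, h2⟩ := hy
      exact ⟨ψ1 + ψ2, by rw [h1, h2, TensorProduct.add_tmul]⟩
  constructor
  · rw [injective_iff_map_eq_zero]
    intro t ht
    obtain ⟨ψ, rfl⟩ := key t
    rw [cr_tmul] at ht
    have hψ : ψ = 0 := by
      ext m
      rw [hm m]
      have := (LinearMap.extendScalarsOfIsLocalization S A ψ).map_smul (e m) m0
      rw [LinearMap.extendScalarsOfIsLocalization_apply'] at this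
      rw [this, LinearMap.extendScalarsOfIsLocalization_apply', ht, smul_zero]
      rfl
    rw [hψ, TensorProduct.zero_tmul]
  · intro a
    refine ⟨((e : N →ₗ[A] A).restrictScalars R) ⊗ₜ[R] (a • m0), ?_⟩
    rw [cr_tmul, LinearMap.restrictScalars_apply, LinearEquiv.coe_coe, map_smul, hm0,
      e.apply_symm_apply, smul_eq_mul, mul_one]

end loc

section glob

variable (R : Type u) [CommRing R] (M : Type u) [AddCommGroup M] [Module R M]

theorem main (s : Set R) (hs : Ideal.span s = ⊤)
    (hfree : ∀ f ∈ s,
      Nonempty (LocalizedModule.Away f M ≃ₗ[Localization.Away f] Localization.Away f)) :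
    Module.Invertible R M := by
  haveI : Module.FinitePresentation R M := by
    apply Module.FinitePresentation.of_localizationSpan s hs
    intro g
    obtain ⟨e⟩ := hfree g.1 g.2
    exact Module.FinitePresentation.of_equiv e.symm
  constructor
  let φ : ∀ r : s, M →ₗ[R] LocalizedModule.Away r.1 M :=
    fun r => LocalizedModule.mkLinearMap (Submonoid.powers r.1) M
  let γ : ∀ r : s, R →ₗ[R] Localization.Away r.1 :=
    fun r => Algebra.linearMap R (Localization.Away r.1)
  let δ : ∀ r : s, (M →ₗ[R] R) →ₗ[R]
      (LocalizedModule.Away r.1 M →ₗ[R] Localization.Away r.1) :=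
    fun r => IsLocalizedModule.map (Submonoid.powers r.1) (φ r) (γ r)
  apply bijective_of_isLocalized_span s hs
    (fun r : s => (LocalizedModule.Away r.1 M →ₗ[R] Localization.Away r.1) ⊗[R]
      LocalizedModule.Away r.1 M)
    (fun r => TensorProduct.map (δ r) (φ r))
    (fun r : s => Localization.Away r.1) γ
  intro r
  obtain ⟨e⟩ := hfree r.1 r.2
  have hcr : IsLocalizedModule.map (Submonoid.powers r.1) (TensorProduct.map (δ r) (φ r)) (γ r)
      (contractLeft R M) = cr (Localization.Away r.1) (LocalizedModule.Away r.1 M) := by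
    apply IsLocalizedModule.linearMap_ext (Submonoid.powers r.1)
      (TensorProduct.map (δ r) (φ r)) (γ r)
    rw [IsLocalizedModule.map_comp]
    ext ψ m
    show γ r (ψ m) = (δ r ψ) (φ r m)
    exact (IsLocalizedModule.map_apply _ (φ r) (γ r) ψ m).symm
  rw [hcr]
  exact cr_bijective (Submonoid.powers r.1) _ _ e

end glob

end Groth.Agent.Lib.Helper26.InvLocal
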