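import Mathlib

set_option maxHeartbeats 400000
set_option autoImplicit false

namespace Groth.Agent.Lib.Helper26.BinCommon

open MvPolynomial

universe u

variable {k : Type u} [Field k]

theorem eval_smul_of_homogeneous {σ : Type*} (F : MvPolynomial σ k) (d : ℕ)
    (hF : F.IsHomogeneous d) (t : k) (x : σ → k) :
    eval (fun i => t * x i) F = t ^ d * eval x F := by
  rw [eval_eq, eval_eq, Finset.mul_sum]
  refine Finset.sum_congr rfl fun s hs => ?_
  have hd := hF.degree_eq_sum_deg_support hs
  simp only [mul_pow, Finset.prod_mul_distrib, Finset.prod_pow_eq_pow_sum]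
  rw [← hd]; ring

section AlgClosed

variable [IsAlgClosed k]

/-- membership in the radical via pointwise vanishing -/
theorem exists_pow_dvd_of_vanish (H G : MvPolynomial (Fin 2) k)
    (h : ∀ x : Fin 2 → k, eval x H = 0 → eval x G = 0) : ∃ N : ℕ, H ∣ G ^ N := by
  have hmem : G ∈ vanishingIdeal k (zeroLocus k (Ideal.span {H})) := by
    intro x hx
    have hx' : eval x H = 0 := by
      have := hx H (Ideal.subset_span rfl)
      simpa using this
    simpa using h x hx'
  rw [vanishingIdeal_zeroLocus_eq_radical] at hmem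
  obtain ⟨N, hN⟩ := hmem
  exact ⟨N, Ideal.mem_span_singleton.mp hN⟩

/-- a non-unit has a nontrivial zero -/
theorem exists_zero_of_not_isUnit (H : MvPolynomial (Fin 2) k) (hH : ¬ IsUnit H) :
    ∃ a : Fin 2 → k, a ≠ 0 ∧ eval a H = 0 := by
  by_contra hcon
  push Not at hcon
  have h0 : ∀ x : Fin 2 → k, eval x H = 0 → x = 0 := by
    intro x hx
    by_contra hx0
    exact hcon x hx0 hx
  obtain ⟨N, hN⟩ := exists_pow_dvd_of_vanish H (X 0) (by
    intro x hx; rw [h0 x hx]; simp)
  obtain ⟨M, hM⟩ := exists_pow_dvd_of_vanish H (X 1) (by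
    intro x hx; rw [h0 x hx]; simp)
  have hrel : IsRelPrime (X 0 : MvPolynomial (Fin 2) k) (X 1) := by
    rw [(X_prime (R := k) (i := (0 : Fin 2))).irreducible.isRelPrime_iff_not_dvd, X_dvd_X]
    decide
  exact hH ((IsRelPrime.pow (m := N) (n := M) hrel) hN hM)

end AlgClosed

/-- the linear form vanishing at `a` -/
noncomputable def linForm (a : Fin 2 → k) : MvPolynomial (Fin 2) k :=
  C (a 1) * X 0 - C (a 0) * X 1

theorem coeff_linForm_zero (a : Fin 2 → k) :
    coeff (Finsupp.single 0 1) (linForm a) = a 1 := by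
  unfold linForm
  rw [coeff_sub, coeff_C_mul, coeff_C_mul, coeff_X', coeff_X']
  have : (Finsupp.single (1 : Fin 2) 1 : Fin 2 →₀ ℕ) ≠ Finsupp.single 0 1 := by
    intro h
    have := DFunLike.congr_fun h 0
    simp at this
  simp [this]

theorem coeff_linForm_one (a : Fin 2 → k) :
    coeff (Finsupp.single 1 1) (linForm a) = - a 0 := by
  unfold linForm
  rw [coeff_sub, coeff_C_mul, coeff_C_mul, coeff_X', coeff_X']
  have : (Finsupp.single (0 : Fin 2) 1 : Fin 2 →₀ ℕ) ≠ Finsupp.single 1 1 := by
    intro h
    have := DFunLike.congr_fun h 0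
    simp at this
  simp [this]

theorem linForm_irreducible (a : Fin 2 → k) (ha : a ≠ 0) : Irreducible (linForm a) := by
  have hne : linForm a ≠ 0 := by
    intro h
    apply ha
    have h1 := coeff_linForm_zero a
    have h2 := coeff_linForm_one a
    rw [h, coeff_zero] at h1 h2
    funext i
    fin_cases i
    · simpa using h2.symm
    · simpa using h1.symm
  have hhom : (linForm a).IsHomogeneous 1 :=
    (isHomogeneous_C_mul_X _ _).sub (isHomogeneous_C_mul_X _ _)
  apply irreducible_of_totalDegree_eq_one (hhom.totalDegree hne)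
  intro x hx
  rw [isUnit_iff_ne_zero]
  rintro rfl
  apply hne
  ext s
  rw [coeff_zero]
  exact zero_dvd_iff.mp (hx s)

theorem linForm_dvd [IsAlgClosed k] (a : Fin 2 → k) (ha : a ≠ 0) (F : MvPolynomial (Fin 2) k)
    (d : ℕ) (hF : F.IsHomogeneous d) (h0 : eval a F = 0) : linForm a ∣ F := by
  have hprime : Prime (linForm a) := (linForm_irreducible a ha).prime
  obtain ⟨N, hN⟩ := exists_pow_dvd_of_vanish (linForm a) F (by
    intro x hx
    have hx' : a 1 * x 0 - a 0 * x 1 = 0 := by
      simpa [linForm] using hx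
    -- `x` is a multiple of `a`
    obtain ⟨t, ht⟩ : ∃ t : k, x = fun i => t * a i := by
      by_cases h0' : a 0 = 0
      · have h1 : a 1 ≠ 0 := by
          intro h1
          apply ha
          funext i
          fin_cases i
          · exact h0'
          · exact h1
        refine ⟨x 1 / a 1, ?_⟩
        funext i
        fin_cases i
        · show x 0 = x 1 / a 1 * a 0
          rw [h0', mul_zero]
          rw [h0', zero_mul, sub_zero] at hx'
          rcases mul_eq_zero.mp hx' with h | h
          · exact absurd h h1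
          · exact h
        · show x 1 = x 1 / a 1 * a 1
          field_simp
      · refine ⟨x 0 / a 0, ?_⟩
        funext i
        fin_cases i
        · show x 0 = x 0 / a 0 * a 0
          field_simp
        · show x 1 = x 0 / a 0 * a 1
          field_simp
          linear_combination -hx'
    rw [ht, eval_smul_of_homogeneous F d hF, h0, mul_zero])
  exact hprime.dvd_of_dvd_pow hN

theorem main [IsAlgClosed k] {n : ℕ} (F : Fin n → MvPolynomial (Fin 2) k)
    (d : Fin n → ℕ) (hF : ∀ i, (F i).IsHomogeneous (d i)) :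
    (∃ H : MvPolynomial (Fin 2) k, ¬ IsUnit H ∧ ∀ i, H ∣ F i) ↔
      ∃ a : Fin 2 → k, a ≠ 0 ∧ ∀ i, MvPolynomial.eval a (F i) = 0 := by
  constructor
  · rintro ⟨H, hH, hdvd⟩
    obtain ⟨a, ha, haH⟩ := exists_zero_of_not_isUnit H hH
    refine ⟨a, ha, fun i => ?_⟩
    obtain ⟨G, hG⟩ := hdvd i
    rw [hG, map_mul, haH, zero_mul]
  · rintro ⟨a, ha, hzero⟩
    exact ⟨linForm a, (linForm_irreducible a ha).not_isUnit,
      fun i => linForm_dvd a ha (F i) (d i) (hF i) (hzero i)⟩

end Groth.Agent.Lib.Helper26.BinCommon
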