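import Mathlib
import Groth.Agent.Lib.Helper26.BinCommon

set_option maxHeartbeats 400000
set_option autoImplicit false

namespace Groth.Agent.Lib.Helper26.BinCommon2

open MvPolynomial Groth.Agent.Lib.Helper26.BinCommon

universe u

variable {k : Type u} [Field k]

theorem hc_mul {σ : Type*} (F G : MvPolynomial σ k) (d m : ℕ) (hF : F.IsHomogeneous d)
    (hdm : d ≤ m) :
    homogeneousComponent m (F * G) = F * homogeneousComponent (m - d) G := by
  conv_lhs => rw [← sum_homogeneousComponent G, Finset.mul_sum, map_sum]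
  have : ∀ j ∈ Finset.range (G.totalDegree + 1),
      homogeneousComponent m (F * homogeneousComponent j G) =
        if j = m - d then F * homogeneousComponent (m - d) G else 0 := by
    intro j _
    have hh : (F * homogeneousComponent j G).IsHomogeneous (d + j) :=
      hF.mul (homogeneousComponent_isHomogeneous j G)
    rw [homogeneousComponent_of_mem ((mem_homogeneousSubmodule _ _).mpr hh)]
    by_cases hj : j = m - d
    · subst hj
      rw [if_pos (by omega), if_pos rfl]
    · rw [if_neg (by omega), if_neg hj]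
  rw [Finset.sum_congr rfl this, Finset.sum_ite_eq']
  split_ifs with hmem
  · rfl
  · rw [Finset.mem_range, not_lt] at hmem
    rw [homogeneousComponent_eq_zero _ _ (by omega), mul_zero]

section AlgClosed

variable [IsAlgClosed k]

/-- if the only common zero is the origin, high powers of the variables lie in the ideal -/
theorem exists_pow_mem {n : ℕ} (F : Fin n → MvPolynomial (Fin 2) k)
    (h0 : ∀ x : Fin 2 → k, (∀ i, eval x (F i) = 0) → x = 0) (j : Fin 2) :
    ∃ N : ℕ, (X j : MvPolynomial (Fin 2) k) ^ N ∈ Ideal.span (Set.range F) := by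
  have hmem : (X j : MvPolynomial (Fin 2) k) ∈
      vanishingIdeal k (zeroLocus k (Ideal.span (Set.range F))) := by
    intro x hx
    have hx0 : x = 0 := by
      apply h0
      intro i
      have := hx (F i) (Ideal.subset_span ⟨i, rfl⟩)
      simpa using this
    rw [hx0]; simp
  rw [vanishingIdeal_zeroLocus_eq_radical] at hmem
  exact hmem

theorem mem_of_homogeneous_large (I : Ideal (MvPolynomial (Fin 2) k)) (N : ℕ)
    (h0 : (X 0 : MvPolynomial (Fin 2) k) ^ N ∈ I) (h1 : (X 1 : MvPolynomial (Fin 2) k) ^ N ∈ I)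
    (P : MvPolynomial (Fin 2) k) (m : ℕ) (hm : 2 * N ≤ m) (hP : P.IsHomogeneous m) : P ∈ I := by
  rw [← P.support_sum_monomial_coeff]
  refine Ideal.sum_mem _ fun s hs => ?_
  have hdeg : s.degree = m := by
    rw [Finsupp.degree_eq_weight_one]; exact hP (mem_support_iff.mp hs)
  rw [Finsupp.degree_eq_sum, Fin.sum_univ_two] at hdeg
  by_cases hs0 : N ≤ s 0
  · have hdvd : (X 0 : MvPolynomial (Fin 2) k) ^ N ∣ monomial s (coeff s P) := by
      rw [X_pow_eq_monomial, monomial_dvd_monomial]
      refine ⟨Or.inr ?_, one_dvd _⟩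
      intro i
      by_cases hi : i = 0
      · subst hi; simpa using hs0
      · simp [Finsupp.single_apply, Ne.symm hi]
    obtain ⟨q, hq⟩ := hdvd
    rw [hq]; exact I.mul_mem_right _ h0
  · have hs1 : N ≤ s 1 := by omega
    have hdvd : (X 1 : MvPolynomial (Fin 2) k) ^ N ∣ monomial s (coeff s P) := by
      rw [X_pow_eq_monomial, monomial_dvd_monomial]
      refine ⟨Or.inr ?_, one_dvd _⟩
      intro i
      by_cases hi : i = 1
      · subst hi; simpa using hs1
      · simp [Finsupp.single_apply, Ne.symm hi]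
    obtain ⟨q, hq⟩ := hdvd
    rw [hq]; exact I.mul_mem_right _ h1

theorem main2 {n : ℕ} (F : Fin n → MvPolynomial (Fin 2) k)
    (d : ℕ) (hF : ∀ i, (F i).IsHomogeneous d) :
    (¬ ∃ H : MvPolynomial (Fin 2) k, ¬ IsUnit H ∧ ∀ i, H ∣ F i) ↔
      ∃ m : ℕ, d ≤ m ∧ ∀ P : MvPolynomial (Fin 2) k, P.IsHomogeneous m →
        ∃ G : Fin n → MvPolynomial (Fin 2) k, (∀ i, (G i).IsHomogeneous (m - d)) ∧
          P = ∑ i, F i * G i := by
  rw [BinCommon.main F (fun _ => d) hF]
  constructor
  · intro hno
    have h0 : ∀ x : Fin 2 → k, (∀ i, eval x (F i) = 0) → x = 0 := by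
      intro x hx
      by_contra hx0
      exact hno ⟨x, hx0, hx⟩
    obtain ⟨N0, hN0⟩ := exists_pow_mem F h0 0
    obtain ⟨N1, hN1⟩ := exists_pow_mem F h0 1
    set N := max N0 N1 with hN
    have hX0 : (X 0 : MvPolynomial (Fin 2) k) ^ N ∈ Ideal.span (Set.range F) := by
      have : N = N0 + (N - N0) := by omega
      rw [this, pow_add]; exact Ideal.mul_mem_right _ _ hN0
    have hX1 : (X 1 : MvPolynomial (Fin 2) k) ^ N ∈ Ideal.span (Set.range F) := by
      have : N = N1 + (N - N1) := by omega
      rw [this, pow_add]; exact Ideal.mul_mem_right _ _ hN1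
    refine ⟨max (2 * N) d, le_max_right _ _, fun P hP => ?_⟩
    have hPI := mem_of_homogeneous_large _ N hX0 hX1 P _ (le_max_left _ _) hP
    rw [Ideal.mem_span_range_iff_exists_fun] at hPI
    obtain ⟨c, hc⟩ := hPI
    refine ⟨fun i => homogeneousComponent (max (2 * N) d - d) (c i), fun i =>
      homogeneousComponent_isHomogeneous _ _, ?_⟩
    have h1 : homogeneousComponent (max (2 * N) d) P = P := homogeneousComponent_eq_self hP
    rw [← h1, ← hc, map_sum]
    refine Finset.sum_congr rfl fun i _ => ?_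
    rw [mul_comm (c i) (F i)]
    exact hc_mul (F i) (c i) d _ (hF i) (le_max_right _ _)
  · rintro ⟨m, hdm, hm⟩ ⟨a, ha, hzero⟩
    apply ha
    have key : ∀ P : MvPolynomial (Fin 2) k, P.IsHomogeneous m → eval a P = 0 := by
      intro P hP
      obtain ⟨G, _, hPG⟩ := hm P hP
      rw [hPG, map_sum]
      refine Finset.sum_eq_zero fun i _ => ?_
      rw [map_mul, hzero i, zero_mul]
    funext j
    have := key (X j ^ m) (isHomogeneous_X_pow j m)
    rw [map_pow, eval_X] at this
    exact eq_zero_of_pow_eq_zero this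

end AlgClosed

end Groth.Agent.Lib.Helper26.BinCommon2
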