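import Mathlib
import Groth.Agent.Lib.Helper26.BinCommon2

set_option maxHeartbeats 400000
set_option autoImplicit false

namespace Groth.Agent.Lib.Helper26.HypHilb

open MvPolynomial

universe u

variable {k : Type u} [Field k]

/-- dimension of the space of forms of degree `n` in `r` variables (same argument as in
`Helper7/FanoCodim`, repeated here to keep imports light) -/
theorem finrank_homogeneousSubmodule (r n : ℕ) :
    Module.finrank k ↥(homogeneousSubmodule (Fin r) k n) = (r + n - 1).choose n := by
  classical
  have hset : {d : Fin r →₀ ℕ | d.degree = n} =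
      ((Finset.univ : Finset (Fin r)).finsuppAntidiag n : Set (Fin r →₀ ℕ)) := by
    ext d
    simp [Finsupp.degree_eq_sum]
  rw [homogeneousSubmodule_eq_finsupp_supported, hset]
  change Module.finrank k ↥(restrictSupport k _) = _
  rw [Module.finrank_eq_nat_card_basis (basisRestrictSupport k _),
    Nat.card_coe_set_eq, Set.ncard_coe_finset, Finset.card_finsuppAntidiag_nat_eq_choose]
  simp

theorem finrank_H (r t : ℕ) :
    Module.finrank k ↥(homogeneousSubmodule (Fin (r + 1)) k t) = (t + r).choose r := by
  rw [finrank_homogeneousSubmodule, show r + 1 + t - 1 = t + r by omega, Nat.choose_symm_add]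

instance (r t : ℕ) : Module.Finite k ↥(homogeneousSubmodule (Fin (r + 1)) k t) :=
  Module.finite_of_finrank_pos (by rw [finrank_H]; exact Nat.choose_pos (by omega))

theorem main (r m : ℕ)
    (f : MvPolynomial (Fin (r + 1)) k) (hf : f.IsHomogeneous m) (hf0 : f ≠ 0) (t : ℕ) (ht : m ≤ t) :
    Module.finrank k
        (Submodule.map ((Ideal.Quotient.mkₐ k (Ideal.span {f})).toLinearMap)
          (MvPolynomial.homogeneousSubmodule (Fin (r + 1)) k t)) =
      Nat.choose (t + r) r - Nat.choose (t + r - m) r := by
  set π := (Ideal.Quotient.mkₐ k (Ideal.span {f})).toLinearMap with hπ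
  let πt := π ∘ₗ (homogeneousSubmodule (Fin (r + 1)) k t).subtype
  have hrange : LinearMap.range πt = (homogeneousSubmodule (Fin (r + 1)) k t).map π := by
    rw [LinearMap.range_comp, Submodule.range_subtype]
  have hmem : ∀ g : homogeneousSubmodule (Fin (r + 1)) k (t - m),
      (LinearMap.mulLeft k f ∘ₗ (homogeneousSubmodule (Fin (r + 1)) k (t - m)).subtype) g ∈
        homogeneousSubmodule (Fin (r + 1)) k t := by
    intro g
    have := hf.mul g.2
    rw [show m + (t - m) = t by omega] at this
    exact this
  let μ : homogeneousSubmodule (Fin (r + 1)) k (t - m) →ₗ[k]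
      homogeneousSubmodule (Fin (r + 1)) k t :=
    LinearMap.codRestrict _ _ hmem
  have hμinj : Function.Injective μ := by
    intro a b hab
    have h1 : f * a.1 = f * b.1 := congrArg Subtype.val hab
    exact Subtype.ext (mul_left_cancel₀ hf0 h1)
  have hμrange : LinearMap.range μ = LinearMap.ker πt := by
    ext x
    constructor
    · rintro ⟨g, rfl⟩
      rw [LinearMap.mem_ker]
      change (Ideal.Quotient.mk (Ideal.span {f})) (f * g.1) = 0
      rw [Ideal.Quotient.eq_zero_iff_mem]
      exact Ideal.mul_mem_right _ _ (Ideal.subset_span (Set.mem_singleton f))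
    · intro hx
      rw [LinearMap.mem_ker] at hx
      change (Ideal.Quotient.mk (Ideal.span {f})) x.1 = 0 at hx
      rw [Ideal.Quotient.eq_zero_iff_mem, Ideal.mem_span_singleton'] at hx
      obtain ⟨a, ha⟩ := hx
      have h1 : x.1 = f * homogeneousComponent (t - m) a := by
        rw [← BinCommon2.hc_mul f a m t hf ht, mul_comm f a, ha]
        exact (homogeneousComponent_eq_self x.2).symm
      refine ⟨⟨homogeneousComponent (t - m) a, homogeneousComponent_isHomogeneous _ _⟩, ?_⟩
      exact Subtype.ext h1.symm
  have h1 := LinearMap.finrank_range_add_finrank_ker πt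
  rw [← hμrange, LinearMap.finrank_range_of_inj hμinj, hrange, finrank_H, finrank_H] at h1
  rw [show t + r - m = t - m + r by omega]
  omega

end Groth.Agent.Lib.Helper26.HypHilb
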