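import Groth.Agent.Lib.Helper26.AlphaPSelfDual

/-!
Self-duality of `α_p`: the map `φ` is a bijective bialgebra map.
-/

set_option autoImplicit false
universe u

namespace Groth.Agent.Lib.Helper26.AlphaPSelfDual

open TensorProduct Groth.Agent.Lib.Helper26.AlphaPDual

variable (p : ℕ) [Fact p.Prime] (R : Type u) [CommRing R] [CharP R p]

lemma counit_pow_x (n : ℕ) :
    Coalgebra.counit (R := R) ((AlphaP.x p R) ^ n) = if n = 0 then 1 else 0 := by
  rw [Bialgebra.counit_pow, AlphaP.counit_x]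
  rcases Nat.eq_zero_or_pos n with h | h
  · rw [h, pow_zero, if_pos rfl]
  · rw [zero_pow (by omega), if_neg (by omega)]

lemma ξ_mul_pow (i j : ℕ) :
    (ξ p R) ((AlphaP.x p R) ^ i * (AlphaP.x p R) ^ j)
      = (ξ p R) ((AlphaP.x p R) ^ i) * Coalgebra.counit (R := R) ((AlphaP.x p R) ^ j)
        + Coalgebra.counit (R := R) ((AlphaP.x p R) ^ i) * (ξ p R) ((AlphaP.x p R) ^ j) := by
  rw [← pow_add, ξ_apply, ξ_apply, ξ_apply, counit_pow_x, counit_pow_x]
  rcases i with _ | _ | i <;> rcases j with _ | _ | j <;> simp <;> omega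

/-- `ξ` is a derivation at the counit -/
lemma ξ_mul (a b : AlphaP.A p R) :
    (ξ p R) (a * b) = (ξ p R) a * Coalgebra.counit (R := R) b
      + Coalgebra.counit (R := R) a * (ξ p R) b := by
  haveI := nontriv p R
  set L : AlphaP.A p R →ₗ[R] AlphaP.A p R →ₗ[R] R :=
    (LinearMap.mul R (AlphaP.A p R)).compr₂ (ξ p R).ofConv with hL
  set L' : AlphaP.A p R →ₗ[R] AlphaP.A p R →ₗ[R] R :=
    (ξ p R).ofConv.smulRight (Coalgebra.counit (R := R) (A := AlphaP.A p R))
      + (Coalgebra.counit (R := R) (A := AlphaP.A p R)).smulRight (ξ p R).ofConv with hL'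
  have h : L = L' := by
    refine (AlphaP.basis p R).ext fun i => (AlphaP.basis p R).ext fun j => ?_
    rw [AlphaP.basis_apply, AlphaP.basis_apply]
    have := ξ_mul_pow p R i j
    simpa [hL, hL'] using this
  have h2 := LinearMap.congr_fun (LinearMap.congr_fun h a) b
  simpa [hL, hL'] using h2

lemma comul_ξ : Coalgebra.comul (R := R) (ξ p R)
    = (ξ p R) ⊗ₜ[R] 1 + 1 ⊗ₜ[R] (ξ p R) := by
  apply (CartDual.ev₂ R (AlphaP.A p R)).injective
  apply TensorProduct.ext'
  intro a b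
  rw [CartDual.ev₂_coalgebra_comul_tmul, map_add, LinearMap.add_apply, CartDual.ev₂_tmul,
    CartDual.ev₂_tmul, ξ_mul]
  rfl

/-- `φ` as a bialgebra map -/
noncomputable def φB : AlphaP.A p R →ₐc[R] CartDual.D R (AlphaP.A p R) :=
  BialgHom.ofAlgHom (φ p R)
    (by
      apply AlphaP.algHom_ext
      rw [AlgHom.comp_apply, φ_x]
      show (ξ p R) (1 : AlphaP.A p R) = Coalgebra.counit (R := R) (AlphaP.x p R)
      rw [ξ_one, AlphaP.counit_x])
    (by
      apply AlphaP.algHom_ext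
      rw [AlgHom.comp_apply, AlgHom.comp_apply, φ_x]
      show Algebra.TensorProduct.map (φ p R) (φ p R) (Coalgebra.comul (R := R) (AlphaP.x p R))
        = Coalgebra.comul (R := R) (ξ p R)
      rw [AlphaP.comul_x, map_add, Algebra.TensorProduct.map_tmul, Algebra.TensorProduct.map_tmul,
        φ_x, map_one, comul_ξ])

lemma φB_apply (a : AlphaP.A p R) : φB p R a = φ p R a := rfl

lemma isUnit_factorial (i : ℕ) (hi : i < p) : IsUnit ((i.factorial : ℕ) : R) := by
  rw [CharP.isUnit_natCast_iff (R := R) (p := p) (Fact.out : Nat.Prime p),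
    Nat.Prime.dvd_factorial (Fact.out : Nat.Prime p)]
  exact not_le.mpr hi

lemma φ_sum_apply (c : Fin p → R) (j : Fin p) :
    (φ p R (∑ i : Fin p, c i • (AlphaP.x p R) ^ (i : ℕ))) ((AlphaP.x p R) ^ (j : ℕ))
      = c j * ((j : ℕ).factorial : R) := by
  rw [map_sum]
  show (∑ i : Fin p, φ p R (c i • (AlphaP.x p R) ^ (i : ℕ))).ofConv ((AlphaP.x p R) ^ (j : ℕ)) = _
  rw [WithConv.ofConv_sum, LinearMap.sum_apply, Finset.sum_eq_single j]
  · rw [map_smul, φ_pow, WithConv.ofConv_smul, LinearMap.smul_apply]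
    have := ξ_pow_apply p R (j : ℕ) (j : ℕ)
    rw [if_pos rfl] at this
    show c j • ((ξ p R) ^ (j : ℕ)) ((AlphaP.x p R) ^ (j : ℕ)) = _
    rw [this, smul_eq_mul]
  · intro i _ hij
    rw [map_smul, φ_pow, WithConv.ofConv_smul, LinearMap.smul_apply]
    have := ξ_pow_apply p R (i : ℕ) (j : ℕ)
    rw [if_neg (fun h => hij (Fin.ext h.symm))] at this
    show c i • ((ξ p R) ^ (i : ℕ)) ((AlphaP.x p R) ^ (j : ℕ)) = _
    rw [this, smul_zero]
  · intro h
    exact absurd (Finset.mem_univ _) h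

lemma φ_injective : Function.Injective (φ p R) := by
  haveI := nontriv p R
  rw [injective_iff_map_eq_zero]
  intro a ha
  have hrepr := (AlphaP.basis p R).sum_repr a
  simp only [AlphaP.basis_apply] at hrepr
  have hz : ∀ j : Fin p, (AlphaP.basis p R).repr a j = 0 := by
    intro j
    have h1 := φ_sum_apply p R (fun i => (AlphaP.basis p R).repr a i) j
    rw [hrepr, ha] at h1
    have h2 : ((0 : CartDual.D R (AlphaP.A p R))) ((AlphaP.x p R) ^ (j : ℕ)) = 0 := rfl
    rw [h2] at h1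
    exact ((isUnit_factorial p R j j.2).mul_left_eq_zero).mp h1.symm
  rw [← hrepr]
  refine Finset.sum_eq_zero fun j _ => ?_
  rw [hz j, zero_smul]

lemma φ_surjective : Function.Surjective (φ p R) := by
  haveI := nontriv p R
  intro y
  choose u hu using fun j : Fin p => (isUnit_factorial p R j j.2).exists_right_inv
  refine ⟨∑ i : Fin p, (y ((AlphaP.x p R) ^ (i : ℕ)) * u i) • (AlphaP.x p R) ^ (i : ℕ), ?_⟩
  apply WithConv.ofConv_injective
  refine (AlphaP.basis p R).ext fun j => ?_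
  rw [AlphaP.basis_apply]
  have := φ_sum_apply p R (fun i => y ((AlphaP.x p R) ^ (i : ℕ)) * u i) j
  show (φ p R (∑ i : Fin p, (y ((AlphaP.x p R) ^ (i : ℕ)) * u i) • (AlphaP.x p R) ^ (i : ℕ)))
    ((AlphaP.x p R) ^ (j : ℕ)) = y ((AlphaP.x p R) ^ (j : ℕ))
  rw [this, mul_assoc, mul_comm (u j), hu j, mul_one]

/-- self-duality of `α_p` -/
noncomputable def e : AlphaP.A p R ≃ₐc[R] CartDual.D R (AlphaP.A p R) :=
  BialgEquiv.ofBijective (φB p R) ⟨φ_injective p R, φ_surjective p R⟩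

lemma e_x : e p R (AlphaP.x p R) = ξ p R := φ_x p R

end Groth.Agent.Lib.Helper26.AlphaPSelfDual
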