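import Groth.Agent.Lib.Helper26.CatOrder

/-!
Catenary partial orders with a top element and finite coheights: catenary iff the coheight is a
dimension function.
-/

set_option autoImplicit false

namespace Groth.Agent.Lib.Helper26.CatOrder

variable {P : Type*} [PartialOrder P]

/-- the two element chain -/
def pair {p q : P} (h : p < q) : LTSeries P :=
  (RelSeries.singleton _ p).snoc q h

lemma pair_length {p q : P} (h : p < q) : (pair h).length = 1 := rfl

lemma pair_head {p q : P} (h : p < q) : (pair h).head = p := by simp [pair]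

lemma pair_last {p q : P} (h : p < q) : (pair h).last = q := by simp [pair]

lemma pair_sat {p q : P} (h : p ⋖ q) : Sat (pair h.lt) := by
  intro i
  have hi : i = ⟨0, by rw [pair_length]; omega⟩ := by
    apply Fin.ext
    have : (i : ℕ) < 1 := i.2
    simp
  subst hi
  have e1 : (pair h.lt) (Fin.castSucc ⟨0, by rw [pair_length]; omega⟩) = p := pair_head h.lt
  have e2 : (pair h.lt) (Fin.succ ⟨0, by rw [pair_length]; omega⟩) = q := pair_last h.lt
  rw [e1, e2]
  exact h

lemma cod_lt_of_lt (m : P) (hm : ∀ p, p ≤ m) (hfin : ∀ p, cod p m ≠ ⊤) {p q : P} (h : p < q) :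
    cod q m + 1 ≤ cod p m := by
  obtain ⟨s2, h1, h2, _, h4⟩ := exists_max (hm q) (hfin q)
  have hconn : (pair h).last = s2.head := by rw [pair_last, h1]
  have := le_cod (a := p) (b := m) ((pair h).smash s2 hconn) (by simp [pair_head])
    (by simp [h2])
  rw [RelSeries.smash_length, pair_length] at this
  rw [← h4]
  calc (s2.length : ℕ∞) + 1 = ((1 + s2.length : ℕ) : ℕ∞) := by push_cast; ring
    _ ≤ _ := this

lemma cod_head_eq (m : P)
    (hdim : ∀ p q : P, p ⋖ q → cod p m = cod q m + 1) :
    ∀ (n : ℕ) (s : LTSeries P), s.length = n → Sat s → cod s.head m = cod s.last m + n := by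
  intro n
  induction n with
  | zero =>
    intro s hs _
    have : s.head = s.last := by
      show s 0 = s (Fin.last _)
      congr 1
      rw [Fin.ext_iff]
      simp [hs]
    rw [this]
    simp
  | succ n ih =>
    intro s hs hsat
    have hsat' : Sat s.eraseLast := by
      intro i
      exact hsat ⟨i, lt_of_lt_of_le i.2 (Nat.sub_le _ _)⟩
    have hlen : s.eraseLast.length = n := by
      rw [RelSeries.eraseLast_length, hs]; rfl
    have h1 := ih s.eraseLast hlen hsat'
    have hcov : s.eraseLast.last ⋖ s.last := by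
      have e1 : s.eraseLast.last = s (Fin.castSucc ⟨s.length - 1, by omega⟩) := rfl
      have e2 : s.last = s (Fin.succ ⟨s.length - 1, by omega⟩) := by
        show s (Fin.last _) = _
        congr 1
        rw [Fin.ext_iff]
        simp
        omega
      rw [e1, e2]
      exact hsat _
    rw [RelSeries.head_eraseLast] at h1
    rw [h1, hdim _ _ hcov]
    push_cast
    ring

theorem dimfun_iff (m : P) (hm : ∀ p, p ≤ m) (hfin : ∀ p, cod p m ≠ ⊤) :
    ((∀ p q : P, p ≤ q → ∃ n : ℕ, ∀ s : LTSeries P, s.head = p → s.last = q → s.length ≤ n) ∧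
      ∀ s t : LTSeries P, s.head = t.head → s.last = t.last →
        (∀ i : Fin s.length, s (Fin.castSucc i) ⋖ s (Fin.succ i)) →
        (∀ i : Fin t.length, t (Fin.castSucc i) ⋖ t (Fin.succ i)) → s.length = t.length) ↔
    ∀ p q : P, p < q → cod q m < cod p m ∧ (p ⋖ q → cod p m = cod q m + 1) := by
  constructor
  · rintro ⟨_, hcat⟩ p q hpq
    have h1 := cod_lt_of_lt m hm hfin hpq
    refine ⟨lt_of_lt_of_le (ENat.lt_add_one_iff (hfin q) |>.2 le_rfl) h1, fun hcov => ?_⟩
    obtain ⟨s1, a1, a2, a3, a4⟩ := exists_max (hm p) (hfin p)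
    obtain ⟨s2, b1, b2, b3, b4⟩ := exists_max (hm q) (hfin q)
    have hconn : (pair hpq).last = s2.head := by rw [pair_last, b1]
    have hlen := hcat s1 ((pair hpq).smash s2 hconn) (by simp [pair_head, a1]) (by simp [a2, b2])
      a3 (sat_smash _ _ hconn (pair_sat hcov) b3)
    rw [RelSeries.smash_length, pair_length] at hlen
    rw [← a4, ← b4, hlen]
    push_cast
    ring
  · intro H
    have hdim : ∀ p q : P, p ⋖ q → cod p m = cod q m + 1 := fun p q h => (H p q h.lt).2 h
    constructor
    · intro p q _
      obtain ⟨n, hn⟩ := ENat.ne_top_iff_exists.1 (hfin p)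
      refine ⟨n, fun s h1 _ => ?_⟩
      have := le_cod s h1 (hm _)
      rw [← hn] at this
      exact_mod_cast this
    · intro s t hh hl hs ht
      have e1 := cod_head_eq m hdim s.length s rfl hs
      have e2 := cod_head_eq m hdim t.length t rfl ht
      rw [hh, hl, e2] at e1
      obtain ⟨k, hk⟩ := ENat.ne_top_iff_exists.1 (hfin t.last)
      rw [← hk] at e1
      have : k + t.length = k + s.length := by exact_mod_cast e1
      omega

end Groth.Agent.Lib.Helper26.CatOrder
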