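import Mathlib
import Groth.Agent.Lib.Helper6.RDShift

set_option maxHeartbeats 400000
set_option linter.style.haveILetI false
set_option linter.unusedSectionVars false

universe w w' v v' u u'

open CategoryTheory CategoryTheory.Limits

namespace Groth.Agent.Lib.Helper26.FDim2

variable {A : Type u} [Category.{v} A] [Abelian A] [EnoughInjectives A]
  {B : Type u'} [Category.{v'} B] [Abelian B] (F : A ⥤ B) [F.Additive]

open Groth.Agent.Lib.Helper6.RDShift

/-- `X` has `F`-dimension at most `k` -/
def DimLE (k : ℕ) (X : A) : Prop := ∀ i : ℕ, k < i → IsZero ((F.rightDerived i).obj X)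

variable {F}

lemma DimLE.mono {k k' : ℕ} (h : k ≤ k') {X : A} (hX : DimLE F k X) : DimLE F k' X :=
  fun i hi => hX i (lt_of_le_of_lt h hi)

lemma DimLE.of_iso {k : ℕ} {X Y : A} (e : X ≅ Y) (hX : DimLE F k X) : DimLE F k Y :=
  fun i hi => (hX i hi).of_iso ((F.rightDerived i).mapIso e.symm)

lemma dimLE_of_injective (k : ℕ) (I : A) [Injective I] : DimLE F k I := by
  intro i hi
  obtain ⟨j, rfl⟩ : ∃ j, i = j + 1 := ⟨i - 1, by omega⟩
  exact Functor.isZero_rightDerived_obj_injective_succ F j I

lemma dimLE_zero_obj (k : ℕ) (Z : A) (hZ : IsZero Z) : DimLE F k Z :=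
  fun i _ => (F.rightDerived i).map_isZero hZ

lemma DimLE.biprod {k : ℕ} {X Y : A} (hX : DimLE F k X) (hY : DimLE F k Y) :
    DimLE F k (X ⊞ Y) := by
  intro i hi
  haveI : PreservesBinaryBiproducts (F.rightDerived i) :=
    preservesBinaryBiproducts_of_preservesBiproducts _
  have e : (F.rightDerived i).obj (X ⊞ Y) ≅ (F.rightDerived i).obj X ⊞ (F.rightDerived i).obj Y :=
    (F.rightDerived i).mapBiprod X Y
  refine IsZero.of_iso ?_ e
  rw [IsZero.iff_id_eq_zero]
  apply biprod.hom_ext
  · exact (hX i hi).eq_of_tgt _ _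
  · exact (hY i hi).eq_of_tgt _ _

/-- dimension shifting: the cokernel of a monomorphism into an acyclic object -/
lemma DimLE.X₃ {S : ShortComplex A} (hS : S.ShortExact) {k : ℕ} (h₁ : DimLE F (k + 1) S.X₁)
    (h₂ : DimLE F 0 S.X₂) : DimLE F k S.X₃ := by
  intro i hi
  obtain ⟨δ, w₀, w₁, w₂, e₀, e₁, e₂⟩ := rightDerived_les F hS i
  have hz₁ : IsZero ((F.rightDerived (i + 1)).obj S.X₁) := h₁ (i + 1) (by omega)
  have hz₂ : IsZero ((F.rightDerived i).obj S.X₂) := h₂ i (by omega)
  exact e₁.isZero_X₂ (hz₂.eq_of_src _ _) (hz₁.eq_of_tgt _ _)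

/-- vanishing of a single derived functor propagates upwards -/
lemma isZero_rightDerived_of_le (n : ℕ) (hn : ∀ X : A, IsZero ((F.rightDerived n).obj X))
    (i : ℕ) (hi : n ≤ i) (X : A) : IsZero ((F.rightDerived i).obj X) := by
  induction i, hi using Nat.le_induction generalizing X with
  | base => exact hn X
  | succ i hi ih =>
    let S : ShortComplex A := ShortComplex.mk (Injective.ι X) (cokernel.π (Injective.ι X)) (by simp)
    have hS : S.ShortExact :=
      { exact := ShortComplex.exact_of_g_is_cokernel _ (cokernelIsCokernel _)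
        mono_f := inferInstanceAs (Mono (Injective.ι X))
        epi_g := inferInstanceAs (Epi (cokernel.π (Injective.ι X))) }
    obtain ⟨δ, w₀, w₁, w₂, e₀, e₁, e₂⟩ := rightDerived_les F hS i
    have hz₂ : IsZero ((F.rightDerived (i + 1)).obj S.X₂) :=
      Functor.isZero_rightDerived_obj_injective_succ F i (Injective.under X)
    exact e₂.isZero_X₂ ((ih S.X₃).eq_of_src _ _) (hz₂.eq_of_tgt _ _)

lemma dimLE_of_vanishing (n : ℕ) (hn : ∀ X : A, IsZero ((F.rightDerived n).obj X)) (X : A) :
    DimLE F n X :=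
  fun i hi => isZero_rightDerived_of_le n hn i hi.le X

variable [PreservesFiniteLimits F]

/-- for a short exact sequence with acyclic kernel, `F` preserves exactness -/
lemma shortExact_map_of_dimLE_zero {S : ShortComplex A} (hS : S.ShortExact)
    (h₁ : DimLE F 0 S.X₁) : (S.map F).ShortExact := by
  haveI := hS.mono_f
  have hex : (S.map F).Exact := by
    have := (Functor.preservesFiniteLimits_iff_forall_exact_map_and_mono F).1 inferInstance S hS
    exact this.1
  haveI : Mono (S.map F).f :=
    ((Functor.preservesFiniteLimits_iff_forall_exact_map_and_mono F).1 inferInstance S hS).2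
  haveI : Epi (S.map F).g := by
    obtain ⟨δ, w₀, w₁, w₂, e₀, e₁, e₂⟩ := rightDerived_les F hS 0
    have hz : IsZero ((F.rightDerived 1).obj S.X₁) := h₁ 1 (by omega)
    have hepi : Epi ((F.rightDerived 0).map S.g) := e₁.epi_f (hz.eq_of_tgt _ _)
    have nat := (F.rightDerivedZeroIsoSelf).hom.naturality S.g
    have : F.map S.g = (F.rightDerivedZeroIsoSelf).inv.app S.X₂ ≫ (F.rightDerived 0).map S.g ≫
        (F.rightDerivedZeroIsoSelf).hom.app S.X₃ := by
      rw [nat, Iso.inv_hom_id_app_assoc]
    change Epi (F.map S.g)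
    rw [this]
    infer_instance
  exact { exact := hex }

end Groth.Agent.Lib.Helper26.FDim2
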