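import Mathlib
import Groth.Agent.Lib.Helper6.RDShift
import Groth.Agent.Lib.Helper26.FDim2

set_option maxHeartbeats 400000
set_option linter.style.haveILetI false
set_option linter.unusedSectionVars false

universe w w' v v' u u'

open CategoryTheory CategoryTheory.Limits

namespace Groth.Agent.Lib.Helper26.FDim3

section Cycles

variable {A : Type u} [Category.{v} A] [Abelian A] (L : CochainComplex A ℤ)

/-- the short complex `Z^m ⟶ L^m ⟶ Z^{m'}` -/
noncomputable def cyclesSC (m m' : ℤ) : ShortComplex A :=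
  ShortComplex.mk (L.iCycles m) (L.toCycles m m') (by
    rw [← cancel_mono (L.iCycles m'), Category.assoc, L.toCycles_i, L.iCycles_d, zero_comp])

lemma cyclesSC_shortExact (m m' : ℤ) (h : m + 1 = m') (hL : L.ExactAt m') :
    (cyclesSC L m m').ShortExact := by
  have hprev : (ComplexShape.up ℤ).prev m' = m := by simp [← h]
  have hnext : (ComplexShape.up ℤ).next m = m' := by simp [← h]
  haveI : Mono (cyclesSC L m m').f := inferInstanceAs (Mono (L.iCycles m))
  haveI : Epi (cyclesSC L m m').g := by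
    change Epi (L.toCycles m m')
    have e := ShortComplex.exact_of_g_is_cokernel
      (ShortComplex.mk (L.toCycles m m') (L.homologyπ m') (L.toCycles_comp_homologyπ m m'))
      (L.homologyIsCokernel m m' hprev)
    have hz : IsZero (L.homology m') := hL.isZero_homology
    exact e.epi_f (hz.eq_of_tgt _ _)
  refine { exact := ?_ }
  -- compare with `Z^m ⟶ L^m ⟶ L^{m'}`
  let S' : ShortComplex A := ShortComplex.mk (L.iCycles m) (L.d m m') (L.iCycles_d m m')
  have hS' : S'.Exact := ShortComplex.exact_of_f_is_kernel S' (L.cyclesIsKernel m m' hnext)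
  let φ : cyclesSC L m m' ⟶ S' :=
    { τ₁ := 𝟙 _
      τ₂ := 𝟙 _
      τ₃ := L.iCycles m'
      comm₁₂ := by simp [cyclesSC, S']
      comm₂₃ := by simp [cyclesSC, S'] }
  haveI : Epi φ.τ₁ := inferInstanceAs (Epi (𝟙 _))
  haveI : IsIso φ.τ₂ := inferInstanceAs (IsIso (𝟙 _))
  haveI : Mono φ.τ₃ := inferInstanceAs (Mono (L.iCycles m'))
  exact (ShortComplex.exact_iff_of_epi_of_isIso_of_mono φ).2 hS'

end Cycles

section Acyclic

open Groth.Agent.Lib.Helper26.FDim2

variable {A : Type u} [Category.{v} A] [Abelian A] [EnoughInjectives A]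
  {B : Type u'} [Category.{v'} B] [Abelian B] (F : A ⥤ B) [F.Additive] [PreservesFiniteLimits F]

variable (L : CochainComplex A ℤ) (hL : L.Acyclic) (hterms : ∀ m, DimLE F 0 (L.X m))

include hL hterms

lemma dimLE_cycles (n : ℕ) (hn : ∀ X : A, IsZero ((F.rightDerived n).obj X)) (k : ℕ) (hk : k ≤ n)
    (m : ℤ) : DimLE F (n - k) (L.cycles m) := by
  induction k generalizing m with
  | zero => exact dimLE_of_vanishing n hn _
  | succ k ih =>
    have hS := cyclesSC_shortExact L (m - 1) m (by omega) (hL m)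
    have h₁ : DimLE F (n - (k + 1) + 1) (cyclesSC L (m - 1) m).X₁ := by
      have := ih (by omega) (m - 1)
      have e : n - (k + 1) + 1 = n - k := by omega
      rw [e]
      exact this
    exact DimLE.X₃ hS h₁ (hterms (m - 1))

theorem acyclic_map (n : ℕ) (hn : ∀ X : A, IsZero ((F.rightDerived n).obj X)) :
    ((F.mapHomologicalComplex (ComplexShape.up ℤ)).obj L).Acyclic := by
  have hZ : ∀ m, DimLE F 0 (L.cycles m) := fun m => by
    have := dimLE_cycles F L hL hterms n hn n le_rfl m
    rwa [Nat.sub_self] at this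
  intro j
  rw [HomologicalComplex.exactAt_iff' _ (j - 1) j (j + 1) (by simp) (by simp)]
  -- the two cycle sequences
  have hS₁ := shortExact_map_of_dimLE_zero (F := F)
    (cyclesSC_shortExact L (j - 1) j (by omega) (hL j)) (hZ (j - 1))
  have hS₂ := shortExact_map_of_dimLE_zero (F := F)
    (cyclesSC_shortExact L j (j + 1) rfl (hL (j + 1))) (hZ j)
  let K := (F.mapHomologicalComplex (ComplexShape.up ℤ)).obj L
  let S'' : ShortComplex B := ShortComplex.mk (F.map (L.iCycles j)) (F.map (L.d j (j + 1))) (by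
    rw [← F.map_comp, L.iCycles_d, F.map_zero])
  have hS'' : S''.Exact := by
    let φ : (cyclesSC L j (j + 1)).map F ⟶ S'' :=
      { τ₁ := 𝟙 _
        τ₂ := 𝟙 _
        τ₃ := F.map (L.iCycles (j + 1))
        comm₁₂ := by
          change 𝟙 _ ≫ F.map (L.iCycles j) = F.map (L.iCycles j) ≫ 𝟙 _
          rw [Category.id_comp, Category.comp_id]
        comm₂₃ := by
          change 𝟙 _ ≫ F.map (L.d j (j + 1)) =
            F.map (L.toCycles j (j + 1)) ≫ F.map (L.iCycles (j + 1))
          rw [Category.id_comp, ← F.map_comp, L.toCycles_i] }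
    haveI : Epi φ.τ₁ := inferInstanceAs (Epi (𝟙 _))
    haveI : IsIso φ.τ₂ := inferInstanceAs (IsIso (𝟙 _))
    haveI : Mono φ.τ₃ := inferInstanceAs (Mono (F.map (L.iCycles (j + 1))))
    exact (ShortComplex.exact_iff_of_epi_of_isIso_of_mono φ).1 hS₂.exact
  let ψ : K.sc' (j - 1) j (j + 1) ⟶ S'' :=
    { τ₁ := F.map (L.toCycles (j - 1) j)
      τ₂ := 𝟙 _
      τ₃ := 𝟙 _
      comm₁₂ := by
        change F.map (L.toCycles (j - 1) j) ≫ F.map (L.iCycles j) = F.map (L.d (j - 1) j) ≫ 𝟙 _
        rw [← F.map_comp, L.toCycles_i, Category.comp_id]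
      comm₂₃ := by
        change 𝟙 _ ≫ F.map (L.d j (j + 1)) = F.map (L.d j (j + 1)) ≫ 𝟙 _
        simp }
  haveI : Epi ψ.τ₁ := hS₁.epi_g
  haveI : IsIso ψ.τ₂ := inferInstanceAs (IsIso (𝟙 _))
  haveI : Mono ψ.τ₃ := inferInstanceAs (Mono (𝟙 _))
  exact (ShortComplex.exact_iff_of_epi_of_isIso_of_mono ψ).2 hS''

end Acyclic

end Groth.Agent.Lib.Helper26.FDim3
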