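import Mathlib

set_option maxHeartbeats 400000
set_option linter.style.haveILetI false
set_option linter.unusedSectionVars false

universe w w' v v' u u'

open CategoryTheory CategoryTheory.Limits CategoryTheory.Pretriangulated

namespace Groth.Agent.Lib.Helper26.FDim1

variable {C : Type u} [Category.{v} C] [HasZeroObject C] [HasShift C ℤ] [Preadditive C]
  [∀ (n : ℤ), (shiftFunctor C n).Additive] [Pretriangulated C] [IsTriangulated C]
  (𝒜 ℬ : ObjectProperty C) [𝒜.IsTriangulated] [ℬ.IsTriangulated]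
  [𝒜.IsClosedUnderIsomorphisms] [ℬ.IsClosedUnderIsomorphisms]

abbrev Φ := 𝒜.triangulatedLocalizerMorphism ℬ

section

variable (hres : ∀ X : C, ∃ (Z : C) (s : X ⟶ Z), 𝒜 Z ∧ ℬ.trW s)

include hres

lemma isVerdierRightLocalizing : 𝒜.IsVerdierRightLocalizing ℬ := by
  rw [ObjectProperty.isVerdierRightLocalizing_iff]
  intro X Y s hX hs
  obtain ⟨Z, r, hZ, hr⟩ := hres Y
  have hsr : ℬ.trW (s ≫ r) := MorphismProperty.comp_mem _ _ _ hs hr
  refine ⟨Z, s ≫ r, r, hZ, ?_, rfl⟩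
  obtain ⟨W', g, h, hT⟩ := distinguished_cocone_triangle (s ≫ r)
  rw [ObjectProperty.trW_iff]
  refine ⟨W', g, h, hT, ?_, ?_⟩
  · exact 𝒜.ext_of_isTriangulatedClosed₃ _ hT hX hZ
  · exact (ℬ.trW_iff_of_distinguished _ hT).1 hsr

lemma hasRightResolutions : (Φ 𝒜 ℬ).HasRightResolutions := by
  intro X
  obtain ⟨Z, s, hZ, hs⟩ := hres X
  exact ⟨{ X₁ := ⟨Z, hZ⟩, w := s, hw := hs }⟩

lemma isLocalizedEquivalence : (Φ 𝒜 ℬ).IsLocalizedEquivalence := by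
  haveI := isVerdierRightLocalizing 𝒜 ℬ hres
  haveI := hasRightResolutions 𝒜 ℬ hres
  let L₁ := (ℬ.inverseImage 𝒜.ι).trW.Q
  let L₂ := ℬ.trW.Q
  let G := (Φ 𝒜 ℬ).localizedFunctor L₁ L₂
  haveI : ((Φ 𝒜 ℬ).functor ⋙ L₂).EssSurj := (Φ 𝒜 ℬ).essSurj_of_hasRightResolutions L₂
  haveI : G.EssSurj := by
    have e : (Φ 𝒜 ℬ).functor ⋙ L₂ ≅ L₁ ⋙ G := CatCommSq.iso _ _ _ _
    haveI : (L₁ ⋙ G).EssSurj := Functor.essSurj_of_iso e
    exact ⟨fun Y => ⟨L₁.obj _, ⟨(L₁ ⋙ G).objObjPreimageIso Y⟩⟩⟩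
  haveI : G.IsEquivalence := { }
  exact LocalizerMorphism.IsLocalizedEquivalence.mk' (Φ 𝒜 ℬ) L₁ L₂ G

lemma isConnected_rightResolution (X : C) : IsConnected ((Φ 𝒜 ℬ).RightResolution X) := by
  haveI : Nonempty ((Φ 𝒜 ℬ).RightResolution X) := hasRightResolutions 𝒜 ℬ hres X
  apply zigzag_isConnected
  intro R R'
  -- left fraction
  obtain ⟨ψ, hψ⟩ := MorphismProperty.HasLeftCalculusOfFractions.exists_leftFraction
    (W := ℬ.trW) (MorphismProperty.RightFraction.mk R.w R.hw R'.w)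
  obtain ⟨Z, r, hZ, hr⟩ := hres ψ.Y'
  let R'' : (Φ 𝒜 ℬ).RightResolution X :=
    { X₁ := ⟨Z, hZ⟩
      w := R'.w ≫ ψ.s ≫ r
      hw := MorphismProperty.comp_mem _ _ _ R'.hw (MorphismProperty.comp_mem _ _ _ ψ.hs hr) }
  have h1 : R ⟶ R'' :=
    { f := ObjectProperty.homMk (ψ.f ≫ r)
      comm := by
        change R.w ≫ ψ.f ≫ r = R'.w ≫ ψ.s ≫ r
        have : R'.w ≫ ψ.s = R.w ≫ ψ.f := hψ
        rw [← Category.assoc, ← this, Category.assoc] }
  have h2 : R' ⟶ R'' :=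
    { f := ObjectProperty.homMk (ψ.s ≫ r)
      comm := rfl }
  exact (Zigzag.of_hom h1).trans (Zigzag.of_inv h2)

lemma hasRightResolutions_arrow : (Φ 𝒜 ℬ).arrow.HasRightResolutions := by
  intro f
  obtain ⟨LX, sX, hLX, hsX⟩ := hres f.left
  obtain ⟨LY, sY, hLY, hsY⟩ := hres f.right
  obtain ⟨ψ, hψ⟩ := MorphismProperty.HasLeftCalculusOfFractions.exists_leftFraction
    (W := ℬ.trW) (MorphismProperty.RightFraction.mk sX hsX (f.hom ≫ sY))
  obtain ⟨Z, r, hZ, hr⟩ := hres ψ.Y'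
  have hψ' : (f.hom ≫ sY) ≫ ψ.s = sX ≫ ψ.f := hψ
  exact ⟨{ X₁ := Arrow.mk (ObjectProperty.homMk (ψ.f ≫ r) :
              (⟨LX, hLX⟩ : 𝒜.FullSubcategory) ⟶ ⟨Z, hZ⟩)
           w := Arrow.homMk sX (sY ≫ ψ.s ≫ r) (by
              change sX ≫ ψ.f ≫ r = f.hom ≫ sY ≫ ψ.s ≫ r
              rw [← Category.assoc, ← hψ']
              simp)
           hw := ⟨hsX, MorphismProperty.comp_mem _ _ _ hsY
              (MorphismProperty.comp_mem _ _ _ ψ.hs hr)⟩ }⟩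

theorem isRightDerivabilityStructure : (Φ 𝒜 ℬ).IsRightDerivabilityStructure := by
  haveI := isConnected_rightResolution 𝒜 ℬ hres
  haveI := hasRightResolutions_arrow 𝒜 ℬ hres
  haveI := isLocalizedEquivalence 𝒜 ℬ hres
  exact LocalizerMorphism.IsRightDerivabilityStructure.mk' _

end

end Groth.Agent.Lib.Helper26.FDim1
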