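import Mathlib

set_option maxHeartbeats 400000
set_option linter.style.haveILetI false
set_option linter.unusedSectionVars false

universe w w' v v' u u'

open CategoryTheory CategoryTheory.Limits CategoryTheory.Pretriangulated ZeroObject

namespace Groth.Agent.Lib.Helper26.FDim4

variable {A : Type u} [Category.{v} A] [Abelian A] (P : ObjectProperty A)

/-- complexes with terms in `P` -/
def cxP : ObjectProperty (CochainComplex A ℤ) := fun L => ∀ m, P (L.X m)

/-- their images in the homotopy category -/
def hP : ObjectProperty (HomotopyCategory A (ComplexShape.up ℤ)) :=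
  (cxP P).strictMap (HomotopyCategory.quotient _ _)

variable {P}

@[simp]
lemma hP_quotient_obj_iff (K : CochainComplex A ℤ) :
    hP P ((HomotopyCategory.quotient _ _).obj K) ↔ cxP P K := by
  refine ⟨?_, fun h ↦ ⟨_, h⟩⟩
  simp only [hP, ObjectProperty.strictMap_iff]
  rintro ⟨L, h, hL⟩
  obtain rfl : L = K := congr_arg Quotient.as hL
  exact h

variable (hP0 : ∀ Z : A, IsZero Z → P Z) (hPiso : ∀ {X Y : A}, (X ≅ Y) → P X → P Y)
  (hPb : ∀ {X Y : A}, P X → P Y → P (X ⊞ Y))

include hP0 in
lemma containsZero : (hP P).ContainsZero where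
  exists_zero :=
    ⟨(HomotopyCategory.quotient _ _).obj (0 : CochainComplex A ℤ),
      Functor.map_isZero _ (isZero_zero _), by
      rw [hP_quotient_obj_iff]
      intro m
      exact hP0 _ (Functor.map_isZero (HomologicalComplex.eval A _ m) (isZero_zero _))⟩

lemma isStableUnderShift : (hP P).IsStableUnderShift ℤ where
  isStableUnderShiftBy n :=
    { le_shift K hK := by
        obtain ⟨K : CochainComplex _ _, rfl⟩ := K.quotient_obj_surjective
        rw [hP_quotient_obj_iff] at hK
        rw [ObjectProperty.prop_shift_iff, HomotopyCategory.shift_quotient_obj,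
          hP_quotient_obj_iff]
        intro m
        exact hK (m + n) }

include hPiso hPb in
lemma cxP_mappingCone {K L : CochainComplex A ℤ} (f : K ⟶ L) (hK : cxP P K) (hL : cxP P L) :
    cxP P (CochainComplex.mappingCone f) := by
  intro m
  exact hPiso (HomologicalComplex.homotopyCofiber.XIsoBiprod f m (m + 1) rfl).symm
    (hPb (hK (m + 1)) (hL m))

set_option backward.defeqAttrib.useBackward true in
set_option backward.isDefEq.respectTransparency false in
include hPiso hPb in
lemma isTriangulatedClosed₃ : (hP P).IsTriangulatedClosed₃ where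
  ext₃' T hT h₁ h₂ := by
    have h₁' : cxP P T.obj₁.as := by rwa [← hP_quotient_obj_iff]
    have h₂' : cxP P T.obj₂.as := by rwa [← hP_quotient_obj_iff]
    obtain ⟨f : T.obj₁.as ⟶ T.obj₂.as, hf⟩ := (HomotopyCategory.quotient _ _).map_surjective T.mor₁
    refine ⟨_, ?_,
      ⟨Triangle.π₃.mapIso (isoTriangleOfIso₁₂ T _ hT
        (HomotopyCategory.mappingCone_triangleh_distinguished f)
        (Iso.refl _) (Iso.refl _) ?_)⟩⟩
    · change hP P ((HomotopyCategory.quotient _ _).obj (CochainComplex.mappingCone f))
      rw [hP_quotient_obj_iff]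
      exact cxP_mappingCone hPiso hPb f h₁' h₂'
    · simp [hf]

include hP0 hPiso hPb in
lemma isTriangulated : (hP P).IsTriangulated := by
  haveI := containsZero hP0
  haveI := isStableUnderShift (P := P)
  haveI := isTriangulatedClosed₃ hPiso hPb
  exact { toIsTriangulatedClosed₂ := .of_isTriangulatedClosed₃ }

end Groth.Agent.Lib.Helper26.FDim4
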