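import Mathlib

set_option maxHeartbeats 400000
set_option linter.style.haveILetI false
set_option linter.unusedSectionVars false

universe w w' v v' u u'

open CategoryTheory CategoryTheory.Limits

namespace Groth.Agent.Lib.Helper26.FDim5

variable {A : Type u} [Category.{v} A] [Abelian A] [EnoughInjectives A]

section Embedding

variable (K : CochainComplex A ℤ)

/-- the injective objects -/
noncomputable abbrev J (m : ℤ) : A := Injective.under (K.X m)

/-- the terms -/
noncomputable abbrev IX (m : ℤ) : A := J K m ⊞ J K (m + 1)

/-- the differential -/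
noncomputable def Id (m : ℤ) : IX K m ⟶ IX K (m + 1) := biprod.snd ≫ biprod.inl

lemma Id_sq (m : ℤ) : Id K m ≫ Id K (m + 1) = 0 := by simp [Id]

/-- the contractible complex with injective terms -/
noncomputable def I : CochainComplex A ℤ := CochainComplex.of (IX K) (Id K) (Id_sq K)

lemma I_d (m : ℤ) : (I K).d m (m + 1) = Id K m := by simp [I]

instance (m : ℤ) : Injective ((I K).X m) := inferInstanceAs (Injective (IX K m))

/-- the components of the embedding -/
noncomputable def iF (m : ℤ) : K.X m ⟶ IX K m :=
  biprod.lift (Injective.ι (K.X m)) (K.d m (m + 1) ≫ Injective.ι (K.X (m + 1)))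

lemma iF_comm (m : ℤ) : iF K m ≫ Id K m = K.d m (m + 1) ≫ iF K (m + 1) := by
  apply biprod.hom_ext <;> simp [iF, Id]

/-- the embedding -/
noncomputable def i : K ⟶ I K where
  f m := iF K m
  comm' m m' h := by
    obtain rfl : m + 1 = m' := h
    rw [I_d]
    exact iF_comm K m

instance (m : ℤ) : Mono ((i K).f m) := by
  change Mono (iF K m)
  have : iF K m ≫ biprod.fst = Injective.ι (K.X m) := by simp [iF]
  exact mono_of_mono_fac this

end Embedding

end Groth.Agent.Lib.Helper26.FDim5
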