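import Mathlib
import Groth.Agent.Lib.Helper26.FDim2
import Groth.Agent.Lib.Helper26.FDim4
import Groth.Agent.Lib.Helper26.FDim5

set_option maxHeartbeats 400000
set_option linter.style.haveILetI false
set_option linter.unusedSectionVars false

universe w w' v v' u u'

open CategoryTheory CategoryTheory.Limits CategoryTheory.Pretriangulated

namespace Groth.Agent.Lib.Helper26.FDim6

open Groth.Agent.Lib.Helper26.FDim2 Groth.Agent.Lib.Helper26.FDim4 Groth.Agent.Lib.Helper26

variable {A : Type u} [Category.{v} A] [Abelian A] [EnoughInjectives A]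
  {B : Type u'} [Category.{v'} B] [Abelian B] (F : A ⥤ B) [F.Additive]

/-- the `F`-acyclic objects -/
def P0 : ObjectProperty A := fun X => DimLE F 0 X

/-- `K` maps quasi-isomorphically to a complex with `F`-acyclic terms -/
def HasRes (K : CochainComplex A ℤ) : Prop :=
  ∃ (L : CochainComplex A ℤ) (s : (HomotopyCategory.quotient A (ComplexShape.up ℤ)).obj K ⟶
      (HomotopyCategory.quotient A (ComplexShape.up ℤ)).obj L),
    cxP (P0 F) L ∧ HomotopyCategory.quasiIso A (ComplexShape.up ℤ) s

instance : (HomotopyCategory.quasiIso A (ComplexShape.up ℤ)).IsCompatibleWithTriangulation := by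
  rw [HomotopyCategory.quasiIso_eq_trW_subcategoryAcyclic]
  infer_instance

theorem hasRes_of_dimLE (k : ℕ) :
    ∀ (K : CochainComplex A ℤ), (∀ m, DimLE F k (K.X m)) → HasRes F K := by
  induction k with
  | zero =>
    intro K hK
    exact ⟨K, 𝟙 _, hK, MorphismProperty.id_mem _ _⟩
  | succ k ih =>
    intro K hK
    let K' : CochainComplex A ℤ := K⟦(-1 : ℤ)⟧
    have hK' : ∀ m, DimLE F (k + 1) (K'.X m) := fun m => hK (m + (-1))
    let i : K' ⟶ FDim5.I K' := FDim5.i K'
    haveI : Mono i := HomologicalComplex.mono_of_mono_f _ (fun m => inferInstance)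
    let S : ShortComplex (CochainComplex A ℤ) := ShortComplex.mk i (cokernel.π i) (by simp)
    have hS : S.ShortExact :=
      { exact := ShortComplex.exact_of_g_is_cokernel _ (cokernelIsCokernel i)
        mono_f := inferInstanceAs (Mono i)
        epi_g := inferInstanceAs (Epi (cokernel.π i)) }
    -- the terms of the cokernel
    have hC : ∀ m, DimLE F k (S.X₃.X m) := fun m => by
      have hm : (S.map (HomologicalComplex.eval A (ComplexShape.up ℤ) m)).ShortExact :=
        hS.map_of_exact _
      exact DimLE.X₃ hm (hK' m) (dimLE_of_injective 0 ((FDim5.I K').X m))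
    obtain ⟨L', s', hL', hs'⟩ := ih S.X₃ hC
    obtain ⟨c, rfl⟩ := (HomotopyCategory.quotient A (ComplexShape.up ℤ)).map_surjective s'
    have hc : QuasiIso c := by
      rw [HomotopyCategory.quotient_map_mem_quasiIso_iff, HomologicalComplex.mem_quasiIso_iff] at hs'
      exact hs'
    let g : FDim5.I K' ⟶ L' := S.g ≫ c
    have hI : cxP (P0 F) (FDim5.I K') := fun m => dimLE_of_injective 0 _
    have hcone : cxP (P0 F) (CochainComplex.mappingCone g) :=
      cxP_mappingCone (fun e h => DimLE.of_iso e h) (fun h h' => DimLE.biprod h h') g hI hL'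
    -- the two triangles
    let T₁ := (CochainComplex.mappingCone.triangleh S.f).rotate
    have hT₁ : T₁ ∈ distTriang _ :=
      rot_of_distTriang _ (HomotopyCategory.mappingCone_triangleh_distinguished S.f)
    let T₂ := CochainComplex.mappingCone.triangleh g
    have hT₂ : T₂ ∈ distTriang _ := HomotopyCategory.mappingCone_triangleh_distinguished g
    have hb : HomotopyCategory.quasiIso A (ComplexShape.up ℤ)
        ((HomotopyCategory.quotient A (ComplexShape.up ℤ)).map
          (CochainComplex.mappingCone.descShortComplex S ≫ c)) := by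
      rw [HomotopyCategory.quotient_map_mem_quasiIso_iff, HomologicalComplex.mem_quasiIso_iff]
      haveI := CochainComplex.mappingCone.quasiIso_descShortComplex hS
      infer_instance
    have comm : (HomotopyCategory.quotient A (ComplexShape.up ℤ)).map
          (CochainComplex.mappingCone.inr S.f) ≫
        (HomotopyCategory.quotient A (ComplexShape.up ℤ)).map
          (CochainComplex.mappingCone.descShortComplex S ≫ c) =
        𝟙 _ ≫ (HomotopyCategory.quotient A (ComplexShape.up ℤ)).map g := by
      rw [Category.id_comp, ← Functor.map_comp, ← Category.assoc,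
        CochainComplex.mappingCone.inr_descShortComplex]
    obtain ⟨ρ, hρ, -, -⟩ := MorphismProperty.compatible_with_triangulation
      (W := HomotopyCategory.quasiIso A (ComplexShape.up ℤ)) T₁ T₂ hT₁ hT₂ (𝟙 _) _
      (MorphismProperty.id_mem _ _) hb comm
    -- identify the source with `K`
    let e : (HomotopyCategory.quotient A (ComplexShape.up ℤ)).obj K ≅ T₁.obj₃ :=
      (HomotopyCategory.quotient A (ComplexShape.up ℤ)).mapIso
        ((shiftFunctorCompIsoId (CochainComplex A ℤ) (-1 : ℤ) 1 (by simp)).app K).symm ≪≫
      ((HomotopyCategory.quotient A (ComplexShape.up ℤ)).commShiftIso (1 : ℤ)).app K'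
    exact ⟨CochainComplex.mappingCone g, e.hom ≫ ρ, hcone,
      (MorphismProperty.cancel_left_of_respectsIso _ e.hom ρ).2 hρ⟩

end Groth.Agent.Lib.Helper26.FDim6
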