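import Mathlib
import Groth.Agent.Lib.Helper26.FDim1
import Groth.Agent.Lib.Helper26.FDim3
import Groth.Agent.Lib.Helper26.FDim6

set_option maxHeartbeats 400000
set_option linter.style.haveILetI false
set_option linter.unusedSectionVars false

universe w w' v v' u u'

open CategoryTheory CategoryTheory.Limits CategoryTheory.Pretriangulated

namespace Groth.Agent.Lib.Helper26.FDim7

open Groth.Agent.Lib.Helper26.FDim2 Groth.Agent.Lib.Helper26.FDim4 Groth.Agent.Lib.Helper26.FDim6
  Groth.Agent.Lib.Helper26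

section Zero

variable {B : Type u'} [Category.{v'} B] [Abelian B] [HasDerivedCategory.{w'} B]

lemma isZero_of_isZero_homology (K : DerivedCategory B)
    (h : ∀ n : ℤ, IsZero ((DerivedCategory.homologyFunctor B n).obj K)) : IsZero K := by
  have : IsIso (0 : K ⟶ K) := by
    rw [DerivedCategory.isIso_iff]
    intro n
    exact ⟨0, (h n).eq_of_src _ _, (h n).eq_of_src _ _⟩
  rw [IsZero.iff_id_eq_zero, ← IsIso.hom_inv_id (0 : K ⟶ K), zero_comp]

lemma isZero_Q_obj_of_acyclic (M : CochainComplex B ℤ) (hM : M.Acyclic) :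
    IsZero (DerivedCategory.Q.obj M) := by
  apply isZero_of_isZero_homology
  intro n
  exact (hM n).isZero_homology.of_iso ((DerivedCategory.homologyFunctorFactors B n).app M)

end Zero

variable {A : Type u} [Category.{v} A] [Abelian A] [EnoughInjectives A]
  {B : Type u'} [Category.{v'} B] [Abelian B] [HasDerivedCategory.{w'} B]
  (F : A ⥤ B) [F.Additive] [PreservesFiniteLimits F]

/-- the subcategory of complexes with `F`-acyclic terms -/
def 𝒜 : ObjectProperty (HomotopyCategory A (ComplexShape.up ℤ)) := (hP (P0 F)).isoClosure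

/-- the acyclic complexes -/
abbrev ℬ : ObjectProperty (HomotopyCategory A (ComplexShape.up ℤ)) :=
  HomotopyCategory.subcategoryAcyclic A

instance : (hP (P0 F)).IsTriangulated :=
  isTriangulated (fun Z hZ => dimLE_zero_obj 0 Z hZ) (fun e h => DimLE.of_iso e h)
    (fun h h' => DimLE.biprod h h')

instance : (𝒜 F).IsTriangulated := inferInstanceAs ((hP (P0 F)).isoClosure.IsTriangulated)

instance : (𝒜 F).IsClosedUnderIsomorphisms :=
  inferInstanceAs ((hP (P0 F)).isoClosure.IsClosedUnderIsomorphisms)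

/-- the functor to be derived -/
noncomputable abbrev G : HomotopyCategory A (ComplexShape.up ℤ) ⥤ DerivedCategory B :=
  F.mapHomotopyCategory (ComplexShape.up ℤ) ⋙ DerivedCategory.Qh

variable (n : ℕ) (hn : ∀ X : A, IsZero ((F.rightDerived n).obj X))

include hn

lemma hres (X : HomotopyCategory A (ComplexShape.up ℤ)) :
    ∃ (Z : HomotopyCategory A (ComplexShape.up ℤ)) (s : X ⟶ Z), 𝒜 F Z ∧ (ℬ (A := A)).trW s := by
  obtain ⟨K, rfl⟩ := X.quotient_obj_surjective
  obtain ⟨L, s, hL, hs⟩ := hasRes_of_dimLE F n K (fun m => dimLE_of_vanishing n hn _)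
  refine ⟨_, s, ObjectProperty.le_isoClosure _ _ ((hP_quotient_obj_iff L).2 hL), ?_⟩
  rwa [← HomotopyCategory.quasiIso_eq_trW_subcategoryAcyclic]

lemma isRightDerivabilityStructure :
    (FDim1.Φ (𝒜 F) (ℬ (A := A))).IsRightDerivabilityStructure :=
  FDim1.isRightDerivabilityStructure (𝒜 F) ℬ (hres F n hn)

lemma isZero_G_obj (Z : HomotopyCategory A (ComplexShape.up ℤ)) (h₁ : 𝒜 F Z)
    (h₂ : ℬ (A := A) Z) : IsZero ((G F).obj Z) := by
  obtain ⟨Y, hY, ⟨e⟩⟩ := h₁
  obtain ⟨L, hL⟩ := hY
  have hac : L.Acyclic := by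
    rw [← HomotopyCategory.quotient_obj_mem_subcategoryAcyclic_iff_acyclic]
    exact (ℬ (A := A)).prop_of_iso e h₂
  have hFL := FDim3.acyclic_map F L hac hL n hn
  refine IsZero.of_iso ?_ ((G F).mapIso e)
  refine IsZero.of_iso (isZero_Q_obj_of_acyclic _ hFL) ?_
  exact DerivedCategory.Qh.mapIso ((F.mapHomotopyCategoryFactors (ComplexShape.up ℤ)).app L) ≪≫
    (DerivedCategory.quotientCompQhIso B).app _

lemma derives : (FDim1.Φ (𝒜 F) (ℬ (A := A))).Derives (G F) := by
  intro X Y f hf
  rw [ObjectProperty.trW_inverseImage_ι_iff, ObjectProperty.trW_iff] at hf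
  obtain ⟨Z, a, b, hT, hZ₁, hZ₂⟩ := hf
  have hT' := (G F).map_distinguished _ hT
  have hz : IsZero ((G F).mapTriangle.obj (Triangle.mk f.hom a b)).obj₃ :=
    isZero_G_obj F n hn Z hZ₁ hZ₂
  exact (Triangle.isZero₃_iff_isIso₁ _ hT').1 hz

theorem hasRightDerivedFunctor :
    (G F).HasRightDerivedFunctor (HomotopyCategory.quasiIso A (ComplexShape.up ℤ)) := by
  rw [HomotopyCategory.quasiIso_eq_trW_subcategoryAcyclic]
  haveI := isRightDerivabilityStructure F n hn
  haveI := (derives F n hn).hasPointwiseRightDerivedFunctor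
  infer_instance

omit [PreservesFiniteLimits F] hn in
lemma isRightDerivedFunctor_congr [HasDerivedCategory.{w} A] {H : Type*} [Category H]
    (G' : HomotopyCategory A (ComplexShape.up ℤ) ⥤ H) (RF : DerivedCategory A ⥤ H)
    (α : G' ⟶ DerivedCategory.Qh ⋙ RF)
    [RF.IsRightDerivedFunctor α (HomotopyCategory.quasiIso A (ComplexShape.up ℤ))] :
    RF.IsRightDerivedFunctor α (ℬ (A := A)).trW := by
  have key : ∀ (W' : MorphismProperty (HomotopyCategory A (ComplexShape.up ℤ)))
      (_ : HomotopyCategory.quasiIso A (ComplexShape.up ℤ) = W')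
      [DerivedCategory.Qh.IsLocalization W'], RF.IsRightDerivedFunctor α W' := by
    rintro _ rfl _
    infer_instance
  exact key _ (HomotopyCategory.quasiIso_eq_trW_subcategoryAcyclic A)

theorem isIso_unit [HasDerivedCategory.{w} A]
    [(G F).HasRightDerivedFunctor (HomotopyCategory.quasiIso A (ComplexShape.up ℤ))]
    (K : CochainComplex A ℤ) (hK : ∀ m, DimLE F 0 (K.X m)) :
    IsIso (((G F).totalRightDerivedUnit DerivedCategory.Qh
      (HomotopyCategory.quasiIso A (ComplexShape.up ℤ))).app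
        ((HomotopyCategory.quotient A (ComplexShape.up ℤ)).obj K)) := by
  haveI := isRightDerivabilityStructure F n hn
  haveI := isRightDerivedFunctor_congr (G F)
    ((G F).totalRightDerived DerivedCategory.Qh (HomotopyCategory.quasiIso A (ComplexShape.up ℤ)))
    ((G F).totalRightDerivedUnit DerivedCategory.Qh
      (HomotopyCategory.quasiIso A (ComplexShape.up ℤ)))
  exact (derives F n hn).isIso_of_isRightDerivedFunctor
    ((G F).totalRightDerivedUnit DerivedCategory.Qh
      (HomotopyCategory.quasiIso A (ComplexShape.up ℤ)))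
    ⟨(HomotopyCategory.quotient A (ComplexShape.up ℤ)).obj K,
      ObjectProperty.le_isoClosure _ _ ((hP_quotient_obj_iff K).2 hK)⟩

end Groth.Agent.Lib.Helper26.FDim7
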