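import Mathlib
import Groth.Prelude.Def_W4c5qcohlocdualityLoc
set_option maxHeartbeats 400000
set_option linter.unusedSectionVars false
open CategoryTheory Limits ZeroObject

universe w v u
namespace Groth.Agent.Lib.Helper26.GabLocClosed

variable {C : Type u} [Category.{v} C] [Abelian C]

/-- `Y` is left orthogonal to `q`: every map `Y ⟶ E'` lifts uniquely through `q`. -/
def Orth {E E' : C} (q : E ⟶ E') (Y : C) : Prop :=
  ∀ g : Y ⟶ E', ∃! h : Y ⟶ E, h ≫ q = g

section
variable {E E' : C} (q : E ⟶ E')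

lemma orth_of_isZero {Y : C} (hY : IsZero Y) : Orth q Y := by
  intro g
  exact ⟨0, hY.eq_of_src _ _, fun _ _ => hY.eq_of_src _ _⟩

lemma orth_of_iso {Y Y' : C} (e : Y ≅ Y') (hY : Orth q Y) : Orth q Y' := by
  intro g
  obtain ⟨h, hh, hu⟩ := hY (e.hom ≫ g)
  refine ⟨e.inv ≫ h, by simp [hh], fun h' hh' => ?_⟩
  have := hu (e.hom ≫ h') (by simp [hh'])
  simp [← this]

lemma orth_of_isColimit {K : Type*} [Category K] {D : K ⥤ C} {c : Cocone D} (hc : IsColimit c)
    (hD : ∀ k, Orth q (D.obj k)) : Orth q c.pt := by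
  intro g
  choose h hh hu using fun k => hD k (c.ι.app k ≫ g)
  let c' : Cocone D := Cocone.mk E
    { app k := h k
      naturality k k' f := by
        dsimp
        rw [Category.comp_id]
        apply hu
        rw [Category.assoc, hh, ← Category.assoc, c.w] }
  refine ⟨hc.desc c', ?_, ?_⟩
  · apply hc.hom_ext
    intro k
    rw [← Category.assoc, hc.fac]
    exact hh k
  · intro h' hh'
    apply hc.hom_ext
    intro k
    rw [hc.fac]
    apply hu
    rw [Category.assoc, hh']

lemma orth_cokernel {K B : C} (f : K ⟶ B) (hK : Orth q K) (hB : Orth q B) :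
    Orth q (cokernel f) := by
  intro g
  obtain ⟨h, hh, hu⟩ := hB (cokernel.π f ≫ g)
  have h0 : f ≫ h = 0 := by
    obtain ⟨h', _, hu'⟩ := hK (f ≫ cokernel.π f ≫ g)
    rw [hu' (f ≫ h) (by dsimp only; rw [Category.assoc, hh]), hu' 0 (by simp)]
  refine ⟨cokernel.desc f h h0, ?_, ?_⟩
  · dsimp only
    rw [← cancel_epi (cokernel.π f)]
    simp [hh]
  · intro h' hh'
    rw [← cancel_epi (cokernel.π f)]
    simp only [cokernel.π_desc]
    apply hu
    rw [Category.assoc, hh']

/-- closed under extensions when `E` is injective -/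
lemma orth_of_shortExact [Injective E] {S : ShortComplex C} (hS : S.ShortExact)
    (h₁ : Orth q S.X₁) (h₃ : Orth q S.X₃) : Orth q S.X₂ := by
  have := hS.mono_f
  have := hS.epi_g
  intro g
  -- existence
  obtain ⟨y', hy', -⟩ := h₁ (S.f ≫ g)
  let y : S.X₂ ⟶ E := Injective.factorThru y' S.f
  have hy : S.f ≫ y = y' := Injective.comp_factorThru y' S.f
  have hz : S.f ≫ (g - y ≫ q) = 0 := by
    rw [Preadditive.comp_sub, ← Category.assoc, hy, hy', sub_self]
  obtain ⟨x'', hx''⟩ : ∃ x'' : S.X₃ ⟶ E', S.g ≫ x'' = g - y ≫ q :=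
    ⟨hS.exact.desc _ hz, hS.exact.g_desc _ hz⟩
  obtain ⟨y'', hy'', -⟩ := h₃ x''
  refine ⟨y + S.g ≫ y'', ?_, ?_⟩
  · dsimp only
    rw [Preadditive.add_comp, Category.assoc, hy'', hx'']
    abel
  · intro h' hh'
    -- uniqueness: d = h' - (y + g y'') satisfies d ≫ q = 0
    have hq : (h' - (y + S.g ≫ y'')) ≫ q = 0 := by
      rw [Preadditive.sub_comp, hh', Preadditive.add_comp, Category.assoc, hy'', hx'']
      abel
    have h1 : S.f ≫ (h' - (y + S.g ≫ y'')) = 0 := by
      obtain ⟨_, _, hu⟩ := h₁ 0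
      rw [hu (S.f ≫ (h' - (y + S.g ≫ y''))) (by dsimp only; rw [Category.assoc, hq, comp_zero]),
        hu 0 (by simp)]
    have h2 : hS.exact.desc _ h1 = 0 := by
      obtain ⟨_, _, hu⟩ := h₃ 0
      rw [hu (hS.exact.desc _ h1) (by
        dsimp only
        rw [← cancel_epi S.g, ← Category.assoc, hS.exact.g_desc, hq, comp_zero]),
        hu 0 (by simp)]
    have h3 : h' - (y + S.g ≫ y'') = 0 := by
      rw [← hS.exact.g_desc _ h1, h2, comp_zero]
    exact sub_eq_zero.mp h3
end
section
variable {M E : C} (ι : M ⟶ E) [Mono ι] [Injective E]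

/-- `ι` is the kernel of its cokernel; lifting property. -/
lemma exists_lift_of_comp_cokernel_eq_zero {A : C} (x : A ⟶ E) (hx : x ≫ cokernel.π ι = 0) :
    ∃ a : A ⟶ M, a ≫ ι = x :=
  ⟨Abelian.monoLift ι x hx, Abelian.monoLift_comp ι x hx⟩

lemma hom_eq_zero_of_orth {Y : C} (hY : Orth (cokernel.π ι) Y) (f : Y ⟶ M) : f = 0 := by
  obtain ⟨_, _, hu⟩ := hY 0
  have h1 : f ≫ ι = 0 := by
    rw [hu (f ≫ ι) (by simp), hu 0 (by simp)]
  rw [← cancel_mono ι, h1, zero_comp]

lemma isSplitMono_of_orth {Y N : C} (hY : Orth (cokernel.π ι) Y) (i : M ⟶ N) (p : N ⟶ Y)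
    (hp : i ≫ p = 0) (hS : (ShortComplex.mk i p hp).ShortExact) : IsSplitMono i := by
  have := hS.mono_f
  have := hS.epi_g
  let φ : N ⟶ E := Injective.factorThru ι i
  have hφ : i ≫ φ = ι := Injective.comp_factorThru ι i
  have h0 : i ≫ φ ≫ cokernel.π ι = 0 := by rw [← Category.assoc, hφ, cokernel.condition]
  let g : Y ⟶ cokernel ι := hS.exact.desc (φ ≫ cokernel.π ι) h0
  have hg : p ≫ g = φ ≫ cokernel.π ι := hS.exact.g_desc (φ ≫ cokernel.π ι) h0
  obtain ⟨h, hh, -⟩ := hY g
  obtain ⟨r, hr⟩ := exists_lift_of_comp_cokernel_eq_zero ι (φ - p ≫ h) (by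
    rw [Preadditive.sub_comp, Category.assoc, hh, hg, sub_self])
  refine ⟨⟨r, ?_⟩⟩
  rw [← cancel_mono ι, Category.assoc, hr, Preadditive.comp_sub, hφ, ← Category.assoc, hp,
    zero_comp, sub_zero, Category.id_comp]

lemma orth_of_closed {Y : C} (h1 : ∀ f : Y ⟶ M, f = 0)
    (h2 : ∀ ⦃N : C⦄ (i : M ⟶ N) (p : N ⟶ Y) (hp : i ≫ p = 0),
      (ShortComplex.mk i p hp).ShortExact → IsSplitMono i) :
    Orth (cokernel.π ι) Y := by
  intro g
  -- the pullback extension
  let N := pullback (cokernel.π ι) g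
  let fst : N ⟶ E := pullback.fst _ _
  let p : N ⟶ Y := pullback.snd _ _
  have hsq : fst ≫ cokernel.π ι = p ≫ g := pullback.condition
  let i : M ⟶ N := pullback.lift ι 0 (by simp)
  have hi1 : i ≫ fst = ι := pullback.lift_fst _ _ _
  have hi2 : i ≫ p = 0 := pullback.lift_snd _ _ _
  have : Mono i := mono_of_mono_fac hi1
  have : Epi p := Abelian.epi_pullback_of_epi_f _ _
  have hker : IsLimit (KernelFork.ofι i hi2) :=
    KernelFork.IsLimit.ofι' i hi2 (fun {A} x hx => by
      have hx' : (x ≫ fst) ≫ cokernel.π ι = 0 := by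
        rw [Category.assoc, hsq, ← Category.assoc, hx, zero_comp]
      refine ⟨(exists_lift_of_comp_cokernel_eq_zero ι _ hx').choose, ?_⟩
      have ha := (exists_lift_of_comp_cokernel_eq_zero ι _ hx').choose_spec
      apply pullback.hom_ext
      · rw [Category.assoc]
        erw [hi1]
        exact ha
      · rw [Category.assoc]
        erw [hi2]
        rw [comp_zero]
        exact hx.symm)
  have hS : (ShortComplex.mk i p hi2).ShortExact :=
    ShortComplex.ShortExact.mk' (ShortComplex.exact_of_f_is_kernel _ hker) ‹_› ‹_›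
  obtain ⟨⟨r, hr⟩⟩ := h2 i p hi2 hS
  have h0 : i ≫ (fst - r ≫ ι) = 0 := by
    rw [Preadditive.comp_sub, hi1, ← Category.assoc, hr, Category.id_comp, sub_self]
  refine ⟨hS.exact.desc _ h0, ?_, ?_⟩
  · dsimp only
    rw [← cancel_epi p, ← Category.assoc]
    erw [hS.exact.g_desc _ h0]
    rw [Preadditive.sub_comp, Category.assoc, cokernel.condition, comp_zero, sub_zero, hsq]
  · intro h' hh'
    have hd : (h' - hS.exact.desc _ h0) ≫ cokernel.π ι = 0 := by
      rw [Preadditive.sub_comp, hh', sub_eq_zero]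
      rw [← cancel_epi p, ← Category.assoc]
      erw [hS.exact.g_desc _ h0]
      rw [Preadditive.sub_comp, Category.assoc, cokernel.condition, comp_zero, sub_zero, hsq]
    obtain ⟨d, hd'⟩ := exists_lift_of_comp_cokernel_eq_zero ι _ hd
    rw [h1 d, zero_comp] at hd'
    exact (sub_eq_zero.mp hd'.symm)

lemma orth_iff_closed (Y : C) :
    Orth (cokernel.π ι) Y ↔ (∀ f : Y ⟶ M, f = 0) ∧
      ∀ ⦃N : C⦄ (i : M ⟶ N) (p : N ⟶ Y) (hp : i ≫ p = 0),
        (ShortComplex.mk i p hp).ShortExact → IsSplitMono i :=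
  ⟨fun h => ⟨hom_eq_zero_of_orth ι h, fun _ i p hp hS => isSplitMono_of_orth ι h i p hp hS⟩,
    fun h => orth_of_closed ι h.1 h.2⟩
end
section
variable {E E' : C} (q : E ⟶ E')

/-- objects all of whose subobjects are left orthogonal to `q` -/
def T (q : E ⟶ E') : ObjectProperty C :=
  fun X => ∀ ⦃B : C⦄ (i : B ⟶ X), Mono i → Orth q B

lemma T_self {X : C} (h : T q X) : Orth q X := h (𝟙 X) inferInstance

instance : (T q).IsClosedUnderSubobjects where
  prop_of_mono f _ hY := fun _ i _ => hY (i ≫ f) (mono_comp i f)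

instance : (T q).ContainsZero where
  exists_zero := ⟨0, isZero_zero C, fun _ i _ =>
    orth_of_isZero q (IsZero.of_mono i (isZero_zero C))⟩

instance : (T q).IsClosedUnderQuotients where
  prop_of_epi {X X''} f _ hX := by
    intro B'' i'' _
    let B := pullback f i''
    have h1 : Mono (pullback.fst f i'') := inferInstance
    have h2 : Epi (pullback.snd f i'') := Abelian.epi_pullback_of_epi_f _ _
    have hB : Orth q B := hX (pullback.fst f i'') h1
    have hK : Orth q (kernel (pullback.snd f i'')) :=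
      hX (kernel.ι (pullback.snd f i'') ≫ pullback.fst f i'') (mono_comp _ _)
    have hcok := orth_cokernel q (kernel.ι (pullback.snd f i'')) hK hB
    let e : cokernel (kernel.ι (pullback.snd f i'')) ≅ B'' :=
      IsColimit.coconePointUniqueUpToIso (colimit.isColimit _)
        (Abelian.epiIsCokernelOfKernel _ (limit.isLimit _))
    exact orth_of_iso q e hcok

instance [Injective E] : (T q).IsClosedUnderExtensions where
  prop_X₂_of_shortExact {S} hS h₁ h₃ := by
    have := hS.mono_f
    have := hS.epi_g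
    intro B i _
    let φ : B ⟶ S.X₃ := i ≫ S.g
    -- B' = kernel φ ↪ X₁
    have hk : (kernel.ι φ ≫ i) ≫ S.g = 0 := by rw [Category.assoc, kernel.condition]
    let j : kernel φ ⟶ S.X₁ := hS.exact.lift _ hk
    have hj : j ≫ S.f = kernel.ι φ ≫ i := hS.exact.lift_f _ hk
    have : Mono j := mono_of_mono_fac hj
    have hB' : Orth q (kernel φ) := h₁ j inferInstance
    have hB'' : Orth q (Abelian.image φ) := h₃ (Abelian.image.ι φ) inferInstance
    -- short exact sequence 0 → kernel φ → B → image φ → 0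
    have hz : kernel.ι φ ≫ Abelian.factorThruImage φ = 0 := by
      rw [← cancel_mono (Abelian.image.ι φ), Category.assoc, Abelian.image.fac, kernel.condition,
        zero_comp]
    have hker : IsLimit (KernelFork.ofι (kernel.ι φ) hz) :=
      KernelFork.IsLimit.ofι' _ hz (fun {A} x hx => ⟨kernel.lift φ x (by
        rw [← Abelian.image.fac φ, ← Category.assoc, hx, zero_comp]), kernel.lift_ι _ _ _⟩)
    have hS' : (ShortComplex.mk (kernel.ι φ) (Abelian.factorThruImage φ) hz).ShortExact :=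
      ShortComplex.ShortExact.mk' (ShortComplex.exact_of_f_is_kernel _ hker)
        inferInstance inferInstance
    exact orth_of_shortExact q hS' hB' hB''

instance [Injective E] : (T q).IsSerreClass where

lemma T_biprod [Injective E] {X₁ X₂ : C} (h₁ : T q X₁) (h₂ : T q X₂) : T q (X₁ ⊞ X₂) :=
  (T q).prop_biprod h₁ h₂
end
section AB5
variable [IsGrothendieckAbelian.{w} C] {X : C} {K : Type w} [SmallCategory K] [IsFiltered K]
  (Y : K ⥤ Subobject X)

/-- the canonical cocone over `Y` with point the supremum -/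
noncomputable def supCocone : Cocone Y where
  pt := ⨆ k, Y.obj k
  ι := { app k := homOfLE (le_iSup (fun k => Y.obj k) k) }

/-- AB5: the supremum of a filtered family of subobjects is its colimit. -/
noncomputable def isColimitSup : IsColimit (Subobject.underlying.mapCocone (supCocone Y)) := by
  let c := (Subobject.representative ⋙ MonoOver.forget X).mapCocone (supCocone Y)
  haveI : Mono c.pt.hom := by
    change Mono (⨆ k, Y.obj k).arrow
    infer_instance
  have h1 : Subobject.mk c.pt.hom = ⨆ k, Subobject.mk ((Y ⋙ Subobject.representative).obj k).obj.hom := by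
    change Subobject.mk (⨆ k, Y.obj k).arrow = _
    rw [Subobject.mk_arrow]
    congr 1
    funext k
    change _ = Subobject.mk (Y.obj k).arrow
    rw [Subobject.mk_arrow]
  exact IsGrothendieckAbelian.isColimitMapCoconeOfSubobjectMkEqISup
    (Y ⋙ Subobject.representative) c h1
end AB5
section Modular
variable [IsGrothendieckAbelian.{w} C] {X : C} {K : Type w} [SmallCategory K] [IsFiltered K]
  (Y : K ⥤ Subobject X) (Bs : Subobject X)

noncomputable def infFunctor : K ⥤ Subobject X := Y ⋙ Subobject.inf.obj Bs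

lemma infFunctor_obj (k : K) : (infFunctor Y Bs).obj k = Bs ⊓ Y.obj k := rfl

noncomputable def infToSelf : infFunctor Y Bs ⟶ Y where
  app k := homOfLE (Subobject.inf_le_right Bs (Y.obj k))

noncomputable def toCoker :
    Y ⋙ Subobject.underlying ⟶ (Functor.const K).obj (cokernel Bs.arrow) where
  app k := (Y.obj k).arrow ≫ cokernel.π Bs.arrow
  naturality k k' φ := by
    dsimp
    rw [Category.comp_id, Subobject.underlying_arrow_assoc]

lemma inf_arrow_comp_cokernel (A : Subobject X) :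
    (Bs ⊓ A).arrow ≫ cokernel.π Bs.arrow = 0 := by
  rw [← Subobject.ofLE_arrow (inf_le_left : Bs ⊓ A ≤ Bs), Category.assoc, cokernel.condition,
    comp_zero]

noncomputable def sc : ShortComplex (K ⥤ C) :=
  ShortComplex.mk (Functor.whiskerRight (infToSelf Y Bs) Subobject.underlying) (toCoker Y Bs) (by
    ext k
    dsimp [toCoker, infToSelf]
    rw [Subobject.underlying_arrow_assoc]
    exact inf_arrow_comp_cokernel Bs (Y.obj k))

lemma sc_f_app (k : K) : (sc Y Bs).f.app k =
    Subobject.ofLE (Bs ⊓ Y.obj k) (Y.obj k) inf_le_right := rfl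

lemma sc_g_app (k : K) : (sc Y Bs).g.app k = (Y.obj k).arrow ≫ cokernel.π Bs.arrow := rfl

/-- pointwise kernel property -/
noncomputable def isLimitPointwise (k : K) :
    IsLimit (KernelFork.ofι (Subobject.ofLE (Bs ⊓ Y.obj k) (Y.obj k) inf_le_right)
      (show _ ≫ ((Y.obj k).arrow ≫ cokernel.π Bs.arrow) = 0 by
        rw [Subobject.ofLE_arrow_assoc]; exact inf_arrow_comp_cokernel Bs (Y.obj k))) :=
  KernelFork.IsLimit.ofι' _ _ (fun {A} x hx => by
    have h1 : Bs.Factors (x ≫ (Y.obj k).arrow) := by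
      rw [Subobject.factors_iff]
      have hx' : (x ≫ (Y.obj k).arrow) ≫ cokernel.π Bs.arrow = 0 := by rw [Category.assoc, hx]
      exact ⟨Abelian.monoLift Bs.arrow (x ≫ (Y.obj k).arrow) hx',
        Abelian.monoLift_comp Bs.arrow (x ≫ (Y.obj k).arrow) hx'⟩
    have h2 : (Y.obj k).Factors (x ≫ (Y.obj k).arrow) := Subobject.factors_comp_arrow x
    have h3 : (Bs ⊓ Y.obj k).Factors (x ≫ (Y.obj k).arrow) :=
      (Subobject.inf_factors _).mpr ⟨h1, h2⟩
    refine ⟨Subobject.factorThru _ _ h3, ?_⟩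
    rw [← cancel_mono (Y.obj k).arrow, Category.assoc, Subobject.ofLE_arrow,
      Subobject.factorThru_arrow])

end Modular
section Modular2
variable [IsGrothendieckAbelian.{w} C] {X : C} {K : Type w} [SmallCategory K] [IsFiltered K]
  (Y : K ⥤ Subobject X) (Bs : Subobject X)

lemma sc_exact : (sc Y Bs).Exact := by
  apply ShortComplex.exact_of_f_is_kernel
  apply evaluationJointlyReflectsLimits
  intro k
  exact (KernelFork.isLimitMapConeEquiv (KernelFork.ofι (sc Y Bs).f (sc Y Bs).zero)
    ((evaluation K C).obj k)).symm (isLimitPointwise Y Bs k)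
end Modular2
section Modular3
variable [IsGrothendieckAbelian.{w} C] {X : C} {K : Type w} [SmallCategory K] [IsFiltered K]
  (Y : K ⥤ Subobject X) (Bs : Subobject X)

attribute [local instance] IsFiltered.isConnected

lemma iSup_inf_le : (⨆ k, (Bs ⊓ Y.obj k)) ≤ ⨆ k, Y.obj k :=
  iSup_mono (fun _ => inf_le_right)

lemma iSup_inf_le' : (⨆ k, (Bs ⊓ Y.obj k)) ≤ Bs :=
  iSup_le (fun _ => inf_le_left)

/-- AB5 modular law: `Bs ⊓ ⨆ Y ≤ ⨆ (Bs ⊓ Y)` for filtered families. -/
lemma inf_iSup_le : Bs ⊓ (⨆ k, Y.obj k) ≤ ⨆ k, (Bs ⊓ Y.obj k) := by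
  let S : Subobject X := ⨆ k, Y.obj k
  let S' : Subobject X := ⨆ k, (Bs ⊓ Y.obj k)
  let f : (S' : C) ⟶ (S : C) := Subobject.ofLE S' S (iSup_inf_le Y Bs)
  let g : (S : C) ⟶ cokernel Bs.arrow := S.arrow ≫ cokernel.π Bs.arrow
  have hfg : f ≫ g = 0 := by
    dsimp only [f, g]
    rw [Subobject.ofLE_arrow_assoc, ← Subobject.ofLE_arrow (iSup_inf_le' Y Bs), Category.assoc,
      cokernel.condition, comp_zero]
  have hex : (ShortComplex.mk f g hfg).Exact :=
    colim.exact_mapShortComplex (S := sc Y Bs) (sc_exact Y Bs)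
    (c₁ := Subobject.underlying.mapCocone (supCocone (infFunctor Y Bs)))
    (isColimitSup (infFunctor Y Bs))
    (c₂ := Subobject.underlying.mapCocone (supCocone Y)) (isColimitSup Y)
    (c₃ := constCocone K (cokernel Bs.arrow)) (isColimitConstCocone K _) f g
    (fun k => by
      change Subobject.ofLE (Bs ⊓ Y.obj k) S' _ ≫ Subobject.ofLE S' S _ =
        Subobject.ofLE (Bs ⊓ Y.obj k) (Y.obj k) _ ≫ Subobject.ofLE (Y.obj k) S _
      apply (cancel_mono S.arrow).mp
      rw [Category.assoc, Category.assoc]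
      erw [Subobject.ofLE_arrow, Subobject.ofLE_arrow, Subobject.ofLE_arrow, Subobject.ofLE_arrow])
    (fun k => by
      change Subobject.ofLE (Y.obj k) S _ ≫ S.arrow ≫ cokernel.π Bs.arrow =
        ((Y.obj k).arrow ≫ cokernel.π Bs.arrow) ≫ 𝟙 _
      rw [Subobject.ofLE_arrow_assoc, Category.comp_id])
  -- now lift
  let x : ((Bs ⊓ S : Subobject X) : C) ⟶ (S : C) := Subobject.ofLE (Bs ⊓ S) S inf_le_right
  have hx : x ≫ g = 0 := by
    dsimp only [x, g]
    rw [Subobject.ofLE_arrow_assoc]
    exact inf_arrow_comp_cokernel Bs S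
  have : Mono (ShortComplex.mk f g hfg).f := by dsimp only [f]; infer_instance
  refine Subobject.le_of_comm (hex.lift x hx) ?_
  have h1 : hex.lift x hx ≫ f = x := hex.lift_f x hx
  calc hex.lift x hx ≫ S'.arrow = hex.lift x hx ≫ f ≫ S.arrow := by
        dsimp only [f]; rw [Subobject.ofLE_arrow]
    _ = x ≫ S.arrow := by rw [← Category.assoc, h1]
    _ = (Bs ⊓ S).arrow := Subobject.ofLE_arrow _
end Modular3
section FiniteProd
variable {E E' : C} (q : E ⟶ E') [Injective E]

instance : (T q).IsClosedUnderBinaryProducts where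
  limitsOfShape_le := by
    rintro X ⟨h⟩
    have h1 : T q (h.diag.obj ⟨WalkingPair.left⟩ ⊞ h.diag.obj ⟨WalkingPair.right⟩) :=
      T_biprod q (h.prop_diag_obj _) (h.prop_diag_obj _)
    let c' : Cone h.diag := Cone.mk X h.π
    have hc' : IsLimit c' := h.isLimit
    let e : h.diag ≅ pair (h.diag.obj ⟨WalkingPair.left⟩) (h.diag.obj ⟨WalkingPair.right⟩) :=
      diagramIsoPair h.diag
    let hb := (BinaryBiproduct.isLimit (h.diag.obj ⟨WalkingPair.left⟩)
      (h.diag.obj ⟨WalkingPair.right⟩))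
    have e2 : X ≅ (h.diag.obj ⟨WalkingPair.left⟩ ⊞ h.diag.obj ⟨WalkingPair.right⟩) :=
      IsLimit.conePointsIsoOfNatIso hc' hb e
    exact (T q).prop_of_iso e2.symm h1

instance : (T q).IsClosedUnderFiniteProducts := ObjectProperty.IsClosedUnderFiniteProducts.mk'

lemma T_biproduct {ι : Type*} [Finite ι] (f : ι → C) [HasBiproduct f] (hf : ∀ i, T q (f i)) :
    T q (⨁ f) :=
  (T q).prop_of_isLimit_fan (biproduct.isLimit f) hf
end FiniteProd
section Coprod
variable [IsGrothendieckAbelian.{w} C] {E E' : C} (q : E ⟶ E') [Injective E]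

attribute [local instance] Abelian.hasFiniteBiproducts

open Classical in
theorem T_coprod (J : Type w) : (T q).IsClosedUnderColimitsOfShape (Discrete J) where
  colimitsOfShape_le := by
    rintro X ⟨h⟩
    intro B i _
    let F := h.diag
    let c : Cocone F := Cocone.mk X h.ι
    have hc : IsColimit c := h.isColimit
    -- finite partial sums
    let A : Finset J → C := fun F₀ => ⨁ (fun j : F₀ => F.obj ⟨j.1⟩)
    have hA : ∀ F₀, T q (A F₀) := fun F₀ => T_biproduct q _ (fun j => h.prop_diag_obj _)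
    let d : ∀ F₀ : Finset J, A F₀ ⟶ X := fun F₀ => biproduct.desc (fun j => c.ι.app ⟨j.1⟩)
    let Ys : Finset J → Subobject X := fun F₀ => imageSubobject (d F₀)
    have hYs : ∀ F₀, T q ((Ys F₀ : Subobject X) : C) := fun F₀ =>
      (T q).prop_of_epi (factorThruImageSubobject (d F₀)) (hA F₀)
    have hmono : Monotone Ys := by
      intro F₀ F₁ h01
      let incl : A F₀ ⟶ A F₁ :=
        biproduct.desc (fun j => biproduct.ι (fun j : F₁ => F.obj ⟨j.1⟩) ⟨j.1, h01 j.2⟩)
      have h1 : incl ≫ d F₁ = d F₀ := by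
        apply biproduct.hom_ext'
        intro j
        simp [incl, d]
      dsimp only [Ys]
      rw [← h1]
      exact imageSubobject_comp_le _ _
    let Yf : Finset J ⥤ Subobject X := hmono.functor
    -- the supremum is everything
    have htop : (⨆ F₀, Yf.obj F₀) = ⊤ := by
      let S : Subobject X := ⨆ F₀, Yf.obj F₀
      have hle : ∀ j : J, Ys {j} ≤ S := fun j => le_iSup (fun F₀ => Yf.obj F₀) {j}
      let a : ∀ j : J, F.obj ⟨j⟩ ⟶ (S : C) := fun j =>
        biproduct.ι (fun j' : ({j} : Finset J) => F.obj ⟨j'.1⟩) ⟨j, Finset.mem_singleton_self j⟩ ≫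
          factorThruImageSubobject (d {j}) ≫ Subobject.ofLE _ _ (hle j)
      have ha : ∀ j, a j ≫ S.arrow = c.ι.app ⟨j⟩ := by
        intro j
        simp [a, d]
      let c' : Cocone F := Cocone.mk (S : C) (Discrete.natTrans (fun ⟨j⟩ => a j))
      have hu : hc.desc c' ≫ S.arrow = 𝟙 X := by
        apply hc.hom_ext
        rintro ⟨j⟩
        rw [← Category.assoc, hc.fac]
        exact (ha j).trans (Category.comp_id _).symm
      have : IsIso S.arrow := by
        have : IsSplitEpi S.arrow := ⟨⟨hc.desc c', hu⟩⟩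
        exact isIso_of_mono_of_isSplitEpi _
      exact Subobject.eq_top_of_isIso_arrow S
    let Bs : Subobject X := Subobject.mk i
    have hBs : (⨆ F₀, (infFunctor Yf Bs).obj F₀) = Bs := by
      apply le_antisymm (iSup_inf_le' Yf Bs)
      calc Bs = Bs ⊓ ⨆ F₀, Yf.obj F₀ := by rw [htop, inf_top_eq]
        _ ≤ _ := inf_iSup_le Yf Bs
    have hcol := isColimitSup (infFunctor Yf Bs)
    have horth : Orth q ((⨆ F₀, (infFunctor Yf Bs).obj F₀ : Subobject X) : C) := by
      refine orth_of_isColimit q hcol (fun F₀ => ?_)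
      have hle : Bs ⊓ Ys F₀ ≤ Ys F₀ := inf_le_right
      exact hYs F₀ (Subobject.ofLE (Bs ⊓ Ys F₀) (Ys F₀) hle)
        (@mono_of_mono_fac _ _ _ _ _ _ _ _ (Subobject.arrow_mono _) (Subobject.ofLE_arrow hle))
    exact orth_of_iso q (Subobject.isoOfEq _ _ hBs ≪≫ Subobject.underlyingIso i) horth
end Coprod
section Main
variable [IsGrothendieckAbelian.{w} C]

lemma isLocalizing_T {E E' : C} (q : E ⟶ E') [Injective E] : GabLoc.IsLocalizing.{w} (T q) :=
  ⟨inferInstance, T_coprod q⟩

lemma le_locClosure (P : ObjectProperty C) : P ≤ GabLoc.locClosure.{w} P :=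
  fun _ hX _ _ hPQ => hPQ _ hX

/-- If `M` is closed for a class `P` closed under subobjects, then it is closed for the
localizing closure of `P`. -/
theorem closed_locClosure (P : ObjectProperty C) [P.IsClosedUnderSubobjects] (M : C)
    (hM : GabLoc.IsClosedFor P M) : GabLoc.IsClosedFor (GabLoc.locClosure.{w} P) M := by
  let ι : M ⟶ Injective.under M := Injective.ι M
  let q := cokernel.π ι
  have hPT : P ≤ T q := fun X hX B i _ =>
    (orth_iff_closed ι B).mpr ⟨fun f => hM.1 (P.prop_of_mono i hX) f,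
      fun N i' p hp hS => hM.2 i' p hp (P.prop_of_mono i hX) hS⟩
  have hloc : GabLoc.locClosure.{w} P ≤ T q := fun X hX => hX (T q) (isLocalizing_T q) hPT
  exact ⟨fun Y hY f => hom_eq_zero_of_orth ι (T_self q (hloc Y hY)) f,
    fun N Y i p hp hY hS => isSplitMono_of_orth ι (T_self q (hloc Y hY)) i p hp hS⟩

theorem main1 (P : ObjectProperty C) [P.IsClosedUnderSubobjects] (M : C) :
    GabLoc.IsClosedFor (GabLoc.locClosure.{w} P) M ↔ GabLoc.IsClosedFor P M := by
  constructor
  · intro h
    exact ⟨fun Y hY f => h.1 (le_locClosure P Y hY) f,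
      fun N Y i p hp hY hS => h.2 i p hp (le_locClosure P Y hY) hS⟩
  · exact closed_locClosure P M

theorem main2 (Q S : ObjectProperty C) (hQ : GabLoc.IsLocalizing.{w} Q)
    (hS : GabLoc.IsLocalizing.{w} S) (M : C) (hMQ : GabLoc.IsClosedFor Q M)
    (hMS : GabLoc.IsClosedFor S M) :
    GabLoc.IsClosedFor (GabLoc.locClosure.{w} (Q ⊔ S)) M := by
  have := hQ.isSerreClass
  have := hS.isSerreClass
  have : (Q ⊔ S).IsClosedUnderSubobjects := ⟨fun {X Y} f _ hY => by
    rcases hY with hY | hY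
    · exact Or.inl (Q.prop_of_mono f hY)
    · exact Or.inr (S.prop_of_mono f hY)⟩
  apply closed_locClosure
  refine ⟨fun Y hY f => ?_, fun N Y i p hp hY hS' => ?_⟩
  · rcases hY with hY | hY
    · exact hMQ.1 hY f
    · exact hMS.1 hY f
  · rcases hY with hY | hY
    · exact hMQ.2 i p hp hY hS'
    · exact hMS.2 i p hp hY hS'
end Main
end Groth.Agent.Lib.Helper26.GabLocClosed
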