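import Mathlib
import Groth.Prelude.Def_W4c5qcohlocdualityLoc
import Groth.Agent.Lib.Helper26.GabLocClosed
set_option maxHeartbeats 400000
set_option linter.unusedSectionVars false
open CategoryTheory Limits ZeroObject

universe w v u
namespace Groth.Agent.Lib.Helper26.GabLocTransfinite
open Groth.Agent.Lib.Helper26.GabLocClosed

variable {C : Type u} [Category.{v} C] [Abelian C]

section Loc
variable [HasCoproducts.{w} C] {Q : ObjectProperty C} (hQ : GabLoc.IsLocalizing.{w} Q)
include hQ

/-- a localizing class is closed under small colimits -/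
lemma loc_of_isColimit {K : Type w} [Category K] {D : K ⥤ C} {c : Cocone D}
    (hc : IsColimit c) (hD : ∀ k, Q (D.obj k)) : Q c.pt := by
  have := hQ.isSerreClass
  have := hQ.isClosedUnderCoproducts K
  have h1 : Q (∐ D.obj) := Q.prop_of_isColimit (colimit.isColimit (Discrete.functor D.obj))
    (fun ⟨k⟩ => hD k)
  have : Epi (Sigma.desc c.ι.app) := ⟨fun g₁ g₂ h => hc.hom_ext (fun k => by
    have := Sigma.ι D.obj k ≫= h
    simpa using this)⟩
  exact Q.prop_of_epi (Sigma.desc c.ι.app) h1

lemma loc_of_subquotCoprod {P : ObjectProperty C} (hPQ : P ≤ Q) {A : C}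
    (hA : GabLoc.subquotCoprod.{w} P A) : Q A := by
  have := hQ.isSerreClass
  obtain ⟨J, X, hX, B, i, p, hi, hp⟩ := hA
  have := hQ.isClosedUnderCoproducts J
  have h1 : Q (∐ X) := Q.prop_of_isColimit (colimit.isColimit (Discrete.functor X))
    (fun ⟨j⟩ => hPQ _ (hX j))
  exact Q.prop_of_epi p (Q.prop_of_mono i h1)
end Loc

section Backward
variable [HasCoproducts.{w} C]

theorem locClosure_of_transfinite (P : ObjectProperty C) (X : C)
    (h : MorphismProperty.transfiniteCompositions.{w} (GabLoc.monoModSubquot.{w} P)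
      (0 : (0 : C) ⟶ X)) : GabLoc.locClosure.{w} P X := by
  intro Q hQ hPQ
  have := hQ.isSerreClass
  rw [MorphismProperty.transfiniteCompositions_iff] at h
  obtain ⟨J, _, _, _, _, ⟨t⟩⟩ := h
  have key : ∀ j : J, Q (t.F.obj j) := by
    intro j
    induction j using SuccOrder.limitRecOn with
    | isMin a ha =>
      have : a = ⊥ := ha.eq_bot
      subst this
      exact Q.prop_of_isZero (IsZero.of_iso (isZero_zero C) t.isoBot)
    | succ a ha ih =>
      have hm := t.map_mem a ha
      obtain ⟨hmono, hcok⟩ := hm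
      have hS : (ShortComplex.mk (t.F.map (homOfLE (Order.le_succ a)))
          (cokernel.π _) (cokernel.condition _)).ShortExact :=
        ShortComplex.ShortExact.mk' (ShortComplex.exact_cokernel _) hmono inferInstance
      exact Q.prop_X₂_of_shortExact hS ih (loc_of_subquotCoprod hQ hPQ hcok)
    | isSuccLimit a ha ih =>
      have hc := t.F.isColimitOfIsWellOrderContinuous a ha
      exact loc_of_isColimit hQ hc (fun ⟨b, hb⟩ => ih b hb)
  exact loc_of_isColimit hQ t.isColimit key
end Backward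
section SubquotCoprod
variable [HasCoproducts.{w} C] (P : ObjectProperty C)

/-- `W` is a subquotient of `X` -/
def SQ (X W : C) : Prop := ∃ (B : C) (i : B ⟶ X) (p : B ⟶ W), Mono i ∧ Epi p

lemma SQ.of_mono {X' X W : C} (f : X' ⟶ X) [Mono f] (h : SQ X' W) : SQ X W := by
  obtain ⟨B, i, p, hi, hp⟩ := h
  exact ⟨B, i ≫ f, p, mono_comp i f, hp⟩

lemma SQ.of_epi {X X'' W : C} (f : X ⟶ X'') [Epi f] (h : SQ X'' W) : SQ X W := by
  obtain ⟨B, i, p, hi, hp⟩ := h
  have : Epi (pullback.snd f i) := Abelian.epi_pullback_of_epi_f _ _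
  exact ⟨pullback f i, pullback.fst f i, pullback.snd f i ≫ p, inferInstance, epi_comp _ _⟩

lemma SQ.sub {X W W' : C} (z : W' ⟶ W) [Mono z] (h : SQ X W) : SQ X W' := by
  obtain ⟨B, i, p, hi, hp⟩ := h
  have : Epi (pullback.snd p z) := Abelian.epi_pullback_of_epi_f _ _
  exact ⟨pullback p z, pullback.fst p z ≫ i, pullback.snd p z, mono_comp _ _, inferInstance⟩

lemma SQ.quot {X W W' : C} (z : W ⟶ W') [Epi z] (h : SQ X W) : SQ X W' := by
  obtain ⟨B, i, p, hi, hp⟩ := h
  exact ⟨B, i, p ≫ z, hi, epi_comp _ _⟩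

lemma SQ.refl (X : C) : SQ X X := ⟨X, 𝟙 X, 𝟙 X, inferInstance, inferInstance⟩

lemma subquotCoprod_of_SQ {X W : C} (hX : P X) (h : SQ X W) : GabLoc.subquotCoprod.{w} P W := by
  obtain ⟨B, i, p, hi, hp⟩ := h
  refine ⟨PUnit.{w+1}, fun _ => X, fun _ => hX, B, i ≫ Sigma.ι (fun _ : PUnit.{w+1} => X) ⟨⟩,
    p, ?_, hp⟩
  have : Mono (Sigma.ι (fun _ : PUnit.{w+1} => X) ⟨⟩) := by
    exact mono_of_mono_fac (show Sigma.ι (fun _ : PUnit.{w+1} => X) ⟨⟩ ≫
      Sigma.desc (fun _ => 𝟙 X) = 𝟙 X by simp)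
  exact mono_comp _ _

lemma subquotCoprod_sub {W W' : C} (z : W' ⟶ W) [Mono z] (h : GabLoc.subquotCoprod.{w} P W) :
    GabLoc.subquotCoprod.{w} P W' := by
  obtain ⟨J, X, hX, B, i, p, hi, hp⟩ := h
  have : Epi (pullback.snd p z) := Abelian.epi_pullback_of_epi_f _ _
  exact ⟨J, X, hX, pullback p z, pullback.fst p z ≫ i, pullback.snd p z, mono_comp _ _,
    inferInstance⟩

lemma subquotCoprod_quot {W W' : C} (z : W ⟶ W') [Epi z] (h : GabLoc.subquotCoprod.{w} P W) :
    GabLoc.subquotCoprod.{w} P W' := by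
  obtain ⟨J, X, hX, B, i, p, hi, hp⟩ := h
  exact ⟨J, X, hX, B, i, p ≫ z, hi, epi_comp _ _⟩

lemma subquotCoprod_of_isZero {W : C} (hW : IsZero W) : GabLoc.subquotCoprod.{w} P W := by
  refine ⟨PEmpty.{w+1}, fun e => e.elim, fun e => e.elim, 0, 0, 0, ?_, ?_⟩
  · exact ⟨fun g₁ g₂ _ => (isZero_zero C).eq_of_tgt _ _⟩
  · exact ⟨fun g₁ g₂ _ => hW.eq_of_src _ _⟩

/-- the class of objects all of whose nonzero subquotients contain a nonzero subobject
in `subquotCoprod P` -/
def QQ : ObjectProperty C := fun X =>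
  ∀ ⦃W : C⦄, SQ X W → ¬ IsZero W →
    ∃ (Z : C) (z : Z ⟶ W), Mono z ∧ ¬ IsZero Z ∧ GabLoc.subquotCoprod.{w} P Z

lemma le_QQ : P ≤ QQ.{w} P := by
  intro X hX W hW hW0
  exact ⟨W, 𝟙 W, inferInstance, hW0, subquotCoprod_of_SQ P hX hW⟩

instance : (QQ.{w} P).IsClosedUnderSubobjects where
  prop_of_mono f _ hY := fun _ hW hW0 => hY (hW.of_mono f) hW0

instance : (QQ.{w} P).IsClosedUnderQuotients where
  prop_of_epi f _ hX := fun _ hW hW0 => hX (hW.of_epi f) hW0

instance : (QQ.{w} P).ContainsZero where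
  exists_zero := ⟨0, isZero_zero C, fun W hW hW0 => by
    exfalso
    obtain ⟨B, i, p, hi, hp⟩ := hW
    have hB : IsZero B := IsZero.of_mono i (isZero_zero C)
    exact hW0 (IsZero.of_epi p hB)⟩

end SubquotCoprod
section QQext
variable [HasCoproducts.{w} C] (P : ObjectProperty C)

instance : (QQ.{w} P).IsClosedUnderExtensions where
  prop_X₂_of_shortExact {S} hS h₁ h₃ := by
    have := hS.mono_f
    have := hS.epi_g
    intro W hW hW0
    obtain ⟨B, i, p, hi, hp⟩ := hW
    let φ : B ⟶ S.X₃ := i ≫ S.g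
    have hk : (kernel.ι φ ≫ i) ≫ S.g = 0 := by rw [Category.assoc, kernel.condition]
    let j : kernel φ ⟶ S.X₁ := hS.exact.lift _ hk
    have hj : j ≫ S.f = kernel.ι φ ≫ i := hS.exact.lift_f _ hk
    have : Mono j := mono_of_mono_fac hj
    by_cases h0 : kernel.ι φ ≫ p = 0
    · -- W is a subquotient of X₃
      let p'' : Abelian.coimage φ ⟶ W := cokernel.desc (kernel.ι φ) p h0
      have hp'' : Abelian.coimage.π φ ≫ p'' = p := cokernel.π_desc _ _ _
      have : Epi p'' := epi_of_epi_fac hp''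
      exact h₃ ⟨Abelian.coimage φ, Abelian.factorThruCoimage φ, p'', inferInstance, this⟩ hW0
    · -- the image of kernel φ in W is nonzero
      let ψ := kernel.ι φ ≫ p
      have hW' : ¬ IsZero (Abelian.image ψ) := by
        intro hz
        apply h0
        change ψ = 0
        rw [← Abelian.image.fac ψ, hz.eq_of_tgt (Abelian.factorThruImage ψ) 0, zero_comp]
      obtain ⟨Z, z, hz, hZ0, hZ⟩ := h₁ ⟨kernel φ, j, Abelian.factorThruImage ψ, inferInstance,
        inferInstance⟩ hW'
      exact ⟨Z, z ≫ Abelian.image.ι ψ, mono_comp _ _, hZ0, hZ⟩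

instance : (QQ.{w} P).IsSerreClass where

end QQext
section SerreFinite
variable (R : ObjectProperty C) [R.IsSerreClass]

lemma serre_binaryProducts : R.IsClosedUnderBinaryProducts where
  limitsOfShape_le := by
    rintro X ⟨h⟩
    have h1 : R (h.diag.obj ⟨WalkingPair.left⟩ ⊞ h.diag.obj ⟨WalkingPair.right⟩) :=
      R.prop_biprod (h.prop_diag_obj _) (h.prop_diag_obj _)
    let c' : Cone h.diag := Cone.mk X h.π
    have hc' : IsLimit c' := h.isLimit
    let e : h.diag ≅ pair (h.diag.obj ⟨WalkingPair.left⟩) (h.diag.obj ⟨WalkingPair.right⟩) :=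
      diagramIsoPair h.diag
    let hb := (BinaryBiproduct.isLimit (h.diag.obj ⟨WalkingPair.left⟩)
      (h.diag.obj ⟨WalkingPair.right⟩))
    have e2 : X ≅ (h.diag.obj ⟨WalkingPair.left⟩ ⊞ h.diag.obj ⟨WalkingPair.right⟩) :=
      IsLimit.conePointsIsoOfNatIso hc' hb e
    exact R.prop_of_iso e2.symm h1

lemma serre_finiteProducts : R.IsClosedUnderFiniteProducts := by
  have := serre_binaryProducts R
  exact ObjectProperty.IsClosedUnderFiniteProducts.mk'

lemma serre_biproduct {ι : Type*} [Finite ι] (f : ι → C) [HasBiproduct f]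
    (hf : ∀ i, R (f i)) : R (⨁ f) := by
  have := serre_finiteProducts R
  exact R.prop_of_isLimit_fan (biproduct.isLimit f) hf
end SerreFinite

section GenLem
variable [IsGrothendieckAbelian.{w} C] (R : ObjectProperty C) [R.IsSerreClass]

attribute [local instance] Abelian.hasFiniteBiproducts

open Classical in
/-- a coproduct is the filtered union of images of finite partial coproducts -/
theorem exists_finset_filtration {J : Type w} {F : Discrete J ⥤ C} {c : Cocone F}
    (hc : IsColimit c) (hF : ∀ j, R (F.obj j)) :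
    ∃ (Yf : Finset J ⥤ Subobject c.pt),
      (∀ F₀, R ((Yf.obj F₀ : Subobject c.pt) : C)) ∧ (⨆ F₀, Yf.obj F₀) = ⊤ := by
  let X := c.pt
  let A : Finset J → C := fun F₀ => ⨁ (fun j : F₀ => F.obj ⟨j.1⟩)
  have hA : ∀ F₀, R (A F₀) := fun F₀ => serre_biproduct R _ (fun j => hF _)
  let d : ∀ F₀ : Finset J, A F₀ ⟶ X := fun F₀ => biproduct.desc (fun j => c.ι.app ⟨j.1⟩)
  let Ys : Finset J → Subobject X := fun F₀ => imageSubobject (d F₀)
  have hYs : ∀ F₀, R ((Ys F₀ : Subobject X) : C) := fun F₀ =>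
    R.prop_of_epi (factorThruImageSubobject (d F₀)) (hA F₀)
  have hmono : Monotone Ys := by
    intro F₀ F₁ h01
    let incl : A F₀ ⟶ A F₁ :=
      biproduct.desc (fun j => biproduct.ι (fun j : F₁ => F.obj ⟨j.1⟩) ⟨j.1, h01 j.2⟩)
    have h1 : incl ≫ d F₁ = d F₀ := by
      apply biproduct.hom_ext'
      intro j
      simp [incl, d]
    dsimp only [Ys]
    rw [← h1]
    exact imageSubobject_comp_le _ _
  refine ⟨hmono.functor, hYs, ?_⟩
  let S : Subobject X := ⨆ F₀, hmono.functor.obj F₀
  have hle : ∀ j : J, Ys {j} ≤ S := fun j => le_iSup (fun F₀ => hmono.functor.obj F₀) {j}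
  let a : ∀ j : J, F.obj ⟨j⟩ ⟶ (S : C) := fun j =>
    biproduct.ι (fun j' : ({j} : Finset J) => F.obj ⟨j'.1⟩) ⟨j, Finset.mem_singleton_self j⟩ ≫
      factorThruImageSubobject (d {j}) ≫ Subobject.ofLE _ _ (hle j)
  have ha : ∀ j, a j ≫ S.arrow = c.ι.app ⟨j⟩ := by
    intro j
    simp [a, d]
  let c' : Cocone F := Cocone.mk (S : C) (Discrete.natTrans (fun ⟨j⟩ => a j))
  have hu : hc.desc c' ≫ S.arrow = 𝟙 X := by
    apply hc.hom_ext
    rintro ⟨j⟩
    rw [← Category.assoc, hc.fac]
    exact (ha j).trans (Category.comp_id _).symm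
  have : IsIso S.arrow := by
    have : IsSplitEpi S.arrow := ⟨⟨hc.desc c', hu⟩⟩
    exact isIso_of_mono_of_isSplitEpi _
  exact Subobject.eq_top_of_isIso_arrow S

/-- consequently any subobject is the filtered union of its intersections -/
theorem eq_iSup_inf {J : Type w} {X : C} (Yf : Finset J ⥤ Subobject X) (htop : (⨆ F₀, Yf.obj F₀) = ⊤)
    (Bs : Subobject X) : Bs = ⨆ F₀, (Bs ⊓ Yf.obj F₀) := by
  classical
  apply le_antisymm _ (iSup_inf_le' Yf Bs)
  calc Bs = Bs ⊓ ⨆ F₀, Yf.obj F₀ := by rw [htop, inf_top_eq]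
    _ ≤ _ := inf_iSup_le Yf Bs
end GenLem
section QQcoprod
variable [IsGrothendieckAbelian.{w} C] (P : ObjectProperty C)

theorem QQ_coprod (J : Type w) : (QQ.{w} P).IsClosedUnderColimitsOfShape (Discrete J) where
  colimitsOfShape_le := by
    rintro X ⟨h⟩
    intro W hW hW0
    obtain ⟨B, i, p, hi, hp⟩ := hW
    let c : Cocone h.diag := Cocone.mk X h.ι
    have hc : IsColimit c := h.isColimit
    obtain ⟨Yf, hYf, htop⟩ := exists_finset_filtration (QQ.{w} P) hc h.prop_diag_obj
    change Finset J ⥤ Subobject X at Yf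
    let Bs : Subobject X := Subobject.mk i
    have hBs := eq_iSup_inf Yf htop Bs
    let Ks : Subobject X := Subobject.mk (kernel.ι p ≫ i)
    have hex : ∃ F₀, ¬ (Bs ⊓ Yf.obj F₀ ≤ Ks) := by
      by_contra hcon
      push Not at hcon
      have h1 : Bs ≤ Ks := by
        rw [hBs]
        exact iSup_le hcon
      let t : B ⟶ kernel p := Subobject.ofMkLEMk i (kernel.ι p ≫ i) h1
      have ht : t ≫ kernel.ι p ≫ i = i := Subobject.ofMkLEMk_comp h1
      have ht' : t ≫ kernel.ι p = 𝟙 B := by
        rw [← cancel_mono i, Category.assoc, ht, Category.id_comp]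
      have hp0 : p = 0 := by
        rw [← Category.id_comp p, ← ht', Category.assoc, kernel.condition, comp_zero]
      apply hW0
      have : Epi (0 : B ⟶ W) := hp0 ▸ hp
      exact IsZero.of_epi_eq_zero (0 : B ⟶ W) rfl
    obtain ⟨F₀, hF₀⟩ := hex
    have hle : Bs ⊓ Yf.obj F₀ ≤ Subobject.mk i := inf_le_left
    let b₀ : ((Bs ⊓ Yf.obj F₀ : Subobject X) : C) ⟶ B := Subobject.ofLEMk _ i hle
    have hb₀ : b₀ ≫ i = (Bs ⊓ Yf.obj F₀).arrow := Subobject.ofLEMk_comp hle
    let ψ := b₀ ≫ p
    have hψ : ψ ≠ 0 := by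
      intro h0
      apply hF₀
      refine Subobject.le_mk_of_comm (kernel.lift p b₀ h0) ?_
      rw [← Category.assoc, kernel.lift_ι, hb₀]
    have hW' : ¬ IsZero (Abelian.image ψ) := by
      intro hz
      apply hψ
      rw [← Abelian.image.fac ψ, hz.eq_of_tgt (Abelian.factorThruImage ψ) 0, zero_comp]
    have hle' : Bs ⊓ Yf.obj F₀ ≤ Yf.obj F₀ := inf_le_right
    obtain ⟨Z, z, hz, hZ0, hZ⟩ := hYf F₀ ⟨_, Subobject.ofLE _ _ hle', Abelian.factorThruImage ψ,
      @mono_of_mono_fac _ _ _ _ _ _ _ _ (Subobject.arrow_mono _) (Subobject.ofLE_arrow hle'),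
      inferInstance⟩ hW'
    exact ⟨Z, z ≫ Abelian.image.ι ψ, mono_comp _ _, hZ0, hZ⟩

lemma isLocalizing_QQ : GabLoc.IsLocalizing.{w} (QQ.{w} P) := ⟨inferInstance, QQ_coprod P⟩

lemma locClosure_le_QQ : GabLoc.locClosure.{w} P ≤ QQ.{w} P :=
  fun X hX => hX _ (isLocalizing_QQ P) (le_QQ P)
end QQcoprod
section Larger
variable [HasCoproducts.{w} C] (P : ObjectProperty C)

instance : (GabLoc.monoModSubquot.{w} P).RespectsIso := by
  apply MorphismProperty.RespectsIso.mk
  · intro X Y Z e f ⟨hf, hc⟩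
    refine ⟨mono_comp _ _, ?_⟩
    exact subquotCoprod_quot P (cokernelEpiComp e.hom f).inv hc
  · intro X Y Z e f ⟨hf, hc⟩
    refine ⟨mono_comp _ _, ?_⟩
    exact subquotCoprod_quot P (cokernelCompIsIso f e.hom).inv hc

variable {X : C} (hX : QQ.{w} P X)
include hX

lemma exists_larger (A : Subobject X) (hA : A ≠ ⊤) :
    ∃ (A' : Subobject X) (h : A < A'),
      GabLoc.monoModSubquot.{w} P (Subobject.ofLE A A' h.le) := by
  let π := cokernel.π A.arrow
  have hW0 : ¬ IsZero (cokernel A.arrow) := by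
    intro hz
    apply hA
    have : Epi A.arrow := Preadditive.epi_of_isZero_cokernel _ hz
    have : IsIso A.arrow := isIso_of_mono_of_epi _
    exact Subobject.eq_top_of_isIso_arrow A
  obtain ⟨Z, z, hz, hZ0, hZ⟩ := hX ⟨X, 𝟙 X, π, inferInstance, inferInstance⟩ hW0
  let fst : pullback π z ⟶ X := pullback.fst π z
  let snd : pullback π z ⟶ Z := pullback.snd π z
  have hsq : fst ≫ π = snd ≫ z := pullback.condition
  have : Epi snd := Abelian.epi_pullback_of_epi_f _ _
  have : Mono fst := inferInstance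
  let a : (A : C) ⟶ pullback π z := pullback.lift A.arrow 0 (by simp [π])
  have ha1 : a ≫ fst = A.arrow := pullback.lift_fst _ _ _
  have ha2 : a ≫ snd = 0 := pullback.lift_snd _ _ _
  have : Mono a := mono_of_mono_fac ha1
  let A' : Subobject X := Subobject.mk fst
  have hle : A ≤ A' := Subobject.le_mk_of_comm a ha1
  have hne : ¬ A' ≤ A := by
    intro hcon
    let t : pullback π z ⟶ (A : C) := Subobject.ofMkLE fst A hcon
    have ht : t ≫ A.arrow = fst := Subobject.ofMkLE_arrow hcon
    have h1 : snd ≫ z = 0 := by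
      rw [← hsq, ← ht, Category.assoc, cokernel.condition, comp_zero]
    have h2 : snd = 0 := by rw [← cancel_mono z, h1, zero_comp]
    apply hZ0
    have : Epi (0 : pullback π z ⟶ Z) := h2 ▸ ‹Epi snd›
    exact IsZero.of_epi_eq_zero (0 : pullback π z ⟶ Z) rfl
  have hlt : A < A' := lt_of_le_not_ge hle hne
  refine ⟨A', hlt, inferInstance, ?_⟩
  -- cokernel of A → A' is Z
  have hker : IsLimit (KernelFork.ofι a ha2) :=
    KernelFork.IsLimit.ofι' a ha2 (fun {T} x hx => by
      have hx' : (x ≫ fst) ≫ cokernel.π A.arrow = 0 := by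
        rw [Category.assoc]
        change x ≫ fst ≫ π = 0
        rw [hsq, ← Category.assoc, hx, zero_comp]
      refine ⟨Abelian.monoLift A.arrow (x ≫ fst) hx', ?_⟩
      apply pullback.hom_ext
      · rw [Category.assoc]
        erw [ha1]
        exact Abelian.monoLift_comp A.arrow (x ≫ fst) hx'
      · rw [Category.assoc]
        erw [ha2]
        rw [comp_zero]
        exact hx.symm)
  have hS : (ShortComplex.mk a snd ha2).ShortExact :=
    ShortComplex.ShortExact.mk' (ShortComplex.exact_of_f_is_kernel _ hker) ‹_› ‹_›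
  let e1 : cokernel a ≅ Z :=
    IsColimit.coconePointUniqueUpToIso (colimit.isColimit _) hS.gIsCokernel
  have hZ' : GabLoc.subquotCoprod.{w} P (cokernel a) := subquotCoprod_quot P e1.inv hZ
  let e := Subobject.underlyingIso fst
  have hcomm : Subobject.ofLE A A' hlt.le ≫ e.hom = a := by
    rw [← cancel_mono fst, Category.assoc, Subobject.underlyingIso_hom_comp_eq_mk,
      Subobject.ofLE_arrow, ha1]
  have harr : Arrow.mk (Subobject.ofLE A A' hlt.le) ≅ Arrow.mk a :=
    Arrow.isoMk (Iso.refl _) e (by simp [hcomm])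
  exact ((GabLoc.monoModSubquot.{w} P).arrow_mk_iso_iff harr).2 ⟨‹Mono a›, hZ'⟩ |>.2
end Larger
section Transfinite
variable [IsGrothendieckAbelian.{w} C] (P : ObjectProperty C) {X : C} (hX : QQ.{w} P X)

open scoped Classical in
/-- a strictly larger subobject with quotient in `subquotCoprod P` (or `⊤`) -/
noncomputable def larger (A : Subobject X) : Subobject X :=
  if hA : A = ⊤ then ⊤ else (exists_larger P hX A hA).choose

lemma larger_top : larger P hX (⊤ : Subobject X) = ⊤ := dif_pos rfl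

lemma lt_larger (A : Subobject X) (hA : A ≠ ⊤) : A < larger P hX A := by
  dsimp only [larger]
  rw [dif_neg hA]
  exact (exists_larger P hX A hA).choose_spec.choose

lemma le_larger (A : Subobject X) : A ≤ larger P hX A := by
  by_cases hA : A = ⊤
  · subst hA
    simp only [larger_top, le_refl]
  · exact (lt_larger P hX A hA).le

lemma mem_ofLE_larger (A : Subobject X) :
    GabLoc.monoModSubquot.{w} P (Subobject.ofLE _ _ (le_larger P hX A)) := by
  by_cases hA : A = ⊤
  · subst hA
    have : IsIso (Subobject.ofLE _ _ (le_larger P hX (⊤ : Subobject X))) :=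
      (Subobject.isoOfEq _ _ (larger_top P hX).symm).isIso_hom
    exact ⟨inferInstance, subquotCoprod_of_isZero P (isZero_cokernel_of_epi _)⟩
  · refine ((GabLoc.monoModSubquot.{w} P).arrow_mk_iso_iff ?_).1
      (exists_larger P hX A hA).choose_spec.choose_spec
    exact Arrow.isoMk (Iso.refl _)
      (Subobject.isoOfEq _ _ ((by simp [larger, dif_neg hA])))

lemma top_mem_range (A₀ : Subobject X) {J : Type w} [LinearOrder J] [OrderBot J] [SuccOrder J]
    [WellFoundedLT J] (hJ : HasCardinalLT (Subobject X) (Cardinal.mk J)) :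
    ∃ (j : J), transfiniteIterate (larger P hX) j A₀ = ⊤ :=
  top_mem_range_transfiniteIterate (larger P hX) A₀ (lt_larger P hX) (by simp [larger_top])
    (fun h ↦ by simpa [hasCardinalLT_iff_cardinal_mk_lt] using hJ.of_injective _ h)

lemma exists_ordinal (A₀ : Subobject X) :
    ∃ (o : Ordinal.{w}) (j : o.ToType), transfiniteIterate (larger P hX) j A₀ = ⊤ := by
  let κ := Order.succ (Cardinal.mk (Shrink.{w} (Subobject X)))
  have : Nonempty κ.ord.ToType := by simp [κ]
  have := WellFoundedLT.toOrderBot κ.ord.ToType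
  exact ⟨κ.ord, top_mem_range P hX A₀ (lt_of_lt_of_le (Order.lt_succ _) (by simp [κ]))⟩

section
variable (A₀ : Subobject X) (J : Type w) [LinearOrder J] [OrderBot J] [SuccOrder J]
  [WellFoundedLT J]

@[simps]
noncomputable def functorToMonoOver : J ⥤ MonoOver X where
  obj j := MonoOver.mk (transfiniteIterate (larger P hX) j A₀).arrow
  map {j j'} f := MonoOver.homMk (Subobject.ofLE _ _
      (monotone_transfiniteIterate _ _ (le_larger P hX) (leOfHom f)))

noncomputable abbrev functor : J ⥤ C :=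
  functorToMonoOver P hX A₀ J ⋙ MonoOver.forget _ ⋙ Over.forget _

set_option backward.defeqAttrib.useBackward true in
instance : (functor P hX A₀ J).IsWellOrderContinuous where
  nonempty_isColimit m hm := ⟨by
    have := hm.nonempty_Iio.to_subtype
    let c := (Set.principalSegIio m).cocone (functorToMonoOver P hX A₀ J ⋙ MonoOver.forget _)
    have : Mono c.pt.hom := by dsimp [c]; infer_instance
    apply IsGrothendieckAbelian.isColimitMapCoconeOfSubobjectMkEqISup
      ((Set.principalSegIio m).monotone.functor ⋙ functorToMonoOver P hX A₀ J) c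
    dsimp [c]
    simp only [Subobject.mk_arrow]
    exact transfiniteIterate_limit (larger P hX) A₀ m hm⟩

set_option backward.isDefEq.respectTransparency.types false in
set_option backward.defeqAttrib.useBackward true in
variable {J} in
noncomputable def transfiniteCompositionOfShapeMapFromBot (j : J) :
    (GabLoc.monoModSubquot.{w} P).TransfiniteCompositionOfShape (Set.Iic j)
    ((functor P hX A₀ J).map (homOfLE bot_le : ⊥ ⟶ j)) where
  F := (Set.initialSegIic j).monotone.functor ⋙ functor P hX A₀ J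
  isoBot := Iso.refl _
  incl :=
    { app k := (functor P hX A₀ J).map (homOfLE k.2)
      naturality k k' h := by simp [MonoOver.forget] }
  isColimit := colimitOfDiagramTerminal isTerminalTop _
  map_mem k hk := by
    dsimp [MonoOver.forget]
    convert!
      mem_ofLE_larger P hX (transfiniteIterate (larger P hX) k.1 A₀) using 2
    all_goals
      rw [Set.Iic.succ_eq_of_not_isMax hk,
        transfiniteIterate_succ _ _ _ (Set.not_isMax_coe _ hk)]
end
end Transfinite
section Final
variable [IsGrothendieckAbelian.{w} C] (P : ObjectProperty C)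

set_option backward.defeqAttrib.useBackward true in
set_option backward.isDefEq.respectTransparency false in
theorem transfinite_of_QQ {X : C} (hX : QQ.{w} P X) :
    MorphismProperty.transfiniteCompositions.{w} (GabLoc.monoModSubquot.{w} P)
      (0 : (0 : C) ⟶ X) := by
  obtain ⟨o, j, hj⟩ := exists_ordinal P hX (⊥ : Subobject X)
  have : Nonempty o.ToType := ⟨j⟩
  have : OrderBot o.ToType := WellFoundedLT.toOrderBot _
  let t := transfiniteIterate (larger P hX) j (⊥ : Subobject X)
  have : IsIso t.arrow := (Subobject.isIso_arrow_iff_eq_top t).2 hj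
  let e0 : (functor P hX (⊥ : Subobject X) o.ToType).obj ⊥ ≅ (0 : C) :=
    Subobject.isoOfEq _ _ (transfiniteIterate_bot _ _) ≪≫ Subobject.botCoeIsoZero
  have hz : IsZero ((functor P hX (⊥ : Subobject X) o.ToType).obj ⊥) :=
    IsZero.of_iso (isZero_zero C) e0
  have h := (transfiniteCompositionOfShapeMapFromBot P hX (⊥ : Subobject X) j).ofArrowIso
    (f' := (0 : (0 : C) ⟶ X))
    (Arrow.isoMk e0 (asIso t.arrow) (hz.eq_of_src _ _))
  rw [MorphismProperty.transfiniteCompositions_iff]
  exact ⟨Set.Iic j, _, _, _, _, ⟨h⟩⟩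

theorem main (X : C) :
    GabLoc.locClosure.{w} P X ↔
      MorphismProperty.transfiniteCompositions.{w} (GabLoc.monoModSubquot.{w} P)
        (0 : (0 : C) ⟶ X) :=
  ⟨fun h => transfinite_of_QQ P (locClosure_le_QQ P X h), locClosure_of_transfinite P X⟩
end Final
end Groth.Agent.Lib.Helper26.GabLocTransfinite
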