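import Mathlib
import Groth.Agent.Lib.Helper8.BaerFam
import Groth.Agent.Lib.Helper8.SheafModGroth
import Groth.Agent.Lib.Helper1.ModSiteFree
import Groth.Agent.Lib.Helper1.ExtZeroExact
import Groth.Agent.Lib.Helper1.RestrExact
import Groth.Agent.Lib.Helper6.QuotExact
import Groth.Agent.Lib.Helper6.SubtermUnit

set_option autoImplicit false
set_option maxHeartbeats 400000
set_option linter.style.haveILetI false
set_option linter.unusedSectionVars false
set_option linter.unusedVariables false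

universe u

namespace Groth.Agent.Lib.Helper26.BaerMod

open CategoryTheory CategoryTheory.Limits Opposite MorphismProperty
open Groth.Agent.Lib.Helper1 Groth.Agent.Lib.Helper6 Groth.Agent.Lib.Helper8

variable {C : Type u} [SmallCategory C] {J : GrothendieckTopology C}
  (O : Sheaf J CommRingCat.{u}) (𝓑 : Set C)

instance : IsGrothendieckAbelian.{u} (ModSite.Mod O) := SheafModGroth.main _ _

/-- inclusions of subobjects of the modules `j_{V!} O_V`, `V ∈ 𝓑` -/
def W : MorphismProperty (ModSite.Mod O) :=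
  MorphismProperty.ofHoms (fun (p : Σ V : 𝓑, Subobject (ModSite.freeOn O V.1)) ↦ p.2.arrow)

lemma W_mk (V : C) (hV : V ∈ 𝓑) (S : Subobject (ModSite.freeOn O V)) : W O 𝓑 S.arrow :=
  MorphismProperty.ofHoms.mk
    (f := fun (p : Σ V : 𝓑, Subobject (ModSite.freeOn O V.1)) ↦ p.2.arrow) ⟨⟨V, hV⟩, S⟩

/-- every object has a covering sieve all of whose arrows have source in `𝓑` -/
def Covers : Prop := ∀ U : C, ∃ S ∈ J U, ∀ ⦃W : C⦄ (a : W ⟶ U), S a → W ∈ 𝓑

variable {O 𝓑}

lemma homEquiv_zero (V : C) (M : ModSite.Mod O) :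
    ModSiteFree.homEquiv O V M 0 = 0 := by
  have h := ModSiteFree.homEquiv_comp O V (0 : ModSite.freeOn O V ⟶ M) (0 : M ⟶ M)
  rw [comp_zero] at h
  rw [h]
  rfl

lemma eq_zero_of_forall (hcov : Covers (J := J) 𝓑) {B Q : ModSite.Mod O} (g : B ⟶ Q)
    (h : ∀ V ∈ 𝓑, ∀ f : ModSite.freeOn O V ⟶ B, f ≫ g = 0) : g = 0 := by
  apply SheafOfModules.hom_ext
  apply PresheafOfModules.hom_ext
  intro U
  ext b
  obtain ⟨S, hS, hSB⟩ := hcov U.unop
  refine QuotExact.sep O Q S hS _ (fun W a ha => ?_)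
  have hW := hSB a ha
  have h1 := PresheafOfModules.naturality_apply g.val a.op b
  erw [← h1]
  set b' := B.val.map a.op b with hb'
  have h2 := h W hW ((ModSiteFree.homEquiv O W B).symm b')
  have h3 := ModSiteFree.homEquiv_comp O W ((ModSiteFree.homEquiv O W B).symm b') g
  rw [h2, homEquiv_zero, Equiv.apply_symm_apply] at h3
  exact h3.symm

lemma epi_of_factor (hcov : Covers (J := J) 𝓑) {A B : ModSite.Mod O} (p : A ⟶ B)
    (h : ∀ V ∈ 𝓑, ∀ f : ModSite.freeOn O V ⟶ B, ∃ a : ModSite.freeOn O V ⟶ A, a ≫ p = f) :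
    Epi p := by
  apply Abelian.epi_of_cokernel_π_eq_zero
  apply eq_zero_of_forall hcov
  intro V hV f
  obtain ⟨a, rfl⟩ := h V hV f
  rw [Category.assoc, cokernel.condition, comp_zero]

lemma enlarges (hne : 𝓑.Nonempty) (hcov : Covers (J := J) 𝓑) : BaerFam.Enlarges (W O 𝓑) where
  iso_le := by
    apply MorphismProperty.isomorphisms_le_pushouts
    intro Y
    obtain ⟨V₀, hV₀⟩ := hne
    exact ⟨_, _, _, W_mk O 𝓑 V₀ hV₀ ⊤, 0, inferInstance⟩
  exists_pushouts {A B} p _ hp := by
    have : ∃ (V : C) (_ : V ∈ 𝓑) (f : ModSite.freeOn O V ⟶ B),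
        ∀ a : ModSite.freeOn O V ⟶ A, a ≫ p ≠ f := by
      by_contra hcon
      push Not at hcon
      haveI := epi_of_factor hcov p (fun V hV f => hcon V hV f)
      exact hp (isIso_of_mono_of_epi p)
    obtain ⟨V, hV, f, hf⟩ := this
    refine ⟨pushout (pullback.fst p f) (pullback.snd p f), pushout.inl _ _,
      pushout.desc p f pullback.condition,
      ⟨_, _, _, (Subobject.underlyingIso _).hom ≫ pullback.fst _ _,
      pushout.inr _ _, W_mk O 𝓑 V hV (Subobject.mk (pullback.snd p f)),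
      (IsPushout.of_hasPushout (pullback.fst p f) (pullback.snd p f)).of_iso
        ((Subobject.underlyingIso _).symm) (Iso.refl _) (Iso.refl _)
        (Iso.refl _) (by simp) (by simp) (by simp) (by simp)⟩, ?_, ?_, ?_⟩
    · intro h
      rw [isIso_iff_yoneda_map_bijective] at h
      obtain ⟨a, ha⟩ := (h (ModSite.freeOn O V)).2 (pushout.inr _ _)
      have h1 := ha =≫ pushout.desc p f pullback.condition
      dsimp at h1
      rw [Category.assoc, pushout.inl_desc, pushout.inr_desc] at h1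
      exact hf a h1
    · exact (IsPushout.of_hasPushout _ _).mono_of_isPullback_of_mono
        (IsPullback.of_hasPullback p f) _ (pushout.inl_desc _ _ _) (pushout.inr_desc _ _ _)
    · exact pushout.inl_desc _ _ _

/-- **Baer's criterion** for sheaves of modules on a site, with generators `j_{V!}O_V`, `V ∈ 𝓑`. -/
theorem injective_of_baer (hcov : Covers (J := J) 𝓑) (F : ModSite.Mod O)
    (h : ∀ V ∈ 𝓑, ∀ (S : ModSite.Mod O) (i : S ⟶ ModSite.freeOn O V) [Mono i] (φ : S ⟶ F),
      ∃ ψ : ModSite.freeOn O V ⟶ F, i ≫ ψ = φ) :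
    Injective F := by
  by_cases hne : 𝓑.Nonempty
  · rw [injective_iff_rlp_monomorphisms_zero]
    apply BaerFam.rlp_le.{u} (enlarges hne hcov)
    rintro _ _ _ ⟨⟨⟨V, hV⟩, S⟩⟩
    constructor
    intro φ b sq
    obtain ⟨ψ, hψ⟩ := h V hV _ S.arrow φ
    exact ⟨⟨{ l := ψ, fac_left := hψ, fac_right := (isZero_zero _).eq_of_tgt _ _ }⟩⟩
  · have hall : ∀ {B Q : ModSite.Mod O} (g : B ⟶ Q), g = 0 := by
      intro B Q g
      apply eq_zero_of_forall hcov
      intro V hV
      exact (hne ⟨V, hV⟩).elim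
    constructor
    intro A B g f _
    exact ⟨0, by rw [hall g, comp_zero]⟩

end Groth.Agent.Lib.Helper26.BaerMod
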