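import Mathlib
import Groth.Agent.Lib.Helper26.BaerMod

set_option autoImplicit false
set_option maxHeartbeats 400000
set_option linter.style.haveILetI false
set_option linter.unusedSectionVars false
set_option linter.unusedVariables false

universe u

namespace Groth.Agent.Lib.Helper26.BaerLoc

open CategoryTheory CategoryTheory.Limits Opposite
open Groth.Agent.Lib.Helper1 Groth.Agent.Lib.Helper6 Groth.Agent.Lib.Helper8
open Groth.Agent.Lib.Helper26

variable {C : Type u} [SmallCategory C] {J : GrothendieckTopology C}
  (O : Sheaf J CommRingCat.{u}) (V : C)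

/-- `(M / j_!j^*M)|_V = 0` -/
lemma isZero_restr_cokernel_counit (M : ModSite.Mod O) :
    IsZero ((ModSite.restr O V).obj (cokernel ((ModSite.extZeroAdj O V).counit.app M))) := by
  let adj := ModSite.extZeroAdj O V
  have hsplit : adj.unit.app ((ModSite.restr O V).obj M) ≫
      (ModSite.restr O V).map (adj.counit.app M) = 𝟙 _ := adj.right_triangle_components M
  have : Epi ((ModSite.restr O V).map (adj.counit.app M)) := by
    have : IsSplitEpi ((ModSite.restr O V).map (adj.counit.app M)) := ⟨⟨⟨_, hsplit⟩⟩⟩
    infer_instance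
  exact (isZero_cokernel_of_epi ((ModSite.restr O V).map (adj.counit.app M))).of_iso
    (PreservesCokernel.iso (ModSite.restr O V) (adj.counit.app M))

/-- the counit is an epimorphism on modules satisfying (LC) -/
lemma epi_counit_of_LC {T : ModSite.Mod O} (hT : QuotExact.LC O V T) :
    Epi ((ModSite.extZeroAdj O V).counit.app T) := by
  apply Abelian.epi_of_cokernel_π_eq_zero
  exact QuotExact.isTors_of_LC hT _ (isZero_restr_cokernel_counit O V T) _

variable (hV : ∀ X : C, Subsingleton (X ⟶ V))

include hV in
/-- for `V` subterminal the unit `N ⟶ (j_!N)|_V` is an isomorphism -/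
lemma isIso_unit (N : ModSite.Mod (O.over V)) :
    IsIso ((ModSite.extZeroAdj O V).unit.app N) := by
  let adj := ModSite.extZeroAdj O V
  haveI : Mono (adj.counit.app ((ModSite.extZero O V).obj N)) :=
    SubtermUnit.mono_extZeroAdj_counit_app O V hV _
  have htri : (ModSite.extZero O V).map (adj.unit.app N) ≫
      adj.counit.app ((ModSite.extZero O V).obj N) = 𝟙 _ := adj.left_triangle_components N
  haveI : IsSplitEpi (adj.counit.app ((ModSite.extZero O V).obj N)) := ⟨⟨⟨_, htri⟩⟩⟩
  haveI : IsIso (adj.counit.app ((ModSite.extZero O V).obj N)) := isIso_of_mono_of_epi _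
  haveI : IsIso ((ModSite.extZero O V).map (adj.unit.app N)) := by
    have : (ModSite.extZero O V).map (adj.unit.app N) =
        inv (adj.counit.app ((ModSite.extZero O V).obj N)) := by
      rw [← cancel_mono (adj.counit.app ((ModSite.extZero O V).obj N)), htri, IsIso.inv_hom_id]
    rw [this]
    infer_instance
  haveI : (ModSite.extZero O V).Faithful := ExtZeroExact.faithful_extZero O V
  haveI : Mono (adj.unit.app N) := (ModSite.extZero O V).mono_of_mono_map inferInstance
  haveI : Epi (adj.unit.app N) := (ModSite.extZero O V).epi_of_epi_map inferInstance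
  exact isIso_of_mono_of_epi _

include hV in
/-- extension of a morphism from a submodule of `j_{V!}O_V` into a module whose restriction to
`V` is injective -/
theorem exists_extension (F : ModSite.Mod O) (hF : Injective ((ModSite.restr O V).obj F))
    {S : ModSite.Mod O} (i : S ⟶ ModSite.freeOn O V) [Mono i] (φ : S ⟶ F) :
    ∃ ψ : ModSite.freeOn O V ⟶ F, i ≫ ψ = φ := by
  let adj := ModSite.extZeroAdj O V
  let N : ModSite.Mod (O.over V) := SheafOfModules.unit _
  haveI : Mono ((ModSite.restr O V).map i) := inferInstance
  let ψ' : (ModSite.restr O V).obj (ModSite.freeOn O V) ⟶ (ModSite.restr O V).obj F :=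
    Injective.factorThru ((ModSite.restr O V).map φ) ((ModSite.restr O V).map i)
  have hψ' : (ModSite.restr O V).map i ≫ ψ' = (ModSite.restr O V).map φ :=
    Injective.comp_factorThru _ _
  let ψ : ModSite.freeOn O V ⟶ F := (adj.homEquiv N F).symm (adj.unit.app N ≫ ψ')
  refine ⟨ψ, ?_⟩
  -- `ψ|_V = ψ'`
  have h1 : adj.unit.app N ≫ (ModSite.restr O V).map ψ = adj.unit.app N ≫ ψ' := by
    have := (adj.homEquiv N F).apply_symm_apply (adj.unit.app N ≫ ψ')
    rw [Adjunction.homEquiv_unit] at this
    exact this
  haveI := isIso_unit O V hV N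
  have h2 : (ModSite.restr O V).map ψ = ψ' := (cancel_epi (adj.unit.app N)).1 h1
  -- the counit at `S` is an epimorphism
  haveI : Epi (adj.counit.app S) :=
    epi_counit_of_LC O V (QuotExact.LC_of_mono i (QuotExact.LC_extZero N))
  rw [← cancel_epi (adj.counit.app S)]
  have n1 := adj.counit.naturality (i ≫ ψ)
  have n2 := adj.counit.naturality φ
  simp only [Functor.comp_obj, Functor.id_obj, Functor.comp_map, Functor.id_map] at n1 n2
  rw [← n1, ← n2, Functor.map_comp, h2, hψ']

end Groth.Agent.Lib.Helper26.BaerLoc
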