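import Groth.Prelude.Def_CxOX
import Groth.Agent.Lib.Helper1.ExtZeroExact

/-!
# Helper26: exactness of the scheme-level extension by zero `CxOX.extZero V.ι`

Transported from helper1's site-level `ModSite.extZero` exactness along the prelude's
`CxOX.extZeroIsoSite`.  Consequence: restriction to an open subscheme preserves injectives.
-/

set_option autoImplicit false
set_option linter.style.haveILetI false
universe u
open CategoryTheory AlgebraicGeometry CategoryTheory.Limits

namespace Groth.Agent.Lib.Helper26.ExtZeroSch

/-- `j_!` along the inclusion of an open subscheme is exact. -/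
instance preservesFiniteLimits_extZero {X : Scheme.{u}} (V : X.Opens) :
    PreservesFiniteLimits (CxOX.extZero V.ι) := by
  have h1 : PreservesFiniteLimits (ModSite.extZero X.sheaf V) :=
    Groth.Agent.Lib.Helper1.ExtZeroExact.preservesFiniteLimits_extZero X.sheaf V
  haveI : (Scheme.Modules.overEquiv V).inverse.IsEquivalence := inferInstance
  have h2 : PreservesFiniteLimits (Scheme.Modules.overEquiv V).inverse := inferInstance
  have h3 : PreservesFiniteLimits
      ((Scheme.Modules.overEquiv V).inverse ⋙ ModSite.extZero X.sheaf V) :=
    @comp_preservesFiniteLimits _ _ _ _ _ _ _ _ h2 h1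
  exact @preservesFiniteLimits_of_natIso _ _ _ _ _ _ (CxOX.extZeroIsoSite V).symm h3

instance preservesMonomorphisms_extZero {X : Scheme.{u}} (V : X.Opens) :
    (CxOX.extZero V.ι).PreservesMonomorphisms := inferInstance

/-- Restriction to an open subscheme preserves injective objects. -/
theorem injective_restrict {X : Scheme.{u}} (U : X.Opens) (I : X.Modules) (hI : Injective I) :
    Injective (I.restrict U.ι) :=
  Injective.injective_of_adjoint (CxOX.extZeroAdj U.ι) I

end Groth.Agent.Lib.Helper26.ExtZeroSch
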