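import Mathlib
import Groth.Agent.Lib.Helper26.BaerLoc
import Groth.Agent.Lib.Helper26.ExtZeroSch

set_option autoImplicit false
set_option maxHeartbeats 400000
set_option linter.style.haveILetI false
set_option linter.unusedSectionVars false
set_option linter.unusedVariables false

universe u

namespace Groth.Agent.Lib.Helper26.LocInj

open CategoryTheory CategoryTheory.Limits Opposite AlgebraicGeometry TopologicalSpace
open Groth.Agent.Lib.Helper26

/-- site-level: a module whose restrictions to a covering family of subterminal objects are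
injective is injective -/
theorem injective_of_forall_restr {C : Type u} [SmallCategory C] {J : GrothendieckTopology C}
    (O : Sheaf J CommRingCat.{u}) (𝓑 : Set C) (hcov : BaerMod.Covers (J := J) 𝓑)
    (hsub : ∀ V ∈ 𝓑, ∀ X : C, Subsingleton (X ⟶ V)) (F : ModSite.Mod O)
    (hF : ∀ V ∈ 𝓑, Injective ((ModSite.restr O V).obj F)) : Injective F :=
  BaerMod.injective_of_baer hcov F
    (fun V hV S i _ φ => BaerLoc.exists_extension O V (hsub V hV) F (hF V hV) i φ)

/-- restriction along an isomorphism of schemes, as an equivalence of categories of modules -/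
noncomputable def restrictEquiv {U V : Scheme.{u}} (e : U ≅ V) : V.Modules ≌ U.Modules :=
  CategoryTheory.Equivalence.mk (Scheme.Modules.restrictFunctor e.hom)
    (Scheme.Modules.restrictFunctor e.inv)
    ((Scheme.Modules.restrictFunctorId).symm ≪≫
      (Scheme.Modules.restrictFunctorCongr (e.inv_hom_id).symm) ≪≫
      Scheme.Modules.restrictFunctorComp e.inv e.hom)
    ((Scheme.Modules.restrictFunctorComp e.hom e.inv).symm ≪≫
      (Scheme.Modules.restrictFunctorCongr (e.hom_inv_id)) ≪≫
      Scheme.Modules.restrictFunctorId)

/-- restriction along any open immersion preserves injectives -/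
theorem injective_restrictFunctor {U X : Scheme.{u}} (j : U ⟶ X) [IsOpenImmersion j]
    (I : X.Modules) (hI : Injective I) : Injective ((Scheme.Modules.restrictFunctor j).obj I) := by
  let V : X.Opens := j.opensRange
  let e : U ≅ (V : Scheme.{u}) := j.isoOpensRange
  have hj : j = e.hom ≫ V.ι := (Scheme.Hom.isoOpensRange_hom_ι j).symm
  have h1 : Injective ((Scheme.Modules.restrictFunctor V.ι).obj I) :=
    ExtZeroSch.injective_restrict V I hI
  have h2 : Injective ((Scheme.Modules.restrictFunctor e.hom).obj
      ((Scheme.Modules.restrictFunctor V.ι).obj I)) :=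
    ((restrictEquiv e).map_injective_iff _).2 h1
  exact Injective.of_iso (((Scheme.Modules.restrictFunctorCongr hj) ≪≫
    Scheme.Modules.restrictFunctorComp e.hom V.ι).app I).symm h2

/-- bridge between the site-level restriction and the scheme-level one -/
theorem injective_restr_iff {X : Scheme.{u}} (V : X.Opens) (F : X.Modules) :
    Injective ((ModSite.restr X.sheaf V).obj F) ↔
      Injective ((Scheme.Modules.restrictFunctor V.ι).obj F) := by
  have e := (Scheme.Modules.overFunctorEquiv V).app F
  constructor
  · intro h
    exact Injective.of_iso e (((Scheme.Modules.overEquiv V).map_injective_iff _).2 h)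
  · intro h
    exact ((Scheme.Modules.overEquiv V).map_injective_iff _).1 (Injective.of_iso e.symm h)

/-- injectivity passes to smaller opens -/
theorem injective_restrict_of_le {X : Scheme.{u}} {W V : X.Opens} (h : W ≤ V) (F : X.Modules)
    (hF : Injective ((Scheme.Modules.restrictFunctor V.ι).obj F)) :
    Injective ((Scheme.Modules.restrictFunctor W.ι).obj F) := by
  have hι : W.ι = X.homOfLE h ≫ V.ι := (X.homOfLE_ι h).symm
  have h2 := injective_restrictFunctor (X.homOfLE h) _ hF
  exact Injective.of_iso (((Scheme.Modules.restrictFunctorCongr hι) ≪≫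
    Scheme.Modules.restrictFunctorComp (X.homOfLE h) V.ι).app F).symm h2

/-- **S11156**: a locally injective `O_X`-module is injective. -/
theorem main {X : Scheme.{u}} (F : X.Modules)
    (hF : ∀ x : X, ∃ U : X.Opens, x ∈ U ∧ Injective ((Scheme.Modules.restrictFunctor U.ι).obj F)) :
    Injective F := by
  let 𝓑 : Set X.Opens := {W | Injective ((Scheme.Modules.restrictFunctor W.ι).obj F)}
  have hdown : ∀ {W V : X.Opens}, W ≤ V → V ∈ 𝓑 → W ∈ 𝓑 :=
    fun h hV => injective_restrict_of_le h F hV
  refine injective_of_forall_restr X.sheaf 𝓑 ?_ ?_ F ?_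
  · intro U
    refine ⟨⟨fun W _ => W ∈ 𝓑, ?_⟩, ?_, ?_⟩
    · intro Y Z f hY g
      exact hdown (leOfHom g) hY
    · intro x hx
      obtain ⟨Ux, hxU, hinj⟩ := hF x
      refine ⟨U ⊓ Ux, homOfLE inf_le_left, ?_, ⟨hx, hxU⟩⟩
      exact hdown inf_le_right hinj
    · intro W a ha
      exact ha
  · intro V _ Y
    infer_instance
  · intro V hV
    exact (injective_restr_iff V F).2 hV

end Groth.Agent.Lib.Helper26.LocInj
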