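import Mathlib
import Groth.Agent.Lib.Helper26.LC17

set_option maxHeartbeats 400000
set_option linter.style.haveILetI false
set_option linter.unusedSectionVars false
set_option linter.unusedVariables false

universe u

open CategoryTheory CategoryTheory.Limits AlgebraicGeometry Opposite ZeroObject TopologicalSpace

namespace Groth.Agent.Lib.Helper26.LC18

open Groth.Agent.Lib.Helper26 Groth.Agent.Lib.Helper26.LC1 Groth.Agent.Lib.Helper26.LC5
  Groth.Agent.Lib.Helper26.LC7 Groth.Agent.Lib.Helper26.LC8 Groth.Agent.Lib.Helper26.MVMod4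
  Groth.Agent.Lib.Helper26.LC16 Groth.Agent.Lib.Helper26.LC17

attribute [local instance] HasDerivedCategory.standard

variable {X S : Scheme.{u}}

/-- a module which is locally zero is zero -/
lemma isZero_of_locally (N : S.Modules)
    (h : ∀ x : S, ∃ V : S.Opens, x ∈ V ∧
      IsZero ((Scheme.Modules.restrictFunctor V.ι).obj N)) : IsZero N := by
  apply Groth.Agent.Lib.Helper28.QCohLoc.isZero_of_sections_zero
  intro U s
  choose V hxV hV using h
  refine Groth.Agent.Lib.Helper28.QCohLoc.eq_of_locally_eq N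
    (fun x : U => (V x.1).ι ''ᵁ ((V x.1).ι ⁻¹ᵁ U)) U (fun x => ?_) ?_ s 0 (fun x => ?_)
  · rintro _ ⟨y, hy, rfl⟩
    exact hy
  · intro y hy
    refine Opens.mem_iSup.2 ⟨⟨y, hy⟩, ⟨⟨y, hxV y⟩, hy, rfl⟩⟩
  · rw [Groth.Agent.Lib.Helper28.QCohLoc.res_zero]
    exact Groth.Agent.Lib.Helper28.QCohLoc.sections_zero_of_isZero
      ((Scheme.Modules.restrictFunctor (V x.1).ι).obj N) (hV x.1) ((V x.1).ι ⁻¹ᵁ U) _

/-! ### cohomology of direct images along affine morphisms, in all degrees -/

/-- `H^m(g_* K) ≅ g_* H^m(K)` for `g` affine, `K` K-injective with quasi-coherent cohomology -/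
noncomputable def pushHomologyIso' (g : X ⟶ S) [IsAffineHom g] (K : CochainComplex X.Modules ℤ)
    [K.IsKInjective] (hK : DCoh.IsQCohD (DerivedCategory.Q.obj K)) (m : ℤ) :
    (((Scheme.Modules.pushforward g).mapHomologicalComplex (ComplexShape.up ℤ)).obj K).homology m ≅
      (Scheme.Modules.pushforward g).obj (K.homology m) :=
  have hKm : DCoh.IsQCohD (DerivedCategory.Q.obj (K⟦m⟧)) :=
    LC11.isQCohD_of_iso (((DerivedCategory.Q (C := X.Modules)).commShiftIso m).app K).symm
      (LC11.isQCohD_shift _ hK m)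
  (((HomologicalComplex.homologyFunctor S.Modules (ComplexShape.up ℤ) 0).shiftIso m 0 m
      (by simp)).app _).symm ≪≫
    (HomologicalComplex.homologyFunctor _ _ 0).mapIso
      (((Scheme.Modules.pushforward g).mapCochainComplexShiftIso m).app K).symm ≪≫
    pushHomologyIso g (K⟦m⟧) hKm ≪≫
    (Scheme.Modules.pushforward g).mapIso
      (((HomologicalComplex.homologyFunctor X.Modules (ComplexShape.up ℤ) 0).shiftIso m 0 m
        (by simp)).app K)

/-! ### uniform vanishing: the induction over quasi-compact opens -/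

section Van

open Groth.Agent.Lib.Helper2.RpushQC2 Groth.Agent.Lib.Helper2.RpushQC3
  Groth.Agent.Lib.Helper2.RpushQC4 Groth.Agent.Lib.Helper2.RpushQC5

/-- admissible complexes: K-injective, flasque terms, quasi-coherent cohomology, vanishing
cohomology in positive degrees -/
structure Adm (I : CochainComplex X.Modules ℤ) : Prop where
  kinj : I.IsKInjective
  flasque : ∀ n, TopCat.Sheaf.IsFlasque (Coh.toAb (I.X n))
  qcoh : DCoh.IsQCohD (DerivedCategory.Q.obj I)
  le : ∀ m : ℤ, 0 < m → IsZero (I.homology m)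

lemma Adm.restrict {I : CochainComplex X.Modules ℤ} (hI : Adm I) (W : X.Opens) :
    Adm ((DCoh.restrictCx W).obj I) where
  kinj := by
    haveI := hI.kinj
    infer_instance
  flasque n := isFlasque_restrict _ (I.X n) (hI.flasque n)
  qcoh := isQCohD_restrict I hI.qcoh W
  le m hm := IsZero.of_iso ((Scheme.Modules.restrictFunctor W.ι).map_isZero (hI.le m hm))
    (Groth.Agent.Lib.Helper26.SuppD2.homologyMapIso (Scheme.Modules.restrictFunctor W.ι) I m)

variable (f : X ⟶ S)

/-- uniform vanishing of the cohomology of `(f|_W)_*(I|_W)` -/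
def PV (W : X.Opens) : Prop :=
  ∃ N : ℤ, ∀ I : CochainComplex X.Modules ℤ, Adm I → ∀ m : ℤ, N ≤ m →
    IsZero ((((Φ f W).mapHomologicalComplex (ComplexShape.up ℤ)).obj I).homology m)

lemma PV_sup (U V : X.Opens) (hU : PV f U) (hV : PV f V) (hUV : PV f (U ⊓ V)) :
    PV f (U ⊔ V) := by
  obtain ⟨N₁, h₁⟩ := hU
  obtain ⟨N₂, h₂⟩ := hV
  obtain ⟨N₃, h₃⟩ := hUV
  refine ⟨max (max N₁ N₂) (N₃ + 1), fun I hI m hm => ?_⟩
  have hm₁ : N₁ ≤ m := le_trans (le_trans (le_max_left _ _) (le_max_left _ _)) hm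
  have hm₂ : N₂ ≤ m := le_trans (le_trans (le_max_right _ _) (le_max_left _ _)) hm
  have hm₃ : N₃ ≤ m - 1 := by
    have := le_trans (le_max_right (max N₁ N₂) (N₃ + 1)) hm
    omega
  let α₁ := ρ f (le_sup_left : U ≤ U ⊔ V)
  let α₂ := ρ f (le_sup_right : V ≤ U ⊔ V)
  let β₁ := ρ f (inf_le_left : U ⊓ V ≤ U)
  let β₂ := ρ f (inf_le_right : U ⊓ V ≤ V)
  have comm : α₁ ≫ β₁ = α₂ ≫ β₂ := by
    simp only [α₁, α₂, β₁, β₂, ρ_comp]
  have hS := mvSC_shortExact α₁ α₂ β₁ β₂ comm I (fun n => isPullback_ρ f U V (I.X n))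
    (fun n => epi_ρ f _ (I.X n) (hI.flasque n))
  have hB : IsZero ((mvSC α₁ α₂ β₁ β₂ comm I).X₂.homology m) :=
    ((splitSC_shortExact (Φ f U) (Φ f V) I).homology_exact₂ m).isZero_of_both_zeros
      ((h₁ I hI m hm₁).eq_of_src _ _) ((h₂ I hI m hm₂).eq_of_tgt _ _)
  have hij : (ComplexShape.up ℤ).Rel (m - 1) m := by simp
  exact (hS.homology_exact₁ (m - 1) m hij).isZero_of_both_zeros
    ((h₃ I hI (m - 1) hm₃).eq_of_src _ _) (hB.eq_of_tgt _ _)

lemma PV_of_affine [IsAffine S] (W : X.Opens) (hW : IsAffineOpen W) : PV f W := by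
  haveI : IsAffine (W : Scheme.{u}) := hW
  refine ⟨1, fun I hI m hm => ?_⟩
  have hI' := hI.restrict W
  haveI := hI'.kinj
  have h0 : IsZero (((DCoh.restrictCx W).obj I).homology m) := hI'.le m (by omega)
  exact IsZero.of_iso ((Scheme.Modules.pushforward (W.ι ≫ f)).map_isZero h0)
    (pushHomologyIso' (W.ι ≫ f) ((DCoh.restrictCx W).obj I) hI'.qcoh m)

theorem exists_bound_of_isAffine [IsAffine S] [QuasiCompact f] [QuasiSeparated f] :
    ∃ N : ℤ, ∀ I : CochainComplex X.Modules ℤ, Adm I → ∀ m : ℤ, N ≤ m →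
      IsZero ((((Scheme.Modules.pushforward f).mapHomologicalComplex
        (ComplexShape.up ℤ)).obj I).homology m) := by
  haveI : CompactSpace X := QuasiCompact.compactSpace_of_compactSpace f
  haveI : QuasiSeparatedSpace X := quasiSeparatedSpace_of_quasiSeparated f
  have hP : PV f ⊤ := by
    refine Groth.Agent.S0015.result X (PV f) ?_ ?_ ⊤ isCompact_univ
    · intro U hU
      exact PV_of_affine f U hU
    · intro U V _ _ hPU hPV hPUV
      exact PV_sup f U V hPU hPV hPUV
  obtain ⟨N, hN⟩ := hP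
  refine ⟨N, fun I hI m hm => ?_⟩
  exact IsZero.of_iso (hN I hI m hm) ((HomologicalComplex.homologyFunctor _ _ m).mapIso
    ((NatIso.mapHomologicalComplex (ΦtopIso f) (ComplexShape.up ℤ)).app I))

theorem exists_bound [CompactSpace S] [QuasiCompact f] [QuasiSeparated f] :
    ∃ N : ℤ, ∀ I : CochainComplex X.Modules ℤ, Adm I → ∀ m : ℤ, N ≤ m →
      IsZero ((((Scheme.Modules.pushforward f).mapHomologicalComplex
        (ComplexShape.up ℤ)).obj I).homology m) := by
  obtain ⟨t, ht⟩ : ∃ t : Finset S.affineOpens, ∀ x : S, ∃ V ∈ t, x ∈ V.1 := by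
    obtain ⟨t, ht⟩ := isCompact_univ.elim_finite_subcover
      (fun V : S.affineOpens => ((V.1 : S.Opens) : Set S)) (fun V => V.1.isOpen) (by
        intro x _
        have hx : x ∈ (⨆ V : S.affineOpens, (V.1 : S.Opens)) := by
          rw [iSup_affineOpens_eq_top]; trivial
        obtain ⟨V, hV⟩ := Opens.mem_iSup.1 hx
        exact Set.mem_iUnion.2 ⟨V, hV⟩)
    refine ⟨t, fun x => ?_⟩
    have hx := ht (Set.mem_univ x)
    simp only [Set.mem_iUnion] at hx
    obtain ⟨V, hV, hxV⟩ := hx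
    exact ⟨V, hV, hxV⟩
  have hb : ∀ V : S.affineOpens, ∃ N : ℤ,
      ∀ I' : CochainComplex ((f ⁻¹ᵁ V.1 : X.Opens) : Scheme.{u}).Modules ℤ, Adm I' →
      ∀ m : ℤ, N ≤ m →
      IsZero ((((Scheme.Modules.pushforward (f ∣_ V.1)).mapHomologicalComplex
        (ComplexShape.up ℤ)).obj I').homology m) := fun V => by
    haveI : IsAffine (V.1 : Scheme.{u}) := V.2
    exact exists_bound_of_isAffine (f ∣_ V.1)
  choose N hN using hb
  obtain ⟨M, hM⟩ := (t.image N).exists_le
  refine ⟨M, fun I hI m hm => ?_⟩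
  apply isZero_of_locally
  intro x
  obtain ⟨V, hV, hxV⟩ := ht x
  refine ⟨V.1, hxV, ?_⟩
  have hNV : N V ≤ m := le_trans (hM _ (Finset.mem_image_of_mem N hV)) hm
  have h1 := hN V _ (hI.restrict (f ⁻¹ᵁ V.1)) m hNV
  exact IsZero.of_iso h1
    ((Groth.Agent.Lib.Helper26.SuppD2.homologyMapIso (Scheme.Modules.restrictFunctor V.1.ι)
      _ m).symm ≪≫ (HomologicalComplex.homologyFunctor _ _ m).mapIso
      (Groth.Agent.Lib.Helper26.RGPushC.restrictPushIso f V.1 I))

end Van

/-- **uniform vanishing bound for `Rf_*` on `D_QCoh`** -/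
theorem main (f : X ⟶ S) [QuasiCompact f] [QuasiSeparated f] [CompactSpace S]
    [DCoh.HasRpush f] :
    ∃ N : ℤ, ∀ (E : DCoh.D X), DCoh.IsQCohD E → E.IsLE 0 → ∀ m : ℤ, N ≤ m →
      IsZero (DCoh.HD ((DCoh.Rpush f).obj E) m) := by
  obtain ⟨N, hN⟩ := exists_bound f
  refine ⟨N, fun E hE hLE m hm => ?_⟩
  obtain ⟨I, hI1, hI2, ⟨e⟩⟩ := exists_kinj E
  haveI := hI1
  have hadm : Adm I :=
    { kinj := hI1
      flasque := fun n => by
        haveI := hI2 n
        exact Groth.Agent.Lib.Helper2.PushEdge3.isFlasque_of_injective (I.X n)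
      qcoh := LC11.isQCohD_of_iso e.symm hE
      le := fun k hk => by
        have h1 : IsZero ((DerivedCategory.homologyFunctor X.Modules k).obj E) :=
          DerivedCategory.isZero_of_isLE E 0 k hk
        exact IsZero.of_iso h1 (((DerivedCategory.homologyFunctorFactors X.Modules k).app I).symm
          ≪≫ (DerivedCategory.homologyFunctor X.Modules k).mapIso e) }
  have h1 := hN I hadm m hm
  exact IsZero.of_iso h1
    ((DerivedCategory.homologyFunctor S.Modules m).mapIso
      ((DCoh.Rpush f).mapIso e.symm ≪≫ (unitIso (Scheme.Modules.pushforward f) I).symm) ≪≫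
      (DerivedCategory.homologyFunctorFactors S.Modules m).app _)

end Groth.Agent.Lib.Helper26.LC18
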