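import Groth.Agent.Lib.Helper26.CoalgDual

/-!
# Local finiteness for coalgebras; existence of simple subcomodules (helper26)
-/

open TensorProduct

universe u v w w'

namespace Groth.Agent.Lib.Helper26.Comod

open HopfRep

section Fin

variable {k : Type u} [Field k] {A : Type v} [AddCommGroup A] [Module k A] [Coalgebra k A]

/-- `φ ↦ U φ a`. -/
noncomputable def Ulin (a : A) : (A →ₗ[k] k) →ₗ[k] A where
  toFun φ := U φ a
  map_add' φ ψ := by
    apply eq_of_forall_dual_apply_eq (k := k)
    intro χ
    rw [map_add, apply_U, apply_U, apply_U, LinearMap.add_apply]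
  map_smul' c φ := by
    apply eq_of_forall_dual_apply_eq (k := k)
    intro χ
    rw [RingHom.id_apply, map_smul, apply_U, apply_U, LinearMap.smul_apply]

@[simp] theorem Ulin_apply (a : A) (φ : A →ₗ[k] k) : Ulin a φ = U φ a := rfl

theorem finite_range_Ulin (a : A) : Module.Finite k (LinearMap.range (Ulin (k := k) a)) := by
  classical
  obtain ⟨s, hs⟩ := TensorProduct.exists_finset (Coalgebra.comul (R := k) a)
  have hle : LinearMap.range (Ulin (k := k) a) ≤
      Submodule.span k ((s.image fun p : A × A => p.2 : Finset A) : Set A) := by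
    rintro _ ⟨φ, rfl⟩
    rw [Ulin_apply, U_apply, hs, map_sum]
    apply Submodule.sum_mem
    intro p hp
    rw [lslice_tmul]
    apply Submodule.smul_mem
    apply Submodule.subset_span
    exact Finset.mem_coe.mpr (Finset.mem_image_of_mem _ hp)
  have : Module.Finite k (Submodule.span k ((s.image fun p : A × A => p.2 : Finset A) : Set A)) :=
    Module.Finite.span_finset k _
  exact Submodule.finiteDimensional_of_le hle

/-- The subcoalgebra generated by `c`. -/
noncomputable def cogen (k : Type u) [Field k] {A : Type v} [AddCommGroup A] [Module k A]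
    [Coalgebra k A] (c : A) : Submodule k A :=
  Submodule.span k (Set.range fun p : (A →ₗ[k] k) × (A →ₗ[k] k) => U p.1 (T (V := A) p.2 c))

theorem mem_cogen (c : A) : c ∈ cogen k c := by
  apply Submodule.subset_span
  refine ⟨(Coalgebra.counit, Coalgebra.counit), ?_⟩
  change U _ (T (V := A) _ c) = c
  rw [T_counit, U_counit]

theorem isSubcoalg_cogen (c : A) : IsSubcoalg (cogen k c) := by
  rw [isSubcoalg_iff]
  constructor
  · intro ψ' b hb
    have : cogen k c ≤ (cogen k c).comap (T (V := A) ψ') := by
      apply Submodule.span_le.mpr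
      rintro _ ⟨⟨φ, ψ⟩, rfl⟩
      change T (V := A) ψ' (U φ (T (V := A) ψ c)) ∈ cogen k c
      rw [← U_T, T_T]
      exact Submodule.subset_span ⟨(φ, conv ψ' ψ), rfl⟩
    exact this hb
  · intro φ' b hb
    have : cogen k c ≤ (cogen k c).comap (U φ') := by
      apply Submodule.span_le.mpr
      rintro _ ⟨⟨φ, ψ⟩, rfl⟩
      change U φ' (U φ (T (V := A) ψ c)) ∈ cogen k c
      rw [U_U]
      exact Submodule.subset_span ⟨(conv φ φ', ψ), rfl⟩
    exact this hb

theorem cogen_le {c : A} {B : Submodule k A} (hB : IsSubcoalg B) (hc : c ∈ B) :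
    cogen k c ≤ B := by
  rw [isSubcoalg_iff] at hB
  apply Submodule.span_le.mpr
  rintro _ ⟨⟨φ, ψ⟩, rfl⟩
  exact hB.2 φ _ (hB.1 ψ c hc)

theorem finite_cogen (c : A) : Module.Finite k (cogen k c) := by
  classical
  obtain ⟨s, hs⟩ := TensorProduct.exists_finset (Coalgebra.comul (R := k) c)
  have hle : cogen k c ≤ s.sup fun p : A × A => LinearMap.range (Ulin (k := k) p.1) := by
    apply Submodule.span_le.mpr
    rintro _ ⟨⟨φ, ψ⟩, rfl⟩
    change U φ (T (V := A) ψ c) ∈ _
    rw [T_regular_apply, hs, map_sum, map_sum]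
    apply Submodule.sum_mem
    intro p hp
    rw [slice_tmul, map_smul]
    apply Submodule.smul_mem
    exact (Finset.le_sup (f := fun p : A × A => LinearMap.range (Ulin (k := k) p.1)) hp) ⟨φ, rfl⟩
  haveI : ∀ p : A × A, Module.Finite k (LinearMap.range (Ulin (k := k) p.1)) :=
    fun p => finite_range_Ulin p.1
  exact Submodule.finiteDimensional_of_le hle

/-- The fundamental theorem of coalgebras. -/
theorem exists_finite_subcoalg_mem (c : A) :
    ∃ B : Submodule k A, IsSubcoalg B ∧ Module.Finite k B ∧ c ∈ B :=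
  ⟨cogen k c, isSubcoalg_cogen c, finite_cogen c, mem_cogen c⟩

end Fin

end Groth.Agent.Lib.Helper26.Comod
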