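import Groth.Agent.Lib.Helper26.ComodReynolds
import Mathlib.RingTheory.HopfAlgebra.Convolution

/-!
# `S² = id` for commutative Hopf algebras and right-invariant integrals (helper26)
-/

open TensorProduct

universe u v w

namespace Groth.Agent.Lib.Helper26.Comod

open HopfRep

section Anti

open Algebra Coalgebra Bialgebra HopfAlgebra WithConv
open scoped RingTheory.LinearMap

variable {k A : Type*} [CommRing k] [CommRing A] [HopfAlgebra k A]

theorem antipode_antipode (a : A) : antipode k (antipode k a) = a := by
  have h1 : toConv (antipode k (A := A)) * toConv (antipode k ∘ₗ antipode k) = 1 := by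
    ext c
    rw [(ℛ k c).convMul_apply]
    simp only [LinearMap.comp_apply, ← antipode_mul_distrib, ← map_sum,
      sum_mul_antipode_eq_algebraMap_counit (ℛ k c)]
    rw [Algebra.algebraMap_eq_smul_one, map_smul, antipode_one]
    simp [Algebra.algebraMap_eq_smul_one]
  have h2 : toConv (LinearMap.id : A →ₗ[k] A) = toConv (antipode k ∘ₗ antipode k) := by
    calc toConv (LinearMap.id : A →ₗ[k] A) = toConv LinearMap.id * 1 := (mul_one _).symm
      _ = toConv LinearMap.id * (toConv (antipode k (A := A)) * toConv (antipode k ∘ₗ antipode k)) := by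
          rw [h1]
      _ = (toConv LinearMap.id * toConv (antipode k (A := A))) * toConv (antipode k ∘ₗ antipode k) :=
          (mul_assoc _ _ _).symm
      _ = toConv (antipode k ∘ₗ antipode k) := by rw [LinearMap.id_mul_antipode, one_mul]
  exact (congrArg (fun f => f.ofConv a) h2).symm

end Anti

section RInt

variable {k : Type u} [Field k] {A : Type v} [CommRing A] [HopfAlgebra k A]

/-- right-invariant integrals: `Σ a₁ J(a₂) = J(a) 1`. -/
def IsRIntegral (J : A →ₗ[k] k) : Prop :=
  ∀ a : A, TensorProduct.rid k A (J.lTensor A (Coalgebra.comul a)) = J a • (1 : A)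

theorem isRIntegral_comp_antipode {I : A →ₗ[k] k} (hI : IsIntegral I) :
    IsRIntegral (I ∘ₗ HopfAlgebra.antipode k) := by
  intro a
  have h1 := hI (HopfAlgebra.antipode k a)
  rw [Groth.Agent.Lib.Helper23.comul_antipode] at h1
  have h2 : ∀ y : A ⊗[k] A, TensorProduct.lid k A (I.rTensor A (Groth.Agent.Lib.Helper23.antiSwap y)) =
      HopfAlgebra.antipode k (TensorProduct.rid k A ((I ∘ₗ HopfAlgebra.antipode k).lTensor A y)) := by
    intro y
    induction y using TensorProduct.induction_on with
    | zero => simp
    | tmul x z => simp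
    | add x y hx hy => simp only [map_add, hx, hy]
  rw [h2] at h1
  have h3 := congrArg (HopfAlgebra.antipode k) h1
  rw [antipode_antipode, map_smul, HopfAlgebra.antipode_one] at h3
  exact h3

theorem exists_isRIntegral (hG : IsLinearlyReductive k A) :
    ∃ J : A →ₗ[k] k, IsRIntegral J ∧ J 1 = 1 := by
  obtain ⟨I, hI, hI1⟩ := exists_isIntegral hG
  refine ⟨I ∘ₗ HopfAlgebra.antipode k, isRIntegral_comp_antipode hI, ?_⟩
  rw [LinearMap.comp_apply, HopfAlgebra.antipode_one, hI1]

end RInt

end Groth.Agent.Lib.Helper26.Comod
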