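import Groth.Agent.Lib.Helper26.CoalgFin

/-!
# Coefficient spaces of comodules (helper26)
-/

open TensorProduct

universe u v w w'

namespace Groth.Agent.Lib.Helper26.Comod

open HopfRep

section Coeff

variable {k : Type u} [Field k] {A : Type v} [AddCommGroup A] [Module k A] [Coalgebra k A]
variable {V : Type w} [AddCommGroup V] [Module k V] [Comod k A V]
variable {W : Type w'} [AddCommGroup W] [Module k W] [Comod k A W]

/-- the matrix-coefficient map `v ↦ Σ f(v₀) v₁`. -/
noncomputable def Fmap (f : V →ₗ[k] k) : V →ₗ[k] A :=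
  lslice f ∘ₗ Comod.coact (k := k) (A := A)

theorem Fmap_apply (f : V →ₗ[k] k) (v : V) :
    Fmap (A := A) f v = lslice f (Comod.coact (k := k) (A := A) v) := rfl

theorem Fmap_regular (f : A →ₗ[k] k) (a : A) : Fmap (A := A) (V := A) f a = U f a := rfl

/-- `ψ(F_f v) = f(T ψ v)`. -/
theorem apply_Fmap (f : V →ₗ[k] k) (ψ : A →ₗ[k] k) (v : V) :
    ψ (Fmap (A := A) f v) = f (T ψ v) := by
  rw [Fmap_apply, T_apply]
  generalize Comod.coact (k := k) (A := A) v = y
  induction y using TensorProduct.induction_on with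
  | zero => simp
  | tmul a c => simp [mul_comm]
  | add x y hx hy => simp only [map_add, hx, hy]

theorem isComodHom_Fmap (f : V →ₗ[k] k) : Hoch.IsComodHom A (Fmap (A := A) f) := by
  rw [isComodHom_iff]
  intro φ v
  apply eq_of_forall_dual_apply_eq (k := k)
  intro ψ
  rw [apply_Fmap, T_T, apply_T, apply_Fmap]

theorem Fmap_comp (g : V →ₗ[k] W) (hg : Hoch.IsComodHom A g) (f : W →ₗ[k] k) (v : V) :
    Fmap (A := A) f (g v) = Fmap (A := A) (f ∘ₗ g) v := by
  apply eq_of_forall_dual_apply_eq (k := k)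
  intro ψ
  rw [apply_Fmap, apply_Fmap, ← (isComodHom_iff g).mp hg, LinearMap.comp_apply]

theorem U_Fmap (φ : A →ₗ[k] k) (f : V →ₗ[k] k) (v : V) :
    U φ (Fmap (A := A) f v) = Fmap (A := A) (f ∘ₗ T φ) v := by
  apply eq_of_forall_dual_apply_eq (k := k)
  intro ψ
  rw [apply_U, ← (isComodHom_iff _).mp (isComodHom_Fmap f), apply_Fmap, apply_Fmap,
    LinearMap.comp_apply]

variable (k A V) in
/-- the coefficient space of a comodule. -/
noncomputable def coeff : Submodule k A :=
  ⨆ f : V →ₗ[k] k, LinearMap.range (Fmap (A := A) f)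

theorem Fmap_mem_coeff (f : V →ₗ[k] k) (v : V) : Fmap (A := A) f v ∈ coeff k A V :=
  Submodule.mem_iSup_of_mem f ⟨v, rfl⟩

theorem coeff_le_iff (B : Submodule k A) :
    coeff k A V ≤ B ↔ ∀ (f : V →ₗ[k] k) (v : V), Fmap (A := A) f v ∈ B := by
  constructor
  · intro h f v
    exact h (Fmap_mem_coeff f v)
  · intro h
    apply iSup_le
    rintro f _ ⟨v, rfl⟩
    exact h f v

theorem coact_mem_range_lTensor_coeff (v : V) :
    Comod.coact (k := k) (A := A) v ∈ LinearMap.range ((coeff k A V).subtype.lTensor V) := by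
  apply mem_range_lTensor_of_lslice_mem
  intro f
  exact Fmap_mem_coeff f v

theorem lslice_mem_of_mem_range_lTensor' (D : Submodule k A) (z : V ⊗[k] A)
    (hz : z ∈ LinearMap.range (LinearMap.lTensor V D.subtype)) (ψ : V →ₗ[k] k) :
    lslice ψ z ∈ D := by
  obtain ⟨y, rfl⟩ := hz
  induction y using TensorProduct.induction_on with
  | zero => simp
  | tmul w d => simpa using D.smul_mem _ d.2
  | add x y hx hy => rw [map_add, map_add]; exact D.add_mem hx hy

theorem isLeast_coeff :
    IsLeast {D' : Submodule k A | ∀ e : V, Comod.coact (k := k) (A := A) e ∈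
      LinearMap.range (LinearMap.lTensor V D'.subtype)} (coeff k A V) := by
  refine ⟨fun v => coact_mem_range_lTensor_coeff v, fun D' hD' => ?_⟩
  rw [coeff_le_iff]
  intro f v
  exact lslice_mem_of_mem_range_lTensor' D' _ (hD' v) f

theorem eq_coeff_of_isLeast {D : Submodule k A}
    (hD : IsLeast {D' : Submodule k A | ∀ e : V, Comod.coact (k := k) (A := A) e ∈
      LinearMap.range (LinearMap.lTensor V D'.subtype)} D) : D = coeff k A V :=
  hD.unique isLeast_coeff

theorem isSubcoalg_coeff : IsSubcoalg (coeff k A V) := by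
  rw [isSubcoalg_iff]
  constructor
  · intro φ b hb
    have : coeff k A V ≤ (coeff k A V).comap (T (V := A) φ) := by
      rw [coeff_le_iff]
      intro f v
      rw [Submodule.mem_comap, ← (isComodHom_iff _).mp (isComodHom_Fmap f)]
      exact Fmap_mem_coeff f _
    exact this hb
  · intro φ b hb
    have : coeff k A V ≤ (coeff k A V).comap (U φ) := by
      rw [coeff_le_iff]
      intro f v
      rw [Submodule.mem_comap, U_Fmap]
      exact Fmap_mem_coeff _ _
    exact this hb

theorem coeff_ne_bot [Nontrivial V] : coeff k A V ≠ ⊥ := by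
  intro h
  obtain ⟨v, hv⟩ := exists_ne (0 : V)
  apply hv
  have h1 := coact_mem_range_lTensor_coeff (k := k) (A := A) v
  rw [h] at h1
  obtain ⟨y, hy⟩ := h1
  have hy0 : y = 0 := by
    have : Subsingleton (V ⊗[k] (⊥ : Submodule k A)) := inferInstance
    exact Subsingleton.elim _ _
  rw [hy0, map_zero] at hy
  have hcu := LinearMap.congr_fun (Comod.counit_comp (k := k) (A := A) (V := V)) v
  simp only [LinearMap.comp_apply, LinearMap.flip_apply, TensorProduct.mk_apply] at hcu
  rw [← hy, map_zero] at hcu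
  have := congrArg (TensorProduct.rid k V) hcu
  simpa using this.symm

/-- An injective comodule map to the regular comodule with image in a subcoalgebra `B` forces
`coeff V ≤ B`. -/
theorem coeff_le_of_injective (g : V →ₗ[k] A) (hg : Hoch.IsComodHom A g)
    (hinj : Function.Injective g) {B : Submodule k A} (hB : IsSubcoalg B) (h : ∀ v, g v ∈ B) :
    coeff k A V ≤ B := by
  rw [coeff_le_iff]
  intro f v
  obtain ⟨p, hp⟩ := g.exists_leftInverse_of_injective (LinearMap.ker_eq_bot.mpr hinj)
  have hf : f = (f ∘ₗ p) ∘ₗ g := by rw [LinearMap.comp_assoc, hp, LinearMap.comp_id]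
  rw [hf, ← Fmap_comp g hg, Fmap_regular]
  exact ((isSubcoalg_iff B).mp hB).2 _ _ (h v)

/-- isomorphic comodules have the same coefficient space -/
theorem coeff_le_of_surjective (g : V →ₗ[k] W) (hg : Hoch.IsComodHom A g)
    (hsurj : Function.Surjective g) : coeff k A W ≤ coeff k A V := by
  rw [coeff_le_iff]
  intro f w
  obtain ⟨v, rfl⟩ := hsurj w
  rw [Fmap_comp g hg]
  exact Fmap_mem_coeff _ _

theorem coeff_le_of_injective' (g : V →ₗ[k] W) (hg : Hoch.IsComodHom A g)
    (hinj : Function.Injective g) : coeff k A V ≤ coeff k A W := by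
  rw [coeff_le_iff]
  intro f v
  obtain ⟨p, hp⟩ := g.exists_leftInverse_of_injective (LinearMap.ker_eq_bot.mpr hinj)
  have hf : f = (f ∘ₗ p) ∘ₗ g := by rw [LinearMap.comp_assoc, hp, LinearMap.comp_id]
  rw [hf, ← Fmap_comp g hg]
  exact Fmap_mem_coeff _ _

end Coeff

end Groth.Agent.Lib.Helper26.Comod
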