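import Mathlib
import Groth.Prelude.Def_W4c1liftfrobW2

namespace Groth.Agent.Lib.Helper26.W2Flat

open TensorProduct

universe u v

section General

variable {R : Type u} [CommRing R] (π : R) (h1 : π * π = 0)
  (h2 : ∀ x : R, IsUnit x ∨ ∃ y, x = π * y) (h3 : π ≠ 0)

include h2 h3 in
lemma ann (x : R) (hx : π * x = 0) : ∃ y, x = π * y := by
  rcases h2 x with hu | h
  · exfalso
    obtain ⟨u, rfl⟩ := hu
    apply h3
    have : π * (u : R) * ((u⁻¹ : Rˣ) : R) = 0 := by rw [hx, zero_mul]
    rwa [mul_assoc, Units.mul_inv, mul_one] at this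
  · exact h

include h1 h2 h3 in
theorem flat_iff (M : Type v) [AddCommGroup M] [Module R M] :
    Module.Flat R M ↔ ∀ m : M, π • m = 0 → ∃ m', m = π • m' := by
  constructor
  · intro hflat m hm
    have hrel : ∑ i : Fin 1, (fun _ : Fin 1 => π) i • (fun _ : Fin 1 => m) i = 0 := by
      simpa using hm
    obtain ⟨k, a, y, hxy, haj⟩ := Module.Flat.isTrivialRelation_of_sum_smul_eq_zero hrel
    have hb : ∀ j, ∃ b, a 0 j = π * b := by
      intro j
      apply ann π h2 h3
      simpa using haj j
    choose b hb using hb
    refine ⟨∑ j, b j • y j, ?_⟩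
    have h0 : m = ∑ j, a 0 j • y j := hxy 0
    rw [h0, Finset.smul_sum]
    refine Finset.sum_congr rfl (fun j _ => ?_)
    rw [hb j, mul_smul]
  · intro H
    rw [Module.Flat.iff_rTensor_injective']
    intro I
    by_cases hI : ∃ x ∈ I, IsUnit x
    · obtain ⟨x, hxI, hx⟩ := hI
      have hItop : I = ⊤ := Ideal.eq_top_of_isUnit_mem I hxI hx
      subst hItop
      have : (⊤ : Ideal R).subtype = (LinearEquiv.ofTop (⊤ : Submodule R R) rfl).toLinearMap := by
        ext; rfl
      rw [this]
      exact (LinearEquiv.rTensor M (LinearEquiv.ofTop (⊤ : Submodule R R) rfl)).injective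
    · push_neg at hI
      have hIπ : ∀ x ∈ I, ∃ y, x = π * y := fun x hx => (h2 x).resolve_left (hI x hx)
      rw [injective_iff_map_eq_zero]
      intro z hz
      by_cases hπ : π ∈ I
      · have hform : ∀ z : I ⊗[R] M, ∃ m : M, z = (⟨π, hπ⟩ : I) ⊗ₜ[R] m := by
          intro z
          induction z using TensorProduct.induction_on with
          | zero => exact ⟨0, by rw [tmul_zero]⟩
          | tmul x m =>
            obtain ⟨y, hy⟩ := hIπ x x.2
            refine ⟨y • m, ?_⟩
            have : x = y • (⟨π, hπ⟩ : I) := by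
              apply Subtype.ext
              rw [Submodule.coe_smul, smul_eq_mul, hy, mul_comm]
            rw [this, smul_tmul]
          | add z1 z2 h1 h2 =>
            obtain ⟨m1, rfl⟩ := h1
            obtain ⟨m2, rfl⟩ := h2
            exact ⟨m1 + m2, by rw [tmul_add]⟩
        obtain ⟨m, rfl⟩ := hform z
        rw [LinearMap.rTensor_tmul, Submodule.subtype_apply] at hz
        have hm : π • m = 0 := by
          have := congrArg (TensorProduct.lid R M) hz
          simpa using this
        obtain ⟨m', rfl⟩ := H m hm
        rw [← smul_tmul]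
        have : π • (⟨π, hπ⟩ : I) = 0 := by
          apply Subtype.ext
          rw [Submodule.coe_smul, smul_eq_mul, h1]
          rfl
        rw [this, zero_tmul]
      · have hIbot : ∀ x ∈ I, x = 0 := by
          intro x hx
          obtain ⟨y, rfl⟩ := hIπ x hx
          rcases h2 y with hu | ⟨y', rfl⟩
          · exfalso
            apply hπ
            obtain ⟨u, rfl⟩ := hu
            have := I.mul_mem_right ((u⁻¹ : Rˣ) : R) hx
            rwa [mul_assoc, Units.mul_inv, mul_one] at this
          · rw [← mul_assoc, h1, zero_mul]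
        induction z using TensorProduct.induction_on with
        | zero => rfl
        | tmul x m =>
          have : x = 0 := Subtype.ext (hIbot x x.2)
          rw [this, zero_tmul]
        | add z1 z2 _ _ =>
          have hsub : ∀ z : I ⊗[R] M, z = 0 := by
            intro z
            induction z using TensorProduct.induction_on with
            | zero => rfl
            | tmul x m =>
              have : x = 0 := Subtype.ext (hIbot x x.2)
              rw [this, zero_tmul]
            | add a b ha hb => rw [ha, hb, add_zero]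
          exact hsub _

end General

section W2

variable (p : ℕ) [hp : Fact p.Prime] (k : Type u) [Field k] [CharP k p] [PerfectRing k p]

lemma truncate_p : WittVector.truncate 2 (p : WittVector p k) = (p : FrobAlg.W2 p k) :=
  map_natCast _ p

lemma p_ne_zero : (p : FrobAlg.W2 p k) ≠ 0 := by
  intro h
  rw [← truncate_p, ← RingHom.mem_ker, WittVector.mem_ker_truncate] at h
  have := h 1 (by norm_num)
  rw [WittVector.coeff_p_one] at this
  exact one_ne_zero this

lemma p_mul_p : (p : FrobAlg.W2 p k) * (p : FrobAlg.W2 p k) = 0 := by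
  rw [← truncate_p, ← map_mul, ← RingHom.mem_ker, WittVector.mem_ker_truncate, ← pow_two]
  intro i hi
  exact WittVector.coeff_p_pow_eq_zero p k (by omega)

lemma unit_or (x : FrobAlg.W2 p k) : IsUnit x ∨ ∃ y, x = (p : FrobAlg.W2 p k) * y := by
  obtain ⟨a, rfl⟩ := WittVector.truncate_surjective (p := p) 2 k x
  by_cases h : a.coeff 0 = 0
  · right
    by_cases ha : a = 0
    · exact ⟨0, by rw [ha, map_zero, mul_zero]⟩
    · obtain ⟨m, b, hb, rfl⟩ := WittVector.exists_eq_pow_p_mul a ha
      rcases m with _ | m
      · exfalso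
        rw [pow_zero, one_mul] at h
        exact hb h
      · refine ⟨WittVector.truncate 2 ((p : WittVector p k) ^ m * b), ?_⟩
        rw [← truncate_p, ← map_mul, pow_succ']
        ring_nf
  · left
    exact (WittVector.isUnit_of_coeff_zero_ne_zero a h).map _

theorem w2_flat_iff (M : Type v) [AddCommGroup M] [Module (FrobAlg.W2 p k) M] :
    Module.Flat (FrobAlg.W2 p k) M ↔
      ∀ m : M, (p : FrobAlg.W2 p k) • m = 0 → ∃ m' : M, m = (p : FrobAlg.W2 p k) • m' :=
  flat_iff (p : FrobAlg.W2 p k) (p_mul_p p k) (unit_or p k) (p_ne_zero p k) M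

end W2

end Groth.Agent.Lib.Helper26.W2Flat
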