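import Mathlib.Tactic
import Mathlib.AlgebraicGeometry.Morphisms.Etale
import Mathlib.AlgebraicGeometry.Noetherian
import Groth.Prelude.Def_CInt
import Groth.Agent.Lib.Helper4.GrpSchBasics
import Groth.Agent.Lib.Helper9.ImmDesc1
import Groth.Agent.Lib.Helper3.SchImDense
import Groth.Agent.Lib.Helper9.SchDenseEq
import Groth.Agent.Lib.Helper7.SchDense

set_option autoImplicit false
set_option maxHeartbeats 400000
set_option linter.unusedVariables false
set_option linter.unusedSectionVars false
set_option linter.style.haveILetI false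

universe u
open CategoryTheory MonoidalCategory CartesianMonoidalCategory MonObj GrpObj AlgebraicGeometry Limits

namespace Groth.Agent.Lib.Helper26.AL1

theorem pullback_map_left_fst {S S₀ : Scheme.{u}} (t : S₀ ⟶ S) {X Y : Over S} (g : X ⟶ Y) :
    ((Over.pullback t).map g).left ≫ pullback.fst Y.hom t = pullback.fst X.hom t ≫ g.left := by
  dsimp only [Over.pullback]
  exact pullback.lift_fst _ _ _

theorem pullback_map_left_snd {S S₀ : Scheme.{u}} (t : S₀ ⟶ S) {X Y : Over S} (g : X ⟶ Y) :
    ((Over.pullback t).map g).left ≫ pullback.snd Y.hom t = pullback.snd X.hom t := by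
  dsimp only [Over.pullback]
  exact pullback.lift_snd _ _ _

theorem main {S : Scheme.{u}} [IsLocallyNoetherian S] (S₀ : S.Opens)
    (G : Over S)
    (hG : ∀ U : Over S, Etale U.hom →
      Function.Injective (fun g : U ⟶ G => (Over.pullback S₀.ι).map g))
    (H : Over S) [GrpObj H] [LocallyOfFiniteType H.hom] (j : H ⟶ G) [Mono j.left]
    (hal : Etale (η[H].left.ker.subschemeι ≫ H.hom))
    (h0 : IsSeparated (pullback.snd H.hom S₀.ι)) : IsSeparated H.hom := by
  let e : S ⟶ H.left := η[H].left
  have he1 : e ≫ H.hom = 𝟙 S := Over.w η[H]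
  haveI : IsLocallyNoetherian H.left := LocallyOfFiniteType.isLocallyNoetherian H.hom
  haveI : QuasiSeparated H.hom := inferInstance
  haveI : QuasiCompact e := by
    haveI : QuasiCompact (e ≫ H.hom) := by rw [he1]; infer_instance
    exact QuasiCompact.of_comp e H.hom
  let ιE : e.image ⟶ H.left := e.imageι
  let s : S ⟶ e.image := e.toImage
  let π : e.image ⟶ S := ιE ≫ H.hom
  have hs : s ≫ ιE = e := e.toImage_imageι
  have hsπ : s ≫ π = 𝟙 S := by
    show s ≫ ιE ≫ H.hom = 𝟙 S
    rw [← Category.assoc, hs, he1]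
  haveI hπ : Etale π := hal
  haveI : Etale s := by
    haveI : Etale (s ≫ π) := by rw [hsπ]; infer_instance
    exact Etale.of_comp s π
  haveI : Mono s := mono_of_mono_fac hsπ
  haveI : IsOpenImmersion s := IsOpenImmersion.of_flat_of_mono s
  haveI : IsLocallyNoetherian e.image := LocallyOfFiniteType.isLocallyNoetherian π
  have hW : CInt.IsSchematicallyDense s.opensRange := by
    haveI : IsSchemeTheoreticallyDominant s :=
      Groth.Agent.Lib.Helper9.ImmDesc.isSchemeTheoreticallyDominant_toImage e
    apply Groth.Agent.Lib.Helper3.SchIm.isSchematicallyDense_of_ker_ι_eq_bot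
    have h1 : s = s.isoOpensRange.hom ≫ s.opensRange.ι := by simp
    rw [← Scheme.Hom.ker_comp_of_isIso s.isoOpensRange.hom s.opensRange.ι, ← h1]
    exact s.ker_eq_bot
  have key : ιE = π ≫ e := by
    let UE : Over S := Over.mk π
    let k₁ : UE ⟶ H := Over.homMk ιE rfl
    let k₂ : UE ⟶ H := Over.homMk (π ≫ e) (by
      show (π ≫ e) ≫ H.hom = π
      rw [Category.assoc, he1, Category.comp_id])
    have hk : (Over.pullback S₀.ι).map k₁ = (Over.pullback S₀.ι).map k₂ := by
      ext1
      haveI : IsSeparated ((Over.pullback S₀.ι).obj H).hom := h0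
      let U : (pullback π S₀.ι).Opens := (pullback.fst π S₀.ι) ⁻¹ᵁ s.opensRange
      have hU : CInt.IsSchematicallyDense U :=
        Groth.Agent.Lib.Helper7.SchDense.isSchematicallyDense_preimage_of_flat _ _ hW
      refine Groth.Agent.Lib.Helper9.SchDenseEq.eq_of_eq_on_schDense_of_isSeparated
        ((Over.pullback S₀.ι).obj H).hom _ _ ?_ U hU ?_
      · rw [Over.w, Over.w]
      · have hrange : Set.range (U.ι ≫ pullback.fst π S₀.ι).base ⊆ Set.range s.base := by
          rintro _ ⟨x, rfl⟩
          exact x.2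
        let t : (U : Scheme.{u}) ⟶ S := IsOpenImmersion.lift s (U.ι ≫ pullback.fst π S₀.ι) hrange
        have ht : t ≫ s = U.ι ≫ pullback.fst π S₀.ι := IsOpenImmersion.lift_fac _ _ _
        apply pullback.hom_ext
        · rw [Category.assoc, Category.assoc, pullback_map_left_fst, pullback_map_left_fst]
          show U.ι ≫ pullback.fst π S₀.ι ≫ ιE = U.ι ≫ pullback.fst π S₀.ι ≫ π ≫ e
          rw [← Category.assoc, ← ht, Category.assoc, hs, ← Category.assoc U.ι, ← ht,
            Category.assoc, reassoc_of% hsπ]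
        · rw [Category.assoc, Category.assoc, pullback_map_left_snd, pullback_map_left_snd]
    have h1 : k₁ ≫ j = k₂ ≫ j := by
      apply hG UE hπ
      show (Over.pullback S₀.ι).map (k₁ ≫ j) = (Over.pullback S₀.ι).map (k₂ ≫ j)
      rw [Functor.map_comp, Functor.map_comp, hk]
    have h2 : ιE ≫ j.left = (π ≫ e) ≫ j.left := congrArg (fun f => f.left) h1
    exact (cancel_mono j.left).mp h2
  haveI : Mono π := by
    haveI : Mono (π ≫ e) := by rw [← key]; infer_instance
    exact mono_of_mono π e
  have hπs : π ≫ s = 𝟙 _ := by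
    rw [← cancel_mono π, Category.assoc, hsπ, Category.comp_id, Category.id_comp]
  haveI : IsIso π := ⟨s, hπs, hsπ⟩
  have he2 : e = inv π ≫ ιE := by
    rw [key, IsIso.inv_hom_id_assoc]
  have hcl : IsClosedImmersion e := by
    rw [he2]; infer_instance
  exact (Groth.Agent.Lib.Helper4.GrpSchBasics.sep_iff H).1.mpr hcl

end Groth.Agent.Lib.Helper26.AL1
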