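import Mathlib

/-!
# Artin–Rees constants and congruent complexes (Stacks 07VF type)
-/

namespace Groth.Agent.Lib.Helper26.ARCongr

set_option maxHeartbeats 400000

universe u

variable {A : Type u} [CommRing A] (I : Ideal A) {L M N : Type u}
  [AddCommGroup L] [Module A L] [AddCommGroup M] [Module A M] [AddCommGroup N] [Module A N]

lemma map_pow_smul_le (h : M →ₗ[A] N) (c : ℕ)
    (hh : ∀ x, h x ∈ I ^ (c + 1) • (⊤ : Submodule A N)) (k : ℕ) {x : M}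
    (hx : x ∈ I ^ k • (⊤ : Submodule A M)) : h x ∈ I ^ (k + c + 1) • (⊤ : Submodule A N) := by
  have h1 : Submodule.map h (I ^ k • ⊤) = I ^ k • Submodule.map h ⊤ := Submodule.map_smul'' _ _ _
  have h2 : Submodule.map h ⊤ ≤ I ^ (c + 1) • ⊤ := by
    rintro _ ⟨x, -, rfl⟩; exact hh x
  have h3 : h x ∈ Submodule.map h (I ^ k • ⊤) := Submodule.mem_map_of_mem hx
  rw [h1] at h3
  have h4 : I ^ k • Submodule.map h ⊤ ≤ I ^ k • (I ^ (c + 1) • (⊤ : Submodule A N)) :=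
    Submodule.smul_mono le_rfl h2
  have h5 := h4 h3
  rw [← Submodule.mul_smul, ← pow_add] at h5
  rwa [add_assoc]

lemma pow_smul_mono {m n : ℕ} (h : m ≤ n) :
    I ^ n • (⊤ : Submodule A N) ≤ I ^ m • ⊤ :=
  Submodule.smul_mono_left (Ideal.pow_le_pow_right h)

lemma easy (g g' : M →ₗ[A] N) (c : ℕ)
    (hg : ∀ n : ℕ, c ≤ n → LinearMap.range g ⊓ (I ^ n • (⊤ : Submodule A N)) ≤
      Submodule.map g (I ^ (n - c) • (⊤ : Submodule A M)))
    (hgg' : ∀ y : M, g y - g' y ∈ I ^ (c + 1) • (⊤ : Submodule A N)) (n : ℕ) :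
    LinearMap.range g ⊓ I ^ n • (⊤ : Submodule A N) ≤
      I ^ (n + 1) • (⊤ : Submodule A N) ⊔ (LinearMap.range g' ⊓ I ^ n • (⊤ : Submodule A N)) := by
  rintro y ⟨⟨x, rfl⟩, hy⟩
  have hy' : g x ∈ I ^ n • (⊤ : Submodule A N) := hy
  have key : ∃ x', g x' = g x ∧ g x' - g' x' ∈ I ^ (n + 1) • (⊤ : Submodule A N) := by
    by_cases hcn : c ≤ n
    · obtain ⟨x', hx', e⟩ := hg n hcn ⟨⟨x, rfl⟩, hy⟩
      refine ⟨x', e, ?_⟩
      have := map_pow_smul_le I (g - g') c hgg' (n - c) hx'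
      have e2 : n - c + c + 1 = n + 1 := by omega
      rw [e2] at this
      exact this
    · exact ⟨x, rfl, pow_smul_mono I (by omega) (hgg' x)⟩
  obtain ⟨x', e, hd⟩ := key
  rw [← e]
  have h1 : g x' = (g x' - g' x') + g' x' := by abel
  rw [h1]
  refine Submodule.add_mem_sup hd ⟨⟨x', rfl⟩, ?_⟩
  have h2 : g' x' = g x' - (g x' - g' x') := by abel
  show g' x' ∈ I ^ n • (⊤ : Submodule A N)
  have hy'' : g x' ∈ I ^ n • (⊤ : Submodule A N) := by rw [e]; exact hy'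
  rw [h2]
  exact Submodule.sub_mem _ hy'' (pow_smul_mono I (Nat.le_succ n) hd)

lemma keyX (f f' : L →ₗ[A] M) (g g' : M →ₗ[A] N) (c : ℕ) (hgf' : g'.comp f' = 0)
    (hf : ∀ n : ℕ, c ≤ n → LinearMap.range f ⊓ (I ^ n • (⊤ : Submodule A M)) ≤
      Submodule.map f (I ^ (n - c) • (⊤ : Submodule A L)))
    (hg : ∀ n : ℕ, c ≤ n → LinearMap.range g ⊓ (I ^ n • (⊤ : Submodule A N)) ≤
      Submodule.map g (I ^ (n - c) • (⊤ : Submodule A M)))
    (hex : Function.Exact f g)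
    (hff' : ∀ x : L, f x - f' x ∈ I ^ (c + 1) • (⊤ : Submodule A M))
    (hgg' : ∀ y : M, g y - g' y ∈ I ^ (c + 1) • (⊤ : Submodule A N)) :
    ∀ n, c ≤ n → ∀ x, g' x ∈ I ^ n • (⊤ : Submodule A N) →
      ∃ x₁ ∈ I ^ (n - c) • (⊤ : Submodule A M), ∃ l : L, x = x₁ + f' l := by
  intro n hn
  induction n, hn using Nat.le_induction with
  | base =>
    intro x _
    refine ⟨x, ?_, 0, by rw [map_zero, add_zero]⟩
    rw [Nat.sub_self, pow_zero, Ideal.one_eq_top, Submodule.top_smul]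
    exact Submodule.mem_top
  | succ n hn ih =>
    intro x hx
    obtain ⟨x₁, hx₁, l, rfl⟩ := ih x (pow_smul_mono I (Nat.le_succ n) hx)
    have hg'f' : g' (f' l) = 0 := by
      have := congrArg (fun φ => φ l) hgf'
      simpa using this
    have hgx₁' : g' x₁ ∈ I ^ (n + 1) • (⊤ : Submodule A N) := by
      rw [map_add, hg'f', add_zero] at hx; exact hx
    have hgx₁ : g x₁ ∈ I ^ (n + 1) • (⊤ : Submodule A N) := by
      have h1 : g x₁ = g' x₁ + (g x₁ - g' x₁) := by abel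
      rw [h1]
      refine Submodule.add_mem _ hgx₁' ?_
      have := map_pow_smul_le I (g - g') c hgg' (n - c) hx₁
      have e2 : n - c + c + 1 = n + 1 := by omega
      rw [e2] at this
      exact this
    obtain ⟨x₂, hx₂, e₂⟩ := hg (n + 1) (by omega) ⟨⟨x₁, rfl⟩, hgx₁⟩
    have hker : g (x₁ - x₂) = 0 := by rw [map_sub, e₂, sub_self]
    obtain ⟨l₀, hl₀⟩ := (hex (x₁ - x₂)).1 hker
    have hx₂' : x₂ ∈ I ^ (n - c) • (⊤ : Submodule A M) :=
      pow_smul_mono I (by omega) hx₂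
    have hdiff : x₁ - x₂ ∈ I ^ (n - c) • (⊤ : Submodule A M) := Submodule.sub_mem _ hx₁ hx₂'
    have key : ∃ l', f l' = x₁ - x₂ ∧ f l' - f' l' ∈ I ^ (n + 1 - c) • (⊤ : Submodule A M) := by
      by_cases hcn : c ≤ n - c
      · obtain ⟨l', hl', e⟩ := hf (n - c) hcn ⟨⟨l₀, hl₀⟩, hdiff⟩
        refine ⟨l', e, ?_⟩
        have := map_pow_smul_le I (f - f') c hff' (n - c - c) hl'
        have e2 : n - c - c + c + 1 = n + 1 - c := by omega
        rw [e2] at this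
        exact this
      · exact ⟨l₀, hl₀, pow_smul_mono I (by omega) (hff' l₀)⟩
    obtain ⟨l', e, hd⟩ := key
    refine ⟨x₂ + (f l' - f' l'), Submodule.add_mem _ hx₂ hd, l' + l, ?_⟩
    rw [map_add, e]
    abel

lemma ar_g' (f f' : L →ₗ[A] M) (g g' : M →ₗ[A] N) (c : ℕ) (hgf' : g'.comp f' = 0)
    (hf : ∀ n : ℕ, c ≤ n → LinearMap.range f ⊓ (I ^ n • (⊤ : Submodule A M)) ≤
      Submodule.map f (I ^ (n - c) • (⊤ : Submodule A L)))
    (hg : ∀ n : ℕ, c ≤ n → LinearMap.range g ⊓ (I ^ n • (⊤ : Submodule A N)) ≤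
      Submodule.map g (I ^ (n - c) • (⊤ : Submodule A M)))
    (hex : Function.Exact f g)
    (hff' : ∀ x : L, f x - f' x ∈ I ^ (c + 1) • (⊤ : Submodule A M))
    (hgg' : ∀ y : M, g y - g' y ∈ I ^ (c + 1) • (⊤ : Submodule A N)) :
    ∀ n : ℕ, c ≤ n → LinearMap.range g' ⊓ (I ^ n • (⊤ : Submodule A N)) ≤
      Submodule.map g' (I ^ (n - c) • (⊤ : Submodule A M)) := by
  rintro n hn y ⟨⟨x, rfl⟩, hy⟩
  obtain ⟨x₁, hx₁, l, rfl⟩ := keyX I f f' g g' c hgf' hf hg hex hff' hgg' n hn x hy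
  have hg'f' : g' (f' l) = 0 := by
    have := congrArg (fun φ => φ l) hgf'
    simpa using this
  exact ⟨x₁, hx₁, by rw [map_add, hg'f', add_zero]⟩

theorem main (f f' : L →ₗ[A] M) (g g' : M →ₗ[A] N) (c : ℕ) (hgf' : g'.comp f' = 0)
    (hf : ∀ n : ℕ, c ≤ n → LinearMap.range f ⊓ (I ^ n • (⊤ : Submodule A M)) ≤
      Submodule.map f (I ^ (n - c) • (⊤ : Submodule A L)))
    (hg : ∀ n : ℕ, c ≤ n → LinearMap.range g ⊓ (I ^ n • (⊤ : Submodule A N)) ≤
      Submodule.map g (I ^ (n - c) • (⊤ : Submodule A M)))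
    (hex : Function.Exact f g)
    (hff' : ∀ x : L, f x - f' x ∈ I ^ (c + 1) • (⊤ : Submodule A M))
    (hgg' : ∀ y : M, g y - g' y ∈ I ^ (c + 1) • (⊤ : Submodule A N)) (n : ℕ) :
    I ^ (n + 1) • (⊤ : Submodule A N) ⊔ (LinearMap.range g ⊓ I ^ n • (⊤ : Submodule A N)) =
      I ^ (n + 1) • (⊤ : Submodule A N) ⊔ (LinearMap.range g' ⊓ I ^ n • (⊤ : Submodule A N)) := by
  have hg'g : ∀ y : M, g' y - g y ∈ I ^ (c + 1) • (⊤ : Submodule A N) := by
    intro y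
    have := Submodule.neg_mem _ (hgg' y)
    rwa [neg_sub] at this
  apply le_antisymm
  · exact sup_le le_sup_left (easy I g g' c hg hgg' n)
  · exact sup_le le_sup_left
      (easy I g' g c (ar_g' I f f' g g' c hgf' hf hg hex hff' hgg') hg'g n)

end Groth.Agent.Lib.Helper26.ARCongr
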