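import Mathlib.Tactic
import Mathlib.FieldTheory.Finite.Basic
import Mathlib.Data.ZMod.QuotientRing
import Groth.Prelude.Def_NonAbH2
import Groth.Prelude.Def_Red2
import Groth.Agent.Lib.Helper4.GaPts
import Groth.Agent.Lib.Helper4.KummerSeq
import Groth.Agent.S5120

set_option autoImplicit false
set_option maxHeartbeats 400000
set_option linter.unusedVariables false
set_option linter.unusedSectionVars false
set_option linter.style.haveILetI false

universe u
open CategoryTheory MonoidalCategory CartesianMonoidalCategory MonObj GrpObj AlgebraicGeometry Limits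
open Groth.Agent.Lib.Helper4

namespace Groth.Agent.Lib.Helper26.AS1

/-! ### characteristic `p` algebra without `CharP` -/

section Alg
variable (p : ℕ) [hpp : Fact p.Prime] {R : Type*} [CommRing R]

theorem add_pow_p (h0 : (p : R) = 0) (a b : R) : (a + b) ^ p = a ^ p + b ^ p := by
  obtain ⟨r, hr⟩ := exists_add_pow_prime_eq hpp.out a b
  rw [hr, h0]; ring

theorem neg_pow_p (h0 : (p : R) = 0) (a : R) : (-a) ^ p = -(a ^ p) := by
  have h := add_pow_p p h0 a (-a)
  rw [add_neg_cancel, zero_pow hpp.out.ne_zero] at h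
  exact eq_neg_of_add_eq_zero_right h.symm

theorem sub_pow_p (h0 : (p : R) = 0) (a b : R) : (a - b) ^ p = a ^ p - b ^ p := by
  rw [sub_eq_add_neg, add_pow_p p h0, neg_pow_p p h0, ← sub_eq_add_neg]

/-- the ring hom `ZMod p → R` when `p = 0` in `R`. -/
noncomputable def zmodHom (h0 : (p : R) = 0) : ZMod p →+* R :=
  (Ideal.Quotient.lift (Ideal.span {(p : ℤ)}) (Int.castRingHom R) (by
    intro a ha
    obtain ⟨c, rfl⟩ := Ideal.mem_span_singleton.mp ha
    simp [h0])).comp (Int.quotientSpanNatEquivZMod p).symm.toRingHom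

theorem zmodHom_pow (h0 : (p : R) = 0) (m : ZMod p) : (zmodHom p h0 m) ^ p = zmodHom p h0 m := by
  rw [← map_pow, ZMod.pow_card]

theorem isUnit_zmodHom (h0 : (p : R) = 0) {m : ZMod p} (hm : m ≠ 0) : IsUnit (zmodHom p h0 m) :=
  (IsUnit.mk0 m hm).map _

open Polynomial in
theorem prod_X_sub_C_zmod : ∏ m : ZMod p, (X - C m) = (X ^ p - X : (ZMod p)[X]) := by
  have hmonic : (X ^ p - X : (ZMod p)[X]).Monic := by
    apply monic_X_pow_sub
    rw [degree_X]; exact_mod_cast hpp.out.one_lt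
  have hroots : (X ^ p - X : (ZMod p)[X]).roots = Finset.univ.val := by
    have := FiniteField.roots_X_pow_card_sub_X (ZMod p)
    rwa [ZMod.card] at this
  have hdeg : (X ^ p - X : (ZMod p)[X]).natDegree = p :=
    FiniteField.X_pow_card_sub_X_natDegree_eq _ hpp.out.one_lt
  have := prod_multiset_X_sub_C_of_monic_of_roots_card_eq hmonic (by
    rw [hroots, hdeg]; simp)
  rw [hroots] at this
  exact this

theorem prod_sub_zmodHom (h0 : (p : R) = 0) (a : R) :
    ∏ m : ZMod p, (a - zmodHom p h0 m) = a ^ p - a := by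
  have h := congrArg (Polynomial.eval₂ (zmodHom p h0) a) (prod_X_sub_C_zmod p)
  simpa [Polynomial.eval₂_finsetProd] using h

end Alg


/-! ### the Artin--Schreier map on `𝔾_a` -/

section MonHomPts
variable {C : Type*} [Category C] [CartesianMonoidalCategory C] {M N : C} [MonObj M] [MonObj N]

theorem isMonHom_of_points (f : M ⟶ N)
    (hmul : ∀ (X : C) (a b : X ⟶ M), (a * b) ≫ f = (a ≫ f) * (b ≫ f))
    (hone : (1 : 𝟙_ C ⟶ M) ≫ f = 1) : IsMonHom f where
  one_hom := by
    rw [MonObj.one_eq_one (M := M), MonObj.one_eq_one (M := N)]; exact hone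
  mul_hom := by
    rw [MonObj.mul_eq_mul (M := M), hmul, MonObj.mul_eq_mul (M := N), MonObj.comp_mul,
      tensorHom_fst, tensorHom_snd]

end MonHomPts

section Ga
variable {S : Scheme.{u}} (p : ℕ) [hpp : Fact p.Prime]

theorem natCast_eq_zero_of_over (hp : (p : Γ(S, ⊤)) = 0) (T : Over S) :
    (p : Γ(T.left, ⊤)) = 0 := by
  have := congrArg T.hom.appTop.hom hp
  simpa using this

variable (F : Red.Ga S ⟶ Red.Ga S)

theorem gaFn_comp_P (hF : ∀ (T : Over S) (x : T ⟶ Red.Ga S), Red.gaFn (x ≫ F) = Red.gaFn x ^ p)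
    (T : Over S) (x : T ⟶ Red.Ga S) :
    Red.gaFn (x ≫ (𝟙 (Red.Ga S) * F⁻¹)) = Red.gaFn x - Red.gaFn x ^ p := by
  rw [MonObj.comp_mul, GrpObj.comp_inv, Category.comp_id, GaPts.gaFn_mul, GaPts.gaFn_inv, hF,
    sub_eq_add_neg]

theorem isMonHom_P (hp : (p : Γ(S, ⊤)) = 0)
    (hF : ∀ (T : Over S) (x : T ⟶ Red.Ga S), Red.gaFn (x ≫ F) = Red.gaFn x ^ p) :
    IsMonHom (𝟙 (Red.Ga S) * F⁻¹) := by
  refine isMonHom_of_points _ (fun T a b => ?_) ?_
  · apply GaPts.gaFn_injective
    rw [gaFn_comp_P p F hF, GaPts.gaFn_mul, GaPts.gaFn_mul, gaFn_comp_P p F hF, gaFn_comp_P p F hF,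
      add_pow_p p (natCast_eq_zero_of_over p hp T)]
    ring
  · apply GaPts.gaFn_injective
    rw [gaFn_comp_P p F hF, GaPts.gaFn_one, zero_pow hpp.out.ne_zero, sub_zero]

end Ga

end Groth.Agent.Lib.Helper26.AS1
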