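import Mathlib.Tactic
import Mathlib.LinearAlgebra.SymmetricAlgebra.Basis
import Mathlib.RingTheory.RingHom.FaithfullyFlat
import Groth.Prelude.Def_Red2
import Groth.Agent.Lib.Helper4.GaPts
import Groth.Agent.S5120

set_option autoImplicit false
set_option maxHeartbeats 400000
set_option linter.unusedVariables false
set_option linter.unusedSectionVars false
set_option linter.style.haveILetI false

universe u
open CategoryTheory AlgebraicGeometry Limits
open Groth.Agent.Lib.Helper4

namespace Groth.Agent.Lib.Helper26.AS2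

open Polynomial

section Poly
variable (p : ℕ) (A : Type u) [CommRing A]

/-- the Artin--Schreier endomorphism of `A[X]`. -/
noncomputable def psi : A[X] →+* A[X] := (aeval (X - X ^ p : A[X])).toRingHom

theorem psi_apply (q : A[X]) : psi p A q = aeval (X - X ^ p : A[X]) q := rfl

/-- `A[X]` as an algebra over itself via `psi`. -/
def LB (_p : ℕ) (A : Type u) [CommRing A] : Type u := A[X]

noncomputable instance : CommRing (LB p A) := inferInstanceAs (CommRing A[X])
noncomputable instance : Algebra A[X] (LB p A) := (psi p A).toAlgebra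

noncomputable def combL : (Fin p → A[X]) →ₗ[A[X]] LB p A where
  toFun := Groth.Agent.S5120.Φ p
  map_add' a b := by
    unfold Groth.Agent.S5120.Φ
    simp [add_mul, Finset.sum_add_distrib]
    rfl
  map_smul' c a := by
    show Groth.Agent.S5120.Φ p (c • a) = psi p A c * Groth.Agent.S5120.Φ p a
    unfold Groth.Agent.S5120.Φ
    rw [Finset.mul_sum]
    refine Finset.sum_congr rfl fun i _ => ?_
    simp [mul_assoc, psi_apply]

variable [Nontrivial A]

theorem combL_bijective (hp : 2 ≤ p) : Function.Bijective (combL p A) := by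
  constructor
  · intro c c' h
    have h0 : Groth.Agent.S5120.Φ p (c - c') = 0 := by
      rw [Groth.Agent.S5120.Φ_sub]
      exact sub_eq_zero.mpr h
    funext i
    ext k
    have := Groth.Agent.S5120.inj p hp k _ h0 i
    simpa [sub_eq_zero] using this
  · intro q
    obtain ⟨c, hc⟩ := Groth.Agent.S5120.exists_rep (A := A) p hp _ q rfl
    exact ⟨c, hc.symm⟩

theorem psi_faithfullyFlat (hp : 2 ≤ p) : (psi p A).FaithfullyFlat := by
  have hpos : NeZero p := ⟨by omega⟩
  let b : Module.Basis (Fin p) A[X] (LB p A) :=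
    Module.Basis.ofEquivFun (LinearEquiv.ofBijective (combL p A) (combL_bijective p A hp)).symm
  have : Module.Free A[X] (LB p A) := Module.Free.of_basis b
  have : Nontrivial (LB p A) := inferInstanceAs (Nontrivial A[X])
  exact (inferInstance : Module.FaithfullyFlat A[X] (LB p A))

end Poly


section Coord

abbrev ZZ : Type u := ULift.{u} ℤ

/-- `Sym_ℤ(ℤ) ≃ ℤ[X]`. -/
noncomputable def symEquiv : GaPts.Coord.{u} ≃ₐ[ZZ.{u}] (ZZ.{u})[X] :=
  (SymmetricAlgebra.equivMvPolynomial (Module.Basis.singleton Unit ZZ.{u})).trans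
    (MvPolynomial.uniqueAlgEquiv ZZ.{u} Unit)

theorem symEquiv_gen : symEquiv.{u} GaPts.gen.{u} = X := by
  have h : (GaPts.gen.{u} : GaPts.Coord.{u}) =
      SymmetricAlgebra.ι ZZ.{u} ZZ.{u} (Module.Basis.singleton Unit ZZ.{u} ()) := by
    simp [GaPts.gen]
    rfl
  rw [h]
  show MvPolynomial.uniqueAlgEquiv ZZ.{u} Unit
    (SymmetricAlgebra.equivMvPolynomial (Module.Basis.singleton Unit ZZ.{u})
      (SymmetricAlgebra.ι ZZ.{u} ZZ.{u} (Module.Basis.singleton Unit ZZ.{u} ()))) = X
  rw [SymmetricAlgebra.equivMvPolynomial_ι_apply]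
  simp

variable (p : ℕ)

/-- the Artin--Schreier endomorphism of the coordinate ring of `𝔾_a` over `ℤ`. -/
noncomputable def psi0 : GaPts.Coord.{u} →+* GaPts.Coord.{u} :=
  GaPts.ringHomOfFn (GaPts.gen.{u} - GaPts.gen.{u} ^ p)

theorem psi0_gen : psi0.{u} p GaPts.gen.{u} = GaPts.gen.{u} - GaPts.gen.{u} ^ p :=
  GaPts.ringHomOfFn_gen _

theorem psi0_eq : psi0.{u} p =
    (symEquiv.{u}.symm : (ZZ.{u})[X] →+* GaPts.Coord.{u}).comp
      ((psi p ZZ.{u}).comp (symEquiv.{u} : GaPts.Coord.{u} →+* (ZZ.{u})[X])) := by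
  apply GaPts.ringHom_ext_gen
  rw [psi0_gen]
  simp only [RingHom.comp_apply, RingHom.coe_coe]
  rw [symEquiv_gen, psi_apply, aeval_X, map_sub, map_pow, ← symEquiv_gen, AlgEquiv.symm_apply_apply]

theorem psi0_faithfullyFlat (hp : 2 ≤ p) : (psi0.{u} p).FaithfullyFlat := by
  rw [psi0_eq]
  refine RingHom.FaithfullyFlat.stableUnderComposition _ _ ?_ ?_
  · refine RingHom.FaithfullyFlat.stableUnderComposition _ _ ?_ ?_
    · exact RingHom.FaithfullyFlat.of_bijective symEquiv.{u}.bijective
    · exact psi_faithfullyFlat p ZZ.{u} hp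
  · exact RingHom.FaithfullyFlat.of_bijective symEquiv.{u}.symm.bijective

end Coord

end Groth.Agent.Lib.Helper26.AS2
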