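import Mathlib.Tactic
import Groth.Agent.Lib.Helper26.AS1
import Groth.Agent.Lib.Helper26.AS2

set_option autoImplicit false
set_option maxHeartbeats 400000
set_option linter.unusedVariables false
set_option linter.unusedSectionVars false
set_option linter.style.haveILetI false

universe u
open CategoryTheory MonoidalCategory CartesianMonoidalCategory MonObj GrpObj AlgebraicGeometry Limits
open Groth.Agent.Lib.Helper4
open Groth.Agent.Lib.Helper26

namespace Groth.Agent.Lib.Helper26.AS3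

variable (p : ℕ)

/-- the Artin--Schreier map of `𝔾_a` over `ℤ` (not a homomorphism there). -/
noncomputable def Q0 : GaPts.GaZ.{u} ⟶ GaPts.GaZ.{u} :=
  Over.homMk (Spec.map (CommRingCat.ofHom (AS2.psi0.{u} p))) (specULiftZIsTerminal.hom_ext _ _)

theorem Q0_left : (Q0.{u} p).left = Spec.map (CommRingCat.ofHom (AS2.psi0.{u} p)) := rfl

variable {S : Scheme.{u}}

theorem gaFn_id : Red.gaFn (𝟙 (Red.Ga S)) =
    (pullback.fst GaPts.GaZ.hom (GaPts.toBaseZ S)).appTop (GaPts.coordIso.inv GaPts.gen) := by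
  unfold Red.gaFn
  rw [Over.id_left, Category.id_comp]
  rfl

theorem gaFn_bcQ0 : Red.gaFn ((Over.pullback (GaPts.toBaseZ S)).map (Q0.{u} p)) =
    Red.gaFn (𝟙 (Red.Ga S)) - Red.gaFn (𝟙 (Red.Ga S)) ^ p := by
  have h1 : Red.gaFn ((Over.pullback (GaPts.toBaseZ S)).map (Q0.{u} p)) =
      (((Over.pullback (GaPts.toBaseZ S)).map (Q0.{u} p)).left ≫
        pullback.fst GaPts.GaZ.hom (GaPts.toBaseZ S)).appTop (GaPts.coordIso.inv GaPts.gen) := rfl
  have h2 : (pullback.fst GaPts.GaZ.hom (GaPts.toBaseZ S) ≫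
        Spec.map (CommRingCat.ofHom (AS2.psi0.{u} p))).appTop (GaPts.coordIso.inv GaPts.gen) =
      (pullback.fst GaPts.GaZ.hom (GaPts.toBaseZ S)).appTop
        ((Spec.map (CommRingCat.ofHom (AS2.psi0.{u} p))).appTop (GaPts.coordIso.inv GaPts.gen)) :=
    GmPts.appTop_comp_apply _ _ _
  have h3 : (Spec.map (CommRingCat.ofHom (AS2.psi0.{u} p))).appTop (GaPts.coordIso.inv GaPts.gen) =
      GaPts.coordIso.inv (AS2.psi0.{u} p GaPts.gen) :=
    GaPts.specMap_appTop_coordIso_inv _ _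
  rw [h1, GmPts.pullback_map_left_fst]
  refine h2.trans ?_
  rw [h3, AS2.psi0_gen, gaFn_id]
  let r : Γ(Spec (CommRingCat.of GaPts.Coord.{u}), ⊤) →+* Γ((Red.Ga S).left, ⊤) :=
    (pullback.fst GaPts.GaZ.hom (GaPts.toBaseZ S)).appTop.hom
  let c : GaPts.Coord.{u} →+* Γ(Spec (CommRingCat.of GaPts.Coord.{u}), ⊤) := GaPts.coordIso.inv.hom
  show r (c (GaPts.gen - GaPts.gen ^ p)) = r (c GaPts.gen) - r (c GaPts.gen) ^ p
  rw [map_sub, map_pow, map_sub, map_pow]

variable [hpp : Fact p.Prime] (F : Red.Ga S ⟶ Red.Ga S)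

theorem P_eq_bcQ0 (hF : ∀ (T : Over S) (x : T ⟶ Red.Ga S), Red.gaFn (x ≫ F) = Red.gaFn x ^ p) :
    𝟙 (Red.Ga S) * F⁻¹ = (Over.pullback (GaPts.toBaseZ S)).map (Q0.{u} p) := by
  apply GaPts.gaFn_injective
  rw [gaFn_bcQ0, ← AS1.gaFn_comp_P p F hF, Category.id_comp]

theorem P_props (hF : ∀ (T : Over S) (x : T ⟶ Red.Ga S), Red.gaFn (x ≫ F) = Red.gaFn x ^ p) :
    Flat (𝟙 (Red.Ga S) * F⁻¹).left ∧ Surjective (𝟙 (Red.Ga S) * F⁻¹).left ∧
      QuasiCompact (𝟙 (Red.Ga S) * F⁻¹).left := by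
  rw [P_eq_bcQ0 p F hF]
  have sq := KummerSeq.isPullback_pullback_map (GaPts.toBaseZ S) (Q0.{u} p)
  have hfs := (flat_and_surjective_SpecMap_iff
    (CommRingCat.ofHom (AS2.psi0.{u} p))).mpr (AS2.psi0_faithfullyFlat p hpp.out.two_le)
  have hqc : QuasiCompact (Spec.map (CommRingCat.ofHom (AS2.psi0.{u} p))) := inferInstance
  rw [← Q0_left] at hfs hqc
  exact ⟨MorphismProperty.of_isPullback sq hfs.1, MorphismProperty.of_isPullback sq hfs.2,
    MorphismProperty.of_isPullback sq hqc⟩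

end Groth.Agent.Lib.Helper26.AS3
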