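import Mathlib.Tactic
import Groth.Prelude.Def_TwC
import Groth.Agent.Lib.Helper26.AS1

set_option autoImplicit false
set_option maxHeartbeats 400000
set_option linter.unusedVariables false
set_option linter.unusedSectionVars false
set_option linter.style.haveILetI false

universe u
open CategoryTheory MonoidalCategory CartesianMonoidalCategory MonObj GrpObj AlgebraicGeometry Limits
open Groth.Agent.Lib.Helper4
open Groth.Agent.Lib.Helper26

namespace Groth.Agent.Lib.Helper26.AS4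

/-! ### units and basic opens -/

section Basic

theorem isUnit_of_basicOpen_eq_top {X : Scheme.{u}} (f : Γ(X, ⊤)) (h : X.basicOpen f = ⊤) :
    IsUnit f :=
  RingedSpace.isUnit_of_isUnit_germ (X := X.toRingedSpace) ⊤ f (fun x hx =>
    (X.mem_basicOpen_top f x).mp (by rw [h]; trivial))

theorem isUnit_appTop_ι {X : Scheme.{u}} (U : X.Opens) (f : Γ(X, ⊤)) (h : U ≤ X.basicOpen f) :
    IsUnit (U.ι.appTop f) := by
  apply isUnit_of_basicOpen_eq_top
  rw [← Scheme.preimage_basicOpen_top]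
  rw [eq_top_iff]
  intro x _
  exact h x.2

theorem le_basicOpen_of_isUnit {X : Scheme.{u}} (U : X.Opens) (f : Γ(X, ⊤))
    (h : IsUnit (U.ι.appTop f)) : U ≤ X.basicOpen f := by
  intro x hx
  have h1 : (U.ι ⁻¹ᵁ X.basicOpen f) = ⊤ := by
    rw [Scheme.preimage_basicOpen_top]
    exact Scheme.basicOpen_of_isUnit _ h
  have h2 : (⟨x, hx⟩ : U) ∈ (U.ι ⁻¹ᵁ X.basicOpen f) := by rw [h1]; trivial
  exact h2

end Basic


/-! ### the decomposition of `T` attached to a solution of `a ^ p = a` -/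

section Decomp
variable (p : ℕ) [hpp : Fact p.Prime]

abbrev MM : Type := Multiplicative (ZMod p)

variable {X : Scheme.{u}} (h0 : (p : Γ(X, ⊤)) = 0) (a : Γ(X, ⊤))

/-- the constants. -/
noncomputable def cst (m : MM p) : Γ(X, ⊤) := AS1.zmodHom p h0 (Multiplicative.toAdd m)

/-- the Lagrange-type products. -/
noncomputable def ee (m : MM p) : Γ(X, ⊤) := ∏ m' ∈ Finset.univ.erase m, (a - cst p h0 m')

/-- the pieces. -/
noncomputable def UU (m : MM p) : X.Opens := X.basicOpen (ee p h0 a m)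

theorem prod_all (ha : a ^ p = a) : ∏ m : MM p, (a - cst p h0 m) = 0 := by
  have h := AS1.prod_sub_zmodHom p h0 a
  rw [ha, sub_self] at h
  rw [← h]
  exact Fintype.prod_equiv Multiplicative.toAdd _ _ (fun m => rfl)

theorem mul_ee (ha : a ^ p = a) (m : MM p) : (a - cst p h0 m) * ee p h0 a m = 0 := by
  unfold ee
  rw [Finset.mul_prod_erase Finset.univ (fun m' => a - cst p h0 m') (Finset.mem_univ m),
    prod_all p h0 a ha]

theorem ee_mul_ee (ha : a ^ p = a) {m m' : MM p} (h : m ≠ m') :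
    ee p h0 a m * ee p h0 a m' = 0 := by
  have hmem : m ∈ Finset.univ.erase m' := Finset.mem_erase.mpr ⟨h, Finset.mem_univ m⟩
  have h1 : ee p h0 a m' = (a - cst p h0 m) *
      ∏ m'' ∈ (Finset.univ.erase m').erase m, (a - cst p h0 m'') := by
    unfold ee
    rw [Finset.mul_prod_erase (Finset.univ.erase m') (fun m'' => a - cst p h0 m'') hmem]
  rw [h1, ← _root_.mul_assoc, mul_comm (ee p h0 a m), mul_ee p h0 a ha, zero_mul]

theorem UU_disjoint (ha : a ^ p = a) {m m' : MM p} (h : m ≠ m') :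
    UU p h0 a m ⊓ UU p h0 a m' = ⊥ := by
  unfold UU
  rw [← Scheme.basicOpen_mul, ee_mul_ee p h0 a ha h, Scheme.basicOpen_zero]

theorem isUnit_cst_sub {m m' : MM p} (h : m ≠ m') : IsUnit (cst p h0 m - cst p h0 m') := by
  unfold cst
  rw [← map_sub]
  apply AS1.isUnit_zmodHom
  rw [sub_ne_zero]
  exact fun h' => h (Multiplicative.toAdd.injective h')

theorem UU_cover (ha : a ^ p = a) : ⨆ m, UU p h0 a m = ⊤ := by
  rw [eq_top_iff]
  intro x _
  let g : Γ(X, ⊤) →+* X.presheaf.stalk x := (X.presheaf.germ ⊤ x trivial).hom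
  have hprod : ∏ m : MM p, g (a - cst p h0 m) = 0 := by
    rw [← map_prod, prod_all p h0 a ha, map_zero]
  have hmem : ∏ m : MM p, g (a - cst p h0 m) ∈ IsLocalRing.maximalIdeal (X.presheaf.stalk x) := by
    rw [hprod]; exact Ideal.zero_mem _
  obtain ⟨m, -, hm⟩ := (Ideal.IsPrime.prod_mem_iff
    (hp := (IsLocalRing.maximalIdeal.isMaximal (X.presheaf.stalk x)).isPrime)).mp hmem
  have hunit : ∀ m' ∈ Finset.univ.erase m, IsUnit (g (a - cst p h0 m')) := by
    intro m' hm'
    have hne : m' ≠ m := (Finset.mem_erase.mp hm').1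
    by_contra hnu
    have h1 : g (a - cst p h0 m') ∈ IsLocalRing.maximalIdeal (X.presheaf.stalk x) := hnu
    have h2 : g (cst p h0 m' - cst p h0 m) ∈ IsLocalRing.maximalIdeal (X.presheaf.stalk x) := by
      have : g (cst p h0 m' - cst p h0 m) = g (a - cst p h0 m) - g (a - cst p h0 m') := by
        rw [← map_sub]; congr 1; ring
      rw [this]
      exact Ideal.sub_mem _ hm h1
    exact h2 ((isUnit_cst_sub p h0 hne).map g)
  have hx : x ∈ UU p h0 a m := by
    unfold UU
    rw [Scheme.mem_basicOpen_top]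
    show IsUnit (g (ee p h0 a m))
    unfold ee
    rw [map_prod]
    exact Finset.prod_induction _ IsUnit (fun _ _ => IsUnit.mul) isUnit_one hunit
  exact TopologicalSpace.Opens.mem_iSup.mpr ⟨m, hx⟩

theorem res_eq (ha : a ^ p = a) (m : MM p) :
    (UU p h0 a m).ι.appTop a = (UU p h0 a m).ι.appTop (cst p h0 m) := by
  have hu : IsUnit ((UU p h0 a m).ι.appTop (ee p h0 a m)) := isUnit_appTop_ι _ _ le_rfl
  have h1 : (UU p h0 a m).ι.appTop (a - cst p h0 m) * (UU p h0 a m).ι.appTop (ee p h0 a m) = 0 := by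
    rw [← map_mul, mul_ee p h0 a ha, map_zero]
  have h2 := (hu.mul_left_eq_zero).mp h1
  rw [map_sub] at h2
  exact sub_eq_zero.mp h2

end Decomp


/-! ### points of the constant scheme -/

section Const
variable (p : ℕ) [hpp : Fact p.Prime]

theorem map_cst {X Y : Scheme.{u}} (f : X ⟶ Y) (h0Y : (p : Γ(Y, ⊤)) = 0) (h0X : (p : Γ(X, ⊤)) = 0)
    (m : MM p) : f.appTop (cst p h0Y m) = cst p h0X m := by
  have h : f.appTop.hom.comp (AS1.zmodHom p h0Y) = AS1.zmodHom p h0X := Subsingleton.elim _ _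
  exact congrArg (fun φ : ZMod p →+* Γ(X, ⊤) => φ (Multiplicative.toAdd m)) h

variable {S : Scheme.{u}}

theorem eq_of_range_subset (W : Over S) (w : W ⟶ TwC.const S (MM p)) (m : MM p)
    (h : Set.range w.left.base ⊆ Set.range (Sigma.ι (fun _ : MM p => S) m).base) :
    w = toUnit W ≫ TwC.pt S (MM p) m := by
  let z := IsOpenImmersion.lift (Sigma.ι (fun _ : MM p => S) m) w.left h
  have hz : z ≫ Sigma.ι (fun _ : MM p => S) m = w.left := IsOpenImmersion.lift_fac _ _ _
  have hz2 : z = W.hom := by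
    have h1 := Over.w w
    rw [← hz] at h1
    simpa using h1
  ext1
  show w.left = (toUnit W).left ≫ (TwC.pt S (MM p) m).left
  rw [Over.toUnit_left, ← hz, hz2]
  rfl

variable (hp : (p : Γ(S, ⊤)) = 0) (T : Over S) (a : Γ(T.left, ⊤))

/-- the pieces of `T` as objects over `S`. -/
noncomputable abbrev Tm (m : MM p) : Over S :=
  Over.mk ((UU p (AS1.natCast_eq_zero_of_over p hp T) a m).ι ≫ T.hom)

noncomputable abbrev jm (m : MM p) : Tm p hp T a m ⟶ T :=
  Over.homMk (UU p (AS1.natCast_eq_zero_of_over p hp T) a m).ι rfl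

theorem nonempty_isColimit (ha : a ^ p = a) :
    Nonempty (IsColimit (Cofan.mk T.left
      (fun m : MM p => (UU p (AS1.natCast_eq_zero_of_over p hp T) a m).ι))) := by
  apply nonempty_isColimit_cofanMk_of
  · simp only [Scheme.Opens.opensRange_ι]
    exact UU_cover p _ a ha
  · intro m m' h
    simp only [Function.onFun, Scheme.Opens.opensRange_ι]
    rw [disjoint_iff]
    exact UU_disjoint p _ a ha h

theorem ext_of (ha : a ^ p = a) {Y : Over S} (y₁ y₂ : T ⟶ Y)
    (h : ∀ m, jm p hp T a m ≫ y₁ = jm p hp T a m ≫ y₂) : y₁ = y₂ := by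
  obtain ⟨hc⟩ := nonempty_isColimit p hp T a ha
  ext1
  refine Cofan.IsColimit.hom_ext hc _ _ (fun m => ?_)
  exact congrArg (fun f => f.left) (h m)

theorem exists_pt (ha : a ^ p = a) : ∃ y : T ⟶ TwC.const S (MM p),
    ∀ m, jm p hp T a m ≫ y = toUnit (Tm p hp T a m) ≫ TwC.pt S (MM p) m := by
  obtain ⟨hc⟩ := nonempty_isColimit p hp T a ha
  let yl : T.left ⟶ (TwC.const S (MM p)).left := Cofan.IsColimit.desc hc
    (fun m => (UU p (AS1.natCast_eq_zero_of_over p hp T) a m).ι ≫ T.hom ≫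
      Sigma.ι (fun _ : MM p => S) m)
  have hfac : ∀ m, (UU p (AS1.natCast_eq_zero_of_over p hp T) a m).ι ≫ yl =
      (UU p (AS1.natCast_eq_zero_of_over p hp T) a m).ι ≫ T.hom ≫ Sigma.ι (fun _ : MM p => S) m :=
    fun m => Cofan.IsColimit.fac hc _ m
  have hw : yl ≫ (TwC.const S (MM p)).hom = T.hom := by
    refine Cofan.IsColimit.hom_ext hc _ _ (fun m => ?_)
    show (UU p (AS1.natCast_eq_zero_of_over p hp T) a m).ι ≫ yl ≫ _ = _
    rw [← Category.assoc, hfac]
    simp
  refine ⟨Over.homMk yl hw, fun m => ?_⟩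
  ext1
  show (UU p (AS1.natCast_eq_zero_of_over p hp T) a m).ι ≫ yl = _
  rw [hfac]
  rfl

variable (i' : TwC.const S (MM p) ⟶ Red.Ga S)

theorem gaFn_pieces (hi' : ∀ m, Red.gaFn (TwC.pt S (MM p) m ≫ i') = cst p hp m)
    (y : T ⟶ TwC.const S (MM p)) (m : MM p) {W : Over S} (j : W ⟶ T)
    (hy : j ≫ y = toUnit W ≫ TwC.pt S (MM p) m) :
    j.left.appTop (Red.gaFn (y ≫ i')) = cst p (AS1.natCast_eq_zero_of_over p hp W) m := by
  have h1 := GaPts.gaFn_comp j (y ≫ i')
  rw [← Category.assoc, hy, Category.assoc, GaPts.gaFn_comp, hi'] at h1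
  rw [← h1]
  exact map_cst p _ _ _ m

theorem gaFn_of (ha : a ^ p = a) (hi' : ∀ m, Red.gaFn (TwC.pt S (MM p) m ≫ i') = cst p hp m)
    (y : T ⟶ TwC.const S (MM p))
    (hy : ∀ m, jm p hp T a m ≫ y = toUnit (Tm p hp T a m) ≫ TwC.pt S (MM p) m) :
    Red.gaFn (y ≫ i') = a := by
  have key : y ≫ i' = GaPts.ptOfFn a := by
    refine ext_of p hp T a ha _ _ (fun m => ?_)
    apply GaPts.gaFn_injective
    have h1 := gaFn_pieces p hp T i' hi' y m (jm p hp T a m) (hy m)
    have h3 : Red.gaFn (jm p hp T a m ≫ (y ≫ i')) =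
        (jm p hp T a m).left.appTop.hom (Red.gaFn (y ≫ i')) := GaPts.gaFn_comp _ _
    have h4 : Red.gaFn (jm p hp T a m ≫ GaPts.ptOfFn a) = (jm p hp T a m).left.appTop.hom a := by
      rw [GaPts.gaFn_comp, GaPts.gaFn_ptOfFn]
    rw [h3, h4]
    refine h1.trans ?_
    have h2 := res_eq p (AS1.natCast_eq_zero_of_over p hp T) a ha m
    refine Eq.trans ?_ h2.symm
    exact (map_cst p _ _ _ m).symm
  rw [key, GaPts.gaFn_ptOfFn]


theorem pt_unique (ha : a ^ p = a) (hi' : ∀ m, Red.gaFn (TwC.pt S (MM p) m ≫ i') = cst p hp m)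
    (y : T ⟶ TwC.const S (MM p)) (hy : Red.gaFn (y ≫ i') = a) (m : MM p) :
    jm p hp T a m ≫ y = toUnit (Tm p hp T a m) ≫ TwC.pt S (MM p) m := by
  let V : MM p → T.left.Opens :=
    fun m' => y.left ⁻¹ᵁ (Sigma.ι (fun _ : MM p => S) m').opensRange
  have hVU : ∀ m', V m' ≤ UU p (AS1.natCast_eq_zero_of_over p hp T) a m' := by
    intro m'
    let W : Over S := Over.mk ((V m').ι ≫ T.hom)
    let j : W ⟶ T := Over.homMk (V m').ι rfl
    have hjy : j ≫ y = toUnit W ≫ TwC.pt S (MM p) m' := by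
      apply eq_of_range_subset
      rintro _ ⟨x, rfl⟩
      have hx : (V m').ι.base x ∈ V m' := x.2
      exact hx
    have h1 := gaFn_pieces p hp T i' hi' y m' j hjy
    rw [hy] at h1
    apply le_basicOpen_of_isUnit
    unfold ee
    rw [map_prod]
    refine Finset.prod_induction _ IsUnit (fun _ _ => IsUnit.mul) isUnit_one ?_
    intro m'' hm''
    have hne : m'' ≠ m' := (Finset.mem_erase.mp hm'').1
    have h2 : (V m').ι.appTop (a - cst p (AS1.natCast_eq_zero_of_over p hp T) m'') =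
        cst p (AS1.natCast_eq_zero_of_over p hp W) m' -
          cst p (AS1.natCast_eq_zero_of_over p hp W) m'' := by
      rw [map_sub]
      congr 1
      exact map_cst p _ _ _ m''
    rw [h2]
    exact isUnit_cst_sub p _ hne.symm
  have hUV : UU p (AS1.natCast_eq_zero_of_over p hp T) a m ≤ V m := by
    intro x hx
    obtain ⟨m', s, hs⟩ := (sigmaOpenCover (fun _ : MM p => S)).exists_eq (y.left.base x)
    have hxV : x ∈ V m' := ⟨s, hs⟩
    have hxU := hVU m' hxV
    by_cases h : m = m'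
    · subst h; exact hxV
    · exfalso
      have hmem : x ∈ UU p (AS1.natCast_eq_zero_of_over p hp T) a m ⊓
          UU p (AS1.natCast_eq_zero_of_over p hp T) a m' := ⟨hx, hxU⟩
      rw [UU_disjoint p _ a ha h] at hmem
      exact hmem
  apply eq_of_range_subset
  rintro _ ⟨x, rfl⟩
  exact hUV x.2

theorem existsUnique_pt (ha : a ^ p = a)
    (hi' : ∀ m, Red.gaFn (TwC.pt S (MM p) m ≫ i') = cst p hp m) :
    ∃! y : T ⟶ TwC.const S (MM p), Red.gaFn (y ≫ i') = a := by
  obtain ⟨y, hy⟩ := exists_pt p hp T a ha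
  refine ⟨y, gaFn_of p hp T a i' ha hi' y hy, fun y' hy' => ?_⟩
  refine ext_of p hp T a ha _ _ (fun m => ?_)
  rw [hy m, pt_unique p hp T a i' ha hi' y' hy' m]

end Const

end Groth.Agent.Lib.Helper26.AS4
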