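import Mathlib.Tactic
import Groth.Agent.Lib.Helper26.AS3
import Groth.Agent.Lib.Helper26.AS4
import Groth.Agent.Lib.Helper4.QuotAffine

set_option autoImplicit false
set_option maxHeartbeats 400000
set_option linter.unusedVariables false
set_option linter.unusedSectionVars false
set_option linter.style.haveILetI false

universe u
open CategoryTheory MonoidalCategory CartesianMonoidalCategory MonObj GrpObj AlgebraicGeometry Limits
open Groth.Agent.Lib.Helper4
open Groth.Agent.Lib.Helper26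

namespace Groth.Agent.Lib.Helper26.AS5

variable (p : ℕ) [hpp : Fact p.Prime] {S : Scheme.{u}}

theorem gaFn_pow {T : Over S} (z : T ⟶ Red.Ga S) (k : ℕ) : Red.gaFn (z ^ k) = k • Red.gaFn z := by
  induction k with
  | zero => rw [pow_zero, GaPts.gaFn_one, zero_smul]
  | succ k ih => rw [pow_succ, GaPts.gaFn_mul, ih, succ_nsmul]

section
variable (hp : (p : Γ(S, ⊤)) = 0)
  {G' : Over S} [GrpObj G'] (e : G' ≅ TwC.const S (Multiplicative (ZMod p)))
  (he : TwC.IsConstGrp (Multiplicative (ZMod p)) G' e)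
  (i : G' ⟶ Red.Ga S) [hmi : IsMonHom i]
  (hi : Red.gaFn (TwC.pt S (Multiplicative (ZMod p)) (Multiplicative.ofAdd 1) ≫ e.inv ≫ i) = 1)

include he in
theorem pt_pow (k : ℕ) :
    TwC.pt S (Multiplicative (ZMod p)) ((Multiplicative.ofAdd (1 : ZMod p)) ^ k) ≫ e.inv =
      (TwC.pt S (Multiplicative (ZMod p)) (Multiplicative.ofAdd 1) ≫ e.inv) ^ k := by
  induction k with
  | zero =>
    rw [pow_zero, pow_zero]
    have h := he 1 1
    rw [_root_.mul_one] at h
    exact mul_left_cancel (a := TwC.pt S (Multiplicative (ZMod p)) 1 ≫ e.inv)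
      (by rw [h, _root_.mul_one])
  | succ k ih =>
    rw [pow_succ, pow_succ, ← he, ih]

include he hi hmi in
theorem hi' (m : Multiplicative (ZMod p)) :
    Red.gaFn (TwC.pt S (Multiplicative (ZMod p)) m ≫ (e.inv ≫ i)) = AS4.cst p hp m := by
  obtain ⟨k, rfl⟩ : ∃ k : ℕ, m = (Multiplicative.ofAdd (1 : ZMod p)) ^ k := by
    refine ⟨(Multiplicative.toAdd m).val, ?_⟩
    rw [← ofAdd_nsmul, nsmul_eq_mul, _root_.mul_one, ZMod.natCast_zmod_val]
    rfl
  have h1 := MonObj.pow_comp (TwC.pt S (Multiplicative (ZMod p)) (Multiplicative.ofAdd 1) ≫ e.inv) k i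
  rw [← Category.assoc, pt_pow p e he k, h1, gaFn_pow, Category.assoc, hi]
  unfold AS4.cst
  rw [← ofAdd_nsmul, toAdd_ofAdd]
  simp


variable (F : Red.Ga S ⟶ Red.Ga S)
  (hF : ∀ (T : Over S) (x : T ⟶ Red.Ga S), Red.gaFn (x ≫ F) = Red.gaFn x ^ p)

include hp he hi hmi hF in
theorem comp_P : i ≫ (𝟙 (Red.Ga S) * F⁻¹) = 1 := by
  have h1 : i = e.hom ≫ (e.inv ≫ i) := by simp
  rw [h1, Category.assoc]
  have h2 : (e.inv ≫ i) ≫ (𝟙 (Red.Ga S) * F⁻¹) = 1 := by
    ext1
    refine Sigma.hom_ext _ _ (fun m => ?_)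
    have h3 : TwC.pt S (Multiplicative (ZMod p)) m ≫ ((e.inv ≫ i) ≫ (𝟙 (Red.Ga S) * F⁻¹)) =
        TwC.pt S (Multiplicative (ZMod p)) m ≫ 1 := by
      apply GaPts.gaFn_injective
      rw [← Category.assoc, AS1.gaFn_comp_P p F hF, hi' p hp e he i hi m, MonObj.comp_one,
        GaPts.gaFn_one]
      unfold AS4.cst
      rw [AS1.zmodHom_pow, sub_self]
    exact congrArg (fun f => f.left) h3
  rw [h2, MonObj.comp_one]

include hp he hi hmi hF in
theorem isKernel : AlgGrp.IsKernel i (𝟙 (Red.Ga S) * F⁻¹) := by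
  rw [KerPts.isKernel_iff]
  refine ⟨comp_P p hp e he i hi F hF, fun T x hx => ?_⟩
  have ha : Red.gaFn x ^ p = Red.gaFn x := by
    have h := congrArg Red.gaFn hx
    rw [AS1.gaFn_comp_P p F hF, GaPts.gaFn_one] at h
    exact (sub_eq_zero.mp h).symm
  obtain ⟨y, hy, hyu⟩ := AS4.existsUnique_pt p hp T (Red.gaFn x) (e.inv ≫ i) ha
    (hi' p hp e he i hi)
  refine ⟨y ≫ e.inv, ?_, fun y' hy' => ?_⟩
  · apply GaPts.gaFn_injective
    rw [Category.assoc]
    exact hy
  · have h1 : y' ≫ e.hom = y := by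
      apply hyu
      show Red.gaFn ((y' ≫ e.hom) ≫ e.inv ≫ i) = Red.gaFn x
      rw [Category.assoc, Iso.hom_inv_id_assoc, hy']
    rw [← h1, Category.assoc, Iso.hom_inv_id, Category.comp_id]

include hp he hi hmi hF in
theorem main : NonAbH1.IsExactSeq Scheme.fpqcPrecoverage i (𝟙 (Red.Ga S) * F⁻¹) := by
  have hv : IsMonHom (𝟙 (Red.Ga S) * F⁻¹) := AS1.isMonHom_P p F hp hF
  have hk := isKernel p hp e he i hi F hF
  obtain ⟨hfl, hsurj, hqc⟩ := AS3.P_props p F hF
  refine ⟨hmi, hv, ((KerPts.isKernel_iff _ _).mp hk).1,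
    QuotAffine.isPullback_of_isKernel _ _ hk, ?_⟩
  refine ⟨Presieve.singleton (𝟙 (Red.Ga S) * F⁻¹).left,
    Scheme.Hom.singleton_mem_fpqcPrecoverage _, ?_⟩
  rintro S' f ⟨⟩
  exact ⟨𝟙 _, Category.id_comp _⟩

end

end Groth.Agent.Lib.Helper26.AS5
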