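import Mathlib

set_option maxHeartbeats 400000

namespace Groth.Agent.Lib.Helper26.AddPoly

open Polynomial

universe u

section coeffs

variable {A : Type u} [CommRing A]

/-- the exponent vector `(k, l)` -/
noncomputable def ex (k l : ℕ) : Fin 2 →₀ ℕ := Finsupp.single 0 k + Finsupp.single 1 l

lemma ex_inj {k l k' l' : ℕ} : ex k l = ex k' l' ↔ k = k' ∧ l = l' := by
  constructor
  · intro h
    have h0 := DFunLike.congr_fun h 0
    have h1 := DFunLike.congr_fun h 1
    simp [ex] at h0 h1
    exact ⟨h0, h1⟩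
  · rintro ⟨rfl, rfl⟩; rfl

lemma X_pow_mul_X_pow (k l : ℕ) :
    (MvPolynomial.X 0 ^ k * MvPolynomial.X 1 ^ l : MvPolynomial (Fin 2) A) =
      MvPolynomial.monomial (ex k l) 1 := by
  rw [MvPolynomial.X_pow_eq_monomial, MvPolynomial.X_pow_eq_monomial, MvPolynomial.monomial_mul,
    one_mul]
  rfl

lemma coeff_add_pow (k l n : ℕ) :
    MvPolynomial.coeff (ex k l) ((MvPolynomial.X 0 + MvPolynomial.X 1 : MvPolynomial (Fin 2) A) ^ n)
      = if n = k + l then (n.choose k : A) else 0 := by
  rw [add_pow, MvPolynomial.coeff_sum]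
  have hterm : ∀ m ∈ Finset.range (n + 1),
      MvPolynomial.coeff (ex k l)
        ((MvPolynomial.X 0 ^ m * MvPolynomial.X 1 ^ (n - m) * (n.choose m : MvPolynomial (Fin 2) A)))
      = if m = k then (if n - m = l then (n.choose m : A) else 0) else 0 := by
    intro m _
    rw [X_pow_mul_X_pow, ← map_natCast (MvPolynomial.C : A →+* MvPolynomial (Fin 2) A),
      mul_comm, MvPolynomial.coeff_C_mul, MvPolynomial.coeff_monomial]
    by_cases hm : m = k
    · subst hm
      by_cases hl : n - m = l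
      · subst hl; simp
      · have : ¬ ex m (n - m) = ex m l := fun h => hl (ex_inj.mp h).2
        simp [this, hl]
    · have : ¬ ex m (n - m) = ex k l := fun h => hm (ex_inj.mp h).1
      simp [this, hm]
  rw [Finset.sum_congr rfl hterm, Finset.sum_ite_eq']
  by_cases hn : n = k + l
  · subst hn
    have : k ∈ Finset.range (k + l + 1) := Finset.mem_range.mpr (by omega)
    simp [this]
  · by_cases hk : k ∈ Finset.range (n + 1)
    · have hk' := Finset.mem_range.mp hk
      have : ¬ n - k = l := by omega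
      simp [hk, this, hn]
    · simp [hk, hn]

lemma coeff_X0_pow (k l n : ℕ) :
    MvPolynomial.coeff (ex k l) ((MvPolynomial.X 0 : MvPolynomial (Fin 2) A) ^ n)
      = if n = k ∧ l = 0 then 1 else 0 := by
  have : (MvPolynomial.X 0 : MvPolynomial (Fin 2) A) ^ n = MvPolynomial.monomial (ex n 0) 1 := by
    rw [← X_pow_mul_X_pow, pow_zero, mul_one]
  rw [this, MvPolynomial.coeff_monomial]
  by_cases h : n = k ∧ l = 0
  · obtain ⟨rfl, rfl⟩ := h; simp
  · have : ¬ ex n 0 = ex k l := fun h' => h ⟨(ex_inj.mp h').1, (ex_inj.mp h').2.symm⟩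
    simp [this, h]

lemma coeff_X1_pow (k l n : ℕ) :
    MvPolynomial.coeff (ex k l) ((MvPolynomial.X 1 : MvPolynomial (Fin 2) A) ^ n)
      = if n = l ∧ k = 0 then 1 else 0 := by
  have : (MvPolynomial.X 1 : MvPolynomial (Fin 2) A) ^ n = MvPolynomial.monomial (ex 0 n) 1 := by
    rw [← X_pow_mul_X_pow, pow_zero, one_mul]
  rw [this, MvPolynomial.coeff_monomial]
  by_cases h : n = l ∧ k = 0
  · obtain ⟨rfl, rfl⟩ := h; simp
  · have : ¬ ex 0 n = ex k l := fun h' => h ⟨(ex_inj.mp h').2, (ex_inj.mp h').1.symm⟩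
    simp [this, h]

/-- coefficient of `aeval y q` as a sum -/
lemma coeff_aeval (y : MvPolynomial (Fin 2) A) (q : A[X]) (e : Fin 2 →₀ ℕ) :
    MvPolynomial.coeff e (Polynomial.aeval y q) =
      ∑ i ∈ Finset.range (q.natDegree + 1), q.coeff i * MvPolynomial.coeff e (y ^ i) := by
  rw [Polynomial.aeval_eq_sum_range, MvPolynomial.coeff_sum]
  refine Finset.sum_congr rfl fun i _ => ?_
  rw [MvPolynomial.coeff_smul, smul_eq_mul]

lemma coeff_aeval_add (q : A[X]) (k l : ℕ) :
    MvPolynomial.coeff (ex k l)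
      (Polynomial.aeval (MvPolynomial.X 0 + MvPolynomial.X 1 : MvPolynomial (Fin 2) A) q)
      = q.coeff (k + l) * ((k + l).choose k : A) := by
  rw [coeff_aeval]
  simp only [coeff_add_pow, mul_ite, mul_zero]
  rw [Finset.sum_ite_eq']
  by_cases h : k + l ∈ Finset.range (q.natDegree + 1)
  · simp [h]
  · have : q.coeff (k + l) = 0 := by
      apply Polynomial.coeff_eq_zero_of_natDegree_lt
      simp only [Finset.mem_range, not_lt] at h
      omega
    simp [h, this]

lemma coeff_aeval_X0 (q : A[X]) (k l : ℕ) :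
    MvPolynomial.coeff (ex k l)
      (Polynomial.aeval (MvPolynomial.X 0 : MvPolynomial (Fin 2) A) q)
      = if l = 0 then q.coeff k else 0 := by
  rw [coeff_aeval]
  simp only [coeff_X0_pow, mul_ite, mul_zero, mul_one]
  by_cases hl : l = 0
  · subst hl
    simp only [and_true, if_true]
    rw [Finset.sum_ite_eq']
    by_cases h : k ∈ Finset.range (q.natDegree + 1)
    · simp [h]
    · have : q.coeff k = 0 := by
        apply Polynomial.coeff_eq_zero_of_natDegree_lt
        simp only [Finset.mem_range, not_lt] at h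
        omega
      simp [h, this]
  · simp [hl]

lemma coeff_aeval_X1 (q : A[X]) (k l : ℕ) :
    MvPolynomial.coeff (ex k l)
      (Polynomial.aeval (MvPolynomial.X 1 : MvPolynomial (Fin 2) A) q)
      = if k = 0 then q.coeff l else 0 := by
  rw [coeff_aeval]
  simp only [coeff_X1_pow, mul_ite, mul_zero, mul_one]
  by_cases hk : k = 0
  · subst hk
    simp only [and_true, if_true]
    rw [Finset.sum_ite_eq']
    by_cases h : l ∈ Finset.range (q.natDegree + 1)
    · simp [h]
    · have : q.coeff l = 0 := by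
        apply Polynomial.coeff_eq_zero_of_natDegree_lt
        simp only [Finset.mem_range, not_lt] at h
        omega
      simp [h, this]
  · simp [hk]

/-- coefficients of elements of the monomial ideal vanish below the bound -/
lemma coeff_of_mem (N : ℕ) (f : MvPolynomial (Fin 2) A)
    (hf : f ∈ Ideal.span ({MvPolynomial.X 0 ^ N, MvPolynomial.X 1 ^ N} :
      Set (MvPolynomial (Fin 2) A))) (k l : ℕ) (hk : k < N) (hl : l < N) :
    MvPolynomial.coeff (ex k l) f = 0 := by
  rw [Ideal.mem_span_pair] at hf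
  obtain ⟨a, b, rfl⟩ := hf
  rw [MvPolynomial.coeff_add, MvPolynomial.X_pow_eq_monomial, MvPolynomial.X_pow_eq_monomial,
    MvPolynomial.coeff_mul_monomial', MvPolynomial.coeff_mul_monomial']
  have h0 : ¬ (Finsupp.single (0 : Fin 2) N ≤ ex k l) := by
    intro h
    have := h 0
    simp [ex] at this
    omega
  have h1 : ¬ (Finsupp.single (1 : Fin 2) N ≤ ex k l) := by
    intro h
    have := h 1
    simp [ex] at this
    omega
  simp [h0, h1]

end coeffs

section part1

variable (p : ℕ) [hp : Fact p.Prime] (A : Type u) [CommRing A] [CharP A p]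

lemma choose_mul_p (m : ℕ) : ((p * m).choose p : A) = (m : A) := by
  have h := Choose.choose_modEq_choose_mod_mul_choose_div_nat (n := p * m) (k := p) (p := p)
  have hp0 : 0 < p := hp.out.pos
  rw [Nat.mul_mod_right, Nat.mod_self, Nat.choose_zero_right, one_mul,
    Nat.mul_div_cancel_left _ hp0, Nat.div_self hp0, Nat.choose_one_right] at h
  exact (CharP.natCast_eq_natCast A p).mpr h

lemma part1_forward (q : A[X]) (hq : q.natDegree < p ^ 2)
    (h : Polynomial.aeval (MvPolynomial.X 0 + MvPolynomial.X 1 : MvPolynomial (Fin 2) A) q -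
            Polynomial.aeval (MvPolynomial.X 0 : MvPolynomial (Fin 2) A) q -
            Polynomial.aeval (MvPolynomial.X 1 : MvPolynomial (Fin 2) A) q ∈
          Ideal.span ({MvPolynomial.X 0 ^ p ^ 2, MvPolynomial.X 1 ^ p ^ 2} :
            Set (MvPolynomial (Fin 2) A))) :
    ∃ a₁ ap : A, q = Polynomial.C a₁ * X + Polynomial.C ap * X ^ p := by
  have hpp : p.Prime := hp.out
  have hp2 : 2 ≤ p := hpp.two_le
  have key : ∀ k l : ℕ, k < p ^ 2 → l < p ^ 2 →
      q.coeff (k + l) * ((k + l).choose k : A) - (if l = 0 then q.coeff k else 0)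
        - (if k = 0 then q.coeff l else 0) = 0 := by
    intro k l hk hl
    have := coeff_of_mem (p ^ 2) _ h k l hk hl
    rwa [MvPolynomial.coeff_sub, MvPolynomial.coeff_sub, coeff_aeval_add, coeff_aeval_X0,
      coeff_aeval_X1] at this
  have hpos : 0 < p ^ 2 := by positivity
  have h0 : q.coeff 0 = 0 := by
    have := key 0 0 hpos hpos
    simp at this
    exact this
  have hunit : ∀ n : ℕ, ¬ p ∣ n → ∀ a : A, a * (n : A) = 0 → a = 0 := by
    intro n hn a ha
    have hu : IsUnit (n : A) := (CharP.isUnit_natCast_iff hpp).mpr hn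
    exact (hu.mul_left_eq_zero).mp ha
  have hz : ∀ n : ℕ, n ≠ 1 → n ≠ p → q.coeff n = 0 := by
    intro n hn1 hnp
    by_cases hn0 : n = 0
    · subst hn0; exact h0
    by_cases hlt : n < p ^ 2
    swap
    · exact Polynomial.coeff_eq_zero_of_natDegree_lt (by omega)
    by_cases hdvd : p ∣ n
    · obtain ⟨m, rfl⟩ := hdvd
      have hm1 : m ≠ 1 := fun h => hnp (by rw [h, mul_one])
      have hm0 : m ≠ 0 := fun h => hn0 (by rw [h, mul_zero])
      have hmp : m < p := by
        have : p * m < p * p := by rwa [pow_two] at hlt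
        exact Nat.lt_of_mul_lt_mul_left this
      have hk := key p (p * (m - 1)) (by nlinarith) (by
        have : p * (m - 1) < p * m := Nat.mul_lt_mul_of_pos_left (by omega) (by omega)
        omega)
      have hsum : p + p * (m - 1) = p * m := by
        obtain ⟨m', rfl⟩ := Nat.exists_eq_succ_of_ne_zero hm0
        simp [Nat.mul_succ, add_comm]
      have hne : ¬ p * (m - 1) = 0 := by
        have : 0 < p * (m - 1) := Nat.mul_pos (by omega) (by omega)
        omega
      have hpne : ¬ p = 0 := by omega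
      rw [hsum, choose_mul_p, if_neg hne, if_neg hpne, sub_zero, sub_zero] at hk
      refine hunit m ?_ _ hk
      intro hd
      exact absurd (Nat.le_of_dvd (by omega) hd) (by omega)
    · have hk := key 1 (n - 1) (by omega) (by omega)
      have hsum : 1 + (n - 1) = n := by omega
      have hne : ¬ n - 1 = 0 := by omega
      rw [hsum, Nat.choose_one_right, if_neg hne, if_neg one_ne_zero, sub_zero, sub_zero] at hk
      exact hunit n hdvd _ hk
  refine ⟨q.coeff 1, q.coeff p, ?_⟩
  ext n
  rw [Polynomial.coeff_add, Polynomial.coeff_C_mul, Polynomial.coeff_C_mul, Polynomial.coeff_X,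
    Polynomial.coeff_X_pow]
  by_cases hn1 : n = 1
  · subst hn1
    have : ¬ (1 = p) := by omega
    simp [this]
  by_cases hnp : n = p
  · subst hnp
    have : ¬ (1 = n) := by omega
    simp [this]
  · rw [hz n hn1 hnp]
    have h1 : ¬ (1 = n) := fun h => hn1 h.symm
    simp [h1, hnp]

lemma part1_backward (a₁ ap : A) :
    Polynomial.aeval (MvPolynomial.X 0 + MvPolynomial.X 1 : MvPolynomial (Fin 2) A)
        (Polynomial.C a₁ * X + Polynomial.C ap * X ^ p) -
      Polynomial.aeval (MvPolynomial.X 0 : MvPolynomial (Fin 2) A)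
        (Polynomial.C a₁ * X + Polynomial.C ap * X ^ p) -
      Polynomial.aeval (MvPolynomial.X 1 : MvPolynomial (Fin 2) A)
        (Polynomial.C a₁ * X + Polynomial.C ap * X ^ p) ∈
      Ideal.span ({MvPolynomial.X 0 ^ p ^ 2, MvPolynomial.X 1 ^ p ^ 2} :
        Set (MvPolynomial (Fin 2) A)) := by
  have : Polynomial.aeval (MvPolynomial.X 0 + MvPolynomial.X 1 : MvPolynomial (Fin 2) A)
        (Polynomial.C a₁ * X + Polynomial.C ap * X ^ p) -
      Polynomial.aeval (MvPolynomial.X 0 : MvPolynomial (Fin 2) A)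
        (Polynomial.C a₁ * X + Polynomial.C ap * X ^ p) -
      Polynomial.aeval (MvPolynomial.X 1 : MvPolynomial (Fin 2) A)
        (Polynomial.C a₁ * X + Polynomial.C ap * X ^ p) = 0 := by
    simp only [map_add, map_mul, map_pow, Polynomial.aeval_C, Polynomial.aeval_X]
    rw [add_pow_char]
    ring
  rw [this]
  exact Ideal.zero_mem _

theorem part1 (q : A[X]) (hq : q.natDegree < p ^ 2) :
    (Polynomial.aeval (MvPolynomial.X 0 + MvPolynomial.X 1 : MvPolynomial (Fin 2) A) q -
            Polynomial.aeval (MvPolynomial.X 0 : MvPolynomial (Fin 2) A) q -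
            Polynomial.aeval (MvPolynomial.X 1 : MvPolynomial (Fin 2) A) q ∈
          Ideal.span ({MvPolynomial.X 0 ^ p ^ 2, MvPolynomial.X 1 ^ p ^ 2} :
            Set (MvPolynomial (Fin 2) A)) ↔
        ∃ a₁ ap : A, q = Polynomial.C a₁ * X + Polynomial.C ap * X ^ p) := by
  constructor
  · exact part1_forward p A q hq
  · rintro ⟨a₁, ap, rfl⟩
    exact part1_backward p A a₁ ap

end part1

section part2

variable (p : ℕ) [hp : Fact p.Prime] (A : Type u) [CommRing A] [CharP A p]

/-- the truncated polynomial ring -/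
abbrev R : Type u := A[X] ⧸ Ideal.span ({X ^ p ^ 2} : Set A[X])

instance charR : CharP (R p A) p := by
  apply CharP.quotient'
  intro n hn
  rw [Ideal.mem_span_singleton, ← map_natCast (Polynomial.C : A →+* A[X]),
    Polynomial.X_pow_dvd_iff] at hn
  have h0 := hn 0 (by have := hp.out.pos; positivity)
  rw [Polynomial.coeff_C_zero] at h0
  rw [← map_natCast (Polynomial.C : A →+* A[X]), h0, map_zero]

/-- the class of `X` -/
noncomputable def x : R p A := Ideal.Quotient.mk _ X

lemma x_pow : (x p A) ^ (p ^ 2) = 0 := by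
  unfold x
  rw [← map_pow]
  exact Ideal.Quotient.eq_zero_iff_mem.mpr (Ideal.subset_span rfl)

lemma mk_eq (a₁ ap : A) :
    Ideal.Quotient.mk (Ideal.span ({X ^ p ^ 2} : Set A[X]))
      (Polynomial.C a₁ * X + Polynomial.C ap * X ^ p) =
    algebraMap A (R p A) a₁ * x p A + algebraMap A (R p A) ap * (x p A) ^ p := by
  simp only [map_add, map_mul, map_pow, Polynomial.C_eq_algebraMap, Ideal.Quotient.mk_algebraMap]
  rfl

lemma hom_ext (f g : R p A →ₐ[A] R p A) (h : f (x p A) = g (x p A)) : f = g := by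
  apply Ideal.Quotient.algHom_ext
  apply Polynomial.algHom_ext
  exact h

lemma backward (a₁ ap : A) (φ : R p A →ₐ[A] R p A)
    (hφ : φ (x p A) = algebraMap A (R p A) a₁ * x p A + algebraMap A (R p A) ap * (x p A) ^ p)
    (hu : IsUnit a₁) : Function.Bijective φ := by
  obtain ⟨b, hb⟩ := hu.exists_right_inv
  set α := algebraMap A (R p A) a₁ with hα
  set β := algebraMap A (R p A) ap with hβ
  set γ := algebraMap A (R p A) b with hγ
  have h1 : α * γ = 1 := by rw [hα, hγ, ← map_mul, hb, map_one]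
  have h2 : α ^ p * γ ^ p = 1 := by rw [← mul_pow, h1, one_pow]
  have h3 : (x p A) ^ (p * p) = 0 := by rw [← pow_two]; exact x_pow p A
  set y : R p A := γ * x p A - β * γ ^ (p + 1) * (x p A) ^ p with hy
  have hyN : y ^ (p ^ 2) = 0 := by
    rw [hy, sub_pow_char_pow, mul_pow, mul_pow, x_pow, ← pow_mul, mul_comm p (p ^ 2), pow_mul,
      x_pow, zero_pow hp.out.ne_zero, mul_zero, mul_zero, sub_zero]
  let ψ : R p A →ₐ[A] R p A :=
    Ideal.Quotient.liftₐ (Ideal.span ({X ^ p ^ 2} : Set A[X])) (Polynomial.aeval y) (by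
      intro a ha
      rw [Ideal.mem_span_singleton] at ha
      obtain ⟨w, rfl⟩ := ha
      rw [map_mul, map_pow, Polynomial.aeval_X, hyN, zero_mul])
  have hψx : ψ (x p A) = y := by
    change (Polynomial.aeval y) X = y
    rw [Polynomial.aeval_X]
  have hφγ : ∀ a : A, φ (algebraMap A (R p A) a) = algebraMap A (R p A) a := fun a => φ.commutes a
  have hψγ : ∀ a : A, ψ (algebraMap A (R p A) a) = algebraMap A (R p A) a := fun a => ψ.commutes a
  have hφψ : φ.comp ψ = AlgHom.id A (R p A) := by
    apply hom_ext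
    rw [AlgHom.comp_apply, hψx, hy, map_sub, map_mul, map_mul, map_mul, map_pow, map_pow, hφ,
      AlgHom.id_apply]
    rw [hφγ, hφγ, add_pow_char, mul_pow, mul_pow, ← pow_mul]
    linear_combination (x p A) * h1 - γ * β * (x p A) ^ p * h2
      - β * γ ^ (p + 1) * β ^ p * h3
  have hψφ : ψ.comp φ = AlgHom.id A (R p A) := by
    apply hom_ext
    rw [AlgHom.comp_apply, hφ, map_add, map_mul, map_mul, map_pow, hψx, hψγ, hψγ, hy,
      AlgHom.id_apply]
    rw [sub_pow_char, mul_pow, mul_pow, ← pow_mul]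
    linear_combination (x p A - β * γ ^ p * (x p A) ^ p) * h1
      - β * (β * γ ^ (p + 1)) ^ p * h3
  constructor
  · intro u v huv
    have := congrArg ψ huv
    rwa [← AlgHom.comp_apply, ← AlgHom.comp_apply, hψφ] at this
  · intro u
    exact ⟨ψ u, by rw [← AlgHom.comp_apply, hφψ]; rfl⟩

omit hp [CharP A p] in
lemma phi_mk (φ : R p A →ₐ[A] R p A) (h : A[X])
    (hφ : φ (x p A) = Ideal.Quotient.mk _ h) (g : A[X]) :
    φ (Ideal.Quotient.mk _ g) = Ideal.Quotient.mk _ (g.comp h) := by
  have e1 : (Ideal.Quotient.mk (Ideal.span ({X ^ p ^ 2} : Set A[X])) g : R p A) =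
      Polynomial.aeval (x p A) g := by
    have := Polynomial.aeval_algHom_apply
      (Ideal.Quotient.mkₐ A (Ideal.span ({X ^ p ^ 2} : Set A[X]))) (X : A[X]) g
    rw [Polynomial.aeval_X_left_apply] at this
    exact this.symm
  rw [e1, ← Polynomial.aeval_algHom_apply, hφ]
  have := Polynomial.aeval_algHom_apply
      (Ideal.Quotient.mkₐ A (Ideal.span ({X ^ p ^ 2} : Set A[X]))) h g
  rw [Ideal.Quotient.mkₐ_eq_mk] at this
  rw [this]
  rfl

lemma forward (a₁ ap : A) (φ : R p A →ₐ[A] R p A)
    (hφ : φ (x p A) = Ideal.Quotient.mk _ (Polynomial.C a₁ * X + Polynomial.C ap * X ^ p))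
    (hb : Function.Bijective φ) : IsUnit a₁ := by
  have hpp : p.Prime := hp.out
  have hp2 : 2 ≤ p := hpp.two_le
  obtain ⟨r, hr⟩ := hb.2 (x p A)
  obtain ⟨g, rfl⟩ := Ideal.Quotient.mk_surjective r
  rw [phi_mk p A φ _ hφ g] at hr
  unfold x at hr
  rw [Ideal.Quotient.eq, Ideal.mem_span_singleton, Polynomial.X_pow_dvd_iff] at hr
  have h1 := hr 1 (by nlinarith)
  rw [Polynomial.coeff_sub, Polynomial.coeff_X_one, sub_eq_zero] at h1
  -- coefficient 1 via derivative
  set h : A[X] := Polynomial.C a₁ * X + Polynomial.C ap * X ^ p with hh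
  have hc : (g.comp h).coeff 1 = (Polynomial.derivative (g.comp h)).coeff 0 := by
    rw [Polynomial.coeff_derivative]; simp
  rw [hc, Polynomial.derivative_comp, Polynomial.coeff_zero_eq_eval_zero, Polynomial.eval_mul,
    Polynomial.eval_comp] at h1
  have hh0 : Polynomial.eval 0 h = 0 := by
    have : p ≠ 0 := by omega
    simp [hh, this]
  have hh1 : Polynomial.eval 0 (Polynomial.derivative h) = a₁ := by
    simp [hh, Polynomial.derivative_X_pow]
  rw [hh0, hh1] at h1
  exact IsUnit.of_mul_eq_one _ h1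

theorem part2 (a₁ ap : A)
    (φ : (A[X] ⧸ Ideal.span ({X ^ p ^ 2} : Set A[X])) →ₐ[A] (A[X] ⧸ Ideal.span ({X ^ p ^ 2} : Set A[X])))
    (hφ : φ (Ideal.Quotient.mk (Ideal.span ({X ^ p ^ 2} : Set A[X])) X) =
          Ideal.Quotient.mk (Ideal.span ({X ^ p ^ 2} : Set A[X]))
            (Polynomial.C a₁ * X + Polynomial.C ap * X ^ p)) :
    (Function.Bijective φ ↔ IsUnit a₁) := by
  constructor
  · exact forward p A a₁ ap φ hφ
  · intro hu
    apply backward p A a₁ ap φ _ hu
    rw [← mk_eq]
    exact hφ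

end part2

theorem main (p : ℕ) [Fact p.Prime] (A : Type u) [CommRing A] [CharP A p] :
    (∀ q : A[X], q.natDegree < p ^ 2 →
      (Polynomial.aeval (MvPolynomial.X 0 + MvPolynomial.X 1 : MvPolynomial (Fin 2) A) q -
            Polynomial.aeval (MvPolynomial.X 0 : MvPolynomial (Fin 2) A) q -
            Polynomial.aeval (MvPolynomial.X 1 : MvPolynomial (Fin 2) A) q ∈
          Ideal.span ({MvPolynomial.X 0 ^ p ^ 2, MvPolynomial.X 1 ^ p ^ 2} : Set (MvPolynomial (Fin 2) A)) ↔
        ∃ a₁ ap : A, q = Polynomial.C a₁ * X + Polynomial.C ap * X ^ p)) ∧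
    (∀ (a₁ ap : A) (φ : (A[X] ⧸ Ideal.span ({X ^ p ^ 2} : Set A[X])) →ₐ[A] (A[X] ⧸ Ideal.span ({X ^ p ^ 2} : Set A[X]))),
      φ (Ideal.Quotient.mk (Ideal.span ({X ^ p ^ 2} : Set A[X])) X) =
          Ideal.Quotient.mk (Ideal.span ({X ^ p ^ 2} : Set A[X])) (Polynomial.C a₁ * X + Polynomial.C ap * X ^ p) →
        (Function.Bijective φ ↔ IsUnit a₁)) :=
  ⟨fun q hq => part1 p A q hq, fun a₁ ap φ hφ => part2 p A a₁ ap φ hφ⟩

end Groth.Agent.Lib.Helper26.AddPoly
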