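import Mathlib
import Groth.Prelude.Def_DCoh4
import Groth.Prelude.Def_CxOX
import Groth.Agent.Lib.Helper26.AffAcycA
import Groth.Agent.Lib.Helper26.RGPushC
import Groth.Agent.Lib.Helper26.MVMod4
import Groth.Agent.Lib.Helper26.KInjComp

set_option maxHeartbeats 400000
set_option linter.style.haveILetI false
set_option linter.unusedSectionVars false

universe u

open CategoryTheory CategoryTheory.Limits AlgebraicGeometry Opposite ZeroObject

namespace Groth.Agent.Lib.Helper26.AffAcycB

open Groth.Agent.Lib.Helper26.RGPushA Groth.Agent.Lib.Helper26.RGPushC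
  Groth.Agent.Lib.Helper26.MVMod4 Groth.Agent.Lib.Helper26.AffAcycA

attribute [local instance] HasDerivedCategory.standard

variable {Y : Scheme.{u}}

/-- for a chain map between K-injective complexes, if `RΓ` of its class is an isomorphism then
it is a quasi-isomorphism on global sections -/
lemma quasiIso_gamma_of_isIso [DCoh.HasRΓ Y] {I₁ I₂ : CochainComplex Y.Modules ℤ}
    [I₁.IsKInjective] [I₂.IsKInjective] (g : I₁ ⟶ I₂)
    (h : IsIso ((DCoh.RΓ Y).map (DerivedCategory.Q.map g))) :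
    QuasiIso (((DCoh.gammaAb Y).mapHomologicalComplex (ComplexShape.up ℤ)).map g) := by
  let η := (DCoh.gammaKh Y).totalRightDerivedUnit DerivedCategory.Qh
      (HomotopyCategory.quasiIso Y.Modules (ComplexShape.up ℤ))
  have nat := η.naturality ((q Y).map g)
  have h1 : IsIso (η.app ((q Y).obj I₁)) :=
    Groth.Agent.Lib.Helper26.KInjComp.isIso_unit_of_isKInjective (DCoh.gammaKh Y) _ η I₁
  have h2 : IsIso (η.app ((q Y).obj I₂)) :=
    Groth.Agent.Lib.Helper26.KInjComp.isIso_unit_of_isKInjective (DCoh.gammaKh Y) _ η I₂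
  have h3 : IsIso ((DerivedCategory.Qh ⋙ DCoh.RΓ Y).map ((q Y).map g)) := h
  have h4 : (DCoh.gammaKh Y).map ((q Y).map g) = η.app ((q Y).obj I₁) ≫
      (DerivedCategory.Qh ⋙ DCoh.RΓ Y).map ((q Y).map g) ≫ inv (η.app ((q Y).obj I₂)) := by
    rw [← Category.assoc, ← nat, Category.assoc, IsIso.hom_inv_id, Category.comp_id]
  have h5 : IsIso ((DCoh.gammaKh Y).map ((q Y).map g)) := by
    rw [h4]
    infer_instance
  have h6 : IsIso (DerivedCategory.Q.map
      (((DCoh.gammaAb Y).mapHomologicalComplex (ComplexShape.up ℤ)).map g)) := h5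
  exact (DerivedCategory.isIso_Q_map_iff_quasiIso _ _).1 h6

theorem main [hR : ∀ U : Y.Opens, DCoh.HasRΓ (U : Scheme.{u})] {G₁ G₂ : DCoh.D Y} (φ : G₁ ⟶ G₂)
    (h : ∀ U : Y.Opens, IsAffineOpen U →
      IsIso ((DCoh.RΓ (U : Scheme.{u})).map ((DCoh.restrictD U.ι).map φ))) : IsIso φ := by
  obtain ⟨I₁, hI₁, -, ⟨e₁⟩⟩ := exists_kinj G₁
  obtain ⟨I₂, hI₂, -, ⟨e₂⟩⟩ := exists_kinj G₂
  obtain ⟨g', hg'⟩ := (CochainComplex.IsKInjective.Qh_map_bijective ((q Y).obj I₁) I₂).surjective
    (e₁.hom ≫ φ ≫ e₂.inv)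
  obtain ⟨g, rfl⟩ := (q Y).map_surjective g'
  have hg : DerivedCategory.Q.map g = e₁.hom ≫ φ ≫ e₂.inv := hg'
  have hφ : φ = e₁.inv ≫ DerivedCategory.Q.map g ≫ e₂.hom := by
    rw [hg]
    simp
  suffices IsIso (DerivedCategory.Q.map g) by
    rw [hφ]
    infer_instance
  rw [DerivedCategory.isIso_Q_map_iff_quasiIso, quasiIso_iff_acyclic_mappingCone]
  apply acyclic_of_affine
  intro U hU
  have h1 : IsIso ((DCoh.RΓ (U : Scheme.{u})).map
      ((DCoh.restrictD U.ι).map (DerivedCategory.Q.map g))) := by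
    have := h U hU
    rw [hg]
    simp only [Functor.map_comp]
    infer_instance
  have h2 : IsIso ((DCoh.RΓ (U : Scheme.{u})).map
      (DerivedCategory.Q.map ((DCoh.restrictCx U).map g))) := by
    have e := Functor.isoWhiskerRight
      (Scheme.Modules.restrictFunctor U.ι).mapDerivedCategoryFactors (DCoh.RΓ (U : Scheme.{u}))
    exact (NatIso.isIso_map_iff e g).1 h1
  haveI : CochainComplex.IsKInjective ((DCoh.restrictCx U).obj I₁) := isKInjective_restrict U I₁
  haveI : CochainComplex.IsKInjective ((DCoh.restrictCx U).obj I₂) := isKInjective_restrict U I₂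
  have h3 := quasiIso_gamma_of_isIso ((DCoh.restrictCx U).map g) h2
  rw [quasiIso_iff_acyclic_mappingCone] at h3
  intro n
  exact (h3 n).of_iso
    ((CochainComplex.mappingCone.mapHomologicalComplexIso ((DCoh.restrictCx U).map g)
      (DCoh.gammaAb (U : Scheme.{u}))).symm ≪≫
      (((DCoh.gammaAb (U : Scheme.{u})).mapHomologicalComplex (ComplexShape.up ℤ)).mapIso
        (CochainComplex.mappingCone.mapHomologicalComplexIso g
          (Scheme.Modules.restrictFunctor U.ι))).symm)

end Groth.Agent.Lib.Helper26.AffAcycB
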