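import Mathlib

/-!
# helper26 — transfer of a group-object structure along a morphism `j : G ⟶ H`
such that `j`, `j ⊗ j`, `(j ⊗ j) ⊗ j` are "epi with unique extension" for maps into `H`.
-/

set_option autoImplicit false
universe v u

namespace Groth.Agent.Lib.Helper26.AffGrp0

open CategoryTheory MonoidalCategory CartesianMonoidalCategory MonObj

variable {C : Type u} [Category.{v} C] [CartesianMonoidalCategory C]

section
variable {G H : C} [GrpObj G] (j : G ⟶ H)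
  (U1 : ∀ a b : H ⟶ H, j ≫ a = j ≫ b → a = b)
  (U3 : ∀ a b : (H ⊗ H) ⊗ H ⟶ H, ((j ⊗ₘ j) ⊗ₘ j) ≫ a = ((j ⊗ₘ j) ⊗ₘ j) ≫ b → a = b)
  (mulH : H ⊗ H ⟶ H) (hmul : (j ⊗ₘ j) ≫ mulH = μ[G] ≫ j)
  (invH : H ⟶ H) (hinv : j ≫ invH = ι[G] ≫ j)

include U1 in
theorem U1l (a b : 𝟙_ C ⊗ H ⟶ H) (h : (𝟙_ C ◁ j) ≫ a = (𝟙_ C ◁ j) ≫ b) : a = b := by
  have : (λ_ H).inv ≫ a = (λ_ H).inv ≫ b := by
    apply U1
    rw [← Category.assoc, ← Category.assoc, leftUnitor_inv_naturality, Category.assoc,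
      Category.assoc, h]
  exact (cancel_epi _).1 this

include U1 in
theorem U1r (a b : H ⊗ 𝟙_ C ⟶ H) (h : (j ▷ 𝟙_ C) ≫ a = (j ▷ 𝟙_ C) ≫ b) : a = b := by
  have : (ρ_ H).inv ≫ a = (ρ_ H).inv ≫ b := by
    apply U1
    rw [← Category.assoc, ← Category.assoc, rightUnitor_inv_naturality, Category.assoc,
      Category.assoc, h]
  exact (cancel_epi _).1 this

include hmul in
theorem one_mul_aux :
    (𝟙_ C ◁ j) ≫ ((η[G] ≫ j) ▷ H) ≫ mulH = (𝟙_ C ◁ j) ≫ (λ_ H).hom := by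
  calc (𝟙_ C ◁ j) ≫ ((η[G] ≫ j) ▷ H) ≫ mulH
      = (η[G] ▷ G) ≫ (j ⊗ₘ j) ≫ mulH := by
        rw [MonoidalCategory.tensorHom_def, comp_whiskerRight, Category.assoc, Category.assoc,
          whisker_exchange_assoc, whisker_exchange_assoc]
    _ = (η[G] ▷ G) ≫ μ[G] ≫ j := by rw [hmul]
    _ = (𝟙_ C ◁ j) ≫ (λ_ H).hom := by
        rw [MonObj.one_mul_assoc, leftUnitor_naturality]

include hmul in
theorem mul_one_aux :
    (j ▷ 𝟙_ C) ≫ (H ◁ (η[G] ≫ j)) ≫ mulH = (j ▷ 𝟙_ C) ≫ (ρ_ H).hom := by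
  calc (j ▷ 𝟙_ C) ≫ (H ◁ (η[G] ≫ j)) ≫ mulH
      = (G ◁ η[G]) ≫ (j ⊗ₘ j) ≫ mulH := by
        rw [MonoidalCategory.tensorHom_def, MonoidalCategory.whiskerLeft_comp, Category.assoc,
          Category.assoc, ← whisker_exchange_assoc]
    _ = (G ◁ η[G]) ≫ μ[G] ≫ j := by rw [hmul]
    _ = (j ▷ 𝟙_ C) ≫ (ρ_ H).hom := by
        rw [MonObj.mul_one_assoc, rightUnitor_naturality]

include hmul in
theorem mul_assoc_aux :
    ((j ⊗ₘ j) ⊗ₘ j) ≫ (mulH ▷ H) ≫ mulH =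
      ((j ⊗ₘ j) ⊗ₘ j) ≫ (α_ H H H).hom ≫ (H ◁ mulH) ≫ mulH := by
  have e1 : ((j ⊗ₘ j) ⊗ₘ j) ≫ (mulH ▷ H) = (μ[G] ▷ G) ≫ (j ⊗ₘ j) := by
    rw [MonoidalCategory.tensorHom_def (j ⊗ₘ j) j, Category.assoc, whisker_exchange,
      ← Category.assoc, ← comp_whiskerRight, hmul, comp_whiskerRight, Category.assoc,
      ← MonoidalCategory.tensorHom_def]
  have e2 : ((j ⊗ₘ j) ⊗ₘ j) ≫ (α_ H H H).hom ≫ (H ◁ mulH) =
      (α_ G G G).hom ≫ (G ◁ μ[G]) ≫ (j ⊗ₘ j) := by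
    rw [← Category.assoc, associator_naturality, Category.assoc,
      MonoidalCategory.tensorHom_def j (j ⊗ₘ j), Category.assoc, ← MonoidalCategory.whiskerLeft_comp,
      hmul, MonoidalCategory.whiskerLeft_comp, ← whisker_exchange_assoc,
      ← MonoidalCategory.tensorHom_def]
  calc ((j ⊗ₘ j) ⊗ₘ j) ≫ (mulH ▷ H) ≫ mulH
      = (μ[G] ▷ G) ≫ (j ⊗ₘ j) ≫ mulH := by rw [← Category.assoc, e1, Category.assoc]
    _ = (μ[G] ▷ G) ≫ μ[G] ≫ j := by rw [hmul]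
    _ = (α_ G G G).hom ≫ (G ◁ μ[G]) ≫ μ[G] ≫ j := by
        rw [MonObj.mul_assoc_assoc]
    _ = (α_ G G G).hom ≫ (G ◁ μ[G]) ≫ (j ⊗ₘ j) ≫ mulH := by rw [hmul]
    _ = ((j ⊗ₘ j) ⊗ₘ j) ≫ (α_ H H H).hom ≫ (H ◁ mulH) ≫ mulH := by
        rw [← Category.assoc (α_ G G G).hom, ← Category.assoc ((α_ G G G).hom ≫ _),
          Category.assoc (α_ G G G).hom, ← e2]
        simp only [Category.assoc]

include hmul hinv in
theorem left_inv_aux :
    j ≫ lift invH (𝟙 H) ≫ mulH = j ≫ toUnit H ≫ η[G] ≫ j := by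
  calc j ≫ lift invH (𝟙 H) ≫ mulH
      = lift ι[G] (𝟙 G) ≫ (j ⊗ₘ j) ≫ mulH := by
        rw [← Category.assoc, comp_lift, hinv, Category.comp_id, ← Category.assoc, lift_map,
          Category.id_comp]
    _ = lift ι[G] (𝟙 G) ≫ μ[G] ≫ j := by rw [hmul]
    _ = j ≫ toUnit H ≫ η[G] ≫ j := by
        rw [GrpObj.left_inv_assoc, ← Category.assoc j, toUnit_unique (j ≫ toUnit H) (toUnit G)]

include hmul hinv in
theorem right_inv_aux :
    j ≫ lift (𝟙 H) invH ≫ mulH = j ≫ toUnit H ≫ η[G] ≫ j := by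
  calc j ≫ lift (𝟙 H) invH ≫ mulH
      = lift (𝟙 G) ι[G] ≫ (j ⊗ₘ j) ≫ mulH := by
        rw [← Category.assoc, comp_lift, hinv, Category.comp_id, ← Category.assoc, lift_map,
          Category.id_comp]
    _ = lift (𝟙 G) ι[G] ≫ μ[G] ≫ j := by rw [hmul]
    _ = j ≫ toUnit H ≫ η[G] ≫ j := by
        rw [GrpObj.right_inv_assoc, ← Category.assoc j, toUnit_unique (j ≫ toUnit H) (toUnit G)]

/-- The transferred group structure. -/
@[reducible] def grpObj : GrpObj H where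
  one := η[G] ≫ j
  mul := mulH
  one_mul := U1l j U1 _ _ (one_mul_aux j mulH hmul)
  mul_one := U1r j U1 _ _ (mul_one_aux j mulH hmul)
  mul_assoc := U3 _ _ (mul_assoc_aux j mulH hmul)
  inv := invH
  left_inv := U1 _ _ (left_inv_aux j mulH hmul invH hinv)
  right_inv := U1 _ _ (right_inv_aux j mulH hmul invH hinv)

theorem isMonHom :
    letI := grpObj j U1 U3 mulH hmul invH hinv
    IsMonHom j := by
  letI := grpObj j U1 U3 mulH hmul invH hinv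
  exact { one_hom := rfl, mul_hom := hmul.symm }

end

end Groth.Agent.Lib.Helper26.AffGrp0
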