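import Mathlib

/-!
# helper26 — Γ-isomorphisms ("affinization-equivalences") of schemes over a field
and their stability under products (Künneth).
-/

set_option autoImplicit false
universe u

namespace Groth.Agent.Lib.Helper26.AffGrp1

open CategoryTheory CategoryTheory.Limits MonoidalCategory CartesianMonoidalCategory AlgebraicGeometry

/-! ### scheme level -/

/-- maps into an affine scheme are determined after precomposition with a morphism which is
injective on global sections -/
theorem hom_ext_of_mono_appTop {W W' Z : Scheme.{u}} [IsAffine Z] (f : W ⟶ W') [Mono f.appTop]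
    {a b : W' ⟶ Z} (h : f ≫ a = f ≫ b) : a = b := by
  apply ext_of_isAffine
  have h1 : (f ≫ a).appTop = (f ≫ b).appTop := by rw [h]
  rw [Scheme.Hom.comp_appTop, Scheme.Hom.comp_appTop] at h1
  exact (cancel_mono _).1 h1

/-- extension of a map to an affine scheme along a Γ-isomorphism with affine target -/
theorem exists_ext {W W' Z : Scheme.{u}} [IsAffine W'] [IsAffine Z] (f : W ⟶ W')
    [IsIso f.appTop] (a : W ⟶ Z) : ∃ a' : W' ⟶ Z, f ≫ a' = a := by
  refine ⟨W'.toSpecΓ ≫ Spec.map (a.appTop ≫ inv f.appTop) ≫ Z.isoSpec.inv, ?_⟩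
  rw [← Category.assoc, Scheme.toSpecΓ_naturality, Category.assoc, ← Category.assoc (Spec.map _),
    ← Spec.map_comp, Category.assoc, IsIso.inv_hom_id, Category.comp_id,
    ← Category.assoc, ← Scheme.toSpecΓ_naturality, Category.assoc, Scheme.toSpecΓ_isoSpec_inv,
    Category.comp_id]

/-- Künneth formula for global functions of a product of qcqs schemes over a field
(as in `Groth.Agent.Lib.Helper4.KunnethTop.isPushout_appTop`). -/
theorem isPushout_appTop (k : Type u) [Field k] {X Y : Scheme.{u}}
    (sX : X ⟶ Spec (CommRingCat.of k)) (sY : Y ⟶ Spec (CommRingCat.of k))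
    [CompactSpace X] [QuasiSeparatedSpace X] [CompactSpace Y] [QuasiSeparatedSpace Y] :
    IsPushout sX.appTop sY.appTop (pullback.fst sX sY).appTop (pullback.snd sX sY).appTop := by
  have H : IsPullback (pullback.fst sX sY) (pullback.snd sX sY) sX sY := IsPullback.of_hasPullback _ _
  have hF : IsField Γ(Spec (CommRingCat.of k), ⊤) :=
    (Scheme.ΓSpecIso (CommRingCat.of k)).commRingCatIsoToRingEquiv.toMulEquiv.isField
      (Field.toIsField k)
  have hflat : (sX.appLE ⊤ ⊤ (by simp)).hom.Flat := RingHom.Flat.of_isField hF _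
  have hiso : IsIso (pushoutSection H (US := ⊤) (UT := ⊤) (UX := ⊤) (UY := ⊤)
      (by simp) (by simp) (by simp)) :=
    isIso_pushoutSection_of_isCompact_of_flat_right_of_ringHomFlat H _ _ _ (isAffineOpen_top _)
      CompactSpace.isCompact_univ (isQuasiSeparated_univ_iff.mpr inferInstance)
      CompactSpace.isCompact_univ (isQuasiSeparated_univ_iff.mpr inferInstance) hflat
  have hpo := (isIso_pushoutSection_iff H _ _ _).mp hiso
  have e1 : sX.appLE ⊤ ⊤ (by simp) = sX.appTop := Scheme.Hom.appLE_eq_app sX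
  have e2 : sY.appLE ⊤ ⊤ (by simp) = sY.appTop := Scheme.Hom.appLE_eq_app sY
  have e3 : (pullback.fst sX sY).appLE ⊤ ⊤ (by simp) = (pullback.fst sX sY).appTop :=
    Scheme.Hom.appLE_eq_app _
  have e4 : (pullback.snd sX sY).appLE ⊤ ⊤ (by simp) = (pullback.snd sX sY).appTop :=
    Scheme.Hom.appLE_eq_app _
  rw [e1, e2, e3, e4] at hpo
  exact hpo

/-! ### in `Over (Spec k)` -/

variable {k : Type u} [Field k]

local notation "𝒮" => Spec (CommRingCat.of k)

/-- quasi-compact and quasi-separated objects -/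
class QCQS (X : Over 𝒮) : Prop where
  compact : CompactSpace X.left
  qsep : QuasiSeparatedSpace X.left

attribute [instance] QCQS.compact QCQS.qsep

/-- Γ-isomorphisms -/
abbrev GIso {X Y : Over 𝒮} (f : X ⟶ Y) : Prop := IsIso f.left.appTop

theorem hom_ext_of_gIso {W W' Z : Over 𝒮} [IsAffine Z.left] (f : W ⟶ W') [GIso f]
    {a b : W' ⟶ Z} (h : f ≫ a = f ≫ b) : a = b := by
  ext
  refine hom_ext_of_mono_appTop f.left ?_
  rw [← Over.comp_left, ← Over.comp_left, h]

theorem exists_ext_over {W W' Z : Over 𝒮} [IsAffine W'.left] [IsAffine Z.left] (f : W ⟶ W')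
    [GIso f] (a : W ⟶ Z) : ∃ a' : W' ⟶ Z, f ≫ a' = a := by
  obtain ⟨a', ha'⟩ := exists_ext f.left a.left
  have hw : a' ≫ Z.hom = W'.hom := by
    refine hom_ext_of_mono_appTop f.left ?_
    rw [← Category.assoc, ha', Over.w, Over.w]
  exact ⟨Over.homMk a' hw, by ext; exact ha'⟩

/-- Künneth: the tensor product of Γ-isomorphisms of qcqs objects is a Γ-isomorphism -/
theorem gIso_tensorHom {X X' Y Y' : Over 𝒮} [QCQS X] [QCQS X'] [QCQS Y] [QCQS Y']
    (f : X ⟶ X') (g : Y ⟶ Y') [GIso f] [GIso g] : GIso (f ⊗ₘ g) := by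
  have P := isPushout_appTop k X.hom Y.hom
  have P' := isPushout_appTop k X'.hom Y'.hom
  set φ := (f ⊗ₘ g).left.appTop with hφ
  have h1 : (pullback.fst X'.hom Y'.hom).appTop ≫ φ =
      f.left.appTop ≫ (pullback.fst X.hom Y.hom).appTop := by
    rw [hφ, ← Scheme.Hom.comp_appTop, ← Scheme.Hom.comp_appTop]
    congr 1
    exact congrArg CommaMorphism.left (tensorHom_fst f g)
  have h2 : (pullback.snd X'.hom Y'.hom).appTop ≫ φ =
      g.left.appTop ≫ (pullback.snd X.hom Y.hom).appTop := by
    rw [hφ, ← Scheme.Hom.comp_appTop, ← Scheme.Hom.comp_appTop]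
    congr 1
    exact congrArg CommaMorphism.left (tensorHom_snd f g)
  have hf : X'.hom.appTop ≫ f.left.appTop = X.hom.appTop := by
    rw [← Scheme.Hom.comp_appTop, Over.w]
  have hg : Y'.hom.appTop ≫ g.left.appTop = Y.hom.appTop := by
    rw [← Scheme.Hom.comp_appTop, Over.w]
  have hf' : X.hom.appTop ≫ inv f.left.appTop = X'.hom.appTop := by
    rw [← hf, Category.assoc, IsIso.hom_inv_id, Category.comp_id]
  have hg' : Y.hom.appTop ≫ inv g.left.appTop = Y'.hom.appTop := by
    rw [← hg, Category.assoc, IsIso.hom_inv_id, Category.comp_id]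
  let ψ := P.desc (inv f.left.appTop ≫ (pullback.fst X'.hom Y'.hom).appTop)
    (inv g.left.appTop ≫ (pullback.snd X'.hom Y'.hom).appTop)
    (by rw [← Category.assoc, hf', ← Category.assoc, hg', P'.w])
  refine ⟨ψ, ?_, ?_⟩
  · apply P'.hom_ext
    · rw [← Category.assoc, h1, Category.assoc, P.inl_desc, IsIso.hom_inv_id_assoc]
      exact (Category.comp_id _).symm
    · rw [← Category.assoc, h2, Category.assoc, P.inr_desc, IsIso.hom_inv_id_assoc]
      exact (Category.comp_id _).symm
  · apply P.hom_ext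
    · rw [← Category.assoc, P.inl_desc, Category.assoc, h1, IsIso.inv_hom_id_assoc]
      exact (Category.comp_id _).symm
    · rw [← Category.assoc, P.inr_desc, Category.assoc, h2, IsIso.inv_hom_id_assoc]
      exact (Category.comp_id _).symm

end Groth.Agent.Lib.Helper26.AffGrp1
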