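import Mathlib
import Groth.Agent.Lib.Helper26.AffGrp0
import Groth.Agent.Lib.Helper26.AffGrp1

set_option autoImplicit false
universe u

namespace Groth.Agent.Lib.Helper26.AffGrp2

open CategoryTheory CategoryTheory.Limits MonoidalCategory CartesianMonoidalCategory MonObj AlgebraicGeometry
open Groth.Agent.Lib.Helper26 Groth.Agent.Lib.Helper26.AffGrp1

variable {k : Type u} [Field k]

local notation "𝒮" => Spec (CommRingCat.of k)

instance qcqs_tensor (X Y : Over 𝒮) [QCQS X] [QCQS Y] : QCQS (X ⊗ Y) where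
  compact := by
    show CompactSpace ↥(pullback X.hom Y.hom)
    infer_instance
  qsep := by
    show QuasiSeparatedSpace ↥(pullback X.hom Y.hom)
    exact quasiSeparatedSpace_of_quasiSeparated (pullback.fst X.hom Y.hom)

instance qcqs_of_isAffine (X : Over 𝒮) [IsAffine X.left] : QCQS X where
  compact := inferInstance
  qsep := inferInstance

instance isAffine_tensor (X Y : Over 𝒮) [IsAffine X.left] [IsAffine Y.left] :
    IsAffine (X ⊗ Y).left := by
  show IsAffine (pullback X.hom Y.hom)
  infer_instance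

/-- the affinization of an object of `Over (Spec k)` -/
noncomputable def AffO (X : Over 𝒮) : Over 𝒮 :=
  Over.mk (Spec.map X.hom.appTop ≫ (Spec (CommRingCat.of k)).isoSpec.inv)

instance isAffine_affO (X : Over 𝒮) : IsAffine (AffO X).left := by
  show IsAffine (Spec _)
  infer_instance

/-- the canonical morphism to the affinization -/
noncomputable def toAffO (X : Over 𝒮) : X ⟶ AffO X :=
  Over.homMk X.left.toSpecΓ (by
    show X.left.toSpecΓ ≫ Spec.map X.hom.appTop ≫ (Spec (CommRingCat.of k)).isoSpec.inv = X.hom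
    rw [← Category.assoc, ← Scheme.toSpecΓ_naturality, Category.assoc,
      Scheme.toSpecΓ_isoSpec_inv, Category.comp_id])

@[simp] theorem toAffO_left (X : Over 𝒮) : (toAffO X).left = X.left.toSpecΓ := rfl

instance gIso_toAffO (X : Over 𝒮) : GIso (toAffO X) := by
  show IsIso (X.left.toSpecΓ).appTop
  rw [Scheme.toSpecΓ_appTop]
  infer_instance

section grp
variable (G : Over (Spec (CommRingCat.of k))) [GrpObj G] [QCQS G]

theorem exists_mulH : ∃ m : AffO G ⊗ AffO G ⟶ AffO G,
    (toAffO G ⊗ₘ toAffO G) ≫ m = μ[G] ≫ toAffO G := by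
  haveI : GIso (toAffO G ⊗ₘ toAffO G) := gIso_tensorHom _ _
  exact exists_ext_over _ _

theorem exists_invH : ∃ i : AffO G ⟶ AffO G, toAffO G ≫ i = ι[G] ≫ toAffO G :=
  exists_ext_over _ _

theorem U1G (a b : AffO G ⟶ AffO G) (h : toAffO G ≫ a = toAffO G ≫ b) : a = b :=
  hom_ext_of_gIso (toAffO G) h

theorem U3G (a b : (AffO G ⊗ AffO G) ⊗ AffO G ⟶ AffO G)
    (h : ((toAffO G ⊗ₘ toAffO G) ⊗ₘ toAffO G) ≫ a = ((toAffO G ⊗ₘ toAffO G) ⊗ₘ toAffO G) ≫ b) :
    a = b := by
  haveI : GIso (toAffO G ⊗ₘ toAffO G) := gIso_tensorHom _ _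
  haveI : GIso ((toAffO G ⊗ₘ toAffO G) ⊗ₘ toAffO G) := gIso_tensorHom _ _
  exact hom_ext_of_gIso _ h

/-- multiplication on the affinization -/
noncomputable def mulH : AffO G ⊗ AffO G ⟶ AffO G := (exists_mulH G).choose

theorem mulH_spec : (toAffO G ⊗ₘ toAffO G) ≫ mulH G = μ[G] ≫ toAffO G :=
  (exists_mulH G).choose_spec

/-- inverse on the affinization -/
noncomputable def invH : AffO G ⟶ AffO G := (exists_invH G).choose

theorem invH_spec : toAffO G ≫ invH G = ι[G] ≫ toAffO G := (exists_invH G).choose_spec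

/-- the group structure on the affinization of a qcqs group scheme over a field -/
@[reducible] noncomputable def grpAffO : GrpObj (AffO G) :=
  AffGrp0.grpObj (toAffO G) (U1G G) (U3G G) (mulH G) (mulH_spec G) (invH G) (invH_spec G)

attribute [instance] grpAffO

instance isMonHom_toAffO : IsMonHom (toAffO G) :=
  AffGrp0.isMonHom (toAffO G) (U1G G) (U3G G) (mulH G) (mulH_spec G) (invH G) (invH_spec G)

end grp

end Groth.Agent.Lib.Helper26.AffGrp2
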