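import Mathlib
import Groth.Agent.Lib.Helper26.AffGrp2

set_option autoImplicit false
universe u

namespace Groth.Agent.Lib.Helper26.AffGrp3

open CategoryTheory CategoryTheory.Limits MonoidalCategory CartesianMonoidalCategory MonObj AlgebraicGeometry
open Groth.Agent.Lib.Helper26 Groth.Agent.Lib.Helper26.AffGrp1 Groth.Agent.Lib.Helper26.AffGrp2

variable {k : Type u} [Field k]

local notation "𝒮" => Spec (CommRingCat.of k)

/-- (as in `Groth.Agent.Lib.Helper3.SchIm.isPullback_whiskerLeft`) -/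
theorem isPullback_whiskerLeft {S : Scheme.{u}} (T G H : Over S) (u : G ⟶ H) :
    IsPullback (T ◁ u).left (snd T G).left (snd T H).left u.left := by
  have A := IsPullback.of_hasPullback T.hom H.hom
  have B := IsPullback.of_hasPullback T.hom G.hom
  have hGH : G.hom = u.left ≫ H.hom := (Over.w u).symm
  refine IsPullback.of_right (h₁₂ := pullback.fst T.hom H.hom) (h₂₂ := H.hom) (v₁₃ := T.hom) ?_ ?_ A
  · rw [Over.whiskerLeft_left_fst, ← hGH]
    exact B
  · exact Over.whiskerLeft_left_snd u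

/-! ### translation automorphism -/
section transl
variable {C : Type*} [Category C] [CartesianMonoidalCategory C] {T H : C} [GrpObj H] (x : T ⟶ H)

/-- `(t, h) ↦ (t, x(t) h⁻¹)` -/
def tau : T ⊗ H ⟶ T ⊗ H := lift (fst T H) ((fst T H ≫ x) * (snd T H)⁻¹)
/-- `(t, h) ↦ (t, h⁻¹ x(t))` -/
def sigma : T ⊗ H ⟶ T ⊗ H := lift (fst T H) ((snd T H)⁻¹ * (fst T H ≫ x))

@[simp] theorem tau_fst : tau x ≫ fst T H = fst T H := lift_fst _ _
@[simp] theorem tau_snd : tau x ≫ snd T H = (fst T H ≫ x) * (snd T H)⁻¹ := lift_snd _ _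
@[simp] theorem sigma_fst : sigma x ≫ fst T H = fst T H := lift_fst _ _
@[simp] theorem sigma_snd : sigma x ≫ snd T H = (snd T H)⁻¹ * (fst T H ≫ x) := lift_snd _ _

theorem tau_sigma : tau x ≫ sigma x = 𝟙 _ := by
  apply CartesianMonoidalCategory.hom_ext
  · simp
  · rw [Category.assoc, sigma_snd, MonObj.comp_mul, GrpObj.comp_inv, tau_snd, ← Category.assoc,
      tau_fst, Category.id_comp]
    group

theorem sigma_tau : sigma x ≫ tau x = 𝟙 _ := by
  apply CartesianMonoidalCategory.hom_ext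
  · simp
  · rw [Category.assoc, tau_snd, MonObj.comp_mul, GrpObj.comp_inv, sigma_snd, ← Category.assoc,
      sigma_fst, Category.id_comp]
    group

/-- the translation automorphism -/
def tauIso : T ⊗ H ≅ T ⊗ H := ⟨tau x, sigma x, tau_sigma x, sigma_tau x⟩

end transl

section main
variable (G : Over (Spec (CommRingCat.of k))) [GrpObj G] [QCQS G]

theorem surjective_toAffO [IsOpenImmersion (toAffO G).left] :
    Function.Surjective ⇑(toAffO G).left := by
  intro x
  let T : Over 𝒮 := Over.mk ((AffO G).left.fromSpecResidueField x ≫ (AffO G).hom)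
  let xT : T ⟶ AffO G := Over.homMk ((AffO G).left.fromSpecResidueField x) rfl
  haveI : IsAffine T.left := inferInstanceAs (IsAffine (Spec _))
  let D : T ⊗ G ⟶ T ⊗ AffO G := T ◁ toAffO G
  haveI hDo : IsOpenImmersion D.left :=
    MorphismProperty.of_isPullback (P := @IsOpenImmersion)
      (isPullback_whiskerLeft T G (AffO G) (toAffO G)).flip inferInstance
  haveI hDg : GIso D := by
    have : D = (𝟙 T ⊗ₘ toAffO G) := (id_tensorHom _ _).symm
    rw [this]
    haveI : GIso (𝟙 T) := by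
      show IsIso (Scheme.Hom.appTop (𝟙 T.left))
      rw [Scheme.Hom.appTop, Scheme.Hom.id_app]
      infer_instance
    exact gIso_tensorHom (𝟙 T) (toAffO G)
  haveI hDd : IsDominant D.left :=
    isDominant_of_of_appTop_injective
      ((ConcreteCategory.bijective_of_isIso (D.left.appTop)).1)
  let τ : T ⊗ AffO G ≅ T ⊗ AffO G := tauIso xT
  -- a point of `T ⊗ G`
  have hne : Nonempty (T ⊗ G).left := by
    have : Nonempty T.left := inferInstanceAs (Nonempty (Spec ((AffO G).left.residueField x)))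
    obtain ⟨t⟩ := this
    exact ⟨(lift (𝟙 T) (toUnit T ≫ η[G])).left t⟩
  -- the two opens meet
  have hopen : IsOpen (Set.range ⇑(D.left ≫ τ.hom.left)) :=
    (D.left ≫ τ.hom.left).isOpenEmbedding.isOpen_range
  have hdense : Dense (Set.range ⇑D.left) := D.left.denseRange
  obtain ⟨p0⟩ := hne
  obtain ⟨y, ⟨p1, hp1⟩, ⟨p2, hp2⟩⟩ := hdense.inter_open_nonempty _ hopen ⟨_, p0, rfl⟩
  let q1 : Spec ((T ⊗ G).left.residueField p1) ⟶ (T ⊗ G).left :=
    (T ⊗ G).left.fromSpecResidueField p1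
  have hrange : Set.range ⇑(q1 ≫ D.left ≫ τ.hom.left) ⊆ Set.range ⇑D.left := by
    rintro _ ⟨s, rfl⟩
    refine ⟨p2, ?_⟩
    rw [hp2, ← hp1]
    simp [q1]
  let q2 : Spec ((T ⊗ G).left.residueField p1) ⟶ (T ⊗ G).left :=
    IsOpenImmersion.lift D.left (q1 ≫ D.left ≫ τ.hom.left) hrange
  have hq2 : q2 ≫ D.left = q1 ≫ D.left ≫ τ.hom.left := IsOpenImmersion.lift_fac _ _ _
  let Y : Over 𝒮 := Over.mk (q1 ≫ (T ⊗ G).hom)
  let q1' : Y ⟶ T ⊗ G := Over.homMk q1 rfl
  have hw2 : q2 ≫ (T ⊗ G).hom = q1 ≫ (T ⊗ G).hom := by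
    have h1 : (T ⊗ G).hom = D.left ≫ (T ⊗ AffO G).hom := (Over.w D).symm
    have h2 : τ.hom.left ≫ (T ⊗ AffO G).hom = (T ⊗ AffO G).hom := Over.w τ.hom
    rw [h1, ← Category.assoc, hq2, Category.assoc, Category.assoc, h2]
  let q2' : Y ⟶ T ⊗ G := Over.homMk q2 hw2
  have E : q2' ≫ D = q1' ≫ D ≫ τ.hom := by
    apply Over.OverMorphism.ext
    exact hq2
  -- the group computation
  let t : Y ⟶ T := q1' ≫ fst T G
  let g1 : Y ⟶ G := q1' ≫ snd T G
  let g2 : Y ⟶ G := q2' ≫ snd T G
  have hD1 : D ≫ fst T (AffO G) = fst T G := whiskerLeft_fst _ _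
  have hD2 : D ≫ snd T (AffO G) = snd T G ≫ toAffO G := whiskerLeft_snd _ _
  have hτ : τ.hom ≫ snd T (AffO G) = (fst T (AffO G) ≫ xT) * (snd T (AffO G))⁻¹ := tau_snd xT
  have E2 : g2 ≫ toAffO G = (t ≫ xT) * (g1 ≫ toAffO G)⁻¹ := by
    have h := congrArg (· ≫ snd T (AffO G)) E
    simp only [Category.assoc] at h
    rw [hD2, hτ, MonObj.comp_mul, MonObj.comp_mul, GrpObj.comp_inv, GrpObj.comp_inv,
      ← Category.assoc D, hD1, hD2] at h
    show (q2' ≫ snd T G) ≫ toAffO G = ((q1' ≫ fst T G) ≫ xT) * ((q1' ≫ snd T G) ≫ toAffO G)⁻¹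
    simp only [Category.assoc]
    exact h
  have E3 : t ≫ xT = (g2 * g1) ≫ toAffO G := by
    have hmc := MonObj.mul_comp g2 g1 (toAffO G)
    rw [hmc, E2]
    group
  have hne : Nonempty Y.left :=
    inferInstanceAs (Nonempty (Spec ((T ⊗ G).left.residueField p1)))
  obtain ⟨s⟩ := hne
  refine ⟨(g2 * g1).left s, ?_⟩
  have h := congrArg (fun f => f.left s) E3
  simp only [Over.comp_left, Scheme.Hom.comp_apply] at h
  rw [← h]
  exact Scheme.fromSpecResidueField_apply _ _


end main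

/-- A quasi-affine group scheme over a field is affine. -/
theorem isAffine_of_isQuasiAffine (k : Type u) [Field k] (G : Over (Spec (CommRingCat.of k)))
    [GrpObj G] [G.left.IsQuasiAffine] : IsAffine G.left := by
  haveI : QCQS G := ⟨inferInstance, inferInstance⟩
  haveI : IsOpenImmersion (toAffO G).left := inferInstanceAs (IsOpenImmersion G.left.toSpecΓ)
  have hs := surjective_toAffO G
  haveI : IsIso (toAffO G).left := by
    rw [isIso_iff_isOpenImmersion_and_epi_base]
    refine ⟨inferInstance, ?_⟩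
    rw [TopCat.epi_iff_surjective]
    exact hs
  exact IsAffine.of_isIso (toAffO G).left

end Groth.Agent.Lib.Helper26.AffGrp3
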