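import Mathlib
import Groth.Prelude.Def_AlgGrp
import Groth.Agent.Lib.Helper26.AffGrp3
import Groth.Agent.Lib.Helper26.QuasiAffine
import Groth.Agent.Lib.Helper4.GrpFieldSep

set_option autoImplicit false
universe u

namespace Groth.Agent.Lib.Helper26.AffGrp4

open CategoryTheory CategoryTheory.Limits MonoidalCategory CartesianMonoidalCategory MonObj AlgebraicGeometry
open Groth.Agent.Lib.Helper26 Groth.Agent.Lib.Helper26.AffGrp1 Groth.Agent.Lib.Helper26.AffGrp2
open Groth.Agent.Lib.Helper26.AffGrp3 Groth.Agent.Lib.Helper26.QuasiAffine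

variable {k : Type u} [Field k]

local notation "𝒮" => Spec (CommRingCat.of k)

/-- Zariski's main theorem: separated + locally quasi-finite + quasi-compact ⇒ quasi-affine
(as in `Groth.Agent.S1402`). -/
lemma isQAHom_of_separated_quasiFinite {X Y : Scheme.{u}} (f : X ⟶ Y) [IsSeparated f]
    [LocallyQuasiFinite f] [LocallyOfFiniteType f] [QuasiCompact f] : IsQAHom f := by
  have h1 : QuasiCompact (f.toNormalization ≫ f.fromNormalization) := by
    rw [f.toNormalization_fromNormalization]; infer_instance
  have h2 : QuasiCompact f.toNormalization :=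
    QuasiCompact.of_comp f.toNormalization f.fromNormalization
  have h3 : IsQAHom f.toNormalization :=
    isQAHom_of_isEmbedding _ f.toNormalization.isEmbedding
  have h4 : IsQAHom f.fromNormalization := isQAHom_of_isAffineHom _
  rw [← f.toNormalization_fromNormalization]
  exact MorphismProperty.comp_mem _ _ _ h3 h4

/-- every quasi-compact group scheme over a field is qcqs -/
theorem qcqs_of_quasiCompact (G : Over (Spec (CommRingCat.of k))) [GrpObj G] [QuasiCompact G.hom] :
    QCQS G := by
  haveI : IsSeparated G.hom := Groth.Agent.Lib.Helper4.GrpFieldSep.isSeparated_of_field k G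
  refine ⟨?_, ?_⟩
  · exact (quasiCompact_iff_compactSpace G.hom).1 inferInstance
  · exact quasiSeparatedSpace_of_quasiSeparated G.hom

/-- a group scheme locally of finite type over a field whose affinization map is a monomorphism
is affine -/
theorem isAffine_of_mono_toAffO (G : Over (Spec (CommRingCat.of k))) [GrpObj G] [QCQS G]
    [LocallyOfFiniteType G.hom] [Mono (toAffO G).left] : IsAffine G.left := by
  haveI : LocallyOfFiniteType ((toAffO G).left ≫ (AffO G).hom) := by
    rw [Over.w]; infer_instance
  haveI : LocallyOfFiniteType (toAffO G).left :=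
    locallyOfFiniteType_of_comp (toAffO G).left (AffO G).hom
  have h := isQAHom_of_separated_quasiFinite (toAffO G).left
  haveI : G.left.IsQuasiAffine := (isQAHom_iff_of_isAffine _).mp h
  exact isAffine_of_isQuasiAffine k G

/-- **S14576**: a group scheme of finite type over a field acting faithfully on an affine scheme
is affine. -/
theorem main14576 (G X : Over (Spec (CommRingCat.of k))) [GrpObj G] [LocallyOfFiniteType G.hom]
    [QuasiCompact G.hom] [IsAffine X.left] (a : AlgGrp.Action G X)
    (hf : ∀ (T : Over (Spec (CommRingCat.of k))) (g : T ⟶ G),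
      (∀ (T' : Over (Spec (CommRingCat.of k))) (t : T' ⟶ T) (x : T' ⟶ X),
        lift (t ≫ g) x ≫ a.act = x) → g = 1) :
    IsAffine G.left := by
  haveI := qcqs_of_quasiCompact G
  haveI : GIso (toAffO G ▷ X) := by
    have : toAffO G ▷ X = (toAffO G ⊗ₘ 𝟙 X) := (tensorHom_id _ _).symm
    rw [this]
    haveI : GIso (𝟙 X) := by
      show IsIso (Scheme.Hom.appTop (𝟙 X.left))
      rw [Scheme.Hom.appTop, Scheme.Hom.id_app]
      infer_instance
    exact gIso_tensorHom (toAffO G) (𝟙 X)
  obtain ⟨a', ha'⟩ := exists_ext_over (toAffO G ▷ X) a.act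
  have hη : η[AffO G] = η[G] ≫ toAffO G := (IsMonHom.one_hom (toAffO G)).symm
  have hunit : (η[AffO G] ▷ X) ≫ a' = (λ_ X).hom := by
    rw [hη, comp_whiskerRight, Category.assoc, ha', a.one_act]
  have hker : ∀ (T : Over (Spec (CommRingCat.of k))) (g : T ⟶ G), g ≫ toAffO G = 1 → g = 1 := by
    intro T g hg
    apply hf
    intro T' t x
    calc lift (t ≫ g) x ≫ a.act
        = lift ((t ≫ g) ≫ toAffO G) x ≫ a' := by
          rw [← ha', ← Category.assoc, lift_whiskerRight]
      _ = lift (toUnit T' ≫ η[AffO G]) x ≫ a' := by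
          rw [Category.assoc, hg, MonObj.comp_one, Hom.one_def]
      _ = lift (toUnit T') x ≫ (η[AffO G] ▷ X) ≫ a' := by
          rw [← Category.assoc, lift_whiskerRight]
      _ = x := by
          rw [hunit, leftUnitor_hom, lift_snd]
  haveI : Mono (toAffO G).left := by
    refine ⟨fun {W} g1 g2 h => ?_⟩
    let T : Over (Spec (CommRingCat.of k)) := Over.mk (g1 ≫ G.hom)
    let g1' : T ⟶ G := Over.homMk g1 rfl
    have hw : g2 ≫ G.hom = g1 ≫ G.hom := by
      rw [← Over.w (toAffO G), ← Category.assoc, ← h, Category.assoc]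
    let g2' : T ⟶ G := Over.homMk g2 hw
    have h' : g1' ≫ toAffO G = g2' ≫ toAffO G := by
      apply Over.OverMorphism.ext
      exact h
    have h1 : (g1' * g2'⁻¹) ≫ toAffO G = 1 := by
      have hmc := MonObj.mul_comp g1' g2'⁻¹ (toAffO G)
      rw [hmc, GrpObj.inv_comp, h', mul_inv_cancel]
    have h2 := hker T _ h1
    have h3 : g1' = g2' := by
      rw [mul_inv_eq_one] at h2
      exact h2
    exact congrArg CommaMorphism.left h3
  exact isAffine_of_mono_toAffO G

end Groth.Agent.Lib.Helper26.AffGrp4
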