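import Mathlib

set_option autoImplicit false
set_option maxHeartbeats 400000
universe u
open AlgebraicGeometry CategoryTheory Opposite TopologicalSpace Polynomial

namespace Groth.Agent.Lib.Helper26.AlgClosedPt

variable {X S : Scheme.{u}}

lemma evaluation_res {U V : X.Opens} (i : V ⟶ U) (x : X) (hx : x ∈ V) (a : Γ(X, U)) :
    X.evaluation V x hx (X.presheaf.map i.op a) = X.evaluation U x (i.le hx) a := by
  unfold Scheme.evaluation
  simp only [CommRingCat.comp_apply]
  rw [TopCat.Presheaf.germ_res_apply]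

/-- lift a polynomial over the residue field to sections over an open nbhd. -/
lemma exists_lift (s : S) (P : (S.residueField s)[X]) :
    ∃ (V : S.Opens) (hs : s ∈ V) (R : Γ(S, V)[X]), R.map (S.evaluation V s hs).hom = P := by
  induction P using Polynomial.induction_on' with
  | add p q hp hq =>
    obtain ⟨V1, h1, R1, rfl⟩ := hp
    obtain ⟨V2, h2, R2, rfl⟩ := hq
    refine ⟨V1 ⊓ V2, ⟨h1, h2⟩, R1.map (S.presheaf.map (homOfLE inf_le_left).op).hom +
      R2.map (S.presheaf.map (homOfLE inf_le_right).op).hom, ?_⟩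
    rw [Polynomial.map_add, Polynomial.map_map, Polynomial.map_map]
    congr 2
    · ext a
      exact evaluation_res _ s _ a
    · ext a
      exact evaluation_res _ s _ a
  | monomial n c =>
    obtain ⟨t, ht⟩ := S.residue_surjective s c
    obtain ⟨V, hs, r, hr⟩ := TopCat.Presheaf.germ_exist (F := S.presheaf) (x := s) t
    refine ⟨V, hs, Polynomial.monomial n r, ?_⟩
    rw [Polynomial.map_monomial]
    congr 1
    rw [← ht, ← hr]
    rfl

lemma key (f : X ⟶ S) (x : X)
    (halg : @Algebra.IsAlgebraic (S.residueField (f.base x)) (X.residueField x) _ _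
      (f.residueFieldMap x).hom.toAlgebra)
    (x' : X) (hsp : x ⤳ x') (hfx : f.base x' = f.base x) (U : X.Opens) (hx' : x' ∈ U)
    (a : Γ(X, U)) (hxa : x ∈ X.basicOpen a) : x' ∈ X.basicOpen a := by
  letI := (f.residueFieldMap x).hom.toAlgebra
  have hxU : x ∈ U := hsp.mem_open U.isOpen hx'
  set abar := X.evaluation U x hxU a with habar
  have habar0 : abar ≠ 0 := (Scheme.evaluation_ne_zero_iff_mem_basicOpen X x hxU a).mpr hxa
  have hint : IsIntegral (S.residueField (f.base x)) abar := (halg.isAlgebraic abar).isIntegral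
  obtain ⟨V, hsV, R, hR⟩ := exists_lift (f.base x) (minpoly (S.residueField (f.base x)) abar)
  have hc0 : S.evaluation V (f.base x) hsV (R.coeff 0) ≠ 0 := by
    have := minpoly.coeff_zero_ne_zero hint habar0
    rw [← hR, Polynomial.coeff_map] at this
    exact this
  -- the open
  have hx'V : f.base x' ∈ V := hfx ▸ hsV
  let U' : X.Opens := U ⊓ f ⁻¹ᵁ V
  have hxU' : x ∈ U' := ⟨hxU, hsV⟩
  have hx'U' : x' ∈ U' := ⟨hx', hx'V⟩
  let ψ : Γ(S, V) →+* Γ(X, U') := (f.app V ≫ X.presheaf.map (homOfLE (inf_le_right : U' ≤ f ⁻¹ᵁ V)).op).hom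
  let a' : Γ(X, U') := X.presheaf.map (homOfLE (inf_le_left : U' ≤ U)).op a
  let b : Γ(X, U') := R.eval₂ ψ a'
  -- b(x) = 0
  have hbx : X.evaluation U' x hxU' b = 0 := by
    change (X.evaluation U' x hxU').hom (R.eval₂ ψ a') = 0
    rw [Polynomial.hom_eval₂]
    have h1 : (X.evaluation U' x hxU').hom a' = abar := evaluation_res _ x hxU' a
    have h2 : (X.evaluation U' x hxU').hom.comp ψ =
        (algebraMap (S.residueField (f.base x)) (X.residueField x)).comp (S.evaluation V (f.base x) hsV).hom := by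
      ext r
      change X.evaluation U' x hxU' (X.presheaf.map _ (f.app V r)) = f.residueFieldMap x (S.evaluation V (f.base x) hsV r)
      rw [evaluation_res, Scheme.evaluation_naturality_apply]
    rw [h1, h2, ← Polynomial.eval₂_map, hR]
    exact minpoly.aeval _ _
  -- b(x') ≠ 0 if a(x') = 0
  by_contra hcon
  have hax' : X.evaluation U x' hx' a = 0 := (Scheme.evaluation_eq_zero_iff_notMem_basicOpen X x' hx' a).mpr hcon
  have hbx' : X.evaluation U' x' hx'U' b ≠ 0 := by
    change (X.evaluation U' x' hx'U').hom (R.eval₂ ψ a') ≠ 0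
    rw [Polynomial.hom_eval₂]
    have h1 : (X.evaluation U' x' hx'U').hom a' = 0 := (evaluation_res _ x' hx'U' a).trans hax'
    rw [h1, Polynomial.eval₂_at_zero]
    change X.evaluation U' x' hx'U' (X.presheaf.map _ (f.app V (R.coeff 0))) ≠ 0
    rw [evaluation_res, Scheme.evaluation_ne_zero_iff_mem_basicOpen, ← Scheme.preimage_basicOpen]
    change f.base x' ∈ S.basicOpen (R.coeff 0)
    rw [hfx]
    exact (Scheme.evaluation_ne_zero_iff_mem_basicOpen S _ hsV _).mp hc0
  have hx'b : x' ∈ X.basicOpen b := (Scheme.evaluation_ne_zero_iff_mem_basicOpen X x' hx'U' b).mp hbx'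
  have hxb : x ∈ X.basicOpen b := hsp.mem_open (X.basicOpen b).isOpen hx'b
  exact (Scheme.evaluation_ne_zero_iff_mem_basicOpen X x hxU' b).mpr hxb hbx

lemma eq_of_specializes (f : X ⟶ S) (x : X)
    (halg : @Algebra.IsAlgebraic (S.residueField (f.base x)) (X.residueField x) _ _
      (f.residueFieldMap x).hom.toAlgebra)
    (x' : X) (hsp : x ⤳ x') (hfx : f.base x' = f.base x) : x' = x := by
  refine (Specializes.antisymm ?_ hsp).eq
  rw [specializes_iff_forall_open]
  intro W hW hxW
  obtain ⟨U, hU, hx'U, -⟩ := AlgebraicGeometry.exists_isAffineOpen_mem_and_subset (X := X) (x := x') (U := ⊤) trivial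
  have hxU : x ∈ U := hsp.mem_open U.isOpen hx'U
  obtain ⟨a, ha, hxa⟩ := hU.exists_basicOpen_le (V := ⟨W, hW⟩) ⟨x, hxW⟩ hxU
  exact ha (key f x halg x' hsp hfx U hx'U a hxa)

theorem main (f : X ⟶ S) (x : X)
    (halg : @Algebra.IsAlgebraic (S.residueField (f.base x)) (X.residueField x) _ _ (f.residueFieldMap x).hom.toAlgebra) :
    IsClosed ({f.asFiber x} : Set ↑(f.fiber (f.base x))) ∧
      (IsClosed ({f.base x} : Set ↑S) → IsClosed ({x} : Set ↑X)) := by
  constructor
  · rw [← closure_subset_iff_isClosed]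
    intro y hy
    rw [← specializes_iff_mem_closure] at hy
    have h1 : f.fiberι _ (f.asFiber x) ⤳ f.fiberι _ y := hy.map (f.fiberι _).continuous
    rw [Scheme.Hom.fiberι_asFiber] at h1
    have h2 : f.base (f.fiberι _ y) = f.base x := by
      have : f.fiberι _ y ∈ Set.range (f.fiberι (f.base x)) := ⟨y, rfl⟩
      rw [Scheme.Hom.range_fiberι] at this
      exact this
    have h3 := eq_of_specializes f x halg _ h1 h2
    rw [Set.mem_singleton_iff]
    apply (f.fiberι _).isEmbedding.injective
    rw [h3, Scheme.Hom.fiberι_asFiber]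
  · intro hs
    rw [← closure_subset_iff_isClosed]
    intro x' hx'
    rw [← specializes_iff_mem_closure] at hx'
    have h1 : f.base x ⤳ f.base x' := hx'.map f.continuous
    have h2 : f.base x' ∈ closure {f.base x} := specializes_iff_mem_closure.mp h1
    rw [hs.closure_eq, Set.mem_singleton_iff] at h2
    exact eq_of_specializes f x halg x' hx' h2

end Groth.Agent.Lib.Helper26.AlgClosedPt
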