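import Mathlib

set_option autoImplicit false
set_option maxHeartbeats 400000
universe u
open AlgebraicGeometry CategoryTheory Opposite TopologicalSpace Polynomial

namespace Groth.Agent.Lib.Helper26.AlgClosedPt2

variable {X S X' S' : Scheme.{u}}

/-- if the canonical point factors through a subfield, the subfield is everything. -/
lemma surjective_of_factor {x' : X'} {L : Type u} [Field L]
    (incl : CommRingCat.of L ⟶ X'.residueField x') (y : X') (φ : X'.residueField y ⟶ CommRingCat.of L)
    (h : Spec.map incl ≫ Spec.map φ ≫ X'.fromSpecResidueField y = X'.fromSpecResidueField x') :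
    Function.Surjective incl.hom := by
  have hy : y = x' := by
    have := congrArg (fun m => m.base (default : Spec (X'.residueField x'))) h
    simpa using this
  subst hy
  have h2 : Spec.map (φ ≫ incl) ≫ X'.fromSpecResidueField y = Spec.map (𝟙 _) ≫ X'.fromSpecResidueField y := by
    rw [Spec.map_comp, Category.assoc, h, Spec.map_id, Category.id_comp]
  rw [cancel_mono, Spec.map_inj] at h2
  intro k
  refine ⟨φ.hom k, ?_⟩
  have := congrArg (fun m => m.hom k) h2
  simpa using this

lemma isAlgebraic_residueField_of_isPullback (f : X ⟶ S) (g : S' ⟶ S)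
    (g' : X' ⟶ X) (f' : X' ⟶ S') (hsq : IsPullback g' f' f g) (x' : X')
    (hint : (f.residueFieldMap (g'.base x')).hom.IsIntegral) :
    @Algebra.IsAlgebraic (S'.residueField (f'.base x')) (X'.residueField x') _ _
      (f'.residueFieldMap x').hom.toAlgebra := by
  letI : Algebra (S'.residueField (f'.base x')) (X'.residueField x') :=
    (f'.residueFieldMap x').hom.toAlgebra
  set a := g'.residueFieldMap x' with ha
  set b := f'.residueFieldMap x' with hb
  have hpt : f.base (g'.base x') = g.base (f'.base x') := by
    have := congrArg (fun m => m.base x') hsq.w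
    simpa using this
  let c : S.residueField (f.base (g'.base x')) ⟶ S'.residueField (f'.base x') :=
    (S.residueFieldCongr hpt).hom ≫ g.residueFieldMap (f'.base x')
  have hcomm : f.residueFieldMap (g'.base x') ≫ a = c ≫ b := by
    have h1 := Scheme.residueFieldMap_comp g' f x'
    have h2 := Scheme.residueFieldMap_comp f' g x'
    have h3 := Scheme.Hom.residueFieldMap_congr hsq.w x'
    rw [h1, h2] at h3
    rw [ha, hb, h3]
    simp only [c, Category.assoc]
    rfl
  -- the algebraic closure of κ(s') in κ(x')
  let L := algebraicClosure (S'.residueField (f'.base x')) (X'.residueField x')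
  have haL : ∀ z, a.hom z ∈ L := by
    intro z
    rw [mem_algebraicClosure_iff]
    obtain ⟨p, hp, hpz⟩ := hint z
    refine IsIntegral.isAlgebraic ⟨p.map c.hom, hp.map _, ?_⟩
    have h1 : a.hom (Polynomial.eval₂ (f.residueFieldMap (g'.base x')).hom z p) = 0 := by
      rw [hpz, map_zero]
    rw [Polynomial.hom_eval₂] at h1
    have h2 : a.hom.comp (f.residueFieldMap (g'.base x')).hom = b.hom.comp c.hom := by
      have := congrArg (fun m => m.hom) hcomm
      simpa using this
    rw [h2] at h1
    rw [Polynomial.eval₂_map]
    exact h1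
  let aL : X.residueField (g'.base x') ⟶ CommRingCat.of L :=
    CommRingCat.ofHom (RingHom.codRestrict a.hom L haL)
  let bL : S'.residueField (f'.base x') ⟶ CommRingCat.of L :=
    CommRingCat.ofHom (algebraMap (S'.residueField (f'.base x')) L)
  let incl : CommRingCat.of L ⟶ X'.residueField x' :=
    CommRingCat.ofHom (algebraMap L (X'.residueField x'))
  have h_a : aL ≫ incl = a := by ext z; rfl
  have h_b : bL ≫ incl = b := by ext z; rfl
  have hcommL : f.residueFieldMap (g'.base x') ≫ aL = c ≫ bL := by
    ext z
    exact congrArg (fun m => m.hom z) hcomm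
  have hw : (Spec.map aL ≫ X.fromSpecResidueField _) ≫ f =
      (Spec.map bL ≫ S'.fromSpecResidueField _) ≫ g := by
    rw [Category.assoc, Category.assoc, ← Scheme.Hom.SpecMap_residueFieldMap_fromSpecResidueField,
      ← Scheme.Hom.SpecMap_residueFieldMap_fromSpecResidueField, ← Spec.map_comp_assoc,
      ← Spec.map_comp_assoc, hcommL]
    simp only [c, Category.assoc, Spec.map_comp]
    rw [Scheme.residueFieldCongr_fromSpecResidueField]
  let ℓ := hsq.lift _ _ hw
  have hℓ : Spec.map incl ≫ ℓ = X'.fromSpecResidueField x' := by
    apply hsq.hom_ext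
    · rw [Category.assoc, hsq.lift_fst, ← Spec.map_comp_assoc, h_a,
        Scheme.Hom.SpecMap_residueFieldMap_fromSpecResidueField]
    · rw [Category.assoc, hsq.lift_snd, ← Spec.map_comp_assoc, h_b,
        Scheme.Hom.SpecMap_residueFieldMap_fromSpecResidueField]
  have hdec := Scheme.descResidueField_stalkClosedPointTo_fromSpecResidueField L X' ℓ
  have hsurj := surjective_of_factor incl _ _ (by rw [hdec, hℓ])
  refine ⟨fun k => ?_⟩
  obtain ⟨l, rfl⟩ := hsurj k
  exact mem_algebraicClosure_iff.mp l.2

end Groth.Agent.Lib.Helper26.AlgClosedPt2
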