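import Groth.Prelude.Def_Versch
import Groth.Prelude.Def_AlphaP

/-!
The `p`-th power map of the dual of `α_p` is trivial.
-/

set_option autoImplicit false
universe u

namespace Groth.Agent.Lib.Helper26.AlphaPDual

open TensorProduct

variable (p : ℕ) [Fact p.Prime] (R : Type u) [CommRing R] [CharP R p]

lemma comul_x_pow (m : ℕ) :
    Coalgebra.comul (R := R) ((AlphaP.x p R) ^ m)
      = ∑ i ∈ Finset.range (m + 1),
          (m.choose i) • (((AlphaP.x p R) ^ i) ⊗ₜ[R] ((AlphaP.x p R) ^ (m - i))) := by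
  rw [Bialgebra.comul_pow, AlphaP.comul_x, add_pow]
  refine Finset.sum_congr rfl fun i _ => ?_
  rw [Algebra.TensorProduct.tmul_pow, Algebra.TensorProduct.tmul_pow, one_pow, one_pow,
    Algebra.TensorProduct.tmul_mul_tmul, mul_one, one_mul, mul_comm, nsmul_eq_mul]

variable {p R}

lemma pow_apply_x_pow (y : CartDual.D R (AlphaP.A p R)) (hy : y (1 : AlphaP.A p R) = 0) :
    ∀ j m : ℕ, m < j → (y ^ j) ((AlphaP.x p R) ^ m) = 0 := by
  intro j
  induction j with
  | zero => intro m hm; exact absurd hm (Nat.not_lt_zero m)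
  | succ j ih =>
    intro m hm
    rw [pow_succ]
    show LinearMap.mul' R R (TensorProduct.map (y ^ j).ofConv y.ofConv
      (Coalgebra.comul ((AlphaP.x p R) ^ m))) = 0
    rw [comul_x_pow, map_sum, map_sum]
    refine Finset.sum_eq_zero fun i hi => ?_
    rw [map_nsmul, map_nsmul, TensorProduct.map_tmul, LinearMap.mul'_apply]
    have hi' : i ≤ m := Nat.lt_succ_iff.mp (Finset.mem_range.mp hi)
    rcases Nat.lt_or_ge i j with h | h
    · have : (y ^ j).ofConv ((AlphaP.x p R) ^ i) = 0 := ih i h
      rw [this, zero_mul, smul_zero]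
    · have hmi : m - i = 0 := by omega
      have : y.ofConv ((AlphaP.x p R) ^ (m - i)) = 0 := by
        rw [hmi, pow_zero]; exact hy
      rw [this, mul_zero, smul_zero]

lemma pow_p_eq_zero (y : CartDual.D R (AlphaP.A p R)) (hy : y (1 : AlphaP.A p R) = 0) :
    y ^ p = 0 := by
  apply WithConv.ofConv_injective
  apply LinearMap.ext
  intro a
  obtain ⟨f, rfl⟩ := AlphaP.mk_surjective p R a
  rw [WithConv.ofConv_zero, LinearMap.zero_apply]
  induction f using Polynomial.induction_on' with
  | add f g hf hg => rw [map_add, map_add, hf, hg, add_zero]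
  | monomial m c =>
    rw [← Polynomial.C_mul_X_pow_eq_monomial, map_mul, map_pow, AlphaP.mk_X,
      ← Polynomial.algebraMap_eq, AlgHom.commutes, ← Algebra.smul_def, map_smul]
    rcases Nat.lt_or_ge m p with h | h
    · have : (y ^ p).ofConv ((AlphaP.x p R) ^ m) = 0 := pow_apply_x_pow y hy p m h
      rw [this, smul_zero]
    · rw [AlphaP.x_pow_of_le p R h, map_zero, smul_zero]

/-- the `p`-th power of a linear form on `α_p` -/
theorem pow_p_apply (x : CartDual.D R (AlphaP.A p R)) (a : AlphaP.A p R) :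
    (x ^ p) a = (x (1 : AlphaP.A p R)) ^ p * Coalgebra.counit (R := R) a := by
  set c : R := x (1 : AlphaP.A p R) with hc
  set y : CartDual.D R (AlphaP.A p R) := x - c • 1 with hy
  have hy1 : y (1 : AlphaP.A p R) = 0 := by
    show (x - c • (1 : CartDual.D R (AlphaP.A p R))).ofConv (1 : AlphaP.A p R) = 0
    rw [WithConv.ofConv_sub, WithConv.ofConv_smul, LinearMap.sub_apply, LinearMap.smul_apply]
    show c - c • (algebraMap R R (Coalgebra.counit (1 : AlphaP.A p R))) = 0
    rw [Bialgebra.counit_one, map_one, smul_eq_mul, mul_one, sub_self]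
  have hx : x = c • 1 + y := by rw [hy]; abel
  rw [hx, add_pow_char, pow_p_eq_zero y hy1, add_zero, smul_pow, one_pow]
  show (c ^ p • (1 : CartDual.D R (AlphaP.A p R))).ofConv a = _
  rw [WithConv.ofConv_smul, LinearMap.smul_apply]
  rfl

end Groth.Agent.Lib.Helper26.AlphaPDual
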