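import Groth.Agent.Lib.Helper26.AlphaPDual
import Mathlib.Algebra.CharP.Invertible
import Mathlib.Data.Nat.Prime.Factorial

/-!
Self-duality of `α_p`.
-/

set_option autoImplicit false
universe u

namespace Groth.Agent.Lib.Helper26.AlphaPSelfDual

open TensorProduct Groth.Agent.Lib.Helper26.AlphaPDual

variable (p : ℕ) [Fact p.Prime] (R : Type u) [CommRing R] [CharP R p]

include p in
lemma nontriv : Nontrivial R :=
  CharP.nontrivial_of_char_ne_one (R := R) (v := p) (Fact.out : Nat.Prime p).ne_one

/-- the linear form dual to `x` -/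
noncomputable def ξ : CartDual.D R (AlphaP.A p R) :=
  haveI := nontriv p R
  WithConv.toConv ((AlphaP.basis p R).coord ⟨1, (Fact.out : Nat.Prime p).one_lt⟩)

lemma ξ_apply (n : ℕ) : (ξ p R) ((AlphaP.x p R) ^ n) = if n = 1 then 1 else 0 := by
  haveI := nontriv p R
  rcases Nat.lt_or_ge n p with h | h
  · have h1 : (AlphaP.x p R) ^ n = AlphaP.basis p R ⟨n, h⟩ := by rw [AlphaP.basis_apply]
    rw [h1]
    show (AlphaP.basis p R).coord ⟨1, (Fact.out : Nat.Prime p).one_lt⟩ (AlphaP.basis p R ⟨n, h⟩) = _
    rw [Module.Basis.coord_apply, Module.Basis.repr_self, Finsupp.single_apply]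
    simp only [Fin.mk.injEq]
  · rw [AlphaP.x_pow_of_le p R h]
    have : n ≠ 1 := by
      have := (Fact.out : Nat.Prime p).one_lt
      omega
    rw [if_neg this]
    exact map_zero (ξ p R).ofConv

lemma convMul_apply_pow (y z : CartDual.D R (AlphaP.A p R)) (m : ℕ) :
    (y * z) ((AlphaP.x p R) ^ m)
      = ∑ i ∈ Finset.range (m + 1),
          (m.choose i) • (y ((AlphaP.x p R) ^ i) * z ((AlphaP.x p R) ^ (m - i))) := by
  show LinearMap.mul' R R (TensorProduct.map y.ofConv z.ofConv
    (Coalgebra.comul ((AlphaP.x p R) ^ m))) = _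
  rw [comul_x_pow, map_sum, map_sum]
  refine Finset.sum_congr rfl fun i _ => ?_
  rw [map_nsmul, map_nsmul, TensorProduct.map_tmul, LinearMap.mul'_apply]

lemma one_apply_pow (m : ℕ) :
    (1 : CartDual.D R (AlphaP.A p R)) ((AlphaP.x p R) ^ m) = if m = 0 then 1 else 0 := by
  show algebraMap R R (Coalgebra.counit ((AlphaP.x p R) ^ m)) = _
  rw [Bialgebra.counit_pow, AlphaP.counit_x]
  rcases Nat.eq_zero_or_pos m with h | h
  · rw [h, pow_zero, if_pos rfl, map_one]
  · rw [zero_pow (by omega), map_zero, if_neg (by omega)]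

lemma ξ_pow_apply : ∀ i m : ℕ,
    ((ξ p R) ^ i) ((AlphaP.x p R) ^ m) = if m = i then (i.factorial : R) else 0 := by
  intro i
  induction i with
  | zero =>
    intro m
    rw [pow_zero, one_apply_pow, Nat.factorial_zero, Nat.cast_one]
  | succ i ih =>
    intro m
    rw [pow_succ, convMul_apply_pow]
    rcases Nat.eq_zero_or_pos m with hm | hm
    · subst hm
      rw [Finset.sum_eq_zero]
      · rw [if_neg (by omega)]
      · intro l hl
        have : l = 0 := by
          have := Finset.mem_range.mp hl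
          omega
        subst this
        rw [Nat.sub_zero, ξ_apply, if_neg (by omega), mul_zero, smul_zero]
    · rw [Finset.sum_eq_single (m - 1)]
      · have h1 : m - (m - 1) = 1 := by omega
        rw [h1, ξ_apply, if_pos rfl, mul_one, ih, nsmul_eq_mul]
        have h2 : m.choose (m - 1) = m := by
          obtain ⟨n, rfl⟩ : ∃ n, m = n + 1 := ⟨m - 1, by omega⟩
          rw [Nat.add_sub_cancel, Nat.choose_succ_self_right]
        rw [h2]
        by_cases hmi : m = i + 1
        · subst hmi
          rw [if_pos (by omega), if_pos rfl, Nat.factorial_succ, Nat.cast_mul]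
        · rw [if_neg (by omega), if_neg hmi, mul_zero]
      · intro l hl hne
        have hl' : l ≤ m := Nat.lt_succ_iff.mp (Finset.mem_range.mp hl)
        rw [ξ_apply, if_neg (by omega), mul_zero, smul_zero]
      · intro h
        exact absurd (Finset.mem_range.mpr (by omega)) h

lemma ξ_one : (ξ p R) (1 : AlphaP.A p R) = 0 := by
  have := ξ_apply p R 0
  rwa [pow_zero, if_neg (by omega)] at this

lemma ξ_pow_p : (ξ p R) ^ p = 0 := pow_p_eq_zero (ξ p R) (ξ_one p R)

/-- the algebra map `A → D` sending `x` to `ξ` -/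
noncomputable def φ : AlphaP.A p R →ₐ[R] CartDual.D R (AlphaP.A p R) :=
  AlphaP.lift p R (ξ p R) (ξ_pow_p p R)

lemma φ_x : φ p R (AlphaP.x p R) = ξ p R := AlphaP.lift_x _ _

lemma φ_pow (i : ℕ) : φ p R ((AlphaP.x p R) ^ i) = (ξ p R) ^ i := by
  rw [map_pow, φ_x]

end Groth.Agent.Lib.Helper26.AlphaPSelfDual
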