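import Mathlib

set_option maxHeartbeats 400000
set_option autoImplicit false

namespace Groth.Agent.Lib.Helper26.AntiSeq

lemma arith (n a b c2 c3 t : ℕ) (h10 : b ≤ a) (h21 : c2 ≤ b) (h32 : c3 ≤ c2) (ht : t ≤ 16 * c3)
    (h3t : c3 ≤ t)
    (h1 : 5 * a + 2 * n ≤ 45) (h5 : a + b + c2 + t + n ≤ 19)
    (h4 : 360 ≤ 15 * n + 30 * a + 10 * b + 5 * c2 + 3 * t) :
    n = 0 ∧ ((a = 9 ∧ b = 8 ∧ c2 = 2 ∧ c3 = 0) ∨ (a = 9 ∧ b = 9 ∧ c2 = 0) ∨
      (a = 9 ∧ b = 9 ∧ c2 = 1 ∧ c3 = 0)) := by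
  have hn : n ≤ 2 := by omega
  have ha : a ≤ 9 := by omega
  interval_cases n <;> interval_cases a <;> omega

theorem main (p : ℕ → ℕ) (n : ℕ)
    (h1 : (p 0 : ℝ) ≤ 9 - (2 / 5 : ℝ) * n) (h2 : Antitone p)
    (h3 : ∀ m : ℕ, ((∑ k ∈ Finset.range m, p k : ℕ) : ℝ) ≤ 19 - (n : ℝ))
    (h4 : (6 : ℝ) ≤ (n : ℝ) / 4 + ∑' k : ℕ, (p k : ℝ) / (((k : ℝ) + 1) * ((k : ℝ) + 2))) :
    n = 0 ∧ (p = (fun k => if k = 0 then 9 else if k = 1 then 8 else if k = 2 then 2 else 0)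
      ∨ p = (fun k => if k = 0 then 9 else if k = 1 then 9 else 0)
      ∨ p = (fun k => if k = 0 then 9 else if k = 1 then 9 else if k = 2 then 1 else 0)) := by
  -- partial sums as naturals
  have h3' : ∀ m : ℕ, (∑ k ∈ Finset.range m, p k) + n ≤ 19 := by
    intro m
    have := h3 m
    have h : (((∑ k ∈ Finset.range m, p k) + n : ℕ) : ℝ) ≤ (19 : ℕ) := by
      push_cast; push_cast at this; linarith
    exact_mod_cast h
  -- finite support
  have hz : ∀ k, 19 ≤ k → p k = 0 := by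
    intro k hk
    by_contra hne
    have hpos : 1 ≤ p k := Nat.one_le_iff_ne_zero.mpr hne
    have hall : ∀ i ∈ Finset.range 20, 1 ≤ p i := by
      intro i hi
      rw [Finset.mem_range] at hi
      exact hpos.trans (h2 (by omega))
    have h20 : 20 ≤ ∑ k ∈ Finset.range 20, p k := by
      have := Finset.card_nsmul_le_sum (Finset.range 20) (fun k => p k) 1 hall
      simpa using this
    have := h3' 20
    omega
  -- the series is a finite sum
  have htsum : ∑' k : ℕ, (p k : ℝ) / (((k : ℝ) + 1) * ((k : ℝ) + 2)) =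
      ∑ k ∈ Finset.range 19, (p k : ℝ) / (((k : ℝ) + 1) * ((k : ℝ) + 2)) := by
    apply tsum_eq_sum
    intro k hk
    rw [Finset.mem_range, not_lt] at hk
    rw [hz k hk]; simp
  rw [htsum, ← Finset.sum_range_add_sum_Ico _ (by norm_num : 3 ≤ 19)] at h4
  -- bound the tail
  have htail : ∑ k ∈ Finset.Ico 3 19, (p k : ℝ) / (((k : ℝ) + 1) * ((k : ℝ) + 2))
      ≤ ∑ k ∈ Finset.Ico 3 19, (p k : ℝ) / 20 := by
    apply Finset.sum_le_sum
    intro k hk
    rw [Finset.mem_Ico] at hk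
    apply div_le_div_of_nonneg_left (Nat.cast_nonneg _) (by norm_num)
    have : (3 : ℝ) ≤ k := by exact_mod_cast hk.1
    nlinarith
  rw [← Finset.sum_div] at htail
  have h5 := h3' 19
  rw [← Finset.sum_range_add_sum_Ico _ (by norm_num : 3 ≤ 19)] at h5
  obtain ⟨c, hc⟩ : ∃ c, c = ∑ k ∈ Finset.Ico 3 19, p k := ⟨_, rfl⟩
  rw [← hc] at h5
  have hcR : (c : ℝ) = ∑ k ∈ Finset.Ico 3 19, (p k : ℝ) := by
    rw [hc]; push_cast; rfl
  rw [← hcR] at htail
  have hc16 : c ≤ 16 * p 3 := by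
    rw [hc]
    have := Finset.sum_le_card_nsmul (Finset.Ico 3 19) (fun k => p k) (p 3)
      (fun k hk => h2 (Finset.mem_Ico.mp hk).1)
    simpa using this
  have h10 : p 1 ≤ p 0 := h2 (by omega)
  have h21 : p 2 ≤ p 1 := h2 (by omega)
  have h32 : p 3 ≤ p 2 := h2 (by omega)
  have h1' : 5 * p 0 + 2 * n ≤ 45 := by
    have h : ((5 * p 0 + 2 * n : ℕ) : ℝ) ≤ (45 : ℕ) := by push_cast; linarith
    exact_mod_cast h
  simp only [Finset.sum_range_succ, Finset.sum_range_zero, zero_add] at h4 h5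
  have h4' : 360 ≤ 15 * n + 30 * p 0 + 10 * p 1 + 5 * p 2 + 3 * c := by
    have h : ((360 : ℕ) : ℝ) ≤ ((15 * n + 30 * p 0 + 10 * p 1 + 5 * p 2 + 3 * c : ℕ) : ℝ) := by
      push_cast
      norm_num at h4
      linarith
    exact_mod_cast h
  have h3c : p 3 ≤ c := by
    rw [hc]
    exact Finset.single_le_sum (f := fun k => p k) (fun _ _ => Nat.zero_le _)
      (Finset.mem_Ico.mpr ⟨le_rfl, by norm_num⟩)
  have key : n = 0 ∧ ((p 0 = 9 ∧ p 1 = 8 ∧ p 2 = 2 ∧ p 3 = 0) ∨ (p 0 = 9 ∧ p 1 = 9 ∧ p 2 = 0) ∨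
      (p 0 = 9 ∧ p 1 = 9 ∧ p 2 = 1 ∧ p 3 = 0)) :=
    arith n (p 0) (p 1) (p 2) (p 3) c h10 h21 h32 hc16 h3c h1' (by omega) (by omega)
  refine ⟨key.1, ?_⟩
  rcases key.2 with ⟨e0, e1, e2, e3⟩ | ⟨e0, e1, e2⟩ | ⟨e0, e1, e2, e3⟩
  · left
    funext k
    rcases k with _ | _ | _ | k
    · simpa using e0
    · simpa using e1
    · simpa using e2
    · have : p (k + 1 + 1 + 1) ≤ p 3 := h2 (by omega)
      simp; omega
  · right; left
    funext k
    rcases k with _ | _ | k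
    · simpa using e0
    · simpa using e1
    · have : p (k + 1 + 1) ≤ p 2 := h2 (by omega)
      simp; omega
  · right; right
    funext k
    rcases k with _ | _ | _ | k
    · simpa using e0
    · simpa using e1
    · simpa using e2
    · have : p (k + 1 + 1 + 1) ≤ p 3 := h2 (by omega)
      simp; omega

end Groth.Agent.Lib.Helper26.AntiSeq
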