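import Mathlib

namespace Groth.Agent.Lib.Helper26.AntichainNoeth

open AlgebraicGeometry TopologicalSpace

universe u

/-- No infinite injective specializing chain in a `T0` Noetherian space. -/
lemma no_spec_chain {X : Type*} [TopologicalSpace X] [T0Space X] [NoetherianSpace X]
    (h : ℕ → X) (hinj : Function.Injective h) (hs : ∀ n, h n ⤳ h (n + 1)) : False := by
  let c : ℕ → Closeds X := fun n => ⟨closure {h n}, isClosed_closure⟩
  have hlt : ∀ n, c (n + 1) < c n := by
    intro n
    refine lt_of_le_of_ne ?_ ?_
    · exact (specializes_iff_closure_subset.mp (hs n))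
    · intro heq
      have h1 : h (n + 1) ⤳ h n := by
        rw [specializes_iff_closure_subset]
        exact (congrArg (fun z : Closeds X => (z : Set X)) heq).ge
      have := (hs n).antisymm h1
      exact absurd (hinj this.eq) (by simp)
  exact not_strictAnti_of_wellFoundedLT c (strictAnti_nat_of_succ_lt hlt)

/-- No infinite strictly decreasing chain of primes in a Noetherian ring. -/
lemma no_prime_chain {R : Type*} [CommRing R] [IsNoetherianRing R] (q : ℕ → PrimeSpectrum R)
    (hq : ∀ n, q (n + 1) < q n) : False := by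
  have hlt : ∀ n, (q (n + 1)).asIdeal.height < (q n).asIdeal.height := by
    intro n
    exact Ideal.height_strict_mono_of_isPrime (hq n)
  exact not_strictAnti_of_wellFoundedLT (fun n => (q n).asIdeal.height)
    (strictAnti_nat_of_succ_lt hlt)

/-- No infinite injective generalizing chain in a locally Noetherian scheme. -/
lemma no_gen_chain (S : Scheme.{u}) [IsLocallyNoetherian S]
    (h : ℕ → S) (hinj : Function.Injective h) (hs : ∀ n, h (n + 1) ⤳ h n) : False := by
  have h0 : ∀ n, h n ⤳ h 0 := by
    intro n
    induction n with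
    | zero => exact specializes_rfl
    | succ n ih => exact (hs n).trans ih
  have hr : ∀ n, h n ∈ Set.range (S.fromSpecStalk (h 0)) := by
    intro n
    rw [Scheme.range_fromSpecStalk]
    exact h0 n
  choose q hq using hr
  have hemb : Topology.IsEmbedding (S.fromSpecStalk (h 0)) :=
    (S.fromSpecStalk (h 0)).isEmbedding
  have hqs : ∀ n, q (n + 1) ⤳ q n := by
    intro n
    rw [← hemb.isInducing.specializes_iff, hq, hq]
    exact hs n
  have hqinj : Function.Injective q := by
    intro a b hab
    apply hinj
    rw [← hq a, ← hq b, hab]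
  refine no_prime_chain (R := S.presheaf.stalk (h 0)) q ?_
  intro n
  refine lt_of_le_of_ne ?_ ?_
  · exact (PrimeSpectrum.le_iff_specializes _ _).mpr (hqs n)
  · intro heq
    exact absurd (hqinj heq) (by simp)

theorem main (S : Scheme.{u}) [IsNoetherian S] (T : Set S) (hT : T.Infinite) :
    ∃ T' : Set S, T' ⊆ T ∧ T'.Infinite ∧ ∀ a ∈ T', ∀ b ∈ T', a ⤳ b → a = b := by
  let f : ℕ ↪ T := hT.natEmbedding
  let f0 : ℕ → S := fun n => (f n : S)
  have hf0 : Function.Injective f0 := fun a b hab => f.injective (Subtype.ext hab)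
  obtain ⟨g1, h1 | h1⟩ := exists_increasing_or_nonincreasing_subseq' (fun a b : S => a ⤳ b) f0
  · exact (no_spec_chain (f0 ∘ g1) (hf0.comp g1.injective) h1).elim
  obtain ⟨g2, h2 | h2⟩ := exists_increasing_or_nonincreasing_subseq' (fun a b : S => b ⤳ a)
    (f0 ∘ g1)
  · exact (no_gen_chain S ((f0 ∘ g1) ∘ g2) ((hf0.comp g1.injective).comp g2.injective) h2).elim
  refine ⟨Set.range ((f0 ∘ g1) ∘ g2), ?_,
    Set.infinite_range_of_injective ((hf0.comp g1.injective).comp g2.injective), ?_⟩
  · rintro _ ⟨n, rfl⟩
    exact (f _).2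
  · rintro _ ⟨m, rfl⟩ _ ⟨n, rfl⟩ hmn
    rcases lt_trichotomy m n with h | rfl | h
    · exact absurd hmn (h1 _ _ (g2.strictMono h))
    · rfl
    · exact absurd hmn (h2 n m h)

end Groth.Agent.Lib.Helper26.AntichainNoeth
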