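import Mathlib
import Groth.Prelude.Def_CxOX
import Groth.Agent.Lib.Helper26.KInjAdjH
import Groth.Agent.Lib.Helper26.KInjComp
import Groth.Agent.Lib.Helper26.MVMod4

set_option maxHeartbeats 400000
set_option linter.style.haveILetI false
set_option linter.unusedSectionVars false

universe u

open CategoryTheory CategoryTheory.Limits AlgebraicGeometry

namespace Groth.Agent.Lib.Helper26.CxA

open Scheme.Modules Groth.Agent.Lib.Helper26.MVMod4

attribute [local instance] HasDerivedCategory.standard

variable {X Y : Scheme.{u}} (j : X ⟶ Y) [IsOpenImmersion j] [DCoh.HasRpush j]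

/-- `Rj_*` is fully faithful for an open immersion: the counit of any adjunction
`j^* ⊣ Rj_*` is an isomorphism -/
theorem isIso_counit (adj : DCoh.restrictD j ⊣ DCoh.Rpush j) : IsIso adj.counit := by
  obtain ⟨adj', h⟩ := Groth.Agent.Lib.Helper26.KInjAdjH.derivedAdjH_counit_isIso
    (restrictFunctor j) (pushforward j) (restrictAdjunction j) (DCoh.Rpush j)
    ((DCoh.pushKh j).totalRightDerivedUnit DerivedCategory.Qh
      (HomotopyCategory.quasiIso X.Modules (ComplexShape.up ℤ)))
  have ff := adj'.fullyFaithfulROfIsIsoCounit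
  haveI := ff.full
  haveI := ff.faithful
  infer_instance

/-- `j^*` of the unit is an isomorphism -/
theorem isIso_restrict_unit (adj : DCoh.restrictD j ⊣ DCoh.Rpush j) (E : DCoh.D Y) :
    IsIso ((DCoh.restrictD j).map (adj.unit.app E)) := by
  have := isIso_counit j adj
  have h := adj.left_triangle_components E
  haveI : IsIso (adj.counit.app ((DCoh.restrictD j).obj E)) := inferInstance
  haveI : IsIso (𝟙 ((DCoh.restrictD j).obj E)) := IsIso.id _
  exact IsIso.of_isIso_fac_right h

/-- the unit is an isomorphism on the essential image of `Rj_*` -/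
theorem isIso_unit_of_iso (adj : DCoh.restrictD j ⊣ DCoh.Rpush j) (E : DCoh.D Y)
    (F : DCoh.D X) (e : E ≅ (DCoh.Rpush j).obj F) : IsIso (adj.unit.app E) := by
  have := isIso_counit j adj
  have h := adj.right_triangle_components F
  haveI : IsIso ((DCoh.Rpush j).map (adj.counit.app F)) := inferInstance
  haveI : IsIso (𝟙 ((DCoh.Rpush j).obj F)) := IsIso.id _
  have h1 : IsIso (adj.unit.app ((DCoh.Rpush j).obj F)) := IsIso.of_isIso_fac_right h
  rw [NatTrans.isIso_app_iff_of_iso _ e]
  exact h1

end Groth.Agent.Lib.Helper26.CxA
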