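import Mathlib
import Groth.Prelude.Def_CxOX
import Groth.Agent.Lib.Helper26.MVMod4

set_option maxHeartbeats 400000
set_option linter.style.haveILetI false
set_option linter.unusedSectionVars false

universe u

open CategoryTheory CategoryTheory.Limits AlgebraicGeometry Opposite ZeroObject

namespace Groth.Agent.Lib.Helper26.CxC

open Scheme.Modules Groth.Agent.Lib.Helper26.MVMod4

attribute [local instance] HasDerivedCategory.standard

/-- `j^*` of the unit of `j^* ⊣ j_*` is an isomorphism -/
lemma isIso_restrict_unit {U X : Scheme.{u}} (j : U ⟶ X) [IsOpenImmersion j] (M : X.Modules) :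
    IsIso ((restrictFunctor j).map ((restrictAdjunction j).unit.app M)) := by
  have h := (restrictAdjunction j).left_triangle_components M
  haveI : IsIso ((restrictAdjunction j).counit.app ((restrictFunctor j).obj M)) := inferInstance
  haveI : IsIso (𝟙 ((restrictFunctor j).obj M)) := IsIso.id _
  exact IsIso.of_isIso_fac_right h

/-- `Γ_Z(M)|_U = 0` -/
lemma isZero_restrict_gammaZ {U X : Scheme.{u}} (j : U ⟶ X) [IsOpenImmersion j] (M : X.Modules) :
    IsZero ((restrictFunctor j).obj ((DCoh.gammaZ j).obj M)) := by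
  have := isIso_restrict_unit j M
  have e : (restrictFunctor j).obj (kernel ((restrictAdjunction j).unit.app M)) ≅
      kernel ((restrictFunctor j).map ((restrictAdjunction j).unit.app M)) :=
    PreservesKernel.iso (restrictFunctor j) _
  exact (isZero_kernel_of_mono _).of_iso e

/-- a complex with zero terms is zero -/
lemma isZero_of_terms {A : Type*} [Category A] [Abelian A] (K : CochainComplex A ℤ)
    (h : ∀ n, IsZero (K.X n)) : IsZero K := by
  rw [IsZero.iff_id_eq_zero]
  ext n
  exact (h n).eq_of_src _ _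

variable {X : Scheme.{u}} (U : X.Opens) [CxOX.HasRgammaZ U.ι]

/-- `RΓ_Z(G)|_U = 0` -/
theorem isZero_restrictD_RgammaZ (G : DCoh.D X) :
    IsZero ((DCoh.restrictD U.ι).obj ((CxOX.RgammaZ U.ι).obj G)) := by
  obtain ⟨I, hI, -, ⟨e⟩⟩ := exists_kinj G
  let e' : DerivedCategory.Q.obj (((DCoh.gammaZ U.ι).mapHomologicalComplex
      (ComplexShape.up ℤ)).obj I) ≅ (CxOX.RgammaZ U.ι).obj G :=
    unitIso (DCoh.gammaZ U.ι) I ≪≫ (CxOX.RgammaZ U.ι).mapIso e
  refine IsZero.of_iso ?_ (restrictDIso U _ e')
  apply Functor.map_isZero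
  apply isZero_of_terms
  intro n
  exact isZero_restrict_gammaZ U.ι (I.X n)

end Groth.Agent.Lib.Helper26.CxC
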