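import Mathlib
import Groth.Prelude.Def_CxOX
import Groth.Agent.Lib.Helper26.SuppD4

set_option maxHeartbeats 400000
set_option linter.style.haveILetI false
set_option linter.unusedSectionVars false

universe u

open CategoryTheory CategoryTheory.Limits AlgebraicGeometry Opposite ZeroObject

namespace Groth.Agent.Lib.Helper26.CxD

open Scheme.Modules Groth.Agent.Lib.Helper26.MVMod1 Groth.Agent.Lib.Helper26.MVMod4
  Groth.Agent.Lib.Helper26.SuppD1 Groth.Agent.Lib.Helper26.SuppD2 Groth.Agent.Lib.Helper26.SuppD3

attribute [local instance] HasDerivedCategory.standard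

/-- restriction along the two paths of a commutative square of open immersions, modules -/
lemma isZero_restrict_restrict {A B C D : Scheme.{u}} (a : A ⟶ B) (b : B ⟶ C) (c : A ⟶ D)
    (d : D ⟶ C) [IsOpenImmersion a] [IsOpenImmersion b] [IsOpenImmersion c] [IsOpenImmersion d]
    (w : a ≫ b = c ≫ d) (M : C.Modules) (h : IsZero ((restrictFunctor d).obj M)) :
    IsZero ((restrictFunctor a).obj ((restrictFunctor b).obj M)) := by
  have h' : IsZero ((restrictFunctor c).obj ((restrictFunctor d).obj M)) :=
    Functor.map_isZero _ h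
  exact h'.of_iso (((restrictFunctorComp a b).app M).symm ≪≫
    (restrictFunctorCongr w).app M ≪≫ (restrictFunctorComp c d).app M)

/-- restriction along the two paths of a commutative square of open immersions, derived -/
lemma isZero_restrictD_restrictD {A B C D : Scheme.{u}} (a : A ⟶ B) (b : B ⟶ C) (c : A ⟶ D)
    (d : D ⟶ C) [IsOpenImmersion a] [IsOpenImmersion b] [IsOpenImmersion c] [IsOpenImmersion d]
    (w : a ≫ b = c ≫ d) (E : DCoh.D C) (h : IsZero ((DCoh.restrictD d).obj E)) :
    IsZero ((DCoh.restrictD a).obj ((DCoh.restrictD b).obj E)) := by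
  apply isZero_mapDerivedCategory_obj (restrictFunctor a)
  intro i
  refine IsZero.of_iso ?_ ((restrictFunctor a).mapIso (homologyIso (restrictFunctor b) E i))
  apply isZero_restrict_restrict a b c d w
  exact (Functor.map_isZero (DerivedCategory.homologyFunctor _ i) h).of_iso
    (homologyIso (restrictFunctor d) E i).symm

/-- if `F` vanishes on `f⁻¹ V` then `Rf_* F` vanishes on `V` -/
lemma isZero_restrictD_Rpush {X Y : Scheme.{u}} (f : X ⟶ Y) [DCoh.HasRpush f] (V : Y.Opens)
    (F : DCoh.D X) (h : IsZero ((DCoh.restrictD (f ⁻¹ᵁ V).ι).obj F)) :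
    IsZero ((DCoh.restrictD V.ι).obj ((DCoh.Rpush f).obj F)) := by
  haveI := hasRpush (f ∣_ V)
  obtain ⟨e⟩ := Groth.Agent.Lib.Helper26.OpenBC2.main f V
  exact (isZero_Rpush_obj (f ∣_ V) _ h).of_iso (e.app F)

end Groth.Agent.Lib.Helper26.CxD
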