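import Mathlib
import Groth.Prelude.Def_CxOX
import Groth.Agent.Lib.Helper26.CxA
import Groth.Agent.Lib.Helper26.CxB
import Groth.Agent.Lib.Helper26.CxC
import Groth.Agent.Lib.Helper26.CxD

set_option maxHeartbeats 400000
set_option linter.style.haveILetI false
set_option linter.unusedSectionVars false

universe u

open CategoryTheory CategoryTheory.Limits AlgebraicGeometry Opposite ZeroObject

namespace Groth.Agent.Lib.Helper26.CxE

open Scheme.Modules

attribute [local instance] HasDerivedCategory.standard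

/-- the unit `E ⟶ Rj_* j^* E` is an isomorphism when `E` vanishes on an open `W` whose
complement lies in the range of `j` -/
theorem isIso_unit_of_isZero_restrictD {X Y : Scheme.{u}} (j : X ⟶ Y) [IsOpenImmersion j]
    (W : Y.Opens) (hW : (W : Set Y)ᶜ ⊆ Set.range j.base) [DCoh.HasRpush j]
    (adj : DCoh.restrictD j ⊣ DCoh.Rpush j) (E : DCoh.D Y)
    (hE : IsZero ((DCoh.restrictD W.ι).obj E)) : IsIso (adj.unit.app E) := by
  apply Groth.Agent.Lib.Helper26.CxB.isIso_of_restrictD_cover j W hW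
  · exact Groth.Agent.Lib.Helper26.CxA.isIso_restrict_unit j adj E
  · have h0 : IsZero ((DCoh.restrictD (j ⁻¹ᵁ W).ι).obj ((DCoh.restrictD j).obj E)) :=
      Groth.Agent.Lib.Helper26.CxD.isZero_restrictD_restrictD (j ⁻¹ᵁ W).ι j (j ∣_ W) W.ι
        (morphismRestrict_ι j W).symm E hE
    have h1 : IsZero ((DCoh.restrictD W.ι).obj
        ((DCoh.Rpush j).obj ((DCoh.restrictD j).obj E))) :=
      Groth.Agent.Lib.Helper26.CxD.isZero_restrictD_Rpush j W _ h0
    exact ⟨0, hE.eq_of_src _ _, h1.eq_of_src _ _⟩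

theorem main14368 {X Xbar : Scheme.{u}} (j : X ⟶ Xbar) [IsOpenImmersion j] (W : Xbar.Opens)
    (hW : (W : Set Xbar)ᶜ ⊆ Set.range j.base) [DCoh.HasRpush j] [CxOX.HasRgammaZ W.ι]
    (adj : DCoh.restrictD j ⊣ DCoh.Rpush j) (G : DCoh.D Xbar) :
    IsIso (adj.unit.app ((CxOX.RgammaZ W.ι).obj G)) :=
  isIso_unit_of_isZero_restrictD j W hW adj _
    (Groth.Agent.Lib.Helper26.CxC.isZero_restrictD_RgammaZ W G)

end Groth.Agent.Lib.Helper26.CxE
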