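import Mathlib
import Groth.Prelude.Def_CxOX
import Groth.Agent.Lib.Helper26.MVMod4
import Groth.Agent.Lib.Helper26.MVMod2
import Groth.Agent.Lib.Helper2.PushEdge3

set_option maxHeartbeats 400000
set_option linter.style.haveILetI false
set_option linter.unusedSectionVars false

universe u

open CategoryTheory CategoryTheory.Limits AlgebraicGeometry Opposite ZeroObject

namespace Groth.Agent.Lib.Helper26.CxF

open Scheme.Modules Groth.Agent.Lib.Helper26.MVMod1 Groth.Agent.Lib.Helper26.MVMod4

attribute [local instance] HasDerivedCategory.standard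

variable {X : Scheme.{u}}

/-- restriction maps of injective modules are surjective -/
lemma res_surjective (M : X.Modules) [Injective M] {T T' : X.Opens} (h : T' ≤ T) :
    Function.Surjective (res M h) := by
  have hf := Groth.Agent.Lib.Helper2.PushEdge3.isFlasque_of_injective M
  have := hf.epi (homOfLE h).op
  exact (AddCommGrpCat.epi_iff_surjective _).1 this

/-- the unit `M ⟶ j_* j^* M` is an epimorphism for injective `M` -/
lemma epi_η_of_injective (U : X.Opens) (M : X.Modules) [Injective M] : Epi ((η U).app M) := by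
  apply Preadditive.epi_of_cancel_zero
  intro N g hg
  apply Scheme.Modules.hom_ext
  intro T
  ext y
  obtain ⟨x, rfl⟩ := res_surjective M (U.ι.image_preimage_le T) y
  have h2 := congrArg (fun φ => (Scheme.Modules.Hom.app φ T) x) hg
  exact h2

end Groth.Agent.Lib.Helper26.CxF

namespace Groth.Agent.Lib.Helper26.CxF

open Scheme.Modules Groth.Agent.Lib.Helper26.MVMod1 Groth.Agent.Lib.Helper26.MVMod2
  Groth.Agent.Lib.Helper26.MVMod4
open Pretriangulated

attribute [local instance] HasDerivedCategory.standard

variable {X : Scheme.{u}} (U : X.Opens) (I : CochainComplex X.Modules ℤ)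

/-- the inclusion `Γ_Z(I) ⟶ I` on complexes -/
noncomputable def ιC : ((DCoh.gammaZ U.ι).mapHomologicalComplex (ComplexShape.up ℤ)).obj I ⟶ I :=
  (NatTrans.mapHomologicalComplex (CxOX.gammaZι U.ι) (ComplexShape.up ℤ)).app I ≫
    (Functor.mapHomologicalComplexIdIso X.Modules (ComplexShape.up ℤ)).hom.app I

lemma ιC_f (n : ℤ) : (ιC U I).f n = (CxOX.gammaZι U.ι).app (I.X n) := by
  simp only [ιC, Functor.mapHomologicalComplexIdIso, HomologicalComplex.comp_f,
    NatTrans.mapHomologicalComplex_app_f, NatIso.ofComponents_hom_app,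
    HomologicalComplex.Hom.isoOfComponents_hom_f, Iso.refl_hom]
  exact Category.comp_id _

lemma ιC_ηC : ιC U I ≫ ηC I U = 0 := by
  refine HomologicalComplex.hom_ext _ _ (fun n => ?_)
  rw [HomologicalComplex.comp_f, ιC_f]
  exact kernel.condition ((restrictAdjunction U.ι).unit.app (I.X n))

/-- the complex-level short complex `Γ_Z(I) ⟶ I ⟶ j_* j^* I` -/
noncomputable def SG : ShortComplex (CochainComplex X.Modules ℤ) :=
  ShortComplex.mk (ιC U I) (ηC I U) (ιC_ηC U I)

lemma SG_shortExact (hI : ∀ n, Injective (I.X n)) : (SG U I).ShortExact := by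
  refine HomologicalComplex.shortExact_of_degreewise_shortExact _ (fun n => ?_)
  have : Epi ((η U).app (I.X n)) := by
    have := hI n
    exact epi_η_of_injective U (I.X n)
  let S' : ShortComplex X.Modules :=
    ShortComplex.mk (kernel.ι ((η U).app (I.X n))) ((η U).app (I.X n)) (kernel.condition _)
  have hS' : S'.ShortExact :=
    { exact := ShortComplex.exact_of_f_is_kernel _ (kernelIsKernel _)
      mono_f := inferInstanceAs (Mono (kernel.ι _))
      epi_g := this }
  refine ShortComplex.shortExact_of_iso ?_ hS'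
  refine ShortComplex.isoMk (Iso.refl _) (Iso.refl _) (Iso.refl _) ?_ ?_
  · change 𝟙 _ ≫ (ιC U I).f n = kernel.ι _ ≫ 𝟙 _
    rw [ιC_f, Category.id_comp, Category.comp_id]
    rfl
  · change 𝟙 _ ≫ (ηC I U).f n = (η U).app (I.X n) ≫ 𝟙 _
    rw [Category.id_comp, Category.comp_id]
    rfl

end Groth.Agent.Lib.Helper26.CxF
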