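import Mathlib
import Groth.Prelude.Def_CxOX
import Groth.Agent.Lib.Helper26.CxF

set_option maxHeartbeats 400000
set_option linter.style.haveILetI false
set_option linter.unusedSectionVars false

universe u

open CategoryTheory CategoryTheory.Limits AlgebraicGeometry Opposite ZeroObject

namespace Groth.Agent.Lib.Helper26.CxG

open Scheme.Modules Groth.Agent.Lib.Helper26.MVMod1 Groth.Agent.Lib.Helper26.MVMod2
  Groth.Agent.Lib.Helper26.MVMod4 Groth.Agent.Lib.Helper26.CxF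
open Pretriangulated

attribute [local instance] HasDerivedCategory.standard

variable {X : Scheme.{u}} (U : X.Opens) (I : CochainComplex X.Modules ℤ)
  [CxOX.HasRgammaZ U.ι]

lemma gammaZKhι_app :
    (CxOX.gammaZKhι U.ι).app ((HomotopyCategory.quotient _ _).obj I) =
      DerivedCategory.Qh.map (((DCoh.gammaZ U.ι).mapHomotopyCategoryFactors
        (ComplexShape.up ℤ)).hom.app I) ≫
      DerivedCategory.Qh.map ((HomotopyCategory.quotient _ _).map (ιC U I)) := by
  simp [CxOX.gammaZKhι, ιC, Quotient.natTransLift]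
  erw [Category.comp_id]
  rfl


/-- the value of `RΓ_Z ⟶ id` on a K-injective complex -/
lemma unitIso_RgammaZToId [I.IsKInjective] :
    (unitIso (DCoh.gammaZ U.ι) I).hom ≫ (CxOX.RgammaZToId U.ι).app (DerivedCategory.Q.obj I) =
      DerivedCategory.Q.map (ιC U I) := by
  have h1 := (CxOX.RgammaZToId U.ι).naturality ((DerivedCategory.quotientCompQhIso X.Modules).hom.app I)
  have h2 := (CxOX.RgammaZ U.ι).rightDerived_fac_app
    ((CxOX.gammaZKh U.ι).totalRightDerivedUnit DerivedCategory.Qh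
      (HomotopyCategory.quasiIso X.Modules (ComplexShape.up ℤ)))
    (HomotopyCategory.quasiIso X.Modules (ComplexShape.up ℤ)) (𝟭 (DCoh.D X))
    (CxOX.gammaZKhι U.ι ≫ (Functor.rightUnitor _).inv)
    ((HomotopyCategory.quotient _ _).obj I)
  have h3 := (DerivedCategory.quotientCompQhIso X.Modules).hom.naturality (ιC U I)
  dsimp at h1 h2 h3
  change _ ≫ (CxOX.RgammaZToId U.ι).app _ = _ at h2
  rw [Category.comp_id, gammaZKhι_app] at h2
  simp only [unitIso, Iso.trans_hom, Iso.symm_hom, Iso.app_inv, Functor.mapIso_hom, asIso_hom,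
    Iso.app_hom, Category.assoc]
  have h4 : DerivedCategory.Qh.map (((DCoh.gammaZ U.ι).mapHomotopyCategoryFactors
        (ComplexShape.up ℤ)).inv.app I) ≫
      DerivedCategory.Qh.map (((DCoh.gammaZ U.ι).mapHomotopyCategoryFactors
        (ComplexShape.up ℤ)).hom.app I) = 𝟙 _ := by
    rw [← Functor.map_comp, Iso.inv_hom_id_app]
    exact CategoryTheory.Functor.map_id _ _
  rw [h1, reassoc_of% h2, reassoc_of% h4, h3, Iso.inv_hom_id_app_assoc]


/-- transport a distinguished triangle along isomorphisms of its objects, explicit maps -/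
lemma distinguished_of_isos {C : Type*} [Category C] [HasZeroObject C] [HasShift C ℤ]
    [Preadditive C] [∀ n : ℤ, (shiftFunctor C n).Additive] [Pretriangulated C] (T : Triangle C)
    (hT : T ∈ distTriang C) {Y₁ Y₂ Y₃ : C} (e₁ : T.obj₁ ≅ Y₁) (e₂ : T.obj₂ ≅ Y₂)
    (e₃ : T.obj₃ ≅ Y₃) :
    Triangle.mk (e₁.inv ≫ T.mor₁ ≫ e₂.hom) (e₂.inv ≫ T.mor₂ ≫ e₃.hom)
      (e₃.inv ≫ T.mor₃ ≫ e₁.hom⟦(1 : ℤ)⟧') ∈ distTriang C := by
  refine isomorphic_distinguished _ hT _
      (Triangle.isoMk _ _ e₁.symm e₂.symm e₃.symm ?_ ?_ ?_)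
  · change (e₁.inv ≫ T.mor₁ ≫ e₂.hom) ≫ e₂.inv = e₁.inv ≫ T.mor₁
    simp only [Category.assoc, Iso.hom_inv_id, Category.comp_id]
  · change (e₂.inv ≫ T.mor₂ ≫ e₃.hom) ≫ e₃.inv = e₂.inv ≫ T.mor₂
    simp only [Category.assoc, Iso.hom_inv_id, Category.comp_id]
  · change (e₃.inv ≫ T.mor₃ ≫ e₁.hom⟦(1 : ℤ)⟧') ≫ e₁.inv⟦(1 : ℤ)⟧' = e₃.inv ≫ T.mor₃
    simp only [Category.assoc, ← Functor.map_comp, Iso.hom_inv_id,
      CategoryTheory.Functor.map_id, Category.comp_id]

variable [DCoh.HasRpush U.ι]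

/-- the local cohomology triangle `RΓ_Z E ⟶ E ⟶ Rj_* N ⟶` -/
theorem exists_triangle (E : DCoh.D X) :
    ∃ (N : DCoh.D (U : Scheme.{u})) (u : E ⟶ (DCoh.Rpush U.ι).obj N)
      (δ : (DCoh.Rpush U.ι).obj N ⟶ ((CxOX.RgammaZ U.ι).obj E)⟦(1 : ℤ)⟧),
      Triangle.mk ((CxOX.RgammaZToId U.ι).app E) u δ ∈ distTriang (DCoh.D X) := by
  obtain ⟨I, hI, hinj, ⟨e⟩⟩ := exists_kinj E
  have hS := SG_shortExact U I hinj
  have hT := DerivedCategory.triangleOfSES_distinguished hS
  let e₁ : DerivedCategory.Q.obj (((DCoh.gammaZ U.ι).mapHomologicalComplex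
      (ComplexShape.up ℤ)).obj I) ≅ (CxOX.RgammaZ U.ι).obj E :=
    unitIso (DCoh.gammaZ U.ι) I ≪≫ (CxOX.RgammaZ U.ι).mapIso e
  let e₃ : DerivedCategory.Q.obj (((A U).mapHomologicalComplex (ComplexShape.up ℤ)).obj I) ≅
      (DCoh.Rpush U.ι).obj (DerivedCategory.Q.obj
        (((restrictFunctor U.ι).mapHomologicalComplex (ComplexShape.up ℤ)).obj I)) :=
    DerivedCategory.Q.mapIso ((Functor.mapHomologicalComplexCompIso
      (Iso.refl (restrictFunctor U.ι ⋙ pushforward U.ι)) (ComplexShape.up ℤ)).symm.app I) ≪≫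
    unitIso (pushforward U.ι) (((restrictFunctor U.ι).mapHomologicalComplex
      (ComplexShape.up ℤ)).obj I)
  have h := distinguished_of_isos _ hT e₁ e e₃
  have h1 : e₁.inv ≫ (DerivedCategory.triangleOfSES hS).mor₁ ≫ e.hom =
      (CxOX.RgammaZToId U.ι).app E := by
    rw [Iso.inv_comp_eq]
    change DerivedCategory.Q.map (ιC U I) ≫ e.hom = _
    rw [← unitIso_RgammaZToId U I]
    have := (CxOX.RgammaZToId U.ι).naturality e.hom
    dsimp at this
    simp only [e₁, Iso.trans_hom, Functor.mapIso_hom, Category.assoc]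
    rw [this]
  refine ⟨_, e.inv ≫ (DerivedCategory.triangleOfSES hS).mor₂ ≫ e₃.hom,
    e₃.inv ≫ (DerivedCategory.triangleOfSES hS).mor₃ ≫ e₁.hom⟦(1 : ℤ)⟧', ?_⟩
  rw [← h1]
  exact h

end Groth.Agent.Lib.Helper26.CxG
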