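import Mathlib
import Groth.Prelude.Def_CxOX
import Groth.Agent.Lib.Helper26.CxG
import Groth.Agent.Lib.Helper26.CxE

set_option maxHeartbeats 400000
set_option linter.style.haveILetI false
set_option linter.unusedSectionVars false

universe u

open CategoryTheory CategoryTheory.Limits AlgebraicGeometry Opposite ZeroObject

namespace Groth.Agent.Lib.Helper26.CxH

open Scheme.Modules Groth.Agent.Lib.Helper26.MVMod4
open Pretriangulated

attribute [local instance] HasDerivedCategory.standard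

/-- maps from an object vanishing on `j` to `Rj_* N` vanish -/
lemma hom_Rpush_eq_zero {X Y : Scheme.{u}} (j : X ⟶ Y) [IsOpenImmersion j] [DCoh.HasRpush j]
    (adj : DCoh.restrictD j ⊣ DCoh.Rpush j) (S : DCoh.D Y) (N : DCoh.D X)
    (hS : IsZero ((DCoh.restrictD j).obj S)) (φ : S ⟶ (DCoh.Rpush j).obj N) : φ = 0 := by
  apply (adj.homEquiv S N).symm.injective
  exact hS.eq_of_src _ _

variable {X : Scheme.{u}} (U : X.Opens) [CxOX.HasRgammaZ U.ι] [DCoh.HasRpush U.ι]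
  (adj : DCoh.restrictD U.ι ⊣ DCoh.Rpush U.ι)

/-- the local cohomology triangle `RΓ_Z E ⟶ E ⟶ Rj_* j^* E ⟶` with the unit of any adjunction -/
theorem exists_triangle_unit (E : DCoh.D X) :
    ∃ (δ : (DCoh.Rpush U.ι).obj ((DCoh.restrictD U.ι).obj E) ⟶
        ((CxOX.RgammaZ U.ι).obj E)⟦(1 : ℤ)⟧),
      Triangle.mk ((CxOX.RgammaZToId U.ι).app E) (adj.unit.app E) δ ∈ distTriang (DCoh.D X) := by
  obtain ⟨N, u, δ, hT⟩ := Groth.Agent.Lib.Helper26.CxG.exists_triangle U E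
  have hT' := (DCoh.restrictD U.ι).map_distinguished _ hT
  have h0 : IsZero ((DCoh.restrictD U.ι).obj ((CxOX.RgammaZ U.ι).obj E)) :=
    Groth.Agent.Lib.Helper26.CxC.isZero_restrictD_RgammaZ U E
  have hu : IsIso ((DCoh.restrictD U.ι).map u) := (Triangle.isZero₁_iff_isIso₂ _ hT').1 h0
  have hc := Groth.Agent.Lib.Helper26.CxA.isIso_counit U.ι adj
  let ψ : (DCoh.restrictD U.ι).obj E ⟶ N := (adj.homEquiv E N).symm u
  have hψ : ψ = (DCoh.restrictD U.ι).map u ≫ adj.counit.app N := adj.homEquiv_counit _ _ _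
  have hψi : IsIso ψ := by rw [hψ]; infer_instance
  have hu' : adj.unit.app E ≫ (DCoh.Rpush U.ι).map ψ = u := by
    have := adj.homEquiv_unit (X := E) (Y := N) (f := ψ)
    rw [← this]
    simp [ψ]
  refine ⟨(DCoh.Rpush U.ι).map ψ ≫ δ, isomorphic_distinguished _ hT _
    (Triangle.isoMk _ _ (Iso.refl _) (Iso.refl _) ((DCoh.Rpush U.ι).mapIso (asIso ψ)) ?_ ?_ ?_)⟩
  · change (CxOX.RgammaZToId U.ι).app E ≫ 𝟙 _ = 𝟙 _ ≫ (CxOX.RgammaZToId U.ι).app E
    rw [Category.comp_id, Category.id_comp]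
  · change adj.unit.app E ≫ (DCoh.Rpush U.ι).map ψ = 𝟙 _ ≫ u
    rw [Category.id_comp, hu']
  · change ((DCoh.Rpush U.ι).map ψ ≫ δ) ≫ (𝟙 _)⟦(1 : ℤ)⟧' = (DCoh.Rpush U.ι).map ψ ≫ δ
    rw [CategoryTheory.Functor.map_id, Category.comp_id]

/-- `RΓ_Z E = 0` iff the unit `E ⟶ Rj_* j^* E` is an isomorphism -/
theorem isZero_RgammaZ_iff (E : DCoh.D X) :
    IsZero ((CxOX.RgammaZ U.ι).obj E) ↔ IsIso (adj.unit.app E) := by
  obtain ⟨δ, hT⟩ := exists_triangle_unit U adj E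
  exact Triangle.isZero₁_iff_isIso₂ _ hT

include adj in
/-- maps from an object vanishing on `U` factor through `RΓ_Z E ⟶ E` -/
theorem exists_lift (E S : DCoh.D X) (hS : IsZero ((DCoh.restrictD U.ι).obj S)) (φ : S ⟶ E) :
    ∃ α : S ⟶ (CxOX.RgammaZ U.ι).obj E, α ≫ (CxOX.RgammaZToId U.ι).app E = φ := by
  obtain ⟨δ, hT⟩ := exists_triangle_unit U adj E
  obtain ⟨α, hα⟩ := Triangle.coyoneda_exact₂ _ hT φ
    (hom_Rpush_eq_zero U.ι adj S _ hS _)
  exact ⟨α, hα.symm⟩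

end Groth.Agent.Lib.Helper26.CxH
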