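import Mathlib
import Groth.Prelude.Def_CxOX
import Groth.Agent.Lib.Helper26.CxH
import Groth.Agent.Lib.Helper26.RpushAdjCor

set_option maxHeartbeats 400000
set_option linter.style.haveILetI false
set_option linter.unusedSectionVars false

universe u

open CategoryTheory CategoryTheory.Limits AlgebraicGeometry Opposite ZeroObject

namespace Groth.Agent.Lib.Helper26.CxI

open Scheme.Modules Groth.Agent.Lib.Helper26.MVMod4
  Groth.Agent.Lib.Helper26.SuppD1 Groth.Agent.Lib.Helper26.SuppD2 Groth.Agent.Lib.Helper26.SuppD3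
open Pretriangulated

attribute [local instance] HasDerivedCategory.standard

/-- an adjunction `j^* ⊣ Rj_*` exists for every open immersion -/
lemma nonempty_adj {X Y : Scheme.{u}} (j : X ⟶ Y) [IsOpenImmersion j] [DCoh.HasRpush j] :
    Nonempty (DCoh.restrictD j ⊣ DCoh.Rpush j) :=
  Groth.Agent.Lib.Helper26.KInjAdjH.derivedAdjH
    (restrictFunctor j) (pushforward j) (restrictAdjunction j) (DCoh.Rpush j)
    ((DCoh.pushKh j).totalRightDerivedUnit DerivedCategory.Qh
      (HomotopyCategory.quasiIso X.Modules (ComplexShape.up ℤ)))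

/-- `Rh_* F ≅ Rg_* Rf_* F` for `f ≫ g = h` -/
lemma rpush_factor {X Y Z : Scheme.{u}} (f : X ⟶ Y) (g : Y ⟶ Z) (h : X ⟶ Z) (w : f ≫ g = h)
    [DCoh.HasRpush f] [DCoh.HasRpush g] [DCoh.HasRpush h] (F : DCoh.D X) :
    Nonempty ((DCoh.Rpush h).obj F ≅ (DCoh.Rpush g).obj ((DCoh.Rpush f).obj F)) := by
  subst w
  obtain ⟨e⟩ := Groth.Agent.Lib.Helper26.RpushAdjCor.rpush_comp f g
  exact ⟨(e.app F).symm⟩

variable {X : Scheme.{u}}

/-- support off `V` implies vanishing on every open contained in `V` -/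
lemma isZero_restrictD_of_isSuppD (V O : X.Opens) (hO : O ≤ V) (K : DCoh.D X)
    (hK : CxOX.IsSuppD V.ι K) : IsZero ((DCoh.restrictD O.ι).obj K) := by
  apply isZero_mapDerivedCategory_obj (restrictFunctor O.ι)
  intro i
  apply isZero_restrict_of_support
  intro x hx hx'
  refine hK i hx' ?_
  rw [Scheme.Opens.range_ι]
  exact hO hx

/-- vanishing on `V` implies support off `V` -/
lemma isSuppD_of_isZero_restrictD (V : X.Opens) (K : DCoh.D X)
    (hK : IsZero ((DCoh.restrictD V.ι).obj K)) : CxOX.IsSuppD V.ι K := by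
  intro i x hx hxV
  rw [Scheme.Opens.range_ι] at hxV
  have h3 : IsZero ((restrictFunctor V.ι).obj (DCoh.HD K i)) :=
    (Functor.map_isZero (DerivedCategory.homologyFunctor _ i) hK).of_iso
      (homologyIso (restrictFunctor V.ι) K i).symm
  exact hx (Groth.Agent.Lib.Helper26.SuppD4.stalk_subsingleton_of_isZero_restrict _ V h3 x hxV)


section Main

variable {X Xbar : Scheme.{u}} (j : X ⟶ Xbar) [IsOpenImmersion j] (U : X.Opens)
  (U' T : Xbar.Opens)
  (hU' : (U' : Set Xbar) = (closure (j.base '' ((U : Set X)ᶜ)))ᶜ)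
  (hT : (T : Set Xbar) = (U' : Set Xbar) ∪ Set.range j.base)
  [DCoh.HasRpush j] [CxOX.HasRgammaZ T.ι]

include hU' in
lemma preimage_le : j ⁻¹ᵁ U' ≤ U := by
  intro x hx
  by_contra hxU
  have h1 : j.base x ∈ (U' : Set Xbar) := hx
  rw [hU'] at h1
  exact h1 (subset_closure ⟨x, hxU, rfl⟩)

include hU' in
lemma image_le (x : X) (hx : x ∈ U) : j.base x ∈ (U' : Set Xbar) := by
  rw [hU']
  intro h
  have hemb : Topology.IsOpenEmbedding j.base := j.isOpenEmbedding
  have h2 : x ∈ closure ((U : Set X)ᶜ) := by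
    rw [hemb.isInducing.closure_eq_preimage_closure_image]
    exact h
  rw [IsClosed.closure_eq (by simpa using U.isOpen)] at h2
  exact h2 hx

include hT in
lemma range_le : Set.range j.base ⊆ Set.range T.ι.base := by
  rw [Scheme.Opens.range_ι, hT]
  exact Set.subset_union_right

/-- the factorisation of `j` through `T` -/
noncomputable def jT : X ⟶ (T : Scheme.{u}) :=
  IsOpenImmersion.lift T.ι j (range_le j U' T hT)

lemma jT_fac : jT j U' T hT ≫ T.ι = j := IsOpenImmersion.lift_fac _ _ _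

instance : IsOpenImmersion (jT j U' T hT) := by
  haveI : IsOpenImmersion (jT j U' T hT ≫ T.ι) := by rw [jT_fac]; infer_instance
  exact IsOpenImmersion.of_comp _ T.ι

include hU' hT in
theorem part1 (F : DCoh.D X) (hF : CxOX.IsSuppD U.ι F) :
    CxOX.IsSuppD U'.ι ((DCoh.Rpush j).obj F) ∧
      IsZero ((CxOX.RgammaZ T.ι).obj ((DCoh.Rpush j).obj F)) := by
  constructor
  · apply isSuppD_of_isZero_restrictD
    apply Groth.Agent.Lib.Helper26.CxD.isZero_restrictD_Rpush
    exact isZero_restrictD_of_isSuppD U _ (preimage_le j U U' hU') F hF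
  · haveI := hasRpush T.ι
    haveI := hasRpush (jT j U' T hT)
    obtain ⟨adjT⟩ := nonempty_adj T.ι
    rw [Groth.Agent.Lib.Helper26.CxH.isZero_RgammaZ_iff T adjT]
    obtain ⟨e⟩ := rpush_factor (jT j U' T hT) T.ι j (jT_fac j U' T hT) F
    exact Groth.Agent.Lib.Helper26.CxA.isIso_unit_of_iso T.ι adjT _ _ e

include hU' hT in
theorem part3 (adj : DCoh.restrictD j ⊣ DCoh.Rpush j) (G : DCoh.D Xbar)
    (hGq : DCoh.IsQCohD G) (hG : CxOX.IsSuppD U'.ι G)
    (hG0 : IsZero ((CxOX.RgammaZ T.ι).obj G)) :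
    IsIso (adj.unit.app G) ∧ DCoh.IsQCohD ((DCoh.restrictD j).obj G) ∧
      CxOX.IsSuppD U.ι ((DCoh.restrictD j).obj G) := by
  have hG' : IsZero ((DCoh.restrictD U'.ι).obj G) :=
    isZero_restrictD_of_isSuppD U' U' le_rfl G hG
  refine ⟨?_, ?_, ?_⟩
  · haveI := hasRpush T.ι
    haveI := hasRpush (jT j U' T hT)
    obtain ⟨adjT⟩ := nonempty_adj T.ι
    obtain ⟨adjjT⟩ := nonempty_adj (jT j U' T hT)
    have h1 : IsIso (adjT.unit.app G) :=
      (Groth.Agent.Lib.Helper26.CxH.isZero_RgammaZ_iff T adjT G).1 hG0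
    let GT := (DCoh.restrictD T.ι).obj G
    have hW : ((T.ι ⁻¹ᵁ U' : (T : Scheme.{u}).Opens) : Set (T : Scheme.{u}))ᶜ ⊆
        Set.range (jT j U' T hT).base := by
      intro t ht
      have htT : T.ι.base t ∈ (T : Set Xbar) := t.2
      rw [hT] at htT
      rcases htT with h | ⟨x, hx⟩
      · exact absurd h ht
      · refine ⟨x, ?_⟩
        apply T.ι.isOpenEmbedding.injective
        rw [← hx, ← Scheme.Hom.comp_apply, jT_fac]
    have hE : IsZero ((DCoh.restrictD (T.ι ⁻¹ᵁ U').ι).obj GT) :=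
      Groth.Agent.Lib.Helper26.CxD.isZero_restrictD_restrictD (T.ι ⁻¹ᵁ U').ι T.ι (T.ι ∣_ U') U'.ι
        (morphismRestrict_ι T.ι U').symm G hG'
    have h2 : IsIso (adjjT.unit.app GT) :=
      Groth.Agent.Lib.Helper26.CxE.isIso_unit_of_isZero_restrictD (jT j U' T hT) (T.ι ⁻¹ᵁ U') hW
        adjjT GT hE
    obtain ⟨e⟩ := rpush_factor (jT j U' T hT) T.ι j (jT_fac j U' T hT)
      ((DCoh.restrictD (jT j U' T hT)).obj GT)
    exact Groth.Agent.Lib.Helper26.CxA.isIso_unit_of_iso j adj G _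
      (asIso (adjT.unit.app G) ≪≫ (DCoh.Rpush T.ι).mapIso (asIso (adjjT.unit.app GT)) ≪≫ e.symm)
  · intro i
    have : (DCoh.HD G i).IsQuasicoherent := hGq i
    have h1 : ((restrictFunctor j).obj (DCoh.HD G i)).IsQuasicoherent := inferInstance
    exact (SheafOfModules.isQuasicoherent X.ringCatSheaf).prop_of_iso
      (homologyIso (restrictFunctor j) G i).symm h1
  · apply isSuppD_of_isZero_restrictD
    have hr : Set.range (U.ι ≫ j).base ⊆ Set.range U'.ι.base := by
      rw [Scheme.Opens.range_ι]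
      rintro _ ⟨x, rfl⟩
      exact image_le j U U' hU' (U.ι.base x) x.2
    exact Groth.Agent.Lib.Helper26.CxD.isZero_restrictD_restrictD U.ι j
      (IsOpenImmersion.lift U'.ι (U.ι ≫ j) hr) U'.ι
      (IsOpenImmersion.lift_fac _ _ _).symm G hG'

end Main

end Groth.Agent.Lib.Helper26.CxI
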