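import Mathlib
import Groth.Prelude.Def_CxOX
import Groth.Agent.Lib.Helper26.CxI

set_option maxHeartbeats 400000
set_option linter.style.haveILetI false
set_option linter.unusedSectionVars false

universe u

open CategoryTheory CategoryTheory.Limits AlgebraicGeometry Opposite ZeroObject

namespace Groth.Agent.Lib.Helper26.CxK

open Scheme.Modules Groth.Agent.Lib.Helper26.MVMod4
  Groth.Agent.Lib.Helper26.SuppD1 Groth.Agent.Lib.Helper26.SuppD2 Groth.Agent.Lib.Helper26.SuppD3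
open Pretriangulated

attribute [local instance] HasDerivedCategory.standard

/-- vanishing on an open is stable under shifts -/
lemma isZero_restrictD_shift {X Y : Scheme.{u}} (j : X ⟶ Y) [IsOpenImmersion j] (A : DCoh.D Y)
    (hA : IsZero ((DCoh.restrictD j).obj A)) (n : ℤ) :
    IsZero ((DCoh.restrictD j).obj (A⟦n⟧)) :=
  ((shiftFunctor (DCoh.D X) n).map_isZero hA).of_iso
    (((DCoh.restrictD j).commShiftIso n).app A)

lemma hom_shift_neg_eq_zero {X Y : Scheme.{u}} (j : X ⟶ Y) [IsOpenImmersion j] [DCoh.HasRpush j]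
    (adj : DCoh.restrictD j ⊣ DCoh.Rpush j) (A : DCoh.D Y)
    (hA : IsZero ((DCoh.restrictD j).obj A)) (N : DCoh.D X)
    (g : A ⟶ ((DCoh.Rpush j).obj N)⟦(-1 : ℤ)⟧) : g = 0 := by
  apply (shiftFunctor (DCoh.D Y) (1 : ℤ)).map_injective
  rw [Functor.map_zero]
  rw [← cancel_mono ((shiftFunctorCompIsoId (DCoh.D Y) (-1 : ℤ) 1 (by simp)).hom.app
    ((DCoh.Rpush j).obj N)), zero_comp]
  exact Groth.Agent.Lib.Helper26.CxH.hom_Rpush_eq_zero j adj _ _
    (isZero_restrictD_shift j A hA 1) _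

variable {X : Scheme.{u}} (U : X.Opens) [CxOX.HasRgammaZ U.ι]

/-- maps from an object vanishing on `U` to `E` are the same as maps to `RΓ_Z E` -/
theorem hom_RgammaZ_bijective (A E : DCoh.D X) (hA : IsZero ((DCoh.restrictD U.ι).obj A)) :
    Function.Bijective (fun χ : A ⟶ (CxOX.RgammaZ U.ι).obj E =>
      χ ≫ (CxOX.RgammaZToId U.ι).app E) := by
  haveI := hasRpush U.ι
  obtain ⟨adj⟩ := Groth.Agent.Lib.Helper26.CxI.nonempty_adj U.ι
  constructor
  · intro χ₁ χ₂ h
    dsimp at h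
    obtain ⟨δ, hT⟩ := Groth.Agent.Lib.Helper26.CxH.exists_triangle_unit U adj E
    have h0 : (χ₁ - χ₂) ≫ (CxOX.RgammaZToId U.ι).app E = 0 := by
      rw [Preadditive.sub_comp, h, sub_self]
    obtain ⟨g, hg⟩ : ∃ g : A ⟶ ((DCoh.Rpush U.ι).obj ((DCoh.restrictD U.ι).obj E))⟦(-1 : ℤ)⟧,
        χ₁ - χ₂ = g ≫ (Triangle.mk ((CxOX.RgammaZToId U.ι).app E) (adj.unit.app E)
          δ).invRotate.mor₁ :=
      Triangle.coyoneda_exact₂ _ (inv_rot_of_distTriang _ hT) (χ₁ - χ₂) h0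
    have hg0 : g = 0 := hom_shift_neg_eq_zero U.ι adj A hA _ g
    rw [hg0, zero_comp] at hg
    exact sub_eq_zero.1 hg
  · intro φ
    exact Groth.Agent.Lib.Helper26.CxH.exists_lift U adj E A hA φ

end Groth.Agent.Lib.Helper26.CxK
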