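import Mathlib
import Groth.Prelude.Def_DCoh2
import Groth.Prelude.Def_CohB1
import Groth.Agent.Lib.Helper16.RS10
import Groth.Agent.Lib.Helper26.CxA
import Groth.Agent.Lib.Helper26.CxD
import Groth.Agent.Lib.Helper26.CxI

set_option maxHeartbeats 400000
set_option linter.style.haveILetI false
set_option linter.unusedSectionVars false

universe u

open CategoryTheory CategoryTheory.Limits AlgebraicGeometry Opposite ZeroObject

namespace Groth.Agent.Lib.Helper26.PerfPush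

open Scheme.Modules Groth.Agent.Lib.Helper16.RS
  Groth.Agent.Lib.Helper26.SuppD1 Groth.Agent.Lib.Helper26.SuppD2

attribute [local instance] HasDerivedCategory.standard

/-- the zero complex is strictly perfect -/
lemma isStrictlyPerfect_zero {V : Scheme.{u}} :
    DCoh.IsStrictlyPerfect (0 : CochainComplex V.Modules ℤ) := by
  refine ⟨⟨0, 0, fun i _ => ?_⟩, fun i x => ?_⟩
  · exact (HomologicalComplex.eval _ _ i).map_isZero (isZero_zero _)
  · refine ⟨⊤, 0, trivial, ⟨IsZero.iso ?_ ?_⟩⟩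
    · exact (restrictFunctor _).map_isZero
        ((HomologicalComplex.eval _ _ i).map_isZero (isZero_zero _))
    · exact IsInitial.isZero ((isColimitEquivIsInitialOfIsEmpty _ _) (colimit.isColimit _))

theorem main {X : Scheme.{u}} (U : X.Opens) [DCoh.HasRpush U.ι]
    (E : DCoh.D (U : Scheme.{u})) (hE : DCoh.IsPerfect E) (T : Set (U : Scheme.{u}))
    (_hT : IsClosed T) (hjT : IsClosed ((fun x : (U : Scheme.{u}) => U.ι.base x) '' T))
    (hsupp : ∀ i : ℤ, CohB1.support (DCoh.HD E i) ⊆ T) :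
    DCoh.IsPerfect ((DCoh.Rpush U.ι).obj E) := by
  obtain ⟨adj⟩ := Groth.Agent.Lib.Helper26.CxI.nonempty_adj U.ι
  haveI := Groth.Agent.Lib.Helper26.CxA.isIso_counit U.ι adj
  obtain ⟨F₀, ⟨e₀⟩⟩ := exists_rep ((DCoh.Rpush U.ι).obj E)
  rw [isPerfect_iff_isOn _ F₀ e₀]
  intro x
  by_cases hx : x ∈ U
  · -- on `U`, the pushforward restricts to `E`
    let F₁ := (RCx U.ι).obj F₀
    let e₁ : DerivedCategory.Q.obj F₁ ≅ E :=
      (RDQIso U.ι F₀).symm ≪≫ (DCoh.restrictD U.ι).mapIso e₀ ≪≫ asIso (adj.counit.app E)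
    obtain ⟨W, hxW, hW⟩ := (isPerfect_iff_isOn E F₁ e₁).1 hE ⟨x, hx⟩
    exact ⟨U.ι ''ᵁ W, ⟨⟨x, hx⟩, hxW, rfl⟩, IsOn.image U W hW⟩
  · -- off `U`, the pushforward vanishes near `x`
    let W : X.Opens := ⟨((fun x : (U : Scheme.{u}) => U.ι.base x) '' T)ᶜ, hjT.isOpen_compl⟩
    have hxW : x ∈ W := by
      rintro ⟨y, _, rfl⟩
      exact hx y.2
    refine ⟨W, hxW, 0, isStrictlyPerfect_zero, ?_⟩
    have hz : IsZero ((DCoh.restrictD W.ι).obj ((DCoh.Rpush U.ι).obj E)) := by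
      apply Groth.Agent.Lib.Helper26.CxD.isZero_restrictD_Rpush
      apply isZero_mapDerivedCategory_obj (restrictFunctor (U.ι ⁻¹ᵁ W).ι)
      intro i
      apply isZero_restrict_of_support
      intro y hy hy'
      exact hy ⟨y, hsupp i hy', rfl⟩
    have hz' : IsZero (DerivedCategory.Q.obj ((RCx W.ι).obj F₀)) :=
      hz.of_iso ((RDQIso W.ι F₀).symm ≪≫ (DCoh.restrictD W.ι).mapIso e₀)
    exact ⟨hz'.iso (DerivedCategory.Q.map_isZero (isZero_zero _))⟩

end Groth.Agent.Lib.Helper26.PerfPush
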