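import Mathlib
import Groth.Prelude.Def_CxOX
import Groth.Agent.Lib.Helper26.PerfPush
import Groth.Agent.Lib.Helper26.CxE
import Groth.Agent.Lib.Helper26.CxH
import Groth.Agent.Lib.Helper26.CxK

set_option maxHeartbeats 400000
set_option linter.style.haveILetI false
set_option linter.unusedSectionVars false

universe u v

open CategoryTheory CategoryTheory.Limits AlgebraicGeometry Opposite ZeroObject

namespace Groth.Agent.Lib.Helper26.ApproxOpen

open Pretriangulated

attribute [local instance] HasDerivedCategory.standard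

section Abstract

variable {C : Type u} [Category.{v} C] [Abelian C] [HasDerivedCategory C]

/-- iso on `H^i` for `i > m` and epi on `H^m` -/
def HW (m : ℤ) {A B : DerivedCategory C} (α : A ⟶ B) : Prop :=
  (∀ i : ℤ, m < i → IsIso ((DerivedCategory.homologyFunctor C i).map α)) ∧
    Epi ((DerivedCategory.homologyFunctor C m).map α)

lemma HW_iff_cone (m : ℤ) (T : Triangle (DerivedCategory C)) (hT : T ∈ distTriang _) :
    HW m T.mor₁ ↔ ∀ i : ℤ, m ≤ i → IsZero ((DerivedCategory.homologyFunctor C i).obj T.obj₃) := by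
  constructor
  · rintro ⟨h1, h2⟩ i hi
    have hepi : Epi ((DerivedCategory.homologyFunctor C i).map T.mor₁) := by
      rcases hi.lt_or_eq with h | h
      · have := h1 i h; infer_instance
      · subst h; exact h2
    have hmono : Mono ((DerivedCategory.homologyFunctor C (i + 1)).map T.mor₁) := by
      have := h1 (i + 1) (by lia); infer_instance
    have e1 := (DerivedCategory.HomologySequence.epi_homologyMap_mor₁_iff T hT i).1 hepi
    have e2 := (DerivedCategory.HomologySequence.mono_homologyMap_mor₁_iff T hT i (i + 1) rfl).1 hmono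
    exact (DerivedCategory.HomologySequence.exact₃ T hT i (i + 1) rfl).isZero_of_both_zeros e1 e2
  · intro h
    have hepi : ∀ i : ℤ, m ≤ i → Epi ((DerivedCategory.homologyFunctor C i).map T.mor₁) := by
      intro i hi
      rw [DerivedCategory.HomologySequence.epi_homologyMap_mor₁_iff T hT i]
      exact (h i hi).eq_of_tgt _ _
    refine ⟨fun i hi => ?_, hepi m le_rfl⟩
    have := hepi i hi.le
    have hmono : Mono ((DerivedCategory.homologyFunctor C i).map T.mor₁) := by
      rw [DerivedCategory.HomologySequence.mono_homologyMap_mor₁_iff T hT (i - 1) i (by lia)]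
      exact (h (i - 1) (by lia)).eq_of_src _ _
    exact isIso_of_mono_of_epi _

lemma HW_iso_comp (m : ℤ) {A A' B : DerivedCategory C} (e : A' ⟶ A) [IsIso e] (α : A ⟶ B)
    (h : HW m α) : HW m (e ≫ α) := by
  obtain ⟨h1, h2⟩ := h
  constructor
  · intro i hi
    have := h1 i hi
    rw [Functor.map_comp]; infer_instance
  · rw [Functor.map_comp]; infer_instance

end Abstract


section Main

open Scheme.Modules Groth.Agent.Lib.Helper26.SuppD1 Groth.Agent.Lib.Helper26.SuppD2
  Groth.Agent.Lib.Helper26.SuppD3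

variable {X : Scheme.{u}} (U : X.Opens) (T : Set ↥X) (hT : IsClosed T)
  (hTU : T ⊆ (U : Set ↥X))

/-- the open complement of `T` -/
def Vc : X.Opens := ⟨Tᶜ, hT.isOpen_compl⟩

include hTU in
lemma compl_Vc_le : ((Vc T hT : X.Opens) : Set X)ᶜ ⊆ Set.range U.ι.base := by
  intro x hx
  rw [Scheme.Opens.range_ι]
  apply hTU
  simpa [Vc] using hx

include hTU in
lemma compl_U_le : ((U : X.Opens) : Set X)ᶜ ⊆ Set.range (Vc T hT).ι.base := by
  intro x hx
  rw [Scheme.Opens.range_ι]
  intro hxT
  exact hx (hTU hxT)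

/-- the pushforward of an object supported on `T` vanishes off `T` -/
lemma isZero_restrictD_Vc_Rpush [DCoh.HasRpush U.ι] (P : DCoh.D (U : Scheme.{u}))
    (hP : ∀ i : ℤ, CohB1.support (DCoh.HD P i) ⊆ {v : ↥(U : Scheme.{u}) | U.ι.base v ∈ T}) :
    IsZero ((DCoh.restrictD (Vc T hT).ι).obj ((DCoh.Rpush U.ι).obj P)) := by
  apply Groth.Agent.Lib.Helper26.CxD.isZero_restrictD_Rpush
  apply isZero_mapDerivedCategory_obj (restrictFunctor (U.ι ⁻¹ᵁ (Vc T hT)).ι)
  intro i
  apply isZero_restrict_of_support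
  intro y hy hy'
  exact hy (hP i hy')

include hTU in
/-- there are no nonzero maps from an object vanishing off `T` to one vanishing on `U` -/
lemma hom_eq_zero (M N : DCoh.D X) (hM : IsZero ((DCoh.restrictD (Vc T hT).ι).obj M))
    (hN : IsZero ((DCoh.restrictD U.ι).obj N)) (φ : M ⟶ N) : φ = 0 := by
  haveI := hasRpush (Vc T hT).ι
  obtain ⟨adjV⟩ := Groth.Agent.Lib.Helper26.CxI.nonempty_adj (Vc T hT).ι
  haveI := Groth.Agent.Lib.Helper26.CxE.isIso_unit_of_isZero_restrictD (Vc T hT).ι U
    (compl_U_le U T hT hTU) adjV N hN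
  rw [← cancel_mono (adjV.unit.app N), zero_comp]
  exact Groth.Agent.Lib.Helper26.CxH.hom_Rpush_eq_zero (Vc T hT).ι adjV M _ hM _

include hT hTU in
theorem main (E : DCoh.D X) (m : ℤ)
    (happ : ∃ (P : DCoh.D (U : Scheme.{u})) (α : P ⟶ (DCoh.restrictD U.ι).obj E), DCoh.IsPerfect P ∧
      (∀ i : ℤ, CohB1.support (DCoh.HD P i) ⊆ {v : ↥(U : Scheme.{u}) | U.ι.base v ∈ T}) ∧
      (∀ i : ℤ, m < i → IsIso ((DerivedCategory.homologyFunctor _ i).map α)) ∧
      Epi ((DerivedCategory.homologyFunctor _ m).map α))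
    (hsupp : ∀ i : ℤ, m ≤ i → CohB1.support (DCoh.HD E i) ⊆ T) :
    ∃ (P : DCoh.D X) (α : P ⟶ E), DCoh.IsPerfect P ∧ (∀ i : ℤ, CohB1.support (DCoh.HD P i) ⊆ T) ∧
      (∀ i : ℤ, m < i → IsIso ((DerivedCategory.homologyFunctor X.Modules i).map α)) ∧
      Epi ((DerivedCategory.homologyFunctor X.Modules m).map α) := by
  obtain ⟨P, α, hPperf, hPsupp, hα1, hα2⟩ := happ
  have hα : HW m α := ⟨hα1, hα2⟩
  haveI := hasRpush U.ι
  obtain ⟨adj⟩ := Groth.Agent.Lib.Helper26.CxI.nonempty_adj U.ι
  haveI := Groth.Agent.Lib.Helper26.CxA.isIso_counit U.ι adj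
  let V := Vc T hT
  let M := (DCoh.Rpush U.ι).obj P
  have hMV : IsZero ((DCoh.restrictD V.ι).obj M) := isZero_restrictD_Vc_Rpush U T hT P hPsupp
  -- the cone of the unit
  obtain ⟨C, c, δ, hTr⟩ := distinguished_cocone_triangle₁ (adj.unit.app E)
  have hCU : IsZero ((DCoh.restrictD U.ι).obj C) := by
    have hT' := (DCoh.restrictD U.ι).map_distinguished _ hTr
    have := Groth.Agent.Lib.Helper26.CxA.isIso_restrict_unit U.ι adj E
    exact (Triangle.isZero₁_iff_isIso₂ _ hT').2 this
  have hCU1 : IsZero ((DCoh.restrictD U.ι).obj (C⟦(1 : ℤ)⟧)) :=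
    Groth.Agent.Lib.Helper26.CxK.isZero_restrictD_shift U.ι C hCU 1
  -- lift
  obtain ⟨α', hα'⟩ : ∃ α' : M ⟶ E, (DCoh.Rpush U.ι).map α = α' ≫ adj.unit.app E :=
    Triangle.coyoneda_exact₃ _ hTr ((DCoh.Rpush U.ι).map α)
      (hom_eq_zero U T hT hTU M _ hMV hCU1 _)
  have hres : (DCoh.restrictD U.ι).map α' = adj.counit.app P ≫ α := by
    have h1 := adj.counit.naturality α
    have h2 := adj.left_triangle_components E
    simp only [Functor.comp_map, Functor.id_map] at h1
    calc (DCoh.restrictD U.ι).map α'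
        = (DCoh.restrictD U.ι).map α' ≫ (DCoh.restrictD U.ι).map (adj.unit.app E) ≫
            adj.counit.app _ := by rw [h2, Category.comp_id]
      _ = (DCoh.restrictD U.ι).map ((DCoh.Rpush U.ι).map α) ≫ adj.counit.app _ := by
          rw [hα', Functor.map_comp, Category.assoc]
      _ = _ := h1
  refine ⟨M, α', ?_, ?_, ?_⟩
  · -- perfect
    refine Groth.Agent.Lib.Helper26.PerfPush.main U P hPperf
      {v : ↥(U : Scheme.{u}) | U.ι.base v ∈ T} (hT.preimage U.ι.base.hom.continuous) ?_ hPsupp
    have : (fun x : (U : Scheme.{u}) => U.ι.base x) '' {v | U.ι.base v ∈ T} = T := by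
      ext x
      constructor
      · rintro ⟨y, hy, rfl⟩; exact hy
      · intro hx
        exact ⟨⟨x, hTU hx⟩, hx, rfl⟩
    rw [this]; exact hT
  · -- support
    intro i x hx
    by_contra hxT
    have h := Groth.Agent.Lib.Helper26.CxI.isSuppD_of_isZero_restrictD V M hMV i hx
    apply h
    rw [Scheme.Opens.range_ι]
    exact hxT
  · -- cohomology
    obtain ⟨K, g, h, hK⟩ := distinguished_cocone_triangle α'
    have key : ∀ i : ℤ, m ≤ i → IsZero ((DerivedCategory.homologyFunctor X.Modules i).obj K) := by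
      intro i hi
      apply Groth.Agent.Lib.Helper26.CxB.isZero_of_restrict_cover U.ι V (compl_Vc_le U T hT hTU)
      · refine IsZero.of_iso ?_ (homologyIso (restrictFunctor U.ι) K i).symm
        have hK' := (DCoh.restrictD U.ι).map_distinguished _ hK
        refine (HW_iff_cone m _ hK').1 ?_ i hi
        change HW m ((DCoh.restrictD U.ι).map α')
        rw [hres]
        exact HW_iso_comp m _ α hα
      · refine IsZero.of_iso ?_ (homologyIso (restrictFunctor V.ι) K i).symm
        have hK' := (DCoh.restrictD V.ι).map_distinguished _ hK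
        have hiso : IsIso ((DCoh.restrictD V.ι).map g) :=
          (Triangle.isZero₁_iff_isIso₂ _ hK').1 hMV
        refine IsZero.of_iso ?_
          ((DerivedCategory.homologyFunctor _ i).mapIso (asIso ((DCoh.restrictD V.ι).map g))).symm
        refine IsZero.of_iso ?_ (homologyIso (restrictFunctor V.ι) E i)
        apply isZero_restrict_of_support
        intro x hx hx'
        exact hx (hsupp i hi hx')
    exact (HW_iff_cone m _ hK).2 key

end Main

end Groth.Agent.Lib.Helper26.ApproxOpen
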