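import Mathlib
import Groth.Agent.Lib.Helper12.IdemLiftNC
import Groth.Agent.Lib.Helper12.GabberHensel

set_option autoImplicit false
universe u v

namespace Groth.Agent.Lib.Helper26.AzLift0

open TensorProduct Polynomial Groth.Agent.Lib.Helper12

variable {R : Type u} [CommRing R] [IsLocalRing R]

/-- the kernel of `d ↦ 1 ⊗ d` is `𝔪 • ⊤` -/
theorem mem_smul_top_of_tmul_eq_zero {M : Type v} [AddCommGroup M] [Module R M] (d : M)
    (h : (1 : IsLocalRing.ResidueField R) ⊗ₜ[R] d = 0) :
    d ∈ (IsLocalRing.maximalIdeal R) • (⊤ : Submodule R M) := by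
  have h1 : TensorProduct.quotTensorEquivQuotSMul M (IsLocalRing.maximalIdeal R)
      ((1 : R ⧸ IsLocalRing.maximalIdeal R) ⊗ₜ[R] d) = 0 := by
    have : ((1 : R ⧸ IsLocalRing.maximalIdeal R) ⊗ₜ[R] d) = 0 := h
    rw [this, map_zero]
  rw [TensorProduct.quotTensorEquivQuotSMul_mk_one_tmul] at h1
  exact (Submodule.Quotient.mk_eq_zero _).mp h1

theorem tmul_eq_zero_of_mem_smul_top {M : Type v} [AddCommGroup M] [Module R M] (d : M)
    (h : d ∈ (IsLocalRing.maximalIdeal R) • (⊤ : Submodule R M)) :
    (1 : IsLocalRing.ResidueField R) ⊗ₜ[R] d = 0 := by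
  refine Submodule.smul_induction_on
    (p := fun x => (1 : IsLocalRing.ResidueField R) ⊗ₜ[R] x = 0) h ?_ ?_
  · intro r hr n _
    show (1 : IsLocalRing.ResidueField R) ⊗ₜ[R] (r • n) = 0
    rw [← TensorProduct.smul_tmul, Algebra.smul_def, mul_one]
    have : algebraMap R (IsLocalRing.ResidueField R) r = 0 := by
      rw [IsLocalRing.ResidueField.algebraMap_eq]
      exact (IsLocalRing.residue_eq_zero_iff r).mpr hr
    rw [this, TensorProduct.zero_tmul]
  · intro x y hx hy
    show (1 : IsLocalRing.ResidueField R) ⊗ₜ[R] (x + y) = 0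
    rw [TensorProduct.tmul_add, hx, hy, add_zero]

theorem exists_one_tmul {M : Type v} [AddCommGroup M] [Module R M]
    (t : IsLocalRing.ResidueField R ⊗[R] M) :
    ∃ d : M, (1 : IsLocalRing.ResidueField R) ⊗ₜ[R] d = t :=
  TensorProduct.mk_surjective R M (IsLocalRing.ResidueField R) IsLocalRing.residue_surjective t

variable (D : Type v) [Ring D] [Algebra R D] [Module.Finite R D]

/-- the reduction map `D → k ⊗ D` as an algebra hom -/
noncomputable abbrev red : D →ₐ[R] IsLocalRing.ResidueField R ⊗[R] D :=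
  Algebra.TensorProduct.includeRight

omit [Module.Finite R D] in
theorem red_apply (d : D) : red (R := R) D d = (1 : IsLocalRing.ResidueField R) ⊗ₜ[R] d := rfl

theorem exists_monic_X_pow (z : D)
    (hz : z ∈ (IsLocalRing.maximalIdeal R) • (⊤ : Submodule R D)) :
    ∃ (n : ℕ) (F : R[X]), F.Monic ∧
      F.map (Ideal.Quotient.mk (IsLocalRing.maximalIdeal R)) = X ^ (n + 1) ∧ aeval z F = 0 := by
  have hrange : LinearMap.range (Algebra.lmul R D z) ≤
      (IsLocalRing.maximalIdeal R) • (⊤ : Submodule R D) := by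
    rintro _ ⟨x, rfl⟩
    show z * x ∈ _
    refine Submodule.smul_induction_on hz ?_ ?_
    · intro r hr n _
      rw [smul_mul_assoc]
      exact Submodule.smul_mem_smul hr Submodule.mem_top
    · intro a b ha hb
      rw [add_mul]; exact Submodule.add_mem _ ha hb
  obtain ⟨p, hpm, -, hpc, hpz⟩ :=
    LinearMap.exists_monic_and_natDegree_eq_and_coeff_mem_pow_and_aeval_eq_zero R
      (Algebra.lmul R D z) (IsLocalRing.maximalIdeal R) hrange
  refine ⟨p.natDegree, X * p, monic_X.mul hpm, ?_, ?_⟩
  · rw [Polynomial.map_mul, map_X, pow_succ']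
    congr 1
    ext k
    rw [coeff_map, coeff_X_pow]
    split_ifs with hk
    · rw [hk, hpm.coeff_natDegree, map_one]
    · rcases lt_or_gt_of_ne hk with hlt | hgt
      · rw [Ideal.Quotient.eq_zero_iff_mem]
        have := hpc k
        have hpos : p.natDegree - k ≠ 0 := by omega
        exact Ideal.pow_le_self hpos this
      · rw [coeff_eq_zero_of_natDegree_lt hgt, map_zero]
  · have h3 : aeval (Algebra.lmul R D z) p = Algebra.lmul R D (aeval z p) :=
      Polynomial.aeval_algHom_apply _ _ _
    have h4 : (aeval (Algebra.lmul R D z) p) 1 = aeval z p := by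
      rw [h3]
      simp
    rw [map_mul, ← h4, hpz]
    simp

end Groth.Agent.Lib.Helper26.AzLift0

namespace Groth.Agent.Lib.Helper26.AzLift0

open TensorProduct Polynomial Groth.Agent.Lib.Helper12

/-- idempotents of `k ⊗ D` lift to `D` over a henselian local ring -/
theorem exists_idempotent_lift {R : Type u} [CommRing R] [HenselianLocalRing R]
    (D : Type v) [Ring D] [Algebra R D] [Module.Finite R D]
    (x : IsLocalRing.ResidueField R ⊗[R] D) (hx : IsIdempotentElem x) :
    ∃ ε : D, IsIdempotentElem ε ∧ (1 : IsLocalRing.ResidueField R) ⊗ₜ[R] ε = x := by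
  obtain ⟨b, hb⟩ := exists_one_tmul (R := R) x
  have hjac : IsLocalRing.maximalIdeal R ≤ Ideal.jacobson ⊥ := by
    rw [IsLocalRing.jacobson_eq_maximalIdeal ⊥ bot_ne_top]
  have hfl : FactorLift (IsLocalRing.maximalIdeal R) := factorLift_of_henselianRing
  have hI : ∀ a ∈ IsLocalRing.maximalIdeal R,
      algebraMap R (IsLocalRing.ResidueField R ⊗[R] D) a = 0 := by
    intro a ha
    rw [Algebra.TensorProduct.algebraMap_apply]
    have : algebraMap R (IsLocalRing.ResidueField R) a = 0 := by
      rw [IsLocalRing.ResidueField.algebraMap_eq]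
      exact (IsLocalRing.residue_eq_zero_iff a).mpr ha
    rw [this, TensorProduct.zero_tmul]
  have hπb : red (R := R) D b = x := hb
  have hz : b * b - b ∈ (IsLocalRing.maximalIdeal R) • (⊤ : Submodule R D) := by
    apply mem_smul_top_of_tmul_eq_zero
    have : (1 : IsLocalRing.ResidueField R) ⊗ₜ[R] (b * b - b) = red (R := R) D (b * b - b) := rfl
    rw [this, map_sub, map_mul, hπb, hx.eq, sub_self]
  obtain ⟨n, F, hFm, hFmap, hFz⟩ := exists_monic_X_pow D (b * b - b) hz
  obtain ⟨e, he, hπe⟩ := exists_idempotent_lift_nc hjac hfl (red (R := R) D) hI b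
    (by rw [hπb]; exact hx) n F hFm hFmap hFz
  exact ⟨e, he, by rw [← red_apply, hπe, hπb]⟩

end Groth.Agent.Lib.Helper26.AzLift0
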