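import Mathlib

set_option autoImplicit false
universe u v w

namespace Groth.Agent.Lib.Helper26.AzLift1

variable {k : Type u} [Field k] {B₀ : Type v} [Ring B₀] [Algebra k B₀] [Nontrivial B₀]
  {D₀ : Type w} [Ring D₀] [Algebra k D₀]

/-- field-level construction of the idempotent cutting out the module `B₀` -/
theorem exists_idem (Θ : D₀ →ₐ[k] Module.End k B₀) (hΘ : Function.Bijective Θ)
    (jB : B₀ →ₐ[k] D₀) (hj : ∀ x, Θ (jB x) = LinearMap.mulLeft k x) :
    ∃ ε : D₀, IsIdempotentElem ε ∧ (∀ b, jB b * ε = 0 → b = 0) ∧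
      ∀ d, d * ε = jB (Θ d 1) * ε := by
  obtain ⟨l, hl⟩ := LinearMap.exists_leftInverse_of_injective
    (LinearMap.toSpanSingleton k B₀ 1) (by
      rw [LinearMap.ker_eq_bot]
      intro a b hab
      simp only [LinearMap.toSpanSingleton_apply] at hab
      have : (a - b) • (1 : B₀) = 0 := by rw [sub_smul, hab, sub_self]
      rcases smul_eq_zero.mp this with h | h
      · exact sub_eq_zero.mp h
      · exact absurd h one_ne_zero)
  have hl1 : l 1 = 1 := by
    have := LinearMap.congr_fun hl 1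
    simpa using this
  let P : Module.End k B₀ := (LinearMap.toSpanSingleton k B₀ 1) ∘ₗ l
  have hP : ∀ x, P x = l x • (1 : B₀) := fun x => rfl
  obtain ⟨ε, hε⟩ := hΘ.2 P
  refine ⟨ε, ?_, ?_, ?_⟩
  · apply hΘ.1
    show Θ (ε * ε) = Θ ε
    rw [map_mul, hε]
    ext x
    rw [Module.End.mul_apply, hP, hP, map_smul, hl1, smul_eq_mul, mul_one]
  · intro b hb
    have h1 : Θ (jB b * ε) 1 = b := by
      rw [map_mul, hε, hj, Module.End.mul_apply, hP, hl1, one_smul, LinearMap.mulLeft_apply, mul_one]
    rw [hb, map_zero] at h1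
    exact h1.symm
  · intro d
    apply hΘ.1
    rw [map_mul, map_mul, hε, hj]
    ext x
    rw [Module.End.mul_apply, Module.End.mul_apply, hP, map_smul, map_smul,
      LinearMap.mulLeft_apply, mul_one]

end Groth.Agent.Lib.Helper26.AzLift1
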