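import Mathlib
import Groth.Agent.Lib.Helper26.AzLift0

set_option autoImplicit false
universe u v w

namespace Groth.Agent.Lib.Helper26.AzLift2

open TensorProduct MulOpposite

variable {R : Type u} [CommRing R] [IsLocalRing R]
  {A B : Type u} [Ring A] [Algebra R A] [Ring B] [Algebra R B]

local notation "𝕜" => IsLocalRing.ResidueField R

/-- left multiplication by `1 ⊗ b` -/
noncomputable def fB : B →ₐ[R] Module.End 𝕜 (𝕜 ⊗[R] B) :=
  ((Algebra.lmul 𝕜 (𝕜 ⊗[R] B)).restrictScalars R).comp Algebra.TensorProduct.includeRight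

theorem fB_apply (b : B) (x : 𝕜 ⊗[R] B) : fB (R := R) b x = ((1 : 𝕜) ⊗ₜ[R] b) * x := rfl

variable (e₀ : (IsLocalRing.ResidueField R ⊗[R] A) ≃ₐ[IsLocalRing.ResidueField R]
  (IsLocalRing.ResidueField R ⊗[R] B))

/-- right multiplication by `e₀ (1 ⊗ a)` -/
noncomputable def gA : Aᵐᵒᵖ →ₐ[R] Module.End 𝕜 (𝕜 ⊗[R] B) where
  toFun a := LinearMap.mulRight 𝕜 (e₀ ((1 : 𝕜) ⊗ₜ[R] a.unop))
  map_one' := by
    refine LinearMap.ext fun x => ?_
    rw [unop_one, ← Algebra.TensorProduct.one_def, map_one, LinearMap.mulRight_apply, mul_one]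
    rfl
  map_mul' a a' := by
    refine LinearMap.ext fun x => ?_
    simp only [unop_mul, LinearMap.mulRight_apply, Module.End.mul_apply]
    have : ((1 : 𝕜) ⊗ₜ[R] (a'.unop * a.unop) : 𝕜 ⊗[R] A) =
        ((1 : 𝕜) ⊗ₜ[R] a'.unop) * ((1 : 𝕜) ⊗ₜ[R] a.unop) := by
      rw [Algebra.TensorProduct.tmul_mul_tmul, mul_one]
    rw [this, map_mul, mul_assoc]
  map_zero' := by
    refine LinearMap.ext fun x => ?_
    simp
  map_add' a a' := by
    refine LinearMap.ext fun x => ?_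
    simp [TensorProduct.tmul_add, mul_add]
  commutes' r := by
    refine LinearMap.ext fun x => ?_
    simp only [LinearMap.mulRight_apply, Module.algebraMap_end_apply]
    have : ((1 : 𝕜) ⊗ₜ[R] (algebraMap R Aᵐᵒᵖ r).unop : 𝕜 ⊗[R] A) =
        algebraMap 𝕜 (𝕜 ⊗[R] A) (algebraMap R 𝕜 r) := by
      rw [Algebra.TensorProduct.algebraMap_apply, MulOpposite.algebraMap_apply, unop_op,
        Algebra.algebraMap_eq_smul_one, ← TensorProduct.smul_tmul, Algebra.smul_def, mul_one]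
      rfl
    rw [this, AlgEquiv.commutes, ← Algebra.commutes, ← Algebra.smul_def, algebraMap_smul]

theorem gA_apply (a : Aᵐᵒᵖ) (x : 𝕜 ⊗[R] B) :
    gA e₀ a x = x * e₀ ((1 : 𝕜) ⊗ₜ[R] a.unop) := rfl

theorem commute_fB_gA (b : B) (a : Aᵐᵒᵖ) : Commute (fB (R := R) b) (gA e₀ a) := by
  show _ * _ = _ * _
  refine LinearMap.ext fun x => ?_
  simp only [Module.End.mul_apply, fB_apply, gA_apply, mul_assoc]

/-- the action of `D = B ⊗ Aᵐᵒᵖ` on `k ⊗ B` -/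
noncomputable def Θ : B ⊗[R] Aᵐᵒᵖ →ₐ[R] Module.End 𝕜 (𝕜 ⊗[R] B) :=
  Algebra.TensorProduct.lift fB (gA e₀) (commute_fB_gA e₀)

/-- the action of `D₀ = k ⊗ (B ⊗ Aᵐᵒᵖ)` on `k ⊗ B` -/
noncomputable def Θ₀ : 𝕜 ⊗[R] (B ⊗[R] Aᵐᵒᵖ) →ₐ[𝕜] Module.End 𝕜 (𝕜 ⊗[R] B) :=
  Algebra.TensorProduct.lift (Algebra.ofId 𝕜 _) (Θ e₀) (fun _ _ => Algebra.commutes _ _)

theorem Θ₀_tmul (c : 𝕜) (d : B ⊗[R] Aᵐᵒᵖ) : Θ₀ e₀ (c ⊗ₜ[R] d) = c • Θ e₀ d := by
  rw [Θ₀, Algebra.TensorProduct.lift_tmul, Algebra.ofId_apply, ← Algebra.smul_def]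

theorem Θ_tmul (b : B) (a : Aᵐᵒᵖ) : Θ e₀ (b ⊗ₜ[R] a) = fB b * gA e₀ a := by
  rw [Θ, Algebra.TensorProduct.lift_tmul]

theorem Θ₀_one_tmul (d : B ⊗[R] Aᵐᵒᵖ) : Θ₀ e₀ ((1 : 𝕜) ⊗ₜ[R] d) = Θ e₀ d := by
  rw [Θ₀_tmul, one_smul]

theorem mulLeft_mem_range (x : 𝕜 ⊗[R] B) : LinearMap.mulLeft 𝕜 x ∈ (Θ₀ e₀).range := by
  induction x using TensorProduct.induction_on with
  | zero =>
    rw [LinearMap.mulLeft_zero_eq_zero]
    exact Subalgebra.zero_mem _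
  | tmul c b =>
    have h1 : (c ⊗ₜ[R] b : 𝕜 ⊗[R] B) = c • ((1 : 𝕜) ⊗ₜ[R] b) := by
      rw [TensorProduct.smul_tmul', smul_eq_mul, mul_one]
    have h2 : LinearMap.mulLeft 𝕜 ((1 : 𝕜) ⊗ₜ[R] b : 𝕜 ⊗[R] B) =
        Θ₀ e₀ ((1 : 𝕜) ⊗ₜ[R] (b ⊗ₜ[R] (1 : Aᵐᵒᵖ))) := by
      rw [Θ₀_one_tmul, Θ_tmul, map_one, mul_one]
      rfl
    have h3 : LinearMap.mulLeft 𝕜 (c • ((1 : 𝕜) ⊗ₜ[R] b : 𝕜 ⊗[R] B)) =
        c • LinearMap.mulLeft 𝕜 ((1 : 𝕜) ⊗ₜ[R] b : 𝕜 ⊗[R] B) := by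
      refine LinearMap.ext fun z => ?_
      simp only [LinearMap.mulLeft_apply, LinearMap.smul_apply, smul_mul_assoc]
    rw [h1, h3, h2]
    exact Subalgebra.smul_mem _ (AlgHom.mem_range_self _ _) c
  | add x y hx hy =>
    have : LinearMap.mulLeft 𝕜 (x + y) = LinearMap.mulLeft 𝕜 x + LinearMap.mulLeft 𝕜 y := by
      refine LinearMap.ext fun z => ?_
      simp only [LinearMap.mulLeft_apply, LinearMap.add_apply, add_mul]
    rw [this]
    exact Subalgebra.add_mem _ hx hy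

theorem mulRight_mem_range (y : 𝕜 ⊗[R] B) : LinearMap.mulRight 𝕜 y ∈ (Θ₀ e₀).range := by
  obtain ⟨z, rfl⟩ := e₀.surjective y
  induction z using TensorProduct.induction_on with
  | zero =>
    rw [map_zero, LinearMap.mulRight_zero_eq_zero]
    exact Subalgebra.zero_mem _
  | tmul c a =>
    have h1 : (c ⊗ₜ[R] a : 𝕜 ⊗[R] A) = c • ((1 : 𝕜) ⊗ₜ[R] a) := by
      rw [TensorProduct.smul_tmul', smul_eq_mul, mul_one]
    have h2 : LinearMap.mulRight 𝕜 (e₀ ((1 : 𝕜) ⊗ₜ[R] a)) =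
        Θ₀ e₀ ((1 : 𝕜) ⊗ₜ[R] ((1 : B) ⊗ₜ[R] (op a))) := by
      rw [Θ₀_one_tmul, Θ_tmul, map_one, one_mul]
      rfl
    have h3 : LinearMap.mulRight 𝕜 (c • e₀ ((1 : 𝕜) ⊗ₜ[R] a)) =
        c • LinearMap.mulRight 𝕜 (e₀ ((1 : 𝕜) ⊗ₜ[R] a)) := by
      refine LinearMap.ext fun z => ?_
      simp only [LinearMap.mulRight_apply, LinearMap.smul_apply, mul_smul_comm]
    rw [h1, map_smul, h3, h2]
    exact Subalgebra.smul_mem _ (AlgHom.mem_range_self _ _) c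
  | add x y hx hy =>
    have : LinearMap.mulRight 𝕜 (e₀ (x + y)) =
        LinearMap.mulRight 𝕜 (e₀ x) + LinearMap.mulRight 𝕜 (e₀ y) := by
      refine LinearMap.ext fun z => ?_
      simp only [map_add, LinearMap.mulRight_apply, LinearMap.add_apply, mul_add]
    rw [this]
    exact Subalgebra.add_mem _ hx hy

theorem Θ₀_surjective [IsAzumaya 𝕜 (𝕜 ⊗[R] B)] : Function.Surjective (Θ₀ e₀) := by
  intro T
  obtain ⟨w, rfl⟩ := (IsAzumaya.bij (R := 𝕜) (A := 𝕜 ⊗[R] B)).2 T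
  show _ ∈ (Θ₀ e₀).range
  induction w using TensorProduct.induction_on with
  | zero =>
    rw [map_zero]
    exact Subalgebra.zero_mem _
  | tmul x y =>
    have : AlgHom.mulLeftRight 𝕜 (𝕜 ⊗[R] B) (x ⊗ₜ[𝕜] y) =
        LinearMap.mulLeft 𝕜 x * LinearMap.mulRight 𝕜 y.unop := by
      refine LinearMap.ext fun z => ?_
      rw [AlgHom.mulLeftRight_apply, Module.End.mul_apply, LinearMap.mulLeft_apply,
        LinearMap.mulRight_apply, mul_assoc]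
    rw [this]
    exact Subalgebra.mul_mem _ (mulLeft_mem_range e₀ x) (mulRight_mem_range e₀ _)
  | add x y hx hy =>
    rw [map_add]
    exact Subalgebra.add_mem _ hx hy

include e₀ in
theorem finrank_eq_of_equiv [Module.Finite R A] [Module.Free R A] [Module.Finite R B]
    [Module.Free R B] : Module.finrank R A = Module.finrank R B := by
  rw [← Module.finrank_baseChange (R := 𝕜) (S := R) (M' := A),
    ← Module.finrank_baseChange (R := 𝕜) (S := R) (M' := B)]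
  exact e₀.toLinearEquiv.finrank_eq

theorem Θ₀_bijective [Module.Finite R A] [Module.Free R A] [Module.Finite R B] [Module.Free R B]
    [IsAzumaya 𝕜 (𝕜 ⊗[R] B)] : Function.Bijective (Θ₀ e₀) := by
  haveI : Module.Free R Aᵐᵒᵖ := Module.Free.of_equiv (MulOpposite.opLinearEquiv R : A ≃ₗ[R] Aᵐᵒᵖ)
  haveI : Module.Finite R Aᵐᵒᵖ := Module.Finite.equiv (MulOpposite.opLinearEquiv R : A ≃ₗ[R] Aᵐᵒᵖ)
  have hA : Module.finrank R Aᵐᵒᵖ = Module.finrank R A :=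
    (MulOpposite.opLinearEquiv R : A ≃ₗ[R] Aᵐᵒᵖ).finrank_eq.symm
  have hdim : Module.finrank 𝕜 (𝕜 ⊗[R] (B ⊗[R] Aᵐᵒᵖ)) =
      Module.finrank 𝕜 (Module.End 𝕜 (𝕜 ⊗[R] B)) := by
    rw [Module.finrank_baseChange, Module.finrank_tensorProduct, hA, finrank_eq_of_equiv e₀,
      Module.finrank_linearMap, Module.finrank_baseChange]
  have hs := Θ₀_surjective e₀
  refine ⟨?_, hs⟩
  exact (LinearMap.injective_iff_surjective_of_finrank_eq_finrank hdim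
    (f := (Θ₀ e₀).toLinearMap)).mpr hs

end Groth.Agent.Lib.Helper26.AzLift2
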