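import Mathlib
import Groth.Agent.Lib.Helper26.AzLift0
import Groth.Agent.Lib.Helper26.AzLift1

set_option autoImplicit false
set_option maxHeartbeats 800000
universe u v w

namespace Groth.Agent.Lib.Helper26.AzLift3

open TensorProduct MulOpposite Groth.Agent.Lib.Helper26

variable {R : Type u} [CommRing R] [IsLocalRing R]
  {A B D : Type u} [Ring A] [Algebra R A] [Ring B] [Algebra R B] [Ring D] [Algebra R D]

local notation "𝕜" => IsLocalRing.ResidueField R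

/-- base change of `ιB` -/
noncomputable def jB (ιB : B →ₐ[R] D) : 𝕜 ⊗[R] B →ₐ[𝕜] 𝕜 ⊗[R] D :=
  Algebra.TensorProduct.map (AlgHom.id 𝕜 𝕜) ιB

theorem jB_tmul (ιB : B →ₐ[R] D) (c : 𝕜) (b : B) :
    jB ιB (c ⊗ₜ[R] b) = c ⊗ₜ[R] ιB b := rfl

/-- right multiplication by `ε` after `ιB` -/
noncomputable def β (ιB : B →ₐ[R] D) (ε : D) : B →ₗ[R] D :=
  (LinearMap.mulRight R ε) ∘ₗ ιB.toLinearMap

omit [IsLocalRing R] in
theorem β_apply (ιB : B →ₐ[R] D) (ε : D) (b : B) : β ιB ε b = ιB b * ε := rfl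

theorem β_lTensor (ιB : B →ₐ[R] D) (ε : D) (x : 𝕜 ⊗[R] B) :
    (β ιB ε).lTensor 𝕜 x = jB ιB x * ((1 : 𝕜) ⊗ₜ[R] ε) := by
  induction x using TensorProduct.induction_on with
  | zero => rw [map_zero, map_zero, zero_mul]
  | tmul c b =>
    rw [LinearMap.lTensor_tmul, β_apply, jB_tmul, Algebra.TensorProduct.tmul_mul_tmul, mul_one]
  | add x y hx hy => rw [map_add, map_add, hx, hy, add_mul]

theorem β_injective [Module.Finite R B] [Module.Finite R D] [Module.Free R D]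
    (ιB : B →ₐ[R] D) (ε : D)
    (hinj : ∀ b : 𝕜 ⊗[R] B, jB ιB b * ((1 : 𝕜) ⊗ₜ[R] ε) = 0 → b = 0) :
    Function.Injective (β ιB ε) := by
  have h : Function.Injective ((β ιB ε).lTensor 𝕜) := by
    rw [injective_iff_map_eq_zero]
    intro x hx
    rw [β_lTensor] at hx
    exact hinj x hx
  obtain ⟨l', hl'⟩ :=
    (IsLocalRing.split_injective_iff_lTensor_residueField_injective (β ιB ε)).mpr h
  exact Function.HasLeftInverse.injective ⟨l', LinearMap.congr_fun hl'⟩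

theorem exists_eq_β [Module.Finite R D] (ιB : B →ₐ[R] D)
    (Θ₀ : 𝕜 ⊗[R] D →ₐ[𝕜] Module.End 𝕜 (𝕜 ⊗[R] B))
    (ε : D) (hε : IsIdempotentElem ε)
    (hact : ∀ d : 𝕜 ⊗[R] D,
      d * ((1 : 𝕜) ⊗ₜ[R] ε) = jB ιB (Θ₀ d 1) * ((1 : 𝕜) ⊗ₜ[R] ε))
    (d : D) : ∃ b : B, d * ε = β ιB ε b := by
  set M : Submodule R D := LinearMap.range (LinearMap.mulRight R ε) with hM
  set N : Submodule R D := LinearMap.range (β ιB ε) with hN
  have hMfg : M.FG := by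
    rw [hM, LinearMap.range_eq_map]
    exact Submodule.FG.map _ Module.Finite.fg_top
  have hjac : IsLocalRing.maximalIdeal R ≤ Ideal.jacobson ⊥ := by
    rw [IsLocalRing.jacobson_eq_maximalIdeal ⊥ bot_ne_top]
  have hsmul : ∀ z ∈ (IsLocalRing.maximalIdeal R) • (⊤ : Submodule R D),
      z * ε ∈ (IsLocalRing.maximalIdeal R) • M := by
    intro z hz
    refine Submodule.smul_induction_on
      (p := fun z => z * ε ∈ (IsLocalRing.maximalIdeal R) • M) hz ?_ ?_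
    · intro r hr n _
      show (r • n) * ε ∈ _
      rw [smul_mul_assoc]
      exact Submodule.smul_mem_smul hr ⟨n, rfl⟩
    · intro x y hx hy
      show (x + y) * ε ∈ _
      rw [add_mul]
      exact Submodule.add_mem _ hx hy
  have hle : M ≤ N ⊔ (IsLocalRing.maximalIdeal R) • M := by
    rintro _ ⟨d', rfl⟩
    rw [LinearMap.mulRight_apply]
    obtain ⟨b, hb⟩ := AzLift0.exists_one_tmul (R := R) (Θ₀ ((1 : 𝕜) ⊗ₜ[R] d') 1)
    set z := d' * ε - β ιB ε b with hz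
    have hz0 : (1 : 𝕜) ⊗ₜ[R] z = 0 := by
      rw [hz, TensorProduct.tmul_sub, β_apply]
      have h1 : ((1 : 𝕜) ⊗ₜ[R] (d' * ε) : 𝕜 ⊗[R] D) =
          ((1 : 𝕜) ⊗ₜ[R] d') * ((1 : 𝕜) ⊗ₜ[R] ε) := by
        rw [Algebra.TensorProduct.tmul_mul_tmul, mul_one]
      have h2 : ((1 : 𝕜) ⊗ₜ[R] (ιB b * ε) : 𝕜 ⊗[R] D) =
          jB ιB ((1 : 𝕜) ⊗ₜ[R] b) * ((1 : 𝕜) ⊗ₜ[R] ε) := by
        rw [jB_tmul, Algebra.TensorProduct.tmul_mul_tmul, mul_one]
      rw [h1, h2, hact, hb, sub_self]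
    have hzm := AzLift0.mem_smul_top_of_tmul_eq_zero z hz0
    have hzε : z * ε = z := by
      rw [hz, sub_mul, β_apply, mul_assoc, mul_assoc, hε.eq]
    have : d' * ε = β ιB ε b + z * ε := by
      rw [hzε, hz]; abel
    rw [this]
    exact Submodule.add_mem_sup ⟨b, rfl⟩ (hsmul z hzm)
  have hMN := Submodule.le_of_le_smul_of_le_jacobson_bot hMfg hjac hle
  obtain ⟨b, hb⟩ := hMN ⟨d, rfl⟩
  exact ⟨b, hb.symm⟩

theorem core [Module.Finite R A] [Module.Finite R B] [Module.Free R B] [Module.Finite R D]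
    [Module.Free R D]
    (e₀ : (IsLocalRing.ResidueField R ⊗[R] A) ≃ₐ[IsLocalRing.ResidueField R]
      (IsLocalRing.ResidueField R ⊗[R] B))
    (ιB : B →ₐ[R] D) (ιA : Aᵐᵒᵖ →ₐ[R] D) (hcomm : ∀ b a, Commute (ιB b) (ιA a))
    (Θ₀ : 𝕜 ⊗[R] D →ₐ[𝕜] Module.End 𝕜 (𝕜 ⊗[R] B))
    (hΘA : ∀ a : A, Θ₀ ((1 : 𝕜) ⊗ₜ[R] ιA (op a)) 1 = e₀ ((1 : 𝕜) ⊗ₜ[R] a))
    (ε : D) (hε : IsIdempotentElem ε)
    (hinj : ∀ b : 𝕜 ⊗[R] B, jB ιB b * ((1 : 𝕜) ⊗ₜ[R] ε) = 0 → b = 0)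
    (hact : ∀ d : 𝕜 ⊗[R] D,
      d * ((1 : 𝕜) ⊗ₜ[R] ε) = jB ιB (Θ₀ d 1) * ((1 : 𝕜) ⊗ₜ[R] ε)) :
    ∃ e : A ≃ₐ[R] B, ∀ a : A, e₀ ((1 : 𝕜) ⊗ₜ[R] a) = (1 : 𝕜) ⊗ₜ[R] e a := by
  have hβinj := β_injective ιB ε hinj
  have hex : ∀ a : A, ∃ b : B, ιA (op a) * ε = ιB b * ε :=
    fun a => exists_eq_β ιB Θ₀ ε hε hact (ιA (op a))
  choose φ hφ using hex
  have huniq : ∀ b b' : B, ιB b * ε = ιB b' * ε → b = b' := fun b b' h => hβinj h
  have hadd : ∀ a a', φ (a + a') = φ a + φ a' := by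
    intro a a'
    apply huniq
    rw [← hφ, op_add, map_add, add_mul, hφ, hφ, map_add, add_mul]
  have hsmul : ∀ (r : R) (a : A), φ (r • a) = r • φ a := by
    intro r a
    apply huniq
    rw [← hφ, op_smul, map_smul, smul_mul_assoc, hφ, map_smul, smul_mul_assoc]
  have hone : φ 1 = 1 := by
    apply huniq
    rw [← hφ, op_one, map_one, map_one]
  have hmul : ∀ a a', φ (a * a') = φ a * φ a' := by
    intro a a'
    apply huniq
    rw [← hφ, op_mul, map_mul, mul_assoc, hφ, ← mul_assoc, ← (hcomm (φ a) (op a')).eq, mul_assoc,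
      hφ, ← mul_assoc, ← map_mul]
  let φl : A →ₗ[R] B := { toFun := φ, map_add' := hadd, map_smul' := hsmul }
  let φa : A →ₐ[R] B := AlgHom.ofLinearMap φl hone hmul
  have hφa : ∀ a, φa a = φ a := fun a => rfl
  -- the reduction identity
  have hred : ∀ a : A, e₀ ((1 : 𝕜) ⊗ₜ[R] a) = (1 : 𝕜) ⊗ₜ[R] φ a := by
    intro a
    have h1 := hact ((1 : 𝕜) ⊗ₜ[R] ιA (op a))
    rw [hΘA] at h1
    have h2 : ((1 : 𝕜) ⊗ₜ[R] ιA (op a) : 𝕜 ⊗[R] D) * ((1 : 𝕜) ⊗ₜ[R] ε) =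
        jB ιB ((1 : 𝕜) ⊗ₜ[R] φ a) * ((1 : 𝕜) ⊗ₜ[R] ε) := by
      rw [jB_tmul, Algebra.TensorProduct.tmul_mul_tmul, Algebra.TensorProduct.tmul_mul_tmul, hφ]
    rw [h2] at h1
    have h3 : jB ιB (e₀ ((1 : 𝕜) ⊗ₜ[R] a) - (1 : 𝕜) ⊗ₜ[R] φ a) * ((1 : 𝕜) ⊗ₜ[R] ε) = 0 := by
      rw [map_sub, sub_mul, ← h1, sub_self]
    exact sub_eq_zero.mp (hinj _ h3)
  -- the reduction of `φ` is `e₀`
  have hlT : ∀ x : 𝕜 ⊗[R] A, φa.toLinearMap.lTensor 𝕜 x = e₀ x := by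
    intro x
    induction x using TensorProduct.induction_on with
    | zero => rw [map_zero, map_zero]
    | tmul c a =>
      rw [LinearMap.lTensor_tmul, AlgHom.toLinearMap_apply, hφa]
      have h1 : (c ⊗ₜ[R] a : 𝕜 ⊗[R] A) = c • ((1 : 𝕜) ⊗ₜ[R] a) := by
        rw [TensorProduct.smul_tmul', smul_eq_mul, mul_one]
      have h2 : (c ⊗ₜ[R] φ a : 𝕜 ⊗[R] B) = c • ((1 : 𝕜) ⊗ₜ[R] φ a) := by
        rw [TensorProduct.smul_tmul', smul_eq_mul, mul_one]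
      rw [h1, map_smul, hred, h2]
    | add x y hx hy => rw [map_add, map_add, hx, hy]
  have hφinj : Function.Injective φa := by
    have h : Function.Injective (φa.toLinearMap.lTensor 𝕜) := by
      intro x y hxy
      rw [hlT, hlT] at hxy
      exact e₀.injective hxy
    obtain ⟨l', hl'⟩ :=
      (IsLocalRing.split_injective_iff_lTensor_residueField_injective φa.toLinearMap).mpr h
    exact Function.HasLeftInverse.injective ⟨l', LinearMap.congr_fun hl'⟩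
  have hφsurj : Function.Surjective φa := by
    have h : (LinearMap.range φa.toLinearMap).map (TensorProduct.mk R 𝕜 B 1) = ⊤ := by
      rw [eq_top_iff]
      intro y _
      obtain ⟨x, rfl⟩ := e₀.surjective y
      obtain ⟨a, rfl⟩ := AzLift0.exists_one_tmul (R := R) x
      rw [hred]
      exact ⟨φ a, ⟨a, rfl⟩, rfl⟩
    have := IsLocalRing.map_tensorProduct_mk_eq_top.mp h
    exact LinearMap.range_eq_top.mp this
  refine ⟨AlgEquiv.ofBijective φa ⟨hφinj, hφsurj⟩, fun a => ?_⟩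
  rw [hred]
  rfl

end Groth.Agent.Lib.Helper26.AzLift3
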