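import Mathlib
import Groth.Agent.Lib.Helper26.AzLift0
import Groth.Agent.Lib.Helper26.AzLift1
import Groth.Agent.Lib.Helper26.AzLift2
import Groth.Agent.Lib.Helper26.AzLift3
import Groth.Agent.S19588

set_option autoImplicit false
set_option maxHeartbeats 800000
universe u v w

namespace Groth.Agent.Lib.Helper26.AzLift4

open TensorProduct MulOpposite Groth.Agent.Lib.Helper26

variable {R : Type u} [CommRing R] [IsLocalRing R]
  {A B : Type u} [Ring A] [Algebra R A] [Ring B] [Algebra R B]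

local notation "𝕜" => IsLocalRing.ResidueField R

variable (e₀ : (IsLocalRing.ResidueField R ⊗[R] A) ≃ₐ[IsLocalRing.ResidueField R]
  (IsLocalRing.ResidueField R ⊗[R] B))

theorem Θ₀_jB (x : 𝕜 ⊗[R] B) :
    AzLift2.Θ₀ e₀ (AzLift3.jB (Algebra.TensorProduct.includeLeft : B →ₐ[R] B ⊗[R] Aᵐᵒᵖ) x) =
      LinearMap.mulLeft 𝕜 x := by
  induction x using TensorProduct.induction_on with
  | zero =>
    rw [map_zero, map_zero, LinearMap.mulLeft_zero_eq_zero]
  | tmul c b =>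
    rw [AzLift3.jB_tmul, Algebra.TensorProduct.includeLeft_apply, AzLift2.Θ₀_tmul, AzLift2.Θ_tmul,
      map_one, mul_one]
    refine LinearMap.ext fun z => ?_
    rw [LinearMap.smul_apply, AzLift2.fB_apply, LinearMap.mulLeft_apply, ← smul_mul_assoc,
      TensorProduct.smul_tmul', smul_eq_mul, mul_one]
  | add x y hx hy =>
    rw [map_add, map_add, hx, hy]
    refine LinearMap.ext fun z => ?_
    simp only [LinearMap.mulLeft_apply, LinearMap.add_apply, add_mul]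

theorem Θ₀_ιA (a : A) :
    AzLift2.Θ₀ e₀ ((1 : 𝕜) ⊗ₜ[R]
      (Algebra.TensorProduct.includeRight : Aᵐᵒᵖ →ₐ[R] B ⊗[R] Aᵐᵒᵖ) (op a)) 1 =
      e₀ ((1 : 𝕜) ⊗ₜ[R] a) := by
  rw [AzLift2.Θ₀_one_tmul, Algebra.TensorProduct.includeRight_apply, AzLift2.Θ_tmul,
    Module.End.mul_apply, AzLift2.fB_apply, AzLift2.gA_apply, one_mul, unop_op,
    ← Algebra.TensorProduct.one_def, one_mul]

end Groth.Agent.Lib.Helper26.AzLift4

namespace Groth.Agent.Lib.Helper26.AzLift4

open TensorProduct MulOpposite Groth.Agent.Lib.Helper26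

theorem main (R : Type u) [CommRing R] [HenselianLocalRing R] (A : Type u) [Ring A] [Algebra R A]
    [IsAzumaya R A] (B : Type u) [Ring B] [Algebra R B] [IsAzumaya R B]
    (e₀ : (IsLocalRing.ResidueField R ⊗[R] A) ≃ₐ[IsLocalRing.ResidueField R]
      (IsLocalRing.ResidueField R ⊗[R] B)) :
    ∃ e : A ≃ₐ[R] B, ∀ a : A, e₀ ((1 : IsLocalRing.ResidueField R) ⊗ₜ[R] a) =
      (1 : IsLocalRing.ResidueField R) ⊗ₜ[R] (e a) := by
  haveI : Module.Free R A := Module.free_of_flat_of_isLocalRing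
  haveI : Module.Free R B := Module.free_of_flat_of_isLocalRing
  haveI : IsAzumaya (IsLocalRing.ResidueField R) (IsLocalRing.ResidueField R ⊗[R] B) :=
    Groth.Agent.S19588.result R (IsLocalRing.ResidueField R) B
  haveI : Nontrivial (IsLocalRing.ResidueField R ⊗[R] B) := by
    have hinj := FaithfulSMul.algebraMap_injective (IsLocalRing.ResidueField R)
      (IsLocalRing.ResidueField R ⊗[R] B)
    refine ⟨⟨0, 1, fun h => ?_⟩⟩
    have : algebraMap (IsLocalRing.ResidueField R) (IsLocalRing.ResidueField R ⊗[R] B) 0 =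
        algebraMap (IsLocalRing.ResidueField R) (IsLocalRing.ResidueField R ⊗[R] B) 1 := by
      rw [map_zero, map_one]; exact h
    exact zero_ne_one (hinj this)
  haveI : Module.Free R Aᵐᵒᵖ := Module.Free.of_equiv (MulOpposite.opLinearEquiv R : A ≃ₗ[R] Aᵐᵒᵖ)
  haveI : Module.Finite R Aᵐᵒᵖ := Module.Finite.equiv (MulOpposite.opLinearEquiv R : A ≃ₗ[R] Aᵐᵒᵖ)
  obtain ⟨εb, hidem, hinj, hact⟩ := AzLift1.exists_idem (AzLift2.Θ₀ e₀) (AzLift2.Θ₀_bijective e₀)
    (AzLift3.jB (Algebra.TensorProduct.includeLeft : B →ₐ[R] B ⊗[R] Aᵐᵒᵖ)) (Θ₀_jB e₀)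
  obtain ⟨ε, hε, hεred⟩ := AzLift0.exists_idempotent_lift (B ⊗[R] Aᵐᵒᵖ) εb hidem
  rw [← hεred] at hinj hact
  refine AzLift3.core e₀ (Algebra.TensorProduct.includeLeft : B →ₐ[R] B ⊗[R] Aᵐᵒᵖ)
    (Algebra.TensorProduct.includeRight : Aᵐᵒᵖ →ₐ[R] B ⊗[R] Aᵐᵒᵖ) ?_ (AzLift2.Θ₀ e₀) (Θ₀_ιA e₀)
    ε hε hinj hact
  intro b a
  show _ * _ = _ * _
  rw [Algebra.TensorProduct.includeLeft_apply, Algebra.TensorProduct.includeRight_apply,
    Algebra.TensorProduct.tmul_mul_tmul, Algebra.TensorProduct.tmul_mul_tmul, mul_one, one_mul,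
    mul_one, one_mul]

end Groth.Agent.Lib.Helper26.AzLift4
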