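import Mathlib
import Groth.Prelude.Def_AlgGrp
import Groth.Prelude.Def_ChGrp
import Groth.Prelude.Def_W4bk4git07Quot
import Groth.Agent.Lib.Helper4.CovSieve
import Groth.Agent.Lib.Helper4.FpqcDesc

set_option autoImplicit false
set_option maxHeartbeats 400000
set_option linter.unusedVariables false
set_option linter.unusedSectionVars false
set_option linter.style.haveILetI false
set_option linter.unusedSimpArgs false
set_option linter.unnecessarySimpa false

universe u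
open CategoryTheory MonoidalCategory CartesianMonoidalCategory MonObj GrpObj AlgebraicGeometry Limits

namespace Groth.Agent.Lib.Helper26.BP1

open Groth.Agent.Lib.Helper4

variable {S : Scheme.{u}} {G H Z Y : Over S} [GrpObj G] [GrpObj H]
  (i : H ⟶ G) [IsMonHom i] (aZ : AlgGrp.Action H Z) (aY : AlgGrp.Action G Y) (j : G ⊗ Z ⟶ Y)
  (hjeq : AlgGrp.Action.IsEquivariant ((NonAbH1.trivialAction G).prod (AlgGrp.Action.trivial G Z)) aY j)
  (hjpb : IsPullback (ChGrp.twist i aZ).act (snd H (G ⊗ Z)) j j)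

include hjpb in
/-- `j` is invariant for the twisted action, on points -/
theorem F1 {T : Over S} (h : T ⟶ H) (g : T ⟶ G) (z : T ⟶ Z) :
    lift (g * (h ≫ i)⁻¹) (lift h z ≫ aZ.act) ≫ j = lift g z ≫ j := by
  rw [← ChGrp.lift_twist_act, Category.assoc, hjpb.w, ← Category.assoc, lift_snd]

include hjeq in
/-- `j` is equivariant, on points -/
theorem F2 {T : Over S} (g' g : T ⟶ G) (z : T ⟶ Z) :
    lift (g' * g) z ≫ j = lift g' (lift g z ≫ j) ≫ aY.act := by
  unfold AlgGrp.Action.IsEquivariant at hjeq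
  have := congrArg (fun m => lift g' (lift g z) ≫ m) hjeq
  rw [← Category.assoc, AlgGrp.Action.lift_prod_act, AlgGrp.Action.lift_trivial_act,
    ← Category.assoc, lift_whiskerLeft] at this
  rw [← this]
  congr 2

/-- the unit section `z ↦ (e, z)` on points -/
theorem comp_e {T : Over S} (z : T ⟶ Z) :
    z ≫ lift (toUnit Z ≫ η[G]) (𝟙 Z) = lift (1 : T ⟶ G) z := by
  rw [comp_lift, Category.comp_id, ← Category.assoc, Hom.one_def]
  congr 2
  exact toUnit_unique _ _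

section main

variable {P Q : Over S}
  (hjloc : NonAbH1.IsLocallyTrivialFor Scheme.fppfPrecoverage (Over.mk j.left : Over Y.left))
  (πZ : Z ⟶ P) (hP : GIT.IsCatQuot aZ πZ) (πY : Y ⟶ Q) (hQ : GIT.IsCatQuot aY πY)

/-- invariance on points -/
theorem inv_pt {G X W : Over S} [GrpObj G] {a : AlgGrp.Action G X} {φ : X ⟶ W}
    (h : GIT.IsInvariant a φ) {T : Over S} (g : T ⟶ G) (x : T ⟶ X) :
    lift g x ≫ a.act ≫ φ = x ≫ φ := by
  rw [h, ← Category.assoc, lift_snd]

include hjloc in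
theorem covMor_j : CovSieve.CovMor j.left :=
  CovSieve.covMor_of_isLocallyTrivialFor_fppf j.left hjloc

include hjloc in
theorem epi_j : Epi j := by
  have := (covMor_j j hjloc).effectiveEpi
  exact Over.epi_of_epi_left _

include hjloc in
theorem epi_whiskerLeft_j : Epi (G ◁ j) := by
  have h1 : CovSieve.CovMor (𝟙 G ⊗ₘ j).left :=
    CovSieve.covMor_tensorHom (𝟙 G) j (CovSieve.covMor_of_isIso (Over.Hom.left (𝟙 G))) (covMor_j j hjloc)
  rw [MonoidalCategory.id_tensorHom] at h1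
  have := h1.effectiveEpi
  exact Over.epi_of_epi_left _

include hjeq hjpb hjloc hP hQ in
theorem main : ∃ (φ : P ⟶ Q) (χ : Q ⟶ P), φ ≫ χ = 𝟙 P ∧ χ ≫ φ = 𝟙 Q ∧
      πZ ≫ φ = lift (toUnit Z ≫ η[G]) (𝟙 Z) ≫ j ≫ πY ∧ j ≫ πY ≫ χ = snd G Z ≫ πZ := by
  obtain ⟨hπZinv, hPuniv⟩ := hP
  obtain ⟨hπYinv, hQuniv⟩ := hQ
  let e : Z ⟶ G ⊗ Z := lift (toUnit Z ≫ η[G]) (𝟙 Z)
  let ζ : Z ⟶ Q := e ≫ j ≫ πY
  -- Step 1: ζ is invariant
  have hζ : GIT.IsInvariant aZ ζ := by
    unfold GIT.IsInvariant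
    have hact : aZ.act = lift (fst H Z) (snd H Z) ≫ aZ.act := by
      rw [lift_fst_snd, Category.id_comp]
    have e1 : aZ.act ≫ e = lift (1 : H ⊗ Z ⟶ G) (lift (fst H Z) (snd H Z) ≫ aZ.act) := by
      rw [comp_e, ← hact]
    have e2 : lift (1 : H ⊗ Z ⟶ G) (lift (fst H Z) (snd H Z) ≫ aZ.act) ≫ j =
        lift (fst H Z ≫ i) (snd H Z) ≫ j := by
      rw [← F1 i aZ j hjpb (fst H Z) (fst H Z ≫ i) (snd H Z), mul_inv_cancel]
    have e3 : lift (fst H Z ≫ i) (snd H Z) ≫ j =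
        lift (fst H Z ≫ i) (lift (1 : H ⊗ Z ⟶ G) (snd H Z) ≫ j) ≫ aY.act := by
      rw [← F2 aY j hjeq, _root_.mul_one]
    calc aZ.act ≫ ζ = (aZ.act ≫ e) ≫ j ≫ πY := by simp only [ζ, Category.assoc]
      _ = (lift (fst H Z ≫ i) (lift (1 : H ⊗ Z ⟶ G) (snd H Z) ≫ j) ≫ aY.act) ≫ πY := by
          rw [e1, ← Category.assoc, e2, e3]
      _ = (lift (1 : H ⊗ Z ⟶ G) (snd H Z) ≫ j) ≫ πY := by
          rw [Category.assoc, inv_pt hπYinv]
      _ = snd H Z ≫ ζ := by
          simp only [ζ, Category.assoc]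
          rw [← Category.assoc (snd H Z), comp_e]
  obtain ⟨φ, hφ, -⟩ := hPuniv Q ζ hζ
  -- Step 2: descend `snd ≫ πZ` along `j`
  have hee : EffectiveEpi j.left := (covMor_j j hjloc).effectiveEpi
  obtain ⟨ψ, hψ⟩ := FpqcDesc.exists_desc j (snd G Z ≫ πZ) (by
    intro W u v huv
    let w : W ⟶ H ⊗ (G ⊗ Z) := hjpb.lift u v huv
    have hw1 : w ≫ (ChGrp.twist i aZ).act = u := hjpb.lift_fst _ _ _
    have hw2 : w ≫ snd H (G ⊗ Z) = v := hjpb.lift_snd _ _ _
    have hw : w = lift (w ≫ fst _ _) (lift (v ≫ fst G Z) (v ≫ snd G Z)) := by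
      apply CartesianMonoidalCategory.hom_ext
      · rw [lift_fst]
      · rw [lift_snd, hw2]
        apply CartesianMonoidalCategory.hom_ext <;> simp
    have hu : u = lift ((v ≫ fst G Z) * ((w ≫ fst _ _) ≫ i)⁻¹)
        (lift (w ≫ fst _ _) (v ≫ snd G Z) ≫ aZ.act) := by
      rw [← hw1, hw, ChGrp.lift_twist_act, ← hw]
    rw [hu, ← Category.assoc, lift_snd, Category.assoc, inv_pt hπZinv, Category.assoc])
  -- Step 3: ψ is invariant
  have hψinv : GIT.IsInvariant aY ψ := by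
    unfold GIT.IsInvariant
    have := epi_whiskerLeft_j j hjloc
    rw [← cancel_epi (G ◁ j)]
    unfold AlgGrp.Action.IsEquivariant at hjeq
    rw [← Category.assoc, ← hjeq, Category.assoc, hψ, whiskerLeft_snd_assoc, hψ]
    rw [AlgGrp.Action.prod_act, ← Category.assoc, ← Category.assoc, lift_snd,
      AlgGrp.Action.trivial_act, whiskerLeft_snd]
  obtain ⟨χ, hχ, -⟩ := hQuniv P ψ hψinv
  have hes : e ≫ snd G Z = 𝟙 Z := lift_snd _ _
  refine ⟨φ, χ, ?_, ?_, hφ, ?_⟩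
  · obtain ⟨t, -, huniq⟩ := hPuniv P πZ hπZinv
    have h1 : φ ≫ χ = t := huniq _ (by
      show πZ ≫ φ ≫ χ = πZ
      rw [← Category.assoc, hφ]
      simp only [ζ, Category.assoc]
      rw [hχ, hψ, ← Category.assoc, hes, Category.id_comp])
    have h2 : 𝟙 P = t := huniq _ (Category.comp_id _)
    rw [h1, h2]
  · obtain ⟨t, -, huniq⟩ := hQuniv Q πY hπYinv
    have hkey : ψ ≫ φ = πY := by
      have := epi_j j hjloc
      rw [← cancel_epi j, ← Category.assoc, hψ, Category.assoc, hφ]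
      simp only [ζ]
      have hj : j = lift (fst G Z) (snd G Z) ≫ j := by rw [lift_fst_snd, Category.id_comp]
      have e4 : lift (fst G Z) (snd G Z) ≫ j =
          lift (fst G Z) (lift (1 : G ⊗ Z ⟶ G) (snd G Z) ≫ j) ≫ aY.act := by
        rw [← F2 aY j hjeq, _root_.mul_one]
      rw [← Category.assoc (snd G Z), comp_e]
      conv_rhs => rw [hj, e4, Category.assoc, inv_pt hπYinv]
      rw [Category.assoc]
    have h1 : χ ≫ φ = t := huniq _ (by
      show πY ≫ χ ≫ φ = πY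
      rw [← Category.assoc, hχ, hkey])
    have h2 : 𝟙 Q = t := huniq _ (Category.comp_id _)
    rw [h1, h2]
  · rw [hχ, hψ]

end main

end Groth.Agent.Lib.Helper26.BP1
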