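import Mathlib
import Groth.Prelude.Def_AlgGrp
import Groth.Prelude.Def_ChGrp
import Groth.Prelude.Def_NonAbH2
import Groth.Agent.Lib.Helper4.CovSieve
import Groth.Agent.Lib.Helper4.ActShear

set_option autoImplicit false
set_option maxHeartbeats 400000
set_option linter.unusedVariables false
set_option linter.unusedSectionVars false
set_option linter.style.haveILetI false
set_option linter.unusedSimpArgs false
set_option linter.unnecessarySimpa false

universe u
open CategoryTheory MonoidalCategory CartesianMonoidalCategory MonObj GrpObj AlgebraicGeometry Limits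

namespace Groth.Agent.Lib.Helper26.TC1

open Groth.Agent.Lib.Helper4
open Groth.Agent.Lib.Helper4.ActShear

section general

variable {C : Type*} [Category C] {A X Y Z : C} {f1 : A ⟶ X} {f2 : A ⟶ Y} {g1 : X ⟶ Z} {g2 : Y ⟶ Z}

/-- a square is cartesian if it has the unique lifting property on points -/
theorem isPullback_of_existsUnique (comm : f1 ≫ g1 = f2 ≫ g2)
    (h : ∀ (T : C) (x : T ⟶ X) (y : T ⟶ Y), x ≫ g1 = y ≫ g2 →
      ∃! w : T ⟶ A, w ≫ f1 = x ∧ w ≫ f2 = y) : IsPullback f1 f2 g1 g2 := by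
  refine ⟨⟨comm⟩, ⟨PullbackCone.IsLimit.mk comm
    (fun s => (h s.pt s.fst s.snd s.condition).choose) ?_ ?_ ?_⟩⟩
  · intro s
    exact (h s.pt s.fst s.snd s.condition).choose_spec.1.1
  · intro s
    exact (h s.pt s.fst s.snd s.condition).choose_spec.1.2
  · intro s m h1 h2
    exact (h s.pt s.fst s.snd s.condition).choose_spec.2 m ⟨h1, h2⟩

end general

variable {S : Scheme.{u}}

/-- the torsor square on points: existence -/
theorem tors_exists {G X Y : Over S} [GrpObj G] {a : AlgGrp.Action G X} {φ : X ⟶ Y}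
    (h : IsPullback a.act (snd G X) φ φ) {T : Over S} (x' x : T ⟶ X) (hx : x' ≫ φ = x ≫ φ) :
    ∃ g : T ⟶ G, smul a g x = x' := by
  refine ⟨h.lift x' x hx ≫ fst G X, ?_⟩
  unfold smul
  have : lift (h.lift x' x hx ≫ fst G X) x = h.lift x' x hx := by
    apply CartesianMonoidalCategory.hom_ext
    · rw [lift_fst]
    · rw [lift_snd, h.lift_snd]
  rw [this, h.lift_fst]

/-- the torsor square on points: uniqueness -/
theorem tors_unique {G X Y : Over S} [GrpObj G] {a : AlgGrp.Action G X} {φ : X ⟶ Y}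
    (h : IsPullback a.act (snd G X) φ φ) {T : Over S} (g g' : T ⟶ G) (x : T ⟶ X)
    (e : smul a g x = smul a g' x) : g = g' := by
  have : lift g x = lift g' x := by
    apply h.hom_ext
    · exact e
    · rw [lift_snd, lift_snd]
  have := congrArg (· ≫ fst G X) this
  simpa using this

/-- invariance of `φ` from the torsor square -/
theorem tors_inv {G X Y : Over S} [GrpObj G] {a : AlgGrp.Action G X} {φ : X ⟶ Y}
    (h : IsPullback a.act (snd G X) φ φ) {T : Over S} (g : T ⟶ G) (x : T ⟶ X) :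
    smul a g x ≫ φ = x ≫ φ := by
  unfold smul
  rw [Category.assoc, h.w, ← Category.assoc, lift_snd]

/-- a torsor square from simple transitivity on points -/
theorem isPullback_of_pts {G X Y : Over S} [GrpObj G] {a : AlgGrp.Action G X} {φ : X ⟶ Y}
    (hinv : a.act ≫ φ = snd G X ≫ φ)
    (hex : ∀ (T : Over S) (x' x : T ⟶ X), x' ≫ φ = x ≫ φ → ∃ g : T ⟶ G, smul a g x = x')
    (huniq : ∀ (T : Over S) (g g' : T ⟶ G) (x : T ⟶ X), smul a g x = smul a g' x → g = g') :
    IsPullback a.act (snd G X) φ φ := by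
  refine isPullback_of_existsUnique hinv (fun T x' x hx => ?_)
  obtain ⟨g, hg⟩ := hex T x' x hx
  refine ⟨lift g x, ⟨hg, lift_snd _ _⟩, ?_⟩
  rintro w ⟨hw1, hw2⟩
  have hw : w = lift (w ≫ fst G X) x := by
    apply CartesianMonoidalCategory.hom_ext
    · rw [lift_fst]
    · rw [lift_snd, hw2]
  have : w ≫ fst G X = g := by
    apply huniq T _ _ x
    rw [hg]
    unfold smul
    rw [← hw, hw1]
  rw [hw, this]

/-- covering morphisms and fpqc local triviality -/
theorem isLocallyTrivialFor_of_covMor {X Y : Scheme.{u}} (p : X ⟶ Y) (hp : CovSieve.CovMor p) :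
    NonAbH1.IsLocallyTrivialFor Scheme.fpqcPrecoverage (Over.mk p) := by
  unfold CovSieve.CovMor at hp
  have := (Precoverage.mem_toGrothendieck_iff_of_isStableUnderComposition
    (J := Scheme.fpqcPrecoverage)).mp hp
  obtain ⟨R, hR, hle⟩ := this
  refine ⟨R, hR, fun S' f hf => ?_⟩
  have := hle _ _ hf
  obtain ⟨W, t, g, hg, rfl⟩ := this
  cases hg
  exact ⟨t, rfl⟩

section comp

variable {G N Q H X Y Z : Over S} [GrpObj G] [GrpObj N] [GrpObj Q] [GrpObj H]
  (iN : N ⟶ G) [IsMonHom iN] (q : G ⟶ Q) [IsMonHom q] (hker : AlgGrp.IsKernel iN q)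
  (iH : H ⟶ G) [hiso : IsIso (iH ≫ q)]
  (a : AlgGrp.Action G X) (φ₁ : X ⟶ Y)
  (h₁ : IsPullback (a.restrict iN).act (snd N X) φ₁ φ₁)
  (aY : AlgGrp.Action Q Y) (hequiv : (q ⊗ₘ φ₁) ≫ aY.act = a.act ≫ φ₁)
  (φ₂ : Y ⟶ Z) (h₂ : IsPullback aY.act (snd Q Y) φ₂ φ₂)

include hequiv in
theorem equiv_pt {T : Over S} (g : T ⟶ G) (x : T ⟶ X) :
    smul a g x ≫ φ₁ = smul aY (g ≫ q) (x ≫ φ₁) := by
  unfold smul
  rw [Category.assoc, ← hequiv, ← Category.assoc, lift_map]

theorem restrict_pt {T : Over S} (n : T ⟶ N) (x : T ⟶ X) :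
    smul (a.restrict iN) n x = smul a (n ≫ iN) x := by
  unfold smul
  exact AlgGrp.Action.lift_restrict_act iN a n x

include hker hequiv h₁ h₂ iH hiso in
theorem comp_isPullback : IsPullback a.act (snd G X) (φ₁ ≫ φ₂) (φ₁ ≫ φ₂) := by
  refine isPullback_of_pts ?_ ?_ ?_
  · rw [← Category.assoc, ← hequiv, Category.assoc, h₂.w, tensorHom_snd_assoc]
  · intro T x' x hx
    rw [← Category.assoc, ← Category.assoc] at hx
    obtain ⟨q0, hq0⟩ := tors_exists h₂ (x' ≫ φ₁) (x ≫ φ₁) hx
    let g0 : T ⟶ G := q0 ≫ CategoryTheory.inv (iH ≫ q) ≫ iH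
    have hg0 : g0 ≫ q = q0 := by
      simp only [g0, Category.assoc]
      rw [IsIso.inv_hom_id, Category.comp_id]
    have e1 : smul a g0 x ≫ φ₁ = x' ≫ φ₁ := by
      rw [equiv_pt q a φ₁ aY hequiv, hg0, hq0]
    obtain ⟨n, hn⟩ := tors_exists h₁ x' (smul a g0 x) e1.symm
    refine ⟨(n ≫ iN) * g0, ?_⟩
    rw [Hom.mul_def, mul_smul', ← restrict_pt, hn]
  · intro T g g' x e
    have e1 : g ≫ q = g' ≫ q := by
      apply tors_unique h₂ _ _ (x ≫ φ₁)
      rw [← equiv_pt q a φ₁ aY hequiv, ← equiv_pt q a φ₁ aY hequiv, e]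
    let k : T ⟶ G := g' * g⁻¹
    have hk : k ≫ q = toUnit T ≫ η[Q] := by
      simp only [k]
      rw [MonObj.mul_comp, GrpObj.inv_comp, e1, mul_inv_cancel, Hom.one_def]
    obtain ⟨n, hn⟩ : ∃ n : T ⟶ N, n ≫ iN = k :=
      ⟨hker.lift k (toUnit T) hk, hker.lift_fst _ _ _⟩
    have hg' : g' = (n ≫ iN) * g := by
      rw [hn]
      simp only [k]
      rw [inv_mul_cancel_right]
    have e2 : smul (a.restrict iN) n (smul a g x) = smul (a.restrict iN) (toUnit T ≫ η[N]) (smul a g x) := by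
      rw [one_smul', restrict_pt, ← mul_smul', ← Hom.mul_def, ← hg', e]
    have hn1 : n = toUnit T ≫ η[N] := tors_unique h₁ _ _ _ e2
    have hk1 : k = 1 := by
      rw [← hn, hn1, Category.assoc, IsMonHom.one_hom, Hom.one_def]
    have : g' * g⁻¹ = 1 := hk1
    exact (mul_inv_eq_one.mp this).symm

end comp

end Groth.Agent.Lib.Helper26.TC1
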