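import Mathlib
import Groth.Prelude.Def_AlgGrp
import Groth.Prelude.Def_ChGrp
import Groth.Prelude.Def_NonAbH2
import Groth.Agent.Lib.Helper4.CovSieve
import Groth.Agent.Lib.Helper4.ActShear
import Groth.Agent.Lib.Helper24.Orbit.SubAction
import Groth.Agent.Lib.Helper26.BP1
import Groth.Agent.Lib.Helper26.TC1

set_option autoImplicit false
set_option maxHeartbeats 400000
set_option linter.unusedVariables false
set_option linter.unusedSectionVars false
set_option linter.style.haveILetI false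
set_option linter.unusedSimpArgs false
set_option linter.unnecessarySimpa false

universe u
open CategoryTheory MonoidalCategory CartesianMonoidalCategory MonObj GrpObj AlgebraicGeometry Limits

namespace Groth.Agent.Lib.Helper26.BP2

open Groth.Agent.Lib.Helper4
open Groth.Agent.Lib.Helper4.ActShear
open Groth.Agent.Lib.Helper26

variable {S : Scheme.{u}} {G H Z Y Y' : Over S} [GrpObj G] [GrpObj H]
  (i : H ⟶ G) [IsMonHom i] (aZ : AlgGrp.Action H Z) (aY : AlgGrp.Action G Y) (j : G ⊗ Z ⟶ Y)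
  (hjeq : AlgGrp.Action.IsEquivariant ((NonAbH1.trivialAction G).prod (AlgGrp.Action.trivial G Z)) aY j)
  (hjpb : IsPullback (ChGrp.twist i aZ).act (snd H (G ⊗ Z)) j j)
  (c : Y' ⟶ Y) [Mono c] (aY' : AlgGrp.Action G Y') (hc : AlgGrp.Action.IsEquivariant aY' aY c)

/-- the section `z ↦ j(e, z)` -/
noncomputable def s : Z ⟶ Y := lift (toUnit Z ≫ η[G]) (𝟙 Z) ≫ j

theorem comp_s {T : Over S} (z : T ⟶ Z) : z ≫ s j = lift (1 : T ⟶ G) z ≫ j := by
  unfold s
  rw [← Category.assoc, BP1.comp_e]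

include hjeq in
theorem P1 {T : Over S} (g : T ⟶ G) (z : T ⟶ Z) :
    lift g z ≫ j = lift g (z ≫ s j) ≫ aY.act := by
  rw [comp_s, ← BP1.F2 aY j hjeq, _root_.mul_one]

include hjpb in
theorem P2 {T : Over S} (h : T ⟶ H) (z : T ⟶ Z) :
    (lift h z ≫ aZ.act) ≫ s j = lift (h ≫ i) z ≫ j := by
  rw [comp_s, ← BP1.F1 i aZ j hjpb h (h ≫ i) z, mul_inv_cancel]

include hc in
theorem P3 {T : Over S} (g : T ⟶ G) (y : T ⟶ Y') :
    (lift g y ≫ aY'.act) ≫ c = lift g (y ≫ c) ≫ aY.act := by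
  unfold AlgGrp.Action.IsEquivariant at hc
  rw [Category.assoc, hc, ← Category.assoc, lift_whiskerLeft]


/-- the closed invariant subscheme `Z' = Z ×_Y Y'` -/
noncomputable def Z' : Over S := pullback (s j) c
noncomputable def c' : Z' j c ⟶ Z := pullback.fst (s j) c
noncomputable def t : Z' j c ⟶ Y' := pullback.snd (s j) c

theorem cond : c' j c ≫ s j = t j c ≫ c := pullback.condition

theorem isPullback_Z' : IsPullback (c' j c) (t j c) (s j) c := IsPullback.of_hasPullback _ _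

theorem Z'_hom_ext {T : Over S} {a b : T ⟶ Z' j c} (h1 : a ≫ c' j c = b ≫ c' j c)
    (h2 : a ≫ t j c = b ≫ t j c) : a = b := pullback.hom_ext h1 h2

noncomputable def Z'_lift {T : Over S} (z : T ⟶ Z) (y : T ⟶ Y') (h : z ≫ s j = y ≫ c) :
    T ⟶ Z' j c := pullback.lift z y h

theorem Z'_lift_c' {T : Over S} (z : T ⟶ Z) (y : T ⟶ Y') (h : z ≫ s j = y ≫ c) :
    Z'_lift j c z y h ≫ c' j c = z := pullback.lift_fst _ _ _

theorem Z'_lift_t {T : Over S} (z : T ⟶ Z) (y : T ⟶ Y') (h : z ≫ s j = y ≫ c) :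
    Z'_lift j c z y h ≫ t j c = y := pullback.lift_snd _ _ _

instance mono_c' : Mono (c' j c) := by
  refine ⟨fun a b hab => ?_⟩
  apply Z'_hom_ext j c hab
  rw [← cancel_mono c, Category.assoc, Category.assoc, ← cond, ← Category.assoc, hab, Category.assoc]

include hjeq hjpb hc in
theorem pt_comm {T : Over S} (h : T ⟶ H) (z' : T ⟶ Z' j c) :
    (lift h (z' ≫ c' j c) ≫ aZ.act) ≫ s j = (lift (h ≫ i) (z' ≫ t j c) ≫ aY'.act) ≫ c := by
  rw [P2 i aZ j hjpb, P1 aY j hjeq, P3 aY c aY' hc, Category.assoc, Category.assoc, cond]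

/-- `h • z'` on points -/
noncomputable def pt {T : Over S} (h : T ⟶ H) (z' : T ⟶ Z' j c) : T ⟶ Z' j c :=
  Z'_lift j c (lift h (z' ≫ c' j c) ≫ aZ.act) (lift (h ≫ i) (z' ≫ t j c) ≫ aY'.act)
    (pt_comm i aZ aY j hjeq hjpb c aY' hc h z')

theorem pt_c' {T : Over S} (h : T ⟶ H) (z' : T ⟶ Z' j c) :
    pt i aZ aY j hjeq hjpb c aY' hc h z' ≫ c' j c = lift h (z' ≫ c' j c) ≫ aZ.act := by
  unfold pt
  exact Z'_lift_c' _ _ _ _ _

theorem pt_t {T : Over S} (h : T ⟶ H) (z' : T ⟶ Z' j c) :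
    pt i aZ aY j hjeq hjpb c aY' hc h z' ≫ t j c = lift (h ≫ i) (z' ≫ t j c) ≫ aY'.act := by
  unfold pt
  exact Z'_lift_t _ _ _ _ _

theorem comp_pt {T T' : Over S} (f : T' ⟶ T) (h : T ⟶ H) (z' : T ⟶ Z' j c) :
    f ≫ pt i aZ aY j hjeq hjpb c aY' hc h z' = pt i aZ aY j hjeq hjpb c aY' hc (f ≫ h) (f ≫ z') := by
  apply Z'_hom_ext
  · rw [Category.assoc, pt_c', pt_c', ← Category.assoc, comp_lift]
    simp only [Category.assoc]
  · rw [Category.assoc, pt_t, pt_t, ← Category.assoc, comp_lift]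
    simp only [Category.assoc]

noncomputable def ψ : H ⊗ Z' j c ⟶ Z' j c :=
  pt i aZ aY j hjeq hjpb c aY' hc (fst H (Z' j c)) (snd H (Z' j c))

theorem ψ_c' : ψ i aZ aY j hjeq hjpb c aY' hc ≫ c' j c = (H ◁ c' j c) ≫ aZ.act := by
  unfold ψ
  rw [pt_c']
  congr 1

/-- the induced `H`-action on `Z'` -/
noncomputable def aZ' : AlgGrp.Action H (Z' j c) :=
  Groth.Agent.Lib.Helper24.Orbit.subAction aZ (c' j c) (ψ i aZ aY j hjeq hjpb c aY' hc)
    (ψ_c' i aZ aY j hjeq hjpb c aY' hc)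

theorem aZ'_equiv : AlgGrp.Action.IsEquivariant (aZ' i aZ aY j hjeq hjpb c aY' hc) aZ (c' j c) :=
  ψ_c' i aZ aY j hjeq hjpb c aY' hc

theorem aZ'_pt {T : Over S} (h : T ⟶ H) (z' : T ⟶ Z' j c) :
    lift h z' ≫ (aZ' i aZ aY j hjeq hjpb c aY' hc).act = pt i aZ aY j hjeq hjpb c aY' hc h z' := by
  change lift h z' ≫ ψ i aZ aY j hjeq hjpb c aY' hc = _
  unfold ψ
  rw [comp_pt, lift_fst, lift_snd]


noncomputable def j' : G ⊗ Z' j c ⟶ Y' := (G ◁ t j c) ≫ aY'.act

theorem j'_pt {T : Over S} (g : T ⟶ G) (z' : T ⟶ Z' j c) :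
    lift g z' ≫ j' j c aY' = lift g (z' ≫ t j c) ≫ aY'.act := by
  unfold j'
  rw [← Category.assoc, lift_whiskerLeft]

include hjeq hc in
theorem j'_c : j' j c aY' ≫ c = (G ◁ c' j c) ≫ j := by
  apply AlgGrp.Action.hom_ext_lift₂
  intro T g z'
  rw [← Category.assoc, j'_pt, P3 aY c aY' hc, Category.assoc, ← cond, ← Category.assoc (lift g z'),
    lift_whiskerLeft, P1 aY j hjeq, Category.assoc]

theorem exists_lift_eq {A B T : Over S} (b : T ⟶ A ⊗ B) : ∃ (x : T ⟶ A) (y : T ⟶ B), b = lift x y :=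
  ⟨b ≫ fst _ _, b ≫ snd _ _, by apply CartesianMonoidalCategory.hom_ext <;> simp⟩

theorem j'_equiv : AlgGrp.Action.IsEquivariant
    ((NonAbH1.trivialAction G).prod (AlgGrp.Action.trivial G (Z' j c))) aY' (j' j c aY') := by
  unfold AlgGrp.Action.IsEquivariant
  apply AlgGrp.Action.hom_ext_lift₂
  intro T g' b
  obtain ⟨g, z', rfl⟩ := exists_lift_eq b
  rw [← Category.assoc, AlgGrp.Action.lift_prod_act, AlgGrp.Action.lift_trivial_act,
    ← Category.assoc, lift_whiskerLeft, j'_pt, j'_pt]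
  have : lift g' g ≫ (NonAbH1.trivialAction G).act = g' * g := by
    rw [Hom.mul_def]; rfl
  rw [this, AlgGrp.Action.lift_mul_act]

theorem twist_pt_c' {T : Over S} (h : T ⟶ H) (g : T ⟶ G) (z' : T ⟶ Z' j c) :
    (lift h (lift g z') ≫ (ChGrp.twist i (aZ' i aZ aY j hjeq hjpb c aY' hc)).act) ≫ (G ◁ c' j c) =
      lift h (lift g (z' ≫ c' j c)) ≫ (ChGrp.twist i aZ).act := by
  rw [ChGrp.lift_twist_act, ChGrp.lift_twist_act, lift_whiskerLeft, aZ'_pt, pt_c']

theorem smul_twist_c' {T : Over S} (h : T ⟶ H) (x : T ⟶ G ⊗ Z' j c) :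
    smul (ChGrp.twist i (aZ' i aZ aY j hjeq hjpb c aY' hc)) h x ≫ (G ◁ c' j c) =
      smul (ChGrp.twist i aZ) h (x ≫ (G ◁ c' j c)) := by
  obtain ⟨g, z', rfl⟩ := exists_lift_eq x
  unfold smul
  rw [twist_pt_c', lift_whiskerLeft]

instance mono_whiskerLeft_c' : Mono (G ◁ c' j c) := by
  refine ⟨fun a b hab => ?_⟩
  apply CartesianMonoidalCategory.hom_ext
  · have := congrArg (· ≫ fst _ _) hab
    simpa using this
  · have := congrArg (· ≫ snd _ _) hab
    simp only [Category.assoc, whiskerLeft_snd] at this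
    rw [← cancel_mono (c' j c), Category.assoc, Category.assoc]
    exact this

theorem j'_inv : (ChGrp.twist i (aZ' i aZ aY j hjeq hjpb c aY' hc)).act ≫ j' j c aY' =
    snd H (G ⊗ Z' j c) ≫ j' j c aY' := by
  apply AlgGrp.Action.hom_ext_lift₂
  intro T h b
  obtain ⟨g, z', rfl⟩ := exists_lift_eq b
  rw [← Category.assoc, ChGrp.lift_twist_act, j'_pt, aZ'_pt, pt_t, ← AlgGrp.Action.lift_mul_act,
    inv_mul_cancel_right, ← Category.assoc, lift_snd, j'_pt]

theorem j'_pb : IsPullback (ChGrp.twist i (aZ' i aZ aY j hjeq hjpb c aY' hc)).act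
    (snd H (G ⊗ Z' j c)) (j' j c aY') (j' j c aY') := by
  refine TC1.isPullback_of_pts (j'_inv i aZ aY j hjeq hjpb c aY' hc) ?_ ?_
  · intro T x' x hx
    have hx2 : (x' ≫ (G ◁ c' j c)) ≫ j = (x ≫ (G ◁ c' j c)) ≫ j := by
      rw [Category.assoc, Category.assoc, ← j'_c aY j hjeq c aY' hc, ← Category.assoc,
        ← Category.assoc, hx]
    obtain ⟨h, hh⟩ := TC1.tors_exists hjpb _ _ hx2
    refine ⟨h, ?_⟩
    rw [← cancel_mono (G ◁ c' j c), smul_twist_c', hh]
  · intro T h h' x e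
    apply TC1.tors_unique hjpb h h' (x ≫ (G ◁ c' j c))
    rw [← smul_twist_c' i aZ aY j hjeq hjpb c aY' hc, ← smul_twist_c' i aZ aY j hjeq hjpb c aY' hc, e]


include hjeq hc in
theorem j'_loc
    (hjloc : NonAbH1.IsLocallyTrivialFor Scheme.fppfPrecoverage (Over.mk j.left : Over Y.left)) :
    NonAbH1.IsLocallyTrivialFor Scheme.fppfPrecoverage
      (Over.mk (j' j c aY').left : Over Y'.left) := by
  obtain ⟨R, hR, hsec⟩ := hjloc
  have h1 : j.left ≫ Y.hom = (G ⊗ Z).hom := Over.w j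
  have h2 : c.left ≫ Y.hom = Y'.hom := Over.w c
  refine ⟨R.pullbackArrows c.left, Precoverage.pullbackArrows_mem c.left hR, ?_⟩
  rintro S' f ⟨W, u, hu⟩
  obtain ⟨σ, hσ⟩ := hsec u hu
  change σ ≫ j.left = u at hσ
  let T : Over S := Over.mk (pullback.snd u c.left ≫ Y'.hom)
  let y' : T ⟶ Y' := Over.homMk (pullback.snd u c.left) rfl
  let w : T ⟶ G ⊗ Z := Over.homMk (pullback.fst u c.left ≫ σ) (by
    change (pullback.fst u c.left ≫ σ) ≫ (G ⊗ Z).hom = pullback.snd u c.left ≫ Y'.hom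
    rw [← h1, ← h2, Category.assoc, reassoc_of% hσ, pullback.condition_assoc])
  have hw : w ≫ j = y' ≫ c := by
    ext
    change (pullback.fst u c.left ≫ σ) ≫ j.left = pullback.snd u c.left ≫ c.left
    rw [Category.assoc, hσ, pullback.condition]
  obtain ⟨g, z, hgz⟩ := exists_lift_eq w
  have hz : z ≫ s j = (lift g⁻¹ y' ≫ aY'.act) ≫ c := by
    rw [P3 aY c aY' hc, ← hw, hgz, P1 aY j hjeq g z, ← AlgGrp.Action.lift_mul_act, inv_mul_cancel,
      AlgGrp.Action.lift_one_act]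
  let z' := Z'_lift j c z (lift g⁻¹ y' ≫ aY'.act) hz
  have key : lift g z' ≫ j' j c aY' = y' := by
    rw [j'_pt, Z'_lift_t, ← AlgGrp.Action.lift_mul_act, mul_inv_cancel, AlgGrp.Action.lift_one_act]
  refine ⟨(lift g z').left, ?_⟩
  have := congrArg (fun m => Over.Hom.left m) key
  simp only [Over.comp_left] at this
  exact this

end Groth.Agent.Lib.Helper26.BP2
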