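import Mathlib
import Groth.Agent.Lib.Helper26.HypHilb

set_option maxHeartbeats 400000
set_option autoImplicit false

namespace Groth.Agent.Lib.Helper26.TwoCurveHilb

open MvPolynomial Groth.Agent.Lib.Helper26

universe u

variable {k : Type u} [Field k]

/-- `f · S_e` as a `k`-submodule -/
noncomputable def mulSub (f : MvPolynomial (Fin 3) k) (e : ℕ) :
    Submodule k (MvPolynomial (Fin 3) k) :=
  (homogeneousSubmodule (Fin 3) k e).map (LinearMap.mulLeft k f)

lemma finrank_mulSub (f : MvPolynomial (Fin 3) k) (hf0 : f ≠ 0) (e : ℕ) :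
    Module.finrank k (mulSub f e) = (e + 2).choose 2 := by
  have hinj : Function.Injective (LinearMap.mulLeft k f) := mul_right_injective₀ hf0
  rw [mulSub, ← (Submodule.equivMapOfInjective _ hinj (homogeneousSubmodule (Fin 3) k e)).finrank_eq,
    HypHilb.finrank_H]

instance (f : MvPolynomial (Fin 3) k) (e : ℕ) : Module.Finite k (mulSub f e) := by
  unfold mulSub
  infer_instance

lemma inf_eq (f g : MvPolynomial (Fin 3) k) (n m d : ℕ) (hf : f.IsHomogeneous n)
    (hg : g.IsHomogeneous m) (hf0 : f ≠ 0) (hfg : IsRelPrime f g) (hd : n + m ≤ d) :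
    mulSub f (d - n) ⊓ mulSub g (d - m) = mulSub (f * g) (d - n - m) := by
  apply le_antisymm
  · rintro x ⟨⟨a, ha, rfl⟩, ⟨b, hb, hab⟩⟩
    simp only [LinearMap.mulLeft_apply] at hab ⊢
    have hdvd : f ∣ g * b := ⟨a, hab⟩
    obtain ⟨h, rfl⟩ := hfg.dvd_of_dvd_mul_left hdvd
    have ha' : a = g * h := by
      apply mul_left_cancel₀ hf0; rw [← hab]; ring
    have hh : h = homogeneousComponent (d - m - n) h := by
      apply mul_left_cancel₀ hf0
      rw [← BinCommon2.hc_mul f h n (d - m) hf (by omega)]
      exact (homogeneousComponent_eq_self hb).symm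
    refine ⟨h, ?_, ?_⟩
    · rw [hh, show d - n - m = d - m - n by omega]
      exact homogeneousComponent_isHomogeneous _ _
    · simp only [LinearMap.mulLeft_apply]; rw [ha']; ring
  · rintro x ⟨h, hh, rfl⟩
    constructor
    · refine ⟨g * h, ?_, by simp [mul_assoc]⟩
      have := hg.mul hh
      rw [show m + (d - n - m) = d - n by omega] at this
      exact this
    · refine ⟨f * h, ?_, by simp only [LinearMap.mulLeft_apply]; ring⟩
      have := hf.mul hh
      rw [show n + (d - n - m) = d - m by omega] at this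
      exact this

lemma sup_eq (f g : MvPolynomial (Fin 3) k) (n m d : ℕ) (hf : f.IsHomogeneous n)
    (hg : g.IsHomogeneous m) (hd : n + m ≤ d) :
    mulSub f (d - n) ⊔ mulSub g (d - m) =
      ((Ideal.span ({f, g} : Set (MvPolynomial (Fin 3) k))).restrictScalars k) ⊓
        homogeneousSubmodule (Fin 3) k d := by
  apply le_antisymm
  · apply sup_le
    · rintro x ⟨a, ha, rfl⟩
      refine ⟨?_, ?_⟩
      · exact Ideal.mul_mem_right _ _ (Ideal.subset_span (by simp))
      · have := hf.mul ha
        rw [show n + (d - n) = d by omega] at this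
        exact this
    · rintro x ⟨a, ha, rfl⟩
      refine ⟨?_, ?_⟩
      · exact Ideal.mul_mem_right _ _ (Ideal.subset_span (by simp))
      · have := hg.mul ha
        rw [show m + (d - m) = d by omega] at this
        exact this
  · rintro x ⟨hxI, hxH⟩
    rw [SetLike.mem_coe, Submodule.restrictScalars_mem, Ideal.mem_span_pair] at hxI
    obtain ⟨a, b, hab⟩ := hxI
    have hx : x = f * homogeneousComponent (d - n) a + g * homogeneousComponent (d - m) b := by
      rw [← BinCommon2.hc_mul f a n d hf (by omega), ← BinCommon2.hc_mul g b m d hg (by omega),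
        ← map_add, mul_comm f a, mul_comm g b, hab]
      exact (homogeneousComponent_eq_self hxH).symm
    rw [hx]
    exact Submodule.add_mem_sup ⟨_, homogeneousComponent_isHomogeneous _ _, rfl⟩
      ⟨_, homogeneousComponent_isHomogeneous _ _, rfl⟩

lemma arith (n m e : ℕ) :
    (n + m + e + 2).choose 2 + (e + 2).choose 2 =
      (m + e + 2).choose 2 + (n + e + 2).choose 2 + n * m := by
  have h : (((n + m + e + 2).choose 2 + (e + 2).choose 2 : ℕ) : ℚ) =
      (((m + e + 2).choose 2 + (n + e + 2).choose 2 + n * m : ℕ) : ℚ) := by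
    push_cast [Nat.cast_choose_two]
    ring
  exact_mod_cast h

theorem main (n m d : ℕ)
    (f g : MvPolynomial (Fin 3) k) (hf : f.IsHomogeneous n) (hg : g.IsHomogeneous m)
    (hf0 : f ≠ 0) (hg0 : g ≠ 0) (hfg : IsRelPrime f g) (hd : n + m ≤ d) :
    Module.finrank k
        (↥(MvPolynomial.homogeneousSubmodule (Fin 3) k d) ⧸
          Submodule.comap (MvPolynomial.homogeneousSubmodule (Fin 3) k d).subtype
            ((Ideal.span ({f, g} : Set (MvPolynomial (Fin 3) k))).restrictScalars k)) = n * m := by
  obtain ⟨I, hI⟩ : ∃ I, I = (Ideal.span ({f, g} : Set (MvPolynomial (Fin 3) k))).restrictScalars k :=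
    ⟨_, rfl⟩
  obtain ⟨Hd, hHd⟩ : ∃ Hd, Hd = MvPolynomial.homogeneousSubmodule (Fin 3) k d := ⟨_, rfl⟩
  rw [← hI, ← hHd]
  haveI : Module.Finite k Hd := by rw [hHd]; infer_instance
  have h1 := Submodule.finrank_quotient_add_finrank (Submodule.comap Hd.subtype I)
  have hcomap : Submodule.comap Hd.subtype I = Submodule.comap Hd.subtype (I ⊓ Hd) := by
    rw [Submodule.comap_inf, Submodule.comap_subtype_self, inf_top_eq]
  have h2 : Module.finrank k (Submodule.comap Hd.subtype I) = Module.finrank k ↥(I ⊓ Hd) := by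
    rw [hcomap]
    exact (Submodule.comapSubtypeEquivOfLe (inf_le_right : I ⊓ Hd ≤ Hd)).finrank_eq
  have h3 := Submodule.finrank_sup_add_finrank_inf_eq (mulSub f (d - n)) (mulSub g (d - m))
  rw [sup_eq f g n m d hf hg hd, inf_eq f g n m d hf hg hf0 hfg hd, finrank_mulSub f hf0,
    finrank_mulSub g hg0, finrank_mulSub (f * g) (mul_ne_zero hf0 hg0), ← hI, ← hHd] at h3
  have h5 : Module.finrank k Hd = (d + 2).choose 2 := by rw [hHd, HypHilb.finrank_H]
  rw [h2, h5] at h1
  obtain ⟨e, rfl⟩ : ∃ e, d = n + m + e := ⟨d - (n + m), by omega⟩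
  have h4 := arith n m e
  rw [show n + m + e - n - m = e by omega, show n + m + e - n = m + e by omega,
    show n + m + e - m = n + e by omega] at h3
  omega

end Groth.Agent.Lib.Helper26.TwoCurveHilb
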