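import Mathlib
import Groth.Agent.Lib.Helper26.TwoCurveHilb

set_option maxHeartbeats 400000
set_option autoImplicit false

namespace Groth.Agent.Lib.Helper26.BezoutAff

open MvPolynomial Groth.Agent.Lib.Helper26

universe u

variable {k : Type u} [Field k]

attribute [local instance] MvPolynomial.gradedAlgebra

/-- evaluation `T ↦ c` -/
noncomputable def ev (c : MvPolynomial (Fin 2) k) :
    MvPolynomial (Fin 3) k →ₐ[k] MvPolynomial (Fin 2) k :=
  MvPolynomial.aeval (Fin.cons (MvPolynomial.X 0) (Fin.cons (MvPolynomial.X 1)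
    (Fin.cons c Fin.elim0)) : Fin 3 → MvPolynomial (Fin 2) k)

/-- inclusion of `k[X,Y]` -/
noncomputable def ι : MvPolynomial (Fin 2) k →ₐ[k] MvPolynomial (Fin 3) k :=
  MvPolynomial.rename Fin.castSucc

@[simp] lemma ev_X0 (c : MvPolynomial (Fin 2) k) : ev c (X 0) = X 0 := by
  simp [ev]

@[simp] lemma ev_X1 (c : MvPolynomial (Fin 2) k) : ev c (X 1) = X 1 := by
  rw [ev, aeval_X]; rfl

@[simp] lemma ev_X2 (c : MvPolynomial (Fin 2) k) : ev c (X 2) = c := by
  rw [ev, aeval_X]; rfl

@[simp] lemma ι_X0 : ι (X 0 : MvPolynomial (Fin 2) k) = X 0 := by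
  rw [ι, rename_X]; rfl

@[simp] lemma ι_X1 : ι (X 1 : MvPolynomial (Fin 2) k) = X 1 := by
  rw [ι, rename_X]; rfl

lemma ev_ι (c : MvPolynomial (Fin 2) k) (p : MvPolynomial (Fin 2) k) : ev c (ι p) = p := by
  induction p using MvPolynomial.induction_on with
  | C a => simp [ι, ev]
  | add p q hp hq => rw [map_add, map_add, hp, hq]
  | mul_X p i hp =>
    rw [map_mul, map_mul, hp]
    fin_cases i
    · simp
    · simp

lemma sub_mem (c : MvPolynomial (Fin 2) k) (p : MvPolynomial (Fin 3) k) :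
    p - ι (ev c p) ∈ Ideal.span {(X 2 : MvPolynomial (Fin 3) k) - ι c} := by
  induction p using MvPolynomial.induction_on with
  | C a =>
    have : ι (ev c (C a)) = (C a : MvPolynomial (Fin 3) k) := by simp [ι, ev]
    rw [this, sub_self]; exact Submodule.zero_mem _
  | add p q hp hq =>
    have : p + q - ι (ev c (p + q)) = (p - ι (ev c p)) + (q - ι (ev c q)) := by
      rw [map_add, map_add]; ring
    rw [this]; exact Submodule.add_mem _ hp hq
  | mul_X p i hp =>
    fin_cases i
    · have : p * X 0 - ι (ev c (p * X 0)) = (p - ι (ev c p)) * X 0 := by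
        rw [map_mul, map_mul, ev_X0, ι_X0]; ring
      simp only [Fin.zero_eta]
      rw [this]; exact Ideal.mul_mem_right _ _ hp
    · have : p * X 1 - ι (ev c (p * X 1)) = (p - ι (ev c p)) * X 1 := by
        rw [map_mul, map_mul, ev_X1, ι_X1]; ring
      simp only [Fin.mk_one]
      rw [this]; exact Ideal.mul_mem_right _ _ hp
    · have : p * X 2 - ι (ev c (p * X 2))
          = (p - ι (ev c p)) * X 2 + ι (ev c p) * (X 2 - ι c) := by
        rw [map_mul, map_mul, ev_X2]; ring
      simp only [Fin.reduceFinMk]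
      rw [this]
      exact Submodule.add_mem _ (Ideal.mul_mem_right _ _ hp)
        (Ideal.mul_mem_left _ _ (Ideal.subset_span (Set.mem_singleton _)))


lemma exists_X2_mul (p : MvPolynomial (Fin 3) k) (hp : ev 0 p = 0) :
    ∃ p', p = X 2 * p' := by
  have h := sub_mem (0 : MvPolynomial (Fin 2) k) p
  rw [hp, map_zero, sub_zero, sub_zero, Ideal.mem_span_singleton'] at h
  obtain ⟨a, ha⟩ := h
  exact ⟨a, by rw [← ha]; ring⟩

lemma exists_X2_sub_one_mul (p : MvPolynomial (Fin 3) k) (hp : ev 1 p = 0) :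
    ∃ p', p = (X 2 - 1) * p' := by
  have h := sub_mem (1 : MvPolynomial (Fin 2) k) p
  rw [hp, map_zero, map_one, sub_zero, Ideal.mem_span_singleton'] at h
  obtain ⟨a, ha⟩ := h
  exact ⟨a, by rw [← ha]; ring⟩

/-- syzygy lemma for a relatively prime pair -/
lemma exists_syz {R : Type*} [CommRing R] [IsDomain R] [DecompositionMonoid R]
    (F G A B : R) (hFG : IsRelPrime F G) (h : A * F + B * G = 0) :
    ∃ C, A = -(C * G) ∧ B = C * F := by
  by_cases hF : F = 0
  · subst hF
    have hu : IsUnit G := hFG (dvd_zero G) dvd_rfl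
    obtain ⟨u, rfl⟩ := hu
    have hB : B = 0 := by
      have : B * (u : R) = 0 := by simpa using h
      exact u.isUnit.mul_left_eq_zero.mp this
    refine ⟨-(A * (↑u⁻¹ : R)), ?_, ?_⟩
    · rw [neg_mul, neg_neg, mul_assoc, Units.inv_mul, mul_one]
    · rw [hB, mul_zero]
  · have hdvd : F ∣ G * B := ⟨-A, by linear_combination h⟩
    obtain ⟨C, rfl⟩ := hFG.dvd_of_dvd_mul_left hdvd
    refine ⟨C, ?_, by ring⟩
    apply mul_left_cancel₀ hF
    linear_combination h

lemma T_cancel (f g : MvPolynomial (Fin 3) k)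
    (hT : IsRelPrime (ev 0 f) (ev 0 g)) (H : MvPolynomial (Fin 3) k)
    (hH : X 2 * H ∈ Ideal.span ({f, g} : Set (MvPolynomial (Fin 3) k))) :
    H ∈ Ideal.span ({f, g} : Set (MvPolynomial (Fin 3) k)) := by
  rw [Ideal.mem_span_pair] at hH ⊢
  obtain ⟨a, b, hab⟩ := hH
  have h0 : ev 0 a * ev 0 f + ev 0 b * ev 0 g = 0 := by
    have := congrArg (ev (0 : MvPolynomial (Fin 2) k)) hab
    rw [map_add, map_mul, map_mul, map_mul, ev_X2, zero_mul] at this
    exact this
  obtain ⟨C, hA, hB⟩ := exists_syz _ _ _ _ hT h0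
  obtain ⟨a', ha'⟩ := exists_X2_mul (a + ι C * g) (by
    rw [map_add, map_mul, ev_ι, hA]; ring)
  obtain ⟨b', hb'⟩ := exists_X2_mul (b - ι C * f) (by
    rw [map_sub, map_mul, ev_ι, hB]; ring)
  refine ⟨a', b', ?_⟩
  apply mul_left_cancel₀ (X_ne_zero (2 : Fin 3) : (X 2 : MvPolynomial (Fin 3) k) ≠ 0)
  rw [← hab]
  have : a * f + b * g = (a + ι C * g) * f + (b - ι C * f) * g := by ring
  rw [this, ha', hb']; ring


section graded

variable {f g : MvPolynomial (Fin 3) k} {n m : ℕ}

lemma I_homog (hf : f.IsHomogeneous n) (hg : g.IsHomogeneous m) :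
    (Ideal.span ({f, g} : Set (MvPolynomial (Fin 3) k))).IsHomogeneous
      (homogeneousSubmodule (Fin 3) k) := by
  apply Ideal.homogeneous_span
  intro x hx
  rcases hx with rfl | rfl
  · exact ⟨n, hf⟩
  · exact ⟨m, hg⟩

lemma hc_mem (hf : f.IsHomogeneous n) (hg : g.IsHomogeneous m) {p : MvPolynomial (Fin 3) k}
    (hp : p ∈ Ideal.span ({f, g} : Set (MvPolynomial (Fin 3) k))) (e : ℕ) :
    homogeneousComponent e p ∈ Ideal.span ({f, g} : Set (MvPolynomial (Fin 3) k)) :=
  homogeneousComponent_mem_of_mem (I_homog hf hg) hp e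

lemma hc_X2_mul_succ (c : MvPolynomial (Fin 3) k) (e : ℕ) :
    homogeneousComponent (e + 1) (X 2 * c) = X 2 * homogeneousComponent e c := by
  have := BinCommon2.hc_mul (X 2 : MvPolynomial (Fin 3) k) c 1 (e + 1) (isHomogeneous_X _ _)
    (by omega)
  simpa using this

lemma hc_X2_mul_zero (c : MvPolynomial (Fin 3) k) :
    homogeneousComponent 0 (X 2 * c) = 0 := by
  rw [homogeneousComponent_zero, coeff_X_mul']
  simp


/-- multiplication by `T` is onto modulo `(f,g)` in degrees `≥ n + m` -/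
lemma T_surj (hf : f.IsHomogeneous n) (hg : g.IsHomogeneous m)
    (hf0 : f ≠ 0) (hg0 : g ≠ 0) (hfg : IsRelPrime f g)
    (hT : IsRelPrime (ev 0 f) (ev 0 g)) (d : ℕ) (hd : n + m ≤ d)
    (q : MvPolynomial (Fin 3) k) (hq : q.IsHomogeneous (d + 1)) :
    ∃ h : MvPolynomial (Fin 3) k, h.IsHomogeneous d ∧
      q - X 2 * h ∈ Ideal.span ({f, g} : Set (MvPolynomial (Fin 3) k)) := by
  obtain ⟨I, hI⟩ : ∃ I, I = Ideal.span ({f, g} : Set (MvPolynomial (Fin 3) k)) := ⟨_, rfl⟩
  rw [← hI]
  have hmem : ∀ h : homogeneousSubmodule (Fin 3) k d,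
      (LinearMap.mulLeft k (X 2 : MvPolynomial (Fin 3) k) ∘ₗ
        (homogeneousSubmodule (Fin 3) k d).subtype) h ∈ homogeneousSubmodule (Fin 3) k (d + 1) := by
    intro h
    have := (isHomogeneous_X k (2 : Fin 3)).mul h.2
    rw [add_comm] at this
    exact this
  let μ : homogeneousSubmodule (Fin 3) k d →ₗ[k] homogeneousSubmodule (Fin 3) k (d + 1) :=
    LinearMap.codRestrict _ _ hmem
  let P := Submodule.comap (homogeneousSubmodule (Fin 3) k (d + 1)).subtype (I.restrictScalars k)
  let τ : homogeneousSubmodule (Fin 3) k d →ₗ[k] (homogeneousSubmodule (Fin 3) k (d + 1) ⧸ P) :=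
    P.mkQ ∘ₗ μ
  have hker : LinearMap.ker τ =
      Submodule.comap (homogeneousSubmodule (Fin 3) k d).subtype (I.restrictScalars k) := by
    ext h
    rw [LinearMap.mem_ker]
    change P.mkQ (μ h) = 0 ↔ _
    rw [Submodule.mkQ_apply, Submodule.Quotient.mk_eq_zero]
    change X 2 * h.1 ∈ I ↔ h.1 ∈ I
    constructor
    · intro hh
      rw [hI] at hh ⊢
      exact T_cancel f g hT _ hh
    · intro hh
      exact Ideal.mul_mem_left _ _ hh
  have h1 := LinearMap.finrank_range_add_finrank_ker τ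
  have h2 := Submodule.finrank_quotient_add_finrank
    (Submodule.comap (homogeneousSubmodule (Fin 3) k d).subtype (I.restrictScalars k))
  have h3 : Module.finrank k (homogeneousSubmodule (Fin 3) k d ⧸
      Submodule.comap (homogeneousSubmodule (Fin 3) k d).subtype (I.restrictScalars k)) = n * m := by
    subst hI; exact TwoCurveHilb.main n m d f g hf hg hf0 hg0 hfg hd
  have h4 : Module.finrank k (homogeneousSubmodule (Fin 3) k (d + 1) ⧸ P) = n * m := by
    subst hI; exact TwoCurveHilb.main n m (d + 1) f g hf hg hf0 hg0 hfg (by omega)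
  rw [hker] at h1
  have h5 : Module.finrank k (LinearMap.range τ) =
      Module.finrank k (homogeneousSubmodule (Fin 3) k (d + 1) ⧸ P) := by omega
  have h6 : LinearMap.range τ = ⊤ := Submodule.eq_top_of_finrank_eq h5
  have h7 : P.mkQ ⟨q, hq⟩ ∈ LinearMap.range τ := by rw [h6]; trivial
  obtain ⟨h, hh⟩ := h7
  refine ⟨h.1, h.2, ?_⟩
  change P.mkQ (μ h) = P.mkQ ⟨q, hq⟩ at hh
  rw [Submodule.mkQ_apply, Submodule.mkQ_apply, Submodule.Quotient.eq] at hh
  have hh' : X 2 * h.1 - q ∈ I := hh
  have : q - X 2 * h.1 = -(X 2 * h.1 - q) := by ring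
  rw [this]
  exact Submodule.neg_mem _ hh'


lemma T_surj_iter (hf : f.IsHomogeneous n) (hg : g.IsHomogeneous m)
    (hf0 : f ≠ 0) (hg0 : g ≠ 0) (hfg : IsRelPrime f g)
    (hT : IsRelPrime (ev 0 f) (ev 0 g)) (d : ℕ) (hd : n + m ≤ d) :
    ∀ (j : ℕ) (q : MvPolynomial (Fin 3) k), q.IsHomogeneous (d + j) →
    ∃ h : MvPolynomial (Fin 3) k, h.IsHomogeneous d ∧
      q - X 2 ^ j * h ∈ Ideal.span ({f, g} : Set (MvPolynomial (Fin 3) k)) := by
  intro j
  induction j with
  | zero =>
    intro q hq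
    exact ⟨q, hq, by simp⟩
  | succ j ih =>
    intro q hq
    obtain ⟨q', hq', h1⟩ := T_surj hf hg hf0 hg0 hfg hT (d + j) (by omega) q hq
    obtain ⟨h, hh, h2⟩ := ih q' hq'
    refine ⟨h, hh, ?_⟩
    have : q - X 2 ^ (j + 1) * h = (q - X 2 * q') + X 2 * (q' - X 2 ^ j * h) := by ring
    rw [this]
    exact Submodule.add_mem _ h1 (Ideal.mul_mem_left _ _ h2)

lemma X2_pow_sub_one_mem (j : ℕ) (h : MvPolynomial (Fin 3) k) :
    (X 2 ^ j - 1) * h ∈ Ideal.span ({(X 2 : MvPolynomial (Fin 3) k) - 1} : Set _) := by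
  apply Ideal.mul_mem_right
  rw [Ideal.mem_span_singleton]
  have := sub_dvd_pow_sub_pow (X 2 : MvPolynomial (Fin 3) k) 1 j
  rwa [one_pow] at this

/-- every polynomial is congruent to a form of degree `d` modulo `(f, g, T - 1)` -/
lemma surj_aux (hf : f.IsHomogeneous n) (hg : g.IsHomogeneous m)
    (hf0 : f ≠ 0) (hg0 : g ≠ 0) (hfg : IsRelPrime f g)
    (hT : IsRelPrime (ev 0 f) (ev 0 g)) (d : ℕ) (hd : n + m ≤ d)
    (q : MvPolynomial (Fin 3) k) :
    ∃ h : MvPolynomial (Fin 3) k, h.IsHomogeneous d ∧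
      q - h ∈ Ideal.span ({f, g} : Set (MvPolynomial (Fin 3) k)) ⊔
        Ideal.span ({(X 2 : MvPolynomial (Fin 3) k) - 1} : Set _) := by
  obtain ⟨K, hK⟩ : ∃ K, K = Ideal.span ({f, g} : Set (MvPolynomial (Fin 3) k)) ⊔
        Ideal.span ({(X 2 : MvPolynomial (Fin 3) k) - 1} : Set _) := ⟨_, rfl⟩
  rw [← hK]
  have key : ∀ e : ℕ, ∀ p : MvPolynomial (Fin 3) k, p.IsHomogeneous e →
      ∃ h : MvPolynomial (Fin 3) k, h.IsHomogeneous d ∧ p - h ∈ K := by
    intro e p hp
    rcases le_or_gt e d with hed | hed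
    · refine ⟨X 2 ^ (d - e) * p, ?_, ?_⟩
      · have := (isHomogeneous_X_pow (R := k) (2 : Fin 3) (d - e)).mul hp
        rwa [show d - e + e = d by omega] at this
      · have : p - X 2 ^ (d - e) * p = -((X 2 ^ (d - e) - 1) * p) := by ring
        rw [this, hK]
        exact Submodule.neg_mem _ (Ideal.mem_sup_right (X2_pow_sub_one_mem _ _))
    · obtain ⟨j, rfl⟩ : ∃ j, e = d + j := ⟨e - d, by omega⟩
      obtain ⟨h, hh, h1⟩ := T_surj_iter hf hg hf0 hg0 hfg hT d hd j p hp
      refine ⟨h, hh, ?_⟩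
      have : p - h = (p - X 2 ^ j * h) + (X 2 ^ j - 1) * h := by ring
      rw [this, hK]
      exact Submodule.add_mem _ (Ideal.mem_sup_left h1)
        (Ideal.mem_sup_right (X2_pow_sub_one_mem _ _))
  choose! hh hh1 hh2 using key
  refine ⟨∑ e ∈ Finset.range (q.totalDegree + 1), hh e (homogeneousComponent e q), ?_, ?_⟩
  · exact IsHomogeneous.sum _ _ _ fun e _ => hh1 e _ (homogeneousComponent_isHomogeneous _ _)
  · have : q - ∑ e ∈ Finset.range (q.totalDegree + 1), hh e (homogeneousComponent e q)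
        = ∑ e ∈ Finset.range (q.totalDegree + 1),
          (homogeneousComponent e q - hh e (homogeneousComponent e q)) := by
      rw [Finset.sum_sub_distrib, sum_homogeneousComponent]
    rw [this]
    exact Submodule.sum_mem _ fun e _ => hh2 e _ (homogeneousComponent_isHomogeneous _ _)


/-- a form of degree `d ≥ 1` lying in `(f, g, T - 1)` lies in `(f, g)` -/
lemma ker_aux (hf : f.IsHomogeneous n) (hg : g.IsHomogeneous m)
    (hT : IsRelPrime (ev 0 f) (ev 0 g)) (d : ℕ) (hd : 1 ≤ d)
    (h c i : MvPolynomial (Fin 3) k) (hh : h.IsHomogeneous d)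
    (hi : i ∈ Ideal.span ({f, g} : Set (MvPolynomial (Fin 3) k)))
    (heq : h = (X 2 - 1) * c + i) :
    h ∈ Ideal.span ({f, g} : Set (MvPolynomial (Fin 3) k)) := by
  have hsucc : ∀ e, homogeneousComponent (e + 1) h =
      X 2 * homogeneousComponent e c - homogeneousComponent (e + 1) c +
        homogeneousComponent (e + 1) i := by
    intro e
    have : h = X 2 * c - c + i := by rw [heq]; ring
    conv_lhs => rw [this]
    rw [map_add, map_sub, hc_X2_mul_succ]
  have hzero : homogeneousComponent 0 h =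
      - homogeneousComponent 0 c + homogeneousComponent 0 i := by
    have : h = X 2 * c - c + i := by rw [heq]; ring
    conv_lhs => rw [this]
    rw [map_add, map_sub, hc_X2_mul_zero, zero_sub]
  have hhc : ∀ e, e ≠ d → homogeneousComponent e h = 0 := by
    intro e he
    rw [homogeneousComponent_of_mem ((mem_homogeneousSubmodule _ _).mpr hh), if_neg he]
  have claim1 : ∀ e, e < d → homogeneousComponent e c ∈
      Ideal.span ({f, g} : Set (MvPolynomial (Fin 3) k)) := by
    intro e
    induction e with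
    | zero =>
      intro _
      have h0 := hzero
      rw [hhc 0 (by omega)] at h0
      have : homogeneousComponent 0 c = homogeneousComponent 0 i := by
        linear_combination h0
      rw [this]; exact hc_mem hf hg hi 0
    | succ e ih =>
      intro he
      have h0 := hsucc e
      rw [hhc (e + 1) (by omega)] at h0
      have : homogeneousComponent (e + 1) c =
          X 2 * homogeneousComponent e c + homogeneousComponent (e + 1) i := by
        linear_combination h0
      rw [this]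
      exact Submodule.add_mem _ (Ideal.mul_mem_left _ _ (ih (by omega))) (hc_mem hf hg hi _)
  have claim2 : ∀ j e, d ≤ e → e + j = max d (c.totalDegree + 1) →
      homogeneousComponent e c ∈ Ideal.span ({f, g} : Set (MvPolynomial (Fin 3) k)) := by
    intro j
    induction j with
    | zero =>
      intro e _ he
      have : c.totalDegree < e := by
        have := le_max_right d (c.totalDegree + 1)
        omega
      rw [homogeneousComponent_eq_zero _ _ this]
      exact Submodule.zero_mem _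
    | succ j ih =>
      intro e hde he
      have h1 := ih (e + 1) (by omega) (by omega)
      have h0 := hsucc e
      rw [hhc (e + 1) (by omega)] at h0
      have : X 2 * homogeneousComponent e c =
          homogeneousComponent (e + 1) c - homogeneousComponent (e + 1) i := by
        linear_combination -h0
      apply T_cancel f g hT
      rw [this]
      exact Submodule.sub_mem _ h1 (hc_mem hf hg hi _)
  have hc : c ∈ Ideal.span ({f, g} : Set (MvPolynomial (Fin 3) k)) := by
    rw [← sum_homogeneousComponent c]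
    refine Submodule.sum_mem _ fun e he => ?_
    rw [Finset.mem_range] at he
    rcases lt_or_ge e d with h1 | h1
    · exact claim1 e h1
    · have hle : e ≤ max d (c.totalDegree + 1) := by
        have := le_max_right d (c.totalDegree + 1)
        omega
      exact claim2 (max d (c.totalDegree + 1) - e) e h1 (by omega)
  rw [heq]
  exact Submodule.add_mem _ (Ideal.mul_mem_left _ _ hc) hi

end graded

theorem main (n m : ℕ) (f g : MvPolynomial (Fin 3) k) (hf : f.IsHomogeneous n)
    (hg : g.IsHomogeneous m) (hn : 0 < n) (hf0 : f ≠ 0) (hg0 : g ≠ 0) (hfg : IsRelPrime f g)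
    (hT : IsRelPrime (ev 0 f) (ev 0 g)) :
    Module.finrank k (MvPolynomial (Fin 2) k ⧸
      Ideal.span ({ev 1 f, ev 1 g} : Set (MvPolynomial (Fin 2) k))) = n * m := by
  obtain ⟨J, hJ⟩ : ∃ J, J = Ideal.span ({ev 1 f, ev 1 g} : Set (MvPolynomial (Fin 2) k)) :=
    ⟨_, rfl⟩
  rw [← hJ]
  have hIJ : Ideal.span ({f, g} : Set (MvPolynomial (Fin 3) k)) ⊔
      Ideal.span ({(X 2 : MvPolynomial (Fin 3) k) - 1} : Set _) ≤ Ideal.comap (ev 1) J := by
    refine sup_le (Ideal.span_le.mpr ?_) (Ideal.span_le.mpr ?_)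
    · rintro x (rfl | rfl)
      · rw [SetLike.mem_coe, Ideal.mem_comap, hJ]
        exact Ideal.subset_span (by simp)
      · rw [SetLike.mem_coe, Ideal.mem_comap, hJ]
        exact Ideal.subset_span (by simp)
    · rintro x rfl
      rw [SetLike.mem_coe, Ideal.mem_comap, map_sub, ev_X2, map_one, sub_self]
      exact Submodule.zero_mem _
  let ψ : homogeneousSubmodule (Fin 3) k (n + m) →ₗ[k] (MvPolynomial (Fin 2) k ⧸ J) :=
    (Ideal.Quotient.mkₐ k J).toLinearMap ∘ₗ (ev 1).toLinearMap ∘ₗ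
      (homogeneousSubmodule (Fin 3) k (n + m)).subtype
  have hψ : ∀ h : homogeneousSubmodule (Fin 3) k (n + m),
      ψ h = Ideal.Quotient.mk J (ev 1 h.1) := fun h => rfl
  have hsurj : Function.Surjective ψ := by
    intro y
    obtain ⟨p₀, rfl⟩ := Ideal.Quotient.mk_surjective y
    obtain ⟨h, hh, hmem⟩ := surj_aux hf hg hf0 hg0 hfg hT (n + m) le_rfl (ι p₀)
    refine ⟨⟨h, hh⟩, ?_⟩
    rw [hψ, Ideal.Quotient.eq]
    have := hIJ hmem
    rw [Ideal.mem_comap, map_sub, ev_ι] at this
    have h2 : ev 1 h - p₀ = -(p₀ - ev 1 h) := by ring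
    rw [h2]
    exact Submodule.neg_mem _ this
  have hker : LinearMap.ker ψ =
      Submodule.comap (homogeneousSubmodule (Fin 3) k (n + m)).subtype
        ((Ideal.span ({f, g} : Set (MvPolynomial (Fin 3) k))).restrictScalars k) := by
    ext h
    rw [LinearMap.mem_ker, hψ, Ideal.Quotient.eq_zero_iff_mem]
    change ev 1 h.1 ∈ J ↔ h.1 ∈ Ideal.span ({f, g} : Set (MvPolynomial (Fin 3) k))
    constructor
    · intro hh
      rw [hJ, Ideal.mem_span_pair] at hh
      obtain ⟨a, b, hab⟩ := hh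
      have hi : ι a * f + ι b * g ∈ Ideal.span ({f, g} : Set (MvPolynomial (Fin 3) k)) :=
        Ideal.mem_span_pair.mpr ⟨_, _, rfl⟩
      obtain ⟨c, hc⟩ := exists_X2_sub_one_mul (h.1 - (ι a * f + ι b * g)) (by
        rw [map_sub, map_add, map_mul, map_mul, ev_ι, ev_ι, hab, sub_self])
      exact ker_aux hf hg hT (n + m) (by omega) h.1 c _ h.2 hi (by rw [← hc]; ring)
    · intro hh
      exact hIJ (Ideal.mem_sup_left hh)
  have e := ψ.quotKerEquivOfSurjective hsurj
  rw [← e.finrank_eq, hker]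
  exact TwoCurveHilb.main n m (n + m) f g hf hg hf0 hg0 hfg le_rfl

end Groth.Agent.Lib.Helper26.BezoutAff
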