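import Mathlib
set_option maxHeartbeats 400000
universe u
namespace Groth.Agent.Lib.Helper26.BijNil
open TensorProduct

/-- ideal generated by the image of a locally nilpotent ideal lies in the Jacobson radical -/
theorem map_le_jacobson {R S : Type*} [CommRing R] [CommRing S] [Algebra R S] (I : Ideal R)
    (hI : ∀ x ∈ I, IsNilpotent x) : I.map (algebraMap R S) ≤ Ideal.jacobson ⊥ := by
  refine le_trans ?_ (Ideal.radical_le_jacobson (I := (⊥ : Ideal S)))
  rw [Ideal.map_le_iff_le_comap]
  intro x hx
  rw [Ideal.mem_comap]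
  change algebraMap R S x ∈ nilradical S
  rw [mem_nilradical]
  exact (hI x hx).map _

theorem ker_fg {R S S' : Type u} [CommRing R] [CommRing S] [CommRing S'] [Algebra R S] [Algebra R S']
    [Algebra.FiniteType R S] [Algebra.FinitePresentation R S'] (f : S →ₐ[R] S')
    (hf : Function.Surjective f) : (RingHom.ker f.toRingHom).FG := by
  obtain ⟨n, g, hg⟩ := Algebra.FiniteType.iff_quotient_mvPolynomial''.mp (inferInstance : Algebra.FiniteType R S)
  convert! (Algebra.FinitePresentation.ker_fg_of_mvPolynomial (f.comp g) (hf.comp hg)).map g.toRingHom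
  simp_rw [RingHom.ker_eq_comap_bot, AlgHom.toRingHom_eq_coe, AlgHom.comp_toRingHom]
  rw [← Ideal.comap_comap, Ideal.map_comap_of_surjective (g : MvPolynomial (Fin n) R →+* S) hg]

theorem surj (R S S' : Type u)
    [CommRing R] [CommRing S] [CommRing S'] [Algebra R S] [Algebra R S']
    [Algebra.FiniteType R S'] (I : Ideal R) (hI : ∀ x ∈ I, IsNilpotent x)
    (f : S →ₐ[R] S')
    (hsurj : Function.Surjective ((Ideal.Quotient.mk (I.map (algebraMap R S'))).comp f.toRingHom)) :
    Function.Surjective f := by
  letI : Algebra S S' := f.toRingHom.toAlgebra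
  haveI : IsScalarTower R S S' := IsScalarTower.of_algebraMap_eq (fun r => (f.commutes r).symm)
  haveI : Algebra.FiniteType S S' := Algebra.FiniteType.of_restrictScalars_finiteType R S S'
  have hJ : ∀ j ∈ I.map (algebraMap R S'), IsNilpotent j := by
    intro j hj
    have : I.map (algebraMap R S') ≤ nilradical S' := by
      rw [Ideal.map_le_iff_le_comap]
      intro x hx
      rw [Ideal.mem_comap, mem_nilradical]
      exact (hI x hx).map _
    exact mem_nilradical.mp (this hj)
  have hdec : ∀ y : S', ∃ s : S, y - f s ∈ I.map (algebraMap R S') := by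
    intro y
    obtain ⟨s, hs⟩ := hsurj (Ideal.Quotient.mk _ y)
    refine ⟨s, ?_⟩
    rw [← Ideal.Quotient.eq]
    exact hs.symm
  haveI : Algebra.IsIntegral S S' := by
    constructor
    intro y
    obtain ⟨s, hs⟩ := hdec y
    have h1 : IsIntegral S (y - f s) := by
      obtain ⟨n, hn⟩ := hJ _ hs
      refine IsIntegral.of_pow (n := n + 1) (Nat.succ_pos n) ?_
      rw [pow_succ, hn, zero_mul]
      exact isIntegral_zero
    have h2 : IsIntegral S (f s) := isIntegral_algebraMap (x := s)
    have := h1.add h2
    rwa [sub_add_cancel] at this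
  haveI : Module.Finite S S' := Algebra.IsIntegral.finite
  have key : (⊤ : Submodule S S') ≤ LinearMap.range (Algebra.linearMap S S') := by
    refine Submodule.le_of_le_smul_of_le_jacobson_bot (I := I.map (algebraMap R S))
      Module.Finite.fg_top (map_le_jacobson I hI) ?_
    intro y _
    obtain ⟨s, hs⟩ := hdec y
    rw [Ideal.smul_top_eq_map, Ideal.map_map, ← IsScalarTower.algebraMap_eq]
    have : y = f s + (y - f s) := by ring
    rw [this]
    exact Submodule.add_mem_sup ⟨s, rfl⟩ hs
  intro y
  obtain ⟨s, hs⟩ := key (Submodule.mem_top : y ∈ ⊤)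
  exact ⟨s, hs⟩


theorem main (R S S' : Type u)
    [CommRing R] [CommRing S] [CommRing S'] [Algebra R S] [Algebra R S'] [Algebra.FiniteType R S]
    [Algebra.FinitePresentation R S'] [Module.Flat R S'] (I : Ideal R) (hI : ∀ x ∈ I, IsNilpotent x)
    (f : S →ₐ[R] S')
    (hsurj : Function.Surjective ((Ideal.Quotient.mk (I.map (algebraMap R S'))).comp f.toRingHom))
    (hker : ∀ s : S, f s ∈ I.map (algebraMap R S') → s ∈ I.map (algebraMap R S)) :
    Function.Bijective f := by
  have hs : Function.Surjective f := surj R S S' I hI f hsurj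
  refine ⟨?_, hs⟩
  -- kernel
  have hfg := ker_fg f hs
  have hinj := LinearMap.lTensor_injective_of_exact_of_flat f.toLinearMap hs
    (LinearMap.ker f.toLinearMap).subtype (Submodule.subtype_injective _)
    (LinearMap.exact_subtype_ker_map _) (R ⧸ I)
  -- every element of the kernel lies in IS * K
  have hK : RingHom.ker f.toRingHom ≤ I.map (algebraMap R S) • RingHom.ker f.toRingHom := by
    intro k hk
    have hk0 : f k = 0 := hk
    have hkI : k ∈ I.map (algebraMap R S) := hker k (by rw [hk0]; exact zero_mem _)
    let k' : LinearMap.ker f.toLinearMap := ⟨k, hk0⟩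
    -- 1 ⊗ k = 0 in (R/I) ⊗ S
    have h1 : ((1 : R ⧸ I) ⊗ₜ[R] k : (R ⧸ I) ⊗[R] S) = 0 := by
      have hk' : k ∈ (I • ⊤ : Submodule R S) := by
        rw [Ideal.smul_top_eq_map]; exact hkI
      refine Submodule.smul_induction_on hk' ?_ ?_
      · intro i hi s _
        have hz : i • (1 : R ⧸ I) = 0 := by
          rw [Algebra.smul_def, mul_one, Ideal.Quotient.algebraMap_eq,
            Ideal.Quotient.eq_zero_iff_mem]
          exact hi
        rw [TensorProduct.tmul_smul, TensorProduct.smul_tmul', hz, TensorProduct.zero_tmul]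
      · intro x y hx hy
        rw [TensorProduct.tmul_add, hx, hy, add_zero]
    have h2 : ((1 : R ⧸ I) ⊗ₜ[R] k' : (R ⧸ I) ⊗[R] LinearMap.ker f.toLinearMap) = 0 := by
      apply hinj
      rw [LinearMap.lTensor_tmul, map_zero]
      exact h1
    have h3 : k' ∈ (I • ⊤ : Submodule R (LinearMap.ker f.toLinearMap)) := by
      have := congrArg (TensorProduct.quotTensorEquivQuotSMul (LinearMap.ker f.toLinearMap) I) h2
      rw [map_zero, ← map_one (Ideal.Quotient.mk I)] at this
      rw [TensorProduct.quotTensorEquivQuotSMul_mk_tmul, one_smul] at this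
      exact (Submodule.Quotient.mk_eq_zero _).mp this
    have h4 : ∀ x : LinearMap.ker f.toLinearMap,
        x ∈ (I • ⊤ : Submodule R (LinearMap.ker f.toLinearMap)) →
        (x : S) ∈ I.map (algebraMap R S) • RingHom.ker f.toRingHom := by
      intro x hx
      refine Submodule.smul_induction_on hx ?_ ?_
      · intro i hi κ _
        change i • (κ : S) ∈ _
        have e : i • (κ : S) = algebraMap R S i * κ := Algebra.smul_def _ _
        rw [e]
        have hκ : (κ : S) ∈ RingHom.ker f.toRingHom := κ.2
        exact Ideal.mul_mem_mul (Ideal.mem_map_of_mem (algebraMap R S) hi) hκ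
      · intro x y hx hy
        exact Submodule.add_mem _ hx hy
    exact h4 k' h3
  have := Submodule.eq_bot_of_le_smul_of_le_jacobson_bot _ _ hfg hK (map_le_jacobson I hI)
  rw [injective_iff_map_eq_zero]
  intro a ha
  have : a ∈ RingHom.ker f.toRingHom := ha
  rw [‹RingHom.ker f.toRingHom = ⊥›] at this
  exact this

end Groth.Agent.Lib.Helper26.BijNil
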