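import Mathlib
import Groth.Prelude.Def_W4c6intromoduliQuartic

set_option maxHeartbeats 400000
set_option autoImplicit false

namespace Groth.Agent.Lib.Helper26.BinQuartic

open MvPolynomial W4c6intromoduli

universe u

variable {k : Type u} [Field k]

/-- the linear factor -/
noncomputable def lin (la mu : Fin 4 → k) (i : Fin 4) : MvPolynomial (Fin 2) k :=
  C (mu i) * X 0 - C (la i) * X 1

theorem binForm_eq (la mu : Fin 4 → k) : binForm la mu = ∏ i, lin la mu i := rfl

/-- proportional root points give proportional linear forms -/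
theorem lin_prop (la mu : Fin 4 → k) (i j : Fin 4) (h : la i * mu j = la j * mu i)
    (hi : la i ≠ 0 ∨ mu i ≠ 0) (hj : la j ≠ 0 ∨ mu j ≠ 0) :
    ∃ a : k, a ≠ 0 ∧ lin la mu j = C a * lin la mu i := by
  by_cases h0 : la i = 0
  · have hmi : mu i ≠ 0 := by
      rcases hi with hi | hi
      · exact absurd h0 hi
      · exact hi
    have hlj : la j = 0 := by
      rw [h0, zero_mul] at h
      rcases mul_eq_zero.mp h.symm with h' | h'
      · exact h'
      · exact absurd h' hmi
    have hmj : mu j ≠ 0 := by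
      rcases hj with hj | hj
      · exact absurd hlj hj
      · exact hj
    refine ⟨mu j / mu i, div_ne_zero hmj hmi, ?_⟩
    unfold lin
    rw [h0, hlj]
    have : mu j = mu j / mu i * mu i := by field_simp
    conv_lhs => rw [this]
    simp only [C_mul, C_0, zero_mul, sub_zero]
    ring
  · have ha : la j = la j / la i * la i := by field_simp
    have hb : mu j = la j / la i * mu i := by field_simp; linear_combination h
    have hne : la j / la i ≠ 0 := by
      intro h'
      rw [h'] at ha hb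
      rw [zero_mul] at ha hb
      rcases hj with hj | hj
      · exact hj ha
      · exact hj hb
    refine ⟨la j / la i, hne, ?_⟩
    unfold lin
    conv_lhs => rw [ha, hb]
    simp only [C_mul]
    ring

theorem subst_X (M : Matrix (Fin 2) (Fin 2) k) (i : Fin 2) :
    subst M (X i) = C (M i 0) * X 0 + C (M i 1) * X 1 := by
  simp [subst, Fin.sum_univ_two]

/-- two double zeros -/
theorem caseA (la mu : Fin 4 → k) (i j l m : Fin 4)
    (hprod : ∀ g : Fin 4 → MvPolynomial (Fin 2) k, ∏ x, g x = g i * g j * g l * g m)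
    (a b : k) (ha : a ≠ 0) (hb : b ≠ 0)
    (hj : lin la mu j = C a * lin la mu i) (hm : lin la mu m = C b * lin la mu l)
    (hil : la i * mu l - la l * mu i ≠ 0) :
    ∃ (M : Matrix (Fin 2) (Fin 2) k) (c : k), IsUnit M.det ∧ c ≠ 0 ∧
        binForm la mu = C c * subst M (X 0 ^ 2 * X 1 ^ 2) := by
  refine ⟨!![mu i, -la i; mu l, -la l], a * b, ?_, mul_ne_zero ha hb, ?_⟩
  · rw [Matrix.det_fin_two_of, isUnit_iff_ne_zero]
    intro h
    apply hil
    linear_combination h
  · rw [binForm_eq, hprod, hj, hm]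
    simp only [map_mul, map_pow, subst_X]
    unfold lin
    simp only [Matrix.of_apply, Matrix.cons_val', Matrix.cons_val_zero, Matrix.cons_val_one,
      Matrix.empty_val', Matrix.cons_val_fin_one, C_mul, C_neg]
    ring

/-- one double zero and two simple zeros -/
theorem caseB (la mu : Fin 4 → k) (i j l m : Fin 4)
    (hprod : ∀ g : Fin 4 → MvPolynomial (Fin 2) k, ∏ x, g x = g i * g j * g l * g m)
    (a : k) (ha : a ≠ 0)
    (hj : lin la mu j = C a * lin la mu i)
    (hli : la l * mu i - la i * mu l ≠ 0)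
    (hmi : la m * mu i - la i * mu m ≠ 0)
    (hlm : la l * mu m - la m * mu l ≠ 0) :
    ∃ (M : Matrix (Fin 2) (Fin 2) k) (c : k), IsUnit M.det ∧ c ≠ 0 ∧
        binForm la mu = C c * subst M (X 0 ^ 2 * X 1 * (X 0 - X 1)) := by
  have hE : (la l * mu m - la m * mu l) ^ 2 * (la m * mu i - la i * mu m) *
      (la l * mu i - la i * mu l) ≠ 0 :=
    mul_ne_zero (mul_ne_zero (pow_ne_zero 2 hlm) hmi) hli
  refine ⟨!![(la l * mu m - la m * mu l) * mu i, -((la l * mu m - la m * mu l) * la i);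
            -((la m * mu i - la i * mu m) * mu l), (la m * mu i - la i * mu m) * la l],
    -a / ((la l * mu m - la m * mu l) ^ 2 * (la m * mu i - la i * mu m) *
      (la l * mu i - la i * mu l)), ?_, div_ne_zero (neg_ne_zero.mpr ha) hE, ?_⟩
  · rw [Matrix.det_fin_two_of, isUnit_iff_ne_zero]
    intro h
    apply mul_ne_zero (mul_ne_zero hlm hmi) hli
    linear_combination h
  · have hcE : -a / ((la l * mu m - la m * mu l) ^ 2 * (la m * mu i - la i * mu m) *
        (la l * mu i - la i * mu l)) * ((la l * mu m - la m * mu l) ^ 2 *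
        (la m * mu i - la i * mu m) * (la l * mu i - la i * mu l)) = -a := by
      rw [div_mul_cancel₀ _ hE]
    have hC := congrArg (C : k → MvPolynomial (Fin 2) k) hcE
    generalize -a / ((la l * mu m - la m * mu l) ^ 2 * (la m * mu i - la i * mu m) *
        (la l * mu i - la i * mu l)) = c at hC ⊢
    rw [binForm_eq, hprod, hj]
    simp only [map_mul, map_pow, map_sub, subst_X]
    unfold lin
    simp only [Matrix.of_apply, Matrix.cons_val', Matrix.cons_val_zero, Matrix.cons_val_one,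
      Matrix.empty_val', Matrix.cons_val_fin_one, C_mul, C_neg, C_sub, C_pow] at hC ⊢
    linear_combination ((C (mu i) * X 0 - C (la i) * X 1) ^ 2 * (C (mu l) * X 0 - C (la l) * X 1) *
      (C (mu m) * X 0 - C (la m) * X 1)) * hC

theorem lin_zero (p q y0 y1 z0 z1 : k) (h1 : p * y0 + q * y1 = 0) (h2 : p * z0 + q * z1 = 0)
    (hd : y0 * z1 - y1 * z0 ≠ 0) : p = 0 ∧ q = 0 := by
  constructor
  · have : p * (y0 * z1 - y1 * z0) = 0 := by linear_combination z1 * h1 - y1 * h2
    rcases mul_eq_zero.mp this with h | h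
    · exact h
    · exact absurd h hd
  · have : q * (y0 * z1 - y1 * z0) = 0 := by linear_combination y0 * h2 - z0 * h1
    rcases mul_eq_zero.mp this with h | h
    · exact h
    · exact absurd h hd

theorem eval_key (M M' : Matrix (Fin 2) (Fin 2) k) (c c' : k)
    (h : C c * subst M (X 0 ^ 2 * X 1 * (X 0 - X 1)) = C c' * subst M' (X 0 ^ 2 * X 1 ^ 2))
    (x0 x1 : k) :
    c * ((M 0 0 * x0 + M 0 1 * x1) ^ 2 * (M 1 0 * x0 + M 1 1 * x1) *
        ((M 0 0 * x0 + M 0 1 * x1) - (M 1 0 * x0 + M 1 1 * x1))) =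
      c' * ((M' 0 0 * x0 + M' 0 1 * x1) ^ 2 * (M' 1 0 * x0 + M' 1 1 * x1) ^ 2) := by
  have := congrArg (eval ![x0, x1]) h
  simpa [subst_X] using this

theorem not_both (M M' : Matrix (Fin 2) (Fin 2) k) (c c' : k) (hM : IsUnit M.det)
    (hM' : IsUnit M'.det) (hc' : c' ≠ 0)
    (h : C c * subst M (X 0 ^ 2 * X 1 * (X 0 - X 1)) = C c' * subst M' (X 0 ^ 2 * X 1 ^ 2)) :
    False := by
  rw [Matrix.det_fin_two, isUnit_iff_ne_zero] at hM hM'
  have key := eval_key M M' c c' h
  -- a point on `L₀ = 0`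
  have k1 := key (M 0 1) (-M 0 0)
  have k2 := key (M 1 1) (-M 1 0)
  have k3 := key (M 0 1 - M 1 1) (-(M 0 0 - M 1 0))
  have z1 : M 0 0 * M 0 1 + M 0 1 * -M 0 0 = 0 := by ring
  have z2 : M 1 0 * M 1 1 + M 1 1 * -M 1 0 = 0 := by ring
  have z3 : (M 0 0 * (M 0 1 - M 1 1) + M 0 1 * -(M 0 0 - M 1 0)) -
      (M 1 0 * (M 0 1 - M 1 1) + M 1 1 * -(M 0 0 - M 1 0)) = 0 := by ring
  rw [z1] at k1
  rw [z2] at k2
  rw [z3] at k3
  simp only [ne_eq, OfNat.ofNat_ne_zero, not_false_eq_true, zero_pow, zero_mul, mul_zero] at k1 k2 k3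
  have n1 : (M' 0 0 * M 0 1 + M' 0 1 * -M 0 0) = 0 ∨ (M' 1 0 * M 0 1 + M' 1 1 * -M 0 0) = 0 := by
    have := k1.symm
    rcases mul_eq_zero.mp this with h' | h'
    · exact absurd h' hc'
    · rcases mul_eq_zero.mp h' with h'' | h''
      · exact Or.inl ((pow_eq_zero_iff (two_ne_zero)).mp h'')
      · exact Or.inr ((pow_eq_zero_iff (two_ne_zero)).mp h'')
  have n2 : (M' 0 0 * M 1 1 + M' 0 1 * -M 1 0) = 0 ∨ (M' 1 0 * M 1 1 + M' 1 1 * -M 1 0) = 0 := by
    have := k2.symm
    rcases mul_eq_zero.mp this with h' | h'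
    · exact absurd h' hc'
    · rcases mul_eq_zero.mp h' with h'' | h''
      · exact Or.inl ((pow_eq_zero_iff (two_ne_zero)).mp h'')
      · exact Or.inr ((pow_eq_zero_iff (two_ne_zero)).mp h'')
  have n3 : (M' 0 0 * (M 0 1 - M 1 1) + M' 0 1 * -(M 0 0 - M 1 0)) = 0 ∨
      (M' 1 0 * (M 0 1 - M 1 1) + M' 1 1 * -(M 0 0 - M 1 0)) = 0 := by
    have := k3.symm
    rcases mul_eq_zero.mp this with h' | h'
    · exact absurd h' hc'
    · rcases mul_eq_zero.mp h' with h'' | h''
      · exact Or.inl ((pow_eq_zero_iff (two_ne_zero)).mp h'')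
      · exact Or.inr ((pow_eq_zero_iff (two_ne_zero)).mp h'')
  have d12 : M 0 1 * -M 1 0 - -M 0 0 * M 1 1 ≠ 0 := by
    intro h'; apply hM; linear_combination h'
  have d13 : M 0 1 * -(M 0 0 - M 1 0) - -M 0 0 * (M 0 1 - M 1 1) ≠ 0 := by
    intro h'; apply hM; linear_combination -h'
  have d23 : M 1 1 * -(M 0 0 - M 1 0) - -M 1 0 * (M 0 1 - M 1 1) ≠ 0 := by
    intro h'; apply hM; linear_combination -h'
  have row0 : ¬ (M' 0 0 = 0 ∧ M' 0 1 = 0) := by
    rintro ⟨ha, hb⟩; apply hM'; rw [ha, hb]; ring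
  have row1 : ¬ (M' 1 0 = 0 ∧ M' 1 1 = 0) := by
    rintro ⟨ha, hb⟩; apply hM'; rw [ha, hb]; ring
  rcases n1 with a1 | a1 <;> rcases n2 with a2 | a2 <;> rcases n3 with a3 | a3
  · exact row0 (lin_zero _ _ _ _ _ _ a1 a2 d12)
  · exact row0 (lin_zero _ _ _ _ _ _ a1 a2 d12)
  · exact row0 (lin_zero _ _ _ _ _ _ a1 a3 d13)
  · exact row1 (lin_zero _ _ _ _ _ _ a2 a3 d23)
  · exact row0 (lin_zero _ _ _ _ _ _ a2 a3 d23)
  · exact row1 (lin_zero _ _ _ _ _ _ a1 a3 d13)
  · exact row1 (lin_zero _ _ _ _ _ _ a1 a2 d12)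
  · exact row1 (lin_zero _ _ _ _ _ _ a1 a2 d12)

theorem core (la mu : Fin 4 → k) (hne : ∀ i, la i ≠ 0 ∨ mu i ≠ 0)
    (h3z : ∀ i j l : Fin 4, i ≠ j → j ≠ l → i ≠ l →
      ¬ (la i * mu j = la j * mu i ∧ la j * mu l = la l * mu j))
    (i j l m : Fin 4)
    (hprod : ∀ g : Fin 4 → MvPolynomial (Fin 2) k, ∏ x, g x = g i * g j * g l * g m)
    (hij : i ≠ j) (hil : i ≠ l) (him : i ≠ m) (hjl : j ≠ l) (hjm : j ≠ m)
    (hD : la j * mu i - la i * mu j = 0) :
    (∃ (M : Matrix (Fin 2) (Fin 2) k) (c : k), IsUnit M.det ∧ c ≠ 0 ∧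
        binForm la mu = C c * subst M (X 0 ^ 2 * X 1 * (X 0 - X 1))) ∨
    (∃ (M : Matrix (Fin 2) (Fin 2) k) (c : k), IsUnit M.det ∧ c ≠ 0 ∧
        binForm la mu = C c * subst M (X 0 ^ 2 * X 1 ^ 2)) := by
  have hpij : la i * mu j = la j * mu i := by linear_combination -hD
  obtain ⟨a, ha, hj⟩ := lin_prop la mu i j hpij (hne i) (hne j)
  have hli : la l * mu i - la i * mu l ≠ 0 := by
    intro h
    exact h3z j i l hij.symm hil hjl ⟨hpij.symm, by linear_combination -h⟩
  have hmi : la m * mu i - la i * mu m ≠ 0 := by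
    intro h
    exact h3z j i m hij.symm him hjm ⟨hpij.symm, by linear_combination -h⟩
  by_cases hlm0 : la l * mu m - la m * mu l = 0
  · right
    obtain ⟨b, hb, hm⟩ := lin_prop la mu l m (by linear_combination hlm0) (hne l) (hne m)
    exact caseA la mu i j l m hprod a b ha hb hj hm
      (by intro h; apply hli; linear_combination -h)
  · left
    exact caseB la mu i j l m hprod a ha hj hli hmi hlm0

theorem main (k : Type u) [Field k] (la mu : Fin 4 → k)
    (hne : ∀ i, la i ≠ 0 ∨ mu i ≠ 0) (hd : W4c6intromoduli.disc la mu = 0)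
    (h3z : ∀ i j l : Fin 4, i ≠ j → j ≠ l → i ≠ l →
      ¬ (la i * mu j = la j * mu i ∧ la j * mu l = la l * mu j)) :
    Xor
      (∃ (M : Matrix (Fin 2) (Fin 2) k) (c : k), IsUnit M.det ∧ c ≠ 0 ∧
        W4c6intromoduli.binForm la mu =
          MvPolynomial.C c * W4c6intromoduli.subst M
            (MvPolynomial.X 0 ^ 2 * MvPolynomial.X 1 * (MvPolynomial.X 0 - MvPolynomial.X 1)))
      (∃ (M : Matrix (Fin 2) (Fin 2) k) (c : k), IsUnit M.det ∧ c ≠ 0 ∧
        W4c6intromoduli.binForm la mu =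
          MvPolynomial.C c * W4c6intromoduli.subst M
            (MvPolynomial.X 0 ^ 2 * MvPolynomial.X 1 ^ 2)) := by
  have hex : (∃ (M : Matrix (Fin 2) (Fin 2) k) (c : k), IsUnit M.det ∧ c ≠ 0 ∧
        binForm la mu = C c * subst M (X 0 ^ 2 * X 1 * (X 0 - X 1))) ∨
    (∃ (M : Matrix (Fin 2) (Fin 2) k) (c : k), IsUnit M.det ∧ c ≠ 0 ∧
        binForm la mu = C c * subst M (X 0 ^ 2 * X 1 ^ 2)) := by
    unfold W4c6intromoduli.disc at hd
    rw [Finset.prod_eq_zero_iff] at hd
    obtain ⟨⟨i, j⟩, hp, h0⟩ := hd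
    rw [Finset.mem_filter] at hp
    have hlt : i < j := hp.2
    have hD : la j * mu i - la i * mu j = 0 := by
      have := (pow_eq_zero_iff (two_ne_zero)).mp h0
      exact this
    fin_cases i <;> fin_cases j
    all_goals first
      | (exfalso; revert hlt; decide)
      | exact core la mu hne h3z 0 1 2 3 (by intro g; rw [Fin.prod_univ_four])
          (by decide) (by decide) (by decide) (by decide) (by decide) hD
      | exact core la mu hne h3z 0 2 1 3 (by intro g; rw [Fin.prod_univ_four]; ring)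
          (by decide) (by decide) (by decide) (by decide) (by decide) hD
      | exact core la mu hne h3z 0 3 1 2 (by intro g; rw [Fin.prod_univ_four]; ring)
          (by decide) (by decide) (by decide) (by decide) (by decide) hD
      | exact core la mu hne h3z 1 2 0 3 (by intro g; rw [Fin.prod_univ_four]; ring)
          (by decide) (by decide) (by decide) (by decide) (by decide) hD
      | exact core la mu hne h3z 1 3 0 2 (by intro g; rw [Fin.prod_univ_four]; ring)
          (by decide) (by decide) (by decide) (by decide) (by decide) hD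
      | exact core la mu hne h3z 2 3 0 1 (by intro g; rw [Fin.prod_univ_four]; ring)
          (by decide) (by decide) (by decide) (by decide) (by decide) hD
  rcases hex with hA | hB
  · refine Or.inl ⟨hA, ?_⟩
    rintro ⟨M', c', hM', hc', hB⟩
    obtain ⟨M, c, hM, hc, hA'⟩ := hA
    exact not_both M M' c c' hM hM' hc' (hA'.symm.trans hB)
  · refine Or.inr ⟨hB, ?_⟩
    rintro ⟨M, c, hM, hc, hA⟩
    obtain ⟨M', c', hM', hc', hB'⟩ := hB
    exact not_both M M' c c' hM hM' hc' (hA.symm.trans hB')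

end Groth.Agent.Lib.Helper26.BinQuartic
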