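import Mathlib

/-!
`(x+y)^(p^a)` lies in `ℤ[x^(p^n), p^n x, y^(p^m), p^m y]` for `a ≫ 0`.
-/

set_option autoImplicit false

namespace Groth.Agent.Lib.Helper26.BinomAdjoin

variable {R : Type*} [CommRing R] (S : Subalgebra ℤ R) (p n : ℕ)

lemma pow_mul_pow_mem {x : R} (hp : 0 < p) (h1 : x ^ (p ^ n) ∈ S) (h2 : (p : R) ^ n * x ∈ S)
    (i : ℕ) : (p : R) ^ (n * p ^ n) * x ^ i ∈ S := by
  have hpn : 0 < p ^ n := pow_pos hp n
  have hr : i % p ^ n < p ^ n := Nat.mod_lt _ hpn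
  have e1 : x ^ i = (x ^ (p ^ n)) ^ (i / p ^ n) * x ^ (i % p ^ n) := by
    rw [← pow_mul, ← pow_add, Nat.div_add_mod]
  have e2 : (p : R) ^ (n * p ^ n) = (p : R) ^ (n * (p ^ n - i % p ^ n)) * ((p : R) ^ n) ^ (i % p ^ n) := by
    rw [← pow_mul, ← pow_add, ← Nat.mul_add, Nat.sub_add_cancel hr.le]
  have e3 : (p : R) ^ (n * p ^ n) * x ^ i = (p : R) ^ (n * (p ^ n - i % p ^ n)) *
      (((p : R) ^ n * x) ^ (i % p ^ n) * (x ^ (p ^ n)) ^ (i / p ^ n)) := by
    rw [e1, e2, mul_pow]; ring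
  rw [e3]
  exact S.mul_mem (S.pow_mem (S.natCast_mem p) _) (S.mul_mem (S.pow_mem h2 _) (S.pow_mem h1 _))

lemma pow_mem_of_dvd {x : R} (h1 : x ^ (p ^ n) ∈ S) {i : ℕ} (hi : p ^ n ∣ i) : x ^ i ∈ S := by
  obtain ⟨q, rfl⟩ := hi
  rw [pow_mul]
  exact S.pow_mem h1 _

theorem main (hp : p.Prime) (m : ℕ) {x y : R}
    (hx1 : x ^ (p ^ n) ∈ S) (hx2 : (p : R) ^ n * x ∈ S)
    (hy1 : y ^ (p ^ m) ∈ S) (hy2 : (p : R) ^ m * y ∈ S) :
    ∃ a : ℕ, (x + y) ^ (p ^ a) ∈ S ∧ (p : R) ^ a * (x + y) ∈ S := by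
  set L := n * p ^ n + m * p ^ m with hL
  set e := max n m with he
  refine ⟨L + e, ?_, ?_⟩
  · rw [add_pow]
    refine S.sum_mem fun k hk => ?_
    have hk' : k ≤ p ^ (L + e) := Nat.lt_succ_iff.1 (Finset.mem_range.1 hk)
    by_cases hdiv : p ^ e ∣ k
    · have hn : p ^ n ∣ k := (pow_dvd_pow p (le_max_left n m)).trans hdiv
      have hm : p ^ m ∣ k := (pow_dvd_pow p (le_max_right n m)).trans hdiv
      have hm' : p ^ m ∣ p ^ (L + e) - k :=
        Nat.dvd_sub (pow_dvd_pow p ((le_max_right n m).trans (Nat.le_add_left _ _))) hm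
      exact S.mul_mem (S.mul_mem (pow_mem_of_dvd S p n hx1 hn) (pow_mem_of_dvd S p m hy1 hm'))
        (S.natCast_mem _)
    · have hk0 : k ≠ 0 := by rintro rfl; exact hdiv (dvd_zero _)
      have hv : k.factorization p < e := by
        by_contra h
        exact hdiv ((hp.pow_dvd_iff_le_factorization hk0).2 (not_lt.1 h))
      have hC := Nat.factorization_choose_prime_pow hp hk' hk0
      have hC0 : (p ^ (L + e)).choose k ≠ 0 := (Nat.choose_pos hk').ne'
      have hdvd : p ^ L ∣ (p ^ (L + e)).choose k := by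
        rw [hp.pow_dvd_iff_le_factorization hC0, hC]
        omega
      obtain ⟨c, hc⟩ := hdvd
      have e1 : x ^ k * y ^ (p ^ (L + e) - k) * (((p ^ (L + e)).choose k : ℕ) : R)
          = ((p : R) ^ (n * p ^ n) * x ^ k) * ((p : R) ^ (m * p ^ m) * y ^ (p ^ (L + e) - k))
            * (c : R) := by
        rw [hc, hL]; push_cast; ring
      rw [e1]
      exact S.mul_mem (S.mul_mem (pow_mul_pow_mem S p n hp.pos hx1 hx2 _)
        (pow_mul_pow_mem S p m hp.pos hy1 hy2 _)) (S.natCast_mem _)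
  · have hn : n ≤ L + e := (le_max_left n m).trans (Nat.le_add_left _ _)
    have hm : m ≤ L + e := (le_max_right n m).trans (Nat.le_add_left _ _)
    have e1 : (p : R) ^ (L + e) * (x + y) = (p : R) ^ (L + e - n) * ((p : R) ^ n * x)
        + (p : R) ^ (L + e - m) * ((p : R) ^ m * y) := by
      rw [← mul_assoc, ← mul_assoc, ← pow_add, ← pow_add, Nat.sub_add_cancel hn,
        Nat.sub_add_cancel hm, mul_add]
    rw [e1]
    exact S.add_mem (S.mul_mem (S.pow_mem (S.natCast_mem p) _) hx2)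
      (S.mul_mem (S.pow_mem (S.natCast_mem p) _) hy2)

end Groth.Agent.Lib.Helper26.BinomAdjoin
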