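import Mathlib
import Groth.Agent.Lib.Helper26.KInjMain

set_option maxHeartbeats 400000

universe w w' v v' u u'

open CategoryTheory CategoryTheory.Limits MorphismProperty
open Groth.Agent.Lib.Helper26.KInjStab Groth.Agent.Lib.Helper26.KInjSet

namespace Groth.Agent.Lib.Helper26.KInjDS

section Fibrant

variable {A : Type u} [Category.{v} A] [Abelian A]

open ZeroObject in
/-- objects with the right lifting property against trivial cofibrations are K-injective
with injective terms -/
lemma isKInjective_of_rlp {I : CochainComplex A ℤ} (p : I ⟶ 0) (hp : (TC A).rlp p) :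
    I.IsKInjective ∧ ∀ n, Injective (I.X n) := by
  have hL : ∀ (S : ShortComplex (CochainComplex A ℤ)), S.ShortExact → S.X₃.Acyclic →
      ∀ φ : S.X₁ ⟶ I, ∃ ψ : S.X₂ ⟶ I, S.f ≫ ψ = φ := by
    intro S hS h3 φ
    have hSf : TC A S.f := (tc_iff _).2 ⟨hS.mono_f, quasiIso_f_of_acyclic hS h3⟩
    have hl : HasLiftingProperty S.f p := hp _ hSf
    have sq : CommSq φ S.f p (0 : S.X₂ ⟶ 0) := ⟨(isZero_zero _).eq_of_tgt _ _⟩
    exact ⟨sq.lift, sq.fac_left⟩
  exact ⟨Groth.Agent.Lib.Helper8.KInjLift.isKInjective _ hL,
    fun n => Groth.Agent.Lib.Helper8.KInjLift.injective_X _ hL n⟩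

end Fibrant

section Functorial

variable {C : Type*} [Category C] [HasZeroObject C] [HasZeroMorphisms C]

open ZeroObject in
/-- the functor sending `M` to the arrow `M ⟶ 0` -/
@[simps]
noncomputable def toZero : C ⥤ Arrow C where
  obj M := Arrow.mk (0 : M ⟶ 0)
  map f := Arrow.homMk f (𝟙 0) (by simp)

end Functorial

section Resolution

variable (A : Type u) [Category.{v} A] [Abelian A] [IsGrothendieckAbelian.{v} A]

/-- the functorial factorization given by the small object argument -/
noncomputable def data : FunctorialFactorizationData (J (bigP A)).rlp.llp (J (bigP A)).rlp :=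
  functorialFactorizationData _ _

/-- the functorial K-injective resolution functor -/
noncomputable def ρ₀ : CochainComplex A ℤ ⥤ CochainComplex A ℤ := toZero ⋙ (data A).Z

/-- the natural map to the functorial K-injective resolution -/
noncomputable def i₀ : 𝟭 (CochainComplex A ℤ) ⟶ ρ₀ A where
  app M := (data A).i.app (toZero.obj M)
  naturality M N f := (data A).i.naturality (toZero.map f)

variable {A}

lemma tc_i₀ (M : CochainComplex A ℤ) : TC A ((i₀ A).app M) :=
  Groth.Agent.Lib.Helper26.KInjMain.llp_rlp_J_le _ _ ((data A).hi _)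

instance (M : CochainComplex A ℤ) : QuasiIso ((i₀ A).app M) := ((tc_iff _).1 (tc_i₀ M)).2

instance (M : CochainComplex A ℤ) : Mono ((i₀ A).app M) := ((tc_iff _).1 (tc_i₀ M)).1

open ZeroObject in
lemma ρ₀_spec (M : CochainComplex A ℤ) :
    ((ρ₀ A).obj M).IsKInjective ∧ ∀ n, Injective (((ρ₀ A).obj M).X n) := by
  have hp : (TC A).rlp ((data A).p.app (toZero.obj M)) := rlp_J_le _ ((data A).hp _)
  exact isKInjective_of_rlp ((data A).p.app (toZero.obj M)) hp

instance (M : CochainComplex A ℤ) : ((ρ₀ A).obj M).IsKInjective := (ρ₀_spec M).1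

instance (M : CochainComplex A ℤ) (n : ℤ) : Injective (((ρ₀ A).obj M).X n) := (ρ₀_spec M).2 n

end Resolution

section DS

variable (B : Type u) [Category.{v} B] [Abelian B]

/-- K-injective complexes -/
def kinj : ObjectProperty (CochainComplex B ℤ) := fun I => I.IsKInjective

/-- quasi-isomorphisms between K-injective complexes -/
def W₁ : MorphismProperty (kinj B).FullSubcategory :=
  (HomologicalComplex.quasiIso B (ComplexShape.up ℤ)).inverseImage (kinj B).ι

/-- the inclusion of K-injective complexes, as a localizer morphism -/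
def Φ : LocalizerMorphism (W₁ B) (HomologicalComplex.quasiIso B (ComplexShape.up ℤ)) where
  functor := (kinj B).ι
  map := le_rfl

instance : (Φ B).functor.Full := by dsimp [Φ]; infer_instance
instance : (Φ B).functor.Faithful := by dsimp [Φ]; infer_instance

variable {B}

/-- any functor of the form `G` termwise then a functor inverting quasi-isomorphisms is
"derived" by the K-injective complexes -/
lemma derives {A : Type u'} [Category.{v'} A] [Abelian A] (G : B ⥤ A) [G.Additive]
    {H : Type*} [Category H] (L : CochainComplex A ℤ ⥤ H)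
    (hL : (HomologicalComplex.quasiIso A (ComplexShape.up ℤ)).IsInvertedBy L) :
    (Φ B).Derives (G.mapHomologicalComplex (ComplexShape.up ℤ) ⋙ L) := by
  intro I I' f hf
  have : I.obj.IsKInjective := I.property
  have : I'.obj.IsKInjective := I'.property
  have hf' : QuasiIso f.hom := (HomologicalComplex.mem_quasiIso_iff _).1 hf
  obtain ⟨e, he⟩ := (CochainComplex.IsKInjective.quasiIso_iff f.hom).1 hf'
  apply hL
  apply homotopyEquivalences_le_quasiIso
  refine ⟨G.mapHomotopyEquiv e, ?_⟩
  change (G.mapHomologicalComplex (ComplexShape.up ℤ)).map e.hom = _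
  rw [he]
  rfl

variable [IsGrothendieckAbelian.{v} B]

/-- the resolution functor with values in K-injective complexes -/
noncomputable def ρ : CochainComplex B ℤ ⥤ (kinj B).FullSubcategory :=
  (kinj B).lift (ρ₀ B) (fun M => (ρ₀_spec M).1)

/-- the natural transformation to the resolution -/
noncomputable def i : 𝟭 (CochainComplex B ℤ) ⟶ ρ ⋙ (Φ B).functor := i₀ B

instance isRightDerivabilityStructure : (Φ B).IsRightDerivabilityStructure :=
  (Φ B).isRightDerivabilityStructure_of_functorial_resolutions i
    (fun M => (HomologicalComplex.mem_quasiIso_iff _).2 (inferInstanceAs (QuasiIso ((i₀ B).app M))))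
    rfl

end DS

end Groth.Agent.Lib.Helper26.KInjDS
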