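import Mathlib
import Groth.Agent.Lib.Helper26.KInjDS

set_option maxHeartbeats 400000

universe w w' v v' u u'

open CategoryTheory CategoryTheory.Limits

namespace Groth.Agent.Lib.Helper26.BrownD1

variable (B : Type u) [Category.{v} B] [Abelian B] [IsGrothendieckAbelian.{v} B]

open Groth.Agent.Lib.Helper26.KInjDS DerivedCategory

attribute [local instance] HasDerivedCategory.standard in
/-- the (standard) derived category of a Grothendieck abelian category is locally small -/
lemma locallySmall_standard : LocallySmall.{v} (DerivedCategory B) := by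
  constructor
  intro X Y
  let K := Q.objPreimage X
  let L := Q.objPreimage Y
  let eX : Q.obj K ≅ X := Q.objObjPreimageIso X
  let eY : Q.obj L ≅ Y := Q.objObjPreimageIso Y
  let I := (ρ₀ B).obj L
  let s : L ⟶ I := (i₀ B).app L
  have hs : QuasiIso s := inferInstance
  have : IsIso (Q.map s) := inferInstance
  let eY' : Q.obj I ≅ Y := (asIso (Q.map s)).symm ≪≫ eY
  -- surjection from chain maps
  let φ : (K ⟶ I) → (X ⟶ Y) := fun f => eX.inv ≫ Q.map f ≫ eY'.hom
  have hφ : Function.Surjective φ := by
    intro g
    let g' : Q.obj K ⟶ Q.obj I := eX.hom ≫ g ≫ eY'.inv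
    let g'' : Qh.obj ((HomotopyCategory.quotient _ _).obj K) ⟶
        Qh.obj ((HomotopyCategory.quotient _ _).obj I) :=
      (quotientCompQhIso B).hom.app K ≫ g' ≫ (quotientCompQhIso B).inv.app I
    obtain ⟨h, hh⟩ := (CochainComplex.IsKInjective.Qh_map_bijective
      ((HomotopyCategory.quotient _ _).obj K) I).2 g''
    obtain ⟨f, rfl⟩ := (HomotopyCategory.quotient _ _).map_surjective h
    refine ⟨f, ?_⟩
    have h1 : Q.map f = (quotientCompQhIso B).inv.app K ≫ g'' ≫ (quotientCompQhIso B).hom.app I := by
      rw [← hh, quotientCompQhIso_hom_naturality, Iso.inv_hom_id_app_assoc]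
    dsimp only [φ]
    rw [h1]
    simp [g'', g']
  exact small_of_surjective hφ

/-- a derived category with small morphism types, for a Grothendieck abelian category -/
noncomputable def hasDerivedCategory : HasDerivedCategory.{v} B :=
  letI := HasDerivedCategory.standard B
  haveI := locallySmall_standard B
  MorphismProperty.hasLocalizationOfLocallySmall.{v} _ (DerivedCategory.Q (C := B))

end Groth.Agent.Lib.Helper26.BrownD1
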