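import Mathlib
import Groth.Prelude.Def_CohDer
import Groth.Agent.Lib.Helper1.DCompactSingle
import Groth.Agent.Lib.Helper8.DCoprod2

set_option maxHeartbeats 400000

universe w w' v v' u u'

open CategoryTheory CategoryTheory.Limits CategoryTheory.Pretriangulated DerivedCategory

namespace Groth.Agent.Lib.Helper26.BrownD2

open Groth.Agent.Lib.Helper8.DSingleHom Groth.Agent.Lib.Helper1.DCompactSingle

variable {R : Type v} [Ring R]

/-- elements of a coproduct of modules have finite support -/
lemma moduleCat_finite_support {J : Type v} {Y : J → ModuleCat.{v} R} (c : Cofan Y)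
    (hc : IsColimit c) (x : c.pt) :
    ∃ (S : Finset J) (y : ∀ j, Y j), x = ∑ j ∈ S, (c.inj j).hom (y j) := by
  classical
  let e : c.pt ≅ ModuleCat.of R (DirectSum J (fun j => Y j)) :=
    hc.coconePointUniqueUpToIso (ModuleCat.coproductCoconeIsColimit Y)
  let x' : DirectSum J (fun j => Y j) := e.hom.hom x
  refine ⟨DFinsupp.support x', fun j => x' j, ?_⟩
  have h1 : x = e.inv.hom x' := by
    have := congrArg (fun f => f.hom x) e.hom_inv_id
    exact this.symm
  have h3 : ∀ j, (ModuleCat.coproductCocone Y).inj j ≫ e.inv = c.inj j := fun j =>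
    IsColimit.comp_coconePointUniqueUpToIso_inv hc (ModuleCat.coproductCoconeIsColimit Y) ⟨j⟩
  conv_lhs => rw [h1, ← DirectSum.sum_support_of x', map_sum]
  refine Finset.sum_congr rfl (fun j _ => ?_)
  rw [← h3 j]
  rfl

/-- maps out of `R` are determined by the image of `1` -/
lemma hom_ext_one {N : ModuleCat.{v} R} (t t' : ModuleCat.of R R ⟶ N)
    (h : t.hom (1 : R) = t'.hom (1 : R)) : t = t' := by
  ext
  simpa using h

variable [HasDerivedCategory.{v} (ModuleCat.{v} R)]

lemma hasCoproducts : HasCoproducts.{v} (DerivedCategory (ModuleCat.{v} R)) :=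
  Groth.Agent.Lib.Helper8.DCoprod.hasCoproducts

attribute [local instance] hasCoproducts

instance : Projective (ModuleCat.of R R) :=
  ModuleCat.projective_of_free (Module.Free.chooseBasis R R)

theorem isCompactObject_unit :
    CohDer.IsCompactObject (Q.obj (sg (ModuleCat.of R R)) : DerivedCategory (ModuleCat.{v} R)) := by
  apply isCompactObject_of_projective
  intro κ Y c hc g
  obtain ⟨S, y, hy⟩ := moduleCat_finite_support c hc (g.hom (1 : R))
  refine ⟨S, fun j => ModuleCat.ofHom (LinearMap.toSpanSingleton R (Y j) (y j)), ?_⟩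
  apply hom_ext_one
  rw [hy]
  simp

lemma isZero_of_hom_eq_zero (N : ModuleCat.{v} R) (h : ∀ t : ModuleCat.of R R ⟶ N, t = 0) :
    IsZero N := by
  rw [ModuleCat.isZero_iff_subsingleton]
  refine ⟨fun x y => ?_⟩
  have hx := congrArg (fun f => f.hom (1 : R)) (h (ModuleCat.ofHom (LinearMap.toSpanSingleton R N x)))
  have hy := congrArg (fun f => f.hom (1 : R)) (h (ModuleCat.ofHom (LinearMap.toSpanSingleton R N y)))
  simp at hx hy
  rw [hx, hy]

theorem generates_unit :
    CohDer.Generates (fun _ : PUnit.{v+1} =>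
      (Q.obj (sg (ModuleCat.of R R)) : DerivedCategory (ModuleCat.{v} R))) := by
  intro K hK
  have hH : ∀ n : ℤ, IsZero ((homologyFunctor (ModuleCat.{v} R) n).obj K) := by
    intro n
    have e : (homologyFunctor (ModuleCat.{v} R) 0).obj (K⟦n⟧) ≅
        (homologyFunctor (ModuleCat.{v} R) n).obj K :=
      ((homologyFunctor (ModuleCat.{v} R) 0).shiftIso n 0 n (by simp)).app K
    refine IsZero.of_iso ?_ e.symm
    apply isZero_of_hom_eq_zero
    intro t
    obtain ⟨φ, rfl⟩ := θ_surjective (ModuleCat.of R R) (K⟦n⟧) t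
    rw [hK PUnit.unit n φ, θ_zero]
  have : IsIso (0 : K ⟶ K) := by
    rw [DerivedCategory.isIso_iff]
    intro n
    exact ⟨0, (hH n).eq_of_src _ _, (hH n).eq_of_src _ _⟩
  rw [IsZero.iff_id_eq_zero]
  rw [← IsIso.hom_inv_id (0 : K ⟶ K), zero_comp]

end Groth.Agent.Lib.Helper26.BrownD2
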