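import Mathlib

set_option maxHeartbeats 400000

universe w w' v v' u u'

open CategoryTheory CategoryTheory.Limits Opposite

namespace Groth.Agent.Lib.Helper26.BrownD3

variable {D : Type u} [Category.{v} D] {D' : Type u'} [Category.{v'} D']
  {L : D ⥤ D'} {R : D' ⥤ D} (adj : L ⊣ R) [IsIso adj.counit]

include adj in
/-- representability descends along a (co)reflective localization -/
theorem isRepresentable_of_comp (P : D'ᵒᵖ ⥤ Type w) (h : (L.op ⋙ P).IsRepresentable) :
    P.IsRepresentable := by
  obtain ⟨Y, ⟨e⟩⟩ := h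
  let u : P.obj (op (L.obj Y)) := e.homEquiv (𝟙 Y)
  have he : ∀ {N : D} (f : N ⟶ Y), e.homEquiv f = P.map (L.map f).op u := by
    intro N f
    have := e.homEquiv_comp f (𝟙 Y)
    rw [Category.comp_id] at this
    exact this
  have hP : ∀ {A B C : D'} (f : A ⟶ B) (g : B ⟶ C) (x : P.obj (op C)),
      P.map f.op (P.map g.op x) = P.map (f ≫ g).op x := by
    intro A B C f g x
    rw [op_comp, P.map_comp]
    rfl
  have hP1 : ∀ {A : D'} (x : P.obj (op A)), P.map (𝟙 A).op x = x := by
    intro A x
    rw [op_id, P.map_id]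
    rfl
  have tri : L.map (adj.unit.app Y) ≫ adj.counit.app (L.obj Y) = 𝟙 (L.obj Y) :=
    adj.left_triangle_components Y
  -- the retraction `h`
  let h : R.obj (L.obj Y) ⟶ Y := e.homEquiv.symm (P.map (adj.counit.app (L.obj Y)).op u)
  have hh : P.map (L.map h).op u = P.map (adj.counit.app (L.obj Y)).op u := by
    rw [← he]
    exact e.homEquiv.apply_symm_apply _
  have h1 : adj.unit.app Y ≫ h = 𝟙 Y := by
    apply e.homEquiv.injective
    rw [he, he, L.map_comp, ← hP, hh, hP, tri]
    have hid : L.map (𝟙 Y) = 𝟙 (L.obj Y) := L.map_id Y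
    exact (congrArg (fun t => P.map t.op u) hid).symm
  have h2 : L.map h = adj.counit.app (L.obj Y) := by
    have h3 : L.map (adj.unit.app Y) ≫ L.map h = 𝟙 (L.obj Y) := by
      rw [← L.map_comp]
      exact (congrArg L.map h1).trans (L.map_id Y)
    have : IsIso (L.map (adj.unit.app Y)) := by
      have : L.map (adj.unit.app Y) = inv (adj.counit.app (L.obj Y)) := by
        rw [← cancel_mono (adj.counit.app (L.obj Y)), tri, IsIso.inv_hom_id]
        rfl
      rw [this]; infer_instance
    rw [← cancel_epi (L.map (adj.unit.app Y)), h3, tri]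
  have nat : ∀ {X : D'} (g : X ⟶ L.obj Y),
      adj.counit.app X ≫ g = L.map (R.map g) ≫ adj.counit.app (L.obj Y) :=
    fun g => (adj.counit_naturality g).symm
  refine ⟨L.obj Y, ⟨{
    homEquiv := fun {X} =>
      { toFun := fun g => P.map g.op u
        invFun := fun p => inv (adj.counit.app X) ≫
          L.map (e.homEquiv.symm (P.map (adj.counit.app X).op p))
        left_inv := ?_
        right_inv := ?_ }
    homEquiv_comp := ?_ }⟩⟩
  · intro g
    have h5 : e.homEquiv.symm (P.map (adj.counit.app X).op (P.map g.op u)) = R.map g ≫ h := by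
      apply e.homEquiv.injective
      rw [Equiv.apply_symm_apply, he, L.map_comp, ← hP, hh, hP, hP, nat]
    dsimp only
    rw [h5, L.map_comp, h2, ← nat, IsIso.inv_hom_id_assoc]
  · intro p
    dsimp only
    rw [← hP, ← he, Equiv.apply_symm_apply, hP, IsIso.inv_hom_id, hP1]
  · intro X X' f g
    exact (hP f g u).symm

end Groth.Agent.Lib.Helper26.BrownD3
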