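import Mathlib
import Groth.Prelude.Def_CohDer
import Groth.Agent.Lib.Helper26.KInjAdjH
import Groth.Agent.Lib.Helper8.Brown.Adj
import Groth.Agent.Lib.Helper26.BrownD1
import Groth.Agent.Lib.Helper26.BrownD2
import Groth.Agent.Lib.Helper26.BrownD3

set_option maxHeartbeats 400000
set_option linter.style.haveILetI false

universe w w' v v' u u'

open CategoryTheory CategoryTheory.Limits CategoryTheory.Pretriangulated Opposite
open CategoryTheory.Pretriangulated.Opposite

namespace Groth.Agent.Lib.Helper26.BrownD4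

open Groth.Agent.Lib.Helper26

theorem main {A : Type u} [Category.{v} A] [Abelian A]
    [IsGrothendieckAbelian.{v} A] [HasDerivedCategory.{v} A]
    (H : (DerivedCategory A)ᵒᵖ ⥤ AddCommGrpCat.{v}) [H.IsHomological]
    [∀ (ι : Type v), PreservesLimitsOfShape (Discrete ι) H] :
    (H ⋙ forget AddCommGrpCat.{v}).IsRepresentable := by
  let U : A := separator A
  have hU : IsSeparator U := isSeparator_separator A
  letI : HasDerivedCategory.{v} (ModuleCat.{v} (End U)ᵐᵒᵖ) :=
    BrownD1.hasDerivedCategory (ModuleCat.{v} (End U)ᵐᵒᵖ)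
  letI : HasCoproducts.{v} (DerivedCategory (ModuleCat.{v} (End U)ᵐᵒᵖ)) := BrownD2.hasCoproducts
  have hD : CohDer.IsCompactlyGenerated (DerivedCategory (ModuleCat.{v} (End U)ᵐᵒᵖ)) :=
    ⟨PUnit.{v+1}, _, fun _ => BrownD2.isCompactObject_unit, BrownD2.generates_unit⟩
  haveI : PreservesFiniteLimits (IsGrothendieckAbelian.tensorObj U) :=
    IsGrothendieckAbelian.GabrielPopescu.preservesFiniteLimits U hU
  haveI : (IsGrothendieckAbelian.tensorObj U).Additive :=
    (IsGrothendieckAbelian.tensorObjPreadditiveCoyonedaObjAdjunction U).left_adjoint_additive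
  haveI : PreservesFiniteColimits (IsGrothendieckAbelian.tensorObj U) := inferInstance
  haveI : (preadditiveCoyonedaObj U).Full := IsGrothendieckAbelian.GabrielPopescu.full U hU
  haveI : (preadditiveCoyonedaObj U).Faithful :=
    (isSeparator_iff_faithful_preadditiveCoyonedaObj U).1 hU
  haveI : ((preadditiveCoyonedaObj U).mapHomotopyCategory (ComplexShape.up ℤ) ⋙
      DerivedCategory.Qh).HasRightDerivedFunctor
      (HomotopyCategory.quasiIso A (ComplexShape.up ℤ)) :=
    Groth.Agent.Lib.Helper8.KInjDer.hasRightDerivedFunctor (KInjAdjH.hK (B := A)) _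
  let RG := ((preadditiveCoyonedaObj U).mapHomotopyCategory (ComplexShape.up ℤ) ⋙
    DerivedCategory.Qh).totalRightDerived DerivedCategory.Qh
      (HomotopyCategory.quasiIso A (ComplexShape.up ℤ))
  obtain ⟨adj', h⟩ := KInjAdjH.derivedAdjH_counit_isIso
    (IsGrothendieckAbelian.tensorObj U) (preadditiveCoyonedaObj U)
    (IsGrothendieckAbelian.tensorObjPreadditiveCoyonedaObjAdjunction U) RG
    (((preadditiveCoyonedaObj U).mapHomotopyCategory (ComplexShape.up ℤ) ⋙
      DerivedCategory.Qh).totalRightDerivedUnit DerivedCategory.Qh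
      (HomotopyCategory.quasiIso A (ComplexShape.up ℤ)))
  haveI := h
  let LF := (IsGrothendieckAbelian.tensorObj U).mapDerivedCategory
  haveI : ∀ κ : Type v, PreservesColimitsOfShape (Discrete κ) LF := fun κ =>
    (adj'.leftAdjoint_preservesColimits).preservesColimitsOfShape
  haveI : ∀ κ : Type v, PreservesLimitsOfShape (Discrete κ) (LF.op ⋙ H) := fun κ => by
    have : PreservesColimitsOfShape (Discrete κ)ᵒᵖ LF :=
      preservesColimitsOfShape_of_equiv (Discrete.opposite κ).symm LF
    have : PreservesLimitsOfShape (Discrete κ) LF.op := preservesLimitsOfShape_op _ LF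
    infer_instance
  haveI := Groth.Agent.Lib.Helper8.Brown.hasCoproducts_nat
    (DerivedCategory (ModuleCat.{v} (End U)ᵐᵒᵖ))
  have hrep := Groth.Agent.Lib.Helper8.Brown.isRepresentable_of_compactlyGenerated hD (LF.op ⋙ H)
  exact BrownD3.isRepresentable_of_comp adj' (H ⋙ forget AddCommGrpCat.{v}) hrep

end Groth.Agent.Lib.Helper26.BrownD4
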