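import Mathlib
set_option maxHeartbeats 400000
namespace Groth.Agent.Lib.Helper26.CBLine

open Finset MvPolynomial

section lin
variable {k : Type*} [Field k] {σ : Type*} [Fintype σ] [DecidableEq σ]

/-- the linear form attached to a functional -/
noncomputable def lin (φ : (σ → k) →ₗ[k] k) : MvPolynomial σ k :=
  ∑ i, C (φ (Pi.single i 1)) * X i

lemma lin_homog (φ : (σ → k) →ₗ[k] k) : (lin φ).IsHomogeneous 1 := by
  unfold lin
  refine IsHomogeneous.sum _ _ _ (fun i _ => ?_)
  have := (isHomogeneous_C σ (φ (Pi.single i 1))).mul (isHomogeneous_X k i)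
  simpa using this

lemma eval_lin (φ : (σ → k) →ₗ[k] k) (v : σ → k) : eval v (lin φ) = φ v := by
  unfold lin
  rw [map_sum]
  simp only [map_mul, eval_C, eval_X]
  rw [LinearMap.pi_apply_eq_sum_univ φ v]
  refine Finset.sum_congr rfl (fun i _ => ?_)
  rw [smul_eq_mul, mul_comm]
  congr 2
  ext j
  simp [Pi.single_apply, eq_comm]

/-- key construction: a covering of `Z \ {z}` by at most `n` subspaces avoiding `z` contradicts
the Cayley–Bacharach property. -/
lemma key {Pt : Type*} (rep : Pt → (σ → k)) (Z : Finset Pt) (n : ℕ)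
    (hCB : ∀ z ∈ Z, ∀ p : MvPolynomial σ k, p.IsHomogeneous n →
      (∀ z' ∈ Z, z' ≠ z → eval (rep z') p = 0) → eval (rep z) p = 0)
    (z : Pt) (hz : z ∈ Z) (hz0 : rep z ≠ 0) {ι : Type*} (J : Finset ι) (hJ : J.card ≤ n)
    (W : ι → Submodule k (σ → k)) (hW : ∀ j ∈ J, rep z ∉ W j)
    (hcov : ∀ s ∈ Z, s ≠ z → ∃ j ∈ J, rep s ∈ W j) : False := by
  classical
  have hex : ∀ j, ∃ φ : (σ → k) →ₗ[k] k, j ∈ J → (φ (rep z) ≠ 0 ∧ ∀ w ∈ W j, φ w = 0) := by
    intro j
    by_cases hj : j ∈ J
    · obtain ⟨f, hf, hf'⟩ := Submodule.exists_dual_map_eq_bot_of_notMem (hW j hj) inferInstance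
      refine ⟨f, fun _ => ⟨hf, fun w hw => ?_⟩⟩
      exact (Submodule.eq_bot_iff _).mp hf' (f w) ⟨w, hw, rfl⟩
    · exact ⟨0, fun h => absurd h hj⟩
  choose φ hφ using hex
  obtain ⟨φ₀, hφ₀, -⟩ := Submodule.exists_dual_map_eq_bot_of_notMem
    (p := (⊥ : Submodule k (σ → k))) (x := rep z) (by simpa using hz0) inferInstance
  set F : MvPolynomial σ k := (∏ j ∈ J, lin (φ j)) * (lin φ₀) ^ (n - J.card) with hF
  have hFh : F.IsHomogeneous n := by
    have h1 : (∏ j ∈ J, lin (φ j)).IsHomogeneous (∑ j ∈ J, 1) :=
      IsHomogeneous.prod _ _ _ (fun j _ => lin_homog (φ j))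
    have h2 : ((lin φ₀) ^ (n - J.card)).IsHomogeneous (1 * (n - J.card)) := (lin_homog φ₀).pow _
    have h3 := h1.mul h2
    have h4 : (∑ j ∈ J, 1) + 1 * (n - J.card) = n := by
      rw [Finset.sum_const, smul_eq_mul, mul_one, one_mul]; omega
    rwa [h4] at h3
  have hFz : eval (rep z) F ≠ 0 := by
    rw [hF, map_mul, map_pow, map_prod]
    refine mul_ne_zero ?_ (pow_ne_zero _ ?_)
    · rw [Finset.prod_ne_zero_iff]
      intro j hj
      rw [eval_lin]
      exact (hφ j hj).1
    · rw [eval_lin]; exact hφ₀
  apply hFz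
  apply hCB z hz F hFh
  intro s hs hsz
  obtain ⟨j, hj, hsj⟩ := hcov s hs hsz
  rw [hF, map_mul, map_prod]
  apply mul_eq_zero_of_left
  apply Finset.prod_eq_zero hj
  rw [eval_lin]
  exact (hφ j hj).2 _ hsj

end lin

section matching
variable {α γ : Type*} [DecidableEq α] [DecidableEq γ]

lemma matching (c : α → γ) : ∀ (n : ℕ) (S : Finset α), S.card ≤ 2 * n →
    (∀ a ∈ S, (S.filter (fun b => c b = c a)).card ≤ n) →
    ∃ P : Finset (α × α), P.card ≤ n ∧
      (∀ q ∈ P, q.1 ∈ S ∧ q.2 ∈ S ∧ (q.1 = q.2 ∨ c q.1 ≠ c q.2)) ∧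
      ∀ s ∈ S, ∃ q ∈ P, s = q.1 ∨ s = q.2 := by
  intro n
  induction n with
  | zero =>
    intro S hS _
    have : S = ∅ := Finset.card_eq_zero.mp (by omega)
    subst this
    exact ⟨∅, by simp, by simp, by simp⟩
  | succ n ih =>
    intro S hS hcl
    rcases S.eq_empty_or_nonempty with rfl | hne
    · exact ⟨∅, by simp, by simp, by simp⟩
    obtain ⟨a, ha, hmax⟩ := Finset.exists_max_image S
      (fun a => (S.filter (fun b => c b = c a)).card) hne
    by_cases hall : ∀ b ∈ S, c b = c a
    · have hSa : S.filter (fun b => c b = c a) = S := Finset.filter_true_of_mem hall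
      have hcard : S.card ≤ n + 1 := by
        have := hcl a ha
        rwa [hSa] at this
      refine ⟨S.image (fun s => (s, s)), le_trans Finset.card_image_le hcard, ?_, ?_⟩
      · intro q hq
        obtain ⟨s, hs, rfl⟩ := Finset.mem_image.mp hq
        exact ⟨hs, hs, Or.inl rfl⟩
      · intro s hs
        exact ⟨(s, s), Finset.mem_image.mpr ⟨s, hs, rfl⟩, Or.inl rfl⟩
    · push Not at hall
      obtain ⟨b, hb, hba⟩ := hall
      have hab : a ≠ b := fun h => hba (by rw [h])
      set S' := (S.erase a).erase b with hS'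
      have hbSa : b ∈ S.erase a := Finset.mem_erase.mpr ⟨hab.symm, hb⟩
      have hcard' : S'.card + 2 = S.card := by
        rw [hS', Finset.card_erase_of_mem hbSa, Finset.card_erase_of_mem ha]
        have h1 : 0 < S.card := Finset.card_pos.mpr hne
        have h2 : 0 < (S.erase a).card := Finset.card_pos.mpr ⟨b, hbSa⟩
        rw [Finset.card_erase_of_mem ha] at h2
        omega
      have hsub : S' ⊆ S := (Finset.erase_subset _ _).trans (Finset.erase_subset _ _)
      have hmem' : ∀ s, s ∈ S' ↔ s ≠ b ∧ s ≠ a ∧ s ∈ S := by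
        intro s; simp [hS', Finset.mem_erase]
      have hcl' : ∀ s ∈ S', (S'.filter (fun t => c t = c s)).card ≤ n := by
        intro s hs
        have hsS := hsub hs
        by_cases hsa : c s = c a
        · have h1 : S'.filter (fun t => c t = c s) ⊆ (S.filter (fun t => c t = c a)).erase a := by
            intro t ht
            rw [Finset.mem_filter, hmem'] at ht
            rw [Finset.mem_erase, Finset.mem_filter]
            exact ⟨ht.1.2.1, ht.1.2.2, ht.2.trans hsa⟩
          have h2 := Finset.card_le_card h1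
          have h3 : a ∈ S.filter (fun t => c t = c a) := Finset.mem_filter.mpr ⟨ha, rfl⟩
          rw [Finset.card_erase_of_mem h3] at h2
          have := hcl a ha
          omega
        · have hle : (S.filter (fun t => c t = c s)).card ≤ (S.filter (fun t => c t = c a)).card :=
            hmax s hsS
          by_cases hsb : c s = c b
          · have h1 : S'.filter (fun t => c t = c s) ⊆ (S.filter (fun t => c t = c s)).erase b := by
              intro t ht
              rw [Finset.mem_filter, hmem'] at ht
              rw [Finset.mem_erase, Finset.mem_filter]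
              exact ⟨ht.1.1, ht.1.2.2, ht.2⟩
            have h2 := Finset.card_le_card h1
            have h3 : b ∈ S.filter (fun t => c t = c s) := Finset.mem_filter.mpr ⟨hb, hsb.symm⟩
            rw [Finset.card_erase_of_mem h3] at h2
            have := hcl s hsS
            omega
          · have h1 : S'.filter (fun t => c t = c s) ⊆ S.filter (fun t => c t = c s) :=
              Finset.filter_subset_filter _ hsub
            have h2 := Finset.card_le_card h1
            have hdisj : Disjoint (S.filter (fun t => c t = c s)) (S.filter (fun t => c t = c a)) := by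
              rw [Finset.disjoint_left]
              intro t ht hta
              rw [Finset.mem_filter] at ht hta
              exact hsa (ht.2.symm.trans hta.2)
            have hbn : b ∉ (S.filter (fun t => c t = c s)) ∪ (S.filter (fun t => c t = c a)) := by
              rw [Finset.mem_union, Finset.mem_filter, Finset.mem_filter]
              rintro (h | h)
              · exact hsb h.2.symm
              · exact hba h.2
            have h4 : (insert b ((S.filter (fun t => c t = c s)) ∪ (S.filter (fun t => c t = c a)))) ⊆ S := by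
              intro t ht
              rw [Finset.mem_insert, Finset.mem_union] at ht
              rcases ht with rfl | ht | ht
              · exact hb
              · exact (Finset.mem_filter.mp ht).1
              · exact (Finset.mem_filter.mp ht).1
            have h5 := Finset.card_le_card h4
            rw [Finset.card_insert_of_notMem hbn, Finset.card_union_of_disjoint hdisj] at h5
            omega
      obtain ⟨P', hP'card, hP'prop, hP'cov⟩ := ih S' (by omega) hcl'
      refine ⟨insert (a, b) P', ?_, ?_, ?_⟩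
      · exact le_trans (Finset.card_insert_le _ _) (by omega)
      · intro q hq
        rcases Finset.mem_insert.mp hq with rfl | hq
        · exact ⟨ha, hb, Or.inr (fun h => hba h.symm)⟩
        · obtain ⟨h1, h2, h3⟩ := hP'prop q hq
          exact ⟨hsub h1, hsub h2, h3⟩
      · intro s hs
        by_cases hsa : s = a
        · exact ⟨(a, b), Finset.mem_insert_self _ _, Or.inl hsa⟩
        by_cases hsb : s = b
        · exact ⟨(a, b), Finset.mem_insert_self _ _, Or.inr hsb⟩
        obtain ⟨q, hq, hq'⟩ := hP'cov s ((hmem' s).mpr ⟨hsb, hsa, hs⟩)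
        exact ⟨q, Finset.mem_insert_of_mem hq, hq'⟩

end matching

section geom
variable {k : Type*} [Field k] {V : Type*} [AddCommGroup V] [Module k V] [FiniteDimensional k V]
open Projectivization

omit [FiniteDimensional k V] in
lemma rep_mem (a : Projectivization k V) : a.rep ∈ a.submodule := by
  rw [submodule_eq]; exact Submodule.mem_span_singleton_self _

omit [FiniteDimensional k V] in
lemma le_iff (a : Projectivization k V) (W : Submodule k V) : a.submodule ≤ W ↔ a.rep ∈ W := by
  rw [submodule_eq, Submodule.span_singleton_le_iff_mem]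

lemma eq_of_le {a b : Projectivization k V} (h : a.submodule ≤ b.submodule) : a = b :=
  submodule_injective (Submodule.eq_of_le_of_finrank_eq h
    (by rw [finrank_submodule, finrank_submodule]))

lemma finrank_sup {a b : Projectivization k V} (h : a ≠ b) :
    Module.finrank k ↥(a.submodule ⊔ b.submodule) = 2 := by
  have hli := linearIndependent_pair_iff_ne.mpr h
  have h1 := finrank_span_eq_card hli
  have h2 : Submodule.span k (Set.range ![a.rep, b.rep]) = a.submodule ⊔ b.submodule := by
    rw [submodule_eq, submodule_eq, ← Submodule.span_union]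
    congr 1
    ext x
    simp [Set.mem_range, Fin.exists_fin_two, eq_comm]
  rw [h2] at h1
  simpa using h1

lemma sup_eq_of_le {a b : Projectivization k V} (h : a ≠ b) (W : Submodule k V)
    (hW : Module.finrank k ↥W = 2) (ha : a.submodule ≤ W) (hb : b.submodule ≤ W) :
    a.submodule ⊔ b.submodule = W :=
  Submodule.eq_of_le_of_finrank_eq (sup_le ha hb) (by rw [finrank_sup h, hW])

lemma color {z a b : Projectivization k V} (ha : a ≠ z) (hb : b ≠ z)
    (hab : a = b ∨ z.submodule ⊔ a.submodule ≠ z.submodule ⊔ b.submodule) :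
    z.rep ∉ a.submodule ⊔ b.submodule := by
  intro hz
  rw [← le_iff] at hz
  rcases hab with rfl | hab
  · rw [sup_idem] at hz
    exact ha (eq_of_le hz).symm
  · have hne : a ≠ b := by
      rintro rfl; exact hab rfl
    have hW := finrank_sup hne
    have h1 := sup_eq_of_le (Ne.symm ha) _ hW hz le_sup_left
    have h2 := sup_eq_of_le (Ne.symm hb) _ hW hz le_sup_right
    exact hab (h1.trans h2.symm)

open scoped Classical in
lemma good_point (Z : Finset (Projectivization k V)) (hne : Z.Nonempty) (n : ℕ)
    (hnc : ¬ ∃ W : Submodule k V, Module.finrank k ↥W = 2 ∧ ∀ z ∈ Z, z.submodule ≤ W)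
    (hcard : Z.card ≤ 2 * n + 2) :
    ∃ z ∈ Z, ∀ z' ∈ Z, z' ≠ z →
      (Z.filter (fun t => t.submodule ≤ z.submodule ⊔ z'.submodule)).card ≤ n + 1 := by
  classical
  by_contra hcon
  push Not at hcon
  obtain ⟨z₁, hz₁⟩ := hne
  obtain ⟨z₁', hz₁', hne₁, hc₁⟩ := hcon z₁ hz₁
  have hL₁ := finrank_sup (Ne.symm hne₁)
  have : ∃ z₂ ∈ Z, ¬ z₂.submodule ≤ z₁.submodule ⊔ z₁'.submodule := by
    by_contra h
    push Not at h
    exact hnc ⟨_, hL₁, h⟩
  obtain ⟨z₂, hz₂, hz₂L⟩ := this
  obtain ⟨z₂', hz₂', hne₂, hc₂⟩ := hcon z₂ hz₂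
  have hL₂ := finrank_sup (Ne.symm hne₂)
  set A₁ := Z.filter (fun t => t.submodule ≤ z₁.submodule ⊔ z₁'.submodule)
  set A₂ := Z.filter (fun t => t.submodule ≤ z₂.submodule ⊔ z₂'.submodule)
  have hint : (A₁ ∩ A₂).card ≤ 1 := by
    rw [Finset.card_le_one]
    intro s hs t ht
    by_contra hst
    rw [Finset.mem_inter, Finset.mem_filter, Finset.mem_filter] at hs ht
    have e1 := sup_eq_of_le hst _ hL₁ hs.1.2 ht.1.2
    have e2 := sup_eq_of_le hst _ hL₂ hs.2.2 ht.2.2
    apply hz₂L
    rw [← e1, e2]
    exact le_sup_left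
  have hun : (A₁ ∪ A₂).card ≤ Z.card :=
    Finset.card_le_card (Finset.union_subset (Finset.filter_subset _ _) (Finset.filter_subset _ _))
  have := Finset.card_union_add_card_inter A₁ A₂
  omega

end geom

section main
open Projectivization
universe u

theorem main (k : Type u) [Field k]
    (Z : Finset (Projectivization k (Fin 4 → k))) (hZ : Z.Nonempty) (n : ℕ)
    (hCB : (∀ z ∈ Z, ∀ p : MvPolynomial (Fin 4) k, p.IsHomogeneous n →
      (∀ z' ∈ Z, z' ≠ z → MvPolynomial.eval z'.rep p = 0) → MvPolynomial.eval z.rep p = 0)) :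
    n + 2 ≤ Z.card ∧
      (Z.card ≤ 2 * n + 1 → ∃ W : Submodule k (Fin 4 → k), Module.finrank k ↥W = 2 ∧
        ∀ z ∈ Z, z.submodule ≤ W) := by
  classical
  constructor
  · by_contra hlt
    push Not at hlt
    obtain ⟨z, hz⟩ := hZ
    refine key (fun a : Projectivization k (Fin 4 → k) => a.rep) Z n hCB z hz z.rep_nonzero
      (Z.erase z) ?_ (fun a => a.submodule) ?_ ?_
    · rw [Finset.card_erase_of_mem hz]; omega
    · intro a ha hza
      rw [← le_iff] at hza
      exact (Finset.mem_erase.mp ha).1 (eq_of_le hza).symm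
    · intro s hs hsz
      exact ⟨s, Finset.mem_erase.mpr ⟨hsz, hs⟩, rep_mem s⟩
  · intro hcard
    by_contra hnc
    obtain ⟨z, hz, hzgood⟩ := good_point Z hZ n hnc (by omega)
    let c : Projectivization k (Fin 4 → k) → Submodule k (Fin 4 → k) :=
      fun a => z.submodule ⊔ a.submodule
    have hScard : (Z.erase z).card ≤ 2 * n := by
      rw [Finset.card_erase_of_mem hz]; omega
    have hcl : ∀ a ∈ Z.erase z, ((Z.erase z).filter (fun b => c b = c a)).card ≤ n := by
      intro a ha
      obtain ⟨haz, haZ⟩ := Finset.mem_erase.mp ha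
      have h1 : (Z.erase z).filter (fun b => c b = c a) ⊆
          (Z.filter (fun t => t.submodule ≤ z.submodule ⊔ a.submodule)).erase z := by
        intro t ht
        rw [Finset.mem_filter, Finset.mem_erase] at ht
        rw [Finset.mem_erase, Finset.mem_filter]
        refine ⟨ht.1.1, ht.1.2, ?_⟩
        have : z.submodule ⊔ t.submodule = z.submodule ⊔ a.submodule := ht.2
        rw [← this]
        exact le_sup_right
      have h2 := Finset.card_le_card h1
      have h3 : z ∈ Z.filter (fun t => t.submodule ≤ z.submodule ⊔ a.submodule) :=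
        Finset.mem_filter.mpr ⟨hz, le_sup_left⟩
      rw [Finset.card_erase_of_mem h3] at h2
      have := hzgood a haZ haz
      omega
    obtain ⟨P, hPcard, hPprop, hPcov⟩ := matching c n (Z.erase z) hScard hcl
    refine key (fun a : Projectivization k (Fin 4 → k) => a.rep) Z n hCB z hz z.rep_nonzero
      P hPcard (fun q => q.1.submodule ⊔ q.2.submodule) ?_ ?_
    · intro q hq
      obtain ⟨h1, h2, h3⟩ := hPprop q hq
      exact color (Finset.mem_erase.mp h1).1 (Finset.mem_erase.mp h2).1 h3
    · intro s hs hsz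
      obtain ⟨q, hq, hq'⟩ := hPcov s (Finset.mem_erase.mpr ⟨hsz, hs⟩)
      refine ⟨q, hq, ?_⟩
      rcases hq' with h | h
      · rw [h]; exact (le_sup_left : q.1.submodule ≤ _) (rep_mem q.1)
      · rw [h]; exact (le_sup_right : q.2.submodule ≤ _) (rep_mem q.2)

end main

end Groth.Agent.Lib.Helper26.CBLine
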