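import Mathlib
set_option maxHeartbeats 400000
namespace Groth.Agent.Lib.Helper26.CartierF

universe u v

theorem main
    (p : ℕ) [Fact p.Prime] (k : Type u) [Field k] [CharP k p] [PerfectRing k p]
    (M : Type v) [AddCommGroup M] [Module (WittVector p k) M]
    (F V : M →+ M)
    (hF : ∀ (a : WittVector p k) (m : M), F (a • m) = WittVector.frobenius a • F m)
    (hV : ∀ (a : WittVector p k) (m : M), V (WittVector.frobenius a • m) = a • V m)
    (hFV : ∀ m : M, F (V m) = (p : WittVector p k) • m)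
    (hVF : ∀ m : M, V (F m) = (p : WittVector p k) • m)
    (hVinj : Function.Injective V)
    (hsep : ∀ x : M, (∀ n : ℕ, ∃ y : M, x = (⇑V)^[n] y) → x = 0)
    (hfin : Module.Finite (WittVector p k) (M ⧸ Submodule.span (WittVector p k) (Set.range V))) :
    (∃ c : ℕ, ∀ x : M, (∃ n : ℕ, (⇑F)^[n] x = 0) → (⇑F)^[c] x = 0) ∧
    (∀ x : M, (∀ n : ℕ, ∃ (m : ℕ) (y : M), (⇑V)^[m] x = (⇑F)^[n] y) → F x = 0 → x = 0) := by
  classical
  -- basic iterate facts
  have hcomm : Function.Commute ⇑F ⇑V := fun y => (hFV y).trans (hVF y).symm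
  have hFVn : ∀ (n : ℕ) (y : M), (⇑F)^[n] (V y) = V ((⇑F)^[n] y) := fun n y =>
    (hcomm.iterate_left n) y
  have hFVnm : ∀ (n m : ℕ) (y : M), (⇑F)^[n] ((⇑V)^[m] y) = (⇑V)^[m] ((⇑F)^[n] y) := fun n m y =>
    (hcomm.iterate_left n).iterate_right m y
  have hmono : ∀ (n m : ℕ) (x : M), (⇑F)^[n] x = 0 → n ≤ m → (⇑F)^[m] x = 0 := by
    intro n m x hx hnm
    obtain ⟨d, rfl⟩ := Nat.exists_eq_add_of_le hnm
    rw [add_comm, Function.iterate_add_apply, hx, iterate_map_zero]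
  have hsmul : ∀ (n : ℕ) (a : WittVector p k) (x : M),
      (⇑F)^[n] (a • x) = ((⇑(WittVector.frobenius (p := p) (R := k)))^[n] a) • (⇑F)^[n] x := by
    intro n
    induction n with
    | zero => intro a x; rfl
    | succ n ih =>
      intro a x
      rw [Function.iterate_succ_apply', Function.iterate_succ_apply', Function.iterate_succ_apply',
        ih, hF]
  -- the submodule M₂
  let M₂ : Submodule (WittVector p k) M :=
    { carrier := {x | ∃ n : ℕ, (⇑F)^[n] x = 0}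
      zero_mem' := ⟨0, rfl⟩
      add_mem' := by
        rintro x y ⟨n, hn⟩ ⟨m, hm⟩
        refine ⟨max n m, ?_⟩
        rw [iterate_map_add, hmono n _ x hn (le_max_left _ _), hmono m _ y hm (le_max_right _ _),
          add_zero]
      smul_mem' := by
        rintro a x ⟨n, hn⟩
        exact ⟨n, by rw [hsmul, hn, smul_zero]⟩ }
  have hM₂ : ∀ x, x ∈ M₂ ↔ ∃ n : ℕ, (⇑F)^[n] x = 0 := fun x => Iff.rfl
  have hVM₂ : ∀ y, V y ∈ M₂ → y ∈ M₂ := by
    rintro y ⟨n, hn⟩
    refine ⟨n, hVinj ?_⟩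
    rw [← hFVn, hn, map_zero]
  -- elements of VM are in the range of V
  obtain ⟨VM, hVMdef⟩ : ∃ VM : Submodule (WittVector p k) M,
    VM = Submodule.span (WittVector p k) (Set.range V) := ⟨_, rfl⟩
  have hVM : ∀ z ∈ VM, ∃ y, z = V y := by
    intro z hz
    rw [hVMdef] at hz
    induction hz using Submodule.span_induction with
    | mem z hz => obtain ⟨y, rfl⟩ := hz; exact ⟨y, rfl⟩
    | zero => exact ⟨0, (map_zero V).symm⟩
    | add a b _ _ ha hb =>
      obtain ⟨ya, rfl⟩ := ha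
      obtain ⟨yb, rfl⟩ := hb
      exact ⟨ya + yb, (map_add V ya yb).symm⟩
    | smul a z _ hz =>
      obtain ⟨y, rfl⟩ := hz
      exact ⟨WittVector.frobenius a • y, (hV a y).symm⟩
  -- noetherian
  rw [← hVMdef] at hfin
  haveI : IsNoetherian (WittVector p k) (M ⧸ VM) := isNoetherian_of_isNoetherianRing_of_finite _ _
  have hfg : (M₂.map VM.mkQ).FG := IsNoetherian.noetherian _
  obtain ⟨S, hS⟩ := hfg
  have hSmem : ∀ s ∈ S, ∃ x ∈ M₂, VM.mkQ x = s := by
    intro s hs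
    have : s ∈ M₂.map VM.mkQ := hS ▸ Submodule.subset_span hs
    exact this
  choose! g hgM₂ hgs using hSmem
  -- uniform exponent on the finite set
  have hex : ∃ n₀ : ℕ, ∀ s ∈ S, (⇑F)^[n₀] (g s) = 0 := by
    have hn : ∀ s ∈ S, ∃ n : ℕ, (⇑F)^[n] (g s) = 0 := fun s hs => hgM₂ s hs
    choose! ν hν using hn
    refine ⟨S.sup ν, fun s hs => hmono (ν s) _ _ (hν s hs) (Finset.le_sup hs)⟩
  obtain ⟨n₀, hn₀⟩ := hex
  -- decomposition
  have hdec : ∀ x ∈ M₂, ∃ t y, (⇑F)^[n₀] t = 0 ∧ y ∈ M₂ ∧ x = t + V y := by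
    intro x hx
    have h1 : VM.mkQ x ∈ Submodule.span (WittVector p k) (S : Set (M ⧸ VM)) := by
      rw [hS]; exact Submodule.mem_map_of_mem hx
    have h2 : (S : Set (M ⧸ VM)) = VM.mkQ '' (g '' (S : Set (M ⧸ VM))) := by
      ext s
      constructor
      · intro hs
        exact ⟨g s, ⟨s, hs, rfl⟩, hgs s hs⟩
      · rintro ⟨_, ⟨s', hs', rfl⟩, rfl⟩
        rw [hgs s' hs']; exact hs'
    rw [h2, ← Submodule.map_span] at h1
    have hkill : ∀ t ∈ Submodule.span (WittVector p k) (g '' (S : Set (M ⧸ VM))),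
        (⇑F)^[n₀] t = 0 := by
      intro t ht
      induction ht using Submodule.span_induction with
      | mem z hz => obtain ⟨s, hs, rfl⟩ := hz; exact hn₀ s hs
      | zero => exact iterate_map_zero _ _
      | add a b _ _ ha hb => rw [iterate_map_add, ha, hb, add_zero]
      | smul a z _ hz => rw [hsmul, hz, smul_zero]
    obtain ⟨t, ht, htx⟩ := h1
    have htker : (⇑F)^[n₀] t = 0 := hkill t ht
    have htM₂ : t ∈ M₂ := ⟨n₀, htker⟩
    have h3 : x - t ∈ VM := by
      rw [← Submodule.Quotient.mk_eq_zero, Submodule.Quotient.mk_sub]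
      rw [sub_eq_zero]
      exact htx.symm
    obtain ⟨y, hy⟩ := hVM _ h3
    have hyM₂ : y ∈ M₂ := hVM₂ y (hy ▸ M₂.sub_mem hx htM₂)
    exact ⟨t, y, htker, hyM₂, by rw [← hy]; abel⟩
  -- iteration
  have hiter : ∀ (N : ℕ) (x : M), x ∈ M₂ → ∃ y, (⇑F)^[n₀] x = (⇑V)^[N] y := by
    intro N
    induction N with
    | zero => intro x _; exact ⟨_, rfl⟩
    | succ N ih =>
      intro x hx
      obtain ⟨t, y, ht, hy, rfl⟩ := hdec x hx
      obtain ⟨y', hy'⟩ := ih y hy
      refine ⟨y', ?_⟩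
      rw [iterate_map_add, ht, zero_add, hFVn, hy', Function.iterate_succ_apply']
  have part1 : ∀ x : M, (∃ n : ℕ, (⇑F)^[n] x = 0) → (⇑F)^[n₀] x = 0 := by
    intro x hx
    apply hsep
    intro N
    exact hiter N x hx
  refine ⟨⟨n₀, part1⟩, ?_⟩
  intro x hx hFx
  obtain ⟨m, y, hmy⟩ := hx n₀
  have h1 : (⇑F)^[n₀ + 1] y = 0 := by
    rw [Function.iterate_succ_apply', ← hmy]
    have := hFVnm 1 m x
    simp only [Function.iterate_one] at this
    rw [this, hFx, iterate_map_zero]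
  have h2 : (⇑F)^[n₀] y = 0 := part1 y ⟨_, h1⟩
  rw [h2] at hmy
  exact (Function.Injective.iterate hVinj m) (hmy.trans (iterate_map_zero V m).symm)

end Groth.Agent.Lib.Helper26.CartierF
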