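import Mathlib

/-!
Catenary partial orders: saturated chains have length the codimension iff codimension is additive.
-/

set_option autoImplicit false

namespace Groth.Agent.Lib.Helper26.CatOrder

variable {P : Type*} [PartialOrder P]

/-- codimension of `a` in `b`: supremum of lengths of chains starting at `a` and ending below `b` -/
noncomputable def cod (a b : P) : ℕ∞ :=
  ⨆ (s : LTSeries P) (_ : s.head = a ∧ s.last ≤ b), (s.length : ℕ∞)

/-- saturated chain -/
def Sat (s : LTSeries P) : Prop := ∀ i : Fin s.length, s (Fin.castSucc i) ⋖ s (Fin.succ i)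

lemma le_cod {a b : P} (s : LTSeries P) (h1 : s.head = a) (h2 : s.last ≤ b) :
    (s.length : ℕ∞) ≤ cod a b :=
  le_iSup₂_of_le s ⟨h1, h2⟩ le_rfl

lemma cod_le {a b : P} {n : ℕ∞}
    (h : ∀ s : LTSeries P, s.head = a → s.last ≤ b → (s.length : ℕ∞) ≤ n) : cod a b ≤ n :=
  iSup₂_le fun s hs => h s hs.1 hs.2

lemma head_lt_last (s : LTSeries P) (h : 0 < s.length) : s.head < s.last := by
  apply s.strictMono
  rw [Fin.lt_def]
  simpa using h

lemma cod_self (a : P) : cod a a = 0 := by
  apply le_antisymm _ zero_le
  apply cod_le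
  intro s h1 h2
  rcases Nat.eq_zero_or_pos s.length with h | h
  · rw [h]; simp
  · exfalso
    have := head_lt_last s h
    rw [h1] at this
    exact absurd (lt_of_lt_of_le this h2) (lt_irrefl _)

lemma cod_covBy {a b : P} (hab : a ⋖ b) : cod a b = 1 := by
  apply le_antisymm
  · apply cod_le
    intro s h1 h2
    by_contra hcon
    have h2' : 2 ≤ s.length := by
      by_contra h
      apply hcon
      have : s.length ≤ 1 := by omega
      exact_mod_cast this
    have e1 : s ⟨0, by omega⟩ < s ⟨1, by omega⟩ := s.strictMono (by rw [Fin.lt_def]; simp)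
    have e2 : s ⟨1, by omega⟩ < s ⟨2, by omega⟩ := s.strictMono (by rw [Fin.lt_def]; simp)
    have e3 : s ⟨2, by omega⟩ ≤ s.last := s.monotone (Fin.le_last _)
    have e0 : s ⟨0, by omega⟩ = a := h1
    rw [e0] at e1
    exact hab.2 e1 (lt_of_lt_of_le e2 (e3.trans h2))
  · have := le_cod (a := a) (b := b) ((RelSeries.singleton _ a).snoc b hab.lt : LTSeries P)
      (by simp) (by simp)
    simpa using this

set_option backward.isDefEq.respectTransparency false in
lemma head_insertNth (s : LTSeries P) (i : Fin s.length) (z : P) (h1 : s (Fin.castSucc i) < z)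
    (h2 : z < s i.succ) : (s.insertNth i z h1 h2).head = s.head := by
  show Fin.insertNth (α := fun _ => P) (Fin.castSucc i.succ) z s.toFun 0 = s.toFun 0
  rw [Fin.insertNth_apply_below]
  pick_goal 2
  · rw [Fin.lt_def]; simp
  simp

set_option backward.isDefEq.respectTransparency false in
lemma last_insertNth (s : LTSeries P) (i : Fin s.length) (z : P) (h1 : s (Fin.castSucc i) < z)
    (h2 : z < s i.succ) : (s.insertNth i z h1 h2).last = s.last := by
  show Fin.insertNth (α := fun _ => P) (Fin.castSucc i.succ) z s.toFun (Fin.last _)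
    = s.toFun (Fin.last _)
  rw [Fin.insertNth_apply_above]
  pick_goal 2
  · rw [Fin.lt_def]; simp
  simp
  congr 1

lemma exists_max {a b : P} (hab : a ≤ b) (hfin : cod a b ≠ ⊤) :
    ∃ s : LTSeries P, s.head = a ∧ s.last = b ∧ Sat s ∧ (s.length : ℕ∞) = cod a b := by
  have hne : Nonempty {s : LTSeries P // s.head = a ∧ s.last ≤ b} :=
    ⟨⟨RelSeries.singleton _ a, by simp, by simpa using hab⟩⟩
  have hcod : cod a b
      = ⨆ s : {s : LTSeries P // s.head = a ∧ s.last ≤ b}, (s.1.length : ℕ∞) := by
    unfold cod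
    rw [iSup_subtype']
  have hlt : (⨆ s : {s : LTSeries P // s.head = a ∧ s.last ≤ b}, (s.1.length : ℕ∞)) < ⊤ := by
    rw [← hcod]
    exact lt_top_iff_ne_top.2 hfin
  obtain ⟨⟨s, hs1, hs2⟩, hs⟩ := ENat.exists_eq_iSup_of_lt_top hlt
  rw [← hcod] at hs
  have hmax : ∀ t : LTSeries P, t.head = a → t.last ≤ b → t.length ≤ s.length := by
    intro t h1 h2
    have := le_cod t h1 h2
    rw [← hs] at this
    exact_mod_cast this
  refine ⟨s, hs1, ?_, ?_, hs⟩
  · by_contra hne
    have hlt : s.last < b := lt_of_le_of_ne hs2 hne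
    have := hmax (s.snoc b hlt) (by simp [hs1]) (by simp)
    simp at this
  · intro i
    refine ⟨s.step i, ?_⟩
    intro z hz1 hz2
    have := hmax (s.insertNth i z hz1 hz2) (by rw [head_insertNth, hs1])
      (by rw [last_insertNth]; exact hs2)
    simp at this

lemma sat_smash (s1 s2 : LTSeries P) (h : s1.last = s2.head) (h1 : Sat s1) (h2 : Sat s2) :
    Sat (s1.smash s2 h) := by
  intro i
  refine Fin.addCases (fun i1 => ?_) (fun i2 => ?_) i
  · have := h1 i1
    rw [← RelSeries.smash_castAdd h i1, ← RelSeries.smash_succ_castAdd h i1] at this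
    exact this
  · have := h2 i2
    rw [← RelSeries.smash_natAdd h i2, ← RelSeries.smash_succ_natAdd h i2] at this
    exact this

lemma cod_of_sat (add : ∀ a b c : P, a ≤ b → b ≤ c → cod a c = cod a b + cod b c) :
    ∀ (n : ℕ) (s : LTSeries P), s.length = n → Sat s → cod s.head s.last = n := by
  intro n
  induction n with
  | zero =>
    intro s hs _
    have : s.head = s.last := by
      show s 0 = s (Fin.last _)
      congr 1
      rw [Fin.ext_iff]
      simp [hs]
    rw [this, cod_self]
    simp
  | succ n ih =>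
    intro s hs hsat
    have hsat' : Sat s.eraseLast := by
      intro i
      exact hsat ⟨i, lt_of_lt_of_le i.2 (Nat.sub_le _ _)⟩
    have hlen : s.eraseLast.length = n := by
      rw [RelSeries.eraseLast_length, hs]; rfl
    have h1 := ih s.eraseLast hlen hsat'
    have hcov : s.eraseLast.last ⋖ s.last := by
      have e1 : s.eraseLast.last = s (Fin.castSucc ⟨s.length - 1, by omega⟩) := rfl
      have e2 : s.last = s (Fin.succ ⟨s.length - 1, by omega⟩) := by
        show s (Fin.last _) = _
        congr 1
        rw [Fin.ext_iff]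
        simp
        omega
      rw [e1, e2]
      exact hsat _
    have hle1 : s.eraseLast.head ≤ s.eraseLast.last := LTSeries.head_le_last s.eraseLast
    rw [RelSeries.head_eraseLast] at h1 hle1
    rw [add s.head s.eraseLast.last s.last hle1 hcov.le, h1, cod_covBy hcov]
    push_cast
    rfl

theorem cat_iff :
    (∀ a b : P, a ≤ b → cod a b ≠ ⊤ ∧
      ∀ s : LTSeries P, s.head = a → s.last = b → Sat s → (s.length : ℕ∞) = cod a b) ↔
    (∀ a b : P, a ≤ b → cod a b ≠ ⊤) ∧
      (∀ a b c : P, a ≤ b → b ≤ c → cod a c = cod a b + cod b c) := by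
  constructor
  · intro H
    refine ⟨fun a b h => (H a b h).1, fun a b c hab hbc => ?_⟩
    obtain ⟨s1, h11, h12, h13, h14⟩ := exists_max hab (H a b hab).1
    obtain ⟨s2, h21, h22, h23, h24⟩ := exists_max hbc (H b c hbc).1
    have hconn : s1.last = s2.head := by rw [h12, h21]
    have := (H a c (hab.trans hbc)).2 (s1.smash s2 hconn) (by simp [h11]) (by simp [h22])
      (sat_smash s1 s2 hconn h13 h23)
    rw [← this, ← h14, ← h24, RelSeries.smash_length]
    push_cast
    rfl
  · rintro ⟨fin, add⟩ a b hab
    refine ⟨fin a b hab, fun s h1 h2 hsat => ?_⟩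
    rw [← h1, ← h2, cod_of_sat add s.length s rfl hsat]

end Groth.Agent.Lib.Helper26.CatOrder
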