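import Mathlib
set_option maxHeartbeats 400000
namespace Groth.Agent.Lib.Helper26.CayleyBach

open Finset

variable {k : Type*} [Field k] {ι : Type*} [Fintype ι] [DecidableEq ι]

/-- restriction to a finset of coordinates -/
def ρ (W : Submodule k (ι → k)) (Y : Finset ι) : W →ₗ[k] (Y → k) :=
  (LinearMap.pi fun y : Y => LinearMap.proj (y : ι)).comp W.subtype

omit [Fintype ι] [DecidableEq ι] in
lemma ρ_apply (W : Submodule k (ι → k)) (Y : Finset ι) (w : W) (y : Y) :
    ρ W Y w y = (w : ι → k) y := rfl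

lemma exists_coord_subset (W : Submodule k (ι → k)) :
    ∃ Y : Finset ι, Function.Bijective (ρ W Y) := by
  classical
  have hne : ((Finset.univ : Finset ι).powerset.filter
      (fun Y => Function.Injective (ρ W Y))).Nonempty := by
    refine ⟨Finset.univ, ?_⟩
    simp only [Finset.mem_filter, Finset.mem_powerset, Finset.subset_univ, true_and]
    intro w w' h
    ext i
    exact congrFun h ⟨i, Finset.mem_univ i⟩
  obtain ⟨Y, hY, hmin⟩ := Finset.exists_min_image _ Finset.card hne
  simp only [Finset.mem_filter, Finset.mem_powerset, Finset.subset_univ, true_and] at hY hmin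
  refine ⟨Y, hY, ?_⟩
  by_contra hsurj
  have hlt : LinearMap.range (ρ W Y) < ⊤ :=
    lt_top_iff_ne_top.mpr (fun h => hsurj (LinearMap.range_eq_top.mp h))
  obtain ⟨f, hf0, hfker⟩ := Submodule.exists_le_ker_of_lt_top _ hlt
  have hex : ∃ y₀ : Y, f (Pi.single y₀ 1) ≠ 0 := by
    by_contra hall
    push Not at hall
    apply hf0
    refine LinearMap.pi_ext fun y c => ?_
    have : (Pi.single y c : Y → k) = c • Pi.single y 1 := by
      rw [← Pi.single_smul, smul_eq_mul, mul_one]
    rw [this, map_smul, hall y, smul_zero, LinearMap.zero_apply]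
  obtain ⟨y₀, hy₀⟩ := hex
  have hinj' : Function.Injective (ρ W (Y.erase y₀)) := by
    rw [← LinearMap.ker_eq_bot, LinearMap.ker_eq_bot']
    intro w hw
    have h1 : ρ W Y w = ((w : ι → k) y₀) • Pi.single y₀ 1 := by
      ext y
      by_cases hy : y = y₀
      · subst hy; simp [ρ_apply]
      · have hmem : (y : ι) ∈ Y.erase y₀ :=
          Finset.mem_erase.mpr ⟨fun h => hy (Subtype.ext h), y.2⟩
        have h5 := congrFun hw ⟨y, hmem⟩
        rw [ρ_apply] at h5
        simp only [ρ_apply, Pi.smul_apply, Pi.single_apply, hy, if_false, smul_zero]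
        exact h5
    have h2 : f (ρ W Y w) = 0 := hfker ⟨w, rfl⟩
    rw [h1, map_smul, smul_eq_mul] at h2
    have h3 : (w : ι → k) y₀ = 0 := (mul_eq_zero.mp h2).resolve_right hy₀
    have h4 : ρ W Y w = 0 := by rw [h1, h3, zero_smul]
    exact hY (h4.trans (map_zero _).symm)
  have := hmin (Y.erase y₀) hinj'
  have hc : (Y.erase y₀).card < Y.card := Finset.card_erase_lt_of_mem y₀.2
  omega


theorem general {σ : Type*} (pt : ι → σ → k) (n m : ℕ) (hm : m ≤ n)
    (hCB : ∀ i, ∀ p : MvPolynomial σ k, p.IsHomogeneous n →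
      (∀ j, j ≠ i → MvPolynomial.eval (pt j) p = 0) → MvPolynomial.eval (pt i) p = 0)
    (hno : ¬ ∃ s : MvPolynomial σ k, s.IsHomogeneous (n - m) ∧ s ≠ 0 ∧
      ∀ i, MvPolynomial.eval (pt i) s = 0) :
    Module.finrank k (LinearMap.range
        ((LinearMap.pi fun i : ι => (MvPolynomial.aeval (R := k) (pt i)).toLinearMap) ∘ₗ
          (MvPolynomial.homogeneousSubmodule σ k m).subtype)) +
      Module.finrank k ↥(MvPolynomial.homogeneousSubmodule σ k (n - m)) ≤ Fintype.card ι := by
  classical
  obtain ⟨W, hW⟩ : ∃ W : Submodule k (ι → k), W = LinearMap.range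
        ((LinearMap.pi fun i : ι => (MvPolynomial.aeval (R := k) (pt i)).toLinearMap) ∘ₗ
          (MvPolynomial.homogeneousSubmodule σ k m).subtype) := ⟨_, rfl⟩
  rw [← hW]
  obtain ⟨Y, hYinj, hYsurj⟩ := exists_coord_subset W
  have hr : Module.finrank k W = Y.card := by
    have := LinearEquiv.finrank_eq (LinearEquiv.ofBijective (ρ W Y) ⟨hYinj, hYsurj⟩)
    rw [this, Module.finrank_fintype_fun_eq_card, Fintype.card_coe]
  let ev' : MvPolynomial.homogeneousSubmodule σ k (n - m) →ₗ[k] ({i : ι // i ∉ Y} → k) :=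
    (LinearMap.pi fun i : {i : ι // i ∉ Y} =>
      (MvPolynomial.aeval (R := k) (pt i)).toLinearMap) ∘ₗ
      (MvPolynomial.homogeneousSubmodule σ k (n - m)).subtype
  have hev' : ∀ (g : MvPolynomial.homogeneousSubmodule σ k (n - m)) (i : {i : ι // i ∉ Y}),
      ev' g i = MvPolynomial.eval (pt i) g.1 := by
    intro g i
    simp [ev', MvPolynomial.aeval_eq_eval]
  have hinj : Function.Injective ev' := by
    rw [← LinearMap.ker_eq_bot, LinearMap.ker_eq_bot']
    intro g hg
    have hg0 : ∀ i, i ∉ Y → MvPolynomial.eval (pt i) g.1 = 0 := fun i hi => by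
      have := congrFun hg ⟨i, hi⟩
      rw [hev'] at this
      exact this
    have hgY : ∀ y ∈ Y, MvPolynomial.eval (pt y) g.1 = 0 := by
      intro y hy
      obtain ⟨w, hw⟩ := hYsurj (Pi.single ⟨y, hy⟩ 1)
      have hwW : (w : ι → k) ∈ LinearMap.range
        ((LinearMap.pi fun i : ι => (MvPolynomial.aeval (R := k) (pt i)).toLinearMap) ∘ₗ
          (MvPolynomial.homogeneousSubmodule σ k m).subtype) := hW ▸ w.2
      obtain ⟨f, hf⟩ := hwW
      have hfi : ∀ i, MvPolynomial.eval (pt i) f.1 = (w : ι → k) i := by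
        intro i
        rw [← hf]
        simp [MvPolynomial.aeval_eq_eval]
      have hfg : (f.1 * g.1).IsHomogeneous n := by
        have h1 : f.1.IsHomogeneous m := (MvPolynomial.mem_homogeneousSubmodule _ _).mp f.2
        have h2 : g.1.IsHomogeneous (n - m) := (MvPolynomial.mem_homogeneousSubmodule _ _).mp g.2
        have := h1.mul h2
        rwa [Nat.add_sub_cancel' hm] at this
      have hfy : MvPolynomial.eval (pt y) f.1 = 1 := by
        have := congrFun hw ⟨y, hy⟩
        rw [ρ_apply, Pi.single_eq_same] at this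
        rw [hfi]; exact this
      have hcb := hCB y (f.1 * g.1) hfg ?_
      · rw [map_mul, hfy, one_mul] at hcb
        exact hcb
      · intro j hj
        rw [map_mul]
        by_cases hjY : j ∈ Y
        · have := congrFun hw ⟨j, hjY⟩
          rw [ρ_apply, Pi.single_eq_of_ne (fun h => hj (congrArg Subtype.val h))] at this
          rw [hfi, this, zero_mul]
        · rw [hg0 j hjY, mul_zero]
    by_contra hne
    refine hno ⟨g.1, (MvPolynomial.mem_homogeneousSubmodule _ _).mp g.2,
      fun h => hne (Subtype.ext h), fun i => ?_⟩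
    by_cases hi : i ∈ Y
    · exact hgY i hi
    · exact hg0 i hi
  have hle := LinearMap.finrank_le_finrank_of_injective hinj
  rw [Module.finrank_fintype_fun_eq_card, Fintype.card_subtype_compl, Fintype.card_coe] at hle
  have hYle : Y.card ≤ Fintype.card ι := Finset.card_le_univ Y
  omega

universe u

theorem main (k : Type u) [Field k] [IsAlgClosed k] [CharZero k]
    (Z : Finset (Projectivization k (Fin 4 → k))) (n : ℕ)
    (hCB : (∀ z ∈ Z, ∀ p : MvPolynomial (Fin 4) k, p.IsHomogeneous n →
      (∀ z' ∈ Z, z' ≠ z → MvPolynomial.eval z'.rep p = 0) → MvPolynomial.eval z.rep p = 0))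
    (m : ℕ) (hm : m ≤ n) :
    (∃ s : MvPolynomial (Fin 4) k, s.IsHomogeneous (n - m) ∧ s ≠ 0 ∧ ∀ z ∈ Z, MvPolynomial.eval z.rep s = 0) ∨
      Module.finrank k (LinearMap.range
          ((LinearMap.pi fun z : ↥Z => (MvPolynomial.aeval (R := k) z.1.rep).toLinearMap) ∘ₗ
            (MvPolynomial.homogeneousSubmodule (Fin 4) k m).subtype)) +
        Module.finrank k ↥(MvPolynomial.homogeneousSubmodule (Fin 4) k (n - m)) ≤ Z.card := by
  classical
  by_cases hex : ∃ s : MvPolynomial (Fin 4) k, s.IsHomogeneous (n - m) ∧ s ≠ 0 ∧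
      ∀ z ∈ Z, MvPolynomial.eval z.rep s = 0
  · exact Or.inl hex
  · right
    have := general (ι := ↥Z) (fun z : ↥Z => z.1.rep) n m hm ?_ ?_
    · rwa [Fintype.card_coe] at this
    · intro i p hp hj
      exact hCB i.1 i.2 p hp
        (fun z' hz' hne => hj ⟨z', hz'⟩ (fun h => hne (congrArg Subtype.val h)))
    · rintro ⟨s, hs, hs0, hsz⟩
      exact hex ⟨s, hs, hs0, fun z hz => hsz ⟨z, hz⟩⟩

end Groth.Agent.Lib.Helper26.CayleyBach
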