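import Mathlib

namespace Groth.Agent.Lib.Helper26.ChainWeight

set_option maxHeartbeats 400000

lemma full_chain (p : ℕ → ℝ) (m : ℕ) :
    ∑ k ∈ Finset.range m, (p k - p (k + 1)) * ((k : ℝ) + ((k + 1 : ℕ) : ℝ))
      = 2 * ∑ i ∈ Finset.range (m + 1), p i - p 0 - (2 * m + 1) * p m := by
  induction m with
  | zero => simp; ring
  | succ m ih =>
    rw [Finset.sum_range_succ, ih, Finset.sum_range_succ _ (m + 1)]
    push_cast
    ring

theorem main (n : ℕ) (hn : 1 ≤ n) (p : ℕ → ℝ) (hpn : p n = 0) :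
    ∃ (l : ℕ) (s : ℕ → ℕ), s 0 = 0 ∧ s l = n ∧ (∀ k : ℕ, k < l → s k < s (k + 1)) ∧
      (∑ k ∈ Finset.range l, (p (s k) - p (s (k + 1))) * ((s k : ℝ) + (s (k + 1) : ℝ))) ≤
        2 * (n : ℝ) / ((n : ℝ) + 1) * ∑ i ∈ Finset.range (n + 1), p i := by
  set S := ∑ i ∈ Finset.range (n + 1), p i with hS
  have hn1 : (0 : ℝ) < (n : ℝ) + 1 := by positivity
  have hn0 : (0 : ℝ) < (n : ℝ) := by exact_mod_cast hn
  by_cases hcase : p 0 * ((n : ℝ) + 1) ≤ 2 * S
  · -- trivial chain
    refine ⟨1, fun k => if k = 0 then 0 else n, by simp, by simp, ?_, ?_⟩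
    · intro k hk
      have : k = 0 := by omega
      subst this
      simp
      omega
    · simp only [Finset.range_one, Finset.sum_singleton, if_true, zero_add, one_ne_zero, if_false,
        hpn, sub_zero, Nat.cast_zero]
      rw [div_mul_eq_mul_div, le_div_iff₀ hn1]
      nlinarith
  · push Not at hcase
    refine ⟨n, fun k => k, rfl, rfl, fun k _ => Nat.lt_succ_self k, ?_⟩
    have := full_chain p n
    simp only at this ⊢
    rw [this, hpn, mul_zero, sub_zero, div_mul_eq_mul_div, le_div_iff₀ hn1]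
    nlinarith

end Groth.Agent.Lib.Helper26.ChainWeight
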