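import Mathlib

set_option autoImplicit false

namespace Groth.Agent.Lib.Helper26.CharIdem

open Finset

variable {G : Type*} [CommGroup G] [Fintype G] {R : Type*} [CommRing R]

lemma sum_pow_eq_zero (χ : G →* Rˣ) (k : ℕ) (g₀ : G)
    (h : IsUnit (((χ g₀ : Rˣ) : R) ^ k - 1)) :
    ∑ g : G, ((χ g : Rˣ) : R) ^ k = 0 := by
  have h1 : ∑ g : G, ((χ (g₀ * g) : Rˣ) : R) ^ k = ∑ g : G, ((χ g : Rˣ) : R) ^ k :=
    Fintype.sum_equiv (Equiv.mulLeft g₀) _ _ (fun g => rfl)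
  have h2 : ∑ g : G, ((χ (g₀ * g) : Rˣ) : R) ^ k
      = ((χ g₀ : Rˣ) : R) ^ k * ∑ g : G, ((χ g : Rˣ) : R) ^ k := by
    rw [Finset.mul_sum]
    refine Finset.sum_congr rfl fun g _ => ?_
    rw [map_mul, Units.val_mul, mul_pow]
  have h3 : (((χ g₀ : Rˣ) : R) ^ k - 1) * ∑ g : G, ((χ g : Rˣ) : R) ^ k = 0 := by
    rw [sub_mul, one_mul, ← h2, h1, sub_self]
  exact (h.mul_right_eq_zero).1 h3

/-- The unnormalised character sums. -/
noncomputable def E (χ : G →* Rˣ) (i : ℕ) : MonoidAlgebra R G :=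
  ∑ m : G, ((χ m⁻¹ : Rˣ) : R) ^ i • MonoidAlgebra.of R G m

lemma of_mul_E (χ : G →* Rˣ) (i : ℕ) (t : G) :
    MonoidAlgebra.of R G t * E χ i = ((χ t : Rˣ) : R) ^ i • E χ i := by
  unfold E
  rw [Finset.mul_sum, Finset.smul_sum]
  refine Fintype.sum_equiv (Equiv.mulLeft t) _ _ (fun m => ?_)
  show MonoidAlgebra.of R G t * (((χ m⁻¹ : Rˣ) : R) ^ i • MonoidAlgebra.of R G m)
    = ((χ t : Rˣ) : R) ^ i • (((χ (t * m)⁻¹ : Rˣ) : R) ^ i • MonoidAlgebra.of R G (t * m))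
  rw [mul_smul_comm, ← map_mul, smul_smul]
  congr 1
  rw [← mul_pow, ← Units.val_mul, ← map_mul]
  congr 3
  rw [mul_inv_rev, mul_comm m⁻¹, mul_inv_cancel_left]

lemma E_mul_E (χ : G →* Rˣ) (j i : ℕ) :
    E χ j * E χ i
      = (∑ t : G, ((χ t⁻¹ : Rˣ) : R) ^ j * ((χ t : Rˣ) : R) ^ i) • E χ i := by
  conv_lhs => rw [E]
  rw [Finset.sum_mul, Finset.sum_smul]
  refine Finset.sum_congr rfl fun t _ => ?_
  rw [smul_mul_assoc, of_mul_E, smul_smul]

omit [Fintype G] in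
lemma inv_mul_self (χ : G →* Rˣ) (t : G) :
    ((χ t⁻¹ : Rˣ) : R) * ((χ t : Rˣ) : R) = 1 := by
  rw [← Units.val_mul, ← map_mul, inv_mul_cancel, map_one, Units.val_one]

variable [IsCyclic G]

lemma sum_pow_eq_zero' (χ : G →* Rˣ)
    (hχ : ∀ m : G, m ≠ 1 → IsUnit (((χ m : Rˣ) : R) - 1)) (k : ℕ) (hk : 0 < k)
    (hk' : k < Fintype.card G) :
    ∑ g : G, ((χ g : Rˣ) : R) ^ k = 0 := by
  obtain ⟨g₀, hg₀⟩ := IsCyclic.exists_generator (α := G)
  have hord : orderOf g₀ = Fintype.card G := by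
    rw [← Nat.card_eq_fintype_card]
    exact orderOf_eq_card_of_forall_mem_zpowers hg₀
  have hne : g₀ ^ k ≠ 1 := pow_ne_one_of_lt_orderOf hk.ne' (hord ▸ hk')
  refine sum_pow_eq_zero χ k g₀ ?_
  have := hχ _ hne
  rwa [map_pow, Units.val_pow_eq_pow_val] at this

lemma sum_inv_pow_eq_zero' (χ : G →* Rˣ)
    (hχ : ∀ m : G, m ≠ 1 → IsUnit (((χ m : Rˣ) : R) - 1)) (k : ℕ) (hk : 0 < k)
    (hk' : k < Fintype.card G) :
    ∑ g : G, ((χ g⁻¹ : Rˣ) : R) ^ k = 0 := by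
  rw [← sum_pow_eq_zero' χ hχ k hk hk']
  exact Fintype.sum_equiv (Equiv.inv G) _ _ (fun g => rfl)

lemma scalar_eq (χ : G →* Rˣ)
    (hχ : ∀ m : G, m ≠ 1 → IsUnit (((χ m : Rˣ) : R) - 1)) (j i : ℕ)
    (hj : j < Fintype.card G) (hi : i < Fintype.card G) :
    (∑ t : G, ((χ t⁻¹ : Rˣ) : R) ^ j * ((χ t : Rˣ) : R) ^ i)
      = if j = i then (Fintype.card G : R) else 0 := by
  split_ifs with h
  · subst h
    simp_rw [← mul_pow, inv_mul_self, one_pow]
    simp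
  · rcases lt_or_gt_of_ne h with h | h
    · -- j < i
      rw [← sum_pow_eq_zero' χ hχ (i - j) (Nat.sub_pos_of_lt h) (lt_of_le_of_lt (Nat.sub_le _ _) hi)]
      refine Finset.sum_congr rfl fun t _ => ?_
      obtain ⟨d, rfl⟩ := Nat.exists_eq_add_of_lt h
      rw [show j + d + 1 - j = d + 1 by omega, show j + d + 1 = j + (d + 1) by ring, pow_add,
        ← mul_assoc, ← mul_pow, inv_mul_self, one_pow, one_mul]
    · rw [← sum_inv_pow_eq_zero' χ hχ (j - i) (Nat.sub_pos_of_lt h)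
        (lt_of_le_of_lt (Nat.sub_le _ _) hj)]
      refine Finset.sum_congr rfl fun t _ => ?_
      obtain ⟨d, rfl⟩ := Nat.exists_eq_add_of_lt h
      rw [show i + d + 1 - i = d + 1 by omega, show i + d + 1 = (d + 1) + i by ring, pow_add,
        mul_assoc, ← mul_pow, inv_mul_self, one_pow, mul_one]

theorem complete (χ : G →* Rˣ)
    (hχ : ∀ m : G, m ≠ 1 → IsUnit (((χ m : Rˣ) : R) - 1)) (u : R)
    (hu : u * (Fintype.card G : R) = 1) :
    CompleteOrthogonalIdempotents (fun i : Fin (Fintype.card G) => u • E χ (i : ℕ)) where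
  idem i := by
    show (u • E χ (i : ℕ)) * (u • E χ (i : ℕ)) = u • E χ (i : ℕ)
    rw [smul_mul_smul_comm, E_mul_E, scalar_eq χ hχ _ _ i.2 i.2, if_pos rfl, smul_smul,
      mul_assoc, hu, mul_one]
  ortho := by
    intro i j hij
    show (u • E χ (i : ℕ)) * (u • E χ (j : ℕ)) = 0
    rw [smul_mul_smul_comm, E_mul_E, scalar_eq χ hχ _ _ i.2 j.2,
      if_neg (fun h => hij (Fin.ext h)), zero_smul, smul_zero]
  complete := by
    classical
    show ∑ i : Fin (Fintype.card G), u • E χ (i : ℕ) = 1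
    rw [← Finset.smul_sum, Fin.sum_univ_eq_sum_range (fun i => E χ i)]
    simp only [E]
    rw [Finset.sum_comm]
    simp_rw [← Finset.sum_smul]
    rw [Finset.sum_eq_single (1 : G)]
    · simp only [inv_one, map_one, Units.val_one, one_pow, Finset.sum_const, Finset.card_range,
        nsmul_eq_mul, mul_one]
      rw [smul_smul, hu, one_smul]
    · intro m _ hm
      have hm' : m⁻¹ ≠ 1 := by simpa using hm
      have hunit := hχ _ hm'
      have hgeom := geom_sum_mul ((χ m⁻¹ : Rˣ) : R) (Fintype.card G)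
      have hpow : ((χ m⁻¹ : Rˣ) : R) ^ Fintype.card G = 1 := by
        rw [← Units.val_pow_eq_pow_val, ← map_pow, pow_card_eq_one, map_one, Units.val_one]
      rw [hpow, sub_self] at hgeom
      rw [(hunit.mul_left_eq_zero).1 hgeom, zero_smul]
    · intro h; exact absurd (Finset.mem_univ _) h

end Groth.Agent.Lib.Helper26.CharIdem
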