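import Mathlib

namespace Groth.Agent.Lib.Helper26.CharSplit

universe u

set_option linter.unusedSectionVars false
set_option linter.style.haveILetI false

open TensorProduct

theorem main {R : Type u} [CommRing R] {M N : Type u}
    [AddCommGroup M] [Module R M] [AddCommGroup N] [Module R N] (f : M →ₗ[R] N) :
    (∀ (P : Type u) [AddCommGroup P] [Module R P], Function.Injective (f.lTensor P)) ↔
      ∃ g : CharacterModule M →ₗ[R] CharacterModule N,
        (CharacterModule.dual f).comp g = LinearMap.id := by
  constructor
  · intro h
    have hinj := h (CharacterModule M)
    have hsurj := (CharacterModule.dual_surjective_iff_injective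
      (f := f.lTensor (CharacterModule M))).mpr hinj
    obtain ⟨c, hc⟩ := hsurj (CharacterModule.uncurry (LinearMap.id : CharacterModule M →ₗ[R] _))
    refine ⟨CharacterModule.curry c, ?_⟩
    ext χ m
    have := congrArg (fun d : CharacterModule (CharacterModule M ⊗[R] M) => d (χ ⊗ₜ m)) hc
    exact this
  · rintro ⟨g, hg⟩ P _ _
    rw [← CharacterModule.dual_surjective_iff_injective]
    intro c'
    refine ⟨CharacterModule.uncurry (g.comp (CharacterModule.curry c')), ?_⟩
    ext x
    induction x using TensorProduct.induction_on with
    | zero => simp
    | tmul p m =>
      have h1 := LinearMap.congr_fun hg (CharacterModule.curry c' p)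
      have h2 := congrArg (fun d : CharacterModule M => d m) h1
      exact h2
    | add x y hx hy => simp only [map_add, hx, hy]

end Groth.Agent.Lib.Helper26.CharSplit
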