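import Mathlib

set_option autoImplicit false
set_option maxHeartbeats 400000
universe u
open CategoryTheory TopologicalSpace Opposite Topology

namespace Groth.Agent.Lib.Helper26.ClosedEmbSheaf

variable {Z X : TopCat.{u}} {i : Z ⟶ X}

lemma map_map_thin {T : TopCat.{u}} (P : TopCat.Presheaf (Type u) T) {A B C : (Opens T)ᵒᵖ}
    (a : A ⟶ B) (b : B ⟶ C) (c : A ⟶ C) (s : P.obj A) : P.map b (P.map a s) = P.map c s := by
  rw [← FunctorToTypes.map_comp_apply]
  congr 2

lemma map_thin {T : TopCat.{u}} (P : TopCat.Presheaf (Type u) T) {A B : (Opens T)ᵒᵖ}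
    (a c : A ⟶ B) (s : P.obj A) : P.map a s = P.map c s := by
  rw [Subsingleton.elim a c]

section FF
variable (hi : IsInducing i) {F G : Z.Sheaf (Type u)}

/-- the preimage of the largest open with preimage `V`. -/
lemma map_fO (V : Opens Z) : (Opens.map i).obj (hi.functorObj V) = V := hi.map_functorObj V

/-- components of the descended morphism. -/
noncomputable def descApp
    (φ : (TopCat.Sheaf.pushforward (Type u) i).obj F ⟶ (TopCat.Sheaf.pushforward (Type u) i).obj G)
    (V : (Opens Z)ᵒᵖ) : F.presheaf.obj V ⟶ G.presheaf.obj V :=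
  F.presheaf.map (homOfLE (map_fO hi V.unop).le).op ≫ φ.hom.app (op (hi.functorObj V.unop)) ≫
    G.presheaf.map (homOfLE (map_fO hi V.unop).ge).op

lemma descApp_apply
    (φ : (TopCat.Sheaf.pushforward (Type u) i).obj F ⟶ (TopCat.Sheaf.pushforward (Type u) i).obj G)
    (V : (Opens Z)ᵒᵖ) (s : F.presheaf.obj V) :
    descApp hi φ V s = G.presheaf.map (homOfLE (map_fO hi V.unop).ge).op
      (φ.hom.app (op (hi.functorObj V.unop)) (F.presheaf.map (homOfLE (map_fO hi V.unop).le).op s)) := rfl

/-- naturality of `φ` in elementwise form, for opens `U' ≤ U` of `X`. -/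
lemma φ_nat
    (φ : (TopCat.Sheaf.pushforward (Type u) i).obj F ⟶ (TopCat.Sheaf.pushforward (Type u) i).obj G)
    {U U' : Opens X} (h : U' ≤ U) (t : F.presheaf.obj (op ((Opens.map i).obj U))) :
    φ.hom.app (op U') (F.presheaf.map ((Opens.map i).map (homOfLE h)).op t) =
      G.presheaf.map ((Opens.map i).map (homOfLE h)).op (φ.hom.app (op U) t) :=
  FunctorToTypes.naturality φ.hom (homOfLE h).op t

/-- descend a morphism of pushforwards along an inducing map. -/
noncomputable def desc
    (φ : (TopCat.Sheaf.pushforward (Type u) i).obj F ⟶ (TopCat.Sheaf.pushforward (Type u) i).obj G) :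
    F ⟶ G where
  hom :=
    { app := descApp hi φ
      naturality := by
        intro V W f
        ext s
        change descApp hi φ W (F.presheaf.map f s) = G.presheaf.map f (descApp hi φ V s)
        rw [descApp_apply, descApp_apply]
        have hle : hi.functorObj W.unop ≤ hi.functorObj V.unop := (hi.functor.map f.unop).le
        rw [map_map_thin F.presheaf f _ ((homOfLE (map_fO hi V.unop).le).op ≫
          ((Opens.map i).map (homOfLE hle)).op) s]
        rw [FunctorToTypes.map_comp_apply, φ_nat φ hle]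
        exact (map_map_thin G.presheaf _ _ ((homOfLE (map_fO hi V.unop).ge).op ≫ f) _).trans
          (map_map_thin G.presheaf _ _ ((homOfLE (map_fO hi V.unop).ge).op ≫ f) _).symm }

lemma descApp_map
    (φ : (TopCat.Sheaf.pushforward (Type u) i).obj F ⟶ (TopCat.Sheaf.pushforward (Type u) i).obj G)
    (U : Opens X) (s : F.presheaf.obj (op ((Opens.map i).obj U))) :
    descApp hi φ (op ((Opens.map i).obj U)) s = φ.hom.app (op U) s := by
  rw [descApp_apply]
  have hle : U ≤ hi.functorObj ((Opens.map i).obj U) := hi.le_functorObj_iff.mpr le_rfl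
  have h1 := φ_nat φ hle (F.presheaf.map (homOfLE (map_fO hi ((Opens.map i).obj U)).le).op s)
  rw [map_map_thin F.presheaf _ _ (𝟙 _) s, FunctorToTypes.map_id_apply] at h1
  rw [h1]
  exact map_thin G.presheaf _ _ _

lemma pushforward_map_desc
    (φ : (TopCat.Sheaf.pushforward (Type u) i).obj F ⟶ (TopCat.Sheaf.pushforward (Type u) i).obj G) :
    (TopCat.Sheaf.pushforward (Type u) i).map (desc hi φ) = φ := by
  apply Sheaf.hom_ext
  ext U s
  obtain ⟨U⟩ := U
  exact descApp_map hi φ U s

lemma desc_pushforward_map (α : F ⟶ G) :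
    desc hi ((TopCat.Sheaf.pushforward (Type u) i).map α) = α := by
  apply Sheaf.hom_ext
  ext V s
  change descApp hi ((TopCat.Sheaf.pushforward (Type u) i).map α) V s = α.hom.app V s
  rw [descApp_apply]
  change G.presheaf.map _ (α.hom.app _ (F.presheaf.map _ s)) = _
  rw [FunctorToTypes.naturality, map_map_thin G.presheaf _ _ (𝟙 _), FunctorToTypes.map_id_apply]

include hi in
lemma full_pushforward : (TopCat.Sheaf.pushforward (Type u) i).Full where
  map_surjective φ := ⟨desc hi φ, pushforward_map_desc hi φ⟩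

include hi in
lemma faithful_pushforward : (TopCat.Sheaf.pushforward (Type u) i).Faithful where
  map_injective {F G α β} h := by
    rw [← desc_pushforward_map hi α, ← desc_pushforward_map hi β, h]

end FF

section Stalk

lemma unique_sections_of_eq_bot (F : Z.Sheaf (Type u)) {V : Opens Z} (h : V = ⊥) :
    Nonempty (Unique (F.presheaf.obj (op V))) :=
  ⟨(Limits.Types.isTerminalEquivUnique _) (F.isTerminalOfEqEmpty h)⟩

/-- if all sections over opens inside `W` are unique, stalks at points of `W` are singletons. -/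
lemma unique_stalk_of_unique_sections (P : TopCat.Presheaf (Type u) X) (W : Opens X)
    (hW : ∀ V : Opens X, V ≤ W → Nonempty (Unique (P.obj (op V)))) (x : X) (hx : x ∈ W) :
    Nonempty (Unique (P.stalk x)) := by
  obtain ⟨uW⟩ := hW W le_rfl
  refine ⟨⟨⟨P.germ W x hx uW.default⟩, ?_⟩⟩
  intro t
  obtain ⟨V, hV, hxV, s, rfl⟩ := P.exists_le_germ_eq t hx
  obtain ⟨uV⟩ := hW V hV
  refine P.germ_ext V hxV (𝟙 _) (homOfLE hV) ?_
  exact (uV.uniq _).trans (uV.uniq _).symm

lemma unique_stalk_pushforward (hi : IsClosedEmbedding i) (F : Z.Sheaf (Type u)) (x : X)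
    (hx : x ∉ Set.range i) :
    Nonempty (Unique (((TopCat.Sheaf.pushforward (Type u) i).obj F).presheaf.stalk x)) := by
  refine unique_stalk_of_unique_sections _ ⟨(Set.range i)ᶜ, hi.isClosed_range.isOpen_compl⟩ ?_ x hx
  intro V hV
  have : (Opens.map i).obj V = ⊥ := by
    ext z
    simp only [Opens.coe_bot, Set.mem_empty_iff_false, iff_false]
    intro hz
    exact hV hz ⟨z, rfl⟩
  exact unique_sections_of_eq_bot F this

end Stalk

theorem s7572 (i : Z ⟶ X) (hi : Topology.IsClosedEmbedding i)
    (F : Z.Sheaf (Type u)) :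
    (∀ x : X, x ∉ Set.range i →
      Nonempty (Unique (((TopCat.Sheaf.pushforward (Type u) i).obj F).presheaf.stalk x))) ∧
    IsIso ((TopCat.Sheaf.pullbackPushforwardAdjunction (Type u) i).counit.app F) := by
  refine ⟨fun x hx => unique_stalk_pushforward hi F x hx, ?_⟩
  haveI := full_pushforward hi.isInducing
  haveI := faithful_pushforward hi.isInducing
  infer_instance

end Groth.Agent.Lib.Helper26.ClosedEmbSheaf
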