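import Mathlib
import Groth.Agent.Lib.Helper26.ClosedEmbSheaf

set_option autoImplicit false
set_option maxHeartbeats 400000
universe u
open CategoryTheory TopologicalSpace Opposite Topology TopCat.Presheaf

namespace Groth.Agent.Lib.Helper26.ClosedEmbSheaf2

open Groth.Agent.Lib.Helper26.ClosedEmbSheaf

variable {Z X : TopCat.{u}} {i : Z ⟶ X}

/-- a sheaf with singleton stalks on an open `W` has unique sections over opens inside `W`. -/
lemma unique_sections_of_unique_stalks (G : X.Sheaf (Type u)) (W : Opens X)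
    (hW : ∀ x ∈ W, Nonempty (Unique (G.presheaf.stalk x))) (V : Opens X) (hV : V ≤ W) :
    Nonempty (Unique (G.presheaf.obj (op V))) := by
  have hsub : ∀ (V' : Opens X), V' ≤ W → ∀ s t : G.presheaf.obj (op V'), s = t := by
    intro V' hV' s t
    apply TopCat.Presheaf.section_ext G V' s t
    intro x hx
    obtain ⟨u⟩ := hW x (hV' hx)
    exact (u.uniq _).trans (u.uniq _).symm
  -- existence by gluing
  have hex : ∀ x : V, ∃ (Vx : Opens X), Vx ≤ V ∧ x.1 ∈ Vx ∧ Nonempty (G.presheaf.obj (op Vx)) := by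
    intro x
    obtain ⟨u⟩ := hW x.1 (hV x.2)
    obtain ⟨Vx, hle, hx, s, -⟩ := G.presheaf.exists_le_germ_eq u.default x.2
    exact ⟨Vx, hle, hx, ⟨s⟩⟩
  choose Vx hle hx hs using hex
  let sf : ∀ x : V, G.presheaf.obj (op (Vx x)) := fun x => (hs x).some
  have hcomp : IsCompatible G.1 Vx sf := by
    intro x y
    exact hsub _ (inf_le_left.trans ((hle x).trans hV)) _ _
  obtain ⟨s, -, -⟩ := G.existsUnique_gluing' Vx V (fun x => homOfLE (hle x))
    (by intro x hxV; exact Opens.mem_iSup.mpr ⟨⟨x, hxV⟩, hx ⟨x, hxV⟩⟩) sf hcomp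
  exact ⟨⟨⟨s⟩, fun t => hsub V hV t s⟩⟩

/-- gluing over a cover up to an open set over which all sections are unique. -/
lemma glue_with_trivial (G : X.Sheaf (Type u)) (W₀ : Opens X)
    (hW₀ : ∀ V : Opens X, V ≤ W₀ → Nonempty (Unique (G.presheaf.obj (op V))))
    {ι : Type u} (U : ι → Opens X) (T : Opens X) (hUT : ∀ j, U j ≤ T) (hT : T ≤ iSup U ⊔ W₀)
    (sf : ∀ j, G.presheaf.obj (op (U j))) (hcomp : IsCompatible G.1 U sf) :
    ∃! s : G.presheaf.obj (op T), ∀ j, G.presheaf.map (homOfLE (hUT j)).op s = sf j := by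
  let U' : Option ι → Opens X := fun o => o.elim (T ⊓ W₀) U
  have hU'T : ∀ o, U' o ≤ T := by
    rintro (_ | j)
    · exact inf_le_left
    · exact hUT j
  obtain ⟨u₀⟩ := hW₀ (T ⊓ W₀) inf_le_right
  let sf' : ∀ o, G.presheaf.obj (op (U' o)) := fun o =>
    match o with
    | none => u₀.default
    | some j => sf j
  have hsub : ∀ (V' : Opens X), V' ≤ W₀ → ∀ s t : G.presheaf.obj (op V'), s = t := by
    intro V' hV' s t
    obtain ⟨u⟩ := hW₀ V' hV'
    exact (u.uniq _).trans (u.uniq _).symm
  have hcomp' : IsCompatible G.1 U' sf' := by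
    rintro (_ | j) (_ | k)
    · exact hsub _ (inf_le_left.trans inf_le_right) _ _
    · exact hsub _ (inf_le_left.trans inf_le_right) _ _
    · exact hsub _ (inf_le_right.trans inf_le_right) _ _
    · exact hcomp j k
  have hcover : T ≤ iSup U' := by
    intro x hx
    rcases hT hx with h | h
    · obtain ⟨j, hj⟩ := Opens.mem_iSup.mp h
      exact Opens.mem_iSup.mpr ⟨some j, hj⟩
    · exact Opens.mem_iSup.mpr ⟨none, ⟨hx, h⟩⟩
  obtain ⟨s, hs, hs'⟩ := G.existsUnique_gluing' U' T (fun o => homOfLE (hU'T o)) hcover sf' hcomp'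
  refine ⟨s, fun j => hs (some j), ?_⟩
  intro t ht
  apply hs'
  rintro (_ | j)
  · exact hsub _ inf_le_right _ _
  · exact ht j

section Closed
variable (hi : IsClosedEmbedding i)

/-- the open complement of the range. -/
def U₀ : Opens X := ⟨(Set.range i)ᶜ, hi.isClosed_range.isOpen_compl⟩

lemma mem_U₀ {x : X} : x ∈ U₀ hi ↔ x ∉ Set.range i := Iff.rfl

lemma fO_iSup_le {ι : Type u} (V : ι → Opens Z) :
    hi.isInducing.functorObj (iSup V) ≤ (⨆ j, hi.isInducing.functorObj (V j)) ⊔ U₀ hi := by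
  intro x hx
  by_cases hxr : x ∈ Set.range i
  · obtain ⟨z, rfl⟩ := hxr
    left
    rw [hi.isInducing.mem_functorObj_iff] at hx
    obtain ⟨j, hj⟩ := Opens.mem_iSup.mp hx
    exact Opens.mem_iSup.mpr ⟨j, (hi.isInducing.mem_functorObj_iff _).mpr hj⟩
  · right
    exact hxr

lemma fO_map_le (U : Opens X) :
    hi.isInducing.functorObj ((Opens.map i).obj U) ≤ U ⊔ U₀ hi := by
  intro x hx
  by_cases hxr : x ∈ Set.range i
  · obtain ⟨z, rfl⟩ := hxr
    left
    rw [hi.isInducing.mem_functorObj_iff] at hx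
    exact hx
  · right
    exact hxr

lemma le_fO_map (U : Opens X) : U ≤ hi.isInducing.functorObj ((Opens.map i).obj U) :=
  hi.isInducing.le_functorObj_iff.mpr le_rfl

lemma fO_inf_le (V V' : Opens Z) :
    hi.isInducing.functorObj V ⊓ hi.isInducing.functorObj V' ≤ hi.isInducing.functorObj (V ⊓ V') := by
  rw [hi.isInducing.le_functorObj_iff]
  intro z hz
  exact ⟨(hi.isInducing.mem_functorObj_iff _).mp hz.1, (hi.isInducing.mem_functorObj_iff _).mp hz.2⟩

/-- the restriction of `G` to `Z`: `V ↦ G(fO V)`. -/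
noncomputable def res (G : X.Sheaf (Type u)) : TopCat.Presheaf (Type u) Z :=
  hi.isInducing.functor.op ⋙ G.presheaf

variable {G : X.Sheaf (Type u)}
  (hG : ∀ x : X, x ∉ Set.range i → Nonempty (Unique (G.presheaf.stalk x)))

include hG in
lemma unique_sections_U₀ (V : Opens X) (hV : V ≤ U₀ hi) :
    Nonempty (Unique (G.presheaf.obj (op V))) :=
  unique_sections_of_unique_stalks G (U₀ hi) (fun x hx => hG x hx) V hV

include hG in
lemma res_isSheaf : (res hi G).IsSheaf := by
  apply isSheaf_of_isSheafUniqueGluing_types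
  intro ι V sf hcomp
  -- compatible family for G over the opens fO (V j)
  let U : ι → Opens X := fun j => hi.isInducing.functorObj (V j)
  let sf' : ∀ j, G.presheaf.obj (op (U j)) := sf
  have hcomp' : IsCompatible G.1 U sf' := by
    intro j k
    have h := hcomp j k
    have h2 := congrArg (G.presheaf.map (homOfLE (fO_inf_le hi (V j) (V k))).op) h
    change G.presheaf.map _ (G.presheaf.map _ (sf j)) = G.presheaf.map _ (G.presheaf.map _ (sf k)) at h2
    have e1 := map_map_thin G.presheaf (A := op (U j)) (B := op (hi.isInducing.functorObj (V j ⊓ V k)))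
      (C := op (U j ⊓ U k)) (hi.isInducing.functor.map ((V j).infLELeft (V k))).op
      (homOfLE (fO_inf_le hi (V j) (V k))).op ((U j).infLELeft (U k)).op (sf j)
    have e2 := map_map_thin G.presheaf (A := op (U k)) (B := op (hi.isInducing.functorObj (V j ⊓ V k)))
      (C := op (U j ⊓ U k)) (hi.isInducing.functor.map ((V j).infLERight (V k))).op
      (homOfLE (fO_inf_le hi (V j) (V k))).op ((U j).infLERight (U k)).op (sf k)
    exact e1.symm.trans (h2.trans e2)
  have hUT : ∀ j, U j ≤ hi.isInducing.functorObj (iSup V) := fun j =>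
    (hi.isInducing.functor.map (Opens.leSupr V j)).le
  obtain ⟨s, hs, hs'⟩ := glue_with_trivial G (U₀ hi) (unique_sections_U₀ hi hG) U
    (hi.isInducing.functorObj (iSup V)) hUT (fO_iSup_le hi V) sf' hcomp'
  refine ⟨s, ?_, ?_⟩
  · intro j
    exact (map_thin G.presheaf _ _ s).trans (hs j)
  · intro t ht
    apply hs'
    intro j
    exact (map_thin G.presheaf _ _ t).trans (ht j)

/-- the restricted sheaf. -/
noncomputable def resSheaf : Z.Sheaf (Type u) := ⟨res hi G, res_isSheaf hi hG⟩

/-- the comparison `i_* (res G) ⟶ G`. -/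
noncomputable def θ : (TopCat.Sheaf.pushforward (Type u) i).obj (resSheaf hi hG) ⟶ G where
  hom :=
    { app := fun U => G.presheaf.map (homOfLE (le_fO_map hi U.unop)).op
      naturality := by
        intro U U' f
        ext s
        change G.presheaf.map _ (G.presheaf.map _ s) = G.presheaf.map _ (G.presheaf.map _ s)
        exact (map_map_thin G.presheaf _ _ ((homOfLE (le_fO_map hi U.unop)).op ≫ f) s).trans
          (map_map_thin G.presheaf _ _ ((homOfLE (le_fO_map hi U.unop)).op ≫ f) s).symm }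

include hG in
lemma θ_app_bijective (U : Opens X) :
    Function.Bijective (G.presheaf.map (homOfLE (le_fO_map hi U)).op) := by
  have key : ∀ s₀ : G.presheaf.obj (op U), ∃! s : G.presheaf.obj
      (op (hi.isInducing.functorObj ((Opens.map i).obj U))),
      G.presheaf.map (homOfLE (le_fO_map hi U)).op s = s₀ := by
    intro s₀
    obtain ⟨s, hs, hs'⟩ := glue_with_trivial G (U₀ hi) (unique_sections_U₀ hi hG)
      (fun _ : PUnit.{u+1} => U) (hi.isInducing.functorObj ((Opens.map i).obj U))
      (fun _ => le_fO_map hi U)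
      ((fO_map_le hi U).trans (sup_le_sup_right (le_iSup (fun _ : PUnit.{u+1} => U) PUnit.unit) _))
      (fun _ => s₀) (fun _ _ => rfl)
    exact ⟨s, hs PUnit.unit, fun t ht => hs' t (fun _ => ht)⟩
  constructor
  · intro s t hst
    obtain ⟨r, -, hr⟩ := key (G.presheaf.map (homOfLE (le_fO_map hi U)).op t)
    exact (hr s hst).trans (hr t rfl).symm
  · intro s₀
    obtain ⟨s, hs, -⟩ := key s₀
    exact ⟨s, hs⟩

lemma isIso_θ : IsIso (θ hi hG) := by
  have h1 : IsIso (θ hi hG).hom := by
    apply (config := { allowSynthFailures := true }) NatIso.isIso_of_isIso_app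
    intro U
    rw [isIso_iff_bijective]
    exact θ_app_bijective hi hG U.unop
  have h2 : IsIso ((TopCat.Sheaf.forget (Type u) X).map (θ hi hG)) := h1
  exact isIso_of_reflects_iso (θ hi hG) (TopCat.Sheaf.forget (Type u) X)

end Closed

theorem s7573 (i : Z ⟶ X) (hi : Topology.IsClosedEmbedding i) :
    (TopCat.Sheaf.pushforward (Type u) i).Full ∧ (TopCat.Sheaf.pushforward (Type u) i).Faithful ∧
    ∀ G : X.Sheaf (Type u), (TopCat.Sheaf.pushforward (Type u) i).essImage G ↔
      ∀ x : X, x ∉ Set.range i → Nonempty (Unique (G.presheaf.stalk x)) := by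
  refine ⟨full_pushforward hi.isInducing, faithful_pushforward hi.isInducing, fun G => ⟨?_, ?_⟩⟩
  · rintro ⟨F, ⟨e⟩⟩ x hx
    obtain ⟨u⟩ := unique_stalk_pushforward hi F x hx
    let e' := (TopCat.Presheaf.stalkFunctor (Type u) x).mapIso
      ((TopCat.Sheaf.forget (Type u) X).mapIso e)
    exact ⟨@Equiv.unique _ _ u e'.toEquiv.symm⟩
  · intro hG
    haveI := isIso_θ hi hG
    exact ⟨resSheaf hi hG, ⟨asIso (θ hi hG)⟩⟩

end Groth.Agent.Lib.Helper26.ClosedEmbSheaf2
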