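import Groth.Agent.Lib.Helper26.CoalgSimple

/-!
# Cosemisimple coalgebras: all comodules are semisimple (helper26)
-/

open TensorProduct

universe u v w w'

namespace Groth.Agent.Lib.Helper26.Comod

open HopfRep

section Emb

variable {k : Type u} [Field k] {A : Type v} [AddCommGroup A] [Module k A] [Coalgebra k A]
variable {V : Type w} [AddCommGroup V] [Module k V] [Comod k A V]

attribute [local instance] dualModule

theorem coact_injective : Function.Injective (Comod.coact (k := k) (A := A) (V := V)) := by
  intro v w h
  have hv := T_counit (k := k) (A := A) v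
  have hw := T_counit (k := k) (A := A) w
  rw [T_apply] at hv hw
  rw [← hv, ← hw, h]

/-- every comodule embeds in a direct sum of copies of the regular comodule -/
noncomputable def emb {J : Type*} [DecidableEq J] (b : Module.Basis J k V) : V →ₗ[Cd k A] (J →₀ A) where
  toFun v := TensorProduct.equivFinsuppOfBasisLeft b (Comod.coact (k := k) (A := A) v)
  map_add' v w := by rw [map_add, map_add]
  map_smul' φ v := by
    ext j
    rw [RingHom.id_apply, Finsupp.smul_apply, TensorProduct.equivFinsuppOfBasisLeft_apply,
      TensorProduct.equivFinsuppOfBasisLeft_apply]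
    exact (isComodHom_iff _).mp (isComodHom_Fmap (A := A) (b.coord j)) φ.ofConv v

theorem emb_injective {J : Type*} [DecidableEq J] (b : Module.Basis J k V) :
    Function.Injective (emb (A := A) b) := by
  intro v w h
  apply coact_injective (k := k) (A := A)
  exact (TensorProduct.equivFinsuppOfBasisLeft b).injective h

end Emb

section Cosemi

variable {k : Type u} [Field k] {A : Type v} [AddCommGroup A] [Module k A] [Coalgebra k A]

attribute [local instance] dualModule

theorem isSemisimpleModule_regular_of_decomposition {ι : Type*} (D : ι → Submodule k A)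
    (htop : iSup D = ⊤) (hD : ∀ i, IsSimpleSubcoalg (D i)) :
    IsSemisimpleModule (Cd k A) A := by
  apply IsSemisimpleModule.of_sSup_simples_eq_top
  rw [eq_top_iff]
  have h1 : (⊤ : Submodule (Cd k A) A) = ⨆ i, toD (D i) (hD i).2.1.isSubcomod := by
    apply Submodule.restrictScalars_injective k
    rw [Submodule.restrictScalars_iSup, Submodule.restrictScalars_top, ← htop]
    rfl
  rw [h1]
  apply iSup_le
  intro i
  rw [← socle_eq_of_isSimpleSubcoalg (hD i)]
  apply sSup_le_sSup
  rintro m ⟨_, hm⟩
  exact hm

theorem isSemisimpleComod_of_isSemisimpleModule_regular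
    (h : IsSemisimpleModule (Cd k A) A)
    (V : Type w) [AddCommGroup V] [Module k V] [Comod k A V] :
    IsSemisimpleComod k A V := by
  classical
  rw [isSemisimpleComod_iff]
  have b := Module.Free.chooseBasis k V
  exact IsSemisimpleModule.of_injective (emb (A := A) b) (emb_injective b)

end Cosemi

end Groth.Agent.Lib.Helper26.Comod
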