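import Groth.Agent.Lib.Helper26.ComodT
import Mathlib.Algebra.DirectSum.Module
import Mathlib.RingTheory.Flat.Basic
import Mathlib.LinearAlgebra.TensorProduct.RightExactness
import Mathlib.Algebra.Exact.Basic

/-!
# Decomposition of comodules along a decomposition of the coalgebra (helper26)
-/

open TensorProduct

universe u v w w'

namespace Groth.Agent.Lib.Helper26.Comod

open HopfRep

section General

variable {R : Type u} [CommRing R] {C : Type v} [AddCommGroup C] [Module R C] [Coalgebra R C]
variable {V : Type w'} [AddCommGroup V] [Module R V] [Comod R C V]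

/-- `T φ` on the regular comodule -/
noncomputable def TC (φ : C →ₗ[R] R) : C →ₗ[R] C :=
  slice φ ∘ₗ Coalgebra.comul

theorem TC_counit (c : C) : TC (Coalgebra.counit (R := R) (A := C)) c = c := by
  have h := Coalgebra.lTensor_counit_comul (R := R) c
  rw [TC, LinearMap.comp_apply, slice, LinearMap.comp_apply, h]
  simp

theorem coact_T (φ : C →ₗ[R] R) (v : V) :
    Comod.coact (k := R) (A := C) (T φ v) =
      (TC φ).lTensor V (Comod.coact (k := R) (A := C) v) := by
  have hco := LinearMap.congr_fun (Comod.coassoc (k := R) (A := C) (V := V)) v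
  simp only [LinearMap.comp_apply, LinearEquiv.coe_coe] at hco
  have h2 : ∀ y : V ⊗[R] C, slice φ ((TensorProduct.assoc R V C C).symm
      ((Coalgebra.comul (R := R) (A := C)).lTensor V y)) = (TC φ).lTensor V y := by
    intro y
    induction y using TensorProduct.induction_on with
    | zero => simp
    | tmul v' c =>
      rw [LinearMap.lTensor_tmul, LinearMap.lTensor_tmul, TC, LinearMap.comp_apply]
      generalize Coalgebra.comul (R := R) c = z
      induction z using TensorProduct.induction_on with
      | zero => simp
      | tmul a b => simp [TensorProduct.smul_tmul']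
      | add x y hx hy => simp only [TensorProduct.tmul_add, map_add, hx, hy]
    | add x y hx hy => simp only [map_add, hx, hy]
  rw [T_apply, coact_slice, ← h2, ← hco, LinearEquiv.symm_apply_apply]

theorem slice_lTensor_subtype (D : Submodule R C) (φ ψ : C →ₗ[R] R)
    (h : ∀ d ∈ D, φ d = ψ d) (w : V ⊗[R] D) :
    slice φ (D.subtype.lTensor V w) = slice ψ (D.subtype.lTensor V w) := by
  induction w using TensorProduct.induction_on with
  | zero => simp
  | tmul v d => simp [h d d.2]
  | add x y hx hy => simp only [map_add, hx, hy]

theorem slice_map_subtype (D : Submodule R C) (φ ψ : C →ₗ[R] R)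
    (h : ∀ d ∈ D, φ d = ψ d) (w : D ⊗[R] D) :
    slice φ (TensorProduct.map D.subtype D.subtype w) =
      slice ψ (TensorProduct.map D.subtype D.subtype w) := by
  induction w using TensorProduct.induction_on with
  | zero => simp
  | tmul v d => simp [h d d.2]
  | add x y hx hy => simp only [map_add, hx, hy]

theorem T_zero (v : V) : T (A := C) (0 : C →ₗ[R] R) v = 0 := by
  rw [← Tlin_apply, map_zero]

end General

section Decomp

variable {R : Type u} [CommRing R] {C : Type v} [AddCommGroup C] [Module R C] [Coalgebra R C]
variable {ι : Type w} [DecidableEq ι] (D : ι → Submodule R C)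

/-- the projection of `C` onto the summand `D i` -/
noncomputable def projD (hint : DirectSum.IsInternal D) (i : ι) : C →ₗ[R] D i :=
  DirectSum.component R ι (fun i => D i) i ∘ₗ
    (LinearEquiv.ofBijective (DirectSum.coeLinearMap D) hint).symm.toLinearMap

/-- the projection of `C` onto the summand `D i`, as an endomorphism -/
noncomputable def proj (hint : DirectSum.IsInternal D) (i : ι) : C →ₗ[R] C :=
  (D i).subtype ∘ₗ projD D hint i

variable {D}

theorem proj_of_mem (hint : DirectSum.IsInternal D) {i : ι} {x : C} (hx : x ∈ D i) :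
    proj D hint i x = x := by
  change ((LinearEquiv.ofBijective (DirectSum.coeLinearMap D) hint).symm x i : C) = x
  rw [hint.ofBijective_coeLinearMap_of_mem hx]

theorem proj_of_mem_ne (hint : DirectSum.IsInternal D) {i j : ι} (hij : i ≠ j) {x : C}
    (hx : x ∈ D i) : proj D hint j x = 0 := by
  change ((LinearEquiv.ofBijective (DirectSum.coeLinearMap D) hint).symm x j : C) = 0
  rw [hint.ofBijective_coeLinearMap_of_mem_ne hij hx]
  rfl

theorem exists_finset_sum_proj (hint : DirectSum.IsInternal D) (c : C) :
    ∃ S : Finset ι, ∀ S' : Finset ι, S ⊆ S' → ∑ i ∈ S', proj D hint i c = c := by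
  classical
  let e := LinearEquiv.ofBijective (DirectSum.coeLinearMap D) hint
  refine ⟨(e.symm c).support, fun S' hS' => ?_⟩
  have h1 : c = e (e.symm c) := (e.apply_symm_apply c).symm
  have h2 : e (e.symm c) = ∑ i ∈ (e.symm c).support, ((e.symm c) i : C) := by
    change DirectSum.coeLinearMap D (e.symm c) = _
    rw [DirectSum.coeLinearMap_eq_dfinsuppSum]
    rfl
  conv_rhs => rw [h1, h2]
  symm
  apply Finset.sum_subset hS'
  intro i _ hi
  rw [DFinsupp.notMem_support_iff] at hi
  rw [hi]
  rfl

end Decomp

section Main

variable {R : Type u} [CommRing R] {C : Type v} [AddCommGroup C] [Module R C] [Coalgebra R C]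
variable {ι : Type w} [DecidableEq ι] {D : ι → Submodule R C}
variable {V : Type w'} [AddCommGroup V] [Module R V] [Comod R C V]

/-- the functional `ε ∘ proj i` -/
noncomputable def epsi (hint : DirectSum.IsInternal D) (i : ι) : C →ₗ[R] R :=
  Coalgebra.counit ∘ₗ proj D hint i

theorem epsi_of_mem (hint : DirectSum.IsInternal D) {i : ι} {x : C} (hx : x ∈ D i) :
    epsi hint i x = Coalgebra.counit (R := R) x := by
  rw [epsi, LinearMap.comp_apply, proj_of_mem hint hx]

theorem epsi_of_mem_ne (hint : DirectSum.IsInternal D) {i j : ι} (hij : i ≠ j) {x : C}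
    (hx : x ∈ D i) : epsi hint j x = 0 := by
  rw [epsi, LinearMap.comp_apply, proj_of_mem_ne hint hij hx, map_zero]

variable (V) in
/-- the `i`-th piece of a comodule -/
def piece (D : ι → Submodule R C) (i : ι) : Submodule R V :=
  (LinearMap.range (LinearMap.lTensor V (D i).subtype)).comap
    (Comod.coact (k := R) (A := C) (V := V))

theorem T_epsi_of_mem_piece (hint : DirectSum.IsInternal D) {i : ι} {v : V}
    (hv : v ∈ piece V D i) : T (epsi hint i) v = v := by
  obtain ⟨w, hw⟩ := hv
  rw [T_apply, ← hw, slice_lTensor_subtype (D i) (epsi hint i) Coalgebra.counit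
    (fun d hd => epsi_of_mem hint hd), hw, ← T_apply, T_counit]

theorem T_epsi_of_mem_piece_ne (hint : DirectSum.IsInternal D) {i j : ι} (hij : i ≠ j) {v : V}
    (hv : v ∈ piece V D i) : T (epsi hint j) v = 0 := by
  obtain ⟨w, hw⟩ := hv
  rw [T_apply, ← hw, slice_lTensor_subtype (D i) (epsi hint j) 0
    (fun d hd => epsi_of_mem_ne hint hij hd), hw, ← T_apply, T_zero]

theorem TC_epsi (hint : DirectSum.IsInternal D)
    (hD : ∀ i, ∀ d ∈ D i, Coalgebra.comul (R := R) d ∈
      LinearMap.range (TensorProduct.map (D i).subtype (D i).subtype)) (i : ι) :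
    TC (epsi hint i) = proj D hint i := by
  apply LinearMap.ext
  intro c
  have hc : c ∈ ⨆ j, D j := by rw [hint.submodule_iSup_eq_top]; trivial
  induction hc using Submodule.iSup_induction' with
  | mem j d hd =>
    obtain ⟨w, hw⟩ := hD j d hd
    by_cases hij : j = i
    · subst hij
      rw [proj_of_mem hint hd, TC, LinearMap.comp_apply, ← hw,
        slice_map_subtype (D j) (epsi hint j) Coalgebra.counit (fun d hd => epsi_of_mem hint hd),
        hw]
      exact TC_counit d
    · rw [proj_of_mem_ne hint hij hd, TC, LinearMap.comp_apply, ← hw,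
        slice_map_subtype (D j) (epsi hint i) 0 (fun d hd => epsi_of_mem_ne hint hij hd)]
      have : ∀ z : C ⊗[R] C, slice (0 : C →ₗ[R] R) z = 0 := by
        intro z
        induction z using TensorProduct.induction_on with
        | zero => simp
        | tmul a b => simp
        | add x y hx hy => simp only [map_add, hx, hy, add_zero]
      exact this _
  | zero => simp
  | add x y _ _ hx hy => rw [map_add, map_add, hx, hy]

theorem T_epsi_mem_piece (hint : DirectSum.IsInternal D)
    (hD : ∀ i, ∀ d ∈ D i, Coalgebra.comul (R := R) d ∈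
      LinearMap.range (TensorProduct.map (D i).subtype (D i).subtype)) (i : ι) (v : V) :
    T (epsi hint i) v ∈ piece V D i := by
  rw [piece, Submodule.mem_comap, coact_T, TC_epsi hint hD, proj, LinearMap.lTensor_comp]
  exact ⟨_, rfl⟩

theorem iSupIndep_piece (hint : DirectSum.IsInternal D) : iSupIndep (piece V D) := by
  intro i
  rw [Submodule.disjoint_def]
  intro x hx1 hx2
  have h1 := T_epsi_of_mem_piece hint hx1
  have h2 : (⨆ j, ⨆ (_ : j ≠ i), piece V D j) ≤ LinearMap.ker (T (A := C) (V := V) (epsi hint i)) := by
    apply iSup_le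
    intro j
    apply iSup_le
    intro hji x hx
    exact T_epsi_of_mem_piece_ne hint hji hx
  rw [← h1]
  exact h2 hx2

theorem iSup_piece_eq_top (hint : DirectSum.IsInternal D)
    (hD : ∀ i, ∀ d ∈ D i, Coalgebra.comul (R := R) d ∈
      LinearMap.range (TensorProduct.map (D i).subtype (D i).subtype)) :
    (⨆ i, piece V D i) = ⊤ := by
  classical
  rw [eq_top_iff]
  intro v _
  obtain ⟨s, hs⟩ := TensorProduct.exists_finset (Comod.coact (k := R) (A := C) v)
  choose S hS using exists_finset_sum_proj hint
  let S' : Finset ι := s.biUnion fun p => S p.2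
  have hv : v = ∑ i ∈ S', T (epsi hint i) v := by
    conv_lhs => rw [← T_counit (k := R) (A := C) v]
    simp only [T_apply, hs, map_sum, slice_tmul]
    rw [Finset.sum_comm]
    apply Finset.sum_congr rfl
    intro p hp
    rw [← Finset.sum_smul]
    congr 1
    simp only [epsi, LinearMap.comp_apply]
    rw [← map_sum, hS p.2 S' (Finset.subset_biUnion_of_mem (fun p : V × C => S p.2) hp)]
  rw [hv]
  apply Submodule.sum_mem
  intro i _
  exact Submodule.mem_iSup_of_mem i (T_epsi_mem_piece hint hD i v)

theorem piece_exact (D : ι → Submodule R C) (i : ι) :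
    Function.Exact (piece V D i).subtype
      ((D i).mkQ.lTensor V ∘ₗ Comod.coact (k := R) (A := C) (V := V)) := by
  intro y
  have hex := lTensor_exact V (LinearMap.exact_subtype_mkQ (D i)) (Submodule.mkQ_surjective (D i))
  rw [LinearMap.comp_apply, hex (Comod.coact (k := R) (A := C) y)]
  constructor
  · intro h
    exact ⟨⟨y, h⟩, rfl⟩
  · rintro ⟨⟨y', hy'⟩, rfl⟩
    exact hy'

theorem coact_mem_range_map_piece [Module.Flat R C] (hint : DirectSum.IsInternal D)
    (hD : ∀ i, ∀ d ∈ D i, Coalgebra.comul (R := R) d ∈
      LinearMap.range (TensorProduct.map (D i).subtype (D i).subtype)) (i : ι) (v : V)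
    (hv : v ∈ piece V D i) :
    Comod.coact (k := R) (A := C) v ∈
      LinearMap.range (TensorProduct.map (piece V D i).subtype (D i).subtype) := by
  have hco := LinearMap.congr_fun (Comod.coassoc (k := R) (A := C) (V := V)) v
  simp only [LinearMap.comp_apply, LinearEquiv.coe_coe] at hco
  -- step 1: coact v lies in the image of piece ⊗ C
  have hex := Module.Flat.rTensor_exact C (piece_exact (V := V) D i)
  have h1 : Comod.coact (k := R) (A := C) v ∈
      LinearMap.range ((piece V D i).subtype.rTensor C) := by
    rw [LinearMap.mem_range]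
    apply (hex (Comod.coact (k := R) (A := C) v)).mp
    rw [LinearMap.rTensor_comp, LinearMap.comp_apply]
    have hco' : (Comod.coact (k := R) (A := C) (V := V)).rTensor C
        (Comod.coact (k := R) (A := C) v) = (TensorProduct.assoc R V C C).symm
          ((Coalgebra.comul (R := R) (A := C)).lTensor V (Comod.coact (k := R) (A := C) v)) := by
      rw [← hco, LinearEquiv.symm_apply_apply]
    rw [hco']
    have key2 : ∀ (v' : V) (z : (D i) ⊗[R] (D i)),
        ((D i).mkQ.lTensor V).rTensor C ((TensorProduct.assoc R V C C).symm
          (v' ⊗ₜ[R] TensorProduct.map (D i).subtype (D i).subtype z)) = 0 := by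
      intro v' z
      induction z using TensorProduct.induction_on with
      | zero => simp
      | tmul a b =>
        have ha : (D i).mkQ (a : C) = 0 := by
          rw [Submodule.mkQ_apply, Submodule.Quotient.mk_eq_zero]
          exact a.2
        simp [ha]
      | add x y hx hy => simp only [map_add, TensorProduct.tmul_add, hx, hy, add_zero]
    have key : ∀ w : V ⊗[R] (D i),
        ((D i).mkQ.lTensor V).rTensor C ((TensorProduct.assoc R V C C).symm
          ((Coalgebra.comul (R := R) (A := C)).lTensor V ((D i).subtype.lTensor V w))) = 0 := by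
      intro w
      induction w using TensorProduct.induction_on with
      | zero => simp
      | tmul v' d =>
        rw [LinearMap.lTensor_tmul, LinearMap.lTensor_tmul]
        obtain ⟨z, hz⟩ := hD i d.1 d.2
        change ((D i).mkQ.lTensor V).rTensor C ((TensorProduct.assoc R V C C).symm
          (v' ⊗ₜ[R] Coalgebra.comul (R := R) (d : C))) = 0
        rw [← hz]
        exact key2 v' z
      | add x y hx hy => simp only [map_add, hx, hy, add_zero]
    obtain ⟨w, hw⟩ := hv
    rw [← hw]
    exact key w
  -- step 2: project the second factor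
  obtain ⟨u, hu⟩ := h1
  have h2 : (proj D hint i).lTensor V (Comod.coact (k := R) (A := C) v) =
      Comod.coact (k := R) (A := C) v := by
    obtain ⟨w, hw⟩ := hv
    rw [← hw]
    generalize w = y
    induction y using TensorProduct.induction_on with
    | zero => simp
    | tmul v' d => simp [proj_of_mem hint d.2]
    | add x y hx hy => simp only [map_add, hx, hy]
  refine ⟨(projD D hint i).lTensor _ u, ?_⟩
  rw [← h2, ← hu]
  generalize u = y
  induction y using TensorProduct.induction_on with
  | zero => simp
  | tmul v' c => simp [proj]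
  | add x y hx hy => simp only [map_add, hx, hy]

theorem isSubcomod_piece [Module.Flat R C] (hint : DirectSum.IsInternal D)
    (hD : ∀ i, ∀ d ∈ D i, Coalgebra.comul (R := R) d ∈
      LinearMap.range (TensorProduct.map (D i).subtype (D i).subtype)) (i : ι) :
    IsSubcomod (k := R) (A := C) (piece V D i) := by
  intro v hv
  obtain ⟨u, hu⟩ := coact_mem_range_map_piece hint hD i v hv
  refine ⟨(D i).subtype.lTensor _ u, ?_⟩
  rw [← hu]
  generalize u = y
  induction y using TensorProduct.induction_on with
  | zero => simp
  | tmul v' c => simp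
  | add x y hx hy => simp only [map_add, hx, hy]

end Main

end Groth.Agent.Lib.Helper26.Comod
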