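import Groth.Agent.Lib.Helper26.Cosemisimple
import Mathlib.RingTheory.Coalgebra.Convolution
import Mathlib.RingTheory.Artinian.Module

/-!
# Comodules as modules over the dual (convolution) algebra (helper26)
-/

open TensorProduct

universe u v w w'

namespace Groth.Agent.Lib.Helper26.Comod

open HopfRep

section DualModule

variable (k : Type u) [Field k] (A : Type v) [AddCommGroup A] [Module k A] [Coalgebra k A]

/-- the convolution algebra `A^*`. -/
abbrev Cd := WithConv (A →ₗ[k] k)

variable {k A}

theorem ofConv_mul (f g : Cd k A) : (f * g).ofConv = conv f.ofConv g.ofConv := rfl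

theorem ofConv_one : (1 : Cd k A).ofConv = Coalgebra.counit := by
  ext a
  simp [LinearMap.convOne_def]

variable (k A) in
/-- A comodule as a module over the convolution algebra. -/
@[instance_reducible]
noncomputable def dualModule (V : Type w) [AddCommGroup V] [Module k V] [Comod k A V] :
    Module (Cd k A) V where
  smul φ v := T φ.ofConv v
  one_smul v := by
    change T (1 : Cd k A).ofConv v = v
    rw [ofConv_one, T_counit]
  mul_smul f g v := by
    change T (f * g).ofConv v = T f.ofConv (T g.ofConv v)
    rw [T_T, ofConv_mul]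
  smul_zero f := map_zero _
  smul_add f v w := map_add _ _ _
  add_smul f g v := by
    change T (f + g).ofConv v = T f.ofConv v + T g.ofConv v
    simp only [T_apply, WithConv.ofConv_add, slice_add]
  zero_smul v := by
    change T (0 : Cd k A).ofConv v = 0
    change T (0 : A →ₗ[k] k) v = 0
    rw [← Tlin_apply, map_zero]

end DualModule

section Bridge

variable {k : Type u} [Field k] {A : Type v} [AddCommGroup A] [Module k A] [Coalgebra k A]
variable {V : Type w} [AddCommGroup V] [Module k V] [Comod k A V]
variable {W : Type w'} [AddCommGroup W] [Module k W] [Comod k A W]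

attribute [local instance] dualModule

theorem smul_def (φ : Cd k A) (v : V) : φ • v = T φ.ofConv v := rfl

theorem toConv_smul (φ : A →ₗ[k] k) (v : V) : (WithConv.toConv φ : Cd k A) • v = T φ v := rfl

instance isScalarTower_dual : IsScalarTower k (Cd k A) V where
  smul_assoc c φ v := by
    change T (c • φ).ofConv v = c • T φ.ofConv v
    simp only [T_apply, WithConv.ofConv_smul, slice_smul]

/-- A subcomodule as a submodule over the dual algebra. -/
noncomputable def toD (F : Submodule k V) (hF : IsSubcomod (k := k) (A := A) F) :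
    Submodule (Cd k A) V where
  carrier := F
  add_mem' := F.add_mem
  zero_mem' := F.zero_mem
  smul_mem' φ v hv := (isSubcomod_iff F).mp hF φ.ofConv v hv

@[simp] theorem mem_toD (F : Submodule k V) (hF : IsSubcomod (k := k) (A := A) F) (x : V) :
    x ∈ toD F hF ↔ x ∈ F := Iff.rfl

@[simp] theorem toD_restrictScalars (F : Submodule k V) (hF : IsSubcomod (k := k) (A := A) F) :
    (toD F hF).restrictScalars k = F := rfl

theorem isSubcomod_restrictScalarsD (F : Submodule (Cd k A) V) :
    IsSubcomod (k := k) (A := A) (F.restrictScalars k) := by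
  rw [isSubcomod_iff]
  intro φ w hw
  exact F.smul_mem (WithConv.toConv φ : Cd k A) hw

theorem toD_restrictScalarsD (F : Submodule (Cd k A) V) :
    toD (F.restrictScalars k) (isSubcomod_restrictScalarsD F) = F := rfl

theorem isComodHom_iff (f : V →ₗ[k] W) :
    Hoch.IsComodHom A f ↔ ∀ (φ : A →ₗ[k] k) (v : V), f (T φ v) = T φ (f v) := by
  constructor
  · intro hf φ v
    have h := LinearMap.congr_fun hf v
    simp only [LinearMap.comp_apply] at h
    rw [T_apply, T_apply, h, slice_rTensor]
  · intro h
    apply LinearMap.ext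
    intro v
    simp only [LinearMap.comp_apply]
    apply eq_of_slice_eq
    intro φ
    rw [slice_rTensor, ← T_apply, ← T_apply, h]

/-- A comodule map as a linear map over the dual algebra. -/
noncomputable def toDHom (f : V →ₗ[k] W) (hf : Hoch.IsComodHom A f) : V →ₗ[Cd k A] W where
  toFun := f
  map_add' := f.map_add
  map_smul' φ v := (isComodHom_iff f).mp hf φ.ofConv v

@[simp] theorem toDHom_apply (f : V →ₗ[k] W) (hf : Hoch.IsComodHom A f) (v : V) :
    toDHom f hf v = f v := rfl

theorem isComodHom_restrictScalarsD (f : V →ₗ[Cd k A] W) :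
    Hoch.IsComodHom A (f.restrictScalars k) := by
  rw [isComodHom_iff]
  intro φ v
  exact f.map_smul (WithConv.toConv φ : Cd k A) v

theorem isSimpleComod_iff : IsSimpleComod k A V ↔ IsSimpleModule (Cd k A) V := by
  rw [isSimpleModule_iff]
  constructor
  · rintro ⟨hnt, h⟩
    haveI := hnt
    refine { eq_bot_or_eq_top := fun F => ?_ }
    rcases h (F.restrictScalars k) (isSubcomod_restrictScalarsD F) with h1 | h1
    · left
      rwa [Submodule.restrictScalars_eq_bot_iff] at h1
    · right
      rwa [Submodule.restrictScalars_eq_top_iff] at h1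
  · intro h
    refine ⟨(Submodule.nontrivial_iff (Cd k A)).mp h.toNontrivial, fun F hF => ?_⟩
    rcases h.eq_bot_or_eq_top (toD F hF) with h1 | h1
    · left
      rw [← toD_restrictScalars F hF, h1, Submodule.restrictScalars_bot]
    · right
      rw [← toD_restrictScalars F hF, h1, Submodule.restrictScalars_top]

theorem isSemisimpleComod_iff : IsSemisimpleComod k A V ↔ IsSemisimpleModule (Cd k A) V := by
  rw [isSemisimpleModule_iff]
  constructor
  · intro h
    refine ⟨fun F => ?_⟩
    obtain ⟨F', hF', hc⟩ := h (F.restrictScalars k) (isSubcomod_restrictScalarsD F)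
    refine ⟨toD F' hF', ?_⟩
    rw [← Submodule.isCompl_restrictScalars_iff (S := k)]
    exact hc
  · intro h F hF
    obtain ⟨F', hF'⟩ := h.exists_isCompl (toD F hF)
    refine ⟨F'.restrictScalars k, isSubcomod_restrictScalarsD F', ?_⟩
    rw [← Submodule.isCompl_restrictScalars_iff (S := k)] at hF'
    exact hF'

end Bridge

section RegularD

variable {k : Type u} [Field k] {A : Type v} [AddCommGroup A] [Module k A] [Coalgebra k A]

attribute [local instance] dualModule

/-- `U φ` as an endomorphism of the regular comodule over the dual algebra. -/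
noncomputable def UD (φ : A →ₗ[k] k) : Module.End (Cd k A) A where
  toFun := U φ
  map_add' := map_add _
  map_smul' ψ a := U_T φ ψ.ofConv a

@[simp] theorem UD_apply (φ : A →ₗ[k] k) (a : A) : UD φ a = U φ a := rfl

theorem endD_eq_U (F : Module.End (Cd k A) A) (a : A) :
    F a = U ((Coalgebra.counit (R := k) (A := A)) ∘ₗ F.restrictScalars k) a := by
  apply eq_of_forall_dual_apply_eq (k := k)
  intro ψ
  rw [apply_U, LinearMap.comp_apply, LinearMap.restrictScalars_apply]
  have h : F (T (V := A) ψ a) = T (V := A) ψ (F a) :=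
    F.map_smul (WithConv.toConv ψ : Cd k A) a
  rw [h, counit_T]

theorem U_counit (a : A) : U (Coalgebra.counit (R := k) (A := A)) a = a := by
  apply eq_of_forall_dual_apply_eq (k := k)
  intro ψ
  rw [apply_U, counit_T]

theorem U_U (φ' φ : A →ₗ[k] k) (a : A) : U φ' (U φ a) = U (conv φ φ') a := by
  apply eq_of_forall_dual_apply_eq (k := k)
  intro ψ
  rw [apply_U, ← U_T, apply_U, apply_U, ← apply_T]

theorem isSubcoalg_iff (B : Submodule k A) :
    IsSubcoalg B ↔ (∀ (φ : A →ₗ[k] k), ∀ b ∈ B, T (V := A) φ b ∈ B) ∧
      ∀ (φ : A →ₗ[k] k), ∀ b ∈ B, U φ b ∈ B := by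
  constructor
  · intro hB
    refine ⟨(isSubcomod_iff B).mp hB.isSubcomod, fun φ b hb => ?_⟩
    rw [U_apply]
    exact lslice_mem_of_mem_range_map B _ (hB b hb) φ
  · rintro ⟨h1, h2⟩ b hb
    apply mem_range_map_subtype
    · exact (isSubcomod_iff B).mpr h1 b hb
    · apply mem_range_lTensor_of_lslice_mem
      intro φ
      exact h2 φ b hb

theorem IsSubcoalg.isFullyInvariantD {B : Submodule k A} (hB : IsSubcoalg B) :
    (toD B hB.isSubcomod).IsFullyInvariant := by
  intro F b hb
  change F b ∈ B
  rw [endD_eq_U]
  exact ((isSubcoalg_iff B).mp hB).2 _ b hb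

theorem isSubcoalg_of_isFullyInvariantD (F : Submodule (Cd k A) A)
    (hF : F.IsFullyInvariant) : IsSubcoalg (F.restrictScalars k) := by
  rw [isSubcoalg_iff]
  refine ⟨(isSubcomod_iff _).mp (isSubcomod_restrictScalarsD F), fun φ b hb => ?_⟩
  exact hF (UD φ) hb

theorem isSubcoalg_inf {B B' : Submodule k A} (hB : IsSubcoalg B) (hB' : IsSubcoalg B') :
    IsSubcoalg (B ⊓ B') := by
  rw [isSubcoalg_iff] at hB hB' ⊢
  exact ⟨fun φ b hb => ⟨hB.1 φ b hb.1, hB'.1 φ b hb.2⟩,
    fun φ b hb => ⟨hB.2 φ b hb.1, hB'.2 φ b hb.2⟩⟩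

end RegularD

end Groth.Agent.Lib.Helper26.Comod
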