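import Groth.Agent.Lib.Helper26.CoalgCosemi

/-!
# The coefficient coalgebra of a simple comodule (helper26)
-/

open TensorProduct

universe u v w w'

namespace Groth.Agent.Lib.Helper26.Comod

open HopfRep

section CoeffSimple

variable {k : Type u} [Field k] {A : Type v} [AddCommGroup A] [Module k A] [Coalgebra k A]
variable {V : Type w} [AddCommGroup V] [Module k V] [Comod k A V]

attribute [local instance] dualModule

/-- `Fmap f` as a linear map over the dual algebra. -/
noncomputable def FmapD (f : V →ₗ[k] k) : V →ₗ[Cd k A] A :=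
  toDHom (Fmap (A := A) f) (isComodHom_Fmap f)

@[simp] theorem FmapD_apply (f : V →ₗ[k] k) (v : V) : FmapD (A := A) f v = Fmap (A := A) f v := rfl

theorem toD_coeff_eq_iSup :
    toD (coeff k A V) isSubcoalg_coeff.isSubcomod = ⨆ f : V →ₗ[k] k, LinearMap.range (FmapD (A := A) f) := by
  apply Submodule.restrictScalars_injective k
  rw [Submodule.restrictScalars_iSup, toD_restrictScalars, coeff]
  congr 1

variable [hV : IsSimpleModule (Cd k A) V]

theorem isSimpleModule_range_FmapD (f : V →ₗ[k] k) (hf : LinearMap.range (FmapD (A := A) f) ≠ ⊥) :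
    Function.Injective (FmapD (A := A) f) ∧ IsSimpleModule (Cd k A) (LinearMap.range (FmapD (A := A) f)) := by
  rcases @LinearMap.injective_or_eq_zero (Cd k A) _ V _ _ A _ _ _ (FmapD (A := A) f) with h | h
  · refine ⟨h, ?_⟩
    have e := LinearEquiv.ofInjective (FmapD (A := A) f) h
    exact @IsSimpleModule.congr (Cd k A) _ _ _ _ V _ _ e.symm _
  · exfalso
    apply hf
    rw [h, LinearMap.range_zero]

/-- a nonzero subcomodule of the coefficient space of a simple comodule `V` contains a copy of
`V`. -/
theorem exists_injective_of_le_coeff (F : Submodule (Cd k A) A) (hF : F ≠ ⊥)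
    (hle : F ≤ toD (coeff k A V) isSubcoalg_coeff.isSubcomod) :
    ∃ g : V →ₗ[Cd k A] A, Function.Injective g ∧ ∀ v, g v ∈ F := by
  obtain ⟨N, hNF, hN⟩ := exists_simple_le F hF
  let s : Set (Submodule (Cd k A) A) :=
    {m | ∃ f : V →ₗ[k] k, m = LinearMap.range (FmapD (A := A) f) ∧ m ≠ ⊥}
  have hs : ∀ m : s, IsSimpleModule (Cd k A) m := by
    rintro ⟨m, f, rfl, hm⟩
    exact (isSimpleModule_range_FmapD f hm).2
  have hsup : N ≤ sSup s := by
    refine (hNF.trans hle).trans ?_
    rw [toD_coeff_eq_iSup]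
    apply iSup_le
    intro f
    by_cases h0 : LinearMap.range (FmapD (A := A) f) = ⊥
    · rw [h0]; exact bot_le
    · exact le_sSup ⟨f, rfl, h0⟩
  obtain ⟨S', ⟨f, rfl, hf0⟩, ⟨e⟩⟩ := @Submodule.linearEquiv_of_le_sSup (Cd k A) A _ _ _ N hN s hs hsup
  have hinj := (isSimpleModule_range_FmapD f hf0).1
  let e0 := LinearEquiv.ofInjective (FmapD (A := A) f) hinj
  refine ⟨N.subtype ∘ₗ e.symm.toLinearMap ∘ₗ e0.toLinearMap, ?_, fun v => ?_⟩
  · intro x y hxy
    apply e0.injective
    apply e.symm.injective
    exact N.subtype_injective hxy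
  · exact hNF (e.symm (e0 v)).2

end CoeffSimple

section Main

variable {k : Type u} [Field k] {A : Type v} [AddCommGroup A] [Module k A] [Coalgebra k A]
variable {V : Type w} [AddCommGroup V] [Module k V] [Comod k A V]

attribute [local instance] dualModule

/-- a nonzero subcoalgebra inside the coefficient space of a simple comodule is everything -/
theorem coeff_le_of_isSubcoalg_of_le (hV : IsSimpleComod k A V) {B : Submodule k A}
    (hB : IsSubcoalg B) (hB0 : B ≠ ⊥) (hle : B ≤ coeff k A V) : coeff k A V ≤ B := by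
  haveI : IsSimpleModule (Cd k A) V := isSimpleComod_iff.mp hV
  have hF0 : toD B hB.isSubcomod ≠ ⊥ := by
    intro h0
    apply hB0
    rw [← toD_restrictScalars B hB.isSubcomod, h0, Submodule.restrictScalars_bot]
  obtain ⟨g, hinj, hg⟩ := exists_injective_of_le_coeff (V := V) (toD B hB.isSubcomod) hF0
    (fun x hx => hle hx)
  exact coeff_le_of_injective (g.restrictScalars k) (isComodHom_restrictScalarsD g) hinj hB hg

theorem isSimpleSubcoalg_coeff (hV : IsSimpleComod k A V) : IsSimpleSubcoalg (coeff k A V) := by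
  haveI := hV.1
  refine ⟨coeff_ne_bot, isSubcoalg_coeff, fun B hle hB => ?_⟩
  by_cases hB0 : B = ⊥
  · exact Or.inl hB0
  · exact Or.inr (le_antisymm hle (coeff_le_of_isSubcoalg_of_le hV hB hB0 hle))

end Main

end Groth.Agent.Lib.Helper26.Comod
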