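import Groth.Agent.Lib.Helper26.CoalgIso

/-!
# Simple comodules with the same coefficient space are isomorphic (helper26)
-/

open TensorProduct

universe u v w w'

namespace Groth.Agent.Lib.Helper26.Comod

open HopfRep

section Iso

variable {k : Type u} [Field k] {A : Type v} [AddCommGroup A] [Module k A] [Coalgebra k A]
variable {V : Type w} [AddCommGroup V] [Module k V] [Comod k A V]
variable {W : Type w'} [AddCommGroup W] [Module k W] [Comod k A W]

attribute [local instance] dualModule

theorem exists_range_FmapD_ne_bot [Nontrivial V] :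
    ∃ f : V →ₗ[k] k, LinearMap.range (FmapD (A := A) f) ≠ ⊥ := by
  by_contra h
  push Not at h
  apply coeff_ne_bot (k := k) (A := A) (V := V)
  rw [← toD_restrictScalars (coeff k A V) isSubcoalg_coeff.isSubcomod, toD_coeff_eq_iSup]
  simp only [h, iSup_bot, Submodule.restrictScalars_bot]

theorem exists_equiv_of_coeff_eq (hV : IsSimpleComod k A V) (hW : IsSimpleComod k A W)
    (h : coeff k A V = coeff k A W) :
    ∃ e : V ≃ₗ[k] W, Hoch.IsComodHom A e.toLinearMap := by
  haveI : IsSimpleModule (Cd k A) V := isSimpleComod_iff.mp hV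
  haveI : IsSimpleModule (Cd k A) W := isSimpleComod_iff.mp hW
  haveI := hW.1
  haveI := hV.1
  obtain ⟨f', hf'⟩ := exists_range_FmapD_ne_bot (k := k) (A := A) (V := W)
  obtain ⟨hinj', -⟩ := isSimpleModule_range_FmapD f' hf'
  have hle : LinearMap.range (FmapD (A := A) f') ≤ toD (coeff k A V) isSubcoalg_coeff.isSubcomod := by
    rintro _ ⟨w, rfl⟩
    change Fmap (A := A) f' w ∈ coeff k A V
    rw [h]
    exact Fmap_mem_coeff f' w
  obtain ⟨g, hginj, hg⟩ := exists_injective_of_le_coeff (V := V) _ hf' hle
  let e0 := LinearEquiv.ofInjective (FmapD (A := A) f') hinj'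
  let g' : V →ₗ[Cd k A] LinearMap.range (FmapD (A := A) f') := g.codRestrict _ hg
  let hmap : V →ₗ[Cd k A] W := e0.symm.toLinearMap ∘ₗ g'
  have hmapinj : Function.Injective hmap := by
    intro x y hxy
    apply hginj
    have := e0.symm.injective hxy
    exact congrArg Subtype.val this
  have hbij : Function.Bijective hmap := by
    rcases @LinearMap.bijective_or_eq_zero (Cd k A) _ V _ _ W _ _ _ _ hmap with hb | h0
    · exact hb
    · exfalso
      obtain ⟨v, hv⟩ := exists_ne (0 : V)
      apply hv
      apply hmapinj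
      rw [h0, LinearMap.zero_apply, map_zero]
  let e := LinearEquiv.ofBijective hmap hbij
  refine ⟨e.restrictScalars k, ?_⟩
  exact isComodHom_restrictScalarsD hmap

end Iso

end Groth.Agent.Lib.Helper26.Comod
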