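import Groth.Agent.Lib.Helper26.CoalgIso2

/-!
# Simple subcoalgebras are coefficient spaces of simple subcomodules (helper26)
-/

open TensorProduct

universe u v w w'

namespace Groth.Agent.Lib.Helper26.Comod

open HopfRep

section Tensor2

variable {k : Type u} [Field k] {A : Type v} [AddCommGroup A] [Module k A]

theorem mem_range_map_subtype₂ (E D : Submodule k A) (z : A ⊗[k] A)
    (h1 : z ∈ LinearMap.range (E.subtype.rTensor A))
    (h2 : z ∈ LinearMap.range (D.subtype.lTensor A)) :
    z ∈ LinearMap.range (TensorProduct.map E.subtype D.subtype) := by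
  obtain ⟨p, hp⟩ := E.subtype.exists_leftInverse_of_injective E.ker_subtype
  obtain ⟨w, rfl⟩ := h1
  obtain ⟨w', hw'⟩ := h2
  have h3 : (E.subtype ∘ₗ p).rTensor A (E.subtype.rTensor A w) = E.subtype.rTensor A w := by
    rw [← LinearMap.rTensor_comp_apply, LinearMap.comp_assoc, hp, LinearMap.comp_id]
  refine ⟨p.rTensor D w', ?_⟩
  rw [← h3, ← hw']
  generalize w' = y
  induction y using TensorProduct.induction_on with
  | zero => simp
  | tmul a c => simp
  | add x y hx hy => simp only [map_add, hx, hy]

theorem lslice_mem_of_mem_range_map₂ (E D : Submodule k A) (z : A ⊗[k] A)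
    (h : z ∈ LinearMap.range (TensorProduct.map E.subtype D.subtype)) (φ : A →ₗ[k] k) :
    lslice φ z ∈ D := by
  obtain ⟨w, rfl⟩ := h
  generalize w = y
  induction y using TensorProduct.induction_on with
  | zero => simp
  | tmul a c => simpa using D.smul_mem _ c.2
  | add x y hx hy => rw [map_add, map_add]; exact D.add_mem hx hy

end Tensor2

section SimpleSub

variable {k : Type u} [Field k] {A : Type v} [AddCommGroup A] [Module k A] [Coalgebra k A]

attribute [local instance] dualModule

theorem exists_simple_subcomod_of_isSimpleSubcoalg {D : Submodule k A} (hD : IsSimpleSubcoalg D) :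
    ∃ E : Submodule k A, E ≤ D ∧ E ≠ ⊥ ∧ IsSubcomod (k := k) (A := A) E ∧
      (∀ E' : Submodule k A, E' ≤ E → IsSubcomod (k := k) (A := A) E' → E' = ⊥ ∨ E' = E) ∧
      IsLeast {D' : Submodule k A |
        ∀ e ∈ E, Coalgebra.comul (R := k) e ∈
          LinearMap.range (TensorProduct.map E.subtype D'.subtype)} D := by
  have hDT := (isSubcoalg_iff D).mp hD.2.1
  have hFD : toD D hD.2.1.isSubcomod ≠ ⊥ := by
    intro h0
    apply hD.1
    rw [← toD_restrictScalars D hD.2.1.isSubcomod, h0, Submodule.restrictScalars_bot]
  obtain ⟨S, hSD, hS⟩ := exists_simple_le _ hFD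
  have hatom := isSimpleModule_iff_isAtom.mp hS
  have hSsub : IsSubcomod (k := k) (A := A) (S.restrictScalars k) := isSubcomod_restrictScalarsD S
  refine ⟨S.restrictScalars k, fun x hx => hSD hx, ?_, hSsub, ?_, ?_, ?_⟩
  · rw [Ne, Submodule.restrictScalars_eq_bot_iff]
    exact hatom.1
  · intro E' hE' hE'sub
    have hle : toD E' hE'sub ≤ S := fun x hx => hE' hx
    rcases eq_or_lt_of_le hle with h | h
    · right
      rw [← toD_restrictScalars E' hE'sub, h]
    · left
      rw [← toD_restrictScalars E' hE'sub, hatom.2 _ h, Submodule.restrictScalars_bot]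
  · intro e he
    apply mem_range_map_subtype₂
    · exact hSsub e he
    · apply mem_range_lTensor_of_lslice_mem
      intro φ
      exact hDT.2 φ e (hSD he)
  · intro D' hD'
    -- B = span of U φ e
    let B : Submodule k A := Submodule.span k
      {x | ∃ (φ : A →ₗ[k] k) (e : A), e ∈ S ∧ x = U φ e}
    have hBD' : B ≤ D' := by
      apply Submodule.span_le.mpr
      rintro _ ⟨φ, e, he, rfl⟩
      rw [U_apply]
      exact lslice_mem_of_mem_range_map₂ _ D' _ (hD' e he) φ
    have hBD : B ≤ D := by
      apply Submodule.span_le.mpr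
      rintro _ ⟨φ, e, he, rfl⟩
      exact hDT.2 φ e (hSD he)
    have hSB : ∀ e ∈ S, e ∈ B := by
      intro e he
      apply Submodule.subset_span
      exact ⟨Coalgebra.counit, e, he, (U_counit e).symm⟩
    have hBsub : IsSubcoalg B := by
      rw [isSubcoalg_iff]
      constructor
      · intro ψ b hb
        have : B ≤ B.comap (T (V := A) ψ) := by
          apply Submodule.span_le.mpr
          rintro _ ⟨φ, e, he, rfl⟩
          rw [SetLike.mem_coe, Submodule.mem_comap, ← U_T]
          apply Submodule.subset_span
          exact ⟨φ, _, S.smul_mem (WithConv.toConv ψ : Cd k A) he, rfl⟩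
        exact this hb
      · intro φ' b hb
        have : B ≤ B.comap (U φ') := by
          apply Submodule.span_le.mpr
          rintro _ ⟨φ, e, he, rfl⟩
          rw [SetLike.mem_coe, Submodule.mem_comap, U_U]
          apply Submodule.subset_span
          exact ⟨_, e, he, rfl⟩
        exact this hb
    have hB0 : B ≠ ⊥ := by
      intro h0
      apply hatom.1
      rw [eq_bot_iff]
      intro e he
      have := hSB e he
      rw [h0] at this
      exact this
    rcases hD.2.2 B hBD hBsub with h | h
    · exact absurd h hB0
    · rw [← h]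
      exact hBD'

end SimpleSub

end Groth.Agent.Lib.Helper26.Comod
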