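import Groth.Agent.Lib.Helper26.CoalgIso3

/-!
# A coalgebra is simple iff its regular comodule is isotypic (helper26)
-/

open TensorProduct

universe u v w w'

namespace Groth.Agent.Lib.Helper26.Comod

open HopfRep

section Restr

variable {k : Type u} [Field k] {A : Type v} [AddCommGroup A] [Module k A] [Coalgebra k A]
variable {V : Type w} [AddCommGroup V] [Module k V] [c : Comod k A V]
variable {W : Type w'} [AddCommGroup W] [Module k W] [Comod k A W]

attribute [local instance] dualModule

theorem isSimpleComod_restr (F : Submodule k V) (hF : IsSubcomod (k := k) (A := A) F)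
    (hatom : IsAtom (toD F hF)) :
    @IsSimpleComod k A _ _ _ _ F _ _ (ComodSub.Comod.restr c F hF) := by
  let cF := ComodSub.Comod.restr c F hF
  refine ⟨?_, ?_⟩
  · rw [Submodule.nontrivial_iff_ne_bot]
    intro h
    apply hatom.1
    rw [eq_bot_iff]
    intro x hx
    have : x ∈ F := hx
    rw [h] at this
    exact this
  · intro W' hW'
    let Q : Submodule k V := W'.map F.subtype
    have hQ : IsSubcomod (k := k) (A := A) Q := by
      rw [isSubcomod_iff]
      rintro φ _ ⟨w, hw, rfl⟩
      exact ⟨T φ w, (isSubcomod_iff _).mp hW' φ w hw, coe_T_restr F hF φ w⟩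
    have hle : toD Q hQ ≤ toD F hF := by
      rintro _ ⟨w, _, rfl⟩
      exact w.2
    rcases eq_or_lt_of_le hle with h | h
    · right
      rw [eq_top_iff]
      intro w _
      have hw : (w : V) ∈ toD Q hQ := by rw [h]; exact w.2
      obtain ⟨w', hw', hww'⟩ := hw
      have : w' = w := Subtype.ext hww'
      rwa [← this]
    · left
      have h0 := hatom.2 _ h
      rw [eq_bot_iff]
      intro w hw
      have hwQ : (w : V) ∈ toD Q hQ := ⟨w, hw, rfl⟩
      rw [h0] at hwQ
      rw [Submodule.mem_bot]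
      exact Subtype.ext ((Submodule.mem_bot _).mp hwQ)

/-- the identity `F ≃ toD F` -/
noncomputable def idEquiv (F : Submodule k V) (hF : IsSubcomod (k := k) (A := A) F) :
    ↥F ≃ₗ[k] ↥(toD F hF) where
  toFun x := ⟨x.1, x.2⟩
  invFun x := ⟨x.1, x.2⟩
  map_add' _ _ := rfl
  map_smul' _ _ := rfl
  left_inv _ := rfl
  right_inv _ := rfl

theorem isComodHom_of_restr (F : Submodule k V) (hF : IsSubcomod (k := k) (A := A) F)
    (g : ↥(toD F hF) →ₗ[Cd k A] W) :
    @Hoch.IsComodHom k _ A _ _ _ F _ _ (ComodSub.Comod.restr c F hF) W _ _ _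
      (g.restrictScalars k ∘ₗ (idEquiv F hF).toLinearMap) := by
  let cF := ComodSub.Comod.restr c F hF
  rw [isComodHom_iff]
  intro φ w
  have h1 : idEquiv F hF (T φ w) = (WithConv.toConv φ : Cd k A) • idEquiv F hF w := by
    apply Subtype.ext
    exact coe_T_restr F hF φ w
  simp only [LinearMap.comp_apply, LinearEquiv.coe_coe, LinearMap.restrictScalars_apply]
  rw [h1, g.map_smul]
  rfl

end Restr

section Iso

variable {k : Type u} [Field k] {A : Type v} [AddCommGroup A] [Module k A] [Coalgebra k A]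
variable {V : Type w} [AddCommGroup V] [Module k V] [Comod k A V]

attribute [local instance] dualModule

theorem range_le_coeff (g : V →ₗ[k] A) (hg : Hoch.IsComodHom A g) :
    LinearMap.range g ≤ coeff k A V := by
  rintro _ ⟨v, rfl⟩
  have : g v = Fmap (A := A) (Coalgebra.counit ∘ₗ g) v := by
    rw [← Fmap_comp g hg, Fmap_regular, U_counit]
  rw [this]
  exact Fmap_mem_coeff _ _

theorem isSubcoalg_top : IsSubcoalg (⊤ : Submodule k A) := by
  rw [isSubcoalg_iff]
  exact ⟨fun _ _ _ => Submodule.mem_top, fun _ _ _ => Submodule.mem_top⟩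

/-- If the regular comodule is a sum of copies of a simple comodule, the coalgebra is simple. -/
theorem eq_bot_or_eq_top_of_isotypic (hV : IsSimpleComod k A V) {ι : Type*}
    (f : ι → (V →ₗ[k] A)) (hf : ∀ i, Hoch.IsComodHom A (f i) ∧ Function.Injective (f i))
    (htop : (⨆ i, LinearMap.range (f i)) = ⊤) (B : Submodule k A) (hB : IsSubcoalg B) :
    B = ⊥ ∨ B = ⊤ := by
  by_cases hB0 : B = ⊥
  · exact Or.inl hB0
  right
  haveI : IsSimpleModule (Cd k A) V := isSimpleComod_iff.mp hV
  have hF0 : toD B hB.isSubcomod ≠ ⊥ := by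
    intro h0
    apply hB0
    rw [← toD_restrictScalars B hB.isSubcomod, h0, Submodule.restrictScalars_bot]
  obtain ⟨N, hNB, hN⟩ := exists_simple_le _ hF0
  let fD : ι → (V →ₗ[Cd k A] A) := fun i => toDHom (f i) (hf i).1
  let s : Set (Submodule (Cd k A) A) := Set.range fun i => LinearMap.range (fD i)
  have hs : ∀ m : s, IsSimpleModule (Cd k A) m := by
    rintro ⟨_, i, rfl⟩
    have e := LinearEquiv.ofInjective (fD i) (hf i).2
    exact @IsSimpleModule.congr (Cd k A) _ _ _ _ V _ _ e.symm _
  have hsup : N ≤ sSup s := by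
    have : sSup s = ⊤ := by
      apply Submodule.restrictScalars_injective k
      rw [sSup_range, Submodule.restrictScalars_iSup, Submodule.restrictScalars_top, ← htop]
      rfl
    rw [this]
    exact le_top
  obtain ⟨_, ⟨i, rfl⟩, ⟨e⟩⟩ :=
    @Submodule.linearEquiv_of_le_sSup (Cd k A) A _ _ _ N hN s hs hsup
  let e0 := LinearEquiv.ofInjective (fD i) (hf i).2
  let g : V →ₗ[Cd k A] A := N.subtype ∘ₗ e.symm.toLinearMap ∘ₗ e0.toLinearMap
  have hginj : Function.Injective g := by
    intro x y hxy
    apply e0.injective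
    apply e.symm.injective
    exact N.subtype_injective hxy
  have hgB : ∀ v, g v ∈ B := fun v => hNB (e.symm (e0 v)).2
  have h1 : coeff k A V ≤ B :=
    coeff_le_of_injective (g.restrictScalars k) (isComodHom_restrictScalarsD g) hginj hB hgB
  rw [eq_top_iff, ← htop]
  apply iSup_le
  intro j
  exact (range_le_coeff (f j) (hf j).1).trans h1

/-- A simple coalgebra is isotypic as a regular comodule. -/
theorem exists_isotypic_of_simple [Nontrivial A]
    (hsimple : ∀ B : Submodule k A, IsSubcoalg B → B = ⊥ ∨ B = ⊤) :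
    ∃ (E₀ : Submodule k A) (hE₀ : IsSubcomod (k := k) (A := A) E₀),
      @IsSimpleComod k A _ _ _ _ E₀ _ _ (ComodSub.Comod.restr (Comod.regular k A) E₀ hE₀) ∧
      ∃ (ι : Type v) (f : ι → (E₀ →ₗ[k] A)),
        (∀ i, @Hoch.IsComodHom k _ A _ _ _ E₀ _ _
          (ComodSub.Comod.restr (Comod.regular k A) E₀ hE₀) A _ _ _ (f i) ∧
            Function.Injective (f i)) ∧
        iSupIndep (fun i => LinearMap.range (f i)) ∧ (⨆ i, LinearMap.range (f i)) = ⊤ := by
  have hss : IsSemisimpleModule (Cd k A) A :=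
    isSemisimpleModule_regular_of_decomposition (fun _ : Unit => (⊤ : Submodule k A)) (by simp)
      (fun _ => ⟨top_ne_bot, isSubcoalg_top, fun B _ hB => hsimple B hB⟩)
  have hiso : IsIsotypic (Cd k A) A := by
    rw [isIsotypic_iff_isFullyInvariant_imp_bot_or_top]
    intro N hN
    rcases hsimple _ (isSubcoalg_of_isFullyInvariantD N hN) with h | h
    · left
      rwa [Submodule.restrictScalars_eq_bot_iff] at h
    · right
      rwa [Submodule.restrictScalars_eq_top_iff] at h
  obtain ⟨s, hind, hsup, hsimp⟩ :=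
    IsSemisimpleModule.exists_sSupIndep_sSup_simples_eq_top (Cd k A) A
  obtain ⟨S₀, hS₀⟩ := IsSemisimpleModule.exists_simple_submodule (Cd k A) A
  let F : Submodule k A := S₀.restrictScalars k
  have hF : IsSubcomod (k := k) (A := A) F := isSubcomod_restrictScalarsD S₀
  have hFS : toD F hF = S₀ := toD_restrictScalarsD S₀
  refine ⟨F, hF, ?_, ?_⟩
  · apply isSimpleComod_restr
    rw [hFS]
    exact isSimpleModule_iff_isAtom.mp hS₀
  have hiso' : ∀ m : s, Nonempty ((m : Submodule (Cd k A) A) ≃ₗ[Cd k A] S₀) := by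
    rintro ⟨m, hm⟩
    haveI := hsimp m hm
    exact hiso S₀ m
  let e : ∀ m : s, (m : Submodule (Cd k A) A) ≃ₗ[Cd k A] S₀ := fun m => (hiso' m).some
  let g : ∀ m : s, ↥(toD F hF) →ₗ[Cd k A] A := fun m =>
    (m : Submodule (Cd k A) A).subtype ∘ₗ (e m).symm.toLinearMap ∘ₗ
      (LinearEquiv.ofEq _ _ hFS).toLinearMap
  have hrange : ∀ m : s, LinearMap.range ((g m).restrictScalars k ∘ₗ (idEquiv F hF).toLinearMap) =
      (m : Submodule (Cd k A) A).restrictScalars k := by
    intro m
    ext x
    constructor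
    · rintro ⟨y, rfl⟩
      exact ((e m).symm _).2
    · intro hx
      refine ⟨(idEquiv F hF).symm ((LinearEquiv.ofEq _ _ hFS).symm (e m ⟨x, hx⟩)), ?_⟩
      change (((e m).symm ((LinearEquiv.ofEq _ _ hFS) ((idEquiv F hF) ((idEquiv F hF).symm
        ((LinearEquiv.ofEq _ _ hFS).symm (e m ⟨x, hx⟩)))))) : A) = x
      rw [LinearEquiv.apply_symm_apply, LinearEquiv.apply_symm_apply,
        LinearEquiv.symm_apply_apply]
  refine ⟨↥s, fun m => (g m).restrictScalars k ∘ₗ (idEquiv F hF).toLinearMap, ?_, ?_, ?_⟩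
  · intro m
    refine ⟨isComodHom_of_restr F hF (g m), ?_⟩
    intro x y hxy
    apply (idEquiv F hF).injective
    apply (LinearEquiv.ofEq _ _ hFS).injective
    apply (e m).symm.injective
    exact Subtype.ext hxy
  · have h1 := (sSupIndep_iff _).mp hind
    intro i
    have h2 := h1 i
    rw [← Submodule.disjoint_restrictScalars_iff (S := k)] at h2
    simp only [hrange]
    simpa only [Submodule.restrictScalars_iSup] using h2
  · simp only [hrange]
    rw [sSup_eq_iSup'] at hsup
    rw [← Submodule.restrictScalars_iSup, hsup]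
    rfl

end Iso

end Groth.Agent.Lib.Helper26.Comod
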