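import Groth.Agent.Lib.Helper26.CoalgCoeff
import Mathlib.LinearAlgebra.Dimension.Finite
import Mathlib.LinearAlgebra.FiniteDimensional.Lemmas

/-!
# Simple subcomodules, socles of subcoalgebras, cosemisimplicity (helper26)
-/

open TensorProduct

universe u v w w'

namespace Groth.Agent.Lib.Helper26.Comod

open HopfRep

section Simple

variable {k : Type u} [Field k] {A : Type v} [AddCommGroup A] [Module k A] [Coalgebra k A]
variable {V : Type w} [AddCommGroup V] [Module k V] [Comod k A V]
variable {W : Type w'} [AddCommGroup W] [Module k W] [Comod k A W]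

attribute [local instance] dualModule

/-- every nonzero subcomodule contains a simple subcomodule -/
theorem exists_simple_le (F : Submodule (Cd k A) V) (hF : F ≠ ⊥) :
    ∃ S : Submodule (Cd k A) V, S ≤ F ∧ IsSimpleModule (Cd k A) S := by
  classical
  obtain ⟨v, hvF, hv0⟩ := Submodule.exists_mem_ne_zero_of_ne_bot hF
  let P : ℕ → Prop := fun n => ∃ S : Submodule (Cd k A) V, S ≤ F ∧ S ≠ ⊥ ∧
    Module.Finite k (S.restrictScalars k) ∧ Module.finrank k (S.restrictScalars k) = n
  have hP : ∃ n, P n := by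
    refine ⟨_, toD (gen k A v) (isSubcomod_gen v), ?_, ?_, ?_, rfl⟩
    · rintro _ ⟨φ, rfl⟩
      exact F.smul_mem (WithConv.toConv φ : Cd k A) hvF
    · intro h
      have : v ∈ toD (gen k A v) (isSubcomod_gen v) := mem_gen v
      rw [h] at this
      exact hv0 ((Submodule.mem_bot _).mp this)
    · exact finite_gen v
  obtain ⟨S, hSF, hS0, hSfin, hSn⟩ := Nat.find_spec hP
  refine ⟨S, hSF, ?_⟩
  rw [isSimpleModule_iff_isAtom]
  refine ⟨hS0, fun S' hS' => ?_⟩
  by_contra hS'0
  haveI := hSfin
  have hlt : Module.finrank k (S'.restrictScalars k) < Module.finrank k (S.restrictScalars k) :=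
    Submodule.finrank_lt_finrank_of_lt (by exact hS')
  have hfin' : Module.Finite k (S'.restrictScalars k) :=
    Submodule.finiteDimensional_of_le (show S'.restrictScalars k ≤ S.restrictScalars k from hS'.le)
  have := Nat.find_min' hP ⟨S', hS'.le.trans hSF, hS'0, hfin', rfl⟩
  omega

theorem map_simple (f : V →ₗ[Cd k A] W) (m : Submodule (Cd k A) V) [IsSimpleModule (Cd k A) m] :
    m.map f = ⊥ ∨ IsSimpleModule (Cd k A) (m.map f) := by
  rcases @LinearMap.injective_or_eq_zero (Cd k A) _ m _ _ W _ _ _ (f.domRestrict m) with h | h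
  · right
    have e : m ≃ₗ[Cd k A] m.map f := by
      have e1 := LinearEquiv.ofInjective (f.domRestrict m) h
      have : LinearMap.range (f.domRestrict m) = m.map f := by
        ext x
        constructor
        · rintro ⟨y, rfl⟩
          exact ⟨y, y.2, rfl⟩
        · rintro ⟨y, hy, rfl⟩
          exact ⟨⟨y, hy⟩, rfl⟩
      exact e1.trans (LinearEquiv.ofEq _ _ this)
    exact @IsSimpleModule.congr (Cd k A) _ _ _ _ m _ _ e.symm _
  · left
    rw [eq_bot_iff]
    rintro _ ⟨y, hy, rfl⟩
    have := LinearMap.congr_fun h ⟨y, hy⟩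
    simpa using this

/-- the socle of a subcomodule -/
noncomputable def socle (F : Submodule (Cd k A) V) : Submodule (Cd k A) V :=
  sSup {m | m ≤ F ∧ IsSimpleModule (Cd k A) m}

theorem socle_le (F : Submodule (Cd k A) V) : socle F ≤ F :=
  sSup_le fun _ hm => hm.1

theorem map_socle_le (F : Submodule (Cd k A) V) (f : Module.End (Cd k A) V)
    (hf : F ≤ F.comap f) : (socle F).map f ≤ socle F := by
  rw [Submodule.map_le_iff_le_comap]
  apply sSup_le
  rintro m ⟨hmF, hm⟩
  rw [← Submodule.map_le_iff_le_comap]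
  have := hm
  rcases map_simple f m with h | h
  · rw [h]; exact bot_le
  · apply le_sSup
    refine ⟨?_, h⟩
    rw [Submodule.map_le_iff_le_comap]
    exact hmF.trans hf

theorem isSemisimpleModule_socle (F : Submodule (Cd k A) V) :
    IsSemisimpleModule (Cd k A) (socle F) := by
  rw [socle, sSup_eq_iSup]
  apply isSemisimpleModule_biSup_of_isSemisimpleModule_submodule
  rintro m ⟨_, hm⟩
  have := hm
  infer_instance

theorem socle_ne_bot (F : Submodule (Cd k A) V) (hF : F ≠ ⊥) : socle F ≠ ⊥ := by
  obtain ⟨S, hSF, hS⟩ := exists_simple_le F hF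
  intro h
  have hle : S ≤ socle F := le_sSup ⟨hSF, hS⟩
  rw [h, le_bot_iff] at hle
  exact (isSimpleModule_iff_isAtom.mp hS).1 hle

end Simple

section SimpleCoalg

variable {k : Type u} [Field k] {A : Type v} [AddCommGroup A] [Module k A] [Coalgebra k A]

attribute [local instance] dualModule

/-- `D` is a simple subcoalgebra. -/
def IsSimpleSubcoalg (D : Submodule k A) : Prop :=
  D ≠ ⊥ ∧ IsSubcoalg D ∧ ∀ B : Submodule k A, B ≤ D → IsSubcoalg B → B = ⊥ ∨ B = D

theorem isSubcoalg_socle {D : Submodule k A} (hD : IsSubcoalg D) :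
    IsSubcoalg ((socle (toD D hD.isSubcomod)).restrictScalars k) := by
  rw [isSubcoalg_iff]
  refine ⟨(isSubcomod_iff _).mp (isSubcomod_restrictScalarsD _), fun φ b hb => ?_⟩
  have h := map_socle_le (toD D hD.isSubcomod) (UD φ) (fun x hx =>
    ((isSubcoalg_iff D).mp hD).2 φ x hx)
  exact h ⟨b, hb, rfl⟩

theorem socle_eq_of_isSimpleSubcoalg {D : Submodule k A} (hD : IsSimpleSubcoalg D) :
    socle (toD D hD.2.1.isSubcomod) = toD D hD.2.1.isSubcomod := by
  have h1 := isSubcoalg_socle hD.2.1
  have hle : (socle (toD D hD.2.1.isSubcomod)).restrictScalars k ≤ D :=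
    fun x hx => socle_le _ hx
  rcases hD.2.2 _ hle h1 with h | h
  · exfalso
    rw [Submodule.restrictScalars_eq_bot_iff] at h
    refine socle_ne_bot (toD D hD.2.1.isSubcomod) ?_ h
    intro h0
    apply hD.1
    rw [← toD_restrictScalars D hD.2.1.isSubcomod, h0, Submodule.restrictScalars_bot]
  · apply le_antisymm (socle_le _)
    intro x hx
    have : x ∈ D := hx
    rw [← h] at this
    exact this

theorem isSemisimpleModule_of_isSimpleSubcoalg {D : Submodule k A} (hD : IsSimpleSubcoalg D) :
    IsSemisimpleModule (Cd k A) (toD D hD.2.1.isSubcomod) := by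
  rw [← socle_eq_of_isSimpleSubcoalg hD]
  exact isSemisimpleModule_socle _

end SimpleCoalg

end Groth.Agent.Lib.Helper26.Comod
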