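import Mathlib
import Groth.Prelude.Def_CxOX
import Groth.Agent.Lib.Helper26.CxI
import Groth.Agent.Lib.Helper26.RFTri

set_option maxHeartbeats 400000
set_option linter.style.haveILetI false
set_option linter.unusedSectionVars false

universe u

open CategoryTheory CategoryTheory.Limits AlgebraicGeometry Opposite ZeroObject

namespace Groth.Agent.Lib.Helper26.CxJ

open Scheme.Modules Groth.Agent.Lib.Helper26.MVMod4
  Groth.Agent.Lib.Helper26.SuppD1 Groth.Agent.Lib.Helper26.SuppD2 Groth.Agent.Lib.Helper26.SuppD3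
open Pretriangulated

attribute [local instance] HasDerivedCategory.standard

/-- `Rf_*` sends distinguished triangles to distinguished triangles -/
theorem rpush_distinguished {X Y : Scheme.{u}} (f : X ⟶ Y) [DCoh.HasRpush f]
    (T : Triangle (DCoh.D X)) (hT : T ∈ distTriang _) :
    ∃ δ : (DCoh.Rpush f).obj T.obj₃ ⟶ ((DCoh.Rpush f).obj T.obj₁)⟦(1 : ℤ)⟧,
      Triangle.mk ((DCoh.Rpush f).map T.mor₁) ((DCoh.Rpush f).map T.mor₂) δ ∈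
        distTriang (DCoh.D Y) :=
  Groth.Agent.Lib.Helper26.RFTri.exists_distinguished
    (Groth.Agent.Lib.Helper26.KInjAdjH.hK (B := X.Modules)) (DCoh.pushKh f) (DCoh.Rpush f)
    ((DCoh.pushKh f).totalRightDerivedUnit DerivedCategory.Qh
      (HomotopyCategory.quasiIso X.Modules (ComplexShape.up ℤ))) T hT


variable {X Y : Scheme.{u}} (f : X ⟶ Y) (U : Y.Opens)
  [CxOX.HasRgammaZ U.ι] [CxOX.HasRgammaZ (f ⁻¹ᵁ U).ι] [DCoh.HasRpush f]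

theorem exists_alpha (K : DCoh.D X) :
    ∃ α : (DCoh.Rpush f).obj ((CxOX.RgammaZ (f ⁻¹ᵁ U).ι).obj K) ⟶
        (CxOX.RgammaZ U.ι).obj ((DCoh.Rpush f).obj K),
      α ≫ (CxOX.RgammaZToId U.ι).app ((DCoh.Rpush f).obj K) =
        (DCoh.Rpush f).map ((CxOX.RgammaZToId (f ⁻¹ᵁ U).ι).app K) := by
  haveI := hasRpush U.ι
  obtain ⟨adjY⟩ := Groth.Agent.Lib.Helper26.CxI.nonempty_adj U.ι
  exact Groth.Agent.Lib.Helper26.CxH.exists_lift U adjY _ _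
    (Groth.Agent.Lib.Helper26.CxD.isZero_restrictD_Rpush f U _
      (Groth.Agent.Lib.Helper26.CxC.isZero_restrictD_RgammaZ (f ⁻¹ᵁ U) K)) _

theorem isIso_alpha (K : DCoh.D X)
    (α : (DCoh.Rpush f).obj ((CxOX.RgammaZ (f ⁻¹ᵁ U).ι).obj K) ⟶
        (CxOX.RgammaZ U.ι).obj ((DCoh.Rpush f).obj K))
    (hα : α ≫ (CxOX.RgammaZToId U.ι).app ((DCoh.Rpush f).obj K) =
        (DCoh.Rpush f).map ((CxOX.RgammaZToId (f ⁻¹ᵁ U).ι).app K)) : IsIso α := by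
  haveI := hasRpush U.ι
  haveI := hasRpush (f ⁻¹ᵁ U).ι
  haveI := hasRpush (f ∣_ U)
  haveI := hasRpush ((f ⁻¹ᵁ U).ι ≫ f)
  obtain ⟨adjY⟩ := Groth.Agent.Lib.Helper26.CxI.nonempty_adj U.ι
  obtain ⟨adjX⟩ := Groth.Agent.Lib.Helper26.CxI.nonempty_adj (f ⁻¹ᵁ U).ι
  obtain ⟨δ₁, hT₁⟩ := Groth.Agent.Lib.Helper26.CxH.exists_triangle_unit (f ⁻¹ᵁ U) adjX K
  obtain ⟨δ₁', hT₁'⟩ : ∃ δ₁' : (DCoh.Rpush f).obj ((DCoh.Rpush (f ⁻¹ᵁ U).ι).obj
      ((DCoh.restrictD (f ⁻¹ᵁ U).ι).obj K)) ⟶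
      ((DCoh.Rpush f).obj ((CxOX.RgammaZ (f ⁻¹ᵁ U).ι).obj K))⟦(1 : ℤ)⟧,
      Triangle.mk ((DCoh.Rpush f).map ((CxOX.RgammaZToId (f ⁻¹ᵁ U).ι).app K))
        ((DCoh.Rpush f).map (adjX.unit.app K)) δ₁' ∈ distTriang (DCoh.D Y) :=
    rpush_distinguished f _ hT₁
  obtain ⟨δ₂, hT₂⟩ :=
    Groth.Agent.Lib.Helper26.CxH.exists_triangle_unit U adjY ((DCoh.Rpush f).obj K)
  have h0 : IsZero ((DCoh.restrictD U.ι).obj
      ((DCoh.Rpush f).obj ((CxOX.RgammaZ (f ⁻¹ᵁ U).ι).obj K))) :=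
    Groth.Agent.Lib.Helper26.CxD.isZero_restrictD_Rpush f U _
      (Groth.Agent.Lib.Helper26.CxC.isZero_restrictD_RgammaZ (f ⁻¹ᵁ U) K)
  obtain ⟨γ, hγ₁, hγ₂⟩ : ∃ γ : (DCoh.Rpush f).obj ((DCoh.Rpush (f ⁻¹ᵁ U).ι).obj
      ((DCoh.restrictD (f ⁻¹ᵁ U).ι).obj K)) ⟶
      (DCoh.Rpush U.ι).obj ((DCoh.restrictD U.ι).obj ((DCoh.Rpush f).obj K)),
      (DCoh.Rpush f).map (adjX.unit.app K) ≫ γ = adjY.unit.app ((DCoh.Rpush f).obj K) ∧
      δ₁' ≫ α⟦(1 : ℤ)⟧' = γ ≫ δ₂ := by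
    obtain ⟨γ, h1, h2⟩ := complete_distinguished_triangle_morphism _ _ hT₁' hT₂ α (𝟙 _)
      (by
        change (DCoh.Rpush f).map ((CxOX.RgammaZToId (f ⁻¹ᵁ U).ι).app K) ≫ 𝟙 _ = α ≫ _
        rw [Category.comp_id]
        exact hα.symm)
    refine ⟨γ, ?_, h2⟩
    change (DCoh.Rpush f).map (adjX.unit.app K) ≫ γ = 𝟙 _ ≫ adjY.unit.app _ at h1
    rw [Category.id_comp] at h1
    exact h1
  have hP : IsIso (adjY.unit.app ((DCoh.Rpush f).obj ((DCoh.Rpush (f ⁻¹ᵁ U).ι).obj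
      ((DCoh.restrictD (f ⁻¹ᵁ U).ι).obj K)))) := by
    obtain ⟨e₁⟩ := Groth.Agent.Lib.Helper26.CxI.rpush_factor (f ⁻¹ᵁ U).ι f _ rfl
      ((DCoh.restrictD (f ⁻¹ᵁ U).ι).obj K)
    obtain ⟨e₂⟩ := Groth.Agent.Lib.Helper26.CxI.rpush_factor (f ∣_ U) U.ι _
      (morphismRestrict_ι f U) ((DCoh.restrictD (f ⁻¹ᵁ U).ι).obj K)
    exact Groth.Agent.Lib.Helper26.CxA.isIso_unit_of_iso U.ι adjY _ _ (e₁.symm ≪≫ e₂)
  have hQ : IsIso (adjY.unit.app ((DCoh.Rpush U.ι).obj ((DCoh.restrictD U.ι).obj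
      ((DCoh.Rpush f).obj K)))) :=
    Groth.Agent.Lib.Helper26.CxA.isIso_unit_of_iso U.ι adjY _ _ (Iso.refl _)
  have hjγ : IsIso ((DCoh.restrictD U.ι).map γ) := by
    have h1 : IsIso ((DCoh.restrictD U.ι).map (adjY.unit.app ((DCoh.Rpush f).obj K))) :=
      Groth.Agent.Lib.Helper26.CxA.isIso_restrict_unit U.ι adjY _
    have h2 : IsIso ((DCoh.restrictD U.ι).map ((DCoh.Rpush f).map (adjX.unit.app K))) := by
      have hT' := (DCoh.restrictD U.ι).map_distinguished _ hT₁'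
      exact (Triangle.isZero₁_iff_isIso₂ _ hT').1 h0
    have h3 : (DCoh.restrictD U.ι).map ((DCoh.Rpush f).map (adjX.unit.app K)) ≫
        (DCoh.restrictD U.ι).map γ =
        (DCoh.restrictD U.ι).map (adjY.unit.app ((DCoh.Rpush f).obj K)) := by
      rw [← Functor.map_comp, hγ₁]
    exact IsIso.of_isIso_fac_left h3
  have hγ : IsIso γ := by
    have nat := adjY.unit.naturality γ
    dsimp at nat
    haveI : IsIso ((DCoh.Rpush U.ι).map ((DCoh.restrictD U.ι).map γ)) := inferInstance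
    haveI : IsIso (γ ≫ adjY.unit.app ((DCoh.Rpush U.ι).obj ((DCoh.restrictD U.ι).obj
        ((DCoh.Rpush f).obj K)))) := by
      rw [nat]
      infer_instance
    exact IsIso.of_isIso_comp_right γ (adjY.unit.app ((DCoh.Rpush U.ι).obj
      ((DCoh.restrictD U.ι).obj ((DCoh.Rpush f).obj K))))
  let φ : Triangle.mk ((DCoh.Rpush f).map ((CxOX.RgammaZToId (f ⁻¹ᵁ U).ι).app K))
      ((DCoh.Rpush f).map (adjX.unit.app K)) δ₁' ⟶
      Triangle.mk ((CxOX.RgammaZToId U.ι).app ((DCoh.Rpush f).obj K))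
        (adjY.unit.app ((DCoh.Rpush f).obj K)) δ₂ :=
    { hom₁ := α
      hom₂ := 𝟙 _
      hom₃ := γ
      comm₁ := by
        change (DCoh.Rpush f).map ((CxOX.RgammaZToId (f ⁻¹ᵁ U).ι).app K) ≫ 𝟙 _ = α ≫ _
        rw [Category.comp_id]
        exact hα.symm
      comm₂ := by
        change (DCoh.Rpush f).map (adjX.unit.app K) ≫ γ = 𝟙 _ ≫ adjY.unit.app _
        rw [Category.id_comp]
        exact hγ₁
      comm₃ := hγ₂ }
  exact isIso₁_of_isIso₂₃ φ hT₁' hT₂ (IsIso.id _) hγ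

end Groth.Agent.Lib.Helper26.CxJ
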