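import Mathlib
import Groth.Prelude.Def_Coh
import Groth.Prelude.Def_ClSub2
import Groth.Prelude.Def_DCoh2
import Groth.Agent.Lib.Helper26.CohSupp
import Groth.Agent.Lib.Helper26.CxJ
import Groth.Agent.Lib.Helper6.K0Filt
import Groth.Agent.Lib.Helper16.DerTrunc2
import Groth.Agent.S0031

set_option autoImplicit false
set_option maxHeartbeats 400000
set_option linter.style.haveILetI false
set_option linter.unusedSectionVars false
universe u
open CategoryTheory CategoryTheory.Limits AlgebraicGeometry Opposite TopologicalSpace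

attribute [local instance] HasDerivedCategory.standard

namespace Groth.Agent.Lib.Helper26.CohSuppD

open Groth.Agent.Lib.Helper26 DerivedCategory

variable {X S : Scheme.{u}} (f : X ⟶ S)

/-- coherent with support proper over the base -/
def Qp (M : X.Modules) : Prop := Coh.IsCoh M ∧ ClSub.IsProperOver f (CohB1.support M)

theorem Qp_of_iso {M N : X.Modules} (e : M ≅ N) (h : Qp f M) : Qp f N := by
  refine ⟨CohFive.isCoh_of_iso e h.1, ?_⟩
  rw [Groth.Agent.Lib.Helper6.K0Filt.support_eq_of_iso e]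
  exact h.2

variable [IsNoetherian S] [LocallyOfFiniteType f] [DCoh.HasRpush f]

/-- `Rf_*` of a bounded below complex with coherent cohomology with proper supports has coherent
cohomology -/
theorem isCohD_Rpush (E : DCoh.D X) (a : ℤ) [E.IsGE a] (hE : DCoh.IsCohD E)
    (hsupp : ∀ i : ℤ, ClSub.IsProperOver f (CohB1.support (DCoh.HD E i))) :
    DCoh.IsCohD ((DCoh.Rpush f).obj E) := by
  intro i
  haveI : EnoughInjectives X.Modules :=
    Groth.Agent.Lib.Helper8.SheafModGroth.enoughInjectives _ X.ringCatSheaf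
  haveI : HasInjectiveResolutions X.Modules := inferInstance
  exact RFSerre.serre (KInjAdjH.hK (B := X.Modules)) (Scheme.Modules.pushforward f) (DCoh.Rpush f)
    ((DCoh.pushKh f).totalRightDerivedUnit Qh
      (HomotopyCategory.quasiIso X.Modules (ComplexShape.up ℤ)))
    (fun M : S.Modules => Coh.IsCoh M) (fun M N e h => CohFive.isCoh_of_iso e h)
    (fun M h => CohFive.isCoh_of_isZero M h) CohFive.coh_five (Qp f)
    (fun M N e h => Qp_of_iso f e h) (fun G hG p => CohSupp.main f G hG.1 hG.2 p)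
    E a (fun j => ⟨hE j, hsupp j⟩) i

/-- uniform vanishing of the higher direct images of a coherent module with proper support -/
theorem exists_vanishing [HasInjectiveResolutions X.Modules] (M : X.Modules) (hM : Qp f M) :
    ∃ n : ℕ, ∀ p : ℕ, n ≤ p → IsZero ((Coh.Rpush f p).obj M) := by
  obtain ⟨Z, i, hi, hprop, G, hGq, hGft, ⟨e⟩⟩ :=
    (Groth.Agent.S0792.result f M hM.1.1 hM.1.2).1 hM.2
  haveI := hi
  haveI := hprop
  haveI : EnoughInjectives Z.Modules :=
    Groth.Agent.Lib.Helper8.SheafModGroth.enoughInjectives _ Z.ringCatSheaf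
  haveI : HasInjectiveResolutions Z.Modules := inferInstance
  haveI : Coh.IsQCoh G := hGq
  obtain ⟨n, hn⟩ := Groth.Agent.S0031.result (i ≫ f)
  refine ⟨n, fun p hp => ?_⟩
  obtain ⟨c⟩ := PushComp.nonempty_Rpush_comp_iso i f G p
  obtain ⟨e'⟩ := Groth.Agent.S11319.result (i ≫ f) G p
  have hz : IsZero ((Coh.Rpush (i ≫ f) p).obj G) :=
    PushComp.isZero_of_isZero_toAb _ (IsZero.of_iso (hn G hGq p hp) e')
  exact IsZero.of_iso hz (((Coh.Rpush f p).mapIso e).symm ≪≫ c)

/-- `Rf_*` of a bounded complex with coherent cohomology with proper supports is bounded above -/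
theorem exists_isLE_Rpush (E : DCoh.D X) (a b : ℤ) [E.IsGE a] [E.IsLE b] (hE : DCoh.IsCohD E)
    (hsupp : ∀ i : ℤ, ClSub.IsProperOver f (CohB1.support (DCoh.HD E i))) :
    ∃ b' : ℤ, ((DCoh.Rpush f).obj E).IsLE b' := by
  haveI : EnoughInjectives X.Modules :=
    Groth.Agent.Lib.Helper8.SheafModGroth.enoughInjectives _ X.ringCatSheaf
  haveI : HasInjectiveResolutions X.Modules := inferInstance
  let St : DerivedCategory X.Modules → Prop := fun Y => ∃ c : ℤ, ((DCoh.Rpush f).obj Y).IsLE c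
  have hiso : ∀ Y Y' : DerivedCategory X.Modules, (Y ≅ Y') → St Y → St Y' := by
    rintro Y Y' e ⟨c, hc⟩
    exact ⟨c, (TStructure.t (C := S.Modules)).isLE_of_iso ((DCoh.Rpush f).mapIso e) c⟩
  have hzero : ∀ Y : DerivedCategory X.Modules, IsZero Y → St Y := by
    intro Y hY
    refine ⟨0, ?_⟩
    rw [DerivedCategory.isLE_iff]
    intro k _
    exact Functor.map_isZero _ (SuppD3.isZero_Rpush_obj f Y hY)
  have hext : ∀ T ∈ distTriang (DerivedCategory X.Modules), St T.obj₁ → St T.obj₃ → St T.obj₂ := by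
    rintro T hT ⟨c₁, h₁⟩ ⟨c₃, h₃⟩
    obtain ⟨δ, hT'⟩ := CxJ.rpush_distinguished f T hT
    refine ⟨max c₁ c₃, ?_⟩
    have h1 : (TStructure.t (C := S.Modules)).IsLE ((DCoh.Rpush f).obj T.obj₁) (max c₁ c₃) :=
      (TStructure.t (C := S.Modules)).isLE_of_le _ c₁ _ (le_max_left _ _)
    have h3 : (TStructure.t (C := S.Modules)).IsLE ((DCoh.Rpush f).obj T.obj₃) (max c₁ c₃) :=
      (TStructure.t (C := S.Modules)).isLE_of_le _ c₃ _ (le_max_right _ _)
    exact (TStructure.t (C := S.Modules)).isLE₂ _ hT' (max c₁ c₃) h1 h3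
  by_cases hab : b + 1 < a
  · exact hzero E ((TStructure.t (C := X.Modules)).isZero E b a (by omega))
  obtain ⟨n, hn⟩ : ∃ n : ℕ, b + 1 = a + n :=
    ⟨(b + 1 - a).toNat, by rw [Int.toNat_of_nonneg (by omega)]; omega⟩
  refine Groth.Agent.Lib.Helper16.DerT.bounded_induction St hiso hzero hext n a b hn E ?_
  intro j _ _
  have hQ : Qp f ((homologyFunctor X.Modules j).obj E) := ⟨hE j, hsupp j⟩
  obtain ⟨m, hm⟩ := exists_vanishing f _ hQ
  refine ⟨j + m, ?_⟩
  rw [DerivedCategory.isLE_iff]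
  intro k hk
  obtain ⟨p, hp⟩ : ∃ p : ℕ, j + p = k := ⟨(k - j).toNat, by omega⟩
  obtain ⟨ε⟩ := PushComp.HD_Rpush_of_single f
    ((singleFunctor X.Modules j).obj ((homologyFunctor X.Modules j).obj E)) j p k hp
  refine IsZero.of_iso ?_ ε
  refine IsZero.of_iso (hm p (by omega)) ((Coh.Rpush f p).mapIso
    ((singleFunctorCompHomologyFunctorIso X.Modules j).app ((homologyFunctor X.Modules j).obj E)))

end Groth.Agent.Lib.Helper26.CohSuppD
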