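import Mathlib
set_option maxHeartbeats 400000
universe u
namespace Groth.Agent.Lib.Helper26.HermiteNF
open PowerSeries

variable {k : Type u} [Field k] {r : ℕ}

/-- division with remainder by `X^e` -/
lemma div_rem (φ : PowerSeries k) (e : ℕ) :
    ∃ q ρ : PowerSeries k, φ = X ^ e * q + ρ ∧ ∀ n, e ≤ n → coeff n ρ = 0 := by
  refine ⟨PowerSeries.mk (fun n => coeff (n + e) φ), φ - X ^ e * PowerSeries.mk (fun n => coeff (n + e) φ),
    by ring, ?_⟩
  intro n hn
  rw [map_sub, coeff_X_pow_mul', if_pos hn, coeff_mk, Nat.sub_add_cancel hn, sub_self]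

lemma eq_zero_of_mul_X_pow_red (c : PowerSeries k) (e : ℕ)
    (h : ∀ n, e ≤ n → coeff n (c * X ^ e) = 0) : c = 0 := by
  ext m
  have := h (m + e) (Nat.le_add_left _ _)
  rw [coeff_mul_X_pow] at this
  simpa using this

/-- the row lattice -/
noncomputable def Lat (M : Matrix (Fin r) (Fin r) (PowerSeries k)) : Submodule (PowerSeries k) (Fin r → PowerSeries k) :=
  LinearMap.range (Matrix.vecMulLinear M)

lemma mem_Lat (M : Matrix (Fin r) (Fin r) (PowerSeries k)) (v : Fin r → PowerSeries k) :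
    v ∈ Lat M ↔ ∃ c, Matrix.vecMul c M = v := by
  unfold Lat
  simp [LinearMap.mem_range]

lemma det_smul_mem (M : Matrix (Fin r) (Fin r) (PowerSeries k)) (c : Fin r → PowerSeries k) :
    M.det • c ∈ Lat M := by
  rw [mem_Lat]
  refine ⟨Matrix.vecMul c M.adjugate, ?_⟩
  rw [Matrix.vecMul_vecMul, Matrix.adjugate_mul, Matrix.vecMul_smul, Matrix.vecMul_one]

/-- pivots -/
lemma exists_pivot (M : Matrix (Fin r) (Fin r) (PowerSeries k)) (hM : M.det ≠ 0) (j : Fin r) :
    ∃ (e : ℕ) (w : Fin r → PowerSeries k), w ∈ Lat M ∧ (∀ i, i < j → w i = 0) ∧ w j = X ^ e ∧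
      ∀ v ∈ Lat M, (∀ i, i < j → v i = 0) → X ^ e ∣ v j := by
  classical
  have hex : ∃ n : ℕ, ∃ v ∈ Lat M, (∀ i, i < j → v i = 0) ∧ v j ≠ 0 ∧ (v j).order.toNat = n := by
    refine ⟨_, M.det • Pi.single j 1, det_smul_mem M _, ?_, ?_, rfl⟩
    · intro i hi
      simp [Pi.single_apply, ne_of_lt hi]
    · simpa using hM
  obtain ⟨v₀, hv₀L, hv₀z, hv₀ne, hv₀o⟩ := Nat.find_spec hex
  set e := Nat.find hex with he
  obtain ⟨uu, huu⟩ := isUnit_divided_by_X_pow_order hv₀ne
  have hfac : v₀ j = X ^ e * (uu : PowerSeries k) := by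
    rw [huu, ← hv₀o]
    exact X_pow_order_mul_divXPowOrder.symm
  refine ⟨e, ((uu⁻¹ : (PowerSeries k)ˣ) : PowerSeries k) • v₀, Submodule.smul_mem _ _ hv₀L, ?_, ?_, ?_⟩
  · intro i hi
    simp [hv₀z i hi]
  · rw [Pi.smul_apply, hfac, smul_eq_mul, mul_comm, mul_assoc, Units.mul_inv, mul_one]
  · intro v hvL hvz
    by_cases hvj : v j = 0
    · rw [hvj]; exact dvd_zero _
    · have hmin : e ≤ (v j).order.toNat := Nat.find_min' hex ⟨v, hvL, hvz, hvj, rfl⟩
      exact dvd_trans (pow_dvd_pow X hmin) X_pow_order_dvd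

end Groth.Agent.Lib.Helper26.HermiteNF

namespace Groth.Agent.Lib.Helper26.HermiteNF
open PowerSeries
variable {k : Type u} [Field k] {r : ℕ}

lemma reduce (M : Matrix (Fin r) (Fin r) (PowerSeries k)) (e : Fin r → ℕ)
    (w : Fin r → Fin r → PowerSeries k)
    (hwL : ∀ j, w j ∈ Lat M) (hwz : ∀ j i, i < j → w j i = 0) (hwj : ∀ j, w j j = X ^ e j) :
    ∀ (d j' : ℕ), j' + d = r → ∀ v : Fin r → PowerSeries k, (∀ i : Fin r, (i:ℕ) < j' → v i = 0) →
      ∃ lam ∈ Lat M, (∀ i : Fin r, (i:ℕ) < j' → lam i = 0) ∧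
        ∀ l : Fin r, j' ≤ (l:ℕ) → ∀ n, e l ≤ n → coeff n ((v - lam) l) = 0 := by
  classical
  intro d
  induction d with
  | zero =>
    intro j' hj' v _
    refine ⟨0, Submodule.zero_mem _, fun _ _ => rfl, ?_⟩
    intro l hl
    have := l.2
    omega
  | succ d ih =>
    intro j' hj' v hv
    have hj'r : j' < r := by omega
    set j : Fin r := ⟨j', hj'r⟩ with hj
    obtain ⟨q, ρ, hφ, hρ⟩ := div_rem (v j) (e j)
    obtain ⟨v', hv'def⟩ : ∃ v' : Fin r → PowerSeries k, v' = v - q • w j - Pi.single j ρ := ⟨_, rfl⟩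
    have hv' : ∀ i : Fin r, (i:ℕ) < j' + 1 → v' i = 0 := by
      intro i hi
      rw [hv'def]
      by_cases hij : i = j
      · subst hij
        simp only [Pi.sub_apply, Pi.smul_apply, Pi.single_eq_same, smul_eq_mul, hwj]
        rw [hφ]; ring
      · have hlt : i < j := by
          rw [Fin.lt_def]
          have : (i:ℕ) ≠ j' := fun h => hij (Fin.ext h)
          change (i:ℕ) < j'
          omega
        simp only [Pi.sub_apply, Pi.smul_apply, Pi.single_apply, if_neg hij, smul_eq_mul,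
          hwz j i hlt, hv i hlt, mul_zero, sub_zero]
    obtain ⟨lam', hlam'L, hlam'z, hlam'r⟩ := ih (j' + 1) (by omega) v' hv'
    refine ⟨q • w j + lam', Submodule.add_mem _ (Submodule.smul_mem _ _ (hwL j)) hlam'L, ?_, ?_⟩
    · intro i hi
      have hlt : i < j := hi
      simp only [Pi.add_apply, Pi.smul_apply, smul_eq_mul, hwz j i hlt, mul_zero, zero_add]
      exact hlam'z i (by omega)
    · intro l hl n hn
      by_cases hlj : l = j
      · subst hlj
        have h1 : (v - (q • w j + lam')) j = ρ := by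
          simp only [Pi.sub_apply, Pi.add_apply, Pi.smul_apply, smul_eq_mul, hwj,
            hlam'z j (by simp [hj])]
          rw [hφ]; ring
        rw [h1]
        exact hρ n hn
      · have hl' : j' + 1 ≤ (l:ℕ) := by
          have : (l:ℕ) ≠ j' := fun h => hlj (Fin.ext h)
          omega
        have h1 : (v - (q • w j + lam')) l = (v' - lam') l := by
          rw [hv'def]
          simp only [Pi.sub_apply, Pi.add_apply, Pi.smul_apply, Pi.single_apply, if_neg hlj]
          ring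
        rw [h1]
        exact hlam'r l hl' n hn

end Groth.Agent.Lib.Helper26.HermiteNF

namespace Groth.Agent.Lib.Helper26.HermiteNF
open PowerSeries
variable {k : Type u} [Field k] {r : ℕ}

lemma exists_rows (M : Matrix (Fin r) (Fin r) (PowerSeries k)) (hM : M.det ≠ 0) :
    ∃ (e : Fin r → ℕ) (Hr : Fin r → Fin r → PowerSeries k), (∀ j, Hr j ∈ Lat M) ∧
      (∀ j i, i < j → Hr j i = 0) ∧ (∀ j, Hr j j = X ^ e j) ∧
      (∀ j l, j < l → ∀ n, e l ≤ n → coeff n (Hr j l) = 0) ∧
      (∀ j, ∀ v ∈ Lat M, (∀ i, i < j → v i = 0) → X ^ e j ∣ v j) := by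
  classical
  choose e w hwL hwz hwj hwdvd using exists_pivot M hM
  have hred : ∀ j : Fin r, ∃ lam ∈ Lat M, (∀ i : Fin r, (i:ℕ) < (j:ℕ) + 1 → lam i = 0) ∧
        ∀ l : Fin r, (j:ℕ) + 1 ≤ (l:ℕ) → ∀ n, e l ≤ n →
          coeff n (((w j - Pi.single j (X ^ e j) : Fin r → PowerSeries k) - lam) l) = 0 := by
    intro j
    refine reduce M e w hwL hwz hwj (r - ((j:ℕ) + 1)) ((j:ℕ) + 1) (by have := j.2; omega) _ ?_
    intro i hi
    by_cases hij : i = j
    · subst hij
      simp [hwj]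
    · have hlt : i < j := by
        rw [Fin.lt_def]
        have : (i:ℕ) ≠ (j:ℕ) := fun h => hij (Fin.ext h)
        omega
      simp [hwz j i hlt, Pi.single_apply, hij]
  choose lam hlamL hlamz hlamr using hred
  refine ⟨e, fun j => w j - lam j, fun j => Submodule.sub_mem _ (hwL j) (hlamL j), ?_, ?_, ?_, hwdvd⟩
  · intro j i hij
    have h1 : (i:ℕ) < (j:ℕ) + 1 := by have : (i:ℕ) < j := hij; omega
    simp [hwz j i hij, hlamz j i h1]
  · intro j
    simp [hwj, hlamz j j (by omega)]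
  · intro j l hjl n hn
    have h1 : (j:ℕ) + 1 ≤ (l:ℕ) := hjl
    have h2 := hlamr j l h1 n hn
    have hne : l ≠ j := ne_of_gt hjl
    simpa [Pi.single_apply, hne] using h2

lemma mem_span_rows (M : Matrix (Fin r) (Fin r) (PowerSeries k)) (e : Fin r → ℕ)
    (Hr : Fin r → Fin r → PowerSeries k) (hL : ∀ j, Hr j ∈ Lat M)
    (hz : ∀ j i, i < j → Hr j i = 0) (hd : ∀ j, Hr j j = X ^ e j)
    (hdvd : ∀ j, ∀ v ∈ Lat M, (∀ i, i < j → v i = 0) → X ^ e j ∣ v j) :
    ∀ (d j' : ℕ), j' + d = r → ∀ v ∈ Lat M, (∀ i : Fin r, (i:ℕ) < j' → v i = 0) →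
      v ∈ Submodule.span (PowerSeries k) (Set.range Hr) := by
  intro d
  induction d with
  | zero =>
    intro j' hj' v _ hv
    have : v = 0 := by
      funext i
      exact hv i (by have := i.2; omega)
    rw [this]
    exact Submodule.zero_mem _
  | succ d ih =>
    intro j' hj' v hvL hv
    have hj'r : j' < r := by omega
    set j : Fin r := ⟨j', hj'r⟩ with hj
    obtain ⟨q, hq⟩ := hdvd j v hvL (fun i hi => hv i hi)
    have hv' : v - q • Hr j ∈ Submodule.span (PowerSeries k) (Set.range Hr) := by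
      apply ih (j' + 1) (by omega) _ (Submodule.sub_mem _ hvL (Submodule.smul_mem _ _ (hL j)))
      intro i hi
      by_cases hij : i = j
      · subst hij
        simp only [Pi.sub_apply, Pi.smul_apply, smul_eq_mul, hd, hq]
        ring
      · have hlt : i < j := by
          rw [Fin.lt_def]
          have : (i:ℕ) ≠ j' := fun h => hij (Fin.ext h)
          change (i:ℕ) < j'
          omega
        simp only [Pi.sub_apply, Pi.smul_apply, smul_eq_mul, hz j i hlt, hv i hlt, mul_zero,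
          sub_zero]
    have : v = (v - q • Hr j) + q • Hr j := by ring
    rw [this]
    exact Submodule.add_mem _ hv' (Submodule.smul_mem _ _ (Submodule.subset_span ⟨j, rfl⟩))

end Groth.Agent.Lib.Helper26.HermiteNF

namespace Groth.Agent.Lib.Helper26.HermiteNF
open PowerSeries
variable {k : Type u} [Field k] {r : ℕ}

lemma cancel_right (M Y : Matrix (Fin r) (Fin r) (PowerSeries k)) (hM : M.det ≠ 0)
    (h : Y * M = 0) : Y = 0 := by
  have h1 : Y * M * M.adjugate = 0 := by rw [h, zero_mul]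
  rw [mul_assoc, Matrix.mul_adjugate, Matrix.mul_smul, mul_one] at h1
  refine Matrix.ext (fun i j => ?_)
  have h2 := congrFun (congrFun h1 i) j
  simp only [Matrix.smul_apply, smul_eq_mul, Matrix.zero_apply] at h2
  rcases mul_eq_zero.mp h2 with h3 | h3
  · exact absurd h3 hM
  · exact h3

def RowRed (H : Matrix (Fin r) (Fin r) (PowerSeries k)) (e : Fin r → ℕ) : Prop :=
  (∀ i, H i i = PowerSeries.X ^ e i) ∧ (∀ i j, j < i → H i j = 0) ∧
    (∀ i j, i < j → ∀ n, e j ≤ n → PowerSeries.coeff n (H i j) = 0)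

lemma existence (M : Matrix (Fin r) (Fin r) (PowerSeries k)) (hM : M.det ≠ 0) :
    ∃ H : Matrix (Fin r) (Fin r) (PowerSeries k), (∃ e, RowRed H e) ∧
      ∃ N : Matrix (Fin r) (Fin r) (PowerSeries k), IsUnit N ∧ N * M = H := by
  classical
  obtain ⟨e, Hr, hL, hz, hd, hred, hdvd⟩ := exists_rows M hM
  refine ⟨Matrix.of Hr, ⟨e, fun i => hd i, fun i j hji => hz i j hji, fun i j hij => hred i j hij⟩, ?_⟩
  have hc : ∀ j, ∃ c, Matrix.vecMul c M = Hr j := fun j => (mem_Lat M _).mp (hL j)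
  choose c hc using hc
  have hNM : Matrix.of c * M = Matrix.of Hr := by
    refine Matrix.ext (fun i j => ?_)
    rw [Matrix.mul_apply_eq_vecMul]
    exact congrFun (hc i) j
  have hrow : ∀ i, M i ∈ Submodule.span (PowerSeries k) (Set.range Hr) := by
    intro i
    apply mem_span_rows M e Hr hL hz hd hdvd r 0 (by omega)
    · rw [mem_Lat]
      exact ⟨Pi.single i 1, Matrix.single_one_vecMul i M⟩
    · intro i' hi'
      omega
  have hc' : ∀ i, ∃ c', Matrix.vecMul c' (Matrix.of Hr) = M i := by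
    intro i
    have h1 := hrow i
    have h2 : Submodule.span (PowerSeries k) (Set.range Hr)
        = LinearMap.range (Matrix.vecMulLinear (Matrix.of Hr)) := by
      rw [_root_.range_vecMulLinear]
      rfl
    rw [h2] at h1
    obtain ⟨c', hc'⟩ := h1
    exact ⟨c', hc'⟩
  choose c' hc' using hc'
  have hN'H : Matrix.of c' * Matrix.of Hr = M := by
    refine Matrix.ext (fun i j => ?_)
    rw [Matrix.mul_apply_eq_vecMul]
    exact congrFun (hc' i) j
  have h1 : (Matrix.of c' * Matrix.of c - 1) * M = 0 := by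
    rw [sub_mul, mul_assoc, hNM, hN'H, one_mul, sub_self]
  have h2 : Matrix.of c' * Matrix.of c = 1 := sub_eq_zero.mp (cancel_right M _ hM h1)
  have h3 : Matrix.of c * Matrix.of c' = 1 := mul_eq_one_comm.mp h2
  exact ⟨Matrix.of c, ⟨⟨Matrix.of c, Matrix.of c', h3, h2⟩, rfl⟩, hNM⟩

end Groth.Agent.Lib.Helper26.HermiteNF

namespace Groth.Agent.Lib.Helper26.HermiteNF
open PowerSeries
variable {k : Type u} [Field k] {r : ℕ}

lemma vecMul_diag (H : Matrix (Fin r) (Fin r) (PowerSeries k)) (e : Fin r → ℕ) (hH : RowRed H e)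
    (c : Fin r → PowerSeries k) (i : Fin r) (hc : ∀ l, l < i → c l = 0) :
    Matrix.vecMul c H i = c i * X ^ e i := by
  rw [show Matrix.vecMul c H i = ∑ l, c l * H l i from rfl]
  rw [Finset.sum_eq_single i]
  · rw [hH.1 i]
  · intro l _ hli
    rcases lt_or_gt_of_ne hli with h | h
    · rw [hc l h, zero_mul]
    · rw [hH.2.1 l i h, mul_zero]
  · intro h; exact absurd (Finset.mem_univ i) h

lemma coeff_zero_of (H : Matrix (Fin r) (Fin r) (PowerSeries k)) (e : Fin r → ℕ) (hH : RowRed H e)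
    (c : Fin r → PowerSeries k) (j : Fin r)
    (hz : ∀ i, i ≤ j → Matrix.vecMul c H i = 0)
    (hr : ∀ l, j < l → ∀ n, e l ≤ n → coeff n (Matrix.vecMul c H l) = 0) : c = 0 := by
  have key : ∀ (m : ℕ) (l : Fin r), (l : ℕ) = m → c l = 0 := by
    intro m
    induction m using Nat.strong_induction_on with
    | _ m ih =>
      intro l hl
      have hc : ∀ l', l' < l → c l' = 0 := fun l' hl' => ih (l' : ℕ) (by rw [← hl]; exact hl') l' rfl
      have h1 := vecMul_diag H e hH c l hc
      by_cases hlj : l ≤ j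
      · have h2 := hz l hlj
        rw [h1] at h2
        rcases mul_eq_zero.mp h2 with h3 | h3
        · exact h3
        · exact absurd h3 (pow_ne_zero _ X_ne_zero)
      · have h2 := hr l (not_le.mp hlj)
        rw [h1] at h2
        exact eq_zero_of_mul_X_pow_red (c l) (e l) h2
  funext l
  exact key l l rfl

lemma coeff_zero_below (H : Matrix (Fin r) (Fin r) (PowerSeries k)) (e : Fin r → ℕ)
    (hH : RowRed H e) (c : Fin r → PowerSeries k) (j : Fin r)
    (hz : ∀ i, i < j → Matrix.vecMul c H i = 0) : ∀ i, i < j → c i = 0 := by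
  have key : ∀ (m : ℕ) (l : Fin r), (l : ℕ) = m → l < j → c l = 0 := by
    intro m
    induction m using Nat.strong_induction_on with
    | _ m ih =>
      intro l hl hlj
      have hc : ∀ l', l' < l → c l' = 0 :=
        fun l' hl' => ih (l' : ℕ) (by rw [← hl]; exact hl') l' rfl (lt_trans hl' hlj)
      have h1 := vecMul_diag H e hH c l hc
      have h2 := hz l hlj
      rw [h1] at h2
      rcases mul_eq_zero.mp h2 with h3 | h3
      · exact h3
      · exact absurd h3 (pow_ne_zero _ X_ne_zero)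
  intro i hi
  exact key i i rfl hi

lemma e_le (H H' U : Matrix (Fin r) (Fin r) (PowerSeries k)) (e e' : Fin r → ℕ)
    (hH : RowRed H e) (hH' : RowRed H' e') (hU : U * H = H') (j : Fin r) : e j ≤ e' j := by
  have hrow : ∀ i, Matrix.vecMul (U j) H i = H' j i := by
    intro i
    rw [← hU, Matrix.mul_apply_eq_vecMul]
  have hc := coeff_zero_below H e hH (U j) j (fun i hi => by rw [hrow, hH'.2.1 j i hi])
  have h1 := vecMul_diag H e hH (U j) j hc
  rw [hrow, hH'.1 j] at h1
  by_contra hlt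
  push Not at hlt
  have h2 : (X : PowerSeries k) ^ e j ∣ X ^ e' j := ⟨U j j, by rw [h1, mul_comm]⟩
  have h3 := (X_pow_dvd_iff.mp h2) (e' j) hlt
  rw [coeff_X_pow_self] at h3
  exact one_ne_zero h3

lemma uniqueness (H H' U : Matrix (Fin r) (Fin r) (PowerSeries k)) (e e' : Fin r → ℕ)
    (hH : RowRed H e) (hH' : RowRed H' e') (hU : U * H = H') (hee : e = e') : H = H' := by
  classical
  subst hee
  refine Matrix.ext (fun j => ?_)
  have hrow : ∀ i, Matrix.vecMul (U j) H i = H' j i := by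
    intro i
    rw [← hU, Matrix.mul_apply_eq_vecMul]
  have hrowH : ∀ i, Matrix.vecMul (Pi.single j 1) H i = H j i := by
    intro i
    rw [Matrix.single_one_vecMul]
    rfl
  have hD : ∀ i, Matrix.vecMul (Pi.single j 1 - U j) H i = H j i - H' j i := by
    intro i
    rw [Matrix.sub_vecMul, Pi.sub_apply, hrow, hrowH]
  have hc : Pi.single j 1 - U j = 0 := by
    apply coeff_zero_of H e hH _ j
    · intro i hij
      rw [hD]
      rcases lt_or_eq_of_le hij with h | h
      · rw [hH.2.1 j i h, hH'.2.1 j i h, sub_self]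
      · rw [h, hH.1 j, hH'.1 j, sub_self]
    · intro l hjl n hn
      rw [hD, map_sub, hH.2.2 j l hjl n hn, hH'.2.2 j l hjl n hn, sub_self]
  intro i
  have := hD i
  rw [hc, Matrix.zero_vecMul, Pi.zero_apply] at this
  exact sub_eq_zero.mp this.symm

theorem main (M : Matrix (Fin r) (Fin r) (PowerSeries k)) (hM : M.det ≠ 0) :
    ∃! H : Matrix (Fin r) (Fin r) (PowerSeries k),
      (∃ e : Fin r → ℕ, (∀ i, H i i = PowerSeries.X ^ e i) ∧ (∀ i j, j < i → H i j = 0) ∧
        (∀ i j, i < j → ∀ n, e j ≤ n → PowerSeries.coeff n (H i j) = 0)) ∧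
      ∃ N : Matrix (Fin r) (Fin r) (PowerSeries k), IsUnit N ∧ N * M = H := by
  obtain ⟨H, ⟨e, hH⟩, N, hN, hNM⟩ := existence M hM
  refine ⟨H, ⟨⟨e, hH⟩, N, hN, hNM⟩, ?_⟩
  rintro H' ⟨⟨e', hH'⟩, N', hN', hN'M⟩
  obtain ⟨Nu, rfl⟩ := hN
  obtain ⟨Nu', rfl⟩ := hN'
  have hU : ((Nu' : Matrix (Fin r) (Fin r) (PowerSeries k)) * ((Nu⁻¹ : (Matrix (Fin r) (Fin r) (PowerSeries k))ˣ) : Matrix (Fin r) (Fin r) (PowerSeries k))) * H = H' := by
    rw [← hNM, mul_assoc, ← mul_assoc _ _ M, Units.inv_mul, one_mul, hN'M]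
  have hU' : ((Nu : Matrix (Fin r) (Fin r) (PowerSeries k)) * ((Nu'⁻¹ : (Matrix (Fin r) (Fin r) (PowerSeries k))ˣ) : Matrix (Fin r) (Fin r) (PowerSeries k))) * H' = H := by
    rw [← hN'M, mul_assoc, ← mul_assoc _ _ M, Units.inv_mul, one_mul, hNM]
  have hee : e = e' := by
    funext j
    exact le_antisymm (e_le H H' _ e e' hH hH' hU j) (e_le H' H _ e' e hH' hH hU' j)
  exact (uniqueness H H' _ e e' hH hH' hU hee).symm

end Groth.Agent.Lib.Helper26.HermiteNF
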