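import Mathlib
import Groth.Agent.Lib.Helper26.HermiteNF
set_option maxHeartbeats 400000
universe u
namespace Groth.Agent.Lib.Helper26.ColRed
open PowerSeries Groth.Agent.Lib.Helper26.HermiteNF

variable {k : Type u} [Field k] {r : ℕ} (p : ℕ)

/-- the subring `k[[t^p]]` -/
def Sp : Subring (PowerSeries k) where
  carrier := {f | ∀ n, ¬ p ∣ n → coeff n f = 0}
  mul_mem' := by
    intro f g hf hg n hn
    rw [coeff_mul]
    apply Finset.sum_eq_zero
    intro x hx
    rw [Finset.HasAntidiagonal.mem_antidiagonal] at hx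
    by_cases ha : p ∣ x.1
    · have hb : ¬ p ∣ x.2 := by
        intro hb
        exact hn (hx ▸ dvd_add ha hb)
      rw [hg _ hb, mul_zero]
    · rw [hf _ ha, zero_mul]
  one_mem' := by
    intro n hn
    rw [coeff_one, if_neg]
    rintro rfl
    exact hn (dvd_zero p)
  add_mem' := by
    intro f g hf hg n hn
    rw [map_add, hf n hn, hg n hn, add_zero]
  zero_mem' := by intro n _; simp
  neg_mem' := by
    intro f hf n hn
    rw [map_neg, hf n hn, neg_zero]

def InSp (P : Matrix (Fin r) (Fin r) (PowerSeries k)) : Prop := ∀ i j, P i j ∈ Sp (k := k) p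

lemma InSp_mul (P Q : Matrix (Fin r) (Fin r) (PowerSeries k)) (hP : InSp p P) (hQ : InSp p Q) :
    InSp p (P * Q) := by
  intro i j
  rw [Matrix.mul_apply]
  exact Subring.sum_mem _ (fun l _ => Subring.mul_mem _ (hP i l) (hQ l j))

lemma InSp_one : InSp p (1 : Matrix (Fin r) (Fin r) (PowerSeries k)) := by
  intro i j
  by_cases h : i = j
  · subst h; rw [Matrix.one_apply_eq]; exact Subring.one_mem _
  · rw [Matrix.one_apply_ne h]; exact Subring.zero_mem _

lemma InSp_transvection (i j : Fin r) (g : PowerSeries k) (hg : g ∈ Sp (k := k) p) :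
    InSp p (Matrix.transvection i j g) := by
  intro a b
  unfold Matrix.transvection
  rw [Matrix.add_apply]
  refine Subring.add_mem _ (InSp_one p a b) ?_
  by_cases h : i = a ∧ j = b
  · obtain ⟨rfl, rfl⟩ := h
    have : Matrix.single i j g i j = g := Matrix.single_apply_same i j g
    rw [this]; exact hg
  · have : Matrix.single i j g a b = 0 := Matrix.single_apply_of_ne i j g a b h
    rw [this]; exact Subring.zero_mem _

lemma isUnit_transvection (i j : Fin r) (hij : i ≠ j) (g : PowerSeries k) :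
    IsUnit (Matrix.transvection i j g) := by
  refine ⟨⟨Matrix.transvection i j g, Matrix.transvection i j (-g), ?_, ?_⟩, rfl⟩
  · rw [Matrix.transvection_mul_transvection_same i j hij, add_neg_cancel, Matrix.transvection_zero]
  · rw [Matrix.transvection_mul_transvection_same i j hij, neg_add_cancel, Matrix.transvection_zero]

/-- the correction series -/
noncomputable def gcorr (φ : PowerSeries k) (e : ℕ) : PowerSeries k :=
  PowerSeries.mk (fun m => if p ∣ m then coeff (m + e) φ else 0)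

lemma gcorr_mem (φ : PowerSeries k) (e : ℕ) : gcorr p φ e ∈ Sp (k := k) p := by
  intro n hn
  unfold gcorr
  rw [coeff_mk, if_neg hn]

def Done (H : Matrix (Fin r) (Fin r) (PowerSeries k)) (e : Fin r → ℕ) (i j : Fin r) : Prop :=
  ∀ n, e i ≤ n → n % p = e i % p → coeff n (H i j) = 0

end Groth.Agent.Lib.Helper26.ColRed

namespace Groth.Agent.Lib.Helper26.ColRed
open PowerSeries Groth.Agent.Lib.Helper26.HermiteNF
variable {k : Type u} [Field k] {r : ℕ} (p : ℕ)

lemma coeff_gcorr_mul (φ ψ : PowerSeries k) (ei ej : ℕ) (hφ : ∀ n, ej ≤ n → coeff n φ = 0)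
    (hψ : ∀ a, ei < a → coeff a ψ = 0) : ∀ n, ej ≤ n → coeff n (gcorr p φ ei * ψ) = 0 := by
  intro n hn
  rw [coeff_mul]
  apply Finset.sum_eq_zero
  intro x hx
  rw [Finset.HasAntidiagonal.mem_antidiagonal] at hx
  by_cases ha : ei < x.2
  · rw [hψ _ ha, mul_zero]
  · unfold gcorr
    rw [coeff_mk]
    split_ifs
    · rw [hφ (x.1 + ei) (by omega), zero_mul]
    · rw [zero_mul]

lemma step (H : Matrix (Fin r) (Fin r) (PowerSeries k)) (e : Fin r → ℕ) (hH : RowRed H e)
    (i j : Fin r) (hij : i < j) :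
    RowRed (H * Matrix.transvection i j (-(gcorr p (H i j) (e i)))) e ∧
    Done p (H * Matrix.transvection i j (-(gcorr p (H i j) (e i)))) e i j ∧
    (∀ l j', j' ≠ j → (H * Matrix.transvection i j (-(gcorr p (H i j) (e i)))) l j' = H l j') ∧
    (∀ l, i < l → (H * Matrix.transvection i j (-(gcorr p (H i j) (e i)))) l j = H l j) := by
  set g := gcorr p (H i j) (e i) with hg
  have hne : ∀ l j', j' ≠ j → (H * Matrix.transvection i j (-g)) l j' = H l j' :=
    fun l j' h => Matrix.mul_transvection_apply_of_ne i j l j' h (-g) H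
  have hsame : ∀ l, (H * Matrix.transvection i j (-g)) l j = H l j + (-g) * H l i :=
    fun l => Matrix.mul_transvection_apply_same i j l (-g) H
  have hgt : ∀ l, i < l → (H * Matrix.transvection i j (-g)) l j = H l j := by
    intro l hl
    rw [hsame, hH.2.1 l i hl, mul_zero, add_zero]
  refine ⟨⟨?_, ?_, ?_⟩, ?_, hne, hgt⟩
  · intro a
    by_cases haj : a = j
    · subst haj
      rw [hgt a hij, hH.1 a]
    · rw [hne a a haj, hH.1 a]
  · intro a b hba
    by_cases hbj : b = j
    · subst hbj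
      rw [hgt a (lt_trans hij hba), hH.2.1 a b hba]
    · rw [hne a b hbj, hH.2.1 a b hba]
  · intro a b hab n hn
    by_cases hbj : b = j
    · subst hbj
      rw [hsame, map_add, hH.2.2 a b hab n hn, zero_add, neg_mul, map_neg, neg_eq_zero]
      by_cases hai : i < a
      · rw [hH.2.1 a i hai, mul_zero, map_zero]
      · apply coeff_gcorr_mul p (H i b) (H a i) (e i) (e b) (hH.2.2 i b hij) ?_ n hn
        intro m hm
        rcases lt_or_eq_of_le (not_lt.mp hai) with h | h
        · exact hH.2.2 a i h m (le_of_lt hm)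
        · rw [h, hH.1 i, coeff_X_pow, if_neg (ne_of_gt hm)]
    · rw [hne a b hbj]
      exact hH.2.2 a b hab n hn
  · intro n hn hmod
    rw [hsame, hH.1 i, map_add, neg_mul, map_neg, coeff_mul_X_pow', if_pos hn]
    have hdvd : p ∣ n - e i := Nat.dvd_of_mod_eq_zero (Nat.sub_mod_eq_zero_of_mod_eq hmod)
    rw [hg]
    unfold gcorr
    rw [coeff_mk, if_pos hdvd, Nat.sub_add_cancel hn, add_neg_cancel]

end Groth.Agent.Lib.Helper26.ColRed

namespace Groth.Agent.Lib.Helper26.ColRed
open PowerSeries Groth.Agent.Lib.Helper26.HermiteNF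
variable {k : Type u} [Field k] {r : ℕ} (p : ℕ)

lemma inner (H₀ : Matrix (Fin r) (Fin r) (PowerSeries k)) (e : Fin r → ℕ) (c : ℕ) (hc : c < r)
    (P₀ : Matrix (Fin r) (Fin r) (PowerSeries k))
    (h₀ : IsUnit P₀ ∧ InSp p P₀ ∧ RowRed (H₀ * P₀) e ∧
      ∀ i j : Fin r, i < j → (j:ℕ) < c → Done p (H₀ * P₀) e i j) :
    ∀ d, d ≤ c → ∃ P : Matrix (Fin r) (Fin r) (PowerSeries k),
      IsUnit P ∧ InSp p P ∧ RowRed (H₀ * P) e ∧
      (∀ i j : Fin r, i < j → (j:ℕ) < c → Done p (H₀ * P) e i j) ∧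
      (∀ i : Fin r, (i:ℕ) < c → c ≤ (i:ℕ) + d → Done p (H₀ * P) e i ⟨c, hc⟩) := by
  intro d
  induction d with
  | zero =>
    intro _
    refine ⟨P₀, h₀.1, h₀.2.1, h₀.2.2.1, h₀.2.2.2, ?_⟩
    intro i hi hci
    omega
  | succ d ih =>
    intro hd
    obtain ⟨P, hPu, hPs, hPr, hPd, hPc⟩ := ih (by omega)
    set jc : Fin r := ⟨c, hc⟩ with hjc
    set i₀ : Fin r := ⟨c - (d + 1), by omega⟩ with hi₀
    have hi₀j : i₀ < jc := by
      rw [Fin.lt_def]
      change c - (d + 1) < c
      omega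
    obtain ⟨hR, hD, hne, hgt⟩ := step p (H₀ * P) e hPr i₀ jc hi₀j
    set T := Matrix.transvection i₀ jc (-(gcorr p ((H₀ * P) i₀ jc) (e i₀))) with hT
    refine ⟨P * T, hPu.mul (isUnit_transvection i₀ jc (ne_of_lt hi₀j) _),
      InSp_mul p P T hPs (InSp_transvection p i₀ jc _ (Subring.neg_mem _ (gcorr_mem p _ _))), ?_, ?_, ?_⟩
    · rw [← mul_assoc]; exact hR
    · intro i j hij hjc' n hn hmod
      rw [← mul_assoc, hne i j (by intro h; rw [h] at hjc'; exact lt_irrefl _ hjc')]
      exact hPd i j hij hjc' n hn hmod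
    · intro i hi hci
      by_cases hii : i = i₀
      · rw [hii, ← mul_assoc]; exact hD
      · have hgt' : i₀ < i := by
          rw [Fin.lt_def]
          change c - (d + 1) < (i:ℕ)
          have : (i:ℕ) ≠ c - (d + 1) := fun h => hii (Fin.ext h)
          omega
        intro n hn hmod
        rw [← mul_assoc, hgt i hgt']
        refine hPc i hi ?_ n hn hmod
        have : c - (d + 1) < (i:ℕ) := hgt'
        omega

lemma outer (H₀ : Matrix (Fin r) (Fin r) (PowerSeries k)) (e : Fin r → ℕ) (hH₀ : RowRed H₀ e) :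
    ∀ c, c ≤ r → ∃ P : Matrix (Fin r) (Fin r) (PowerSeries k),
      IsUnit P ∧ InSp p P ∧ RowRed (H₀ * P) e ∧
      (∀ i j : Fin r, i < j → (j:ℕ) < c → Done p (H₀ * P) e i j) := by
  intro c
  induction c with
  | zero =>
    intro _
    refine ⟨1, isUnit_one, InSp_one p, by rwa [mul_one], ?_⟩
    intro i j _ hj
    omega
  | succ c ih =>
    intro hc
    obtain ⟨P₀, h₀⟩ := ih (by omega)
    obtain ⟨P, hPu, hPs, hPr, hPd, hPc⟩ := inner p H₀ e c (by omega) P₀ h₀ c le_rfl
    refine ⟨P, hPu, hPs, hPr, ?_⟩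
    intro i j hij hjc
    by_cases hj : (j:ℕ) < c
    · exact hPd i j hij hj
    · have hjeq : j = ⟨c, by omega⟩ := Fin.ext (by simp; omega)
      rw [hjeq]
      apply hPc i
      · have : (i:ℕ) < (j:ℕ) := hij
        omega
      · omega

theorem main (M : Matrix (Fin r) (Fin r) (PowerSeries k)) (hM : M.det ≠ 0) :
    ∃ (N P : Matrix (Fin r) (Fin r) (PowerSeries k)) (e : Fin r → ℕ), IsUnit N ∧ IsUnit P ∧
      (∀ i j n, ¬ p ∣ n → PowerSeries.coeff n (P i j) = 0) ∧
      (∀ i, (N * M * P) i i = PowerSeries.X ^ e i) ∧ (∀ i j, j < i → (N * M * P) i j = 0) ∧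
      (∀ i j, i < j → ∀ n, (e j ≤ n ∨ (e i ≤ n ∧ n % p = e i % p)) →
        PowerSeries.coeff n ((N * M * P) i j) = 0) := by
  obtain ⟨H₀, ⟨e, hH₀⟩, N, hN, hNM⟩ := existence M hM
  obtain ⟨P, hPu, hPs, hPr, hPd⟩ := outer p H₀ e hH₀ r le_rfl
  refine ⟨N, P, e, hN, hPu, fun i j n hn => hPs i j n hn, ?_, ?_, ?_⟩
  · intro i; rw [hNM]; exact hPr.1 i
  · intro i j hji; rw [hNM]; exact hPr.2.1 i j hji
  · intro i j hij n hn
    rw [hNM]
    rcases hn with hn | ⟨hn, hmod⟩
    · exact hPr.2.2 i j hij n hn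
    · exact hPd i j hij j.2 n hn hmod

end Groth.Agent.Lib.Helper26.ColRed
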