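import Mathlib
set_option maxHeartbeats 400000
universe u
namespace Groth.Agent.Lib.Helper26.CondShift
open PowerSeries

variable {k : Type u} [Field k] {s : ℕ}

lemma single_mem_cond (c : Fin s → ℕ) (i : Fin s) (h : PowerSeries k)
    (hh : ((c i : ℕ) : ℕ∞) ≤ h.order) :
    ∀ j, ((c j : ℕ) : ℕ∞) ≤ ((Pi.single i h : Fin s → PowerSeries k) j).order := by
  intro j
  by_cases hji : j = i
  · subst hji; simpa using hh
  · rw [Pi.single_apply, if_neg hji, order_zero]; exact le_top

theorem main (R : Subalgebra k (Fin s → PowerSeries k))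
    (c : Fin s → ℕ)
    (hc : ∀ f : Fin s → PowerSeries k,
      (∀ g : Fin s → PowerSeries k, g * f ∈ R) ↔ ∀ i, ((c i : ℕ) : ℕ∞) ≤ (f i).order)
    (I : Ideal ↥R) (a : Fin s → ℕ)
    (ha : (∀ i : Fin s, Ideal.map ((Pi.evalAlgHom k (fun _ : Fin s => PowerSeries k) i).comp R.val) I
      = Ideal.span {PowerSeries.X ^ (a i)})) :
    (∀ g : Fin s → PowerSeries k, (∀ i : Fin s, ((a i + c i : ℕ) : ℕ∞) ≤ (g i).order) →
      ∃ hgR : g ∈ R, (⟨g, hgR⟩ : ↥R) ∈ I) ∧
    (∀ f ∈ I, ∀ i : Fin s, ((a i : ℕ) : ℕ∞) ≤ ((f : Fin s → PowerSeries k) i).order) := by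
  classical
  have hcondR : ∀ f : Fin s → PowerSeries k, (∀ i, ((c i : ℕ) : ℕ∞) ≤ (f i).order) → f ∈ R := by
    intro f hf
    have := (hc f).mpr hf 1
    rwa [one_mul] at this
  constructor
  · intro g hg
    -- the auxiliary ideals
    have key : ∀ i : Fin s, ∀ y ∈ Ideal.map
        ((Pi.evalAlgHom k (fun _ : Fin s => PowerSeries k) i).comp R.val) I,
        ∀ h : PowerSeries k, ((c i : ℕ) : ℕ∞) ≤ h.order →
          ∃ hR : (Pi.single i (h * y) : Fin s → PowerSeries k) ∈ R,
            (⟨Pi.single i (h * y), hR⟩ : ↥R) ∈ I := by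
      intro i
      let T : Ideal (PowerSeries k) :=
        { carrier := {y | ∀ h : PowerSeries k, ((c i : ℕ) : ℕ∞) ≤ h.order →
            ∃ hR : (Pi.single i (h * y) : Fin s → PowerSeries k) ∈ R,
              (⟨Pi.single i (h * y), hR⟩ : ↥R) ∈ I}
          add_mem' := by
            intro y₁ y₂ h₁ h₂ h hh
            obtain ⟨hR₁, hI₁⟩ := h₁ h hh
            obtain ⟨hR₂, hI₂⟩ := h₂ h hh
            have e : (Pi.single i (h * (y₁ + y₂)) : Fin s → PowerSeries k)
                = Pi.single i (h * y₁) + Pi.single i (h * y₂) := by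
              rw [mul_add, Pi.single_add]
            refine ⟨e ▸ R.add_mem hR₁ hR₂, ?_⟩
            have := I.add_mem hI₁ hI₂
            convert this using 1
            exact Subtype.ext e
          zero_mem' := by
            intro h _
            have e : (Pi.single i (h * 0) : Fin s → PowerSeries k) = 0 := by
              rw [mul_zero, Pi.single_zero]
            refine ⟨e ▸ R.zero_mem, ?_⟩
            have := I.zero_mem
            convert this using 1
            exact Subtype.ext e
          smul_mem' := by
            intro u y hy h hh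
            have hh' : ((c i : ℕ) : ℕ∞) ≤ (h * u).order :=
              le_trans (le_trans hh (le_add_right le_rfl)) (le_order_mul h u)
            obtain ⟨hR, hI⟩ := hy (h * u) hh'
            have e : (Pi.single i (h * (u • y)) : Fin s → PowerSeries k)
                = Pi.single i (h * u * y) := by
              rw [smul_eq_mul, mul_assoc]
            refine ⟨e ▸ hR, ?_⟩
            convert hI using 1
            exact Subtype.ext e }
      have hle : Ideal.map ((Pi.evalAlgHom k (fun _ : Fin s => PowerSeries k) i).comp R.val) I ≤ T := by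
        rw [Ideal.map_le_iff_le_comap]
        intro f hf h hh
        have hsR : (Pi.single i h : Fin s → PowerSeries k) ∈ R :=
          hcondR _ (single_mem_cond c i h hh)
        have e : (Pi.single i (h * ((Pi.evalAlgHom k (fun _ : Fin s => PowerSeries k) i).comp R.val f))
            : Fin s → PowerSeries k) = (Pi.single i h : Fin s → PowerSeries k) * (f : Fin s → PowerSeries k) := by
          funext j
          by_cases hji : j = i
          · subst hji; simp
          · simp [Pi.single_apply, hji]
        refine ⟨e ▸ R.mul_mem hsR f.2, ?_⟩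
        have := I.mul_mem_left ⟨Pi.single i h, hsR⟩ hf
        convert this using 1
        exact Subtype.ext e
      intro y hy
      exact hle hy
    -- decompose g
    have hdecomp : ∀ i : Fin s, ∃ hR : (Pi.single i (g i) : Fin s → PowerSeries k) ∈ R,
        (⟨Pi.single i (g i), hR⟩ : ↥R) ∈ I := by
      intro i
      have hdvd : (X : PowerSeries k) ^ (a i) ∣ g i := by
        rw [X_pow_dvd_iff]
        intro m hm
        apply coeff_of_lt_order
        refine lt_of_lt_of_le ?_ (hg i)
        exact_mod_cast (by omega : m < a i + c i)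
      obtain ⟨h, hh⟩ := hdvd
      have hord : ((c i : ℕ) : ℕ∞) ≤ h.order := by
        apply nat_le_order
        intro m hm
        have h1 : coeff (m + a i) (g i) = 0 := by
          apply coeff_of_lt_order
          refine lt_of_lt_of_le ?_ (hg i)
          exact_mod_cast (by omega : m + a i < a i + c i)
        rw [hh, mul_comm, coeff_mul_X_pow] at h1
        exact h1
      have hx : (X : PowerSeries k) ^ (a i) ∈ Ideal.map
          ((Pi.evalAlgHom k (fun _ : Fin s => PowerSeries k) i).comp R.val) I := by
        rw [ha i]; exact Ideal.subset_span rfl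
      obtain ⟨hR, hI⟩ := key i _ hx h hord
      have e : (Pi.single i (h * X ^ a i) : Fin s → PowerSeries k) = Pi.single i (g i) := by
        rw [hh, mul_comm]
      exact ⟨e ▸ hR, by convert hI using 1; exact Subtype.ext e.symm⟩
    choose hR hI using hdecomp
    have hsum : g = ∑ i, (Pi.single i (g i) : Fin s → PowerSeries k) :=
      (Finset.univ_sum_single g).symm
    have hgR : g ∈ R := by
      rw [hsum]; exact R.sum_mem (fun i _ => hR i)
    refine ⟨hgR, ?_⟩
    have := I.sum_mem (fun i (_ : i ∈ Finset.univ) => hI i)
    convert this using 1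
    apply Subtype.ext
    rw [AddSubmonoidClass.coe_finset_sum]
    exact hsum
  · intro f hf i
    have hmem : ((Pi.evalAlgHom k (fun _ : Fin s => PowerSeries k) i).comp R.val) f ∈
        Ideal.span {(X : PowerSeries k) ^ (a i)} := by
      rw [← ha i]; exact Ideal.mem_map_of_mem _ hf
    rw [Ideal.mem_span_singleton, X_pow_dvd_iff] at hmem
    exact nat_le_order _ _ hmem

end Groth.Agent.Lib.Helper26.CondShift
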