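import Mathlib
import Groth.Agent.Lib.Helper26.CondShift
set_option maxHeartbeats 400000
universe u
namespace Groth.Agent.Lib.Helper26.Colength
open PowerSeries

section linalg
variable {k : Type*} [Field k] {V W : Type*} [AddCommGroup V] [Module k V] [AddCommGroup W] [Module k W]

lemma finrank_quot_le (A B : Submodule k V) (h : A ≤ B) [Module.Finite k (V ⧸ A)] :
    Module.finrank k (V ⧸ B) ≤ Module.finrank k (V ⧸ A) := by
  have hs : Function.Surjective (Submodule.mapQ A B LinearMap.id (by simpa using h)) := by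
    intro y
    obtain ⟨x, rfl⟩ := Submodule.Quotient.mk_surjective _ y
    exact ⟨Submodule.Quotient.mk x, by simp⟩
  exact LinearMap.finrank_le_finrank_of_surjective hs  

lemma finite_quot_of_le (A B : Submodule k V) (h : A ≤ B) [Module.Finite k (V ⧸ A)] :
    Module.Finite k (V ⧸ B) := by
  have hs : Function.Surjective (Submodule.mapQ A B LinearMap.id (by simpa using h)) := by
    intro y
    obtain ⟨x, rfl⟩ := Submodule.Quotient.mk_surjective _ y
    exact ⟨Submodule.Quotient.mk x, by simp⟩
  exact Module.Finite.of_surjective _ hs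

lemma finrank_quot_lt (A B : Submodule k V) (h : A ≤ B) (hne : A ≠ B) [Module.Finite k (V ⧸ A)] :
    Module.finrank k (V ⧸ B) < Module.finrank k (V ⧸ A) := by
  have hAB : A ≤ B.comap LinearMap.id := by simpa using h
  have hs : Function.Surjective (Submodule.mapQ A B LinearMap.id hAB) := by
    intro y
    obtain ⟨x, rfl⟩ := Submodule.Quotient.mk_surjective _ y
    exact ⟨Submodule.Quotient.mk x, by simp⟩
  have h1 := LinearMap.finrank_range_add_finrank_ker (Submodule.mapQ A B LinearMap.id hAB)
  rw [LinearMap.range_eq_top.mpr hs, finrank_top] at h1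
  have hpos : 0 < Module.finrank k (LinearMap.ker (Submodule.mapQ A B LinearMap.id hAB)) := by
    obtain ⟨x, hxB, hxA⟩ : ∃ x ∈ B, x ∉ A := by
      by_contra hcon
      push_neg at hcon
      exact hne (le_antisymm h hcon)
    rw [Module.finrank_pos_iff]
    refine ⟨⟨⟨Submodule.Quotient.mk x, ?_⟩, 0, ?_⟩⟩
    · rw [LinearMap.mem_ker, Submodule.mapQ_apply, LinearMap.id_apply, Submodule.Quotient.mk_eq_zero]
      exact hxB
    · intro h0
      have := congrArg Subtype.val h0
      simp only [ZeroMemClass.coe_zero, Submodule.Quotient.mk_eq_zero] at this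
      exact hxA this
  omega

lemma finrank_quot_map (ι : W →ₗ[k] V) (hι : Function.Injective ι) (J : Submodule k W)
    [Module.Finite k (V ⧸ J.map ι)] :
    Module.finrank k (V ⧸ J.map ι) = Module.finrank k (V ⧸ LinearMap.range ι) + Module.finrank k (W ⧸ J) := by
  have hAB : J.map ι ≤ (LinearMap.range ι).comap LinearMap.id := by
    rintro _ ⟨w, _, rfl⟩
    exact ⟨w, rfl⟩
  set π := Submodule.mapQ (J.map ι) (LinearMap.range ι) LinearMap.id hAB with hπ
  have hs : Function.Surjective π := by
    intro y
    obtain ⟨x, rfl⟩ := Submodule.Quotient.mk_surjective _ y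
    exact ⟨Submodule.Quotient.mk x, by simp [hπ]⟩
  have hJ : J ≤ (J.map ι).comap ι := Submodule.le_comap_map _ _
  set ψ := Submodule.mapQ J (J.map ι) ι hJ with hψ
  have hψinj : Function.Injective ψ := by
    rw [← LinearMap.ker_eq_bot, hψ, Submodule.ker_mapQ, Submodule.comap_map_eq_of_injective hι,
      Submodule.mkQ_map_self]
  have hrange : LinearMap.range ψ = LinearMap.ker π := by
    rw [hψ, hπ, Submodule.ker_mapQ, Submodule.range_mapQ, Submodule.comap_id]
  have h1 := LinearMap.finrank_range_add_finrank_ker π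
  rw [LinearMap.range_eq_top.mpr hs, finrank_top, ← hrange, LinearMap.finrank_range_of_inj hψinj] at h1
  exact h1.symm

end linalg
variable {k : Type u} [Field k] {s : ℕ}

/-- truncation map -/
noncomputable def trunc (b : Fin s → ℕ) : (Fin s → PowerSeries k) →ₗ[k] (∀ i : Fin s, Fin (b i) → k) where
  toFun f := fun i j => PowerSeries.coeff (j : ℕ) (f i)
  map_add' f g := by ext i j; simp
  map_smul' r f := by ext i j; simp

lemma trunc_surjective (b : Fin s → ℕ) : Function.Surjective (trunc (k := k) b) := by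
  intro y
  refine ⟨fun i => PowerSeries.mk fun n => if h : n < b i then y i ⟨n, h⟩ else 0, ?_⟩
  ext i j
  simp [trunc, j.2]

/-- the submodule of tuples with orders at least `b` -/
noncomputable abbrev F (b : Fin s → ℕ) : Submodule k (Fin s → PowerSeries k) := LinearMap.ker (trunc b)

lemma mem_F (b : Fin s → ℕ) (f : Fin s → PowerSeries k) :
    f ∈ F b ↔ ∀ i, ((b i : ℕ) : ℕ∞) ≤ (f i).order := by
  rw [F, LinearMap.mem_ker]
  constructor
  · intro h i
    apply PowerSeries.nat_le_order
    intro n hn
    have := congrFun (congrFun h i) ⟨n, hn⟩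
    simpa [trunc] using this
  · intro h
    ext i j
    simp only [trunc, LinearMap.coe_mk, AddHom.coe_mk, Pi.zero_apply]
    apply PowerSeries.coeff_of_lt_order
    exact lt_of_lt_of_le (by exact_mod_cast j.2) (h i)


lemma finite_quot_ker {V W : Type*} [AddCommGroup V] [Module k V] [AddCommGroup W] [Module k W]
    [Module.Finite k W] (φ : V →ₗ[k] W) (hφ : Function.Surjective φ) :
    Module.Finite k (V ⧸ LinearMap.ker φ) :=
  Module.Finite.equiv (LinearMap.quotKerEquivOfSurjective φ hφ).symm

lemma finrank_quot_ker {V W : Type*} [AddCommGroup V] [Module k V] [AddCommGroup W] [Module k W]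
    (φ : V →ₗ[k] W) (hφ : Function.Surjective φ) :
    Module.finrank k (V ⧸ LinearMap.ker φ) = Module.finrank k W :=
  LinearEquiv.finrank_eq (LinearMap.quotKerEquivOfSurjective φ hφ)

instance finite_quot_F (b : Fin s → ℕ) : Module.Finite k ((Fin s → PowerSeries k) ⧸ F (k := k) b) := by
  have h1 := finite_quot_ker (trunc (k := k) b) (trunc_surjective b)
  exact h1

lemma finrank_quot_F (b : Fin s → ℕ) :
    Module.finrank k ((Fin s → PowerSeries k) ⧸ F (k := k) b) = ∑ i, b i := by
  have h1 := finrank_quot_ker (trunc (k := k) b) (trunc_surjective b)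
  rw [Module.finrank_pi_fintype] at h1
  simpa using h1


theorem main (R : Subalgebra k (Fin s → PowerSeries k))
    (hfin : Module.Finite k ((Fin s → PowerSeries k) ⧸ Subalgebra.toSubmodule R))
    (c : Fin s → ℕ)
    (hc : ∀ f : Fin s → PowerSeries k,
      (∀ g : Fin s → PowerSeries k, g * f ∈ R) ↔ ∀ i, ((c i : ℕ) : ℕ∞) ≤ (f i).order)
    (I : Ideal ↥R) (hI : Module.Finite k (↥R ⧸ I)) (a : Fin s → ℕ)
    (ha : (∀ i : Fin s, Ideal.map ((Pi.evalAlgHom k (fun _ : Fin s => PowerSeries k) i).comp R.val) I = Ideal.span {PowerSeries.X ^ (a i)})) :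
    (∑ i, a i) ≤ Module.finrank k (↥R ⧸ I) + Module.finrank k ((Fin s → PowerSeries k) ⧸ Subalgebra.toSubmodule R) ∧
    Module.finrank k (↥R ⧸ I) + Module.finrank k ((Fin s → PowerSeries k) ⧸ Subalgebra.toSubmodule R) ≤ (∑ i, a i) + ∑ i, c i ∧
    (R ≠ ⊤ → Module.finrank k (↥R ⧸ I) + Module.finrank k ((Fin s → PowerSeries k) ⧸ Subalgebra.toSubmodule R) < (∑ i, a i) + ∑ i, c i) := by
  obtain ⟨h1, h2⟩ := Groth.Agent.Lib.Helper26.CondShift.main R c hc I a ha
  set ι : ↥R →ₗ[k] (Fin s → PowerSeries k) := R.val.toLinearMap with hιdef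
  have hι : Function.Injective ι := Subtype.val_injective
  set J : Submodule k ↥R := I.restrictScalars k with hJ
  set A : Submodule k (Fin s → PowerSeries k) := J.map ι with hA
  have hAF : A ≤ F a := by
    rintro _ ⟨f, hf, rfl⟩
    rw [mem_F]; exact h2 f hf
  have hFA : F (fun i => a i + c i) ≤ A := by
    intro g hg
    rw [mem_F] at hg
    obtain ⟨hgR, hgI⟩ := h1 g hg
    exact ⟨⟨g, hgR⟩, hgI, rfl⟩
  haveI : Module.Finite k ((Fin s → PowerSeries k) ⧸ A) := finite_quot_of_le _ _ hFA
  have e1 := finrank_quot_map ι hι J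
  have e2 : LinearMap.range ι = Subalgebra.toSubmodule R := by
    ext x
    simp [ι]
  have e3 : Module.finrank k (↥R ⧸ J) = Module.finrank k (↥R ⧸ I) :=
    LinearEquiv.finrank_eq (Submodule.Quotient.restrictScalarsEquiv k I)
  have e4 := finrank_quot_le A (F a) hAF
  have e5 := finrank_quot_le (F (fun i => a i + c i)) A hFA
  rw [finrank_quot_F] at e4 e5
  rw [Finset.sum_add_distrib] at e5
  rw [e2, e3, ← hA] at e1
  refine ⟨by omega, by omega, ?_⟩
  intro hR
  have hne : F (fun i => a i + c i) ≠ A := by
    intro heq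
    apply hR
    have hc0 : ∀ i, c i = 0 := by
      intro i
      have hle : Ideal.map ((Pi.evalAlgHom k (fun _ : Fin s => PowerSeries k) i).comp R.val) I
          ≤ Ideal.span {PowerSeries.X ^ (a i + c i)} := by
        rw [Ideal.map_le_iff_le_comap]
        intro f hf
        have hfA : ι f ∈ A := ⟨f, hf, rfl⟩
        rw [← heq, mem_F] at hfA
        rw [Ideal.mem_comap, Ideal.mem_span_singleton, PowerSeries.X_pow_dvd_iff]
        intro m hm
        apply PowerSeries.coeff_of_lt_order
        exact lt_of_lt_of_le (by exact_mod_cast hm) (hfA i)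
      rw [ha i, Ideal.span_singleton_le_span_singleton, PowerSeries.X_pow_dvd_iff] at hle
      by_contra hci
      have := hle (a i) (by omega)
      rw [PowerSeries.coeff_X_pow_self] at this
      exact one_ne_zero this
    rw [eq_top_iff]
    intro g _
    have := (hc 1).mpr (fun i => by rw [hc0 i]; simp) g
    rwa [mul_one] at this
  have e6 := finrank_quot_lt (F (fun i => a i + c i)) A hFA hne
  rw [finrank_quot_F, Finset.sum_add_distrib] at e6
  omega

end Groth.Agent.Lib.Helper26.Colength
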