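import Groth.Agent.Lib.Helper26.ComodSS
import Groth.Prelude.Def_GLin
import Groth.Prelude.Def_Hoch

/-!
# Integrals on linearly reductive bialgebras (helper26)

`exists_integral`: a linearly reductive bialgebra over a field carries a normalized integral
`I : A → k` (`I 1 = 1`, `Σ I(a₁) a₂ = I(a) 1`); `exists_comodHom_unit`: hence a unital comodule map
`A → R` into any algebra with coaction, which feeds `Groth.Agent.Lib.Helper23` (Reynolds operator).
-/

open TensorProduct

universe u v w

namespace Groth.Agent.Lib.Helper26.Comod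

open HopfRep

section Integral

variable {k : Type u} [Field k] {A : Type v} [CommRing A] [Bialgebra k A]

theorem isSubcomod_span_one :
    IsSubcomod (k := k) (A := A) (V := A) (Submodule.span k {(1 : A)}) := by
  intro w hw
  obtain ⟨c, rfl⟩ := Submodule.mem_span_singleton.mp hw
  refine ⟨c • ((⟨1, Submodule.mem_span_singleton_self 1⟩ : Submodule.span k {(1 : A)}) ⊗ₜ[k] (1 : A)), ?_⟩
  rw [map_smul, map_smul]
  congr 1
  change _ = Coalgebra.comul (1 : A)
  rw [Bialgebra.comul_one]
  rfl

/-- A normalized integral on a linearly reductive bialgebra. -/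
theorem exists_integral (hG : IsLinearlyReductive k A) :
    ∃ I : A →ₗ[k] k, I 1 = 1 ∧
      ∀ a : A, TensorProduct.lid k A (I.rTensor A (Coalgebra.comul a)) = I a • (1 : A) := by
  have h1 : (1 : A) ≠ 0 := by
    intro h
    have := congrArg (Coalgebra.counit (R := k) (A := A)) h
    rw [Bialgebra.counit_one, map_zero] at this
    exact one_ne_zero this
  obtain ⟨C, hC, hcompl⟩ := isSemisimpleComod_of_isLinearlyReductive hG A
    (Submodule.span k {(1 : A)}) isSubcomod_span_one
  let e := LinearEquiv.toSpanNonzeroSingleton k A 1 h1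
  have hP1 : Submodule.projectionOnto _ _ hcompl (1 : A) = e 1 := by
    have := Submodule.projectionOnto_apply_left hcompl
      (⟨1, Submodule.mem_span_singleton_self 1⟩ : Submodule.span k {(1 : A)})
    rw [this]
    apply Subtype.ext
    simp [e]
  let I : A →ₗ[k] k := e.symm.toLinearMap ∘ₗ Submodule.projectionOnto _ _ hcompl
  have hI : ∀ a, I a = e.symm (Submodule.projectionOnto _ _ hcompl a) := fun _ => rfl
  have hI1 : I 1 = 1 := by
    rw [hI, hP1, LinearEquiv.symm_apply_apply]
  have hIC : ∀ c ∈ C, I c = 0 := by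
    intro c hc
    rw [hI, (Submodule.projectionOnto_apply_eq_zero_iff hcompl).mpr hc, map_zero]
  refine ⟨I, hI1, ?_⟩
  intro a
  -- decompose a
  have hdec : ∃ c ∈ C, a = I a • 1 + c := by
    refine ⟨a - I a • 1, ?_, by abel⟩
    rw [← Submodule.projectionOnto_apply_eq_zero_iff hcompl, map_sub, map_smul, sub_eq_zero, hP1,
      ← map_smul, smul_eq_mul, mul_one, hI, LinearEquiv.apply_symm_apply]
  obtain ⟨c, hc, hac⟩ := hdec
  have hcomulC : TensorProduct.lid k A (I.rTensor A (Coalgebra.comul c)) = 0 := by
    obtain ⟨y, hy⟩ := hC c hc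
    change _ = Coalgebra.comul c at hy
    rw [← hy, ← LinearMap.rTensor_comp_apply]
    have : I ∘ₗ C.subtype = 0 := by
      ext x
      exact hIC x x.2
    rw [this, LinearMap.rTensor_zero, LinearMap.zero_apply, map_zero]
  conv_lhs => rw [hac]
  rw [map_add, map_add, map_add, hcomulC, add_zero, map_smul, Bialgebra.comul_one, map_smul, map_smul]
  rw [Algebra.TensorProduct.one_def, LinearMap.rTensor_tmul, hI1, TensorProduct.lid_tmul, one_smul]

/-- For a linearly reductive `A` coacting on an algebra `R`, there is a unital comodule map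
`A → R` (a total integral with values in `R`). -/
theorem exists_comodHom_unit (hG : IsLinearlyReductive k A)
    (R : Type w) [CommRing R] [Algebra k R] [Comod k A R] [GLin.IsCoactAlg k A R] :
    ∃ α : A →ₗ[k] R, Hoch.IsComodHom A α ∧ α 1 = 1 := by
  obtain ⟨I, hI1, hI⟩ := exists_integral hG
  refine ⟨Algebra.linearMap k R ∘ₗ I, ?_, ?_⟩
  · apply LinearMap.ext
    intro a
    have h2 : I.rTensor A (Coalgebra.comul a) = (1 : k) ⊗ₜ[k] (I a • (1 : A)) := by
      apply (TensorProduct.lid k A).injective
      rw [hI a, TensorProduct.lid_tmul, one_smul]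
    change Comod.coact (k := k) (A := A) (algebraMap k R (I a)) =
      (Algebra.linearMap k R ∘ₗ I).rTensor A (Coalgebra.comul a)
    rw [LinearMap.rTensor_comp, LinearMap.comp_apply, h2, LinearMap.rTensor_tmul,
      Algebra.algebraMap_eq_smul_one, map_smul, GLin.IsCoactAlg.coact_one (k := k) (A := A) (R := R),
      Algebra.TensorProduct.one_def, TensorProduct.tmul_smul]
    simp
  · change algebraMap k R (I 1) = 1
    rw [hI1, map_one]

end Integral

end Groth.Agent.Lib.Helper26.Comod
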