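import Groth.Agent.Lib.Helper26.ComodIntegral
import Groth.Agent.Lib.Helper23.Reynolds
import Mathlib.RingTheory.Jacobson.Ring
import Mathlib.FieldTheory.IsAlgClosed.Basic

/-!
# Orbit maps as comodule maps; weak Nullstellensatz for rational points (helper26)
-/

open TensorProduct

universe u v w w'

namespace Groth.Agent.Lib.Helper26.Comod

open HopfRep

section ComodHom

variable {k : Type u} [CommRing k] {A : Type v} [AddCommGroup A] [Module k A] [Coalgebra k A]
variable {V : Type w} [AddCommGroup V] [Module k V] [Comod k A V]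
variable {W : Type w'} [AddCommGroup W] [Module k W] [Comod k A W]

theorem T_comodHom (f : V →ₗ[k] W) (hf : Hoch.IsComodHom A f) (φ : A →ₗ[k] k) (v : V) :
    f (T φ v) = T φ (f v) := by
  have h := LinearMap.congr_fun hf v
  simp only [LinearMap.comp_apply] at h
  rw [T_apply, T_apply, h, slice_rTensor]

end ComodHom

section Ker

variable {k : Type u} [Field k] {A : Type v} [AddCommGroup A] [Module k A] [Coalgebra k A]
variable {V : Type w} [AddCommGroup V] [Module k V] [Comod k A V]
variable {W : Type w'} [AddCommGroup W] [Module k W] [Comod k A W]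

theorem isSubcomod_ker (f : V →ₗ[k] W) (hf : Hoch.IsComodHom A f) :
    IsSubcomod (k := k) (A := A) (LinearMap.ker f) := by
  rw [isSubcomod_iff]
  intro φ v hv
  rw [LinearMap.mem_ker] at hv ⊢
  rw [T_comodHom f hf, hv, map_zero]

end Ker

section Orbit

variable {k : Type u} [CommRing k] {A : Type v} [CommRing A] [Bialgebra k A]
  {R : Type w} [CommRing R] [Algebra k R] [Comod k A R] [GLin.IsCoactAlg k A R]

theorem orbitHom_apply (x : R →ₐ[k] k) (f : R) :
    GLin.orbitHom k A x f =
      TensorProduct.lid k A (x.toLinearMap.rTensor A (Comod.coact (k := k) (A := A) f)) := by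
  change TensorProduct.lid k A ((Algebra.TensorProduct.map x (AlgHom.id k A))
    (Comod.coact (k := k) (A := A) f)) = _
  congr 1

theorem orbitHom_of_mem_invariants (x : R →ₐ[k] k) (f : R) (hf : f ∈ GLin.invariants k A R) :
    GLin.orbitHom k A x f = algebraMap k A (x f) := by
  have hf' : Comod.coact (k := k) (A := A) f = f ⊗ₜ[k] (1 : A) := hf
  rw [orbitHom_apply, hf', LinearMap.rTensor_tmul, TensorProduct.lid_tmul,
    Algebra.algebraMap_eq_smul_one]
  rfl

theorem isComodHom_orbitHom (x : R →ₐ[k] k) :
    Hoch.IsComodHom A (GLin.orbitHom k A x).toLinearMap := by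
  apply LinearMap.ext
  intro f
  have hco := LinearMap.congr_fun (Comod.coassoc (k := k) (A := A) (V := R)) f
  simp only [LinearMap.comp_apply, LinearEquiv.coe_coe] at hco
  change Coalgebra.comul (GLin.orbitHom k A x f) =
    (GLin.orbitHom k A x).toLinearMap.rTensor A (Comod.coact (k := k) (A := A) f)
  rw [orbitHom_apply]
  -- comul ∘ lid ∘ (x ⊗ id) = lid ∘ (x ⊗ id) ∘ (id ⊗ comul)
  have h1 : ∀ y : R ⊗[k] A, Coalgebra.comul (TensorProduct.lid k A (x.toLinearMap.rTensor A y)) =
      TensorProduct.lid k (A ⊗[k] A) (x.toLinearMap.rTensor (A ⊗[k] A)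
        ((Coalgebra.comul (R := k) (A := A)).lTensor R y)) := by
    intro y
    induction y using TensorProduct.induction_on with
    | zero => simp
    | tmul r a => simp
    | add y z hy hz => simp only [map_add, hy, hz]
  have h2 : ∀ y : (R ⊗[k] A) ⊗[k] A,
      TensorProduct.lid k (A ⊗[k] A) (x.toLinearMap.rTensor (A ⊗[k] A)
        (TensorProduct.assoc k R A A y)) =
      ((TensorProduct.lid k A).toLinearMap ∘ₗ x.toLinearMap.rTensor A).rTensor A y := by
    intro y
    induction y using TensorProduct.induction_on with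
    | zero => simp
    | tmul y b =>
      induction y using TensorProduct.induction_on with
      | zero => simp
      | tmul r a => simp [TensorProduct.smul_tmul']
      | add y z hy hz => simp only [TensorProduct.add_tmul, map_add, hy, hz]
    | add y z hy hz => simp only [map_add, hy, hz]
  rw [h1, ← hco, h2]
  generalize Comod.coact (k := k) (A := A) f = y
  rw [← LinearMap.rTensor_comp_apply]
  congr 2

theorem isSubcomod_ker_orbitHom {k : Type u} [Field k] {A : Type v} [CommRing A] [Bialgebra k A]
    {R : Type w} [CommRing R] [Algebra k R] [Comod k A R] [GLin.IsCoactAlg k A R]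
    (x : R →ₐ[k] k) :
    IsSubcomod (k := k) (A := A) ((RingHom.ker (GLin.orbitHom k A x)).restrictScalars k) := by
  have := isSubcomod_ker (GLin.orbitHom k A x).toLinearMap (isComodHom_orbitHom x)
  exact this

end Orbit

section Null

variable {k : Type u} [Field k] [IsAlgClosed k] {R : Type w} [CommRing R] [Algebra k R]
  [Algebra.FiniteType k R]

/-- Weak Nullstellensatz: a proper ideal of a finite type algebra over an algebraically closed
field is contained in the kernel of a rational point. -/
theorem exists_point_of_ne_top (I : Ideal R) (hI : I ≠ ⊤) : ∃ z : R →ₐ[k] k, I ≤ RingHom.ker z := by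
  obtain ⟨m, hm, hIm⟩ := Ideal.exists_le_maximal I hI
  let _ := Ideal.Quotient.field m
  have : Algebra.FiniteType k (R ⧸ m) :=
    Algebra.FiniteType.of_surjective (Ideal.Quotient.mkₐ k m) (Ideal.Quotient.mkₐ_surjective k m)
  have : Module.Finite k (R ⧸ m) := finite_of_finite_type_of_isJacobsonRing k _
  have hbij : Function.Bijective (algebraMap k (R ⧸ m)) :=
    IsAlgClosed.algebraMap_bijective_of_isIntegral
  let e : k ≃ₐ[k] (R ⧸ m) := AlgEquiv.ofBijective (Algebra.ofId k (R ⧸ m)) hbij
  refine ⟨e.symm.toAlgHom.comp (Ideal.Quotient.mkₐ k m), ?_⟩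
  intro a ha
  rw [RingHom.mem_ker]
  change e.symm (Ideal.Quotient.mk m a) = 0
  rw [Ideal.Quotient.eq_zero_iff_mem.mpr (hIm ha), map_zero]

end Null

end Groth.Agent.Lib.Helper26.Comod
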