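import Groth.Agent.Lib.Helper26.ComodRInt
import Groth.Agent.Lib.Helper26.GLinOrbit
import Groth.Prelude.Def_ComodSub

/-!
# Maschke for comodules: a normalized integral makes every comodule semisimple (helper26)
-/

open TensorProduct

universe u v w

namespace Groth.Agent.Lib.Helper26.Comod

open HopfRep

section HopfId

variable {k : Type u} [CommRing k] {A : Type v} [CommRing A] [HopfAlgebra k A]

/-- `f_z(u) = (α ⊗ id)((u ⊗ 1) z)`. -/
noncomputable def fz (α : A →ₗ[k] k) (z : A ⊗[k] A) : A →ₗ[k] A :=
  (TensorProduct.lid k A).toLinearMap ∘ₗ α.rTensor A ∘ₗ LinearMap.mulRight k z ∘ₗ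
    (TensorProduct.mk k A A).flip 1

theorem fz_tmul (α : A →ₗ[k] k) (p q u : A) : fz α (p ⊗ₜ[k] q) u = α (u * p) • q := by
  simp [fz]

theorem fz_add (α : A →ₗ[k] k) (z z' : A ⊗[k] A) (u : A) :
    fz α (z + z') u = fz α z u + fz α z' u := by
  simp [fz, mul_add]

theorem mul'_fz (α : A →ₗ[k] k) (y z : A ⊗[k] A) :
    LinearMap.mul' k A ((fz α z).rTensor A y) =
      TensorProduct.lid k A (α.rTensor A (y * z)) := by
  induction y using TensorProduct.induction_on with
  | zero => simp
  | tmul u v =>
    induction z using TensorProduct.induction_on with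
    | zero => simp [fz]
    | tmul p q => simp [fz_tmul, mul_comm]
    | add z z' hz hz' =>
      rw [LinearMap.rTensor_tmul, LinearMap.mul'_apply] at hz hz' ⊢
      rw [fz_add, add_mul, hz, hz', mul_add, map_add, map_add]
  | add y y' hy hy' => simp only [map_add, add_mul, hy, hy']

theorem mul'_fz_comul {α : A →ₗ[k] k}
    (hα : ∀ a : A, TensorProduct.lid k A (α.rTensor A (Coalgebra.comul a)) = α a • (1 : A))
    (a s : A) :
    LinearMap.mul' k A ((fz α (Coalgebra.comul a)).rTensor A (Coalgebra.comul s)) =
      α (s * a) • (1 : A) := by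
  rw [mul'_fz, ← Bialgebra.comul_mul, hα]

/-- the trilinear evaluation `(u ⊗ v) ⊗ w ↦ f_z(u) v S(w)`. -/
noncomputable def Qz (α : A →ₗ[k] k) (z : A ⊗[k] A) : (A ⊗[k] A) ⊗[k] A →ₗ[k] A :=
  LinearMap.mul' k A ∘ₗ
    TensorProduct.map (LinearMap.mul' k A ∘ₗ (fz α z).rTensor A) (HopfAlgebra.antipode k)

theorem Qz_a {α : A →ₗ[k] k}
    (hα : ∀ a : A, TensorProduct.lid k A (α.rTensor A (Coalgebra.comul a)) = α a • (1 : A))
    (a : A) (y : A ⊗[k] A) :
    Qz α (Coalgebra.comul a) ((Coalgebra.comul (R := k) (A := A)).rTensor A y) =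
      TensorProduct.lid k A ((α ∘ₗ LinearMap.mulRight k a).rTensor A
        ((HopfAlgebra.antipode k).lTensor A y)) := by
  induction y using TensorProduct.induction_on with
  | zero => simp
  | tmul u w =>
    rw [LinearMap.rTensor_tmul, Qz, LinearMap.comp_apply, TensorProduct.map_tmul,
      LinearMap.comp_apply, mul'_fz_comul hα]
    simp
  | add y y' hy hy' => simp only [map_add, hy, hy']

theorem Qz_b (α : A →ₗ[k] k) (z : A ⊗[k] A) (y : A ⊗[k] A) :
    Qz α z ((TensorProduct.assoc k A A A).symm ((Coalgebra.comul (R := k) (A := A)).lTensor A y)) =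
      fz α z (TensorProduct.rid k A ((Coalgebra.counit (R := k) (A := A)).lTensor A y)) := by
  have h : ∀ (u : A) (x : A ⊗[k] A), Qz α z ((TensorProduct.assoc k A A A).symm (u ⊗ₜ[k] x)) =
      fz α z u * LinearMap.mul' k A ((HopfAlgebra.antipode k).lTensor A x) := by
    intro u x
    induction x using TensorProduct.induction_on with
    | zero => simp
    | tmul p q => simp [Qz, mul_assoc]
    | add x x' hx hx' => simp only [TensorProduct.tmul_add, map_add, hx, hx', mul_add]
  induction y using TensorProduct.induction_on with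
  | zero => simp
  | tmul u w =>
    rw [LinearMap.lTensor_tmul, h, HopfAlgebra.mul_antipode_lTensor_comul_apply]
    simp [Algebra.algebraMap_eq_smul_one]
  | add y y' hy hy' => simp only [map_add, hy, hy']

/-- `Σ α(s a₁) a₂ = Σ α(s₁ a) S(s₂)` for an integral `α`. -/
theorem fz_comul_eq {α : A →ₗ[k] k}
    (hα : ∀ a : A, TensorProduct.lid k A (α.rTensor A (Coalgebra.comul a)) = α a • (1 : A))
    (a s : A) :
    fz α (Coalgebra.comul a) s =
      TensorProduct.lid k A ((α ∘ₗ LinearMap.mulRight k a).rTensor A
        ((HopfAlgebra.antipode k).lTensor A (Coalgebra.comul s))) := by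
  rw [← Qz_a hα, ← Coalgebra.coassoc_symm_apply, Qz_b, Coalgebra.lTensor_counit_comul]
  simp

/-- `β_a(b) = α(S(b) a)`, linear in `a`. -/
noncomputable def beta (α : A →ₗ[k] k) : A →ₗ[k] (A →ₗ[k] k) where
  toFun a := α ∘ₗ LinearMap.mulRight k a ∘ₗ HopfAlgebra.antipode k
  map_add' a b := by ext x; simp [mul_add]
  map_smul' c a := by ext x; simp

@[simp] theorem beta_apply (α : A →ₗ[k] k) (a b : A) :
    beta α a b = α (HopfAlgebra.antipode k b * a) := rfl

/-- `p ⊗ q ↦ φ(q) β(p)`. -/
noncomputable def gam (α φ : A →ₗ[k] k) : A ⊗[k] A →ₗ[k] (A →ₗ[k] k) :=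
  TensorProduct.lift (LinearMap.mk₂ k (fun p q => φ q • beta α p)
    (fun p p' q => by rw [map_add, smul_add])
    (fun c p q => by rw [map_smul, smul_comm])
    (fun p q q' => by rw [map_add, add_smul])
    (fun c p q => by rw [map_smul, smul_eq_mul, mul_smul]))

@[simp] theorem gam_tmul (α φ : A →ₗ[k] k) (p q : A) :
    gam α φ (p ⊗ₜ[k] q) = φ q • beta α p := by
  simp [gam]

/-- The key identity: `φ * β_a = Σ φ(a₂) β_{a₁}`. -/
theorem conv_beta {α : A →ₗ[k] k}
    (hα : ∀ a : A, TensorProduct.lid k A (α.rTensor A (Coalgebra.comul a)) = α a • (1 : A))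
    (φ : A →ₗ[k] k) (a : A) :
    conv φ (beta α a) = gam α φ (Coalgebra.comul a) := by
  ext b
  -- right side: φ (fz α (Δ a) (S b))
  have hR : gam α φ (Coalgebra.comul a) b = φ (fz α (Coalgebra.comul a) (HopfAlgebra.antipode k b)) := by
    generalize Coalgebra.comul (R := k) a = z
    induction z using TensorProduct.induction_on with
    | zero => simp [fz]
    | tmul p q => simp [fz_tmul, mul_comm]
    | add z z' hz hz' =>
      rw [map_add, LinearMap.add_apply, hz, hz', fz_add, map_add]
  -- left side
  have hL : conv φ (beta α a) b = φ (TensorProduct.lid k A ((α ∘ₗ LinearMap.mulRight k a).rTensor A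
      ((HopfAlgebra.antipode k).lTensor A (Coalgebra.comul (HopfAlgebra.antipode k b))))) := by
    rw [Groth.Agent.Lib.Helper23.comul_antipode]
    change LinearMap.mul' k k (TensorProduct.map φ (beta α a) (Coalgebra.comul b)) = _
    generalize Coalgebra.comul (R := k) b = y
    induction y using TensorProduct.induction_on with
    | zero => simp
    | tmul p q => simp [antipode_antipode, mul_comm]
    | add y y' hy hy' => simp only [map_add, hy, hy']
  rw [hR, hL, fz_comul_eq hα]

end HopfId

section Retr

variable {k : Type u} [Field k] {A : Type v} [CommRing A] [HopfAlgebra k A]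
variable {W : Type w} [AddCommGroup W] [Module k W] [Comod k A W]

variable (W) in
/-- `T` as a bilinear map. -/
noncomputable def Tbil : (A →ₗ[k] k) →ₗ[k] W →ₗ[k] W where
  toFun := T
  map_add' φ ψ := by ext w; simp [T_apply, slice_add]
  map_smul' c φ := by ext w; simp [T_apply, slice_smul]

@[simp] theorem Tbil_apply (φ : A →ₗ[k] k) (w : W) : Tbil W φ w = T φ w := rfl

variable (W) in
/-- The retraction `w ⊗ a ↦ Σ w₀ α(S(w₁) a)` of the coaction. -/
noncomputable def retr (α : A →ₗ[k] k) : W ⊗[k] A →ₗ[k] W :=
  TensorProduct.lift ((Tbil W).flip.compl₂ (beta α))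

@[simp] theorem retr_tmul (α : A →ₗ[k] k) (w : W) (a : A) :
    retr W α (w ⊗ₜ[k] a) = T (beta α a) w := by
  simp [retr]

theorem coact_retr {α : A →ₗ[k] k}
    (hα : ∀ a : A, TensorProduct.lid k A (α.rTensor A (Coalgebra.comul a)) = α a • (1 : A))
    (x : W ⊗[k] A) :
    Comod.coact (k := k) (A := A) (retr W α x) =
      (retr W α).rTensor A ((TensorProduct.assoc k W A A).symm
        ((Coalgebra.comul (R := k) (A := A)).lTensor W x)) := by
  induction x using TensorProduct.induction_on with
  | zero => simp
  | tmul w a =>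
    apply eq_of_slice_eq
    intro φ
    have hR : ∀ z : A ⊗[k] A, slice φ ((retr W α).rTensor A
        ((TensorProduct.assoc k W A A).symm (w ⊗ₜ[k] z))) = T (gam α φ z) w := by
      intro z
      induction z using TensorProduct.induction_on with
      | zero =>
        rw [TensorProduct.tmul_zero]
        simp only [map_zero]
        rw [← Tbil_apply, map_zero, LinearMap.zero_apply]
      | tmul p q =>
        simp only [TensorProduct.assoc_symm_tmul, LinearMap.rTensor_tmul, retr_tmul, slice_tmul,
          gam_tmul]
        rw [← Tbil_apply, ← Tbil_apply, map_smul, LinearMap.smul_apply]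
      | add z z' hz hz' =>
        rw [TensorProduct.tmul_add, map_add, map_add, map_add, hz, hz', map_add]
        rw [← Tbil_apply, ← Tbil_apply, ← Tbil_apply, map_add, LinearMap.add_apply]
    rw [LinearMap.lTensor_tmul, hR, retr_tmul, ← T_apply, T_T, conv_beta hα]
  | add x y hx hy => simp only [map_add, hx, hy]

theorem retr_coact {α : A →ₗ[k] k} (hα1 : α 1 = 1) (w : W) :
    retr W α (Comod.coact (k := k) (A := A) w) = w := by
  -- retr x = (id ⊗ B)((ρ ⊗ id) x) with B (b ⊗ a) = α (S b * a)
  let B : A ⊗[k] A →ₗ[k] k := TensorProduct.lift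
    (LinearMap.mk₂ k (fun b a => α (HopfAlgebra.antipode k b * a))
      (fun b b' a => by rw [map_add, add_mul, map_add])
      (fun c b a => by rw [map_smul, smul_mul_assoc, map_smul])
      (fun b a a' => by rw [mul_add, map_add])
      (fun c b a => by rw [mul_smul_comm, map_smul]))
  have hB : ∀ b a, B (b ⊗ₜ[k] a) = α (HopfAlgebra.antipode k b * a) := fun b a => by simp [B]
  have h1 : ∀ x : W ⊗[k] A, retr W α x = TensorProduct.rid k W (B.lTensor W
      (TensorProduct.assoc k W A A ((Comod.coact (k := k) (A := A)).rTensor A x))) := by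
    intro x
    induction x using TensorProduct.induction_on with
    | zero => simp
    | tmul v a =>
      rw [retr_tmul, T_apply, LinearMap.rTensor_tmul]
      generalize Comod.coact (k := k) (A := A) v = y
      induction y using TensorProduct.induction_on with
      | zero => simp
      | tmul u b => simp [hB]
      | add y y' hy hy' => simp only [map_add, TensorProduct.add_tmul, hy, hy']
    | add x y hx hy => simp only [map_add, hx, hy]
  have hco := LinearMap.congr_fun (Comod.coassoc (k := k) (A := A) (V := W)) w
  simp only [LinearMap.comp_apply, LinearEquiv.coe_coe] at hco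
  have h2 : ∀ c : A, B (Coalgebra.comul c) = Coalgebra.counit (R := k) c := by
    intro c
    have h := HopfAlgebra.mul_antipode_rTensor_comul_apply (R := k) c
    have h' : B (Coalgebra.comul c) = α (LinearMap.mul' k A ((HopfAlgebra.antipode k).rTensor A
        (Coalgebra.comul c))) := by
      generalize Coalgebra.comul (R := k) c = y
      induction y using TensorProduct.induction_on with
      | zero => simp
      | tmul u b => simp [hB]
      | add y y' hy hy' => simp only [map_add, hy, hy']
    rw [h', h, Algebra.algebraMap_eq_smul_one, map_smul, hα1, smul_eq_mul, mul_one]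
  rw [h1, hco, ← LinearMap.lTensor_comp_apply]
  have h3 : B ∘ₗ Coalgebra.comul = Coalgebra.counit (R := k) (A := A) := LinearMap.ext h2
  rw [h3]
  have hcu := LinearMap.congr_fun (Comod.counit_comp (k := k) (A := A) (V := W)) w
  simp only [LinearMap.comp_apply, LinearMap.flip_apply, TensorProduct.mk_apply] at hcu
  rw [hcu]
  simp

omit [Comod k A W] in
theorem assoc_symm_lTensor_rTensor {V : Type*} [AddCommGroup V] [Module k V] (p : V →ₗ[k] W)
    (y : V ⊗[k] A) :
    (TensorProduct.assoc k W A A).symm ((Coalgebra.comul (R := k) (A := A)).lTensor W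
      (p.rTensor A y)) =
    (p.rTensor A).rTensor A ((TensorProduct.assoc k V A A).symm
      ((Coalgebra.comul (R := k) (A := A)).lTensor V y)) := by
  induction y using TensorProduct.induction_on with
  | zero => simp
  | tmul v a =>
    simp only [LinearMap.rTensor_tmul, LinearMap.lTensor_tmul]
    generalize Coalgebra.comul (R := k) a = z
    induction z using TensorProduct.induction_on with
    | zero => simp
    | tmul b c => simp
    | add z z' hz hz' => simp only [TensorProduct.tmul_add, map_add, hz, hz']
  | add y y' hy hy' => simp only [map_add, hy, hy']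

end Retr

section Maschke

variable {k : Type u} [Field k] {A : Type v} [CommRing A] [HopfAlgebra k A]

/-- A normalized integral makes every comodule semisimple. -/
theorem isSemisimpleComod_of_integral {α : A →ₗ[k] k}
    (hα : ∀ a : A, TensorProduct.lid k A (α.rTensor A (Coalgebra.comul a)) = α a • (1 : A))
    (hα1 : α 1 = 1) (V : Type w) [AddCommGroup V] [Module k V] [c : Comod k A V] :
    IsSemisimpleComod k A V := by
  intro W hW
  let cW : Comod k A W := ComodSub.Comod.restr c W hW
  obtain ⟨p, hp⟩ := W.subtype.exists_leftInverse_of_injective W.ker_subtype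
  let P : V →ₗ[k] W ⊗[k] A := p.rTensor A ∘ₗ Comod.coact (k := k) (A := A)
  let π : V →ₗ[k] W := retr W α ∘ₗ P
  have hPW : ∀ w : W, P w = Comod.coact (k := k) (A := A) w := by
    intro w
    change p.rTensor A (c.coact (w : V)) = _
    rw [← ComodSub.restr_coact_coe c W hW w, ← LinearMap.rTensor_comp_apply, hp,
      LinearMap.rTensor_id, LinearMap.id_apply]
  have hπW : ∀ w : W, π w = w := by
    intro w
    change retr W α (P w) = w
    rw [hPW, retr_coact hα1]
  have hπ : Hoch.IsComodHom A π := by
    apply LinearMap.ext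
    intro v
    change Comod.coact (k := k) (A := A) (retr W α (P v)) = π.rTensor A (c.coact v)
    rw [coact_retr hα]
    change (retr W α).rTensor A ((TensorProduct.assoc k W A A).symm
      ((Coalgebra.comul (R := k) (A := A)).lTensor W (p.rTensor A (c.coact v)))) = _
    rw [assoc_symm_lTensor_rTensor]
    have hco := LinearMap.congr_fun (Comod.coassoc (k := k) (A := A) (V := V)) v
    simp only [LinearMap.comp_apply, LinearEquiv.coe_coe] at hco
    rw [← hco, LinearEquiv.symm_apply_apply, ← LinearMap.rTensor_comp_apply,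
      ← LinearMap.rTensor_comp_apply]
    rfl
  exact ⟨LinearMap.ker π, isSubcomod_ker π hπ, LinearMap.isCompl_of_proj hπW⟩

end Maschke

end Groth.Agent.Lib.Helper26.Comod
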