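import Groth.Agent.Lib.Helper26.ComodIntegral
import Groth.Agent.Lib.Helper23.Reynolds

/-!
# The Reynolds operator attached to an integral (helper26)
-/

open TensorProduct

universe u v w w'

namespace Groth.Agent.Lib.Helper26.Comod

open HopfRep

section Reyn

variable {k : Type u} [Field k] {A : Type v} [CommRing A] [HopfAlgebra k A]
variable {V : Type w} [AddCommGroup V] [Module k V] [Comod k A V]
variable {W : Type w'} [AddCommGroup W] [Module k W] [Comod k A W]

/-- The integral property: `Σ I(a₁) a₂ = I(a) 1`. -/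
def IsIntegral (I : A →ₗ[k] k) : Prop :=
  ∀ a : A, TensorProduct.lid k A (I.rTensor A (Coalgebra.comul a)) = I a • (1 : A)

variable (V) in
/-- The Reynolds operator of a comodule attached to a linear form on `A`. -/
noncomputable def reyn (I : A →ₗ[k] k) : V →ₗ[k] V := TameAct.reynolds k A k V I

theorem reyn_mem_fixedPts {I : A →ₗ[k] k} (hI : IsIntegral I) (v : V) :
    reyn V I v ∈ fixedPts k A V := by
  let _ : Comod k A k := Comod.trivial k A k
  have : TameAct.IsHopfMod k A k V := ⟨by
    intro b m
    change _ = TameAct.hmSMul k A k V (b ⊗ₜ[k] (1 : A)) _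
    rw [map_smul]
    generalize Comod.coact (k := k) (A := A) m = y
    induction y using TensorProduct.induction_on with
    | zero => simp
    | tmul m a => simp [TensorProduct.smul_tmul']
    | add x y hx hy => simp only [smul_add, map_add, hx, hy]⟩
  have hα : Hoch.IsComodHom A I := by
    apply LinearMap.ext
    intro a
    change (I a) ⊗ₜ[k] (1 : A) = I.rTensor A (Coalgebra.comul a)
    apply (TensorProduct.lid k A).injective
    rw [hI a, TensorProduct.lid_tmul]
  exact Groth.Agent.Lib.Helper23.reynolds_mem_fixedPts hα v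

theorem reyn_eq_self {I : A →ₗ[k] k} (hI1 : I 1 = 1) (v : V) (hv : v ∈ fixedPts k A V) :
    reyn V I v = v := by
  have hv' : Comod.coact (k := k) (A := A) v = v ⊗ₜ[k] (1 : A) := hv
  rw [reyn, TameAct.reynolds_apply_of_coact_eq k A k V I v v 1 hv', HopfAlgebra.antipode_one, hI1,
    one_smul]

theorem reyn_comm (I : A →ₗ[k] k) (f : V →ₗ[k] W) (hf : Hoch.IsComodHom A f) (v : V) :
    f (reyn V I v) = reyn W I (f v) :=
  Groth.Agent.Lib.Helper23.reynolds_comm I f hf v

/-- Any Reynolds operator (idempotent comodule endomorphism fixing exactly the invariants)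
is the one attached to a normalized integral. -/
theorem eq_reyn_of_isReynolds {I : A →ₗ[k] k} (hI : IsIntegral I) (hI1 : I 1 = 1)
    (E : V →ₗ[k] V) (hE₁ : Hoch.IsComodHom A E) (hE₂ : E ∘ₗ E = E)
    (hE₃ : ∀ x : V, E x = x ↔ x ∈ fixedPts k A V) : E = reyn V I := by
  ext x
  have h1 : E x ∈ fixedPts k A V := (hE₃ (E x)).mp (LinearMap.congr_fun hE₂ x)
  have h2 : reyn V I (E x) = E x := reyn_eq_self hI1 _ h1
  have h3 : E (reyn V I x) = reyn V I x := (hE₃ _).mpr (reyn_mem_fixedPts hI x)
  rw [← h2, ← reyn_comm I E hE₁ x, h3]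

/-- `exists_integral` in the `IsIntegral` form. -/
theorem exists_isIntegral (hG : IsLinearlyReductive k A) :
    ∃ I : A →ₗ[k] k, IsIntegral I ∧ I 1 = 1 := by
  obtain ⟨I, h1, h2⟩ := exists_integral hG
  exact ⟨I, h2, h1⟩

end Reyn

end Groth.Agent.Lib.Helper26.Comod
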