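import Groth.Agent.Lib.Helper26.ComodReynolds
import Mathlib.LinearAlgebra.Projection
import Groth.Prelude.Def_GLin

/-!
# Existence of Reynolds operators (helper26)
-/

open TensorProduct

universe u v w

namespace Groth.Agent.Lib.Helper26.Comod

open HopfRep

section FixedPts

variable {k : Type u} [Field k] {A : Type v} [CommRing A] [Bialgebra k A]
variable {V : Type w} [AddCommGroup V] [Module k V] [Comod k A V]

theorem T_of_mem_fixedPts (φ : A →ₗ[k] k) (v : V) (hv : v ∈ fixedPts k A V) :
    T φ v = φ 1 • v := by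
  have hv' : Comod.coact (k := k) (A := A) v = v ⊗ₜ[k] (1 : A) := hv
  rw [T_apply, hv', slice_tmul]

theorem isSubcomod_fixedPts : IsSubcomod (k := k) (A := A) (fixedPts k A V) := by
  rw [isSubcomod_iff]
  intro φ v hv
  rw [T_of_mem_fixedPts φ v hv]
  exact Submodule.smul_mem _ _ hv

end FixedPts

section Exists

variable {k : Type u} [Field k] {A : Type v} [CommRing A] [HopfAlgebra k A]

/-- Existence of a Reynolds operator on any comodule of a linearly reductive group. -/
theorem exists_isReynolds (hG : IsLinearlyReductive k A)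
    (V : Type v) [AddCommGroup V] [Module k V] [Comod k A V] :
    ∃ E : V →ₗ[k] V, Hoch.IsComodHom A E ∧ E ∘ₗ E = E ∧
      ∀ x : V, E x = x ↔ x ∈ fixedPts k A V := by
  obtain ⟨V', hV', hcompl⟩ := isSemisimpleComod_of_isLinearlyReductive hG V (fixedPts k A V)
    isSubcomod_fixedPts
  let P := Submodule.projectionOnto _ _ hcompl
  let E : V →ₗ[k] V := (fixedPts k A V).subtype ∘ₗ P
  have hE : ∀ v, E v = (P v : V) := fun _ => rfl
  have hEfix : ∀ v ∈ fixedPts k A V, E v = v := by
    intro v hv
    rw [hE]
    have := Submodule.projectionOnto_apply_left hcompl ⟨v, hv⟩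
    exact congrArg Subtype.val this
  have hE0 : ∀ v ∈ V', E v = 0 := by
    intro v hv
    rw [hE, (Submodule.projectionOnto_apply_eq_zero_iff hcompl).mpr hv]
    rfl
  have hEmem : ∀ v, E v ∈ fixedPts k A V := fun v => (P v).2
  refine ⟨E, ?_, ?_, ?_⟩
  · apply LinearMap.ext
    intro v
    change Comod.coact (k := k) (A := A) (E v) = E.rTensor A (Comod.coact (k := k) (A := A) v)
    -- decompose v
    have hv : v ∈ fixedPts k A V ⊔ V' := by rw [hcompl.sup_eq_top]; trivial
    obtain ⟨a, ha, b, hb, rfl⟩ := Submodule.mem_sup.mp hv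
    have ha' : Comod.coact (k := k) (A := A) a = a ⊗ₜ[k] (1 : A) := ha
    obtain ⟨y, hy⟩ := hV' b hb
    have : E ∘ₗ V'.subtype = 0 := by
      ext x
      exact hE0 x x.2
    have hL : Comod.coact (k := k) (A := A) (E (a + b)) = a ⊗ₜ[k] (1 : A) := by
      rw [map_add, hEfix a ha, hE0 b hb, add_zero, ha']
    have hR : E.rTensor A (Comod.coact (k := k) (A := A) (a + b)) = a ⊗ₜ[k] (1 : A) := by
      rw [map_add (Comod.coact (k := k) (A := A)), map_add, ha', LinearMap.rTensor_tmul, hEfix a ha,
        ← hy, ← LinearMap.rTensor_comp_apply, this, LinearMap.rTensor_zero, LinearMap.zero_apply,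
        add_zero]
    rw [hL, hR]
  · ext v
    exact hEfix _ (hEmem v)
  · intro x
    exact ⟨fun h => h ▸ hEmem x, hEfix x⟩

theorem isComodHom_mul_invariant {R : Type w} [CommRing R] [Algebra k R] [Comod k A R]
    [GLin.IsCoactAlg k A R] (y : R) (hy : y ∈ GLin.invariants k A R) :
    Hoch.IsComodHom A (LinearMap.mulRight k y) := by
  apply LinearMap.ext
  intro x
  have hy' : Comod.coact (k := k) (A := A) y = y ⊗ₜ[k] (1 : A) := hy
  change Comod.coact (k := k) (A := A) (x * y) =
    (LinearMap.mulRight k y).rTensor A (Comod.coact (k := k) (A := A) x)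
  rw [GLin.IsCoactAlg.coact_mul, hy']
  generalize Comod.coact (k := k) (A := A) x = z
  induction z using TensorProduct.induction_on with
  | zero => simp
  | tmul r a => simp
  | add y z hy hz => simp only [add_mul, map_add, hy, hz]

end Exists

end Groth.Agent.Lib.Helper26.Comod
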