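import Groth.Agent.Lib.Helper26.ComodT
import Groth.Prelude.Def_ComodSub
import Mathlib.RingTheory.SimpleModule.Basic
import Mathlib.Algebra.Algebra.Subalgebra.Lattice

/-!
# Semisimplicity of arbitrary comodules over a linearly reductive bialgebra (helper26)

Subcomodules of `V` are the submodules of `V` over the subalgebra `Salg k A V` of `End_k V`
generated by the slice operators `T φ`; Mathlib's semisimple-module theory then shows that a
sum of semisimple (finite-dimensional) subcomodules is semisimple.
-/

open TensorProduct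

universe u v w

namespace Groth.Agent.Lib.Helper26.Comod

open HopfRep

section S

variable (k : Type u) [Field k] (A : Type v) [AddCommGroup A] [Module k A] [Coalgebra k A]
variable (V : Type w) [AddCommGroup V] [Module k V] [Comod k A V]

/-- The subalgebra of `End_k V` generated by the operators `T φ`. -/
noncomputable def Salg : Subalgebra k (Module.End k V) :=
  Algebra.adjoin k (Set.range (T (k := k) (A := A) (V := V)))

variable {k A V}

theorem T_mem_Salg (φ : A →ₗ[k] k) : T (V := V) φ ∈ Salg k A V :=
  Algebra.subset_adjoin ⟨φ, rfl⟩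

/-- A subcomodule as a submodule over `Salg`. -/
noncomputable def toS (W : Submodule k V) (hW : IsSubcomod (k := k) (A := A) W) :
    Submodule (Salg k A V) V where
  carrier := W
  add_mem' := W.add_mem
  zero_mem' := W.zero_mem
  smul_mem' := by
    rintro ⟨s, hs⟩ w hw
    change s w ∈ W
    have hw' : w ∈ W := hw
    clear hw
    induction hs using Algebra.adjoin_induction generalizing w with
    | mem x hx =>
      obtain ⟨φ, rfl⟩ := hx
      exact (isSubcomod_iff W).mp hW φ w hw'
    | algebraMap r =>
      rw [Module.algebraMap_end_apply]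
      exact W.smul_mem r hw'
    | add x y _ _ hx hy =>
      rw [LinearMap.add_apply]
      exact W.add_mem (hx hw') (hy hw')
    | mul x y _ _ hx hy =>
      rw [Module.End.mul_apply]
      exact hx (hy hw')

@[simp] theorem mem_toS (W : Submodule k V) (hW : IsSubcomod (k := k) (A := A) W) (x : V) :
    x ∈ toS W hW ↔ x ∈ W := Iff.rfl

theorem isSubcomod_restrictScalars (W : Submodule (Salg k A V) V) :
    IsSubcomod (k := k) (A := A) (W.restrictScalars k) := by
  rw [isSubcomod_iff]
  intro φ w hw
  exact W.smul_mem (⟨T φ, T_mem_Salg φ⟩ : Salg k A V) hw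

end S

section Semisimple

variable {k : Type u} [Field k] {A : Type v} [AddCommGroup A] [Module k A] [Coalgebra k A]
variable {V : Type w} [AddCommGroup V] [Module k V] [c : Comod k A V]

/-- `T` on a subcomodule with its restricted structure. -/
theorem coe_T_restr (F : Submodule k V) (hF : IsSubcomod (k := k) (A := A) F) (φ : A →ₗ[k] k)
    (w : F) :
    ((@T k _ A _ _ _ F _ _ (ComodSub.Comod.restr c F hF) φ w : F) : V) = T φ (w : V) := by
  let _ := ComodSub.Comod.restr c F hF
  rw [T_apply, T_apply, ← ComodSub.restr_coact_coe c F hF w, slice_rTensor]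
  rfl

/-- Complements inside a subcomodule which is semisimple for its restricted structure. -/
theorem exists_isCompl_of_isSemisimpleComod_restr (F : Submodule k V)
    (hF : IsSubcomod (k := k) (A := A) F)
    (hss : @IsSemisimpleComod k A _ _ _ _ F _ _ (ComodSub.Comod.restr c F hF))
    (Q : Submodule (Salg k A V) V) (hQ : Q ≤ toS F hF) :
    ∃ Q' : Submodule (Salg k A V) V, Q' ≤ toS F hF ∧ Q ⊓ Q' = ⊥ ∧ Q ⊔ Q' = toS F hF := by
  let cF := ComodSub.Comod.restr c F hF
  let QF : Submodule k F := (Q.restrictScalars k).comap F.subtype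
  have hQF : IsSubcomod (k := k) (A := A) QF := by
    rw [isSubcomod_iff]
    intro φ w hw
    change ((T φ w : F) : V) ∈ Q
    rw [coe_T_restr F hF φ w]
    exact (isSubcomod_iff _).mp (isSubcomod_restrictScalars Q) φ _ hw
  obtain ⟨Q'F, hQ'F, hcompl⟩ := hss QF hQF
  let Q'V : Submodule k V := Q'F.map F.subtype
  have hQ'V : IsSubcomod (k := k) (A := A) Q'V := by
    rw [isSubcomod_iff]
    rintro φ _ ⟨w, hw, rfl⟩
    refine ⟨T φ w, (isSubcomod_iff _).mp hQ'F φ w hw, ?_⟩
    exact coe_T_restr F hF φ w
  refine ⟨toS Q'V hQ'V, ?_, ?_, ?_⟩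
  · rintro _ ⟨w, _, rfl⟩
    exact w.2
  · rw [eq_bot_iff]
    rintro x ⟨hxQ, w, hw, rfl⟩
    have : w ∈ QF ⊓ Q'F := ⟨hxQ, hw⟩
    rw [hcompl.inf_eq_bot] at this
    rw [(Submodule.mem_bot k).mp this]
    simp
  · apply le_antisymm
    · refine sup_le hQ ?_
      rintro _ ⟨w, _, rfl⟩
      exact w.2
    · intro x hx
      have hx' : x ∈ F := hx
      have : (⟨x, hx'⟩ : F) ∈ QF ⊔ Q'F := by rw [hcompl.sup_eq_top]; trivial
      obtain ⟨a, ha, b, hb, hab⟩ := Submodule.mem_sup.mp this
      have hxab : x = (a : V) + (b : V) := by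
        have := congrArg (fun z : F => (z : V)) hab
        simpa using this.symm
      rw [hxab]
      exact Submodule.add_mem _ (Submodule.mem_sup_left ha)
        (Submodule.mem_sup_right ⟨b, hb, rfl⟩)

theorem isSemisimpleModule_toS (F : Submodule k V)
    (hF : IsSubcomod (k := k) (A := A) F)
    (hss : @IsSemisimpleComod k A _ _ _ _ F _ _ (ComodSub.Comod.restr c F hF)) :
    IsSemisimpleModule (Salg k A V) (toS F hF) := by
  rw [isSemisimpleModule_iff, (Submodule.mapIic (toS F hF)).complementedLattice_iff]
  refine ⟨fun ⟨Q, hQ⟩ => ?_⟩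
  obtain ⟨Q', hQ', h1, h2⟩ := exists_isCompl_of_isSemisimpleComod_restr F hF hss Q hQ
  refine ⟨⟨Q', hQ'⟩, ?_⟩
  rw [isCompl_iff, disjoint_iff, codisjoint_iff]
  constructor
  · apply Subtype.ext
    exact h1
  · apply Subtype.ext
    exact h2

end Semisimple

section LinRed

variable {k : Type u} [Field k] {A : Type v} [CommRing A] [Bialgebra k A]

/-- For a linearly reductive `A`, every comodule (in the universe of `A`) is a semisimple module
over the algebra generated by the slice operators. -/
theorem isSemisimpleModule_Salg (hG : IsLinearlyReductive k A)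
    (V : Type v) [AddCommGroup V] [Module k V] [c : Comod k A V] :
    IsSemisimpleModule (Salg k A V) V := by
  apply isSemisimpleModule_of_isSemisimpleModule_submodule'
    (p := fun v : V => toS (gen k A v) (isSubcomod_gen v))
  · intro v
    apply isSemisimpleModule_toS
    have := finite_gen (k := k) (A := A) v
    exact @hG (gen k A v) _ _ (ComodSub.Comod.restr c (gen k A v) (isSubcomod_gen v)) this
  · rw [eq_top_iff]
    intro v _
    exact Submodule.mem_iSup_of_mem v (mem_gen v)

/-- For a linearly reductive `A`, every comodule (in the universe of `A`) is semisimple. -/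
theorem isSemisimpleComod_of_isLinearlyReductive (hG : IsLinearlyReductive k A)
    (V : Type v) [AddCommGroup V] [Module k V] [c : Comod k A V] :
    IsSemisimpleComod k A V := by
  intro W hW
  have := isSemisimpleModule_Salg hG V
  obtain ⟨W', hW'⟩ := exists_isCompl (toS W hW)
  refine ⟨W'.restrictScalars k, isSubcomod_restrictScalars W', ?_⟩
  rw [isCompl_iff, disjoint_iff, codisjoint_iff]
  constructor
  · rw [eq_bot_iff]
    rintro x ⟨hx1, hx2⟩
    have : x ∈ toS W hW ⊓ W' := ⟨hx1, hx2⟩
    rw [hW'.inf_eq_bot] at this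
    exact this
  · rw [eq_top_iff]
    intro x _
    have : x ∈ toS W hW ⊔ W' := by rw [hW'.sup_eq_top]; trivial
    obtain ⟨a, ha, b, hb, rfl⟩ := Submodule.mem_sup.mp this
    exact Submodule.add_mem _ (Submodule.mem_sup_left ha) (Submodule.mem_sup_right hb)

end LinRed

end Groth.Agent.Lib.Helper26.Comod
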