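import Groth.Prelude.Def_HopfRep
import Mathlib.LinearAlgebra.TensorProduct.Basis
import Mathlib.LinearAlgebra.Basis.VectorSpace
import Mathlib.LinearAlgebra.FreeModule.Basic
import Mathlib.LinearAlgebra.FiniteDimensional.Defs
import Mathlib.LinearAlgebra.FiniteDimensional.Lemmas

/-!
# Slices of a coaction (helper26)

For a right comodule `V` over a coalgebra `A` over a field `k` and a linear form `φ : A → k`,
`T φ : V → V` is `v ↦ (id ⊗ φ)(ρ v)`.  Subcomodules are exactly the subspaces stable under all `T φ`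
(`isSubcomod_iff`), `T ψ ∘ T φ = T (ψ * φ)` (`T_T`), and every vector lies in a finite-dimensional
subcomodule (`exists_finite_subcomod_mem`).
-/

open TensorProduct

universe u v w

namespace Groth.Agent.Lib.Helper26.Comod

open HopfRep

section Slice

variable {k : Type u} [CommRing k] {A : Type v} [AddCommGroup A] [Module k A]
variable {V : Type w} [AddCommGroup V] [Module k V]

/-- `(id ⊗ φ) : V ⊗ A → V`. -/
noncomputable def slice (φ : A →ₗ[k] k) : V ⊗[k] A →ₗ[k] V :=
  (TensorProduct.rid k V).toLinearMap ∘ₗ LinearMap.lTensor V φ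

@[simp] theorem slice_tmul (φ : A →ₗ[k] k) (v : V) (a : A) :
    slice φ (v ⊗ₜ[k] a) = φ a • v := by
  simp [slice]

theorem slice_add (φ ψ : A →ₗ[k] k) (x : V ⊗[k] A) :
    slice (φ + ψ) x = slice φ x + slice ψ x := by
  induction x using TensorProduct.induction_on with
  | zero => simp
  | tmul v a => simp [add_smul]
  | add x y hx hy => simp only [map_add, hx, hy]; abel

theorem slice_smul (c : k) (φ : A →ₗ[k] k) (x : V ⊗[k] A) :
    slice (c • φ) x = c • slice φ x := by
  induction x using TensorProduct.induction_on with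
  | zero => simp
  | tmul v a => simp [mul_smul]
  | add x y hx hy => simp only [map_add, hx, hy, smul_add]

theorem slice_rTensor {W : Type*} [AddCommGroup W] [Module k W] (f : W →ₗ[k] V)
    (φ : A →ₗ[k] k) (y : W ⊗[k] A) :
    slice φ (f.rTensor A y) = f (slice φ y) := by
  induction y using TensorProduct.induction_on with
  | zero => simp
  | tmul v a => simp
  | add x y hx hy => simp only [map_add, hx, hy]

variable [Module.Free k A]

theorem eq_zero_of_slice_eq_zero (x : V ⊗[k] A) (h : ∀ φ : A →ₗ[k] k, slice φ x = 0) : x = 0 := by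
  classical
  let b := Module.Free.chooseBasis k A
  apply (TensorProduct.equivFinsuppOfBasisRight b).injective
  rw [map_zero]
  ext i
  rw [TensorProduct.equivFinsuppOfBasisRight_apply, Finsupp.zero_apply]
  exact h (b.coord i)

theorem eq_of_slice_eq (x y : V ⊗[k] A) (h : ∀ φ : A →ₗ[k] k, slice φ x = slice φ y) : x = y := by
  rw [← sub_eq_zero]
  apply eq_zero_of_slice_eq_zero
  intro φ
  rw [map_sub, h φ, sub_self]

theorem mem_range_rTensor_of_slice_mem (W : Submodule k V) (x : V ⊗[k] A)
    (h : ∀ φ : A →ₗ[k] k, slice φ x ∈ W) : x ∈ LinearMap.range (W.subtype.rTensor A) := by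
  classical
  let b := Module.Free.chooseBasis k A
  let e := TensorProduct.equivFinsuppOfBasisRight (M := V) b
  have hx : x = e.symm (e x) := (e.symm_apply_apply x).symm
  rw [hx, TensorProduct.equivFinsuppOfBasisRight_symm_apply]
  apply Submodule.sum_mem
  intro i _
  have hi : e x i ∈ W := by
    rw [TensorProduct.equivFinsuppOfBasisRight_apply]
    exact h (b.coord i)
  exact ⟨(⟨e x i, hi⟩ : W) ⊗ₜ[k] b i, by simp⟩

theorem slice_mem_of_mem_range_rTensor (W : Submodule k V) (x : V ⊗[k] A)
    (hx : x ∈ LinearMap.range (W.subtype.rTensor A)) (φ : A →ₗ[k] k) : slice φ x ∈ W := by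
  obtain ⟨y, rfl⟩ := hx
  rw [slice_rTensor]
  exact (slice φ y).2

theorem mem_range_rTensor_iff (W : Submodule k V) (x : V ⊗[k] A) :
    x ∈ LinearMap.range (W.subtype.rTensor A) ↔ ∀ φ : A →ₗ[k] k, slice φ x ∈ W :=
  ⟨slice_mem_of_mem_range_rTensor W x, mem_range_rTensor_of_slice_mem W x⟩

end Slice

end Groth.Agent.Lib.Helper26.Comod
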