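import Groth.Agent.Lib.Helper26.ComodSlice
import Mathlib.RingTheory.Coalgebra.Basic
import Mathlib.RingTheory.TensorProduct.Finite

/-!
# The operators `T φ` on a comodule and local finiteness (helper26)
-/

open TensorProduct

universe u v w

namespace Groth.Agent.Lib.Helper26.Comod

open HopfRep

section T

variable {k : Type u} [CommRing k] {A : Type v} [AddCommGroup A] [Module k A] [Coalgebra k A]
variable {V : Type w} [AddCommGroup V] [Module k V] [Comod k A V]

/-- `T φ v = (id ⊗ φ)(ρ v)`. -/
noncomputable def T (φ : A →ₗ[k] k) : V →ₗ[k] V :=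
  slice φ ∘ₗ Comod.coact (k := k) (A := A)

theorem T_apply (φ : A →ₗ[k] k) (v : V) :
    T φ v = slice φ (Comod.coact (k := k) (A := A) v) := rfl

/-- `T` as a linear map in `φ`. -/
noncomputable def Tlin (v : V) : (A →ₗ[k] k) →ₗ[k] V where
  toFun φ := T φ v
  map_add' φ ψ := by simp only [T_apply, slice_add]
  map_smul' c φ := by simp only [T_apply, slice_smul, RingHom.id_apply]

@[simp] theorem Tlin_apply (v : V) (φ : A →ₗ[k] k) : Tlin v φ = T φ v := rfl

/-- convolution of linear forms. -/
noncomputable def conv (ψ φ : A →ₗ[k] k) : A →ₗ[k] k :=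
  LinearMap.mul' k k ∘ₗ TensorProduct.map ψ φ ∘ₗ Coalgebra.comul

theorem T_counit (v : V) : T (Coalgebra.counit (R := k) (A := A)) v = v := by
  have h := congrArg (fun f => f v) (Comod.counit_comp (k := k) (A := A) (V := V))
  simp only [LinearMap.comp_apply, LinearMap.flip_apply, TensorProduct.mk_apply] at h
  rw [T_apply, slice, LinearMap.comp_apply, h]
  simp

theorem coact_slice (φ : A →ₗ[k] k) (x : V ⊗[k] A) :
    Comod.coact (k := k) (A := A) (slice φ x) =
      slice φ ((Comod.coact (k := k) (A := A) (V := V)).rTensor A x) := by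
  induction x using TensorProduct.induction_on with
  | zero => simp
  | tmul v a => simp
  | add x y hx hy => simp only [map_add, hx, hy]

omit [Coalgebra k A] [Comod k A V] in
theorem slice_slice (ψ φ : A →ₗ[k] k) (y : (V ⊗[k] A) ⊗[k] A) :
    slice ψ (slice φ y) =
      (TensorProduct.rid k V).toLinearMap
        (LinearMap.lTensor V (LinearMap.mul' k k ∘ₗ TensorProduct.map ψ φ)
          (TensorProduct.assoc k V A A y)) := by
  induction y using TensorProduct.induction_on with
  | zero => simp
  | tmul x a' =>
    induction x using TensorProduct.induction_on with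
    | zero => simp
    | tmul v a => simp [mul_smul, smul_comm (φ a') (ψ a) v]
    | add x y hx hy => simp only [TensorProduct.add_tmul, map_add, hx, hy]
  | add x y hx hy => simp only [map_add, hx, hy]

theorem T_T (ψ φ : A →ₗ[k] k) (v : V) : T ψ (T φ v) = T (conv ψ φ) v := by
  have h := congrArg (fun f => f v) (Comod.coassoc (k := k) (A := A) (V := V))
  simp only [LinearMap.comp_apply, LinearEquiv.coe_coe] at h
  rw [T_apply, T_apply, coact_slice, slice_slice, h, T_apply, slice, conv]
  simp only [LinearMap.comp_apply, ← LinearMap.lTensor_comp_apply]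
  rfl

end T

section Field

variable {k : Type u} [Field k] {A : Type v} [AddCommGroup A] [Module k A] [Coalgebra k A]
variable {V : Type w} [AddCommGroup V] [Module k V] [Comod k A V]

theorem isSubcomod_iff (W : Submodule k V) :
    IsSubcomod (k := k) (A := A) W ↔ ∀ (φ : A →ₗ[k] k), ∀ w ∈ W, T φ w ∈ W := by
  constructor
  · intro h φ w hw
    exact slice_mem_of_mem_range_rTensor W _ (h w hw) φ
  · intro h w hw
    exact mem_range_rTensor_of_slice_mem W _ (fun φ => h φ w hw)

/-- the smallest subcomodule containing `v`. -/
noncomputable def gen (k : Type u) [Field k] (A : Type v) [AddCommGroup A] [Module k A]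
    [Coalgebra k A] [Module k V] [Comod k A V] (v : V) : Submodule k V :=
  LinearMap.range (Tlin (A := A) v)

theorem mem_gen (v : V) : v ∈ gen k A v :=
  ⟨Coalgebra.counit, T_counit v⟩

theorem isSubcomod_gen (v : V) : IsSubcomod (k := k) (A := A) (gen k A v) := by
  rw [isSubcomod_iff]
  rintro ψ _ ⟨φ, rfl⟩
  exact ⟨conv ψ φ, (T_T ψ φ v).symm⟩

theorem finite_gen (v : V) : Module.Finite k (gen k A v) := by
  classical
  obtain ⟨s, hs⟩ := TensorProduct.exists_finset (Comod.coact (k := k) (A := A) v)
  have hle : gen k A v ≤ Submodule.span k ((s.image fun p : V × A => p.1 : Finset V) : Set V) := by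
    rintro _ ⟨φ, rfl⟩
    rw [Tlin_apply, T_apply, hs, map_sum]
    apply Submodule.sum_mem
    intro p hp
    rw [slice_tmul]
    apply Submodule.smul_mem
    apply Submodule.subset_span
    exact Finset.mem_coe.mpr (Finset.mem_image_of_mem _ hp)
  have : Module.Finite k (Submodule.span k ((s.image fun p : V × A => p.1 : Finset V) : Set V)) :=
    Module.Finite.span_finset k _
  exact Submodule.finiteDimensional_of_le hle

/-- Local finiteness of comodules over a field. -/
theorem exists_finite_subcomod_mem (v : V) :
    ∃ W : Submodule k V, Module.Finite k W ∧ v ∈ W ∧ IsSubcomod (k := k) (A := A) W :=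
  ⟨gen k A v, finite_gen v, mem_gen v, isSubcomod_gen v⟩

end Field

end Groth.Agent.Lib.Helper26.Comod
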