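import Mathlib
import Groth.Agent.Lib.Helper26.CondShift
set_option maxHeartbeats 400000
universe u
namespace Groth.Agent.Lib.Helper26.CondShift2
open PowerSeries Groth.Agent.Lib.Helper26.CondShift

variable {k : Type u} [Field k] {s : ℕ}

/-- if `f` has order exactly `l` and `g` has order at least `l + c`, then `g = h * f` with
`h` of order at least `c`. -/
lemma exists_quot (f g : PowerSeries k) (l c : ℕ) (hf : f.order = (l : ℕ∞))
    (hg : ((l + c : ℕ) : ℕ∞) ≤ g.order) : ∃ h : PowerSeries k, g = h * f ∧ ((c : ℕ) : ℕ∞) ≤ h.order := by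
  have hf0 : f ≠ 0 := by
    intro h; rw [h, order_zero] at hf; exact ENat.top_ne_coe _ hf
  obtain ⟨uu, huu⟩ := isUnit_divided_by_X_pow_order hf0
  have hfac : f = X ^ l * (uu : PowerSeries k) := by
    have h1 : f.order.toNat = l := by rw [hf]; rfl
    rw [huu, ← h1]
    exact X_pow_order_mul_divXPowOrder.symm
  have hdvd : (X : PowerSeries k) ^ l ∣ g := by
    rw [X_pow_dvd_iff]
    intro m hm
    apply coeff_of_lt_order
    refine lt_of_lt_of_le ?_ hg
    exact_mod_cast (by omega : m < l + c)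
  obtain ⟨q, hq⟩ := hdvd
  have hqord : ((c : ℕ) : ℕ∞) ≤ q.order := by
    apply nat_le_order
    intro m hm
    have h1 : coeff (m + l) g = 0 := by
      apply coeff_of_lt_order
      refine lt_of_lt_of_le ?_ hg
      exact_mod_cast (by omega : m + l < l + c)
    rw [hq, mul_comm, coeff_mul_X_pow] at h1
    exact h1
  refine ⟨q * ((uu⁻¹ : (PowerSeries k)ˣ) : PowerSeries k), ?_, ?_⟩
  · rw [hq, hfac]
    have : ((uu⁻¹ : (PowerSeries k)ˣ) : PowerSeries k) * (uu : PowerSeries k) = 1 := Units.inv_mul uu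
    calc X ^ l * q = X ^ l * q * (((uu⁻¹ : (PowerSeries k)ˣ) : PowerSeries k) * (uu : PowerSeries k)) := by
          rw [this, mul_one]
      _ = _ := by ring
  · exact le_trans (le_trans hqord (le_add_right le_rfl)) (le_order_mul _ _)

theorem main (R : Subalgebra k (Fin s → PowerSeries k))
    (c : Fin s → ℕ)
    (hc : ∀ f : Fin s → PowerSeries k,
      (∀ g : Fin s → PowerSeries k, g * f ∈ R) ↔ ∀ i, ((c i : ℕ) : ℕ∞) ≤ (f i).order)
    (J : Ideal ↥R)
    (l : Fin s → ℕ) (hl : ∀ i : Fin s, ∃ f ∈ J, ((f : Fin s → PowerSeries k) i).order = ((l i : ℕ) : ℕ∞))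
    (g : Fin s → PowerSeries k) (hg : ∀ i : Fin s, ((l i + c i : ℕ) : ℕ∞) ≤ (g i).order) :
    ∃ hgR : g ∈ R, (⟨g, hgR⟩ : ↥R) ∈ J := by
  classical
  have hcondR : ∀ f : Fin s → PowerSeries k, (∀ i, ((c i : ℕ) : ℕ∞) ≤ (f i).order) → f ∈ R := by
    intro f hf
    have := (hc f).mpr hf 1
    rwa [one_mul] at this
  have hdecomp : ∀ i : Fin s, ∃ hR : (Pi.single i (g i) : Fin s → PowerSeries k) ∈ R,
      (⟨Pi.single i (g i), hR⟩ : ↥R) ∈ J := by
    intro i
    obtain ⟨f, hfJ, hford⟩ := hl i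
    obtain ⟨h, hgh, hhord⟩ := exists_quot ((f : Fin s → PowerSeries k) i) (g i) (l i) (c i) hford (hg i)
    have hsR : (Pi.single i h : Fin s → PowerSeries k) ∈ R :=
      hcondR _ (single_mem_cond c i h hhord)
    have e : (Pi.single i (g i) : Fin s → PowerSeries k)
        = (Pi.single i h : Fin s → PowerSeries k) * (f : Fin s → PowerSeries k) := by
      funext j
      by_cases hji : j = i
      · subst hji; simp [hgh]
      · simp [Pi.single_apply, hji]
    refine ⟨e ▸ R.mul_mem hsR f.2, ?_⟩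
    have := J.mul_mem_left ⟨Pi.single i h, hsR⟩ hfJ
    convert this using 1
    exact Subtype.ext e
  choose hR hI using hdecomp
  have hsum : g = ∑ i, (Pi.single i (g i) : Fin s → PowerSeries k) :=
    (Finset.univ_sum_single g).symm
  have hgR : g ∈ R := by
    rw [hsum]; exact R.sum_mem (fun i _ => hR i)
  refine ⟨hgR, ?_⟩
  have := J.sum_mem (fun i (_ : i ∈ Finset.univ) => hI i)
  convert this using 1
  apply Subtype.ext
  rw [AddSubmonoidClass.coe_finset_sum]
  exact hsum

end Groth.Agent.Lib.Helper26.CondShift2
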