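import Mathlib

set_option maxHeartbeats 400000
set_option linter.style.haveILetI false
set_option linter.unusedSectionVars false

universe v v' u u'

open CategoryTheory CategoryTheory.Limits

namespace Groth.Agent.Lib.Helper26.ConjSES

section Conj

variable {C : Type u} [Category.{v} C] {D : Type u'} [Category.{v'} D]
  {L₁ L₂ : C ⥤ D} {R₁ R₂ : D ⥤ C} (adj₁ : L₁ ⊣ R₁) (adj₂ : L₂ ⊣ R₂)

/-- the defining property of conjugate natural transformations in terms of hom-set bijections -/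
lemma homEquiv_conj (α : R₁ ⟶ R₂) {M : C} {N : D} (t : L₁.obj M ⟶ N) :
    adj₂.homEquiv _ _ (((conjugateEquiv adj₁ adj₂).symm α).app M ≫ t) =
      adj₁.homEquiv _ _ t ≫ α.app N := by
  rw [Adjunction.homEquiv_unit, Adjunction.homEquiv_unit, Functor.map_comp,
    ← Category.assoc, ← unit_conjugateEquiv_symm, Category.assoc, Category.assoc,
    α.naturality]

end Conj

section Main

variable {C : Type u} [Category.{v} C] [Abelian C] {D : Type u'} [Category.{v'} D] [Abelian D]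
  [EnoughInjectives D]
  {L₀ L₁ L₂ L₃ : C ⥤ D} {R₀ R₁ R₂ R₃ : D ⥤ C}
  [R₀.Additive] [R₁.Additive] [R₂.Additive] [R₃.Additive]
  (adj₀ : L₀ ⊣ R₀) (adj₁ : L₁ ⊣ R₁) (adj₂ : L₂ ⊣ R₂) (adj₃ : L₃ ⊣ R₃)
  (u₁ : R₀ ⟶ R₁) (u₂ : R₀ ⟶ R₂) (p₁ : R₁ ⟶ R₃) (p₂ : R₂ ⟶ R₃)
  (hpb : ∀ N : D, IsPullback (u₁.app N) (u₂.app N) (p₁.app N) (p₂.app N))
  (hsplit : ∀ N : D, Injective N → ∃ σ : R₃.obj N ⟶ R₁.obj N ⊞ R₂.obj N,
    σ ≫ biprod.desc (p₁.app N) (-p₂.app N) = 𝟙 _)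

/-- conjugate of `p₁` -/
def q₁ : L₃ ⟶ L₁ := (conjugateEquiv adj₁ adj₃).symm p₁
/-- conjugate of `p₂` -/
def q₂ : L₃ ⟶ L₂ := (conjugateEquiv adj₂ adj₃).symm p₂
/-- conjugate of `u₁` -/
def c₁ : L₁ ⟶ L₀ := (conjugateEquiv adj₀ adj₁).symm u₁
/-- conjugate of `u₂` -/
def c₂ : L₂ ⟶ L₀ := (conjugateEquiv adj₀ adj₂).symm u₂

include hpb in
lemma sq : q₁ adj₁ adj₃ p₁ ≫ c₁ adj₀ adj₁ u₁ = q₂ adj₂ adj₃ p₂ ≫ c₂ adj₀ adj₂ u₂ := by
  unfold q₁ q₂ c₁ c₂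
  rw [conjugateEquiv_symm_comp, conjugateEquiv_symm_comp]
  congr 1
  ext N
  exact (hpb N).w

lemma homEquiv_add {L : C ⥤ D} {R : D ⥤ C} [R.Additive] (adj : L ⊣ R) {M : C} {N : D}
    (f g : L.obj M ⟶ N) :
    adj.homEquiv _ _ (f + g) = adj.homEquiv _ _ f + adj.homEquiv _ _ g := by
  simp [Adjunction.homEquiv_unit]

lemma homEquiv_neg {L : C ⥤ D} {R : D ⥤ C} [R.Additive] (adj : L ⊣ R) {M : C} {N : D}
    (f : L.obj M ⟶ N) :
    adj.homEquiv _ _ (-f) = -adj.homEquiv _ _ f := by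
  simp [Adjunction.homEquiv_unit]

lemma homEquiv_zero {L : C ⥤ D} {R : D ⥤ C} [R.Additive] (adj : L ⊣ R) {M : C} {N : D} :
    adj.homEquiv M N 0 = 0 := by
  simp [Adjunction.homEquiv_unit]

/-- first map of the conjugate short complex -/
noncomputable def f (M : C) : L₃.obj M ⟶ L₁.obj M ⊞ L₂.obj M :=
  biprod.lift ((q₁ adj₁ adj₃ p₁).app M) ((q₂ adj₂ adj₃ p₂).app M)

/-- second map of the conjugate short complex -/
noncomputable def g (M : C) : L₁.obj M ⊞ L₂.obj M ⟶ L₀.obj M :=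
  biprod.desc ((c₁ adj₀ adj₁ u₁).app M) (-(c₂ adj₀ adj₂ u₂).app M)

include hpb in
lemma w (M : C) : f adj₁ adj₂ adj₃ p₁ p₂ M ≫ g adj₀ adj₁ adj₂ u₁ u₂ M = 0 := by
  have := congrArg (fun τ => τ.app M) (sq adj₀ adj₁ adj₂ adj₃ u₁ u₂ p₁ p₂ hpb)
  simp only [NatTrans.comp_app] at this
  rw [f, g, biprod.lift_desc, Preadditive.comp_neg, this, add_neg_cancel]

lemma K1 (M : C) {Z : D} (t : L₁.obj M ⊞ L₂.obj M ⟶ Z) :
    adj₃.homEquiv _ _ (f adj₁ adj₂ adj₃ p₁ p₂ M ≫ t) =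
      adj₁.homEquiv _ _ (biprod.inl ≫ t) ≫ p₁.app Z +
        adj₂.homEquiv _ _ (biprod.inr ≫ t) ≫ p₂.app Z := by
  have : f adj₁ adj₂ adj₃ p₁ p₂ M ≫ t =
      (q₁ adj₁ adj₃ p₁).app M ≫ (biprod.inl ≫ t) + (q₂ adj₂ adj₃ p₂).app M ≫ (biprod.inr ≫ t) := by
    rw [f, biprod.lift_eq, Preadditive.add_comp, Category.assoc, Category.assoc]
  rw [this, homEquiv_add]
  unfold q₁ q₂
  rw [homEquiv_conj, homEquiv_conj]

lemma K2 (M : C) {Z : D} (s : L₀.obj M ⟶ Z) :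
    adj₁.homEquiv _ _ (biprod.inl ≫ g adj₀ adj₁ adj₂ u₁ u₂ M ≫ s) =
      adj₀.homEquiv _ _ s ≫ u₁.app Z := by
  have : biprod.inl ≫ g adj₀ adj₁ adj₂ u₁ u₂ M ≫ s = (c₁ adj₀ adj₁ u₁).app M ≫ s := by
    rw [g, biprod.inl_desc_assoc]
  rw [this]
  unfold c₁
  rw [homEquiv_conj]

lemma K3 (M : C) {Z : D} (s : L₀.obj M ⟶ Z) :
    adj₂.homEquiv _ _ (biprod.inr ≫ g adj₀ adj₁ adj₂ u₁ u₂ M ≫ s) =
      -(adj₀.homEquiv _ _ s ≫ u₂.app Z) := by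
  have : biprod.inr ≫ g adj₀ adj₁ adj₂ u₁ u₂ M ≫ s = -((c₂ adj₀ adj₂ u₂).app M ≫ s) := by
    rw [g, biprod.inr_desc_assoc, Preadditive.neg_comp]
  rw [this, homEquiv_neg]
  unfold c₂
  rw [homEquiv_conj]

lemma cond (M : C) {Z : D} (t : L₁.obj M ⊞ L₂.obj M ⟶ Z)
    (ht : f adj₁ adj₂ adj₃ p₁ p₂ M ≫ t = 0) :
    adj₁.homEquiv _ _ (biprod.inl ≫ t) ≫ p₁.app Z =
      (-adj₂.homEquiv _ _ (biprod.inr ≫ t)) ≫ p₂.app Z := by
  have h := K1 adj₁ adj₂ adj₃ p₁ p₂ M t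
  rw [ht, homEquiv_zero] at h
  rw [Preadditive.neg_comp]
  exact eq_neg_of_add_eq_zero_left h.symm

/-- the second map of the conjugate short complex is a cokernel of the first -/
noncomputable def isColimit (M : C) :
    IsColimit (CokernelCofork.ofπ (g adj₀ adj₁ adj₂ u₁ u₂ M)
      (w adj₀ adj₁ adj₂ adj₃ u₁ u₂ p₁ p₂ hpb M)) :=
  CokernelCofork.IsColimit.ofπ _ _
    (fun {Z} t ht => (adj₀.homEquiv _ _).symm ((hpb Z).lift _ _
      (cond adj₁ adj₂ adj₃ p₁ p₂ M t ht)))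
    (fun {Z} t ht => by
      apply biprod.hom_ext'
      · apply (adj₁.homEquiv _ _).injective
        rw [K2, Equiv.apply_symm_apply, IsPullback.lift_fst]
      · apply (adj₂.homEquiv _ _).injective
        rw [K3, Equiv.apply_symm_apply, IsPullback.lift_snd, neg_neg])
    (fun {Z} t ht m hm => by
      subst hm
      rw [Equiv.eq_symm_apply]
      apply (hpb Z).hom_ext
      · rw [IsPullback.lift_fst, K2]
      · rw [IsPullback.lift_snd, K3, neg_neg])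

include hsplit in
lemma mono_f (M : C) : Mono (f adj₁ adj₂ adj₃ p₁ p₂ M) := by
  obtain ⟨σ, hσ⟩ := hsplit (Injective.under (L₃.obj M)) inferInstance
  let ι : L₃.obj M ⟶ Injective.under (L₃.obj M) := Injective.ι _
  obtain ⟨τ, hτ⟩ : ∃ τ, τ = adj₃.homEquiv _ _ ι ≫ σ := ⟨_, rfl⟩
  let t : L₁.obj M ⊞ L₂.obj M ⟶ Injective.under (L₃.obj M) :=
    biprod.desc ((adj₁.homEquiv _ _).symm (τ ≫ biprod.fst))
      ((adj₂.homEquiv _ _).symm (-(τ ≫ biprod.snd)))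
  have h : f adj₁ adj₂ adj₃ p₁ p₂ M ≫ t = ι := by
    apply (adj₃.homEquiv _ _).injective
    rw [K1]
    dsimp only [t]
    rw [biprod.inl_desc, biprod.inr_desc, Equiv.apply_symm_apply, Equiv.apply_symm_apply]
    have h2 : (τ ≫ biprod.fst) ≫ p₁.app _ + (-(τ ≫ biprod.snd)) ≫ p₂.app _ =
        τ ≫ biprod.desc (p₁.app _) (-p₂.app _) := by
      rw [biprod.desc_eq, Preadditive.comp_add, Preadditive.neg_comp, Preadditive.comp_neg,
        Preadditive.comp_neg, Category.assoc, Category.assoc]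
    rw [h2, hτ, Category.assoc, hσ, Category.comp_id]
  exact mono_of_mono_fac h

include hsplit in
lemma shortExact (M : C) :
    (ShortComplex.mk (f adj₁ adj₂ adj₃ p₁ p₂ M) (g adj₀ adj₁ adj₂ u₁ u₂ M)
      (w adj₀ adj₁ adj₂ adj₃ u₁ u₂ p₁ p₂ hpb M)).ShortExact := by
  have h1 : Mono (f adj₁ adj₂ adj₃ p₁ p₂ M) := mono_f adj₁ adj₂ adj₃ p₁ p₂ hsplit M
  have hc := isColimit adj₀ adj₁ adj₂ adj₃ u₁ u₂ p₁ p₂ hpb M
  have h2 : Epi (g adj₀ adj₁ adj₂ u₁ u₂ M) := epi_of_isColimit_cofork hc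
  exact ShortComplex.ShortExact.mk (ShortComplex.exact_of_g_is_cokernel _ hc)

end Main

end Groth.Agent.Lib.Helper26.ConjSES
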