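import Groth.Agent.Lib.Helper26.CoalgDecomp
import Groth.Agent.Lib.Helper26.CoalgDual
import Groth.Agent.Lib.Helper26.ComodSS
import Groth.Agent.Lib.Helper26.HilbertFin2
import Groth.Prelude.Def_W4c3ghconstell

/-!
# Isotypic decomposition over all simple subcoalgebras of a cosemisimple coalgebra (helper26)
-/

open TensorProduct

universe u v w w'

namespace Groth.Agent.Lib.Helper26.Constell

open HopfRep Groth.Agent.Lib.Helper26.Comod W4c3ghconstell

section Coalg

variable {k : Type u} [Field k] {A : Type v} [AddCommGroup A] [Module k A] [Coalgebra k A]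

/-- if `Δ a ∈ A ⊗ D` then `a ∈ D` -/
theorem mem_of_comul_mem (D : Submodule k A) (a : A)
    (h : Coalgebra.comul (R := k) a ∈ LinearMap.range (LinearMap.lTensor A D.subtype)) :
    a ∈ D := by
  obtain ⟨w, hw⟩ := h
  have h1 := Coalgebra.rTensor_counit_comul (R := k) a
  rw [← hw] at h1
  have h2 : ∀ y : A ⊗[k] D, TensorProduct.lid k A
      ((Coalgebra.counit (R := k) (A := A)).rTensor A (D.subtype.lTensor A y)) ∈ D := by
    intro y
    induction y using TensorProduct.induction_on with
    | zero => simp
    | tmul x d =>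
      simp only [LinearMap.lTensor_tmul, LinearMap.rTensor_tmul, TensorProduct.lid_tmul,
        Submodule.subtype_apply]
      exact D.smul_mem _ d.2
    | add x y hx hy => simp only [map_add]; exact D.add_mem hx hy
  have h3 := h2 w
  rw [h1, TensorProduct.lid_tmul, one_smul] at h3
  exact h3

variable {ι : Type w} [DecidableEq ι] {D : ι → Submodule k A}

/-- every simple subcoalgebra is one of the summands of a decomposition into simple subcoalgebras -/
theorem exists_eq_of_isSimpleSubcoalg (hint : DirectSum.IsInternal D)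
    (hD : ∀ i, IsSimpleSubcoalg k A (D i)) (B : Submodule k A) (hB : IsSimpleSubcoalg k A B) :
    ∃ i, B = D i := by
  have hDc : ∀ i, ∀ d ∈ D i, Coalgebra.comul (R := k) d ∈
      LinearMap.range (TensorProduct.map (D i).subtype (D i).subtype) := fun i => (hD i).2.1
  obtain ⟨b, hb, hb0⟩ := Submodule.exists_mem_ne_zero_of_ne_bot hB.1
  have hBsub : IsSubcomod (k := k) (A := A) B :=
    Groth.Agent.Lib.Helper26.Comod.IsSubcoalg.isSubcomod hB.2.1
  have htop : b ∈ ⨆ i, piece A D i := by
    rw [iSup_piece_eq_top hint hDc]; trivial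
  -- some projection of `b` is nonzero
  have hex : ∃ i, T (epsi hint i) b ≠ 0 := by
    by_contra hall
    push_neg at hall
    apply hb0
    have key : ∀ x ∈ ⨆ i, piece A D i, (∀ i, T (epsi hint i) x = 0) → x = 0 := by
      intro x hx
      rw [Submodule.mem_iSup_iff_exists_finsupp] at hx
      obtain ⟨f, hf, rfl⟩ := hx
      intro h0
      apply Finset.sum_eq_zero
      intro j _
      have := h0 j
      rw [Finsupp.sum, map_sum] at this
      rw [Finset.sum_eq_single j] at this
      · rw [T_epsi_of_mem_piece hint (hf j)] at this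
        exact this
      · intro i _ hij
        exact T_epsi_of_mem_piece_ne hint hij (hf i)
      · intro hj
        rw [Finsupp.notMem_support_iff.mp hj, map_zero]
    exact key b htop hall
  obtain ⟨i, hi⟩ := hex
  refine ⟨i, ?_⟩
  have h1 : T (epsi hint i) b ∈ B := (isSubcomod_iff B).mp hBsub _ b hb
  have h2 : T (epsi hint i) b ∈ D i :=
    mem_of_comul_mem (D i) _ (T_epsi_mem_piece hint hDc i b)
  have hne : B ⊓ D i ≠ ⊥ := by
    intro h
    have : T (epsi hint i) b ∈ B ⊓ D i := ⟨h1, h2⟩
    rw [h, Submodule.mem_bot] at this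
    exact hi this
  have hsub : Groth.Agent.Lib.Helper26.Comod.IsSubcoalg (B ⊓ D i) :=
    isSubcoalg_inf hB.2.1 (hD i).2.1
  have e1 : B ⊓ D i = B := (hB.2.2 _ inf_le_left hsub).resolve_left hne
  have e2 : B ⊓ D i = D i := ((hD i).2.2 _ inf_le_right hsub).resolve_left hne
  rw [← e1, e2]

/-- A cosemisimple coalgebra is the internal direct sum of all its simple subcoalgebras. -/
theorem isInternal_simpSub [DecidableEq (SimpSub k A)] (hss : IsSemisimpleComod k A A) :
    DirectSum.IsInternal (fun S : SimpSub k A => S.1) := by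
  classical
  obtain ⟨ι, D, hind, hsup, hD⟩ := exists_cosemisimple_decomposition hss
  have hint : DirectSum.IsInternal D :=
    DirectSum.isInternal_submodule_of_iSupIndep_of_iSup_eq_top hind hsup
  have hDs : ∀ i, IsSimpleSubcoalg k A (D i) := fun i => hD i
  let f : ι → SimpSub k A := fun i => ⟨D i, hDs i⟩
  have hfinj : Function.Injective f := by
    intro i j hij
    have h1 : D i = D j := congrArg Subtype.val hij
    by_contra hne
    have h2 := hind i
    have h3 : D i ≤ ⨆ j, ⨆ (_ : j ≠ i), D j := by
      rw [h1]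
      exact le_iSup₂_of_le j (Ne.symm hne) le_rfl
    exact (hD i).1 (disjoint_self.mp (h2.mono_right h3))
  have hfsurj : Function.Surjective f := by
    intro S
    obtain ⟨i, hi⟩ := exists_eq_of_isSimpleSubcoalg hint hDs S.1 S.2
    exact ⟨i, Subtype.ext hi.symm⟩
  let e : ι ≃ SimpSub k A := Equiv.ofBijective f ⟨hfinj, hfsurj⟩
  have hcomp : (fun S : SimpSub k A => S.1) = D ∘ e.symm := by
    funext S
    have : f (e.symm S) = S := e.apply_symm_apply S
    change S.1 = D (e.symm S)
    conv_lhs => rw [← this]
  apply DirectSum.isInternal_submodule_of_iSupIndep_of_iSup_eq_top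
  · rw [hcomp]
    exact hind.comp e.symm.injective
  · rw [hcomp, ← hsup]
    exact e.symm.iSup_comp (g := D)

end Coalg

section Sub

variable {k : Type u} [Field k] {A : Type v} [AddCommGroup A] [Module k A] [Coalgebra k A]
variable {V : Type w'} [AddCommGroup V] [Module k V] [Comod k A V]

theorem isSubcomod_inf {W₁ W₂ : Submodule k V} (h₁ : IsSubcomod (k := k) (A := A) W₁)
    (h₂ : IsSubcomod (k := k) (A := A) W₂) : IsSubcomod (k := k) (A := A) (W₁ ⊓ W₂) := by
  rw [isSubcomod_iff] at h₁ h₂ ⊢
  intro φ w hw
  exact ⟨h₁ φ w hw.1, h₂ φ w hw.2⟩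

theorem range_rTensor_mono {W W' : Submodule k V} (h : W ≤ W') :
    LinearMap.range (W.subtype.rTensor A) ≤ LinearMap.range (W'.subtype.rTensor A) := by
  rintro _ ⟨y, rfl⟩
  refine ⟨(Submodule.inclusion h).rTensor A y, ?_⟩
  rw [← LinearMap.rTensor_comp_apply]
  rfl

end Sub

section Comod

variable {k : Type u} [Field k] {A : Type v} [AddCommGroup A] [Module k A] [Coalgebra k A]
variable {M : Type w'} [AddCommGroup M] [Module k M] [Comod k A M]
variable [DecidableEq (SimpSub k A)]

theorem simpSub_comul (S : SimpSub k A) : ∀ d ∈ S.1, Coalgebra.comul (R := k) d ∈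
    LinearMap.range (TensorProduct.map S.1.subtype S.1.subtype) := S.2.2.1

theorem isoComp_eq_piece (S : SimpSub k A) :
    isoComp M S.1 = piece M (fun S : SimpSub k A => S.1) S := rfl

theorem isSubcomod_isoComp (hint : DirectSum.IsInternal (fun S : SimpSub k A => S.1))
    (S : SimpSub k A) : IsSubcomod (k := k) (A := A) (isoComp M S.1) :=
  isSubcomod_piece hint simpSub_comul S

/-- a nonzero subcomodule meets some isotypic component -/
theorem exists_inf_isoComp_ne_bot (hint : DirectSum.IsInternal (fun S : SimpSub k A => S.1))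
    (N : Submodule k M) (hN : IsSubcomod (k := k) (A := A) N) (hne : N ≠ ⊥) :
    ∃ S : SimpSub k A, N ⊓ isoComp M S.1 ≠ ⊥ := by
  obtain ⟨n, hn, hn0⟩ := Submodule.exists_mem_ne_zero_of_ne_bot hne
  have htop : n ∈ ⨆ S, piece M (fun S : SimpSub k A => S.1) S := by
    rw [iSup_piece_eq_top hint simpSub_comul]; trivial
  have hex : ∃ S, T (epsi hint S) n ≠ 0 := by
    by_contra hall
    push_neg at hall
    apply hn0
    have key : ∀ x ∈ ⨆ S, piece M (fun S : SimpSub k A => S.1) S,
        (∀ S, T (epsi hint S) x = 0) → x = 0 := by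
      intro x hx
      rw [Submodule.mem_iSup_iff_exists_finsupp] at hx
      obtain ⟨f, hf, rfl⟩ := hx
      intro h0
      apply Finset.sum_eq_zero
      intro j _
      have := h0 j
      rw [Finsupp.sum, map_sum] at this
      rw [Finset.sum_eq_single j] at this
      · rw [T_epsi_of_mem_piece hint (hf j)] at this
        exact this
      · intro i _ hij
        exact T_epsi_of_mem_piece_ne hint hij (hf i)
      · intro hj
        rw [Finsupp.notMem_support_iff.mp hj, map_zero]
    exact key n htop hall
  obtain ⟨S, hS⟩ := hex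
  refine ⟨S, ?_⟩
  intro h
  have h1 : T (epsi hint S) n ∈ N := (isSubcomod_iff N).mp hN _ n hn
  have h2 : T (epsi hint S) n ∈ isoComp M S.1 := T_epsi_mem_piece hint simpSub_comul S n
  have : T (epsi hint S) n ∈ N ⊓ isoComp M S.1 := ⟨h1, h2⟩
  rw [h, Submodule.mem_bot] at this
  exact hS this

end Comod

section HopfMod

variable {k : Type u} [Field k] {A : Type v} [CommRing A] [Bialgebra k A]
variable {R : Type w} [CommRing R] [Algebra k R] [Comod k A R]
variable {M : Type w'} [AddCommGroup M] [Module k M] [Module R M] [IsScalarTower k R M]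
  [Comod k A M] [TameAct.IsHopfMod k A R M]

theorem hmSMul_mem_range (N : Submodule R M) (x : R ⊗[k] A)
    (y : (N.restrictScalars k) ⊗[k] A) :
    TameAct.hmSMul k A R M x ((N.restrictScalars k).subtype.rTensor A y) ∈
      LinearMap.range ((N.restrictScalars k).subtype.rTensor A) := by
  induction x using TensorProduct.induction_on with
  | zero => simp
  | tmul r a =>
    induction y using TensorProduct.induction_on with
    | zero => simp
    | tmul n a' =>
      rw [LinearMap.rTensor_tmul, TameAct.hmSMul_tmul]
      exact ⟨(⟨r • (n : M), N.smul_mem r n.2⟩ : N.restrictScalars k) ⊗ₜ[k] (a * a'), rfl⟩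
    | add y₁ y₂ h₁ h₂ =>
      rw [map_add, map_add]
      exact Submodule.add_mem _ h₁ h₂
  | add x₁ x₂ h₁ h₂ =>
    rw [map_add, LinearMap.add_apply]
    exact Submodule.add_mem _ h₁ h₂

/-- the `R`-span of a set of vectors whose coactions land in `span ⊗ A` is a subcomodule -/
theorem isSubcomod_span (s : Set M)
    (hs : ∀ v ∈ s, Comod.coact (k := k) (A := A) v ∈
      LinearMap.range (((Submodule.span R s).restrictScalars k).subtype.rTensor A)) :
    IsSubcomod (k := k) (A := A) ((Submodule.span R s).restrictScalars k) := by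
  intro v hv
  have hv' : v ∈ Submodule.span R s := hv
  clear hv
  induction hv' using Submodule.span_induction with
  | mem v hv => exact hs v hv
  | zero => rw [map_zero]; exact Submodule.zero_mem _
  | add x y _ _ hx hy => rw [map_add]; exact Submodule.add_mem _ hx hy
  | smul r x _ hx =>
    rw [TameAct.IsHopfMod.coact_smul (k := k) (A := A)]
    obtain ⟨y, hy⟩ := hx
    rw [← hy]
    exact hmSMul_mem_range _ _ y

end HopfMod

end Groth.Agent.Lib.Helper26.Constell
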