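import Mathlib.Topology.Algebra.InfiniteSum.Real
import Mathlib.Topology.Algebra.InfiniteSum.Order
import Mathlib.Topology.Algebra.InfiniteSum.ENNReal

/-!
# Comparison of weighted sums of bounded multiplicities (helper26)

`θ : ι → ℚ` negative only finitely often, `h : ι → ℕ` with `Σ θ h` summable.  For multiplicity
functions `d ≤ h` the series `Σ θ d` is summable, and monotone in `d` in the appropriate sense.
-/

namespace Groth.Agent.Lib.Helper26.ConstellSum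

variable {ι : Type*} {θ : ι → ℚ} {h : ι → ℕ}

/-- the weight of a multiplicity function -/
noncomputable def wt (θ : ι → ℚ) (d : ι → ℕ) : ℝ := ∑' D, (θ D : ℝ) * (d D : ℝ)

theorem summable_of_le (hfin : {D | θ D < 0}.Finite)
    (hsum : Summable (fun D => (θ D : ℝ) * (h D : ℝ))) (d : ι → ℕ) (hd : ∀ D, d D ≤ h D) :
    Summable (fun D => (θ D : ℝ) * (d D : ℝ)) := by
  rw [← hfin.summable_compl_iff]
  have hg := (hfin.summable_compl_iff (f := fun D => (θ D : ℝ) * (h D : ℝ))).mpr hsum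
  refine Summable.of_nonneg_of_le ?_ ?_ hg
  · rintro ⟨D, hD⟩
    have hθ : (0 : ℝ) ≤ θ D := by
      have : ¬ θ D < 0 := hD
      exact_mod_cast not_lt.mp this
    exact mul_nonneg hθ (Nat.cast_nonneg _)
  · rintro ⟨D, hD⟩
    have hθ : (0 : ℝ) ≤ θ D := by
      have : ¬ θ D < 0 := hD
      exact_mod_cast not_lt.mp this
    exact mul_le_mul_of_nonneg_left (by exact_mod_cast hd D) hθ

theorem term_le {d d' : ι → ℕ} (hneg : ∀ D, θ D < 0 → d' D ≤ d D)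
    (hpos : ∀ D, 0 < θ D → d D ≤ d' D) (D : ι) :
    (θ D : ℝ) * (d D : ℝ) ≤ (θ D : ℝ) * (d' D : ℝ) := by
  rcases lt_trichotomy (θ D) 0 with h1 | h1 | h1
  · have : (θ D : ℝ) ≤ 0 := by exact_mod_cast h1.le
    exact mul_le_mul_of_nonpos_left (by exact_mod_cast hneg D h1) this
  · rw [h1]; simp
  · have : (0 : ℝ) ≤ θ D := by exact_mod_cast h1.le
    exact mul_le_mul_of_nonneg_left (by exact_mod_cast hpos D h1) this

theorem wt_le_wt (hfin : {D | θ D < 0}.Finite)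
    (hsum : Summable (fun D => (θ D : ℝ) * (h D : ℝ))) {d d' : ι → ℕ}
    (hd : ∀ D, d D ≤ h D) (hd' : ∀ D, d' D ≤ h D)
    (hneg : ∀ D, θ D < 0 → d' D ≤ d D) (hpos : ∀ D, 0 < θ D → d D ≤ d' D) :
    wt θ d ≤ wt θ d' :=
  Summable.tsum_le_tsum (term_le hneg hpos) (summable_of_le hfin hsum d hd)
    (summable_of_le hfin hsum d' hd')

theorem wt_lt_wt (hfin : {D | θ D < 0}.Finite)
    (hsum : Summable (fun D => (θ D : ℝ) * (h D : ℝ))) {d d' : ι → ℕ}
    (hd : ∀ D, d D ≤ h D) (hd' : ∀ D, d' D ≤ h D)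
    (hneg : ∀ D, θ D < 0 → d' D ≤ d D) (hpos : ∀ D, 0 < θ D → d D ≤ d' D)
    (D₀ : ι) (hD₀ : (θ D₀ : ℝ) * (d D₀ : ℝ) < (θ D₀ : ℝ) * (d' D₀ : ℝ)) :
    wt θ d < wt θ d' :=
  Summable.tsum_lt_tsum (term_le hneg hpos) hD₀ (summable_of_le hfin hsum d hd)
    (summable_of_le hfin hsum d' hd')

/-- equality case -/
theorem term_eq_of_wt_le (hfin : {D | θ D < 0}.Finite)
    (hsum : Summable (fun D => (θ D : ℝ) * (h D : ℝ))) {d d' : ι → ℕ}
    (hd : ∀ D, d D ≤ h D) (hd' : ∀ D, d' D ≤ h D)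
    (hneg : ∀ D, θ D < 0 → d' D ≤ d D) (hpos : ∀ D, 0 < θ D → d D ≤ d' D)
    (hle : wt θ d' ≤ wt θ d) (D : ι) :
    (θ D : ℝ) * (d D : ℝ) = (θ D : ℝ) * (d' D : ℝ) := by
  by_contra hne
  have hlt : (θ D : ℝ) * (d D : ℝ) < (θ D : ℝ) * (d' D : ℝ) :=
    lt_of_le_of_ne (term_le hneg hpos D) hne
  exact absurd (wt_lt_wt hfin hsum hd hd' hneg hpos D hlt) (not_lt.mpr hle)

theorem wt_zero : wt θ (fun _ => 0) = 0 := by
  simp [wt]

end Groth.Agent.Lib.Helper26.ConstellSum
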