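import Groth.Agent.Lib.Helper26.Constell
import Groth.Agent.Lib.Helper26.ConstellSum

/-!
# θ-stability of constellations: bookkeeping (helper26)
-/

open TensorProduct

universe u v w x

namespace Groth.Agent.Lib.Helper26.Constell

open HopfRep Groth.Agent.Lib.Helper26.Comod W4c3ghconstell Groth.Agent.Lib.Helper26.ConstellSum

section Hilb

variable {k : Type u} [Field k] {A : Type v} [AddCommGroup A] [Module k A] [Coalgebra k A]
variable {R : Type w} [CommRing R] [Algebra k R]
variable {M : Type x} [AddCommGroup M] [Module k M] [Module R M] [IsScalarTower k R M]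
  [Comod k A M]
variable {h : SimpSub k A → ℕ}

theorem theta_eq_wt (θ : SimpSub k A → ℚ) (N : Submodule k M) :
    theta M θ N = wt θ (hilbAt M N) := rfl

theorem hilbAt_le (hM : IsConstellation k A R M h) (N : Submodule k M) (D : SimpSub k A) :
    hilbAt M N D ≤ h D := by
  haveI := (hM.2.2 D).1
  rw [← (hM.2.2 D).2]
  exact Submodule.finrank_mono inf_le_right

theorem hilbAt_mono (hM : IsConstellation k A R M h) {N N' : Submodule k M} {D : SimpSub k A}
    (hle : N ⊓ isoComp M D.1 ≤ N' ⊓ isoComp M D.1) :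
    hilbAt M N D ≤ hilbAt M N' D := by
  have := (hM.2.2 D).1
  exact Submodule.finrank_mono hle

theorem hilbAt_mono' (hM : IsConstellation k A R M h) {N N' : Submodule k M} (D : SimpSub k A)
    (hle : N ≤ N') : hilbAt M N D ≤ hilbAt M N' D :=
  hilbAt_mono hM (inf_le_inf_right _ hle)

theorem hilbAt_eq_of_le (hM : IsConstellation k A R M h) {N : Submodule k M} {D : SimpSub k A}
    (hle : isoComp M D.1 ≤ N) : hilbAt M N D = h D := by
  unfold hilbAt
  rw [inf_eq_right.mpr hle]
  exact (hM.2.2 D).2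

theorem hilbAt_top (hM : IsConstellation k A R M h) (D : SimpSub k A) :
    hilbAt M (⊤ : Submodule k M) D = h D :=
  hilbAt_eq_of_le hM le_top

theorem le_of_hilbAt_eq (hM : IsConstellation k A R M h) {N : Submodule k M} {D : SimpSub k A}
    (heq : hilbAt M N D = h D) : isoComp M D.1 ≤ N := by
  have := (hM.2.2 D).1
  have h1 : N ⊓ isoComp M D.1 = isoComp M D.1 :=
    Submodule.eq_of_le_of_finrank_eq inf_le_right (heq.trans (hM.2.2 D).2.symm)
  exact inf_eq_right.mp h1

theorem hilbAt_eq_zero_of_inf_eq_bot {N : Submodule k M} {D : SimpSub k A}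
    (h0 : N ⊓ isoComp M D.1 = ⊥) : hilbAt M N D = 0 := by
  unfold hilbAt
  rw [h0]
  exact finrank_bot k M

theorem hilbAt_bot (D : SimpSub k A) : hilbAt M (⊥ : Submodule k M) D = 0 :=
  hilbAt_eq_zero_of_inf_eq_bot (bot_inf_eq _)

theorem hilbAt_pos (hM : IsConstellation k A R M h) {N : Submodule k M} {D : SimpSub k A}
    (hne : N ⊓ isoComp M D.1 ≠ ⊥) : 0 < hilbAt M N D := by
  have := (hM.2.2 D).1
  obtain ⟨n, hn, hn0⟩ := Submodule.exists_mem_ne_zero_of_ne_bot hne
  unfold hilbAt
  rw [Module.finrank_pos_iff_exists_ne_zero]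
  exact ⟨⟨n, hn⟩, fun h => hn0 (congrArg Subtype.val h)⟩

theorem inf_eq_bot_of_hilbAt_eq_zero (hM : IsConstellation k A R M h) {N : Submodule k M}
    {D : SimpSub k A} (h0 : hilbAt M N D = 0) : N ⊓ isoComp M D.1 = ⊥ := by
  by_contra hne
  exact absurd h0 (hilbAt_pos hM hne).ne'

end Hilb

section Main

variable {k : Type u} [Field k] {A : Type v} [CommRing A] [HopfAlgebra k A]
variable {R : Type w} [CommRing R] [Algebra k R] [Comod k A R]
variable {M : Type x} [AddCommGroup M] [Module k M] [Module R M] [IsScalarTower k R M]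
  [Comod k A M] [TameAct.IsHopfMod k A R M]
variable {h : SimpSub k A → ℕ} {θ : SimpSub k A → ℚ}
variable [DecidableEq (SimpSub k A)]

theorem isInternal_of_isLinearlyReductive (hred : IsLinearlyReductive k A) :
    DirectSum.IsInternal (fun S : SimpSub k A => S.1) :=
  isInternal_simpSub (isSemisimpleComod_of_isLinearlyReductive hred A)

omit [TameAct.IsHopfMod k A R M] [Comod k A R] [DecidableEq (SimpSub k A)] in
theorem isSubcomod_top' : IsSubcomod (k := k) (A := A) ((⊤ : Submodule R M).restrictScalars k) := by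
  rw [isSubcomod_iff]
  intro φ w _
  trivial

omit [TameAct.IsHopfMod k A R M] [Comod k A R] [DecidableEq (SimpSub k A)] in
theorem inf_isoComp_le_genIn (S : Set (SimpSub k A)) (N : Submodule R M) {D : SimpSub k A}
    (hD : D ∈ S) : N.restrictScalars k ⊓ isoComp M D.1 ≤ (genIn k A R M S N).restrictScalars k := by
  intro v hv
  exact Submodule.subset_span (Set.mem_iUnion₂.mpr ⟨D, hD, hv⟩)

omit [TameAct.IsHopfMod k A R M] [Comod k A R] [DecidableEq (SimpSub k A)] in
theorem genIn_le (S : Set (SimpSub k A)) (N : Submodule R M) : genIn k A R M S N ≤ N := by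
  apply Submodule.span_le.mpr
  intro v hv
  obtain ⟨D, _, hvD⟩ := Set.mem_iUnion₂.mp hv
  exact hvD.1

theorem isSubcomod_genIn (hint : DirectSum.IsInternal (fun S : SimpSub k A => S.1))
    (S : Set (SimpSub k A)) (N : Submodule R M)
    (hN : IsSubcomod (k := k) (A := A) (N.restrictScalars k)) :
    IsSubcomod (k := k) (A := A) ((genIn k A R M S N).restrictScalars k) := by
  apply isSubcomod_span
  intro v hv
  obtain ⟨D, hD, hvD⟩ := Set.mem_iUnion₂.mp hv
  have hW : IsSubcomod (k := k) (A := A) (N.restrictScalars k ⊓ isoComp M D.1) :=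
    isSubcomod_inf hN (isSubcomod_isoComp hint D)
  exact range_rTensor_mono (inf_isoComp_le_genIn S N hD) (hW v hvD)

omit [TameAct.IsHopfMod k A R M] [Comod k A R] [DecidableEq (SimpSub k A)] in
/-- the negative part of `N` and of `genIn N` agree -/
theorem genIn_inf_eq (S : Set (SimpSub k A)) (N : Submodule R M) {D : SimpSub k A} (hD : D ∈ S) :
    (genIn k A R M S N).restrictScalars k ⊓ isoComp M D.1 =
      N.restrictScalars k ⊓ isoComp M D.1 := by
  apply le_antisymm
  · exact inf_le_inf_right _ (fun v hv => genIn_le S N hv)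
  · exact le_inf (inf_isoComp_le_genIn S N hD) inf_le_right

omit [TameAct.IsHopfMod k A R M] [Comod k A R] [DecidableEq (SimpSub k A)] in
theorem genIn_genIn (S : Set (SimpSub k A)) (N : Submodule R M) :
    genIn k A R M S (genIn k A R M S N) = genIn k A R M S N := by
  apply le_antisymm (genIn_le S _)
  apply Submodule.span_le.mpr
  intro v hv
  obtain ⟨D, hD, hvD⟩ := Set.mem_iUnion₂.mp hv
  apply Submodule.subset_span
  refine Set.mem_iUnion₂.mpr ⟨D, hD, ?_⟩
  have := genIn_inf_eq S N hD
  rw [SetLike.mem_coe, this]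
  exact hvD

/-- a subcomodule without negative part has positive weight -/
theorem theta_pos_of (hint : DirectSum.IsInternal (fun S : SimpSub k A => S.1))
    (hfin : {D | θ D < 0}.Finite) (hsum : HasSum (fun D => (θ D : ℝ) * (h D : ℝ)) 0)
    (hM : IsConstellation k A R M h) (hθ : ∀ D, h D ≠ 0 → θ D ≠ 0)
    (N : Submodule k M) (hN : IsSubcomod (k := k) (A := A) N) (hne : N ≠ ⊥)
    (hneg0 : ∀ D, θ D < 0 → hilbAt M N D = 0) : 0 < theta M θ N := by
  obtain ⟨D₁, hD₁⟩ := exists_inf_isoComp_ne_bot hint N hN hne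
  have hpos1 : 0 < hilbAt M N D₁ := hilbAt_pos hM hD₁
  have hh1 : h D₁ ≠ 0 := by
    have := hilbAt_le hM N D₁
    omega
  have hθ1 : 0 < θ D₁ := by
    rcases lt_trichotomy (θ D₁) 0 with h1 | h1 | h1
    · have := hneg0 D₁ h1
      omega
    · exact absurd h1 (hθ D₁ hh1)
    · exact h1
  rw [theta_eq_wt, ← wt_zero (θ := θ)]
  apply wt_lt_wt hfin hsum.summable (fun D => Nat.zero_le _) (hilbAt_le hM N)
    (fun D hD => (hneg0 D hD).le) (fun D _ => Nat.zero_le _) D₁
  have h1 : (0 : ℝ) < θ D₁ := by exact_mod_cast hθ1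
  have h2 : (0 : ℝ) < (hilbAt M N D₁ : ℝ) := by exact_mod_cast hpos1
  simp only [Nat.cast_zero, mul_zero]
  exact mul_pos h1 h2

/-- the weight of `genIn {θ<0} N` is at most that of `N` -/
theorem theta_genIn_le (hfin : {D | θ D < 0}.Finite)
    (hsum : HasSum (fun D => (θ D : ℝ) * (h D : ℝ)) 0)
    (hM : IsConstellation k A R M h) (N : Submodule R M) :
    theta M θ ((genIn k A R M {D | θ D < 0} N).restrictScalars k) ≤
      theta M θ (N.restrictScalars k) := by
  rw [theta_eq_wt, theta_eq_wt]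
  apply wt_le_wt hfin hsum.summable (hilbAt_le hM _) (hilbAt_le hM _)
  · intro D hD
    exact hilbAt_mono hM (genIn_inf_eq _ N hD).ge
  · intro D _
    exact hilbAt_mono' hM D (fun v hv => genIn_le _ N hv)

omit [TameAct.IsHopfMod k A R M] [Comod k A R] [DecidableEq (SimpSub k A)] in
theorem theta_top (hsum : HasSum (fun D => (θ D : ℝ) * (h D : ℝ)) 0)
    (hM : IsConstellation k A R M h) : theta M θ (⊤ : Submodule k M) = 0 := by
  rw [theta_eq_wt, wt]
  simp only [hilbAt_top hM]
  exact hsum.tsum_eq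

omit [TameAct.IsHopfMod k A R M] [Comod k A R] [DecidableEq (SimpSub k A)] in
theorem theta_bot : theta M θ (⊥ : Submodule k M) = 0 := by
  rw [theta_eq_wt, wt]
  simp only [hilbAt_bot, Nat.cast_zero, mul_zero, tsum_zero]

end Main

end Groth.Agent.Lib.Helper26.Constell
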