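import Groth.Agent.Lib.Helper26.Constell2

/-!
# θ-stability of constellations: generation statements (helper26)
-/

open TensorProduct

universe u v w x

namespace Groth.Agent.Lib.Helper26.Constell

open HopfRep Groth.Agent.Lib.Helper26.Comod W4c3ghconstell Groth.Agent.Lib.Helper26.ConstellSum

section Statements

variable {k : Type u} [Field k] {A : Type v} [CommRing A] [HopfAlgebra k A]
variable {R : Type w} [CommRing R] [Algebra k R] [Comod k A R]
variable {M : Type x} [AddCommGroup M] [Module k M] [Module R M] [IsScalarTower k R M]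
  [Comod k A M] [TameAct.IsHopfMod k A R M]
variable {h : SimpSub k A → ℕ} {θ : SimpSub k A → ℚ}

omit [TameAct.IsHopfMod k A R M] [Comod k A R] in
theorem isoComp_le_genIn_top {S : Set (SimpSub k A)} {D : SimpSub k A} (hD : D ∈ S) :
    isoComp M D.1 ≤ (genIn k A R M S ⊤).restrictScalars k := by
  intro m hm
  exact inf_isoComp_le_genIn S ⊤ hD ⟨trivial, hm⟩

/-- weight of `genIn {θ<0} ⊤` is at most `0` -/
theorem theta_genIn_top_le (hfin : {D | θ D < 0}.Finite)
    (hsum : HasSum (fun D => (θ D : ℝ) * (h D : ℝ)) 0)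
    (hM : IsConstellation k A R M h) :
    theta M θ ((genIn k A R M {D | θ D < 0} ⊤).restrictScalars k) ≤ 0 := by
  classical
  have h1 := theta_genIn_le (θ := θ) hfin hsum hM (⊤ : Submodule R M)
  have h2 : (⊤ : Submodule R M).restrictScalars k = ⊤ := Submodule.restrictScalars_top k R M
  rw [h2, theta_top hsum hM] at h1
  exact h1

/-- S16010 -/
theorem genIn_neg_eq_top_of_isThetaStable (hred : IsLinearlyReductive k A)
    (hfin : {D | θ D < 0}.Finite) (hsum : HasSum (fun D => (θ D : ℝ) * (h D : ℝ)) 0)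
    (hne : ∃ D, θ D ≠ 0 ∧ h D ≠ 0)
    (hM : IsConstellation k A R M h) (hst : IsThetaStable k A R M θ) :
    genIn k A R M {D | θ D < 0} ⊤ = ⊤ := by
  classical
  have hint := isInternal_of_isLinearlyReductive (k := k) (A := A) hred
  set N := genIn k A R M {D | θ D < 0} ⊤ with hNdef
  have hsub : IsSubcomod (k := k) (A := A) (N.restrictScalars k) :=
    isSubcomod_genIn hint _ ⊤ isSubcomod_top'
  have hle := theta_genIn_top_le (θ := θ) hfin hsum hM
  by_contra hNtop
  by_cases hNbot : N = ⊥
  · -- all negative components vanish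
    have hzero : ∀ D, θ D < 0 → h D = 0 := by
      intro D hD
      have h1 : isoComp M D.1 ≤ (N.restrictScalars k) := isoComp_le_genIn_top hD
      rw [hNbot, Submodule.restrictScalars_bot, le_bot_iff] at h1
      rw [← (hM.2.2 D).2, h1]
      exact finrank_bot k M
    have hnonneg : ∀ D, (0 : ℝ) ≤ (θ D : ℝ) * (h D : ℝ) := by
      intro D
      by_cases hD : θ D < 0
      · rw [hzero D hD]; simp
      · have : (0 : ℝ) ≤ θ D := by exact_mod_cast not_lt.mp hD
        exact mul_nonneg this (Nat.cast_nonneg _)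
    have h0 := (hasSum_zero_iff_of_nonneg hnonneg).mp hsum
    obtain ⟨D, hD1, hD2⟩ := hne
    have := congrFun h0 D
    simp only [Pi.zero_apply, mul_eq_zero, Rat.cast_eq_zero, Nat.cast_eq_zero] at this
    rcases this with h1 | h1
    · exact hD1 h1
    · exact hD2 h1
  · have := hst.2 N hsub hNbot hNtop
    linarith

/-- S16018 -/
theorem genIn_neg_eq_top_of_isThetaSemistable (hred : IsLinearlyReductive k A)
    (hfin : {D | θ D < 0}.Finite) (hsum : HasSum (fun D => (θ D : ℝ) * (h D : ℝ)) 0)
    (hM : IsConstellation k A R M h) (hθ : ∀ D, θ D ≠ 0)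
    (hss : IsThetaSemistable k A R M θ) :
    genIn k A R M {D | θ D < 0} ⊤ = ⊤ := by
  classical
  have hint := isInternal_of_isLinearlyReductive (k := k) (A := A) hred
  set N := genIn k A R M {D | θ D < 0} ⊤ with hNdef
  have hsub : IsSubcomod (k := k) (A := A) (N.restrictScalars k) :=
    isSubcomod_genIn hint _ ⊤ isSubcomod_top'
  have hge := hss.2 N hsub
  have htop : theta M θ (⊤ : Submodule k M) = 0 := theta_top hsum hM
  -- termwise equality
  have hterm : ∀ D, (θ D : ℝ) * (hilbAt M (N.restrictScalars k) D : ℝ) =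
      (θ D : ℝ) * (hilbAt M (⊤ : Submodule k M) D : ℝ) := by
    apply term_eq_of_wt_le hfin hsum.summable (hilbAt_le hM _) (hilbAt_le hM _)
    · intro D hD
      rw [hilbAt_top hM, hilbAt_eq_of_le hM (isoComp_le_genIn_top hD)]
    · intro D _
      exact hilbAt_mono' hM D le_top
    · rw [← theta_eq_wt, ← theta_eq_wt, htop]
      exact hge
  have hall : ∀ D : SimpSub k A, isoComp M D.1 ≤ N.restrictScalars k := by
    intro D
    apply le_of_hilbAt_eq hM
    have h1 := hterm D
    have h2 : (θ D : ℝ) ≠ 0 := by exact_mod_cast hθ D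
    have h3 := mul_left_cancel₀ h2 h1
    rw [hilbAt_top hM] at h3
    exact_mod_cast h3
  have h1 : (⊤ : Submodule k M) ≤ N.restrictScalars k := by
    rw [← hM.2.1]
    exact iSup_le hall
  rw [eq_top_iff]
  intro m _
  exact h1 (Submodule.mem_top : m ∈ (⊤ : Submodule k M))

/-- S16011 -/
theorem isThetaSemistable_of_forall_genIn_neg (hred : IsLinearlyReductive k A)
    (hfin : {D | θ D < 0}.Finite) (hsum : HasSum (fun D => (θ D : ℝ) * (h D : ℝ)) 0)
    (hM : IsConstellation k A R M h)
    (h0 : theta M θ ⊤ = 0)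
    (hss : ∀ N : Submodule R M, IsSubcomod (k := k) (A := A) (N.restrictScalars k) → N ≠ ⊥ → N ≠ ⊤ →
      genIn k A R M {D | θ D < 0} N = N → 0 ≤ theta M θ (N.restrictScalars k)) :
    IsThetaSemistable k A R M θ := by
  classical
  have hint := isInternal_of_isLinearlyReductive (k := k) (A := A) hred
  refine ⟨h0, fun N hN => ?_⟩
  set N' := genIn k A R M {D | θ D < 0} N with hN'def
  have hsub : IsSubcomod (k := k) (A := A) (N'.restrictScalars k) :=
    isSubcomod_genIn hint _ N hN
  have hle := theta_genIn_le (θ := θ) hfin hsum hM N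
  by_cases hbot : N' = ⊥
  · rw [← hN'def, hbot, Submodule.restrictScalars_bot, theta_bot] at hle
    exact hle
  by_cases htop : N' = ⊤
  · have hNtop : N = ⊤ := top_le_iff.mp (htop ▸ genIn_le _ N)
    rw [hNtop, Submodule.restrictScalars_top, h0]
  · have := hss N' hsub hbot htop (genIn_genIn _ N)
    linarith

/-- S16012 -/
theorem isThetaStable_of_forall_genIn_neg (hred : IsLinearlyReductive k A)
    (hfin : {D | θ D < 0}.Finite) (hsum : HasSum (fun D => (θ D : ℝ) * (h D : ℝ)) 0)
    (hM : IsConstellation k A R M h) (hθ : ∀ D, h D ≠ 0 → θ D ≠ 0)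
    (h0 : theta M θ ⊤ = 0)
    (hs : ∀ N : Submodule R M, IsSubcomod (k := k) (A := A) (N.restrictScalars k) → N ≠ ⊥ → N ≠ ⊤ →
      genIn k A R M {D | θ D < 0} N = N → 0 < theta M θ (N.restrictScalars k)) :
    IsThetaStable k A R M θ := by
  classical
  have hint := isInternal_of_isLinearlyReductive (k := k) (A := A) hred
  refine ⟨h0, fun N hN hNbot hNtop => ?_⟩
  set N' := genIn k A R M {D | θ D < 0} N with hN'def
  have hsub : IsSubcomod (k := k) (A := A) (N'.restrictScalars k) :=
    isSubcomod_genIn hint _ N hN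
  have hle := theta_genIn_le (θ := θ) hfin hsum hM N
  by_cases htop : N' = ⊤
  · exact absurd (top_le_iff.mp (htop ▸ genIn_le _ N)) hNtop
  by_cases hbot : N' = ⊥
  · apply theta_pos_of hint hfin hsum hM hθ _ hN
    · intro hb
      apply hNbot
      rw [eq_bot_iff]
      intro n hn
      have : n ∈ N.restrictScalars k := hn
      rw [hb] at this
      exact this
    · intro D hD
      apply hilbAt_eq_zero_of_inf_eq_bot
      rw [← genIn_inf_eq {D | θ D < 0} N hD, ← hN'def, hbot, Submodule.restrictScalars_bot,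
        bot_inf_eq]
  · have := hs N' hsub hbot htop (genIn_genIn _ N)
    linarith

/-- S16013 -/
theorem isThetaStable_of_genIn_unit (hred : IsLinearlyReductive k A)
    (hfin : {D | θ D < 0}.Finite) (hsum : HasSum (fun D => (θ D : ℝ) * (h D : ℝ)) 0)
    (hM : IsConstellation k A R M h)
    (D₀ : SimpSub k A) (h1 : h D₀ = 1) (hneg : ∀ D, θ D < 0 ↔ D = D₀)
    (hθ : ∀ D, h D ≠ 0 → θ D ≠ 0)
    (hgen : genIn k A R M {D₀} ⊤ = ⊤) :
    IsThetaStable k A R M θ := by
  classical
  have hint := isInternal_of_isLinearlyReductive (k := k) (A := A) hred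
  refine ⟨theta_top hsum hM, fun N hN hNbot hNtop => ?_⟩
  apply theta_pos_of hint hfin hsum hM hθ _ hN
  · intro hb
    apply hNbot
    rw [eq_bot_iff]
    intro n hn
    have : n ∈ N.restrictScalars k := hn
    rw [hb] at this
    exact this
  · intro D hD
    rw [(hneg D).mp hD]
    have hle := hilbAt_le hM (N.restrictScalars k) D₀
    rw [h1] at hle
    by_contra hne0
    have heq : hilbAt M (N.restrictScalars k) D₀ = h D₀ := by omega
    have hiso : isoComp M D₀.1 ≤ N.restrictScalars k := le_of_hilbAt_eq hM heq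
    apply hNtop
    rw [eq_top_iff, ← hgen]
    apply Submodule.span_le.mpr
    intro v hv
    obtain ⟨D, hDmem, hvD⟩ := Set.mem_iUnion₂.mp hv
    rw [Set.mem_singleton_iff] at hDmem
    subst hDmem
    exact hiso hvD.2

end Statements

end Groth.Agent.Lib.Helper26.Constell
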