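import Mathlib
import Groth.Agent.Lib.helper11.GenFreeImage
set_option maxHeartbeats 400000
set_option autoImplicit false
universe u

/-! S9651: the image of a constructible set under a finite type map contains an open dense subset
of the closure of each of its points (uses helper11's generic freeness library). -/
namespace Groth.Agent.Lib.Helper26.ConstrImage
open PrimeSpectrum

/-- Lemma A: the image of a finite type map contains an open neighbourhood of `ξ` in `cl{ξ}`. -/
theorem exists_basicOpen {R S : Type u} [CommRing R] [CommRing S] [Algebra R S]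
    [Algebra.FiniteType R S] (ξ : PrimeSpectrum R)
    (hξ : ξ ∈ Set.range (PrimeSpectrum.comap (algebraMap R S))) :
    ∃ g : R, g ∉ ξ.asIdeal ∧ ∀ q : PrimeSpectrum R, ξ.asIdeal ≤ q.asIdeal → g ∉ q.asIdeal →
      q ∈ Set.range (PrimeSpectrum.comap (algebraMap R S)) := by
  obtain ⟨y, hy⟩ := hξ
  have hyI : y.asIdeal.comap (algebraMap R S) = ξ.asIdeal := congrArg PrimeSpectrum.asIdeal hy
  set I := ξ.asIdeal with hI
  haveI : I.IsPrime := ξ.2
  let J : Ideal S := I.map (algebraMap R S)
  have hJy : J ≤ y.asIdeal := by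
    rw [Ideal.map_le_iff_le_comap, hyI]
  haveI : Algebra.FiniteType R (S ⧸ J) :=
    Algebra.FiniteType.of_surjective (Ideal.Quotient.mkₐ R J) Ideal.Quotient.mk_surjective
  haveI : Algebra.FiniteType (R ⧸ I) (S ⧸ J) :=
    Algebra.FiniteType.of_restrictScalars_finiteType R (R ⧸ I) (S ⧸ J)
  -- the generic point of R/I
  let p₀ : PrimeSpectrum (R ⧸ I) := ⟨⊥, Ideal.isPrime_bot⟩
  have hfib : p₀ ∈ Set.range (PrimeSpectrum.comap (algebraMap (R ⧸ I) (S ⧸ J))) := by
    have hprime : (y.asIdeal.map (Ideal.Quotient.mk J)).IsPrime :=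
      Ideal.map_isPrime_of_surjective Ideal.Quotient.mk_surjective (by rw [Ideal.mk_ker]; exact hJy)
    refine ⟨⟨_, hprime⟩, ?_⟩
    apply PrimeSpectrum.ext
    ext r
    obtain ⟨r, rfl⟩ := Ideal.Quotient.mk_surjective r
    simp only [PrimeSpectrum.comap_asIdeal, Ideal.mem_comap, p₀, Ideal.mem_bot]
    rw [Ideal.Quotient.eq_zero_iff_mem]
    have : algebraMap (R ⧸ I) (S ⧸ J) (Ideal.Quotient.mk I r) =
        Ideal.Quotient.mk J (algebraMap R S r) := rfl
    rw [this, Ideal.mem_map_iff_of_surjective _ Ideal.Quotient.mk_surjective]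
    constructor
    · rintro ⟨s, hs, hss⟩
      have h1 : s - algebraMap R S r ∈ J := by
        rw [← Ideal.Quotient.eq]; exact hss
      have h2 : algebraMap R S r ∈ y.asIdeal := by
        have := y.asIdeal.sub_mem hs (hJy h1)
        simpa using this
      rw [← hyI]
      exact h2
    · intro hr
      refine ⟨algebraMap R S r, ?_, rfl⟩
      rw [← hyI] at hr
      exact hr
  obtain ⟨g', hg', H⟩ := Groth.Agent.Lib.helper11.GenFreeImage.exists_basicOpen_subset_range p₀
    (fun q => bot_le) hfib
  obtain ⟨g, rfl⟩ := Ideal.Quotient.mk_surjective g'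
  refine ⟨g, fun hg => hg' (by
    change Ideal.Quotient.mk I g ∈ (⊥ : Ideal (R ⧸ I))
    rw [Ideal.mem_bot, Ideal.Quotient.eq_zero_iff_mem]; exact hg), ?_⟩
  intro q hIq hgq
  have hqprime : (q.asIdeal.map (Ideal.Quotient.mk I)).IsPrime :=
    Ideal.map_isPrime_of_surjective Ideal.Quotient.mk_surjective (by rw [Ideal.mk_ker]; exact hIq)
  have hmem : ∀ r : R, Ideal.Quotient.mk I r ∈ q.asIdeal.map (Ideal.Quotient.mk I) ↔
      r ∈ q.asIdeal := by
    intro r
    rw [Ideal.mem_map_iff_of_surjective _ Ideal.Quotient.mk_surjective]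
    constructor
    · rintro ⟨r', hr', e⟩
      have h1 : r' - r ∈ I := by rw [← Ideal.Quotient.eq]; exact e
      have := q.asIdeal.sub_mem hr' (hIq h1)
      simpa using this
    · intro hr; exact ⟨r, hr, rfl⟩
  obtain ⟨P, hP⟩ := H ⟨_, hqprime⟩ (by
    change Ideal.Quotient.mk I g ∉ q.asIdeal.map (Ideal.Quotient.mk I)
    rw [hmem]; exact hgq)
  refine ⟨PrimeSpectrum.comap (Ideal.Quotient.mk J) P, ?_⟩
  apply PrimeSpectrum.ext
  ext r
  have h1 := congrArg PrimeSpectrum.asIdeal hP
  simp only [PrimeSpectrum.comap_asIdeal] at h1 ⊢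
  rw [Ideal.mem_comap, Ideal.mem_comap, ← hmem r, ← h1, Ideal.mem_comap]
  rfl

theorem range_eq_toSet {S : Type u} [CommRing S] (C : BasicConstructibleSetData S) :
    Set.range (comap (algebraMap S
      (Localization.Away (Ideal.Quotient.mk (Ideal.span (Set.range C.g)) C.f)))) = C.toSet := by
  let I := Ideal.span (Set.range C.g)
  let f := Ideal.Quotient.mk I C.f
  trans comap (Ideal.Quotient.mk I) '' (Set.range (comap (algebraMap _ (Localization.Away f))))
  · rw [← Set.range_comp]; rfl
  · rw [localization_away_comap_range _ f, ← comap_basicOpen, TopologicalSpace.Opens.coe_comap,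
      ContinuousMap.coe_mk, Set.image_preimage_eq_inter_range,
      range_comap_of_surjective _ _ Ideal.Quotient.mk_surjective, BasicConstructibleSetData.toSet,
      Set.sdiff_eq_compl_inter, basicOpen_eq_zeroLocus_compl, Ideal.mk_ker, zeroLocus_span]

theorem main {R S : Type u} [CommRing R] [CommRing S] [Algebra R S] [Algebra.FiniteType R S]
    (E : Set (PrimeSpectrum S)) (hE : Topology.IsConstructible E) (ξ : PrimeSpectrum R)
    (hξ : ξ ∈ PrimeSpectrum.comap (algebraMap R S) '' E) :
    ∃ U : Set (PrimeSpectrum R), IsOpen U ∧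
      closure ({ξ} : Set (PrimeSpectrum R)) ⊆ closure (U ∩ closure {ξ}) ∧
      U ∩ closure {ξ} ⊆ PrimeSpectrum.comap (algebraMap R S) '' E := by
  obtain ⟨y, hyE, rfl⟩ := hξ
  obtain ⟨T, rfl⟩ := exists_constructibleSetData_iff.mpr hE
  simp only [ConstructibleSetData.toSet, Set.mem_iUnion, exists_prop] at hyE
  obtain ⟨C, hCT, hyC⟩ := hyE
  let I := Ideal.span (Set.range C.g)
  let f := Ideal.Quotient.mk I C.f
  haveI : Algebra.FiniteType R (S ⧸ I) :=
    Algebra.FiniteType.of_surjective (Ideal.Quotient.mkₐ R I) Ideal.Quotient.mk_surjective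
  haveI : Algebra.FiniteType (S ⧸ I) (Localization.Away f) := inferInstance
  haveI : Algebra.FiniteType R (Localization.Away f) := Algebra.FiniteType.trans (S := S ⧸ I) ‹_› ‹_›
  haveI : IsScalarTower R S (Localization.Away f) := inferInstance
  have hcomp : ∀ P : PrimeSpectrum (Localization.Away f),
      comap (algebraMap R (Localization.Away f)) P =
        comap (algebraMap R S) (comap (algebraMap S (Localization.Away f)) P) := by
    intro P
    rw [IsScalarTower.algebraMap_eq R S (Localization.Away f)]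
    rfl
  rw [← range_eq_toSet C] at hyC
  obtain ⟨y', rfl⟩ := hyC
  obtain ⟨g, hgξ, hg⟩ := exists_basicOpen (S := Localization.Away f)
    (comap (algebraMap R S) (comap (algebraMap S (Localization.Away f)) y')) ⟨y', hcomp y'⟩
  refine ⟨(basicOpen g : Set (PrimeSpectrum R)), (basicOpen g).isOpen, ?_, ?_⟩
  · exact closure_mono (Set.singleton_subset_iff.mpr ⟨hgξ, subset_closure rfl⟩)
  · rintro q ⟨hgq, hq⟩
    rw [← le_iff_mem_closure] at hq
    obtain ⟨P, hP⟩ := hg q hq hgq
    refine ⟨comap (algebraMap S (Localization.Away f)) P, ?_, ?_⟩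
    · simp only [ConstructibleSetData.toSet, Set.mem_iUnion, exists_prop]
      refine ⟨C, hCT, ?_⟩
      rw [← range_eq_toSet C]
      exact ⟨P, rfl⟩
    · rw [← hcomp P]; exact hP

end Groth.Agent.Lib.Helper26.ConstrImage
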