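import Mathlib
import Groth.Agent.Lib.Helper26.ConstrImage
set_option maxHeartbeats 400000
set_option autoImplicit false
universe u

/-! S9652, S9653: closed points of images of constructible sets under finite type maps of
Jacobson rings. -/
namespace Groth.Agent.Lib.Helper26.ConstrJac
open PrimeSpectrum Groth.Agent.Lib.Helper26.ConstrImage

/-- A': in `main` of `ConstrImage`, with a basic open. -/
theorem exists_g {R S : Type u} [CommRing R] [CommRing S] [Algebra R S] [Algebra.FiniteType R S]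
    (E : Set (PrimeSpectrum S)) (hE : Topology.IsConstructible E) (ξ : PrimeSpectrum R)
    (hξ : ξ ∈ PrimeSpectrum.comap (algebraMap R S) '' E) :
    ∃ g : R, g ∉ ξ.asIdeal ∧ ∀ q : PrimeSpectrum R, ξ.asIdeal ≤ q.asIdeal → g ∉ q.asIdeal →
      q ∈ PrimeSpectrum.comap (algebraMap R S) '' E := by
  obtain ⟨U, hU, hdense, hsub⟩ := main E hE ξ hξ
  have hne : (U ∩ closure {ξ}).Nonempty := by
    by_contra hcon
    rw [Set.not_nonempty_iff_eq_empty] at hcon
    rw [hcon, closure_empty] at hdense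
    exact hdense (subset_closure rfl)
  obtain ⟨q, hqU, hqξ⟩ := hne
  have hξU : ξ ∈ U := by
    rw [← specializes_iff_mem_closure] at hqξ
    exact hqξ.mem_open hU hqU
  obtain ⟨_, ⟨g, rfl⟩, hgξ, hgU⟩ :=
    isTopologicalBasis_basic_opens.exists_subset_of_mem_open hξU hU
  refine ⟨g, hgξ, fun q hq hgq => hsub ⟨hgU hgq, ?_⟩⟩
  rw [← le_iff_mem_closure]
  exact hq

/-- J1 -/
theorem exists_maximal_notMem {A : Type u} [CommRing A] [IsJacobsonRing A] (p : Ideal A)
    [p.IsPrime] (g : A) (hg : g ∉ p) : ∃ m : Ideal A, m.IsMaximal ∧ p ≤ m ∧ g ∉ m := by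
  have h := (isJacobsonRing_iff_prime_eq.mp ‹IsJacobsonRing A›) p inferInstance
  by_contra hcon
  push Not at hcon
  apply hg
  rw [← h, Ideal.jacobson, Ideal.mem_sInf]
  rintro m ⟨hpm, hm⟩
  exact hcon m hm hpm

/-- J2 -/
theorem isMaximal_of_closed_in {A : Type u} [CommRing A] [IsJacobsonRing A]
    (E : Set (PrimeSpectrum A)) (hE : Topology.IsConstructible E) (y : PrimeSpectrum A)
    (hy : y ∈ E) (hcl : closure {y} ∩ E = {y}) : y.asIdeal.IsMaximal := by
  obtain ⟨T, rfl⟩ := exists_constructibleSetData_iff.mpr hE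
  have hy' := hy
  simp only [ConstructibleSetData.toSet, Set.mem_iUnion, exists_prop] at hy'
  obtain ⟨C, hCT, hyC⟩ := hy'
  have hyC' := hyC
  rw [BasicConstructibleSetData.toSet, Set.mem_sdiff, mem_zeroLocus, mem_zeroLocus,
    Set.singleton_subset_iff] at hyC'
  obtain ⟨m, hm, hym, hfm⟩ := exists_maximal_notMem y.asIdeal C.f hyC'.2
  have hmE : (⟨m, hm.isPrime⟩ : PrimeSpectrum A) ∈ ConstructibleSetData.toSet T := by
    simp only [ConstructibleSetData.toSet, Set.mem_iUnion, exists_prop]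
    refine ⟨C, hCT, ?_⟩
    rw [BasicConstructibleSetData.toSet, Set.mem_sdiff, mem_zeroLocus, mem_zeroLocus,
      Set.singleton_subset_iff]
    exact ⟨hyC'.1.trans hym, hfm⟩
  have hmcl : (⟨m, hm.isPrime⟩ : PrimeSpectrum A) ∈ closure {y} := by
    rw [← le_iff_mem_closure]; exact hym
  have : (⟨m, hm.isPrime⟩ : PrimeSpectrum A) ∈ ({y} : Set _) := hcl ▸ ⟨hmcl, hmE⟩
  rw [Set.mem_singleton_iff] at this
  rw [← this]
  exact hm

/-- b -/
theorem comap_isMaximal {R S : Type u} [CommRing R] [CommRing S] [Algebra R S]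
    [IsJacobsonRing R] [Algebra.FiniteType R S] (m : Ideal S) [m.IsMaximal] :
    (m.comap (algebraMap R S)).IsMaximal := by
  letI : Field (S ⧸ m) := Ideal.Quotient.field m
  haveI : Algebra.FiniteType R (S ⧸ m) :=
    Algebra.FiniteType.of_surjective (Ideal.Quotient.mkₐ R m) Ideal.Quotient.mk_surjective
  haveI := finite_of_finite_type_of_isJacobsonRing R (S ⧸ m)
  haveI : Algebra.IsIntegral R (S ⧸ m) := inferInstance
  have h1 : ((⊥ : Ideal (S ⧸ m)).comap (algebraMap R (S ⧸ m))).IsMaximal :=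
    Ideal.isMaximal_comap_of_isIntegral_of_isMaximal _
  have h2 : (⊥ : Ideal (S ⧸ m)).comap (algebraMap R (S ⧸ m)) = m.comap (algebraMap R S) := by
    rw [IsScalarTower.algebraMap_eq R S (S ⧸ m), ← Ideal.comap_comap]
    congr 1
    exact Ideal.mk_ker
  rw [← h2]
  exact h1

section
variable {R S : Type u} [CommRing R] [CommRing S] [Algebra R S]

/-- F: a closed point of the image has a closed point of `E` above it. -/
theorem exists_closed_above [IsJacobsonRing S]
    (E : Set (PrimeSpectrum S)) (hE : Topology.IsConstructible E) (y : PrimeSpectrum S)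
    (hy : y ∈ E) (hx : (comap (algebraMap R S) y).asIdeal.IsMaximal) :
    ∃ y' ∈ E, y'.asIdeal.IsMaximal ∧ comap (algebraMap R S) y' = comap (algebraMap R S) y := by
  obtain ⟨T, rfl⟩ := exists_constructibleSetData_iff.mpr hE
  have hy' := hy
  simp only [ConstructibleSetData.toSet, Set.mem_iUnion, exists_prop] at hy'
  obtain ⟨C, hCT, hyC⟩ := hy'
  rw [BasicConstructibleSetData.toSet, Set.mem_sdiff, mem_zeroLocus, mem_zeroLocus,
    Set.singleton_subset_iff] at hyC
  obtain ⟨m, hm, hym, hfm⟩ := exists_maximal_notMem y.asIdeal C.f hyC.2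
  refine ⟨⟨m, hm.isPrime⟩, ?_, hm, ?_⟩
  · simp only [ConstructibleSetData.toSet, Set.mem_iUnion, exists_prop]
    refine ⟨C, hCT, ?_⟩
    rw [BasicConstructibleSetData.toSet, Set.mem_sdiff, mem_zeroLocus, mem_zeroLocus,
      Set.singleton_subset_iff]
    exact ⟨hyC.1.trans hym, hfm⟩
  · apply PrimeSpectrum.ext
    symm
    apply hx.eq_of_le
    · exact (Ideal.comap_isPrime (algebraMap R S) m).ne_top
    · exact Ideal.comap_mono hym

theorem closed_singleton_inter {X : Type*} [TopologicalSpace X] (x : X) (T : Set X)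
    (hx : IsClosed ({x} : Set X)) (hxT : x ∈ T) : closure {x} ∩ T = {x} := by
  rw [hx.closure_eq]
  exact Set.inter_eq_left.mpr (Set.singleton_subset_iff.mpr hxT)

theorem part2 [IsJacobsonRing R] [IsJacobsonRing S] [Algebra.FiniteType R S]
    (E : Set (PrimeSpectrum S)) (hE : Topology.IsConstructible E) :
    comap (algebraMap R S) '' {y | y ∈ E ∧ closure {y} ∩ E = {y}} =
      {x | IsClosed ({x} : Set (PrimeSpectrum R))} ∩ comap (algebraMap R S) '' E := by
  apply Set.eq_of_subset_of_subset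
  · rintro _ ⟨y, ⟨hyE, hycl⟩, rfl⟩
    haveI := isMaximal_of_closed_in E hE y hyE hycl
    refine ⟨?_, ⟨y, hyE, rfl⟩⟩
    rw [Set.mem_setOf_eq, isClosed_singleton_iff_isMaximal]
    exact comap_isMaximal y.asIdeal
  · rintro _ ⟨hx, ⟨y, hyE, rfl⟩⟩
    rw [Set.mem_setOf_eq, isClosed_singleton_iff_isMaximal] at hx
    obtain ⟨y', hy'E, hy'max, hy'⟩ := exists_closed_above E hE y hyE hx
    refine ⟨y', ⟨hy'E, ?_⟩, hy'⟩
    exact closed_singleton_inter y' E ((isClosed_singleton_iff_isMaximal _).mpr hy'max) hy'E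

theorem part1 [IsJacobsonRing R] [IsJacobsonRing S] [Algebra.FiniteType R S]
    (E : Set (PrimeSpectrum S)) (hE : Topology.IsConstructible E) :
    {x | x ∈ comap (algebraMap R S) '' E ∧
        closure {x} ∩ comap (algebraMap R S) '' E = {x}} =
      comap (algebraMap R S) '' {y | y ∈ E ∧ closure {y} ∩ E = {y}} := by
  rw [part2 E hE]
  apply Set.eq_of_subset_of_subset
  · rintro x ⟨hxE, hxcl⟩
    refine ⟨?_, hxE⟩
    obtain ⟨g, hgx, hg⟩ := exists_g E hE x hxE
    obtain ⟨m, hm, hxm, hgm⟩ := exists_maximal_notMem x.asIdeal g hgx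
    have h1 : (⟨m, hm.isPrime⟩ : PrimeSpectrum R) ∈ closure {x} ∩ comap (algebraMap R S) '' E := by
      refine ⟨?_, hg ⟨m, hm.isPrime⟩ hxm hgm⟩
      rw [← le_iff_mem_closure]; exact hxm
    rw [hxcl, Set.mem_singleton_iff] at h1
    rw [Set.mem_setOf_eq, isClosed_singleton_iff_isMaximal, ← h1]
    exact hm
  · rintro x ⟨hx, hxE⟩
    exact ⟨hxE, closed_singleton_inter x _ hx hxE⟩

/-- for one basic piece not hitting `ξ`, an element outside `ξ` lying in all points of the image
of the piece that specialise `ξ`. -/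
theorem exists_elt_piece (C : BasicConstructibleSetData S) (ξ : PrimeSpectrum R)
    (hξ : ξ ∉ comap (algebraMap R S) '' C.toSet) :
    ∃ a : R, a ∉ ξ.asIdeal ∧ ∀ y ∈ C.toSet,
      ξ.asIdeal ≤ (comap (algebraMap R S) y).asIdeal → a ∈ (comap (algebraMap R S) y).asIdeal := by
  let I := Ideal.span (Set.range C.g)
  let f := Ideal.Quotient.mk I C.f
  haveI : IsScalarTower R S (Localization.Away f) := inferInstance
  have hcomp : ∀ P : PrimeSpectrum (Localization.Away f),
      comap (algebraMap R (Localization.Away f)) P =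
        comap (algebraMap R S) (comap (algebraMap S (Localization.Away f)) P) := by
    intro P
    rw [IsScalarTower.algebraMap_eq R S (Localization.Away f)]
    rfl
  have hno : ¬ ∃ q : Ideal (Localization.Away f), q.IsPrime ∧
      q.comap (algebraMap R (Localization.Away f)) = ξ.asIdeal := by
    rintro ⟨q, hq, hqξ⟩
    apply hξ
    refine ⟨comap (algebraMap S (Localization.Away f)) ⟨q, hq⟩, ?_, ?_⟩
    · rw [← range_eq_toSet C]; exact ⟨_, rfl⟩
    · rw [← hcomp]
      exact PrimeSpectrum.ext hqξ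
  rw [← Ideal.comap_map_eq_self_iff_of_isPrime] at hno
  have hlt : ¬ (ξ.asIdeal.map (algebraMap R (Localization.Away f))).comap
      (algebraMap R (Localization.Away f)) ≤ ξ.asIdeal :=
    fun hle => hno (le_antisymm hle Ideal.le_comap_map)
  obtain ⟨a, ha, haξ⟩ := Set.not_subset.mp hlt
  refine ⟨a, haξ, ?_⟩
  intro y hy hξy
  rw [← range_eq_toSet C] at hy
  obtain ⟨P, rfl⟩ := hy
  rw [← hcomp] at hξy ⊢
  rw [comap_asIdeal] at hξy ⊢
  have h1 : ξ.asIdeal.map (algebraMap R (Localization.Away f)) ≤ P.asIdeal :=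
    Ideal.map_le_iff_le_comap.mpr hξy
  exact h1 ha

theorem exists_elt (T : ConstructibleSetData S) (ξ : PrimeSpectrum R)
    (hξ : ξ ∉ comap (algebraMap R S) '' T.toSet) :
    ∃ a : R, a ∉ ξ.asIdeal ∧ ∀ y ∈ T.toSet,
      ξ.asIdeal ≤ (comap (algebraMap R S) y).asIdeal → a ∈ (comap (algebraMap R S) y).asIdeal := by
  classical
  induction T using Finset.induction_on with
  | empty =>
    refine ⟨1, ?_, ?_⟩
    · exact fun h => ξ.2.ne_top ((Ideal.eq_top_iff_one _).mpr h)
    · intro y hy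
      simp [ConstructibleSetData.toSet] at hy
  | insert C T hC ih =>
    have h1 : ξ ∉ comap (algebraMap R S) '' C.toSet := by
      rintro ⟨y, hy, rfl⟩
      apply hξ
      refine ⟨y, ?_, rfl⟩
      simp only [ConstructibleSetData.toSet, Set.mem_iUnion, exists_prop]
      exact ⟨C, Finset.mem_insert_self _ _, hy⟩
    have h2 : ξ ∉ comap (algebraMap R S) '' ConstructibleSetData.toSet T := by
      rintro ⟨y, hy, rfl⟩
      apply hξ
      refine ⟨y, ?_, rfl⟩
      simp only [ConstructibleSetData.toSet, Set.mem_iUnion, exists_prop] at hy ⊢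
      obtain ⟨C', hC', hy'⟩ := hy
      exact ⟨C', Finset.mem_insert_of_mem hC', hy'⟩
    obtain ⟨a1, ha1, H1⟩ := exists_elt_piece C ξ h1
    obtain ⟨a2, ha2, H2⟩ := ih h2
    refine ⟨a1 * a2, ?_, ?_⟩
    · intro h
      rcases ξ.2.mem_or_mem h with h | h
      · exact ha1 h
      · exact ha2 h
    · intro y hy hξy
      simp only [ConstructibleSetData.toSet, Set.mem_iUnion, exists_prop] at hy
      obtain ⟨C', hC', hy'⟩ := hy
      rcases Finset.mem_insert.mp hC' with rfl | hC'
      · exact Ideal.mul_mem_right _ _ (H1 y hy' hξy)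
      · refine Ideal.mul_mem_left _ _ (H2 y ?_ hξy)
        simp only [ConstructibleSetData.toSet, Set.mem_iUnion, exists_prop]
        exact ⟨C', hC', hy'⟩

theorem s9653 [IsJacobsonRing R] [IsJacobsonRing S] [Algebra.FiniteType R S]
    (E : Set (PrimeSpectrum S)) (hE : Topology.IsConstructible E) (ξ : PrimeSpectrum R) :
    ξ ∈ comap (algebraMap R S) '' E ↔
      closure ({ξ} : Set (PrimeSpectrum R)) ⊆ closure (closure {ξ} ∩
        comap (algebraMap R S) '' {y | y ∈ E ∧ closure {y} ∩ E = {y}}) := by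
  constructor
  · intro hξ
    obtain ⟨g, hgξ, hg⟩ := exists_g E hE ξ hξ
    rw [part2 E hE]
    intro x hx
    rw [← le_iff_mem_closure] at hx
    rw [← zeroLocus_vanishingIdeal_eq_closure, mem_zeroLocus]
    intro a ha
    apply hx
    rw [SetLike.mem_coe, mem_vanishingIdeal] at ha
    have hga : g * a ∈ ξ.asIdeal := by
      have h := (isJacobsonRing_iff_prime_eq.mp ‹IsJacobsonRing R›) ξ.asIdeal ξ.2
      rw [← h, Ideal.jacobson, Ideal.mem_sInf]
      rintro m ⟨hξm, hm⟩
      by_cases hgm : g ∈ m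
      · exact Ideal.mul_mem_right _ _ hgm
      · refine Ideal.mul_mem_left _ _ (ha ⟨m, hm.isPrime⟩ ⟨?_, ?_, ?_⟩)
        · rw [← le_iff_mem_closure]; exact hξm
        · rw [Set.mem_setOf_eq, isClosed_singleton_iff_isMaximal]; exact hm
        · exact hg ⟨m, hm.isPrime⟩ hξm hgm
    exact (ξ.2.mem_or_mem hga).resolve_left hgξ
  · intro hdense
    by_contra hξ
    obtain ⟨T, rfl⟩ := exists_constructibleSetData_iff.mpr hE
    obtain ⟨a, haξ, H⟩ := exists_elt T ξ hξ
    apply haξ
    have h1 : ξ ∈ closure (closure {ξ} ∩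
        comap (algebraMap R S) '' {y | y ∈ T.toSet ∧ closure {y} ∩ T.toSet = {y}}) :=
      hdense (subset_closure rfl)
    rw [← zeroLocus_vanishingIdeal_eq_closure, mem_zeroLocus] at h1
    apply h1
    rw [SetLike.mem_coe, mem_vanishingIdeal]
    rintro w ⟨hw1, ⟨y, ⟨hyT, -⟩, rfl⟩⟩
    rw [← le_iff_mem_closure] at hw1
    exact H y hyT hw1

end
end Groth.Agent.Lib.Helper26.ConstrJac
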