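import Mathlib
set_option maxHeartbeats 400000
open CategoryTheory PreGaloisCategory
open scoped FintypeCatDiscrete

namespace Groth.Agent.Lib.Helper26.ContAut
universe u
variable (G : Type u) [Group G] [TopologicalSpace G] [IsTopologicalGroup G]

abbrev F : ContAction FintypeCat.{u} G ⥤ FintypeCat.{u} :=
  forget₂ (ContAction FintypeCat.{u} G) FintypeCat.{u}

example (X : ContAction FintypeCat.{u} G) : (F G).obj X = X.obj.V := rfl

instance instFib (X : ContAction FintypeCat.{u} G) : MulAction G ((F G).obj X) :=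
  inferInstanceAs (MulAction G X.obj.V)

lemma smul_fib (X : ContAction FintypeCat.{u} G) (g : G) (x : X.obj.V) :
    (g • (x : (F G).obj X)) = (X.obj.ρ g).hom x := rfl

instance : IsNaturalSMul (F G) G where
  naturality g {X Y} f x := by
    exact (congrFun (congrArg (fun k => (ConcreteCategory.hom k : X.obj.V → Y.obj.V)) (f.hom.comm g)) x)

instance instCont (X : ContAction FintypeCat.{u} G) : ContinuousSMul G X.obj.V := X.property

lemma isOpen_stab (X : ContAction FintypeCat.{u} G) (x : X.obj.V) :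
    IsOpen (MulAction.stabilizer G x : Set G) := stabilizer_isOpen G x

/-- the set of elements acting on `X` as a given permutation is open -/
lemma isOpen_setOf_smul_eq (X : ContAction FintypeCat.{u} G) (f : X.obj.V → X.obj.V) :
    IsOpen {g : G | ∀ x : X.obj.V, g • x = f x} := by
  have : {g : G | ∀ x : X.obj.V, g • x = f x} = ⋂ x : X.obj.V, {g : G | g • x = f x} := by
    ext g; simp
  rw [this]
  haveI : Finite X.obj.V := inferInstance
  refine isOpen_iInter_of_finite (fun x => ?_)
  have hc : Continuous (fun g : G => g • x) := continuous_id.smul continuous_const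
  exact (isOpen_discrete {f x}).preimage hc

noncomputable def ι : G →* Aut (F G) := toAut (F G) G

lemma ι_app (g : G) (X : ContAction FintypeCat.{u} G) (x : X.obj.V) :
    (ι G g).hom.app X x = (X.obj.ρ g).hom x := rfl

lemma ι_app' (g : G) (X : ContAction FintypeCat.{u} G) (x : X.obj.V) :
    (ι G g).hom.app X x = g • x := rfl

lemma continuous_ι : Continuous (ι G) := by
  refine continuous_induced_rng.mpr (continuous_pi fun X => ?_)
  refine continuous_discrete_rng.mpr (fun b => ?_)
  have : ((fun g : G => autEmbedding (F G) (ι G g) X) ⁻¹' {b}) =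
      {g : G | ∀ x : X.obj.V, g • x = b.hom x} := by
    ext g
    simp only [Set.mem_preimage, Set.mem_singleton_iff, Set.mem_setOf_eq]
    constructor
    · intro h x
      rw [← h]; rfl
    · intro h
      apply Iso.ext
      ext x
      exact h x
  rw [Function.comp_def] at *
  rw [this]
  exact isOpen_setOf_smul_eq G X _

section Y
variable {G}
variable {H : Type u} [Group H] [Fintype H] (ρ : G →* H)

/-- `H` as a finite `G`-set, with `G` acting by left multiplication through `ρ`. -/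
def YA : Action FintypeCat.{u} G :=
  letI : MulAction G H := MulAction.compHom H ρ
  Action.FintypeCat.ofMulAction G (FintypeCat.of H)

/-- elements of `H` as elements of `YA ρ`. -/
def toY (h : H) : (YA ρ).V := h
/-- elements of `YA ρ` as elements of `H`. -/
def ofY (a : (YA ρ).V) : H := a

@[simp] lemma toY_ofY (a : (YA ρ).V) : toY ρ (ofY ρ a) = a := rfl
@[simp] lemma ofY_toY (h : H) : ofY ρ (toY ρ h) = h := rfl

lemma YA_smul (g : G) (a : (YA ρ).V) : g • a = toY ρ (ρ g * ofY ρ a) := rfl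

lemma YA_isContinuous (hρ : IsOpen (ρ.ker : Set G)) : Action.IsContinuous (YA ρ) := by
  haveI : DiscreteTopology ((forget₂ (Action FintypeCat G) TopCat).obj (YA ρ)) := ⟨rfl⟩
  refine continuousSMul_iff_stabilizer_isOpen.mpr (fun h => ?_)
  have : (MulAction.stabilizer G h : Set G) = (ρ.ker : Set G) := by
    ext g
    change (ρ g * (ofY ρ h) = ofY ρ h) ↔ ρ g = 1
    exact mul_eq_right
  rw [this]
  exact hρ

/-- `H` as a finite continuous `G`-set. -/
def Y (hρ : IsOpen (ρ.ker : Set G)) : ContAction FintypeCat.{u} G := ⟨YA ρ, YA_isContinuous ρ hρ⟩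

end Y

section Y2
variable {G}
variable {H : Type u} [Group H] [Fintype H] (ρ : G →* H) (hρ : IsOpen (ρ.ker : Set G))

/-- right multiplication as an endomorphism of `Y ρ` -/
def rmul (k : H) : Y ρ hρ ⟶ Y ρ hρ :=
  ObjectProperty.homMk ⟨FintypeCat.homMk (fun a => toY ρ (ofY ρ a * k)), fun g => by
    ext a
    change toY ρ (ofY ρ (toY ρ (ρ g * ofY ρ a)) * k) = toY ρ (ρ g * ofY ρ (toY ρ (ofY ρ a * k)))
    simp [mul_assoc]⟩

lemma F_map_rmul (k : H) (a : (YA ρ).V) : (F G).map (rmul ρ hρ k) a = toY ρ (ofY ρ a * k) := rfl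

/-- the value at `1` of an automorphism of the fibre functor on `Y ρ` -/
def val (σ : Aut (F G)) : H := ofY ρ (σ.hom.app (Y ρ hρ) (toY ρ 1))

lemma app_Y (σ : Aut (F G)) (a : (YA ρ).V) :
    σ.hom.app (Y ρ hρ) a = toY ρ (val ρ hρ σ * ofY ρ a) := by
  have h := FunctorToFintypeCat.naturality (F G) (F G) σ.hom (rmul ρ hρ (ofY ρ a)) (toY ρ 1)
  have e1 : (F G).map (rmul ρ hρ (ofY ρ a)) (toY ρ 1) = a := by
    change toY ρ (ofY ρ (toY ρ 1) * ofY ρ a) = a
    simp
  have e2 : (F G).map (rmul ρ hρ (ofY ρ a)) (σ.hom.app (Y ρ hρ) (toY ρ 1)) =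
      toY ρ (val ρ hρ σ * ofY ρ a) := rfl
  rw [e1] at h
  exact h.trans e2

end Y2

section Y3
variable {G}
variable {H : Type u} [Group H] [Fintype H] (ρ : G →* H) (hρ : IsOpen (ρ.ker : Set G))
variable (X : ContAction FintypeCat.{u} G) (lam : H →* Equiv.Perm X.obj.V)
  (hlam : ∀ (g : G) (x : X.obj.V), lam (ρ g) x = g • x)

/-- evaluation at `x` as a morphism `Y ρ ⟶ X` -/
def ev (x : X.obj.V) : Y ρ hρ ⟶ X :=
  ObjectProperty.homMk ⟨FintypeCat.homMk (fun a => lam (ofY ρ a) x), fun g => by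
    ext a
    change lam (ofY ρ (toY ρ (ρ g * ofY ρ a))) x = g • (lam (ofY ρ a) x)
    rw [ofY_toY, map_mul, Equiv.Perm.mul_apply, hlam]⟩

include hlam in
lemma app_eq (σ : Aut (F G)) (x : X.obj.V) :
    σ.hom.app X x = lam (val ρ hρ σ) x := by
  have h := FunctorToFintypeCat.naturality (F G) (F G) σ.hom (ev ρ hρ X lam hlam x) (toY ρ 1)
  have e1 : (F G).map (ev ρ hρ X lam hlam x) (toY ρ 1) = x := by
    change lam (ofY ρ (toY ρ 1)) x = x
    simp
  have e2 : (F G).map (ev ρ hρ X lam hlam x) (σ.hom.app (Y ρ hρ) (toY ρ 1)) =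
      lam (val ρ hρ σ) x := rfl
  rw [e1] at h
  exact h.trans e2

end Y3

lemma isOpen_ker_toPermHom (X : ContAction FintypeCat.{u} G) :
    IsOpen ((MulAction.toPermHom G X.obj.V).ker : Set G) := by
  have : ((MulAction.toPermHom G X.obj.V).ker : Set G) = {g : G | ∀ x : X.obj.V, g • x = id x} := by
    ext g
    simp only [SetLike.mem_coe, MonoidHom.mem_ker, Set.mem_setOf_eq, id]
    rw [Equiv.ext_iff]
    rfl
  rw [this]
  exact isOpen_setOf_smul_eq G X id

lemma exists_rep_finite (σ : Aut (F G)) (I : Set (ContAction FintypeCat.{u} G)) (hI : I.Finite) :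
    ∃ g : G, ∀ X ∈ I, ∀ x : X.obj.V, σ.hom.app X x = g • x := by
  classical
  haveI : Finite I := hI.to_subtype
  let N : Subgroup G := ⨅ X : I, (MulAction.toPermHom G X.1.obj.V).ker
  haveI hNn : N.Normal := Subgroup.normal_iInf_normal (fun X => inferInstance)
  haveI hNf : N.FiniteIndex := by
    haveI : ∀ X : I, (MulAction.toPermHom G X.1.obj.V).ker.FiniteIndex :=
      fun X => Subgroup.finiteIndex_ker _
    exact Subgroup.finiteIndex_iInf (fun X => inferInstance)
  haveI : Fintype (G ⧸ N) := Fintype.ofFinite _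
  let ρ : G →* G ⧸ N := QuotientGroup.mk' N
  have hρ : IsOpen (ρ.ker : Set G) := by
    rw [QuotientGroup.ker_mk']
    have : (N : Set G) = ⋂ X : I, ((MulAction.toPermHom G X.1.obj.V).ker : Set G) := by
      simp only [N, Subgroup.coe_iInf]
    rw [this]
    exact isOpen_iInter_of_finite (fun X => isOpen_ker_toPermHom G X.1)
  obtain ⟨g0, hg0⟩ := QuotientGroup.mk'_surjective N (val ρ hρ σ)
  refine ⟨g0, fun X hX x => ?_⟩
  have hle : N ≤ (MulAction.toPermHom G X.obj.V).ker := iInf_le (fun X : I => (MulAction.toPermHom G X.1.obj.V).ker) ⟨X, hX⟩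
  let lam : G ⧸ N →* Equiv.Perm X.obj.V := QuotientGroup.lift N (MulAction.toPermHom G X.obj.V) hle
  have hlam : ∀ (g : G) (x : X.obj.V), lam (ρ g) x = g • x := fun g x => rfl
  rw [app_eq ρ hρ X lam hlam σ x, ← hg0]
  exact hlam g0 x

lemma denseRange_ι : DenseRange (ι G) := by
  intro σ
  rw [mem_closure_iff_nhds]
  intro A hA
  rw [nhds_induced, Filter.mem_comap] at hA
  obtain ⟨B, hB, hBA⟩ := hA
  rw [nhds_pi, Filter.mem_pi] at hB
  obtain ⟨I, hI, t, ht, htB⟩ := hB
  obtain ⟨g, hg⟩ := exists_rep_finite G σ I hI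
  refine ⟨ι G g, hBA (htB ?_), ⟨g, rfl⟩⟩
  intro X hX
  have : autEmbedding (F G) (ι G g) X = autEmbedding (F G) σ X := by
    apply Iso.ext
    ext x
    exact (hg X hX x).symm
  rw [this]
  exact mem_of_mem_nhds (ht X)

section Q
variable {G}
variable {Q : Type u} [Group Q] [Fintype Q] (π : G →* Q) (hπ : IsOpen (π.ker : Set G))

/-- the factorization of `π` through `Aut F` -/
def ψ : Aut (F G) →* Q where
  toFun σ := val π hπ σ
  map_one' := by
    change ofY π ((𝟙 ((F G).obj (Y π hπ)) : _ ⟶ _) (toY π 1)) = 1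
    rfl
  map_mul' σ τ := by
    change ofY π (σ.hom.app (Y π hπ) (τ.hom.app (Y π hπ) (toY π 1))) = _
    exact (congrArg (ofY π) (app_Y π hπ σ (τ.hom.app (Y π hπ) (toY π 1)))).trans rfl

lemma ψ_ι (g : G) : ψ π hπ (ι G g) = π g := by
  change ofY π (g • toY π 1) = π g
  rw [YA_smul]
  simp

lemma continuous_ψ [TopologicalSpace Q] : Continuous (ψ π hπ) := by
  have h1 : Continuous (fun σ : Aut (F G) => autEmbedding (F G) σ (Y π hπ)) :=
    (continuous_apply (Y π hπ)).comp continuous_induced_dom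
  have h2 : Continuous (fun s : Aut ((F G).obj (Y π hπ)) => ofY π (s.hom (toY π 1))) :=
    continuous_of_discreteTopology
  exact h2.comp h1

end Q

theorem main : ∃ ι : G →* Aut (forget₂ (ContAction FintypeCat.{u} G) FintypeCat.{u}),
      Continuous ι ∧
      (∀ (g : G) (X : ContAction FintypeCat.{u} G) (x : X.obj.V), (ι g).hom.app X x = (X.obj.ρ g).hom x) ∧
      DenseRange ι ∧
      ∀ (Q : Type u) [Group Q] [Finite Q] [TopologicalSpace Q] [DiscreteTopology Q] (π : G →* Q),
        Continuous π → ∃! ψ : Aut (forget₂ (ContAction FintypeCat.{u} G) FintypeCat.{u}) →* Q,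
          Continuous ψ ∧ ψ.comp ι = π := by
  refine ⟨ι G, continuous_ι G, fun g X x => ι_app G g X x, denseRange_ι G, ?_⟩
  intro Q _ _ _ _ π hπc
  haveI : Fintype Q := Fintype.ofFinite Q
  have hπ : IsOpen (π.ker : Set G) := (isOpen_discrete ({1} : Set Q)).preimage hπc
  refine ⟨ψ π hπ, ⟨continuous_ψ π hπ, MonoidHom.ext (fun g => ψ_ι π hπ g)⟩, ?_⟩
  rintro ψ' ⟨hc, hψ'⟩
  apply MonoidHom.ext
  have := (denseRange_ι G).equalizer hc (continuous_ψ π hπ) (by
    ext g
    change (ψ'.comp (ι G)) g = ψ π hπ (ι G g)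
    rw [hψ', ψ_ι])
  exact fun σ => congrFun this σ

end Groth.Agent.Lib.Helper26.ContAut
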