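import Groth.Agent.Lib.Helper26.ComodSS
import Mathlib.RingTheory.SimpleModule.Isotypic
import Mathlib.LinearAlgebra.Dual.Lemmas

/-!
# A coalgebra whose regular comodule is semisimple is cosemisimple (helper26)

For a coalgebra `A` over a field whose regular (right) comodule is semisimple, `A` is the direct sum
of simple subcoalgebras: the isotypic components of `A` as a module over the algebra `Salg`
generated by the right slice operators.
-/

open TensorProduct

universe u v w

namespace Groth.Agent.Lib.Helper26.Comod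

open HopfRep

section Tensor

variable {k : Type u} [Field k] {A : Type v} [AddCommGroup A] [Module k A]

/-- `(C ⊗ A) ∩ (A ⊗ C) = C ⊗ C` inside `A ⊗ A`. -/
theorem mem_range_map_subtype (C : Submodule k A) (z : A ⊗[k] A)
    (h1 : z ∈ LinearMap.range (C.subtype.rTensor A))
    (h2 : z ∈ LinearMap.range (C.subtype.lTensor A)) :
    z ∈ LinearMap.range (TensorProduct.map C.subtype C.subtype) := by
  obtain ⟨p, hp⟩ := C.subtype.exists_leftInverse_of_injective C.ker_subtype
  obtain ⟨w, rfl⟩ := h1
  obtain ⟨w', hw'⟩ := h2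
  have h3 : (C.subtype ∘ₗ p).rTensor A (C.subtype.rTensor A w) = C.subtype.rTensor A w := by
    rw [← LinearMap.rTensor_comp_apply, LinearMap.comp_assoc, hp, LinearMap.comp_id]
  refine ⟨p.rTensor C w', ?_⟩
  rw [← h3, ← hw']
  generalize w' = y
  induction y using TensorProduct.induction_on with
  | zero => simp
  | tmul a c => simp
  | add x y hx hy => simp only [map_add, hx, hy]

theorem mem_range_rTensor_of_mem_range_map (C : Submodule k A) (z : A ⊗[k] A)
    (h : z ∈ LinearMap.range (TensorProduct.map C.subtype C.subtype)) :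
    z ∈ LinearMap.range (C.subtype.rTensor A) := by
  obtain ⟨w, rfl⟩ := h
  refine ⟨C.subtype.lTensor C w, ?_⟩
  generalize w = y
  induction y using TensorProduct.induction_on with
  | zero => simp
  | tmul a c => simp
  | add x y hx hy => simp only [map_add, hx, hy]

/-- the left slice `(φ ⊗ id) : A ⊗ V → V`. -/
noncomputable def lslice {V : Type w} [AddCommGroup V] [Module k V] (φ : A →ₗ[k] k) :
    A ⊗[k] V →ₗ[k] V :=
  (TensorProduct.lid k V).toLinearMap ∘ₗ φ.rTensor V

@[simp] theorem lslice_tmul {V : Type w} [AddCommGroup V] [Module k V] (φ : A →ₗ[k] k)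
    (a : A) (v : V) : lslice φ (a ⊗ₜ[k] v) = φ a • v := by
  simp [lslice]

theorem slice_comm {V : Type w} [AddCommGroup V] [Module k V] (φ : A →ₗ[k] k) (z : A ⊗[k] V) :
    slice φ (TensorProduct.comm k A V z) = lslice φ z := by
  induction z using TensorProduct.induction_on with
  | zero => simp
  | tmul a v => simp
  | add x y hx hy => simp only [map_add, hx, hy]

theorem mem_range_lTensor_of_lslice_mem {V : Type w} [AddCommGroup V] [Module k V]
    (W : Submodule k V) (z : A ⊗[k] V) (h : ∀ φ : A →ₗ[k] k, lslice φ z ∈ W) :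
    z ∈ LinearMap.range (W.subtype.lTensor A) := by
  have h' : TensorProduct.comm k A V z ∈ LinearMap.range (W.subtype.rTensor A) := by
    rw [mem_range_rTensor_iff]
    intro φ
    rw [slice_comm]
    exact h φ
  obtain ⟨w, hw⟩ := h'
  refine ⟨(TensorProduct.comm k A W).symm w, ?_⟩
  apply (TensorProduct.comm k A V).injective
  rw [← hw]
  generalize w = y
  induction y using TensorProduct.induction_on with
  | zero => simp
  | tmul a c => simp
  | add x y hx hy => simp only [map_add, hx, hy]

theorem lslice_mem_of_mem_range_map (C : Submodule k A) (z : A ⊗[k] A)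
    (h : z ∈ LinearMap.range (TensorProduct.map C.subtype C.subtype)) (φ : A →ₗ[k] k) :
    lslice φ z ∈ C := by
  obtain ⟨w, rfl⟩ := h
  generalize w = y
  induction y using TensorProduct.induction_on with
  | zero => simp
  | tmul a c => simpa using C.smul_mem _ c.2
  | add x y hx hy => rw [map_add, map_add]; exact C.add_mem hx hy

end Tensor

section Regular

variable {k : Type u} [Field k] {A : Type v} [AddCommGroup A] [Module k A] [Coalgebra k A]

/-- the left slice operator `U φ a = Σ φ(a₁) a₂` on the coalgebra `A`. -/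
noncomputable def U (φ : A →ₗ[k] k) : A →ₗ[k] A :=
  lslice φ ∘ₗ Coalgebra.comul

theorem U_apply (φ : A →ₗ[k] k) (a : A) : U φ a = lslice φ (Coalgebra.comul a) := rfl

theorem T_regular_apply (ψ : A →ₗ[k] k) (a : A) :
    T (V := A) ψ a = slice ψ (Coalgebra.comul (R := k) a) := rfl

/-- `ψ'(T ψ b) = (ψ' * ψ)(b)`. -/
theorem apply_T (ψ' ψ : A →ₗ[k] k) (b : A) : ψ' (T (V := A) ψ b) = conv ψ' ψ b := by
  rw [T_regular_apply, conv]
  simp only [LinearMap.comp_apply]
  generalize Coalgebra.comul (R := k) b = y
  induction y using TensorProduct.induction_on with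
  | zero => simp
  | tmul a c => simp [mul_comm]
  | add x y hx hy => simp only [map_add, hx, hy]

/-- `ψ(U φ a) = φ(T ψ a)`. -/
theorem apply_U (φ ψ : A →ₗ[k] k) (a : A) : ψ (U φ a) = φ (T (V := A) ψ a) := by
  rw [T_regular_apply, U_apply]
  generalize Coalgebra.comul (R := k) a = y
  induction y using TensorProduct.induction_on with
  | zero => simp
  | tmul a c => simp [mul_comm]
  | add x y hx hy => simp only [map_add, hx, hy]

theorem counit_T (ψ : A →ₗ[k] k) (b : A) :
    Coalgebra.counit (R := k) (T (V := A) ψ b) = ψ b := by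
  have h := Coalgebra.rTensor_counit_comul (R := k) b
  have h2 : ∀ z : A ⊗[k] A, Coalgebra.counit (R := k) (slice ψ z) =
      ψ (TensorProduct.lid k A ((Coalgebra.counit (R := k) (A := A)).rTensor A z)) := by
    intro z
    induction z using TensorProduct.induction_on with
    | zero => simp
    | tmul a c => simp [mul_comm]
    | add x y hx hy => simp only [map_add, hx, hy]
  rw [T_regular_apply, h2, h]
  simp

theorem eq_of_forall_dual_apply_eq {V : Type w} [AddCommGroup V] [Module k V] (x y : V)
    (h : ∀ ψ : V →ₗ[k] k, ψ x = ψ y) : x = y := by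
  rw [← sub_eq_zero, ← Module.forall_dual_apply_eq_zero_iff k]
  intro ψ
  rw [map_sub, h ψ, sub_self]

/-- left and right slice operators commute. -/
theorem U_T (φ ψ : A →ₗ[k] k) (a : A) : U φ (T (V := A) ψ a) = T (V := A) ψ (U φ a) := by
  apply eq_of_forall_dual_apply_eq (k := k)
  intro ψ'
  calc ψ' (U φ (T (V := A) ψ a)) = φ (T (V := A) ψ' (T (V := A) ψ a)) := apply_U _ _ _
    _ = φ (T (V := A) (conv ψ' ψ) a) := by rw [T_T]
    _ = (conv ψ' ψ) (U φ a) := (apply_U _ _ _).symm
    _ = ψ' (T (V := A) ψ (U φ a)) := (apply_T _ _ _).symm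

/-- A linear endomorphism commuting with all `T ψ` commutes with `Salg`. -/
theorem commute_of_mem_Salg (F : A →ₗ[k] A)
    (hF : ∀ (ψ : A →ₗ[k] k) (a : A), F (T (V := A) ψ a) = T (V := A) ψ (F a))
    (s : Module.End k A) (hs : s ∈ Salg k A A) (a : A) : F (s a) = s (F a) := by
  induction hs using Algebra.adjoin_induction generalizing a with
  | mem x hx =>
    obtain ⟨ψ, rfl⟩ := hx
    exact hF ψ a
  | algebraMap r =>
    rw [Module.algebraMap_end_apply, Module.algebraMap_end_apply, map_smul]
  | add x y _ _ hx hy =>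
    rw [LinearMap.add_apply, LinearMap.add_apply, map_add, hx, hy]
  | mul x y _ _ hx hy =>
    rw [Module.End.mul_apply, Module.End.mul_apply, hx, hy]

/-- `U φ` as an endomorphism of the `Salg`-module `A`. -/
noncomputable def US (φ : A →ₗ[k] k) : Module.End (Salg k A A) A where
  toFun := U φ
  map_add' := map_add _
  map_smul' := by
    rintro ⟨s, hs⟩ a
    exact commute_of_mem_Salg (U φ) (U_T φ) s hs a

@[simp] theorem US_apply (φ : A →ₗ[k] k) (a : A) : US φ a = U φ a := rfl

/-- Every `Salg`-endomorphism of `A` is a left slice operator. -/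
theorem end_eq_U (F : Module.End (Salg k A A) A) (a : A) :
    F a = U ((Coalgebra.counit (R := k) (A := A)) ∘ₗ F.restrictScalars k) a := by
  apply eq_of_forall_dual_apply_eq (k := k)
  intro ψ
  rw [apply_U, LinearMap.comp_apply, LinearMap.restrictScalars_apply]
  have h : F (T (V := A) ψ a) = T (V := A) ψ (F a) :=
    F.map_smul (⟨T ψ, T_mem_Salg ψ⟩ : Salg k A A) a
  rw [h, counit_T]

end Regular

section Main

variable {k : Type u} [Field k] {A : Type v} [AddCommGroup A] [Module k A] [Coalgebra k A]

theorem isSemisimpleModule_Salg_of_isSemisimpleComod {V : Type w} [AddCommGroup V] [Module k V]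
    [Comod k A V] (h : IsSemisimpleComod k A V) : IsSemisimpleModule (Salg k A V) V := by
  rw [isSemisimpleModule_iff]
  refine ⟨fun W => ?_⟩
  obtain ⟨W', hW', hc⟩ := h (W.restrictScalars k) (isSubcomod_restrictScalars W)
  refine ⟨toS W' hW', ?_⟩
  rw [← Submodule.isCompl_restrictScalars_iff (S := k)]
  exact hc

/-- `B` is a subcoalgebra: `Δ(B) ⊆ B ⊗ B`. -/
def IsSubcoalg (B : Submodule k A) : Prop :=
  ∀ b ∈ B, Coalgebra.comul (R := k) b ∈
    LinearMap.range (TensorProduct.map B.subtype B.subtype)

theorem IsSubcoalg.isSubcomod {B : Submodule k A} (hB : IsSubcoalg B) :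
    IsSubcomod (k := k) (A := A) B :=
  fun b hb => mem_range_rTensor_of_mem_range_map B _ (hB b hb)

theorem IsSubcoalg.isFullyInvariant {B : Submodule k A} (hB : IsSubcoalg B) :
    (toS B hB.isSubcomod).IsFullyInvariant := by
  intro F b hb
  change F b ∈ B
  rw [end_eq_U, U_apply]
  exact lslice_mem_of_mem_range_map B _ (hB b hb) _

theorem isSubcoalg_of_isFullyInvariant (C : Submodule (Salg k A A) A)
    (hC : C.IsFullyInvariant) : IsSubcoalg (C.restrictScalars k) := by
  intro c hc
  apply mem_range_map_subtype
  · exact isSubcomod_restrictScalars C c hc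
  · apply mem_range_lTensor_of_lslice_mem
    intro φ
    exact hC (US φ) hc

/-- A coalgebra over a field whose regular comodule is semisimple is the direct sum of simple
subcoalgebras. -/
theorem exists_cosemisimple_decomposition (h : IsSemisimpleComod k A A) :
    ∃ (ι : Type v) (D : ι → Submodule k A), iSupIndep D ∧ iSup D = ⊤ ∧ ∀ i,
      D i ≠ ⊥ ∧ IsSubcoalg (D i) ∧
      ∀ B : Submodule k A, B ≤ D i → IsSubcoalg B → B = ⊥ ∨ B = D i := by
  have hss := isSemisimpleModule_Salg_of_isSemisimpleComod h
  refine ⟨↥(isotypicComponents (Salg k A A) A), fun c => c.1.restrictScalars k, ?_, ?_, ?_⟩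
  · have h1 := (sSupIndep_iff _).mp (sSupIndep_isotypicComponents (Salg k A A) A)
    intro i
    have h2 := h1 i
    rw [← Submodule.disjoint_restrictScalars_iff (S := k)] at h2
    simpa only [Submodule.restrictScalars_iSup] using h2
  · have h1 := sSup_isotypicComponents (Salg k A A) A
    rw [sSup_eq_iSup'] at h1
    rw [← Submodule.restrictScalars_iSup, h1]
    rfl
  · intro c
    refine ⟨?_, ?_, ?_⟩
    · rw [Ne, Submodule.restrictScalars_eq_bot_iff]
      exact (bot_lt_isotypicComponents c.2).ne'
    · exact isSubcoalg_of_isFullyInvariant c.1 (.of_mem_isotypicComponents c.2)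
    · intro B hBc hB
      by_cases hB0 : B = ⊥
      · exact Or.inl hB0
      right
      have hne : toS B hB.isSubcomod ≠ ⊥ := by
        intro h0
        apply hB0
        rw [eq_bot_iff]
        intro x hx
        have : x ∈ toS B hB.isSubcomod := hx
        rw [h0] at this
        exact this
      obtain ⟨S', hle, hsimple⟩ :=
        (IsSemisimpleModule.eq_bot_or_exists_simple_le (toS B hB.isSubcomod)).resolve_left hne
      have hS'c : S' ≤ c.1 := fun x hx => hBc (hle hx)
      have hc := eq_isotypicComponent_of_le c.2 hS'c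
      have hle2 := isFullyInvariant_iff_le_imp_isotypicComponent_le.mp hB.isFullyInvariant S' hle
      apply le_antisymm hBc
      intro x hx
      have hx' : x ∈ c.1 := hx
      rw [hc] at hx'
      exact hle2 hx'

end Main

end Groth.Agent.Lib.Helper26.Comod
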