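import Mathlib

/-!
Counting the 72 classes `L` with `L² = 1`, `L·K = -3` in `ℤ^{1,6}`.
-/

set_option autoImplicit false

namespace Groth.Agent.Lib.Helper26.CubicCount

/-- the set to be counted -/
def S : Set (ℤ × (Fin 6 → ℤ)) :=
  {p | 3 * p.1 - (Finset.univ.sum fun i => p.2 i) = 3 ∧
        p.1 ^ 2 - (Finset.univ.sum fun i => p.2 i ^ 2) = 1}

lemma sum_sq_shift (b : Fin 6 → ℤ) (c : ℤ) :
    ∑ j, (2 * b j - c) ^ 2 = 4 * ∑ j, b j ^ 2 - 4 * c * ∑ j, b j + 6 * c ^ 2 := by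
  simp only [Fin.sum_univ_six]; ring

lemma bounds {a : ℤ} {b : Fin 6 → ℤ} (h : (a, b) ∈ S) :
    1 ≤ a ∧ a ≤ 5 ∧ ∀ i, 0 ≤ b i ∧ b i ≤ 2 := by
  obtain ⟨h1, h2⟩ := h
  simp only at h1 h2
  have hcs : (∑ i, b i) ^ 2 ≤ 6 * ∑ i, b i ^ 2 := by
    have := sq_sum_le_card_mul_sum_sq (s := (Finset.univ : Finset (Fin 6))) (f := b)
    simpa using this
  have hs1 : ∑ i, b i = 3 * a - 3 := by linarith
  have hs2 : ∑ i, b i ^ 2 = a ^ 2 - 1 := by linarith
  rw [hs1, hs2] at hcs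
  have ha1 : 1 ≤ a := by nlinarith
  have ha5 : a ≤ 5 := by nlinarith
  refine ⟨ha1, ha5, fun i => ?_⟩
  have hK : (2 * b i - (a - 1)) ^ 2 ≤ 2 * (a - 1) * (5 - a) := by
    have h3 := sum_sq_shift b (a - 1)
    rw [hs1, hs2] at h3
    have h4 : (2 * b i - (a - 1)) ^ 2 ≤ ∑ j, (2 * b j - (a - 1)) ^ 2 :=
      Finset.single_le_sum (f := fun j => (2 * b j - (a - 1)) ^ 2)
        (fun j _ => sq_nonneg _) (Finset.mem_univ i)
    rw [h3] at h4
    nlinarith
  interval_cases a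
  · norm_num at hK
    have : b i = 0 := by nlinarith
    omega
  · norm_num at hK
    have h5 : 2 * b i - 1 ≤ 2 := by nlinarith
    have h6 : -2 ≤ 2 * b i - 1 := by nlinarith
    omega
  · norm_num at hK
    have h5 : 2 * b i - 2 ≤ 2 := by nlinarith
    have h6 : -2 ≤ 2 * b i - 2 := by nlinarith
    omega
  · norm_num at hK
    have h5 : 2 * b i - 3 ≤ 2 := by nlinarith
    have h6 : -2 ≤ 2 * b i - 3 := by nlinarith
    omega
  · norm_num at hK
    have : 2 * b i - 4 = 0 := by nlinarith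
    omega

/-- the finite parameter box -/
abbrev T := Fin 5 × Fin 3 × Fin 3 × Fin 3 × Fin 3 × Fin 3 × Fin 3

/-- the conditions on the box, in `ℕ` -/
def P' (x : T) : Prop :=
  3 * (x.1.val + 1) = 3 + (x.2.1.val + x.2.2.1.val + x.2.2.2.1.val + x.2.2.2.2.1.val +
      x.2.2.2.2.2.1.val + x.2.2.2.2.2.2.val) ∧
    (x.1.val + 1) ^ 2 = 1 + (x.2.1.val ^ 2 + x.2.2.1.val ^ 2 + x.2.2.2.1.val ^ 2 +
      x.2.2.2.2.1.val ^ 2 + x.2.2.2.2.2.1.val ^ 2 + x.2.2.2.2.2.2.val ^ 2)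

instance : DecidablePred P' := fun x => by unfold P'; infer_instance

/-- the parametrization -/
def φ (x : T) : ℤ × (Fin 6 → ℤ) :=
  ((x.1.val : ℤ) + 1, ![(x.2.1.val : ℤ), (x.2.2.1.val : ℤ), (x.2.2.2.1.val : ℤ),
    (x.2.2.2.2.1.val : ℤ), (x.2.2.2.2.2.1.val : ℤ), (x.2.2.2.2.2.2.val : ℤ)])

lemma φ_injective : Function.Injective φ := by
  rintro ⟨a, c0, c1, c2, c3, c4, c5⟩ ⟨a', d0, d1, d2, d3, d4, d5⟩ h
  simp only [φ, Prod.mk.injEq] at h
  obtain ⟨h1, h2⟩ := h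
  have e0 := congrFun h2 0
  have e1 := congrFun h2 1
  have e2 := congrFun h2 2
  have e3 := congrFun h2 3
  have e4 := congrFun h2 4
  have e5 := congrFun h2 5
  simp only [Matrix.cons_val_zero, Matrix.cons_val_one, Matrix.cons_val] at e0 e1 e2 e3 e4 e5
  have ha : a = a' := Fin.ext (by omega)
  have h0 : c0 = d0 := Fin.ext (by exact_mod_cast e0)
  have h1' : c1 = d1 := Fin.ext (by exact_mod_cast e1)
  have h2' : c2 = d2 := Fin.ext (by exact_mod_cast e2)
  have h3 : c3 = d3 := Fin.ext (by exact_mod_cast e3)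
  have h4 : c4 = d4 := Fin.ext (by exact_mod_cast e4)
  have h5 : c5 = d5 := Fin.ext (by exact_mod_cast e5)
  subst ha h0 h1' h2' h3 h4 h5
  rfl

set_option maxRecDepth 1000000 in
lemma card_box : ((Finset.univ : Finset T).filter P').card = 72 := by
  unfold P'
  decide

lemma S_eq : S = φ '' ↑((Finset.univ : Finset T).filter P') := by
  ext ⟨a, b⟩
  constructor
  · intro h
    obtain ⟨ha1, ha5, hb⟩ := bounds h
    obtain ⟨h1, h2⟩ := h
    simp only [Fin.sum_univ_six] at h1 h2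
    lift b to Fin 6 → ℕ using fun i => (hb i).1
    obtain ⟨a', rfl⟩ : ∃ a' : ℕ, a = (a' : ℤ) + 1 := ⟨(a - 1).toNat, by omega⟩
    have hb' : ∀ i, b i < 3 := fun i => by
      have := (hb i).2
      simp only at this
      omega
    have ha' : a' < 5 := by omega
    refine ⟨(⟨a', ha'⟩, ⟨b 0, hb' 0⟩, ⟨b 1, hb' 1⟩, ⟨b 2, hb' 2⟩, ⟨b 3, hb' 3⟩, ⟨b 4, hb' 4⟩,
      ⟨b 5, hb' 5⟩), ?_, ?_⟩
    · simp only [Finset.coe_filter, Finset.mem_univ, true_and, Set.mem_ofPred_eq, P']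
      constructor
      · zify; linarith
      · zify; linarith
    · simp only [φ, Prod.mk.injEq, true_and]
      funext i
      fin_cases i <;> rfl
  · rintro ⟨x, hx, hxe⟩
    simp only [Finset.coe_filter, Finset.mem_univ, true_and, Set.mem_ofPred_eq, P'] at hx
    obtain ⟨h1, h2⟩ := hx
    simp only [φ, Prod.mk.injEq] at hxe
    obtain ⟨rfl, rfl⟩ := hxe
    constructor
    · simp only [Fin.sum_univ_six, Matrix.cons_val_zero, Matrix.cons_val_one, Matrix.cons_val]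
      zify at h1; linarith
    · simp only [Fin.sum_univ_six, Matrix.cons_val_zero, Matrix.cons_val_one, Matrix.cons_val]
      zify at h2; linarith

theorem main : S.ncard = 72 := by
  rw [S_eq, Set.ncard_image_of_injective _ φ_injective, Set.ncard_coe_finset, card_box]

end Groth.Agent.Lib.Helper26.CubicCount
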