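import Mathlib
import Groth.Prelude.Def_CxOX
import Groth.Agent.Lib.Helper26.CxI

set_option maxHeartbeats 400000
set_option linter.style.haveILetI false
set_option linter.unusedSectionVars false

universe u

open CategoryTheory CategoryTheory.Limits AlgebraicGeometry Opposite ZeroObject

namespace Groth.Agent.Lib.Helper26.CxL

open Scheme.Modules Groth.Agent.Lib.Helper26.MVMod4
  Groth.Agent.Lib.Helper26.SuppD1 Groth.Agent.Lib.Helper26.SuppD2 Groth.Agent.Lib.Helper26.SuppD3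
open Pretriangulated

attribute [local instance] HasDerivedCategory.standard

/-- `a^* b^* P ≅ c^* P` for `a ≫ b = c` -/
lemma nonempty_restrictD_comp_iso {A B C : Scheme.{u}} (a : A ⟶ B) (b : B ⟶ C) (c : A ⟶ C)
    [IsOpenImmersion a] [IsOpenImmersion b] [IsOpenImmersion c] (w : a ≫ b = c) (P : DCoh.D C) :
    Nonempty ((DCoh.restrictD a).obj ((DCoh.restrictD b).obj P) ≅ (DCoh.restrictD c).obj P) := by
  subst w
  let K := DerivedCategory.Q.objPreimage P
  let e : DerivedCategory.Q.obj K ≅ P := DerivedCategory.Q.objObjPreimageIso P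
  let e1 : (DCoh.restrictD b).obj P ≅ DerivedCategory.Q.obj
      (((restrictFunctor b).mapHomologicalComplex (ComplexShape.up ℤ)).obj K) :=
    (DCoh.restrictD b).mapIso e.symm ≪≫ ((restrictFunctor b).mapDerivedCategoryFactors).app K
  let e2 : (DCoh.restrictD a).obj ((DCoh.restrictD b).obj P) ≅ DerivedCategory.Q.obj
      (((restrictFunctor a).mapHomologicalComplex (ComplexShape.up ℤ)).obj
        (((restrictFunctor b).mapHomologicalComplex (ComplexShape.up ℤ)).obj K)) :=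
    (DCoh.restrictD a).mapIso e1 ≪≫ ((restrictFunctor a).mapDerivedCategoryFactors).app _
  let e3 : (DCoh.restrictD (a ≫ b)).obj P ≅ DerivedCategory.Q.obj
      (((restrictFunctor (a ≫ b)).mapHomologicalComplex (ComplexShape.up ℤ)).obj K) :=
    (DCoh.restrictD (a ≫ b)).mapIso e.symm ≪≫
      ((restrictFunctor (a ≫ b)).mapDerivedCategoryFactors).app K
  let e4 : ((restrictFunctor (a ≫ b)).mapHomologicalComplex (ComplexShape.up ℤ)).obj K ≅
      ((restrictFunctor a).mapHomologicalComplex (ComplexShape.up ℤ)).obj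
        (((restrictFunctor b).mapHomologicalComplex (ComplexShape.up ℤ)).obj K) :=
    (NatIso.mapHomologicalComplex (restrictFunctorComp a b) (ComplexShape.up ℤ)).app K
  exact ⟨e2 ≪≫ (DerivedCategory.Q.mapIso e4).symm ≪≫ e3.symm⟩


/-- restriction to the empty open is zero -/
lemma isZero_restrictD_bot {X : Scheme.{u}} (E : DCoh.D X) :
    IsZero ((DCoh.restrictD (⊥ : X.Opens).ι).obj E) := by
  apply isZero_mapDerivedCategory_obj (restrictFunctor (⊥ : X.Opens).ι)
  intro i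
  apply isZero_restrict_of_support
  intro x hx
  exact absurd hx (by simp)

/-- for an isomorphism `t`, the unit of `t^* ⊣ Rt_*` is an isomorphism -/
lemma isIso_unit_of_isIso {V X : Scheme.{u}} (t : V ⟶ X) [IsIso t] [DCoh.HasRpush t]
    (adj : DCoh.restrictD t ⊣ DCoh.Rpush t) (E : DCoh.D X) : IsIso (adj.unit.app E) := by
  apply Groth.Agent.Lib.Helper26.CxE.isIso_unit_of_isZero_restrictD t ⊥ ?_ adj E
    (isZero_restrictD_bot E)
  intro x _
  have : Function.Surjective t.base := (TopCat.homeoOfIso (asIso t.base)).surjective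
  exact this x

/-- restriction along an isomorphism is faithful -/
lemma faithful_restrictD_of_isIso {V X : Scheme.{u}} (t : V ⟶ X) [IsIso t] :
    (DCoh.restrictD t).Faithful := by
  haveI := hasRpush t
  obtain ⟨adj⟩ := Groth.Agent.Lib.Helper26.CxI.nonempty_adj t
  haveI : IsIso adj.unit := by
    haveI : ∀ E, IsIso (adj.unit.app E) := fun E => isIso_unit_of_isIso t adj E
    exact NatIso.isIso_of_isIso_app _
  exact (adj.fullyFaithfulLOfIsIsoUnit).faithful


/-- no nonzero maps from an object vanishing on `j⁻¹W` to `j^* Rw_* N` -/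
theorem hom_restrictD_Rpush_eq_zero {X Xbar : Scheme.{u}} (j : X ⟶ Xbar) [IsOpenImmersion j]
    (W : Xbar.Opens) [DCoh.HasRpush W.ι] (F : DCoh.D X)
    (hF : IsZero ((DCoh.restrictD (j ⁻¹ᵁ W).ι).obj F)) (N : DCoh.D (W : Scheme.{u}))
    (g : F ⟶ (DCoh.restrictD j).obj ((DCoh.Rpush W.ι).obj N)) : g = 0 := by
  let V : Xbar.Opens := j.opensRange
  let t : (V : Scheme.{u}) ⟶ X := j.isoOpensRange.inv
  have ht : t ≫ j = V.ι := j.isoOpensRange_inv_comp
  haveI := faithful_restrictD_of_isIso t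
  apply (DCoh.restrictD t).map_injective
  rw [Functor.map_zero]
  obtain ⟨ρ⟩ := nonempty_restrictD_comp_iso t j V.ι ht ((DCoh.Rpush W.ι).obj N)
  haveI := hasRpush (W.ι ∣_ V)
  obtain ⟨σ⟩ := Groth.Agent.Lib.Helper26.OpenBC2.main W.ι V
  obtain ⟨adj'⟩ := Groth.Agent.Lib.Helper26.CxI.nonempty_adj (W.ι ∣_ V)
  have hrange : Set.range ((W.ι ∣_ V) ≫ t).base ⊆ Set.range (j ⁻¹ᵁ W).ι.base := by
    rintro _ ⟨x, rfl⟩
    rw [Scheme.Opens.range_ι]
    change j.base (((W.ι ∣_ V) ≫ t).base x) ∈ (W : Set Xbar)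
    have h1 : ((W.ι ∣_ V) ≫ t) ≫ j = (W.ι ⁻¹ᵁ V).ι ≫ W.ι := by
      rw [Category.assoc, ht, morphismRestrict_ι]
    have h2 : j.base (((W.ι ∣_ V) ≫ t).base x) = (((W.ι ∣_ V) ≫ t) ≫ j).base x := by simp
    rw [h2, h1]
    simp
  let c := IsOpenImmersion.lift (j ⁻¹ᵁ W).ι ((W.ι ∣_ V) ≫ t) hrange
  have hc : (W.ι ∣_ V) ≫ t = c ≫ (j ⁻¹ᵁ W).ι := (IsOpenImmersion.lift_fac _ _ _).symm
  haveI : IsOpenImmersion c := by
    haveI : IsOpenImmersion (c ≫ (j ⁻¹ᵁ W).ι) := by rw [← hc]; infer_instance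
    exact IsOpenImmersion.of_comp _ (j ⁻¹ᵁ W).ι
  have h0 := Groth.Agent.Lib.Helper26.CxD.isZero_restrictD_restrictD (W.ι ∣_ V) t c
    (j ⁻¹ᵁ W).ι hc F hF
  have h1 := Groth.Agent.Lib.Helper26.CxH.hom_Rpush_eq_zero (W.ι ∣_ V) adj' _ _ h0
    ((DCoh.restrictD t).map g ≫ ρ.hom ≫ σ.hom.app N)
  rw [← cancel_mono (ρ.hom ≫ σ.hom.app N), zero_comp]
  exact h1

end Groth.Agent.Lib.Helper26.CxL
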