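import Mathlib
import Groth.Prelude.Def_CxOX
import Groth.Prelude.Def_Dual3
import Groth.Agent.Lib.Helper26.CxK
import Groth.Agent.Lib.Helper26.CxL

set_option maxHeartbeats 400000
set_option linter.style.haveILetI false
set_option linter.unusedSectionVars false

universe u

open CategoryTheory CategoryTheory.Limits AlgebraicGeometry Opposite ZeroObject

namespace Groth.Agent.Lib.Helper26.CxM

open Scheme.Modules Groth.Agent.Lib.Helper26.MVMod4
  Groth.Agent.Lib.Helper26.SuppD1 Groth.Agent.Lib.Helper26.SuppD2 Groth.Agent.Lib.Helper26.SuppD3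
open Pretriangulated

attribute [local instance] HasDerivedCategory.standard

variable {X Xbar : Scheme.{u}} (j : X ⟶ Xbar) [IsOpenImmersion j]
  (W : Xbar.Opens) [DCoh.HasRpush j]
  (adjj : DCoh.restrictD j ⊣ DCoh.Rpush j)
  [CxOX.HasRgammaZ W.ι] [CxOX.HasRgammaZ (j ⁻¹ᵁ W).ι]

/-- `(e)`: maps from `F` (vanishing on `j⁻¹W`) to `j^* RΓ_{W^c} E` are detected in `j^* E` -/
lemma eq_zero_of_comp_eq_zero (E : DCoh.D Xbar) (F : DCoh.D X)
    (hF : IsZero ((DCoh.restrictD (j ⁻¹ᵁ W).ι).obj F))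
    (κ : F ⟶ (DCoh.restrictD j).obj ((CxOX.RgammaZ W.ι).obj E))
    (hκ : κ ≫ (DCoh.restrictD j).map ((CxOX.RgammaZToId W.ι).app E) = 0) : κ = 0 := by
  haveI := hasRpush W.ι
  obtain ⟨adjW⟩ := Groth.Agent.Lib.Helper26.CxI.nonempty_adj W.ι
  obtain ⟨δ, hT⟩ := Groth.Agent.Lib.Helper26.CxH.exists_triangle_unit W adjW E
  have hT' := (DCoh.restrictD j).map_distinguished _ hT
  obtain ⟨g, hg⟩ : ∃ g : F ⟶ ((DCoh.restrictD j).obj ((DCoh.Rpush W.ι).obj
      ((DCoh.restrictD W.ι).obj E)))⟦(-1 : ℤ)⟧,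
      κ = g ≫ ((DCoh.restrictD j).mapTriangle.obj (Triangle.mk ((CxOX.RgammaZToId W.ι).app E)
        (adjW.unit.app E) δ)).invRotate.mor₁ :=
    Triangle.coyoneda_exact₂ _ (inv_rot_of_distTriang _ hT') κ hκ
  have hg0 : g = 0 := by
    apply (shiftFunctor (DCoh.D X) (1 : ℤ)).map_injective
    rw [Functor.map_zero]
    rw [← cancel_mono ((shiftFunctorCompIsoId (DCoh.D X) (-1 : ℤ) 1 (by simp)).hom.app
      ((DCoh.restrictD j).obj ((DCoh.Rpush W.ι).obj ((DCoh.restrictD W.ι).obj E)))), zero_comp]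
    exact Groth.Agent.Lib.Helper26.CxL.hom_restrictD_Rpush_eq_zero j W _
      (Groth.Agent.Lib.Helper26.CxK.isZero_restrictD_shift _ F hF 1) _ _
  rw [hg, hg0]
  exact zero_comp


/-- step (a): composing with `θ` is bijective -/
lemma bijective_comp_theta (E : DCoh.D Xbar) (F : DCoh.D X)
    (hF : IsZero ((DCoh.restrictD (j ⁻¹ᵁ W).ι).obj F))
    (θ : (CxOX.RgammaZ (j ⁻¹ᵁ W).ι).obj ((DCoh.restrictD j).obj E) ⟶
      (DCoh.restrictD j).obj ((CxOX.RgammaZ W.ι).obj E))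
    (hθ : θ ≫ (DCoh.restrictD j).map ((CxOX.RgammaZToId W.ι).app E) =
      (CxOX.RgammaZToId (j ⁻¹ᵁ W).ι).app ((DCoh.restrictD j).obj E)) :
    Function.Bijective (fun φ : F ⟶ (CxOX.RgammaZ (j ⁻¹ᵁ W).ι).obj ((DCoh.restrictD j).obj E) =>
      φ ≫ θ) := by
  have hb := Groth.Agent.Lib.Helper26.CxK.hom_RgammaZ_bijective (j ⁻¹ᵁ W) F
    ((DCoh.restrictD j).obj E) hF
  constructor
  · intro φ₁ φ₂ h
    dsimp at h
    apply hb.1
    dsimp
    rw [← hθ, ← Category.assoc, ← Category.assoc, h]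
  · intro ψ
    obtain ⟨φ, hφ⟩ := hb.2 (ψ ≫ (DCoh.restrictD j).map ((CxOX.RgammaZToId W.ι).app E))
    dsimp at hφ
    refine ⟨φ, ?_⟩
    dsimp
    have h0 : (φ ≫ θ - ψ) ≫ (DCoh.restrictD j).map ((CxOX.RgammaZToId W.ι).app E) = 0 := by
      rw [Preadditive.sub_comp, Category.assoc, hθ, hφ, sub_self]
    exact sub_eq_zero.1 (eq_zero_of_comp_eq_zero j W E F hF _ h0)

/-- steps (a), (b), (c) -/
theorem bijective_abc (E : DCoh.D Xbar) (F : DCoh.D X)
    (hF : IsZero ((DCoh.restrictD (j ⁻¹ᵁ W).ι).obj F))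
    (θ : (CxOX.RgammaZ (j ⁻¹ᵁ W).ι).obj ((DCoh.restrictD j).obj E) ⟶
      (DCoh.restrictD j).obj ((CxOX.RgammaZ W.ι).obj E))
    (hθ : θ ≫ (DCoh.restrictD j).map ((CxOX.RgammaZToId W.ι).app E) =
      (CxOX.RgammaZToId (j ⁻¹ᵁ W).ι).app ((DCoh.restrictD j).obj E))
    [IsIso (adjj.unit.app ((CxOX.RgammaZ W.ι).obj E))] :
    Function.Bijective (fun φ : F ⟶ (CxOX.RgammaZ (j ⁻¹ᵁ W).ι).obj ((DCoh.restrictD j).obj E) =>
      (DCoh.Rpush j).map (φ ≫ θ) ≫ inv (adjj.unit.app ((CxOX.RgammaZ W.ι).obj E)) ≫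
        (CxOX.RgammaZToId W.ι).app E) := by
  have ha := bijective_comp_theta j W E F hF θ hθ
  have hb : Function.Bijective (fun ψ : F ⟶ (DCoh.restrictD j).obj ((CxOX.RgammaZ W.ι).obj E) =>
      (DCoh.Rpush j).map ψ ≫ inv (adjj.unit.app ((CxOX.RgammaZ W.ι).obj E))) := by
    haveI := Groth.Agent.Lib.Helper26.CxA.isIso_counit j adjj
    have hff := (adjj.fullyFaithfulROfIsIsoCounit).map_bijective F
      ((DCoh.restrictD j).obj ((CxOX.RgammaZ W.ι).obj E))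
    constructor
    · intro ψ₁ ψ₂ h
      dsimp at h
      rw [cancel_mono] at h
      exact hff.1 h
    · intro χ
      obtain ⟨ψ, hψ⟩ := hff.2 (χ ≫ adjj.unit.app ((CxOX.RgammaZ W.ι).obj E))
      refine ⟨ψ, ?_⟩
      dsimp
      rw [hψ, Category.assoc, IsIso.hom_inv_id, Category.comp_id]
  have hc := Groth.Agent.Lib.Helper26.CxK.hom_RgammaZ_bijective W ((DCoh.Rpush j).obj F) E
    (Groth.Agent.Lib.Helper26.CxD.isZero_restrictD_Rpush j W F hF)
  have := hc.comp (hb.comp ha)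
  convert this using 2
  simp [Function.comp]


/-- step (d): the adjunction bijection on `D_QCoh`, written in `D` -/
lemma bijective_d {Xbar Y : Scheme.{u}} (fbar : Xbar ⟶ Y) [DCoh.HasRpush fbar]
    (hfbar : DCoh.RpushPreservesQCoh fbar)
    (a : DCoh.DQCoh Y ⥤ DCoh.DQCoh Xbar) (adj : DCoh.RpushQ fbar hfbar ⊣ a) (G : DCoh.DQCoh Y)
    (A : DCoh.D Xbar) (hA : DCoh.IsQCohD A) :
    Function.Bijective (fun ξ : A ⟶ (a.obj G).obj =>
      (DCoh.Rpush fbar).map ξ ≫ (adj.counit.app G).hom) := by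
  let A' : DCoh.DQCoh Xbar := ⟨A, hA⟩
  have h := (adj.homEquiv A' G).symm.bijective
  constructor
  · intro ξ₁ ξ₂ hh
    have h1 : (adj.homEquiv A' G).symm (ObjectProperty.homMk ξ₁) =
        (adj.homEquiv A' G).symm (ObjectProperty.homMk ξ₂) := by
      apply ObjectProperty.hom_ext
      rw [Adjunction.homEquiv_counit, Adjunction.homEquiv_counit]
      exact hh
    have h2 := h.1 h1
    exact congrArg (fun q => q.hom) h2
  · intro η
    obtain ⟨ξ', hξ'⟩ := h.2 (ObjectProperty.homMk η)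
    refine ⟨ξ'.hom, ?_⟩
    have h3 := congrArg (fun q => q.hom) hξ'
    rw [Adjunction.homEquiv_counit] at h3
    exact h3

end Groth.Agent.Lib.Helper26.CxM
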