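import Mathlib
import Groth.Prelude.Def_DescFam

set_option maxHeartbeats 400000
set_option backward.isDefEq.respectTransparency false
set_option backward.isDefEq.respectTransparency.types false

open CategoryTheory AlgebraicGeometry Limits

namespace Groth.Agent.Lib.Helper26.DDEq

universe w u

section abstract

variable {S : Scheme.{u}} {ι : Type w} {X : ι → Scheme.{u}} {f : ∀ i, X i ⟶ S}

/-- A functor on descent data equipped with natural point-equivalences to the identity. -/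
structure PtIso (G : Desc.SchDDFam f ⥤ Desc.SchDDFam f) where
  E : ∀ (D : Desc.SchDDFam f) (i : ι) {T : Scheme.{u}} (x : T ⟶ X i),
    Desc.Lifts ((G.obj D).obj i) x ≃ Desc.Lifts (D.obj i) x
  natural : ∀ (D : Desc.SchDDFam f) (i : ι) {T T' : Scheme.{u}} (g : T' ⟶ T) (x : T ⟶ X i)
    (y : T' ⟶ X i) (_ : g ≫ x = y) (v : Desc.Lifts ((G.obj D).obj i) x)
    (v' : Desc.Lifts ((G.obj D).obj i) y), v'.1 = g ≫ v.1 → (E D i y v').1 = g ≫ (E D i x v).1
  compat : ∀ (D : Desc.SchDDFam f) {i j : ι} {T : Scheme.{u}} (x₀ : T ⟶ X i) (x₁ : T ⟶ X j)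
    (h : x₀ ≫ f i = x₁ ≫ f j) (v : Desc.Lifts ((G.obj D).obj i) x₀),
    D.φ x₀ x₁ h (E D i x₀ v) = E D j x₁ ((G.obj D).φ x₀ x₁ h v)
  natD : ∀ {D D' : Desc.SchDDFam f} (a : D ⟶ D') (i : ι) {T : Scheme.{u}} (x : T ⟶ X i)
    (v : Desc.Lifts ((G.obj D).obj i) x),
    (E D' i x (Desc.SchDDFam.Hom.push (G.map a) v)).1 = (E D i x v).1 ≫ (a.hom i).left

variable {G : Desc.SchDDFam f ⥤ Desc.SchDDFam f} (P : PtIso G) (D : Desc.SchDDFam f)

lemma PtIso.symm_natural (i : ι) {T T' : Scheme.{u}} (g : T' ⟶ T) (x : T ⟶ X i) (y : T' ⟶ X i)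
    (hy : g ≫ x = y) (u : Desc.Lifts (D.obj i) x)
    (u' : Desc.Lifts (D.obj i) y) (hu : u'.1 = g ≫ u.1) :
    ((P.E D i y).symm u').1 = g ≫ ((P.E D i x).symm u).1 := by
  have hmem : (g ≫ ((P.E D i x).symm u).1) ≫ ((G.obj D).obj i).hom = y := by
    rw [Category.assoc, ((P.E D i x).symm u).2, hy]
  have := P.natural D i g x y hy ((P.E D i x).symm u) ⟨_, hmem⟩ rfl
  rw [Equiv.apply_symm_apply, ← hu] at this
  have h2 : P.E D i y ⟨_, hmem⟩ = u' := Subtype.ext this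
  rw [← h2, Equiv.symm_apply_apply]

/-- The universal point of `(G.obj D).obj i`. -/
def univ (i : ι) : Desc.Lifts ((G.obj D).obj i) ((G.obj D).obj i).hom := ⟨𝟙 _, Category.id_comp _⟩

/-- The universal point of `D.obj i`. -/
def univ' (i : ι) : Desc.Lifts (D.obj i) (D.obj i).hom := ⟨𝟙 _, Category.id_comp _⟩

/-- The component morphism. -/
def PtIso.η (i : ι) : (G.obj D).obj i ⟶ D.obj i :=
  Over.homMk (P.E D i _ (univ (G := G) D i)).1 (P.E D i _ (univ (G := G) D i)).2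

/-- The inverse component morphism. -/
def PtIso.θ (i : ι) : D.obj i ⟶ (G.obj D).obj i :=
  Over.homMk ((P.E D i _).symm (univ' D i)).1 ((P.E D i _).symm (univ' D i)).2

lemma PtIso.E_eq (i : ι) {T : Scheme.{u}} (x : T ⟶ X i) (v : Desc.Lifts ((G.obj D).obj i) x) :
    (P.E D i x v).1 = v.1 ≫ (P.η D i).left :=
  P.natural D i v.1 _ x v.2 (univ (G := G) D i) v (Category.comp_id _).symm

lemma PtIso.E_symm_eq (i : ι) {T : Scheme.{u}} (x : T ⟶ X i) (u : Desc.Lifts (D.obj i) x) :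
    ((P.E D i x).symm u).1 = u.1 ≫ (P.θ D i).left :=
  P.symm_natural D i u.1 _ x u.2 (univ' D i) u (Category.comp_id _).symm

lemma PtIso.η_θ (i : ι) : P.η D i ≫ P.θ D i = 𝟙 _ := by
  apply Over.OverMorphism.ext
  have := P.E_symm_eq D i _ (P.E D i _ (univ (G := G) D i))
  rw [Equiv.symm_apply_apply] at this
  exact this.symm

lemma PtIso.θ_η (i : ι) : P.θ D i ≫ P.η D i = 𝟙 _ := by
  apply Over.OverMorphism.ext
  have := P.E_eq D i _ ((P.E D i _).symm (univ' D i))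
  rw [Equiv.apply_symm_apply] at this
  exact this.symm

/-- The morphism of descent data. -/
def PtIso.ηHom : G.obj D ⟶ D :=
  ⟨fun i => P.η D i, fun T i j x₀ x₁ h v w hw => by
    have hw' : w = P.E D i x₀ v := Subtype.ext (hw.trans (P.E_eq D i x₀ v).symm)
    rw [hw', P.compat, P.E_eq]⟩

/-- The inverse morphism of descent data. -/
def PtIso.θHom : D ⟶ G.obj D :=
  ⟨fun i => P.θ D i, fun T i j x₀ x₁ h v w hw => by
    have hw' : w = (P.E D i x₀).symm v :=
      Subtype.ext (hw.trans (P.E_symm_eq D i x₀ v).symm)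
    rw [← P.E_symm_eq]
    congr 1
    rw [Equiv.eq_symm_apply, ← P.compat, hw', Equiv.apply_symm_apply]⟩

/-- The isomorphism of descent data. -/
def PtIso.isoD : G.obj D ≅ D where
  hom := P.ηHom D
  inv := P.θHom D
  hom_inv_id := by
    apply Desc.SchDDFam.hom_ext
    funext i
    exact P.η_θ D i
  inv_hom_id := by
    apply Desc.SchDDFam.hom_ext
    funext i
    exact P.θ_η D i

lemma PtIso.η_natural {D D' : Desc.SchDDFam f} (a : D ⟶ D') (i : ι) :
    ((G.map a).hom i).left ≫ (P.η D' i).left = (P.η D i).left ≫ (a.hom i).left := by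
  have h1 := P.natD a i _ (univ (G := G) D i)
  rw [P.E_eq] at h1
  simpa [Desc.SchDDFam.Hom.push, univ, PtIso.η] using h1

/-- The natural isomorphism. -/
def PtIso.natIso : G ≅ 𝟭 (Desc.SchDDFam f) :=
  NatIso.ofComponents (fun D => P.isoD D) (by
    intro D D' a
    apply Desc.SchDDFam.hom_ext
    funext i
    apply Over.OverMorphism.ext
    exact P.η_natural a i)

end abstract

section twostep

variable {S : Scheme.{u}} {ι : Type w} {X X' : ι → Scheme.{u}} {f : ∀ i, X i ⟶ S}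
  {f' : ∀ i, X' i ⟶ S} (r : ∀ i, X' i ⟶ X i) (hr : ∀ i, r i ≫ f i = f' i ≫ 𝟙 S)
  (s : ∀ i, X i ⟶ X' i) (hs : ∀ i, s i ≫ f' i = f i ≫ 𝟙 S)

/-- pullback along `r`. -/
noncomputable abbrev pullR : Desc.SchDDFam f ⥤ Desc.SchDDFam f' :=
  Desc.pullDDFam (f := f) (f' := f') (α := fun i => i) (p := 𝟙 S) (p' := r) hr

/-- pullback along `s`. -/
noncomputable abbrev pullS : Desc.SchDDFam f' ⥤ Desc.SchDDFam f :=
  Desc.pullDDFam (f := f') (f' := f) (α := fun i => i) (p := 𝟙 S) (p' := s) hs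

include hr hs in
lemma hrs (i : ι) {T : Scheme.{u}} (x : T ⟶ X' i) : ((x ≫ r i) ≫ s i) ≫ f' i = x ≫ f' i := by
  rw [Category.assoc, hs, Category.comp_id, Category.assoc, hr, Category.comp_id]

variable (D : Desc.SchDDFam f')

/-- The two-step point equivalence. -/
noncomputable def E2 (i : ι) {T : Scheme.{u}} (x : T ⟶ X' i) :
    Desc.Lifts (((pullS s hs ⋙ pullR r hr).obj D).obj i) x ≃ Desc.Lifts (D.obj i) x :=
  (Desc.liftsPullbackEquiv (((pullS s hs).obj D).obj i) (r i) x).trans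
    ((Desc.liftsPullbackEquiv (D.obj i) (s i) (x ≫ r i)).trans
      (D.φ ((x ≫ r i) ≫ s i) x (hrs r hr s hs i x)))

lemma E2_natural (i : ι) {T T' : Scheme.{u}} (g : T' ⟶ T) (x : T ⟶ X' i) (y : T' ⟶ X' i)
    (hy : g ≫ x = y) (v : Desc.Lifts (((pullS s hs ⋙ pullR r hr).obj D).obj i) x)
    (v' : Desc.Lifts (((pullS s hs ⋙ pullR r hr).obj D).obj i) y) (hv : v'.1 = g ≫ v.1) :
    (E2 r hr s hs D i y v').1 = g ≫ (E2 r hr s hs D i x v).1 := by
  unfold E2
  simp only [Equiv.trans_apply]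
  refine D.φ_natural g ((x ≫ r i) ≫ s i) x (hrs r hr s hs i x) ((y ≫ r i) ≫ s i) y
    (by rw [← hy]; simp only [Category.assoc]) hy (hrs r hr s hs i y) _ _ ?_
  simp [Desc.liftsPullbackEquiv, hv]

lemma E2_compat {i j : ι} {T : Scheme.{u}} (x₀ : T ⟶ X' i) (x₁ : T ⟶ X' j)
    (h : x₀ ≫ f' i = x₁ ≫ f' j)
    (v : Desc.Lifts (((pullS s hs ⋙ pullR r hr).obj D).obj i) x₀) :
    D.φ x₀ x₁ h (E2 r hr s hs D i x₀ v) =
      E2 r hr s hs D j x₁ (((pullS s hs ⋙ pullR r hr).obj D).φ x₀ x₁ h v) := by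
  unfold E2
  simp only [Equiv.trans_apply]
  rw [D.φ_comp]
  show _ = D.φ ((x₁ ≫ r j) ≫ s j) x₁ _ ((Desc.liftsPullbackEquiv (D.obj j) (s j) (x₁ ≫ r j))
    ((Desc.liftsPullbackEquiv (((pullS s hs).obj D).obj j) (r j) x₁)
      ((Desc.liftsPullbackEquiv (((pullS s hs).obj D).obj j) (r j) x₁).symm
        ((Desc.liftsPullbackEquiv (D.obj j) (s j) (x₁ ≫ r j)).symm
          (D.φ ((x₀ ≫ r i) ≫ s i) ((x₁ ≫ r j) ≫ s j) _
            (Desc.liftsPullbackEquiv (D.obj i) (s i) (x₀ ≫ r i)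
              (Desc.liftsPullbackEquiv (((pullS s hs).obj D).obj i) (r i) x₀ v)))))))
  rw [Equiv.apply_symm_apply, Equiv.apply_symm_apply, D.φ_comp]
  rfl

omit hr in
lemma pullR_map_fst {f : ∀ i, X i ⟶ S} {f' : ∀ i, X' i ⟶ S} (r : ∀ i, X' i ⟶ X i)
    (hr : ∀ i, r i ≫ f i = f' i ≫ 𝟙 S) {D D' : Desc.SchDDFam f} (a : D ⟶ D') (i : ι) :
    (((pullR r hr).map a).hom i).left ≫ pullback.fst (D'.obj i).hom (r i) =
      pullback.fst (D.obj i).hom (r i) ≫ (a.hom i).left := by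
  show pullback.map (D.obj i).hom (r i) (D'.obj i).hom (r i) (a.hom i).left (𝟙 _) (𝟙 _)
    (by simp [Over.w]) (by simp) ≫ pullback.fst (D'.obj i).hom (r i) = _
  simp

lemma E2_natD {D D' : Desc.SchDDFam f'} (a : D ⟶ D') (i : ι) {T : Scheme.{u}} (x : T ⟶ X' i)
    (v : Desc.Lifts (((pullS s hs ⋙ pullR r hr).obj D).obj i) x) :
    (E2 r hr s hs D' i x (Desc.SchDDFam.Hom.push ((pullS s hs ⋙ pullR r hr).map a) v)).1 =
      (E2 r hr s hs D i x v).1 ≫ (a.hom i).left := by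
  unfold E2
  simp only [Equiv.trans_apply]
  refine a.comm _ _ _ _ _ ?_
  simp only [Desc.liftsPullbackEquiv, Equiv.coe_fn_mk, Desc.SchDDFam.Hom.push, Category.assoc,
    Functor.comp_map]
  have h1 := pullR_map_fst r hr ((pullS s hs).map a) i
  have h2 := pullR_map_fst s hs a i
  rw [reassoc_of% h1, h2]

/-- The point-iso structure on the two-step composite. -/
noncomputable def ptIso2 : PtIso (pullS s hs ⋙ pullR r hr) where
  E D i _ x := E2 r hr s hs D i x
  natural D i _ _ g x y hy v v' hv := E2_natural r hr s hs D i g x y hy v v' hv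
  compat D _ _ _ x₀ x₁ h v := E2_compat r hr s hs D x₀ x₁ h v
  natD a i _ x v := E2_natD r hr s hs a i x v

/-- The equivalence. -/
noncomputable def equiv : Desc.SchDDFam f ≌ Desc.SchDDFam f' :=
  CategoryTheory.Equivalence.mk (pullR r hr) (pullS s hs) (ptIso2 s hs r hr).natIso.symm (ptIso2 r hr s hs).natIso

include s hs in
lemma isEquivalence_pullR : (pullR r hr).IsEquivalence :=
  (equiv r hr s hs).isEquivalence_functor

end twostep

section main

theorem main {X X' S : Scheme.{u}} (a : X ⟶ S) (a' : X' ⟶ S) (f : X' ⟶ X)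
    (h : f ≫ a = a') (hg : ∃ g : X ⟶ X', g ≫ a' = a) :
    (Desc.pullDDFam (f := fun _ : PUnit.{u + 1} => a) (f' := fun _ : PUnit.{u + 1} => a') (α := fun j => j)
        (p := 𝟙 S) (p' := fun _ => f) (fun _ => (h).trans (Category.comp_id a').symm)).IsEquivalence := by
  obtain ⟨g, hg⟩ := hg
  exact isEquivalence_pullR (f := fun _ : PUnit.{u + 1} => a) (f' := fun _ : PUnit.{u + 1} => a')
    (fun _ => f) (fun _ => (h).trans (Category.comp_id a').symm)
    (fun _ => g) (fun _ => hg.trans (Category.comp_id a).symm)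

end main

end Groth.Agent.Lib.Helper26.DDEq
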