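import Mathlib
import Groth.Prelude.Def_DescFam

set_option maxHeartbeats 400000
set_option backward.isDefEq.respectTransparency false
set_option backward.isDefEq.respectTransparency.types false

open CategoryTheory AlgebraicGeometry Limits

namespace Groth.Agent.Lib.Helper26.DDSelf

universe w u

variable {S : Scheme.{u}} {ι : Type w} {X : ι → Scheme.{u}} {f : ∀ i, X i ⟶ S}
  (q : ∀ i, X i ⟶ X i) (hq : ∀ i, q i ≫ f i = f i ≫ 𝟙 S)

include hq in
lemma hq' (i : ι) {T : Scheme.{u}} (x : T ⟶ X i) : (x ≫ q i) ≫ f i = x ≫ f i := by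
  rw [Category.assoc, hq, Category.comp_id]

/-- The pullback functor. -/
noncomputable abbrev P : Desc.SchDDFam f ⥤ Desc.SchDDFam f :=
  Desc.pullDDFam (f := f) (f' := f) (α := fun i => i) (p := 𝟙 S) (p' := q) hq

variable (D : Desc.SchDDFam f)

/-- The equivalence on points. -/
noncomputable def E (i : ι) {T : Scheme.{u}} (x : T ⟶ X i) :
    Desc.Lifts (((P q hq).obj D).obj i) x ≃ Desc.Lifts (D.obj i) x :=
  (Desc.liftsPullbackEquiv (D.obj i) (q i) x).trans (D.φ (x ≫ q i) x (hq' q hq i x))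

lemma E_natural (i : ι) {T T' : Scheme.{u}} (g : T' ⟶ T) (x : T ⟶ X i) (y : T' ⟶ X i)
    (hy : g ≫ x = y) (v : Desc.Lifts (((P q hq).obj D).obj i) x)
    (v' : Desc.Lifts (((P q hq).obj D).obj i) y) (hv : v'.1 = g ≫ v.1) :
    (E q hq D i y v').1 = g ≫ (E q hq D i x v).1 := by
  unfold E
  simp only [Equiv.trans_apply]
  refine D.φ_natural g (x ≫ q i) x (hq' q hq i x) (y ≫ q i) y (by rw [← hy, Category.assoc]) hy
    (hq' q hq i y) _ _ ?_
  simp [Desc.liftsPullbackEquiv, hv]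

lemma E_symm_natural (i : ι) {T T' : Scheme.{u}} (g : T' ⟶ T) (x : T ⟶ X i) (y : T' ⟶ X i)
    (hy : g ≫ x = y) (u : Desc.Lifts (D.obj i) x)
    (u' : Desc.Lifts (D.obj i) y) (hu : u'.1 = g ≫ u.1) :
    ((E q hq D i y).symm u').1 = g ≫ ((E q hq D i x).symm u).1 := by
  have hmem : (g ≫ ((E q hq D i x).symm u).1) ≫ (((P q hq).obj D).obj i).hom = y := by
    rw [Category.assoc, ((E q hq D i x).symm u).2, hy]
  have := E_natural q hq D i g x y hy ((E q hq D i x).symm u) ⟨_, hmem⟩ rfl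
  rw [Equiv.apply_symm_apply, ← hu] at this
  have h2 : E q hq D i y ⟨_, hmem⟩ = u' := Subtype.ext this
  rw [← h2, Equiv.symm_apply_apply]

/-- The universal point of the pullback. -/
noncomputable def univ (i : ι) :
    Desc.Lifts (((P q hq).obj D).obj i) (((P q hq).obj D).obj i).hom := ⟨𝟙 _, Category.id_comp _⟩

/-- The universal point of `D.obj i`. -/
def univ' (i : ι) : Desc.Lifts (D.obj i) (D.obj i).hom := ⟨𝟙 _, Category.id_comp _⟩

/-- The component morphism. -/
noncomputable def η (i : ι) : ((P q hq).obj D).obj i ⟶ D.obj i :=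
  Over.homMk (E q hq D i _ (univ q hq D i)).1 (E q hq D i _ (univ q hq D i)).2

/-- The inverse component morphism. -/
noncomputable def θ (i : ι) : D.obj i ⟶ ((P q hq).obj D).obj i :=
  Over.homMk ((E q hq D i _).symm (univ' D i)).1 ((E q hq D i _).symm (univ' D i)).2

lemma E_eq (i : ι) {T : Scheme.{u}} (x : T ⟶ X i) (v : Desc.Lifts (((P q hq).obj D).obj i) x) :
    (E q hq D i x v).1 = v.1 ≫ (η q hq D i).left :=
  E_natural q hq D i v.1 _ x v.2 (univ q hq D i) v (Category.comp_id _).symm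

lemma E_symm_eq (i : ι) {T : Scheme.{u}} (x : T ⟶ X i) (u : Desc.Lifts (D.obj i) x) :
    ((E q hq D i x).symm u).1 = u.1 ≫ (θ q hq D i).left :=
  E_symm_natural q hq D i u.1 _ x u.2 (univ' D i) u (Category.comp_id _).symm

lemma η_θ (i : ι) : η q hq D i ≫ θ q hq D i = 𝟙 _ := by
  apply Over.OverMorphism.ext
  have := E_symm_eq q hq D i _ (E q hq D i _ (univ q hq D i))
  rw [Equiv.symm_apply_apply] at this
  exact this.symm

lemma θ_η (i : ι) : θ q hq D i ≫ η q hq D i = 𝟙 _ := by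
  apply Over.OverMorphism.ext
  have := E_eq q hq D i _ ((E q hq D i _).symm (univ' D i))
  rw [Equiv.apply_symm_apply] at this
  exact this.symm

lemma E_φ {i j : ι} {T : Scheme.{u}} (x₀ : T ⟶ X i) (x₁ : T ⟶ X j) (h : x₀ ≫ f i = x₁ ≫ f j)
    (v : Desc.Lifts (((P q hq).obj D).obj i) x₀) :
    D.φ x₀ x₁ h (E q hq D i x₀ v) = E q hq D j x₁ (((P q hq).obj D).φ x₀ x₁ h v) := by
  unfold E
  simp only [Equiv.trans_apply]
  rw [D.φ_comp]
  show _ = D.φ (x₁ ≫ q j) x₁ _ ((Desc.liftsPullbackEquiv (D.obj j) (q j) x₁)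
    ((Desc.liftsPullbackEquiv (D.obj j) (q j) x₁).symm
      (D.φ (x₀ ≫ q i) (x₁ ≫ q j) _ (Desc.liftsPullbackEquiv (D.obj i) (q i) x₀ v))))
  rw [Equiv.apply_symm_apply, D.φ_comp]
  rfl

/-- The morphism of descent data. -/
noncomputable def ηHom : (P q hq).obj D ⟶ D :=
  ⟨fun i => η q hq D i, fun T i j x₀ x₁ h v w hw => by
    have hw' : w = E q hq D i x₀ v := Subtype.ext (hw.trans (E_eq q hq D i x₀ v).symm)
    rw [hw', E_φ, E_eq]⟩

/-- The inverse morphism of descent data. -/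
noncomputable def θHom : D ⟶ (P q hq).obj D :=
  ⟨fun i => θ q hq D i, fun T i j x₀ x₁ h v w hw => by
    have hw' : w = (E q hq D i x₀).symm v :=
      Subtype.ext (hw.trans (E_symm_eq q hq D i x₀ v).symm)
    rw [← E_symm_eq]
    congr 1
    rw [Equiv.eq_symm_apply, ← E_φ, hw', Equiv.apply_symm_apply]⟩

/-- The isomorphism of descent data. -/
noncomputable def isoD : (P q hq).obj D ≅ D where
  hom := ηHom q hq D
  inv := θHom q hq D
  hom_inv_id := by
    apply Desc.SchDDFam.hom_ext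
    funext i
    exact η_θ q hq D i
  inv_hom_id := by
    apply Desc.SchDDFam.hom_ext
    funext i
    exact θ_η q hq D i

lemma η_natural {D D' : Desc.SchDDFam f} (a : D ⟶ D') (i : ι) :
    (((P q hq).map a).hom i).left ≫ (η q hq D' i).left = (η q hq D i).left ≫ (a.hom i).left := by
  have hm : (((P q hq).map a).hom i).left ≫ (((P q hq).obj D').obj i).hom =
      (((P q hq).obj D).obj i).hom := Over.w (((P q hq).map a).hom i)
  rw [← E_eq q hq D' i _ ⟨_, hm⟩]
  unfold E η
  simp only [Equiv.trans_apply, Over.homMk_left]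
  refine a.comm _ _ _ _ _ ?_
  simp only [Desc.liftsPullbackEquiv, univ, Equiv.coe_fn_mk, Category.id_comp]
  show pullback.map (D.obj i).hom (q i) (D'.obj i).hom (q i) (a.hom i).left (𝟙 _) (𝟙 _)
    (by simp [Over.w]) (by simp) ≫ pullback.fst (D'.obj i).hom (q i) = _
  simp

/-- The natural isomorphism. -/
noncomputable def natIso : P q hq ≅ 𝟭 (Desc.SchDDFam f) :=
  NatIso.ofComponents (fun D => isoD q hq D) (by
    intro D D' a
    apply Desc.SchDDFam.hom_ext
    funext i
    apply Over.OverMorphism.ext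
    exact η_natural q hq a i)

theorem main {X S : Scheme.{u}} (a : X ⟶ S) (f : X ⟶ X) (h : f ≫ a = a) :
    Nonempty (Desc.pullDDFam (f := fun _ : PUnit.{u + 1} => a) (f' := fun _ : PUnit.{u + 1} => a) (α := fun j => j)
        (p := 𝟙 S) (p' := fun _ => f) (fun _ => (h).trans (Category.comp_id a).symm) ≅
      𝟭 (Desc.SchDDFam (fun _ : PUnit.{u + 1} => a))) :=
  ⟨natIso (fun _ => f) (fun _ => (h).trans (Category.comp_id a).symm)⟩

end Groth.Agent.Lib.Helper26.DDSelf
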