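import Mathlib.RingTheory.Length
import Mathlib.RingTheory.DiscreteValuationRing.Basic
import Mathlib.RingTheory.LocalRing.ResidueField.Basic
import Mathlib.LinearAlgebra.TensorProduct.Quotient
import Mathlib.RingTheory.Ideal.Operations
import Mathlib.RingTheory.TensorProduct.Finite
import Mathlib.Algebra.Module.Torsion.Basic

/-!
Lengths of torsion modules over a discrete valuation ring.
-/

set_option autoImplicit false
universe u v

namespace Groth.Agent.Lib.Helper26.DVRTorsion

open IsLocalRing TensorProduct Pointwise

variable {R : Type u} [CommRing R] [IsDomain R] [IsDiscreteValuationRing R]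
variable (ϖ : R) (hϖ : Irreducible ϖ)

section
variable (M : Type v) [AddCommGroup M] [Module R M]

/-- multiplication by `ϖ` -/
abbrev φ : M →ₗ[R] M := DistribMulAction.toLinearMap R M ϖ

lemma ker_φ : LinearMap.ker (φ ϖ M) = Submodule.torsionBy R M ϖ := by
  ext x
  rfl

lemma range_φ : LinearMap.range (φ ϖ M) = ϖ • (⊤ : Submodule R M) := by
  rw [LinearMap.range_eq_map]
  rfl

variable (R) in
/-- `k ⊗ M ≅ M / m M` -/
noncomputable def quotEquiv₀ :
    ResidueField R ⊗[R] M ≃ₗ[R] M ⧸ (maximalIdeal R • (⊤ : Submodule R M)) :=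
  TensorProduct.quotTensorEquivQuotSMul M (maximalIdeal R)

include hϖ in
lemma maximalIdeal_smul_top : maximalIdeal R • (⊤ : Submodule R M) = LinearMap.range (φ ϖ M) := by
  rw [hϖ.maximalIdeal_eq, Submodule.ideal_span_singleton_smul, range_φ]

lemma length_tensor [Module.Finite R M] :
    Module.length R (ResidueField R ⊗[R] M)
      = (Module.finrank (ResidueField R) (ResidueField R ⊗[R] M) : ℕ∞) := by
  rw [Module.length_eq_of_surjective (S := R) (R := ResidueField R)
    (M := ResidueField R ⊗[R] M) IsLocalRing.residue_surjective, Module.length_eq_finrank]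

include hϖ in
lemma length_quot [Module.Finite R M] :
    Module.length R (M ⧸ LinearMap.range (φ ϖ M))
      = (Module.finrank (ResidueField R) (ResidueField R ⊗[R] M) : ℕ∞) := by
  rw [← length_tensor, ← maximalIdeal_smul_top ϖ hϖ M]
  exact (quotEquiv₀ R M).length_eq.symm

lemma length_ker_eq (hfin : Module.length R M ≠ ⊤) :
    Module.length R (LinearMap.ker (φ ϖ M)) = Module.length R (M ⧸ LinearMap.range (φ ϖ M)) := by
  have e1 := Module.length_eq_add_of_exact (LinearMap.ker (φ ϖ M)).subtype (φ ϖ M).rangeRestrict
    (Submodule.subtype_injective _) (LinearMap.surjective_rangeRestrict _)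
    (by
      rw [LinearMap.exact_iff, LinearMap.ker_rangeRestrict, Submodule.range_subtype])
  have e2 := Module.length_eq_add_of_exact (LinearMap.range (φ ϖ M)).subtype
    (LinearMap.range (φ ϖ M)).mkQ (Submodule.subtype_injective _) (Submodule.mkQ_surjective _)
    (by
      rw [LinearMap.exact_iff, Submodule.ker_mkQ, Submodule.range_subtype])
  have hr : Module.length R (LinearMap.range (φ ϖ M)) ≠ ⊤ := by
    intro h
    rw [h, top_add] at e2
    exact hfin e2
  rw [e1, add_comm] at e2
  exact WithTop.add_left_cancel hr e2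

end

include hϖ in
lemma length_ne_top : ∀ (n : ℕ) (M : Type v) [AddCommGroup M] [Module R M] [Module.Finite R M],
    (∀ m : M, ϖ ^ n • m = 0) → Module.length R M ≠ ⊤ := by
  intro n
  induction n with
  | zero =>
    intro M _ _ _ h
    haveI : Subsingleton M := ⟨fun a b => by
      have ha := h a
      have hb := h b
      rw [pow_zero, one_smul] at ha hb
      rw [ha, hb]⟩
    rw [Module.length_eq_zero]
    exact ENat.zero_ne_top
  | succ n ih =>
    intro M _ _ _ h
    have e2 := Module.length_eq_add_of_exact (LinearMap.range (φ ϖ M)).subtype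
      (LinearMap.range (φ ϖ M)).mkQ (Submodule.subtype_injective _) (Submodule.mkQ_surjective _)
      (by
        rw [LinearMap.exact_iff, Submodule.ker_mkQ, Submodule.range_subtype])
    have h1 : Module.length R (LinearMap.range (φ ϖ M)) ≠ ⊤ := by
      apply ih
      rintro ⟨_, y, rfl⟩
      apply Subtype.ext
      show ϖ ^ n • (ϖ • y) = 0
      rw [smul_smul, ← pow_succ]
      exact h y
    have h2 : Module.length R (M ⧸ LinearMap.range (φ ϖ M)) ≠ ⊤ := by
      rw [length_quot ϖ hϖ M]
      exact ENat.natCast_ne_top _
    rw [e2]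
    intro htop
    rcases ENat.add_eq_top.mp htop with h' | h'
    · exact h1 h'
    · exact h2 h'

include hϖ in
/-- for a finitely generated module killed by a power of `ϖ`, the `ϖ`-torsion has length
`dim_k (k ⊗ M)` -/
theorem length_torsionBy (n : ℕ) (M : Type v) [AddCommGroup M] [Module R M] [Module.Finite R M]
    (h : ∀ m : M, ϖ ^ n • m = 0) :
    Module.length R (Submodule.torsionBy R M ϖ)
      = (Module.finrank (ResidueField R) (ResidueField R ⊗[R] M) : ℕ∞) := by
  rw [← ker_φ, length_ker_eq ϖ M (length_ne_top ϖ hϖ n M h), length_quot ϖ hϖ M]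

end Groth.Agent.Lib.Helper26.DVRTorsion
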