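import Groth.Agent.Lib.Helper26.DVRTorsion
import Mathlib.LinearAlgebra.Dual.Lemmas
import Mathlib.RingTheory.TensorProduct.Basic

/-!
The dual of a torsion module over a discrete valuation ring.
-/

set_option autoImplicit false
universe u v

namespace Groth.Agent.Lib.Helper26.DVRTorsion

open IsLocalRing TensorProduct Pointwise

variable {R : Type u} [CommRing R] [IsDomain R] [IsDiscreteValuationRing R]
variable (ϖ : R) (hϖ : Irreducible ϖ)

section Socle

variable (n' : ℕ)

/-- `r ↦ ϖ^n' r mod ϖ^(n'+1)` -/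
noncomputable def ψ : R →ₗ[R] (R ⧸ Ideal.span {ϖ ^ (n' + 1)}) :=
  (Ideal.span {ϖ ^ (n' + 1)}).mkQ ∘ₗ (LinearMap.lsmul R R (ϖ ^ n'))

lemma ψ_apply (r : R) : ψ ϖ n' r = Ideal.Quotient.mk _ (ϖ ^ n' * r) := rfl

include hϖ in
lemma ker_ψ : LinearMap.ker (ψ ϖ n') = maximalIdeal R := by
  ext r
  rw [LinearMap.mem_ker, ψ_apply, Ideal.Quotient.eq_zero_iff_mem, Ideal.mem_span_singleton,
    hϖ.maximalIdeal_eq, Ideal.mem_span_singleton, pow_succ,
    mul_dvd_mul_iff_left (pow_ne_zero _ hϖ.ne_zero)]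

include hϖ in
lemma range_ψ : LinearMap.range (ψ ϖ n')
    = Submodule.torsionBy R (R ⧸ Ideal.span {ϖ ^ (n' + 1)}) ϖ := by
  ext y
  obtain ⟨x, rfl⟩ := Ideal.Quotient.mk_surjective y
  rw [Submodule.mem_torsionBy_iff, LinearMap.mem_range]
  constructor
  · rintro ⟨r, hr⟩
    rw [← hr, ψ_apply, Algebra.smul_def, Ideal.Quotient.algebraMap_eq, ← map_mul,
      Ideal.Quotient.eq_zero_iff_mem, Ideal.mem_span_singleton, ← mul_assoc, ← pow_succ']
    exact Dvd.intro _ rfl
  · intro h
    rw [Algebra.smul_def, Ideal.Quotient.algebraMap_eq, ← map_mul,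
      Ideal.Quotient.eq_zero_iff_mem, Ideal.mem_span_singleton, pow_succ',
      mul_dvd_mul_iff_left hϖ.ne_zero] at h
    obtain ⟨r, rfl⟩ := h
    exact ⟨r, rfl⟩

include hϖ in
/-- the socle of `R/ϖ^(n'+1)` is the residue field -/
noncomputable def socleEquiv :
    ResidueField R ≃ₗ[R] Submodule.torsionBy R (R ⧸ Ideal.span {ϖ ^ (n' + 1)}) ϖ :=
  (Submodule.quotEquivOfEq _ _ (ker_ψ ϖ hϖ n').symm) ≪≫ₗ (ψ ϖ n').quotKerEquivRange ≪≫ₗ
    LinearEquiv.ofEq _ _ (range_ψ ϖ hϖ n')

end Socle

section Dual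

variable (M : Type v) [AddCommGroup M] [Module R M]

/-- maps killed by `ϖ` are maps into the `ϖ`-torsion -/
noncomputable def torsionHomEquiv (E : Type u) [AddCommGroup E] [Module R E] :
    Submodule.torsionBy R (M →ₗ[R] E) ϖ ≃ₗ[R] (M →ₗ[R] Submodule.torsionBy R E ϖ) where
  toFun f := LinearMap.codRestrict (Submodule.torsionBy R E ϖ) f.1 (fun m => by
    rw [Submodule.mem_torsionBy_iff]
    have := f.2
    rw [Submodule.mem_torsionBy_iff] at this
    exact LinearMap.congr_fun this m)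
  invFun g := ⟨(Submodule.torsionBy R E ϖ).subtype ∘ₗ g, by
    rw [Submodule.mem_torsionBy_iff]
    ext m
    have := (g m).2
    rw [Submodule.mem_torsionBy_iff] at this
    exact this⟩
  map_add' _ _ := rfl
  map_smul' _ _ := rfl
  left_inv _ := rfl
  right_inv _ := rfl

lemma length_hom_residueField [Module.Finite R M] :
    Module.length R (M →ₗ[R] ResidueField R)
      = (Module.finrank (ResidueField R) (ResidueField R ⊗[R] M) : ℕ∞) := by
  rw [Module.length_eq_of_surjective (S := R) (R := ResidueField R)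
    (M := M →ₗ[R] ResidueField R) IsLocalRing.residue_surjective,
    (LinearMap.liftBaseChangeEquiv (R := R) (M := M) (N := ResidueField R)
      (ResidueField R)).length_eq]
  have : Module.length (ResidueField R) (ResidueField R ⊗[R] M →ₗ[ResidueField R] ResidueField R)
      = Module.length (ResidueField R) (Module.Dual (ResidueField R) (ResidueField R ⊗[R] M)) := rfl
  rw [this, Module.length_eq_finrank, Subspace.dual_finrank_eq]

set_option backward.isDefEq.respectTransparency false in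
include hϖ in
/-- `dim_k (k ⊗ Hom(M, R/ϖ^n)) = dim_k (k ⊗ M)` for `M` killed by `ϖ^n` -/
theorem finrank_dual (n : ℕ) [Module.Finite R M] (hM : ∀ m : M, ϖ ^ n • m = 0) :
    Module.finrank (ResidueField R)
        (ResidueField R ⊗[R] (M →ₗ[R] (R ⧸ Ideal.span {ϖ ^ n})))
      = Module.finrank (ResidueField R) (ResidueField R ⊗[R] M) := by
  haveI : IsNoetherian R M := isNoetherian_of_isNoetherianRing_of_finite R M
  rcases n with _ | n'
  · -- `M` is trivial
    haveI : Subsingleton M := ⟨fun a b => by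
      have ha := hM a
      have hb := hM b
      rw [pow_zero, one_smul] at ha hb
      rw [ha, hb]⟩
    haveI : Subsingleton (M →ₗ[R] (R ⧸ Ideal.span {ϖ ^ 0})) :=
      ⟨fun f g => LinearMap.ext fun m => by rw [Subsingleton.elim m 0, map_zero, map_zero]⟩
    rw [Module.finrank_zero_of_subsingleton, Module.finrank_zero_of_subsingleton]
  · have hdual : ∀ f : M →ₗ[R] (R ⧸ Ideal.span {ϖ ^ (n' + 1)}), ϖ ^ (n' + 1) • f = 0 := by
      intro f
      ext m
      obtain ⟨x, hx⟩ := Ideal.Quotient.mk_surjective (f m)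
      rw [LinearMap.smul_apply, LinearMap.zero_apply, ← hx, Algebra.smul_def,
        Ideal.Quotient.algebraMap_eq, ← map_mul, Ideal.Quotient.eq_zero_iff_mem,
        Ideal.mem_span_singleton]
      exact Dvd.intro _ rfl
    have h1 := length_torsionBy ϖ hϖ (n' + 1) (M →ₗ[R] (R ⧸ Ideal.span {ϖ ^ (n' + 1)})) hdual
    have h2 : Module.length R
        (Submodule.torsionBy R (M →ₗ[R] (R ⧸ Ideal.span {ϖ ^ (n' + 1)})) ϖ)
        = Module.length R (M →ₗ[R] ResidueField R) := by
      have e1 : Module.length R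
          (Submodule.torsionBy R (M →ₗ[R] (R ⧸ Ideal.span {ϖ ^ (n' + 1)})) ϖ)
          = Module.length R
              (M →ₗ[R] Submodule.torsionBy R (R ⧸ Ideal.span {ϖ ^ (n' + 1)}) ϖ) :=
        LinearEquiv.length_eq (torsionHomEquiv ϖ M (R ⧸ Ideal.span {ϖ ^ (n' + 1)}))
      have e2 : Module.length R (M →ₗ[R] ResidueField R)
          = Module.length R
              (M →ₗ[R] Submodule.torsionBy R (R ⧸ Ideal.span {ϖ ^ (n' + 1)}) ϖ) :=
        LinearEquiv.length_eq (LinearEquiv.congrRight (socleEquiv ϖ hϖ n'))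
      rw [e1, e2]
    rw [h2, length_hom_residueField] at h1
    exact_mod_cast h1.symm

end Dual

end Groth.Agent.Lib.Helper26.DVRTorsion
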