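import Groth.Agent.Lib.Helper26.DVRTorsion
import Mathlib.LinearAlgebra.FreeModule.PID
import Mathlib.LinearAlgebra.TensorProduct.Prod
import Mathlib.LinearAlgebra.Dimension.Constructions
import Mathlib.Algebra.Module.Projective
import Mathlib.LinearAlgebra.Dimension.Finite

/-!
Number of generators of a finitely generated module over a discrete valuation ring.
-/

set_option autoImplicit false
universe u v

namespace Groth.Agent.Lib.Helper26.DVRTorsion

open IsLocalRing TensorProduct Pointwise

variable {R : Type u} [CommRing R] [IsDomain R] [IsDiscreteValuationRing R]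
variable (ϖ : R) (hϖ : Irreducible ϖ)
variable (M : Type u) [AddCommGroup M] [Module R M] [Module.Finite R M]

include hϖ in
/-- a finitely generated torsion module is killed by a power of `ϖ` -/
lemma exists_pow_smul_torsion : ∃ n : ℕ, ∀ t : Submodule.torsion R M, ϖ ^ n • t = 0 := by
  classical
  haveI : IsNoetherian R M := isNoetherian_of_isNoetherianRing_of_finite R M
  obtain ⟨S, hS⟩ := (IsNoetherian.noetherian (Submodule.torsion R M))
  have hmem : ∀ s ∈ S, ∃ a : R, a ≠ 0 ∧ a • s = 0 := by
    intro s hs
    have : s ∈ Submodule.torsion R M := by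
      rw [← hS]; exact Submodule.subset_span hs
    obtain ⟨a, ha⟩ := (Submodule.mem_torsion_iff s).mp this
    exact ⟨a, nonZeroDivisors.ne_zero a.2, ha⟩
  choose! a ha0 ha using hmem
  set A : R := ∏ s ∈ S, a s with hA
  have hA0 : A ≠ 0 := Finset.prod_ne_zero_iff.mpr fun s hs => ha0 s hs
  have hkill : ∀ x ∈ Submodule.torsion R M, A • x = 0 := by
    intro x hx
    rw [← hS] at hx
    induction hx using Submodule.span_induction with
    | mem s hs =>
      obtain ⟨c, hc⟩ := Finset.dvd_prod_of_mem a hs
      rw [hA, hc, mul_comm, mul_smul, ha s hs, smul_zero]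
    | zero => rw [smul_zero]
    | add x y _ _ hx hy => rw [smul_add, hx, hy, add_zero]
    | smul r x _ hx => rw [smul_comm, hx, smul_zero]
  obtain ⟨n, u, hu⟩ := IsDiscreteValuationRing.eq_unit_mul_pow_irreducible hA0 hϖ
  refine ⟨n, fun t => Subtype.ext ?_⟩
  have h1 := hkill t.1 t.2
  rw [hu, mul_smul] at h1
  have h2 := congrArg (fun z => (↑u⁻¹ : R) • z) h1
  simp only [smul_zero] at h2
  rw [smul_smul, Units.inv_mul, one_smul] at h2
  exact h2

/-- splitting off the torsion -/
lemma exists_equiv_torsion_prod :
    Nonempty (M ≃ₗ[R] (Submodule.torsion R M × (M ⧸ Submodule.torsion R M))) := by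
  haveI : Module.Free R (M ⧸ Submodule.torsion R M) := Module.free_of_finite_type_torsion_free'
  obtain ⟨s, hs⟩ := Module.projective_lifting_property (Submodule.torsion R M).mkQ
    (LinearMap.id : (M ⧸ Submodule.torsion R M) →ₗ[R] _) (Submodule.mkQ_surjective _)
  have hs' : ∀ x, (Submodule.torsion R M).mkQ (s x) = x := fun x => LinearMap.congr_fun hs x
  let e : (Submodule.torsion R M × (M ⧸ Submodule.torsion R M)) →ₗ[R] M :=
    LinearMap.coprod (Submodule.torsion R M).subtype s
  have hinj : Function.Injective e := by
    rw [injective_iff_map_eq_zero]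
    rintro ⟨t, x⟩ h
    have h0 : (t : M) + s x = 0 := h
    have h1 := congrArg (Submodule.torsion R M).mkQ h0
    rw [map_add, hs', map_zero, Submodule.mkQ_apply,
      (Submodule.Quotient.mk_eq_zero _).mpr t.2, zero_add] at h1
    subst h1
    rw [map_zero, add_zero] at h0
    exact Prod.ext (Subtype.ext h0) rfl
  have hsurj : Function.Surjective e := by
    intro m
    have hm : m - s ((Submodule.torsion R M).mkQ m) ∈ Submodule.torsion R M := by
      have : (Submodule.torsion R M).mkQ (m - s ((Submodule.torsion R M).mkQ m)) = 0 := by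
        rw [map_sub, hs', sub_self]
      rwa [Submodule.mkQ_apply, Submodule.Quotient.mk_eq_zero] at this
    refine ⟨(⟨_, hm⟩, (Submodule.torsion R M).mkQ m), ?_⟩
    show (m - s ((Submodule.torsion R M).mkQ m)) + s ((Submodule.torsion R M).mkQ m) = m
    abel
  exact ⟨(LinearEquiv.ofBijective e ⟨hinj, hsurj⟩).symm⟩

/-- base change of a product to a field -/
lemma finrank_tensor_prod (K : Type u) [Field K] [Algebra R K]
    (X Y : Type u) [AddCommGroup X] [Module R X] [AddCommGroup Y] [Module R Y]
    [Module.Finite R X] [Module.Finite R Y] :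
    Module.finrank K (K ⊗[R] (X × Y))
      = Module.finrank K (K ⊗[R] X) + Module.finrank K (K ⊗[R] Y) := by
  rw [(TensorProduct.prodRight R K K X Y).finrank_eq, Module.finrank_prod]

lemma subsingleton_fractionRing_tensor_torsion :
    Subsingleton (FractionRing R ⊗[R] Submodule.torsion R M) := by
  refine ⟨fun x y => ?_⟩
  have h : ∀ z : FractionRing R ⊗[R] Submodule.torsion R M, z = 0 := by
    intro z
    induction z using TensorProduct.induction_on with
    | zero => rfl
    | tmul c t =>
      obtain ⟨a, ha⟩ := (Submodule.mem_torsion_iff (t : M)).mp t.2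
      have ha0 : algebraMap R (FractionRing R) a ≠ 0 := by
        rw [Ne, map_eq_zero_iff _ (IsFractionRing.injective R (FractionRing R))]
        exact nonZeroDivisors.ne_zero a.2
      have hat : (a : R) • t = 0 := Subtype.ext ha
      have : c = (c / algebraMap R (FractionRing R) a) * algebraMap R (FractionRing R) a := by
        rw [div_mul_cancel₀ _ ha0]
      rw [this, mul_comm, ← Algebra.smul_def, TensorProduct.smul_tmul, hat, tmul_zero]
    | add z z' hz hz' => rw [hz, hz', add_zero]
  rw [h x, h y]

include hϖ in
/-- `dim_k (k ⊗ M) = dim_k (k ⊗ M[ϖ]) + dim_K (K ⊗ M)` -/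
theorem finrank_tensor_eq :
    Module.finrank (ResidueField R) (ResidueField R ⊗[R] M) =
      Module.finrank (ResidueField R) (ResidueField R ⊗[R] ↥(Submodule.torsionBy R M ϖ)) +
        Module.finrank (FractionRing R) (FractionRing R ⊗[R] M) := by
  haveI : IsNoetherian R M := isNoetherian_of_isNoetherianRing_of_finite R M
  haveI : Module.Free R (M ⧸ Submodule.torsion R M) := Module.free_of_finite_type_torsion_free'
  obtain ⟨e⟩ := exists_equiv_torsion_prod (R := R) M
  -- the two base changes
  have h1 : Module.finrank (ResidueField R) (ResidueField R ⊗[R] M)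
      = Module.finrank (ResidueField R) (ResidueField R ⊗[R] Submodule.torsion R M)
        + Module.finrank R (M ⧸ Submodule.torsion R M) := by
    rw [(LinearEquiv.baseChange R (ResidueField R) _ _ e).finrank_eq, finrank_tensor_prod,
      Module.finrank_baseChange (R := ResidueField R) (S := R)
        (M' := M ⧸ Submodule.torsion R M)]
  have h2 : Module.finrank (FractionRing R) (FractionRing R ⊗[R] M)
      = Module.finrank R (M ⧸ Submodule.torsion R M) := by
    haveI := subsingleton_fractionRing_tensor_torsion (R := R) M
    rw [(LinearEquiv.baseChange R (FractionRing R) _ _ e).finrank_eq, finrank_tensor_prod,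
      Module.finrank_baseChange (R := FractionRing R) (S := R)
        (M' := M ⧸ Submodule.torsion R M), Module.finrank_zero_of_subsingleton, zero_add]
  -- the torsion part
  obtain ⟨n, hn⟩ := exists_pow_smul_torsion ϖ hϖ M
  have h3 := length_torsionBy ϖ hϖ n (Submodule.torsion R M) hn
  have h4 := length_torsionBy ϖ hϖ 1 (Submodule.torsionBy R M ϖ) (fun m => by
    rw [pow_one]
    exact Subtype.ext ((Submodule.mem_torsionBy_iff _ _).mp m.2))
  -- comparison of the torsion submodules
  let f : Submodule.torsionBy R (Submodule.torsion R M) ϖ →ₗ[R]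
      Submodule.torsionBy R (Submodule.torsionBy R M ϖ) ϖ :=
    { toFun := fun x => ⟨⟨x.1.1, by
          have := x.2
          rw [Submodule.mem_torsionBy_iff] at this ⊢
          exact congrArg Subtype.val this⟩, by
          have := x.2
          rw [Submodule.mem_torsionBy_iff] at this ⊢
          exact Subtype.ext (show ϖ • (x.1.1 : M) = 0 from congrArg Subtype.val this)⟩
      map_add' := fun _ _ => rfl
      map_smul' := fun _ _ => rfl }
  have hf : Function.Bijective f := by
    constructor
    · intro x y h
      apply Subtype.ext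
      apply Subtype.ext
      exact congrArg (fun z : Submodule.torsionBy R (Submodule.torsionBy R M ϖ) ϖ => (z.1.1 : M)) h
    · intro y
      have hy : (y.1.1 : M) ∈ Submodule.torsion R M := by
        rw [Submodule.mem_torsion_iff]
        exact ⟨⟨ϖ, mem_nonZeroDivisors_of_ne_zero hϖ.ne_zero⟩,
          (Submodule.mem_torsionBy_iff _ _).mp y.1.2⟩
      refine ⟨⟨⟨y.1.1, hy⟩, ?_⟩, ?_⟩
      · rw [Submodule.mem_torsionBy_iff]
        exact Subtype.ext ((Submodule.mem_torsionBy_iff _ _).mp y.1.2)
      · rfl
  have h5 : Module.length R (Submodule.torsionBy R (Submodule.torsion R M) ϖ)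
      = Module.length R (Submodule.torsionBy R (Submodule.torsionBy R M ϖ) ϖ) :=
    (LinearEquiv.ofBijective f hf).length_eq
  rw [h3, h4] at h5
  have h6 : Module.finrank (ResidueField R) (ResidueField R ⊗[R] Submodule.torsion R M)
      = Module.finrank (ResidueField R) (ResidueField R ⊗[R] ↥(Submodule.torsionBy R M ϖ)) := by
    exact_mod_cast h5
  rw [h1, h2, h6]

end Groth.Agent.Lib.Helper26.DVRTorsion
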