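import Mathlib

set_option maxHeartbeats 400000

namespace Groth.Agent.Lib.Helper26.Deg2Loc

open Polynomial

universe u

variable {P : Type u} [CommRing P] (h : P[X]) (S : Submonoid P)

/-- notation: localized algebra -/
abbrev LA : Type u := Localization (Algebra.algebraMapSubmonoid (AdjoinRoot h) S)

/-- the image of the root -/
noncomputable abbrev zbar : LA h S := algebraMap (AdjoinRoot h) (LA h S) (AdjoinRoot.root h)

lemma algebraMap_comp :
    (algebraMap (Localization S) (LA h S)).comp (algebraMap P (Localization S)) =
      (algebraMap (AdjoinRoot h) (LA h S)).comp (algebraMap P (AdjoinRoot h)) := by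
  rw [← IsScalarTower.algebraMap_eq, ← IsScalarTower.algebraMap_eq]

lemma eval₂_h_zero :
    Polynomial.eval₂ ((algebraMap (Localization S) (LA h S)).comp (algebraMap P (Localization S)))
      (zbar h S) h = 0 := by
  rw [algebraMap_comp, zbar, ← Polynomial.hom_eval₂,
    AdjoinRoot.algebraMap_eq, AdjoinRoot.eval₂_root, map_zero]

lemma zbar_integral (hu : IsUnit (algebraMap P (Localization S) h.leadingCoeff)) :
    IsIntegral (Localization S) (zbar h S) := by
  obtain ⟨u, hu⟩ := hu.exists_left_inv
  refine ⟨C u * h.map (algebraMap P (Localization S)), ?_, ?_⟩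
  · apply Polynomial.monic_of_natDegree_le_of_coeff_eq_one h.natDegree
    · exact (Polynomial.natDegree_C_mul_le _ _).trans Polynomial.natDegree_map_le
    · rw [Polynomial.coeff_C_mul, Polynomial.coeff_map, Polynomial.coeff_natDegree, hu]
  · rw [Polynomial.eval₂_mul, Polynomial.eval₂_map, eval₂_h_zero, mul_zero]

lemma image_integral (hz : IsIntegral (Localization S) (zbar h S)) (x : AdjoinRoot h) :
    IsIntegral (Localization S) (algebraMap (AdjoinRoot h) (LA h S) x) := by
  induction x using AdjoinRoot.induction_on with
  | ih p =>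
    have : algebraMap (AdjoinRoot h) (LA h S) (AdjoinRoot.mk h p) = Polynomial.aeval (zbar h S) p := by
      rw [← AdjoinRoot.aeval_eq, zbar, Polynomial.aeval_algebraMap_apply]
    rw [this, Polynomial.aeval_eq_sum_range]
    refine IsIntegral.sum _ fun i _ => ?_
    rw [Algebra.smul_def, IsScalarTower.algebraMap_apply P (Localization S) (LA h S)]
    exact IsIntegral.mul isIntegral_algebraMap (hz.pow i)

theorem integral_of_unit (hu : IsUnit (algebraMap P (Localization S) h.leadingCoeff)) :
    Algebra.IsIntegral (Localization S) (LA h S) := by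
  have hz := zbar_integral h S hu
  constructor
  intro w
  obtain ⟨x, s, rfl⟩ := IsLocalization.exists_mk'_eq
    (Algebra.algebraMapSubmonoid (AdjoinRoot h) S) w
  obtain ⟨t, ht, hts⟩ := s.2
  set v : LA h S := algebraMap (Localization S) (LA h S)
    (IsLocalization.mk' (Localization S) (1 : P) ⟨t, ht⟩) with hv
  have hvs : v * algebraMap (AdjoinRoot h) (LA h S) s = 1 := by
    have h1 : algebraMap (AdjoinRoot h) (LA h S) s =
        algebraMap (Localization S) (LA h S) (algebraMap P (Localization S) t) := by
      rw [← hts, ← IsScalarTower.algebraMap_apply, ← IsScalarTower.algebraMap_apply]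
    rw [h1, hv, ← map_mul]
    have : IsLocalization.mk' (Localization S) (1 : P) ⟨t, ht⟩ * algebraMap P (Localization S) t = 1 := by
      have := IsLocalization.mk'_spec (Localization S) (1 : P) ⟨t, ht⟩
      simpa using this
    rw [this, map_one]
  have hw : IsLocalization.mk' (LA h S) x s = algebraMap (AdjoinRoot h) (LA h S) x * v := by
    have hspec := IsLocalization.mk'_spec (LA h S) x s
    calc IsLocalization.mk' (LA h S) x s
        = IsLocalization.mk' (LA h S) x s * (v * algebraMap (AdjoinRoot h) (LA h S) s) := by
          rw [hvs, mul_one]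
      _ = (IsLocalization.mk' (LA h S) x s * algebraMap (AdjoinRoot h) (LA h S) s) * v := by ring
      _ = algebraMap (AdjoinRoot h) (LA h S) x * v := by rw [hspec]
  rw [hw]
  exact IsIntegral.mul (image_integral h S hz x) isIntegral_algebraMap

theorem unit_of_integral [IsDomain P] (hint : Algebra.IsIntegral (Localization S) (LA h S)) :
    IsUnit (algebraMap P (Localization S) h.leadingCoeff) := by
  rcases subsingleton_or_nontrivial (Localization S) with hsub | hnt
  · exact isUnit_of_subsingleton _
  have h0S : (0 : P) ∉ S := by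
    intro h0
    have := IsLocalization.subsingleton (S := Localization S) h0
    exact not_subsingleton _ this
  have hSle : S ≤ nonZeroDivisors P := le_nonZeroDivisors_of_noZeroDivisors h0S
  have hinj : Function.Injective (algebraMap P (Localization S)) :=
    IsLocalization.injective (Localization S) hSle
  obtain ⟨g, hgm, hg0⟩ := hint.isIntegral (zbar h S)
  set F := IsLocalization.integerNormalization S g with hF
  obtain ⟨b, hbS, hb⟩ := IsLocalization.integerNormalization_spec S g
  have hF0 : Polynomial.eval₂
      ((algebraMap (Localization S) (LA h S)).comp (algebraMap P (Localization S))) (zbar h S) F = 0 :=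
    IsLocalization.integerNormalization_eval₂_eq_zero S _ g hg0
  rw [algebraMap_comp, zbar, ← Polynomial.hom_eval₂] at hF0
  have hmk : Polynomial.eval₂ (algebraMap P (AdjoinRoot h)) (AdjoinRoot.root h) F =
      AdjoinRoot.mk h F := by
    rw [← Polynomial.aeval_def, AdjoinRoot.aeval_eq]
  rw [hmk, IsLocalization.map_eq_zero_iff (Algebra.algebraMapSubmonoid (AdjoinRoot h) S)] at hF0
  obtain ⟨⟨m, t, ht, htm⟩, hm0⟩ := hF0
  simp only at hm0
  rw [← htm, AdjoinRoot.algebraMap_eq, ← AdjoinRoot.mk_C, ← map_mul, AdjoinRoot.mk_eq_zero] at hm0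
  obtain ⟨q, hq⟩ := hm0
  -- leading coefficients
  have hlc := congrArg Polynomial.leadingCoeff hq
  rw [Polynomial.leadingCoeff_mul, Polynomial.leadingCoeff_mul, Polynomial.leadingCoeff_C] at hlc
  have hlcF : algebraMap P (Localization S) F.leadingCoeff = algebraMap P (Localization S) b := by
    rw [← Polynomial.leadingCoeff_map_of_injective hinj, hb, Algebra.smul_def,
      Polynomial.leadingCoeff_mul_monic hgm, Polynomial.algebraMap_apply, Polynomial.leadingCoeff_C]
  have hφ := congrArg (algebraMap P (Localization S)) hlc
  rw [map_mul, map_mul, hlcF] at hφ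
  have hunit : IsUnit (algebraMap P (Localization S) t * algebraMap P (Localization S) b) :=
    (IsLocalization.map_units (Localization S) ⟨t, ht⟩).mul
      (IsLocalization.map_units (Localization S) ⟨b, hbS⟩)
  rw [hφ] at hunit
  exact isUnit_of_mul_isUnit_left hunit

theorem finrank_eq [IsDomain P] (hne : h ≠ 0) :
    Module.finrank (FractionRing P) (TensorProduct P (FractionRing P) (AdjoinRoot h)) =
      h.natDegree := by
  set L := FractionRing P
  set q : (TensorProduct P L P)[X] :=
    h.map (Algebra.TensorProduct.includeRight : P →ₐ[P] TensorProduct P L P).toRingHom with hq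
  let e1 : TensorProduct P L (AdjoinRoot h) ≃ₐ[L] AdjoinRoot q := AdjoinRoot.tensorAlgEquiv h q rfl
  set q' : L[X] := h.map (algebraMap P L) with hq'
  have hassoc : Associated (q.map (Algebra.TensorProduct.rid P L L : TensorProduct P L P ≃ₐ[L] L)) q' := by
    have : q.map ((Algebra.TensorProduct.rid P L L : TensorProduct P L P ≃ₐ[L] L) :
        TensorProduct P L P →+* L) = q' := by
      rw [hq, hq', Polynomial.map_map]
      congr 1
      ext p
      simp [Algebra.algebraMap_eq_smul_one]
    rw [← this]
  let e2 : AdjoinRoot q ≃ₐ[L] AdjoinRoot q' :=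
    AdjoinRoot.mapAlgEquiv (Algebra.TensorProduct.rid P L L) q q' hassoc
  have hinj : Function.Injective (algebraMap P L) := IsFractionRing.injective P L
  have hq'ne : q' ≠ 0 := by
    rw [hq', Ne, Polynomial.map_eq_zero_iff hinj]; exact hne
  rw [LinearEquiv.finrank_eq (e1.trans e2).toLinearEquiv, (AdjoinRoot.powerBasis hq'ne).finrank,
    AdjoinRoot.powerBasis_dim, hq', Polynomial.natDegree_map_eq_of_injective hinj]

theorem main (K : Type u) [Field K]
    (h : Polynomial (MvPolynomial (Fin 2) K)) (hdeg : h.natDegree = 2)
    (S : Submonoid (MvPolynomial (Fin 2) K)) :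
    (Algebra.IsIntegral (Localization S) (Localization (Algebra.algebraMapSubmonoid (AdjoinRoot h) S))
        ↔ IsUnit (algebraMap (MvPolynomial (Fin 2) K) (Localization S) h.leadingCoeff))
      ∧ Module.finrank (FractionRing (MvPolynomial (Fin 2) K))
          (TensorProduct (MvPolynomial (Fin 2) K) (FractionRing (MvPolynomial (Fin 2) K)) (AdjoinRoot h)) = 2 := by
  refine ⟨⟨unit_of_integral h S, integral_of_unit h S⟩, ?_⟩
  have hne : h ≠ 0 := by
    intro h0; rw [h0, Polynomial.natDegree_zero] at hdeg; omega
  rw [finrank_eq h hne, hdeg]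

end Groth.Agent.Lib.Helper26.Deg2Loc
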