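import Mathlib

namespace Groth.Agent.Lib.Helper26.Deviation

set_option linter.unusedSectionVars false
set_option maxHeartbeats 400000

universe u v

variable {A : Type u} {G : Type v} [AddCommGroup A] [AddCommGroup G] (f : A → G)

section General

variable {ι : Type*} [DecidableEq ι]

/-- full alternating sum over all subsets -/
def E (S : Finset ι) (x : ι → A) : G :=
  ∑ I ∈ S.powerset, ((-1 : ℤ) ^ I.card) • f (∑ i ∈ I, x i)

lemma E_insert (S : Finset ι) (t : ι) (ht : t ∉ S) (x : ι → A) :
    E f (insert t S) x
      = E f S x - ∑ I ∈ S.powerset, ((-1 : ℤ) ^ I.card) • f (x t + ∑ i ∈ I, x i) := by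
  rw [E, Finset.sum_powerset_insert ht, E, sub_eq_add_neg, ← Finset.sum_neg_distrib]
  congr 1
  refine Finset.sum_congr rfl fun I hI => ?_
  have htI : t ∉ I := fun h => ht (Finset.mem_powerset.mp hI h)
  rw [Finset.card_insert_of_notMem htI, Finset.sum_insert htI, pow_succ, mul_neg, mul_one,
    neg_smul]

lemma E_congr (S : Finset ι) (x z : ι → A) (h : ∀ i ∈ S, x i = z i) : E f S x = E f S z := by
  refine Finset.sum_congr rfl fun I hI => ?_
  congr 2
  exact Finset.sum_congr rfl fun i hi => h i (Finset.mem_powerset.mp hI hi)

lemma main_identity (S0 : Finset ι) (j t : ι) (hj : j ∉ S0) (ht : t ∉ insert j S0) (x : ι → A) :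
    E f (insert t (insert j S0)) x
      = E f (insert j S0) x - E f (insert j S0) (Function.update x j (x j + x t))
        + E f (insert j S0) (Function.update x j (x t)) := by
  have htj : t ≠ j := fun h => ht (h ▸ Finset.mem_insert_self _ _)
  have e1 : ∀ v : A, E f (insert j S0) (Function.update x j v)
      = E f S0 x - ∑ I ∈ S0.powerset, ((-1 : ℤ) ^ I.card) • f (v + ∑ i ∈ I, x i) := by
    intro v
    rw [E_insert f S0 j hj, Function.update_self]
    congr 1
    · refine E_congr f S0 _ _ fun i hi => ?_
      rw [Function.update_of_ne]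
      rintro rfl
      exact hj hi
    · refine Finset.sum_congr rfl fun I hI => ?_
      congr 3
      refine Finset.sum_congr rfl fun i hi => ?_
      rw [Function.update_of_ne]
      rintro rfl
      exact hj (Finset.mem_powerset.mp hI hi)
  rw [E_insert f _ t ht, Finset.sum_powerset_insert hj, e1, e1]
  have e2 : ∑ I ∈ S0.powerset, ((-1 : ℤ) ^ (insert j I).card) • f (x t + ∑ i ∈ insert j I, x i)
      = - ∑ I ∈ S0.powerset, ((-1 : ℤ) ^ I.card) • f (x j + x t + ∑ i ∈ I, x i) := by
    rw [← Finset.sum_neg_distrib]
    refine Finset.sum_congr rfl fun I hI => ?_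
    have hjI : j ∉ I := fun h => hj (Finset.mem_powerset.mp hI h)
    rw [Finset.card_insert_of_notMem hjI, Finset.sum_insert hjI, pow_succ, mul_neg, mul_one,
      neg_smul, ← add_assoc, add_comm (x t) (x j)]
  rw [e2]
  abel

end General

section Fin

variable {n : ℕ}

/-- full alternating sum over all subsets of `Fin n` -/
def E' (y : Fin n → A) : G := E f Finset.univ y

lemma E_image_castSucc (z : Fin (n + 1) → A) :
    E f ((Finset.univ : Finset (Fin n)).image Fin.castSucc) z = E' f (fun i => z i.castSucc) := by
  rw [E, E', E, Finset.powerset_image, Finset.sum_image]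
  · refine Finset.sum_congr rfl fun I _ => ?_
    rw [Finset.card_image_of_injective _ (Fin.castSucc_injective n),
      Finset.sum_image (fun a _ b _ h => Fin.castSucc_injective n h)]
  · intro a _ b _ h
    exact Finset.image_injective (Fin.castSucc_injective n) h

lemma univ_eq : (Finset.univ : Finset (Fin (n + 1)))
    = insert (Fin.last n) ((Finset.univ : Finset (Fin n)).image Fin.castSucc) := by
  ext i
  simp only [Finset.mem_univ, Finset.mem_insert, Finset.mem_image, true_and, true_iff]
  rcases Fin.eq_castSucc_or_eq_last i with ⟨k, rfl⟩ | rfl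
  · exact Or.inr ⟨k, rfl⟩
  · exact Or.inl rfl

lemma image_eq (j : Fin n) : (Finset.univ : Finset (Fin n)).image Fin.castSucc
    = insert j.castSucc (((Finset.univ : Finset (Fin n)).erase j).image Fin.castSucc) := by
  rw [← Finset.image_insert, Finset.insert_erase (Finset.mem_univ j)]

lemma key (y : Fin n → A) (j : Fin n) (a b : A) :
    E' f (Fin.snoc (Function.update y j a) b : Fin (n + 1) → A)
      = E' f (Function.update y j a) - E' f (Function.update y j (a + b))
        + E' f (Function.update y j b) := by
  set x : Fin (n + 1) → A := Fin.snoc (Function.update y j a) b with hx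
  have hxc : ∀ i : Fin n, x i.castSucc = Function.update y j a i := fun i => by
    rw [hx, Fin.snoc_castSucc]
  have hxl : x (Fin.last n) = b := by rw [hx, Fin.snoc_last]
  have hjS0 : j.castSucc ∉ ((Finset.univ : Finset (Fin n)).erase j).image Fin.castSucc := by
    intro h
    obtain ⟨k, hk, hkj⟩ := Finset.mem_image.mp h
    exact (Finset.ne_of_mem_erase hk) (Fin.castSucc_injective n hkj)
  have hlast : Fin.last n ∉ insert j.castSucc
      (((Finset.univ : Finset (Fin n)).erase j).image Fin.castSucc) := by
    rw [← image_eq]
    intro h
    obtain ⟨k, _, hk⟩ := Finset.mem_image.mp h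
    exact (Fin.castSucc_lt_last k).ne hk
  have := main_identity f _ j.castSucc (Fin.last n) hjS0 hlast x
  rw [← image_eq, ← univ_eq, E_image_castSucc, E_image_castSucc, E_image_castSucc] at this
  rw [E', this]
  have c1 : (fun i : Fin n => x i.castSucc) = Function.update y j a := funext hxc
  have c2 : (fun i : Fin n => Function.update x j.castSucc (x j.castSucc + x (Fin.last n)) i.castSucc)
      = Function.update y j (a + b) := by
    funext i
    by_cases h : i = j
    · subst h
      rw [Function.update_self, Function.update_self, hxc, Function.update_self, hxl]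
    · rw [Function.update_of_ne h, Function.update_of_ne
        (fun h' => h (Fin.castSucc_injective n h')), hxc, Function.update_of_ne h]
  have c3 : (fun i : Fin n => Function.update x j.castSucc (x (Fin.last n)) i.castSucc)
      = Function.update y j b := by
    funext i
    by_cases h : i = j
    · subst h
      rw [Function.update_self, Function.update_self, hxl]
    · rw [Function.update_of_ne h, Function.update_of_ne
        (fun h' => h (Fin.castSucc_injective n h')), hxc, Function.update_of_ne h]
  rw [c1, c2, c3]

/-- the deviation in terms of `E'` -/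
lemma dev_eq (k : ℕ) (y : Fin n → A) :
    ∑ I ∈ ((Finset.univ : Finset (Fin n)).powerset.erase ∅),
        ((-1 : ℤ) ^ (k + I.card)) • f (∑ i ∈ I, y i)
      = ((-1 : ℤ) ^ k) • (E' f y - f 0) := by
  rw [Finset.sum_erase_eq_sub (Finset.empty_mem_powerset _), E', E]
  simp only [Finset.card_empty, Finset.sum_empty, add_zero]
  rw [smul_sub, Finset.smul_sum]
  congr 1
  · refine Finset.sum_congr rfl fun I _ => ?_
    rw [pow_add, mul_smul]

end Fin

end Groth.Agent.Lib.Helper26.Deviation
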