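import Mathlib
import Groth.Agent.Lib.Helper26.Deviation

namespace Groth.Agent.Lib.Helper26.Deviation

set_option linter.unusedSectionVars false
set_option maxHeartbeats 400000

universe u v

variable {A : Type u} {G : Type v} [AddCommGroup A] [AddCommGroup G] (f : A → G)

lemma neg_one_pow_smul_inj (k : ℕ) (g h : G) : ((-1 : ℤ) ^ k) • g = ((-1 : ℤ) ^ k) • h ↔ g = h := by
  rcases Nat.even_or_odd k with hk | hk
  · rw [hk.neg_one_pow, one_smul, one_smul]
  · rw [hk.neg_one_pow, neg_smul, neg_smul, one_smul, one_smul, neg_inj]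

lemma neg_one_pow_smul_eq_zero (k : ℕ) (g : G) : ((-1 : ℤ) ^ k) • g = 0 ↔ g = 0 := by
  have := neg_one_pow_smul_inj k g 0
  rwa [smul_zero] at this

theorem main (n : ℕ) (hn : 1 ≤ n) :
    (∀ x : Fin (n + 1) → A, ∑ I ∈ ((Finset.univ : Finset (Fin (n + 1))).powerset.erase ∅), ((-1 : ℤ) ^ (n + 1 + I.card)) • f (∑ i ∈ I, x i) = 0) ↔
      (∀ (j : Fin n) (y : Fin n → A) (a b : A),
        ∑ I ∈ ((Finset.univ : Finset (Fin n)).powerset.erase ∅), ((-1 : ℤ) ^ (n + I.card)) • f (∑ i ∈ I, (Function.update y j (a + b)) i) =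
          ∑ I ∈ ((Finset.univ : Finset (Fin n)).powerset.erase ∅), ((-1 : ℤ) ^ (n + I.card)) • f (∑ i ∈ I, (Function.update y j a) i) + ∑ I ∈ ((Finset.univ : Finset (Fin n)).powerset.erase ∅), ((-1 : ℤ) ^ (n + I.card)) • f (∑ i ∈ I, (Function.update y j b) i)) := by
  simp only [dev_eq]
  constructor
  · intro H j y a b
    have h1 := H (Fin.snoc (Function.update y j a) b)
    rw [neg_one_pow_smul_eq_zero, key, sub_eq_zero] at h1
    rw [← smul_add, neg_one_pow_smul_inj]
    generalize E' f (Function.update y j a) = Ea at h1 ⊢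
    generalize E' f (Function.update y j (a + b)) = Eab at h1 ⊢
    generalize E' f (Function.update y j b) = Eb at h1 ⊢
    generalize f 0 = F0 at h1 ⊢
    rw [← h1]
    abel
  · intro H x
    have hn' : 0 < n := hn
    let j : Fin n := ⟨0, hn'⟩
    let y : Fin n → A := fun i => x i.castSucc
    have h1 := H j y (y j) (x (Fin.last n))
    rw [← smul_add, neg_one_pow_smul_inj] at h1
    have hk := key f y j (y j) (x (Fin.last n))
    have hy : Function.update y j (y j) = y := Function.update_eq_self j y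
    have hx : (Fin.snoc y (x (Fin.last n)) : Fin (n + 1) → A) = x := by
      funext i
      rcases Fin.eq_castSucc_or_eq_last i with ⟨k, rfl⟩ | rfl
      · rw [Fin.snoc_castSucc]
      · rw [Fin.snoc_last]
    rw [hy] at hk h1
    rw [hx] at hk
    rw [neg_one_pow_smul_eq_zero, hk, sub_eq_zero]
    generalize E' f y = Ea at h1 ⊢
    generalize E' f (Function.update y j (y j + x (Fin.last n))) = Eab at h1 ⊢
    generalize E' f (Function.update y j (x (Fin.last n))) = Eb at h1 ⊢
    generalize f 0 = F0 at h1 ⊢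
    have : Eab = Ea - F0 + (Eb - F0) + F0 := by rw [← h1]; abel
    rw [this]
    abel

end Groth.Agent.Lib.Helper26.Deviation
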