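import Groth.Agent.Lib.Helper26.WeightDecomp

/-!
# Torus actions with positive grading (helper26)
-/

open TensorProduct

universe u v w

namespace Groth.Agent.Lib.Helper26.Weight

open HopfRep Groth.Agent.Lib.Helper26.Comod

section Pos

variable {k : Type u} [Field k] {Λ : Type v} [AddCommGroup Λ]
variable {R : Type w} [CommRing R] [Algebra k R] [Comod k (AddMonoidAlgebra k Λ) R]
  [GLin.IsCoactAlg k (AddMonoidAlgebra k Λ) R]

/-- S15124 -/
theorem bijective_invariants_to_quotient
    (hpos : ∀ a : Λ, eigenspace k (AddMonoidAlgebra k Λ) R (AddMonoidAlgebra.single a 1) ≠ ⊥ →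
      eigenspace k (AddMonoidAlgebra k Λ) R (AddMonoidAlgebra.single (-a) 1) ≠ ⊥ → a = 0) :
    Function.Bijective
      ((Ideal.Quotient.mkₐ k (Ideal.span {f : R | ∃ a : Λ, a ≠ 0 ∧
          f ∈ eigenspace k (AddMonoidAlgebra k Λ) R (AddMonoidAlgebra.single a 1)})).comp
        (GLin.invariants k (AddMonoidAlgebra k Λ) R).val) := by
  classical
  set I := Ideal.span {f : R | ∃ a : Λ, a ≠ 0 ∧
    f ∈ eigenspace k (AddMonoidAlgebra k Λ) R (AddMonoidAlgebra.single a 1)} with hI
  constructor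
  · -- injective
    rw [injective_iff_map_eq_zero]
    intro f hf
    have hfI : (f : R) ∈ I := Ideal.Quotient.eq_zero_iff_mem.mp hf
    have hf0 : (f : R) ∈ eigenspace k (AddMonoidAlgebra k Λ) R (AddMonoidAlgebra.single 0 1) :=
      (mem_invariants_iff_mem_eigenspace (f : R)).mp f.2
    -- every element `x` of `I` satisfies `p_0 (a x) = 0` for all `a`
    have key : ∀ x ∈ I, ∀ a : R, pw k (0 : Λ) (a * x) = 0 := by
      intro x hx
      induction hx using Submodule.span_induction with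
      | mem x hx =>
        obtain ⟨b, hb, hxb⟩ := hx
        intro a
        rw [pw_mul_of_mem hxb, zero_sub]
        exact mul_eq_zero_of_pos hpos hb (pw_mem (-b) a) hxb
      | zero => intro a; rw [mul_zero, map_zero]
      | add x y _ _ hx hy => intro a; rw [mul_add, map_add, hx a, hy a, add_zero]
      | smul r x _ hx =>
        intro a
        rw [smul_eq_mul, ← mul_assoc]
        exact hx (a * r)
    have h1 := key _ hfI 1
    rw [one_mul, pw_of_mem hf0, if_pos rfl] at h1
    exact Subtype.ext h1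
  · -- surjective
    intro y
    obtain ⟨r, rfl⟩ := Ideal.Quotient.mk_surjective y
    refine ⟨⟨pw k (0 : Λ) r, (mem_invariants_iff_mem_eigenspace _).mpr (pw_mem 0 r)⟩, ?_⟩
    change Ideal.Quotient.mk I (pw k (0 : Λ) r) = Ideal.Quotient.mk I r
    rw [Ideal.Quotient.eq]
    obtain ⟨s, hs0, hs⟩ := exists_finset_sum_pw (k := k) (Λ := Λ) r
    have hr : pw k (0 : Λ) r - r = - ∑ a ∈ s.erase 0, pw k a r := by
      by_cases h0 : (0 : Λ) ∈ s
      · have hsum : r = pw k (0 : Λ) r + ∑ a ∈ s.erase 0, pw k a r := by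
          conv_lhs => rw [hs]
          exact (Finset.add_sum_erase s _ h0).symm
        calc pw k (0 : Λ) r - r
            = pw k (0 : Λ) r - (pw k (0 : Λ) r + ∑ a ∈ s.erase 0, pw k a r) := by rw [← hsum]
          _ = - ∑ a ∈ s.erase 0, pw k a r := by abel
      · rw [Finset.erase_eq_of_notMem h0, ← hs, hs0 0 h0, zero_sub]
    rw [hr]
    apply I.neg_mem
    apply I.sum_mem
    intro a ha
    apply Ideal.subset_span
    exact ⟨a, (Finset.mem_erase.mp ha).1, pw_mem a r⟩

end Pos

section Orbit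

variable {k : Type u} [Field k] {A : Type v} [CommRing A] [Bialgebra k A]
variable {R : Type w} [CommRing R] [Algebra k R] [Comod k A R] [GLin.IsCoactAlg k A R]

/-- a linear functional applied to the orbit map -/
theorem apply_orbitHom (x : R →ₐ[k] k) (φ : A →ₗ[k] k) (f : R) :
    φ (GLin.orbitHom k A x f) = x (T φ f) := by
  rw [orbitHom_apply, T_apply]
  generalize Comod.coact (k := k) (A := A) f = y
  induction y using TensorProduct.induction_on with
  | zero => simp
  | tmul r a => simp [mul_comm]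
  | add y z hy hz => simp only [map_add, hy, hz]

theorem actPt_of_isFixedPt (x : R →ₐ[k] k) (hx : GLin.IsFixedPt k A x) (g : A →ₐ[k] k) :
    GLin.actPt k g x = x := by
  unfold GLin.actPt
  rw [hx]
  ext f
  simp

/-- a fixed point has a closed orbit -/
theorem isClosedOrbit_of_isFixedPt (x : R →ₐ[k] k) (hx : GLin.IsFixedPt k A x) :
    GLin.IsClosedOrbit k A x := by
  have hA : Nontrivial A := by
    refine ⟨⟨0, 1, fun h => ?_⟩⟩
    have := congrArg (Coalgebra.counit (R := k) (A := A)) h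
    rw [Bialgebra.counit_one, map_zero] at this
    exact zero_ne_one this
  unfold GLin.IsClosedOrbit
  rw [hx]
  have hprime : (RingHom.ker x).IsPrime := RingHom.ker_isPrime _
  have hcomap : ∀ q : PrimeSpectrum A,
      PrimeSpectrum.comap ((Algebra.ofId k A).comp x).toRingHom q = ⟨RingHom.ker x, hprime⟩ := by
    intro q
    apply PrimeSpectrum.ext
    ext a
    change algebraMap k A (x a) ∈ q.asIdeal ↔ x a = 0
    constructor
    · intro h
      by_contra hne
      apply q.2.ne_top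
      rw [Ideal.eq_top_iff_one]
      have : algebraMap k A (x a)⁻¹ * algebraMap k A (x a) = 1 := by
        rw [← map_mul, inv_mul_cancel₀ hne, map_one]
      rw [← this]
      exact q.asIdeal.mul_mem_left _ h
    · intro h
      rw [h, map_zero]
      exact q.asIdeal.zero_mem
  have hrange : Set.range (PrimeSpectrum.comap ((Algebra.ofId k A).comp x).toRingHom) =
      {⟨RingHom.ker x, hprime⟩} := by
    ext p
    constructor
    · rintro ⟨q, rfl⟩
      exact hcomap q
    · intro hp
      obtain ⟨q⟩ := (inferInstance : Nonempty (PrimeSpectrum A))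
      exact ⟨q, (hcomap q).trans hp.symm⟩
  rw [hrange, PrimeSpectrum.isClosed_singleton_iff_isMaximal]
  exact RingHom.ker_isMaximal_of_surjective x (fun c => ⟨algebraMap k R c, by simp⟩)

end Orbit

section Fixed

variable {k : Type u} [Field k] {Λ : Type v} [AddCommGroup Λ]
variable {R : Type w} [CommRing R] [Algebra k R] [Comod k (AddMonoidAlgebra k Λ) R]
  [GLin.IsCoactAlg k (AddMonoidAlgebra k Λ) R]

theorem pw0_one [DecidableEq Λ] : pw k (0 : Λ) (1 : R) = 1 := by
  have h1 : (1 : R) ∈ eigenspace k (AddMonoidAlgebra k Λ) R (AddMonoidAlgebra.single 0 1) :=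
    (mem_invariants_iff_mem_eigenspace (1 : R)).mp (Subalgebra.one_mem _)
  rw [pw_of_mem h1, if_pos rfl]

theorem pw0_mul [DecidableEq Λ]
    (hpos : ∀ a : Λ, eigenspace k (AddMonoidAlgebra k Λ) R (AddMonoidAlgebra.single a 1) ≠ ⊥ →
      eigenspace k (AddMonoidAlgebra k Λ) R (AddMonoidAlgebra.single (-a) 1) ≠ ⊥ → a = 0)
    (f g : R) : pw k (0 : Λ) (f * g) = pw k (0 : Λ) f * pw k (0 : Λ) g := by
  obtain ⟨s, hs0, hs⟩ := exists_finset_sum_pw (k := k) (Λ := Λ) g
  have h1 : pw k (0 : Λ) (f * g) = ∑ b ∈ s, pw k (0 - b) f * pw k b g := by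
    conv_lhs => rw [hs, Finset.mul_sum, map_sum]
    apply Finset.sum_congr rfl
    intro b _
    exact pw_mul_of_mem (pw_mem b g) f 0
  rw [h1]
  have h2 : ∀ b ∈ s, pw k (0 - b) f * pw k b g =
      if b = 0 then pw k (0 : Λ) f * pw k (0 : Λ) g else 0 := by
    intro b _
    split_ifs with hb
    · subst hb; rw [sub_zero]
    · rw [zero_sub]
      exact mul_eq_zero_of_pos hpos hb (pw_mem (-b) f) (pw_mem b g)
  rw [Finset.sum_congr rfl h2, Finset.sum_ite_eq']
  split_ifs with h0
  · rfl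
  · rw [hs0 0 h0, mul_zero]

/-- the limit point `x ∘ p₀` of a point under a positively graded torus action -/
noncomputable def x0 [DecidableEq Λ]
    (hpos : ∀ a : Λ, eigenspace k (AddMonoidAlgebra k Λ) R (AddMonoidAlgebra.single a 1) ≠ ⊥ →
      eigenspace k (AddMonoidAlgebra k Λ) R (AddMonoidAlgebra.single (-a) 1) ≠ ⊥ → a = 0)
    (x : R →ₐ[k] k) : R →ₐ[k] k :=
  AlgHom.ofLinearMap (x.toLinearMap ∘ₗ pw k (0 : Λ))
    (by rw [LinearMap.comp_apply, pw0_one, AlgHom.toLinearMap_apply, map_one])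
    (by
      intro f g
      rw [LinearMap.comp_apply, LinearMap.comp_apply, LinearMap.comp_apply, pw0_mul hpos,
        AlgHom.toLinearMap_apply, map_mul]
      rfl)

theorem x0_apply [DecidableEq Λ]
    (hpos : ∀ a : Λ, eigenspace k (AddMonoidAlgebra k Λ) R (AddMonoidAlgebra.single a 1) ≠ ⊥ →
      eigenspace k (AddMonoidAlgebra k Λ) R (AddMonoidAlgebra.single (-a) 1) ≠ ⊥ → a = 0)
    (x : R →ₐ[k] k) (f : R) : x0 hpos x f = x (pw k (0 : Λ) f) := rfl

theorem isFixedPt_x0 [DecidableEq Λ]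
    (hpos : ∀ a : Λ, eigenspace k (AddMonoidAlgebra k Λ) R (AddMonoidAlgebra.single a 1) ≠ ⊥ →
      eigenspace k (AddMonoidAlgebra k Λ) R (AddMonoidAlgebra.single (-a) 1) ≠ ⊥ → a = 0)
    (x : R →ₐ[k] k) : GLin.IsFixedPt k (AddMonoidAlgebra k Λ) (x0 hpos x) := by
  unfold GLin.IsFixedPt
  apply AlgHom.ext
  intro f
  apply (Bt k Λ).ext_elem
  intro c
  rw [← Module.Basis.coord_apply, ← Module.Basis.coord_apply, apply_orbitHom, AlgHom.comp_apply]
  change x0 hpos x (pw k c f) = (Bt k Λ).coord c (algebraMap k (AddMonoidAlgebra k Λ) (x0 hpos x f))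
  rw [x0_apply, pw_pw, Algebra.algebraMap_eq_smul_one, map_smul, AddMonoidAlgebra.one_def,
    ← Bt_apply, coord_self, x0_apply]
  by_cases hc : c = 0
  · subst hc
    simp
  · rw [if_neg hc, if_neg (Ne.symm hc), map_zero, smul_zero]

theorem inOrbitClosure_x0 [DecidableEq Λ]
    (hpos : ∀ a : Λ, eigenspace k (AddMonoidAlgebra k Λ) R (AddMonoidAlgebra.single a 1) ≠ ⊥ →
      eigenspace k (AddMonoidAlgebra k Λ) R (AddMonoidAlgebra.single (-a) 1) ≠ ⊥ → a = 0)
    (x : R →ₐ[k] k) : GLin.InOrbitClosure k (AddMonoidAlgebra k Λ) x (x0 hpos x) := by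
  intro f hf
  rw [RingHom.mem_ker] at hf ⊢
  rw [x0_apply]
  change x (T ((Bt k Λ).coord 0) f) = 0
  rw [← apply_orbitHom, hf, map_zero]

/-- S15123 -/
theorem isClosedOrbit_iff_isFixedPt [IsAlgClosed k] [Module.Finite ℤ Λ]
    (hpos : ∀ a : Λ, eigenspace k (AddMonoidAlgebra k Λ) R (AddMonoidAlgebra.single a 1) ≠ ⊥ →
      eigenspace k (AddMonoidAlgebra k Λ) R (AddMonoidAlgebra.single (-a) 1) ≠ ⊥ → a = 0)
    (x : R →ₐ[k] k) :
    GLin.IsClosedOrbit k (AddMonoidAlgebra k Λ) x ↔ GLin.IsFixedPt k (AddMonoidAlgebra k Λ) x := by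
  classical
  haveI : AddMonoid.FG Λ :=
    AddGroup.fg_iff_addMonoid_fg.mp (Module.Finite.iff_addGroup_fg.mp inferInstance)
  constructor
  · intro hcl
    obtain ⟨g, hg⟩ := exists_actPt_eq_of_isClosedOrbit x (x0 hpos x) hcl (inOrbitClosure_x0 hpos x)
    have h1 : GLin.actPt k (g.comp (HopfAlgebra.antipodeAlgHom k (AddMonoidAlgebra k Λ)))
        (x0 hpos x) = x := by
      rw [hg, actPt_actPt, convAlg_antipode, actPt_counit]
    rw [actPt_of_isFixedPt _ (isFixedPt_x0 hpos x)] at h1
    rw [← h1]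
    exact isFixedPt_x0 hpos x
  · exact isClosedOrbit_of_isFixedPt x

end Fixed

end Groth.Agent.Lib.Helper26.Weight
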