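import Groth.Agent.Lib.Helper26.WeightDecomp
import Groth.Agent.Lib.Helper26.TorusPos
import Mathlib.Algebra.Polynomial.Laurent

/-!
# The numerical function `μ` for a diagonalizable group acting linearly (helper26)
-/

open TensorProduct LaurentPolynomial

universe u v w

namespace Groth.Agent.Lib.Helper26.DiagMu

open HopfRep Groth.Agent.Lib.Helper26.Comod Groth.Agent.Lib.Helper26.Weight

section Laurent

variable {k : Type*} [Semiring k]

theorem coeff_toLaurent_nat (p : Polynomial k) (n : ℕ) :
    (Polynomial.toLaurent p).coeff (n : ℤ) = p.coeff n := by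
  rw [LaurentPolynomial.coeff_toLaurent]
  exact Finsupp.mapDomain_apply Nat.castEmbedding.injective _ _

theorem coeff_toLaurent_neg (p : Polynomial k) (z : ℤ) (hz : z < 0) :
    (Polynomial.toLaurent p).coeff z = 0 := by
  rw [LaurentPolynomial.coeff_toLaurent]
  apply Finsupp.mapDomain_of_notMem_range
  rintro ⟨n, hn⟩
  simp at hn
  omega

theorem coeff_C_mul_T (a : k) (n z : ℤ) :
    (LaurentPolynomial.C a * LaurentPolynomial.T n : k[T;T⁻¹]).coeff z = if n = z then a else 0 := by
  rw [← single_eq_C_mul_T, AddMonoidAlgebra.coeff_single, Finsupp.single_apply]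

theorem coeff_finset_sum {α : Type*} (s : Finset α) (f : α → k[T;T⁻¹]) (z : ℤ) :
    (∑ a ∈ s, f a).coeff z = ∑ a ∈ s, (f a).coeff z := by
  simp

end Laurent

section Main

variable {k : Type u} [Field k] {A : Type v} [CommRing A] [Bialgebra k A]
variable {γ : Type*} [DecidableEq γ] (B : Module.Basis γ k A) (hB : ∀ i, IsGroupLikeElem k (B i))
variable {ι : Type w} [Fintype ι] [Comod k A (MvPolynomial ι k)]
  [GLin.IsCoactAlg k A (MvPolynomial ι k)]

include hB in
theorem orbitHom_p (x : MvPolynomial ι k →ₐ[k] k) (χ : γ) (f : MvPolynomial ι k) :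
    GLin.orbitHom k A x (p B χ f) = x (p B χ f) • B χ := by
  rw [orbitHom_apply, coact_p B hB, LinearMap.rTensor_tmul, TensorProduct.lid_tmul]
  rfl

/-- the span of the coordinate functions is stable under the weight projections -/
theorem p_X_mem (hlin : GLin.IsLinear k A ι) (χ : γ) (i : ι) :
    p B χ (MvPolynomial.X i : MvPolynomial ι k) ∈
      Submodule.span k (Set.range (MvPolynomial.X : ι → MvPolynomial ι k)) := by
  obtain ⟨m, hm⟩ := hlin i
  rw [p, Comod.T_apply, hm, map_sum]
  apply Submodule.sum_mem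
  intro j _
  rw [slice_tmul]
  exact Submodule.smul_mem _ _ (Submodule.subset_span ⟨j, rfl⟩)

include hB in
/-- independence of the weight components -/
theorem indep {N : Type*} (g : N → γ) (hg : Function.Injective g)
    (hlin : GLin.IsLinear k A ι) (x : MvPolynomial ι k →ₐ[k] k) (J : Finset N)
    (hJ : ∀ i, ∑ a ∈ J, x (p B (g a) (MvPolynomial.X i)) = 0) (a₀ : N) (ha₀ : a₀ ∈ J) (i : ι) :
    x (p B (g a₀) (MvPolynomial.X i)) = 0 := by
  classical
  let L : MvPolynomial ι k →ₗ[k] k := ∑ a ∈ J, x.toLinearMap ∘ₗ p B (g a)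
  have hL : ∀ f ∈ Submodule.span k (Set.range (MvPolynomial.X : ι → MvPolynomial ι k)),
      L f = 0 := by
    intro f hf
    induction hf using Submodule.span_induction with
    | mem f hf =>
      obtain ⟨i, rfl⟩ := hf
      simpa [L] using hJ i
    | zero => simp
    | add f g _ _ hf hg => rw [map_add, hf, hg, add_zero]
    | smul c f _ hf => rw [map_smul, hf, smul_zero]
  have h1 := hL _ (p_X_mem B hlin (g a₀) i)
  simp only [L, LinearMap.sum_apply, LinearMap.comp_apply, AlgHom.toLinearMap_apply,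
    p_p B hB] at h1
  rw [Finset.sum_eq_single a₀] at h1
  · simpa using h1
  · intro b _ hb
    rw [if_neg (fun h => hb (hg h).symm), map_zero]
  · intro h; exact absurd ha₀ h

include hB in
theorem lamOrbit_X {N : ℕ} (g : Fin N → γ)
    (hX : ∀ i : ι, (MvPolynomial.X i : MvPolynomial ι k) = ∑ j, p B (g j) (MvPolynomial.X i))
    (x : MvPolynomial ι k →ₐ[k] k)
    (lam : A →ₐc[k] k[T;T⁻¹]) (e : Fin N → ℤ)
    (he : ∀ j, lam (B (g j)) = LaurentPolynomial.T (e j)) (i : ι) :
    GLin.lamOrbit k A lam x (MvPolynomial.X i) =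
      ∑ j, LaurentPolynomial.C (x (p B (g j) (MvPolynomial.X i))) * LaurentPolynomial.T (e j) := by
  conv_lhs => rw [hX i]
  rw [map_sum]
  apply Finset.sum_congr rfl
  intro j _
  change lam (GLin.orbitHom k A x (p B (g j) (MvPolynomial.X i))) = _
  rw [orbitHom_p B hB, map_smul, he, LaurentPolynomial.smul_eq_C_mul]

include hB in
theorem main {N : ℕ} (g : Fin N → γ) (hg : Function.Injective g)
    (hlin : GLin.IsLinear k A ι)
    (hX : ∀ i : ι, (MvPolynomial.X i : MvPolynomial ι k) = ∑ j, p B (g j) (MvPolynomial.X i))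
    (v : ι → k) (hv : v ≠ 0) :
    ∃ I : Finset (Fin N), I.Nonempty ∧
      ∀ (lam : A →ₐc[k] k[T;T⁻¹]) (e : Fin N → ℤ),
        (∀ j, lam (B (g j)) = LaurentPolynomial.T (e j)) →
        ∀ m : ℤ, GLin.IsMu k A lam v m ↔ ((∀ j ∈ I, -e j ≤ m) ∧ ∃ j ∈ I, m = -e j) := by
  classical
  set x := GLin.vecPt k ι v with hx
  let c : Fin N → ι → k := fun j i => x (p B (g j) (MvPolynomial.X i))
  obtain ⟨I, hI⟩ : ∃ I : Finset (Fin N), ∀ j, j ∈ I ↔ ∃ i, c j i ≠ 0 :=
    ⟨Finset.univ.filter fun j => ∃ i, c j i ≠ 0, by simp⟩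
  have hcI : ∀ j, j ∉ I → ∀ i, c j i = 0 := by
    intro j hj i
    by_contra h
    exact hj ((hI j).mpr ⟨i, h⟩)
  have hvi : ∀ i, v i = ∑ j, c j i := by
    intro i
    have := congrArg x (hX i)
    rw [map_sum] at this
    have hxX : x (MvPolynomial.X i) = v i := by simp [x]
    rw [hxX] at this
    exact this
  refine ⟨I, ?_, ?_⟩
  · obtain ⟨i, hi⟩ : ∃ i, v i ≠ 0 := by
      by_contra h
      push Not at h
      exact hv (funext h)
    rw [hvi i] at hi
    obtain ⟨j, _, hj⟩ := Finset.exists_ne_zero_of_sum_ne_zero hi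
    exact ⟨j, (hI j).mpr ⟨i, hj⟩⟩
  intro lam e he m
  have horb : ∀ i, LaurentPolynomial.T m * GLin.lamOrbit k A lam x (MvPolynomial.X i) =
      ∑ j ∈ I, LaurentPolynomial.C (c j i) * LaurentPolynomial.T (m + e j) := by
    intro i
    rw [lamOrbit_X B hB g hX x lam e he i, Finset.mul_sum]
    rw [← Finset.sum_subset (Finset.subset_univ I)]
    · apply Finset.sum_congr rfl
      intro j _
      rw [LaurentPolynomial.T_add]
      ring
    · intro j _ hj
      rw [show x (p B (g j) (MvPolynomial.X i)) = 0 from hcI j hj i, map_zero, zero_mul,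
        mul_zero]
  have hcoef : ∀ i z, (LaurentPolynomial.T m *
      GLin.lamOrbit k A lam x (MvPolynomial.X i)).coeff z =
      ∑ j ∈ I.filter (fun j => m + e j = z), c j i := by
    intro i z
    rw [horb, coeff_finset_sum, Finset.sum_filter]
    apply Finset.sum_congr rfl
    intro j _
    rw [coeff_C_mul_T]
  have hind : ∀ z, (∀ i, ∑ j ∈ I.filter (fun j => m + e j = z), c j i = 0) →
      ∀ j ∈ I, m + e j ≠ z := by
    intro z hz j hjI hjz
    obtain ⟨i, hi⟩ := (hI j).mp hjI
    exact hi (indep B hB g hg hlin x _ hz j (Finset.mem_filter.mpr ⟨hjI, hjz⟩) i)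
  constructor
  · rintro ⟨h, hh, hne⟩
    have hcomp : ∀ i, Polynomial.toLaurent (h (MvPolynomial.X i)) =
        LaurentPolynomial.T m * GLin.lamOrbit k A lam x (MvPolynomial.X i) := by
      intro i
      have := congrArg (fun φ => φ (MvPolynomial.X i)) hh
      simpa [GLin.shiftedOrbit] using this
    refine ⟨?_, ?_⟩
    · intro j hj
      by_contra hlt
      push Not at hlt
      have hz : m + e j < 0 := by omega
      refine hind (m + e j) ?_ j hj rfl
      intro i
      rw [← hcoef, ← hcomp, coeff_toLaurent_neg _ _ hz]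
    · by_contra hno
      push Not at hno
      apply hne
      apply MvPolynomial.algHom_ext
      intro i
      simp only [AlgHom.comp_apply, MvPolynomial.aeval_X]
      rw [← Polynomial.coeff_zero_eq_aeval_zero]
      have h1 := coeff_toLaurent_nat (h (MvPolynomial.X i)) 0
      rw [← h1, hcomp, Nat.cast_zero, hcoef]
      apply Finset.sum_eq_zero
      intro j hj
      rw [Finset.mem_filter] at hj
      exact absurd (by omega) (hno j hj.1)
  · rintro ⟨hle, j₀, hj₀, hm⟩
    let q : ι → Polynomial k := fun i =>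
      ∑ j ∈ I, Polynomial.C (c j i) * Polynomial.X ^ (m + e j).toNat
    have hq : ∀ i, Polynomial.toLaurent (q i) =
        LaurentPolynomial.T m * GLin.lamOrbit k A lam x (MvPolynomial.X i) := by
      intro i
      rw [horb, map_sum]
      apply Finset.sum_congr rfl
      intro j hj
      rw [Polynomial.toLaurent_C_mul_X_pow, Int.toNat_of_nonneg (by have := hle j hj; omega)]
    refine ⟨MvPolynomial.aeval q, ?_, ?_⟩
    · apply MvPolynomial.algHom_ext
      intro i
      simp [GLin.shiftedOrbit, hq, x]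
    · intro heq
      have h0 : ∀ i, (q i).coeff 0 = 0 := by
        intro i
        have := congrArg (fun φ => φ (MvPolynomial.X i)) heq
        simpa [Polynomial.coeff_zero_eq_aeval_zero] using this
      refine hind 0 ?_ j₀ hj₀ (by omega)
      intro i
      rw [← hcoef, ← hq, ← h0 i]
      exact_mod_cast coeff_toLaurent_nat (q i) 0

end Main

end Groth.Agent.Lib.Helper26.DiagMu
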