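import Mathlib
set_option maxHeartbeats 400000
namespace Groth.Agent.Lib.Helper26.DieudIter

universe u v

section
variable {W : Type u} [CommRing W] (σ : W →+* W) (p : ℕ)
    {M : Type v} [AddCommGroup M] [Module W M]
    (F : M →+ M)
    (d : ℕ) (a : ℕ → ℕ → W) (e : ℕ → M)

/-- the partial sum `T(j)` -/
noncomputable def T (j : ℕ) : M :=
  ∑ l ∈ Finset.Icc d j, ∑ i ∈ Finset.Icc 1 d,
    ((p : W) ^ (l - d) * (⇑σ)^[j - l] (a i l)) • (⇑F)^[j - l] (e i)

variable {σ p F d a e}

lemma F_T (hF : ∀ (w : W) (m : M), F (w • m) = σ w • F m) (j : ℕ) (hj : d ≤ j + 1) :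
    F (T σ p F d a e j) + ∑ i ∈ Finset.Icc 1 d, ((p : W) ^ (j + 1 - d) * a i (j + 1)) • e i
      = T σ p F d a e (j + 1) := by
  unfold T
  rw [Finset.sum_Icc_succ_top hj]
  congr 1
  swap
  · refine Finset.sum_congr rfl fun i _ => ?_
    simp
  · rw [map_sum]
    refine Finset.sum_congr rfl fun l hl => ?_
    rw [map_sum]
    refine Finset.sum_congr rfl fun i _ => ?_
    have hlj : l ≤ j := (Finset.mem_Icc.mp hl).2
    rw [hF, map_mul, map_pow, map_natCast, Nat.succ_sub hlj, Function.iterate_succ_apply',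
      Function.iterate_succ_apply']

end

theorem main
    (W : Type u) [CommRing W] (σ : W →+* W) (p : ℕ)
    (M : Type v) [AddCommGroup M] [Module W M]
    (F : M →+ M) (hF : ∀ (w : W) (m : M), F (w • m) = σ w • F m)
    (d c : ℕ) (hd : 0 < d) (hc : 0 < c)
    (a : ℕ → ℕ → W) (e : ℕ → M)
    (h1 : ∀ i : ℕ, 1 ≤ i → i < d → F (e i) = e (i + 1))
    (h2 : F (e d) = (∑ i ∈ Finset.Icc 1 d, a i d • e i) + e (d + 1))
    (h3 : ∀ j : ℕ, d < j → j < d + c →
      F (e j) = (∑ i ∈ Finset.Icc 1 d, ((p : W) * a i j) • e i) + (p : W) • e (j + 1))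
    (h4 : F (e (d + c)) = ∑ i ∈ Finset.Icc 1 d, ((p : W) * a i (d + c)) • e i) :
    (⇑F)^[d + c] (e 1) = ∑ i ∈ Finset.Icc 1 d, ∑ j ∈ Finset.Icc d (d + c),
      ((p : W) ^ (j - d) * (⇑σ)^[d + c - j] (a i j)) • (⇑F)^[d + c + i - j - 1] (e 1) := by
  -- e i = F^[i-1] (e 1)
  have he : ∀ i, 1 ≤ i → i ≤ d → e i = (⇑F)^[i - 1] (e 1) := by
    intro i hi
    induction i, hi using Nat.le_induction with
    | base => intro _; rfl
    | succ i hi ih =>
      intro hid
      rw [Nat.add_sub_cancel, ← h1 i hi (by omega), ih (by omega)]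
      obtain ⟨i', rfl⟩ : ∃ i', i = i' + 1 := ⟨i - 1, by omega⟩
      rw [Nat.add_sub_cancel, Function.iterate_succ_apply']
  have hFp : ∀ (t : ℕ) (m : M), ((p : W) ^ t) • F m = F (((p : W) ^ t) • m) := by
    intro t m
    rw [hF, map_pow, map_natCast]
  -- key claim
  have key : ∀ t, t < c → ((p : W) ^ t) • e (d + t + 1)
      = (⇑F)^[d + t] (e 1) - T σ p F d a e (d + t) := by
    intro t
    induction t with
    | zero =>
      intro _
      rw [pow_zero, one_smul, add_zero]
      have hFd : (⇑F)^[d] (e 1) = F (e d) := by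
        rw [he d hd le_rfl]
        obtain ⟨d', rfl⟩ : ∃ d', d = d' + 1 := ⟨d - 1, by omega⟩
        rw [Nat.add_sub_cancel, Function.iterate_succ_apply']
      rw [hFd, h2]
      have hT : T σ p F d a e d = ∑ i ∈ Finset.Icc 1 d, a i d • e i := by
        unfold T
        rw [Finset.Icc_self, Finset.sum_singleton]
        refine Finset.sum_congr rfl fun i _ => ?_
        simp
      rw [hT]
      abel
    | succ t ih =>
      intro htc
      have ih' := ih (by omega)
      have h3' := h3 (d + t + 1) (by omega) (by omega)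
      have e1 : (p : W) • e (d + t + 1 + 1) = F (e (d + t + 1)) -
          ∑ i ∈ Finset.Icc 1 d, ((p : W) * a i (d + t + 1)) • e i := by
        rw [h3']; abel
      have hFT := F_T (σ := σ) (p := p) (F := F) (d := d) (a := a) (e := e) hF (d + t) (by omega)
      have e3 : ((p : W) ^ t) • ∑ i ∈ Finset.Icc 1 d, ((p : W) * a i (d + t + 1)) • e i
          = ∑ i ∈ Finset.Icc 1 d, ((p : W) ^ (d + t + 1 - d) * a i (d + t + 1)) • e i := by
        rw [Finset.smul_sum]
        refine Finset.sum_congr rfl fun i _ => ?_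
        rw [smul_smul, ← mul_assoc, ← pow_succ]
        congr 3
        omega
      change ((p : W) ^ (t + 1)) • e (d + t + 1 + 1)
        = (⇑F)^[d + t + 1] (e 1) - T σ p F d a e (d + t + 1)
      rw [pow_succ, mul_smul, e1, smul_sub, hFp, ih', map_sub, e3, ← hFT,
        Function.iterate_succ_apply']
      abel
  -- final step
  obtain ⟨c', rfl⟩ : ∃ c', c = c' + 1 := ⟨c - 1, by omega⟩
  have hk := key c' (by omega)
  have hFT := F_T (σ := σ) (p := p) (F := F) (d := d) (a := a) (e := e) hF (d + c') (by omega)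
  have e3 : ((p : W) ^ c') • ∑ i ∈ Finset.Icc 1 d, ((p : W) * a i (d + c' + 1)) • e i
      = ∑ i ∈ Finset.Icc 1 d, ((p : W) ^ (d + c' + 1 - d) * a i (d + c' + 1)) • e i := by
    rw [Finset.smul_sum]
    refine Finset.sum_congr rfl fun i _ => ?_
    rw [smul_smul, ← mul_assoc, ← pow_succ]
    congr 3
    omega
  have hfin : (⇑F)^[d + c' + 1] (e 1) = T σ p F d a e (d + c' + 1) := by
    have h5 := congrArg F hk
    rw [← hFp, map_sub, ← Function.iterate_succ_apply' (⇑F)] at h5
    change ((p : W) ^ c') • F (e (d + (c' + 1))) = _ at h5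
    rw [h4] at h5
    change ((p : W) ^ c') • ∑ i ∈ Finset.Icc 1 d, ((p : W) * a i (d + c' + 1)) • e i = _ at h5
    rw [e3] at h5
    rw [← hFT, h5]
    abel
  change (⇑F)^[d + c' + 1] (e 1) = _
  rw [hfin]
  unfold T
  rw [Finset.sum_comm]
  refine Finset.sum_congr rfl fun i hi => ?_
  refine Finset.sum_congr rfl fun l hl => ?_
  have hi1 : 1 ≤ i := (Finset.mem_Icc.mp hi).1
  have hid : i ≤ d := (Finset.mem_Icc.mp hi).2
  have hlh : l ≤ d + c' + 1 := (Finset.mem_Icc.mp hl).2
  rw [he i hi1 hid, ← Function.iterate_add_apply]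
  have : d + c' + 1 - l + (i - 1) = d + (c' + 1) + i - l - 1 := by omega
  rw [this]
  rfl

end Groth.Agent.Lib.Helper26.DieudIter
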