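import Mathlib
import Groth.Prelude.Def_FlatCA

set_option autoImplicit false
set_option maxHeartbeats 400000
universe u
open Polynomial

namespace Groth.Agent.Lib.Helper26.DirColimFinite

variable (A : Type u) {A' : Type u} [CommRing A] [CommRing A'] [Algebra A A']

section Setup
variable {n : ℕ} (a : Fin n → A') (p : Fin n → A[X])

/-- the relation polynomials `p_i(X_i)`. -/
noncomputable def q (i : Fin n) : MvPolynomial (Fin n) A :=
  Polynomial.aeval (MvPolynomial.X i : MvPolynomial (Fin n) A) (p i)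

noncomputable abbrev π : MvPolynomial (Fin n) A →ₐ[A] A' := MvPolynomial.aeval a

lemma π_q (hp : ∀ i, Polynomial.aeval (a i) (p i) = 0) (i : Fin n) : π A a (q A p i) = 0 := by
  unfold q
  rw [← Polynomial.aeval_algHom_apply, MvPolynomial.aeval_X, hp]

noncomputable abbrev J : Ideal (MvPolynomial (Fin n) A) := RingHom.ker (π A a)

/-- the ideal of stage `T`. -/
noncomputable def I (T : Finset (J A a)) : Ideal (MvPolynomial (Fin n) A) :=
  Ideal.span (Set.range (q A p) ∪ (fun j : J A a => (j : MvPolynomial (Fin n) A)) '' (T : Set (J A a)))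

lemma I_le_J (hp : ∀ i, Polynomial.aeval (a i) (p i) = 0) (T : Finset (J A a)) :
    I A a p T ≤ J A a := by
  unfold I
  rw [Ideal.span_le]
  rintro x (⟨i, rfl⟩ | ⟨j, -, rfl⟩)
  · exact π_q A a p hp i
  · exact j.2

lemma I_mono {T T' : Finset (J A a)} (h : T ≤ T') : I A a p T ≤ I A a p T' := by
  unfold I
  apply Ideal.span_mono
  apply Set.union_subset_union_right
  exact Set.image_mono (Finset.coe_subset.mpr h)

lemma I_fg (T : Finset (J A a)) : (I A a p T).FG := by
  unfold I
  apply Submodule.fg_span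
  exact (Set.finite_range _).union ((T.finite_toSet).image _)

abbrev G (T : Finset (J A a)) : Type u := MvPolynomial (Fin n) A ⧸ I A a p T

lemma q_mem (T : Finset (J A a)) (i : Fin n) : q A p i ∈ I A a p T :=
  Ideal.subset_span (Or.inl ⟨i, rfl⟩)

lemma isIntegral_mk_X (hmonic : ∀ i, (p i).Monic) (T : Finset (J A a)) (i : Fin n) :
    IsIntegral A (Ideal.Quotient.mk (I A a p T) (MvPolynomial.X i)) := by
  refine ⟨p i, hmonic i, ?_⟩
  have h1 : Polynomial.aeval ((Ideal.Quotient.mkₐ A (I A a p T)) (MvPolynomial.X i)) (p i) =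
      (Ideal.Quotient.mkₐ A (I A a p T)) (Polynomial.aeval (MvPolynomial.X i) (p i)) :=
    Polynomial.aeval_algHom_apply _ _ _
  have h2 : (Ideal.Quotient.mkₐ A (I A a p T)) (Polynomial.aeval (MvPolynomial.X i) (p i)) = 0 :=
    Ideal.Quotient.eq_zero_iff_mem.mpr (q_mem A a p T i)
  rw [h2] at h1
  exact h1

lemma finite_G (hmonic : ∀ i, (p i).Monic) (T : Finset (J A a)) :
    Module.Finite A (G A a p T) := by
  have hfg := fg_adjoin_of_finite (R := A)
    (s := Set.range fun i : Fin n => Ideal.Quotient.mk (I A a p T) (MvPolynomial.X i))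
    (Set.finite_range _) (by rintro _ ⟨i, rfl⟩; exact isIntegral_mk_X A a p hmonic T i)
  have htop : Algebra.adjoin A
      (Set.range fun i : Fin n => Ideal.Quotient.mk (I A a p T) (MvPolynomial.X i)) = ⊤ := by
    have h1 : (Algebra.adjoin A (Set.range (MvPolynomial.X : Fin n → MvPolynomial (Fin n) A))).map
        (Ideal.Quotient.mkₐ A (I A a p T)) = ⊤ := by
      rw [MvPolynomial.adjoin_range_X, Algebra.map_top]
      exact (AlgHom.range_eq_top _).mpr (Ideal.Quotient.mkₐ_surjective A _)
    rw [AlgHom.map_adjoin, ← Set.range_comp] at h1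
    exact h1
  rw [htop, Algebra.top_toSubmodule] at hfg
  exact ⟨hfg⟩

lemma fp_G (T : Finset (J A a)) : Algebra.FinitePresentation A (G A a p T) :=
  Algebra.FinitePresentation.quotient (I_fg A a p T)

noncomputable def lft (hp : ∀ i, Polynomial.aeval (a i) (p i) = 0) (T : Finset (J A a)) :
    G A a p T →ₐ[A] A' :=
  Ideal.Quotient.liftₐ (I A a p T) (π A a) (fun x hx => I_le_J A a p hp T hx)

lemma lft_mk (hp : ∀ i, Polynomial.aeval (a i) (p i) = 0) (T : Finset (J A a))
    (x : MvPolynomial (Fin n) A) :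
    lft A a p hp T (Ideal.Quotient.mk _ x) = π A a x := by
  unfold lft
  exact Ideal.Quotient.liftₐ_apply _ _ _ _

noncomputable def tr {T T' : Finset (J A a)} (h : T ≤ T') : G A a p T →ₐ[A] G A a p T' :=
  Ideal.Quotient.factorₐ A (I_mono A a p h)

lemma tr_mk {T T' : Finset (J A a)} (h : T ≤ T') (x : MvPolynomial (Fin n) A) :
    tr A a p h (Ideal.Quotient.mk _ x) = Ideal.Quotient.mk _ x := by
  unfold tr
  exact Ideal.Quotient.factorₐ_apply_mk _ _ _

end Setup

theorem main (A A' : Type u) [CommRing A] [CommRing A']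
    [Algebra A A'] [Module.Finite A A'] :
    ∃ (ι : Type u) (_ : Preorder ι) (G : ι → Type u) (_ : ∀ i, CommRing (G i)) (_ : ∀ i, Algebra A (G i))
      (g : ∀ i j, i ≤ j → G i →ₐ[A] G j) (_ : ∀ i, Algebra (G i) A') (_ : ∀ i, IsScalarTower A (G i) A'),
      FlatCA.IsDirectedColimitRing G (fun i j h => (g i j h).toRingHom) A' ∧
        ∀ i, Module.Finite A (G i) ∧ Algebra.FinitePresentation A (G i) := by
  classical
  obtain ⟨n, a, ha⟩ := Module.Finite.exists_fin (R := A) (M := A')
  have hint : ∀ i, ∃ p : A[X], p.Monic ∧ Polynomial.aeval (a i) p = 0 := fun i =>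
    (Algebra.IsIntegral.of_finite A A').isIntegral (a i)
  choose p hmonic hp using hint
  have hsurj : Function.Surjective (π A a) := by
    rw [← AlgHom.range_eq_top, ← Algebra.adjoin_range_eq_range_aeval]
    rw [← Algebra.toSubmodule_eq_top, eq_top_iff, ← ha]
    exact Algebra.span_le_adjoin A _
  refine ⟨Finset (J A a), inferInstance, G A a p, fun _ => inferInstance, fun _ => inferInstance,
    fun T T' h => tr A a p h,
    fun T => (lft A a p hp T).toRingHom.toAlgebra, fun T => ?_, ?_,
    fun T => ⟨finite_G A a p hmonic T, fp_G A a p T⟩⟩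
  · letI := (lft A a p hp T).toRingHom.toAlgebra
    refine IsScalarTower.of_algebraMap_eq fun x => ?_
    exact ((lft A a p hp T).commutes x).symm
  · refine ⟨inferInstance, inferInstance, ?_, ?_, ?_, ?_, ?_⟩
    · intro T
      refine RingHom.ext fun x => ?_
      obtain ⟨x, rfl⟩ := Ideal.Quotient.mk_surjective x
      exact tr_mk A a p _ x
    · intro i j k hij hjk
      refine RingHom.ext fun x => ?_
      obtain ⟨x, rfl⟩ := Ideal.Quotient.mk_surjective x
      have e1 : ∀ y, tr A a p hjk (tr A a p hij (Ideal.Quotient.mk _ y)) =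
          tr A a p (hij.trans hjk) (Ideal.Quotient.mk _ y) := fun y => by
        rw [tr_mk, tr_mk, tr_mk]
      exact e1 x
    · intro i j h
      refine RingHom.ext fun x => ?_
      obtain ⟨x, rfl⟩ := Ideal.Quotient.mk_surjective x
      have e1 : ∀ y, lft A a p hp j (tr A a p h (Ideal.Quotient.mk _ y)) =
          lft A a p hp i (Ideal.Quotient.mk _ y) := fun y => by
        rw [tr_mk, lft_mk, lft_mk]
      exact e1 x
    · intro y
      obtain ⟨x, rfl⟩ := hsurj y
      exact ⟨∅, Ideal.Quotient.mk _ x, lft_mk A a p hp ∅ x⟩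
    · intro T x hx
      obtain ⟨x, rfl⟩ := Ideal.Quotient.mk_surjective x
      have hxJ : x ∈ J A a := by
        have : lft A a p hp T (Ideal.Quotient.mk _ x) = 0 := hx
        rw [lft_mk] at this
        exact this
      refine ⟨insert ⟨x, hxJ⟩ T, Finset.subset_insert _ _, ?_⟩
      change tr A a p _ (Ideal.Quotient.mk _ x) = 0
      rw [tr_mk, Ideal.Quotient.eq_zero_iff_mem]
      apply Ideal.subset_span
      right
      exact ⟨⟨x, hxJ⟩, Finset.mem_coe.mpr (Finset.mem_insert_self _ _), rfl⟩

end Groth.Agent.Lib.Helper26.DirColimFinite
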