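import Mathlib

set_option maxHeartbeats 400000
set_option autoImplicit false

namespace Groth.Agent.Lib.Helper26.DoubleIdx

universe u

/-- a sorted-contiguity lemma: if `g` is monotone and no value is taken more than `e` times
(by the bijection `s`), then positions at distance `≥ e` carry distinct values -/
theorem ne_of_far {α : Type u} [LinearOrder α] {n e : ℕ} (x : Fin n → α) (s : Equiv.Perm (Fin n))
    (hmono : Monotone (x ∘ s))
    (hx : ∀ a : α, ∀ T : Finset (Fin n), (∀ k ∈ T, x k = a) → T.card ≤ e)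
    (t t' : Fin n) (h : t.val + e ≤ t'.val) : x (s t) ≠ x (s t') := by
  intro heq
  have hle : t ≤ t' := by rw [Fin.le_def]; omega
  have hconst : ∀ u ∈ Finset.Icc t t', x (s u) = x (s t) := by
    intro u hu
    rw [Finset.mem_Icc] at hu
    have h1 : x (s t) ≤ x (s u) := hmono hu.1
    have h2 : x (s u) ≤ x (s t') := hmono hu.2
    rw [← heq] at h2
    exact le_antisymm h2 h1
  have hcard := hx (x (s t)) ((Finset.Icc t t').map s.toEmbedding) (by
    intro k hk
    rw [Finset.mem_map] at hk
    obtain ⟨u, hu, rfl⟩ := hk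
    exact hconst u hu)
  rw [Finset.card_map, Fin.card_Icc] at hcard
  omega

theorem count_of_bij {n : ℕ} (f : Fin n → Fin n) (hf : Function.Bijective f) (m : Fin n) :
    (Finset.univ.filter fun k => f k = m).card = 1 := by
  rw [Finset.card_eq_one]
  obtain ⟨k, hk⟩ := hf.2 m
  refine ⟨k, ?_⟩
  ext k'
  simp only [Finset.mem_filter, Finset.mem_univ, true_and, Finset.mem_singleton]
  rw [← hk, hf.1.eq_iff]

/-- position map for `i` -/
def phi (e : ℕ) (k : ℕ) : ℕ :=
  if k = 0 then 0 else if k = 1 then e else if k = 2 then 2 * e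
  else if k ≤ e + 1 then k - 2 else k - 1

/-- position map for `j` -/
def psi (e : ℕ) (k : ℕ) : ℕ :=
  if k = 0 then e else if k = 1 then 2 * e else if k = 2 then 0
  else if k ≤ e + 1 then k - 2 + e else k - 1 - e

theorem phi_lt (e k : ℕ) (he : 1 ≤ e) (hk : k < 2 * e + 1) : phi e k < 2 * e + 1 := by
  unfold phi; split_ifs <;> omega

theorem psi_lt (e k : ℕ) (he : 1 ≤ e) (hk : k < 2 * e + 1) : psi e k < 2 * e + 1 := by
  unfold psi; split_ifs <;> omega

theorem phi_inj (e k k' : ℕ) (he : 1 ≤ e) (hk : k < 2 * e + 1) (hk' : k' < 2 * e + 1)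
    (h : phi e k = phi e k') : k = k' := by
  unfold phi at h; split_ifs at h <;> omega

theorem psi_inj (e k k' : ℕ) (he : 1 ≤ e) (hk : k < 2 * e + 1) (hk' : k' < 2 * e + 1)
    (h : psi e k = psi e k') : k = k' := by
  unfold psi at h; split_ifs at h <;> omega

theorem phi_psi_far (e k : ℕ) (he : 1 ≤ e) (hk : k < 2 * e + 1) :
    phi e k + e ≤ psi e k ∨ psi e k + e ≤ phi e k := by
  unfold phi psi; split_ifs <;> omega

theorem main {α : Type u} [DecidableEq α] (e : ℕ) (he : 1 ≤ e)
    (x : Fin (2 * e + 1) → α)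
    (hx : ∀ a : α, (Finset.univ.filter fun k => x k = a).card ≤ e) :
    ∃ i j : Fin (2 * e + 1) → Fin (2 * e + 1),
      (∀ m : Fin (2 * e + 1),
        (Finset.univ.filter fun k => i k = m).card + (Finset.univ.filter fun k => j k = m).card = 2) ∧
      (∀ k, x (i k) ≠ x (j k)) ∧
      i 0 = j 2 ∧ i 1 = j 0 ∧ i 2 = j 1 := by
  classical
  let _ : LinearOrder α := IsWellOrder.linearOrder WellOrderingRel
  have hx' : ∀ a : α, ∀ T : Finset (Fin (2 * e + 1)), (∀ k ∈ T, x k = a) → T.card ≤ e := by
    intro a T hT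
    refine le_trans (Finset.card_le_card ?_) (hx a)
    intro k hk
    simp only [Finset.mem_filter, Finset.mem_univ, true_and]
    exact hT k hk
  set s := Tuple.sort x with hs
  have hmono : Monotone (x ∘ s) := Tuple.monotone_sort x
  let P : Fin (2 * e + 1) → Fin (2 * e + 1) := fun k => ⟨phi e k.val, phi_lt e k.val he k.isLt⟩
  let Q : Fin (2 * e + 1) → Fin (2 * e + 1) := fun k => ⟨psi e k.val, psi_lt e k.val he k.isLt⟩
  have hPinj : Function.Injective P := by
    intro a b h
    have : phi e a.val = phi e b.val := congrArg Fin.val h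
    exact Fin.ext (phi_inj e a.val b.val he a.isLt b.isLt this)
  have hQinj : Function.Injective Q := by
    intro a b h
    have : psi e a.val = psi e b.val := congrArg Fin.val h
    exact Fin.ext (psi_inj e a.val b.val he a.isLt b.isLt this)
  have hPbij : Function.Bijective (fun k => s (P k)) :=
    s.bijective.comp (Finite.injective_iff_bijective.mp hPinj)
  have hQbij : Function.Bijective (fun k => s (Q k)) :=
    s.bijective.comp (Finite.injective_iff_bijective.mp hQinj)
  refine ⟨fun k => s (P k), fun k => s (Q k), ?_, ?_, ?_, ?_, ?_⟩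
  · intro m
    rw [count_of_bij _ hPbij m, count_of_bij _ hQbij m]
  · intro k
    rcases phi_psi_far e k.val he k.isLt with h | h
    · exact ne_of_far x s hmono hx' (P k) (Q k) h
    · exact (ne_of_far x s hmono hx' (Q k) (P k) h).symm
  · show s (P 0) = s (Q 2)
    congr 1
    apply Fin.ext
    show phi e ((0 : Fin (2 * e + 1)).val) = psi e ((2 : Fin (2 * e + 1)).val)
    have h2 : ((2 : Fin (2 * e + 1)).val) = 2 := by
      rw [Fin.coe_ofNat_eq_mod]; exact Nat.mod_eq_of_lt (by omega)
    rw [h2]; simp [phi, psi]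
  · show s (P 1) = s (Q 0)
    congr 1
    apply Fin.ext
    show phi e ((1 : Fin (2 * e + 1)).val) = psi e ((0 : Fin (2 * e + 1)).val)
    have h1 : ((1 : Fin (2 * e + 1)).val) = 1 := by
      rw [Fin.coe_ofNat_eq_mod]; exact Nat.mod_eq_of_lt (by omega)
    rw [h1]; simp [phi, psi]
  · show s (P 2) = s (Q 1)
    congr 1
    apply Fin.ext
    show phi e ((2 : Fin (2 * e + 1)).val) = psi e ((1 : Fin (2 * e + 1)).val)
    have h1 : ((1 : Fin (2 * e + 1)).val) = 1 := by
      rw [Fin.coe_ofNat_eq_mod]; exact Nat.mod_eq_of_lt (by omega)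
    have h2 : ((2 : Fin (2 * e + 1)).val) = 2 := by
      rw [Fin.coe_ofNat_eq_mod]; exact Nat.mod_eq_of_lt (by omega)
    rw [h1, h2]; simp [phi, psi]

end Groth.Agent.Lib.Helper26.DoubleIdx
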