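import Mathlib

set_option maxHeartbeats 400000

universe u
open CategoryTheory CategoryTheory.Limits MonoidalCategory

namespace Groth.Agent.Lib.Helper26.DualCx
open GradedObject GradedObject.Monoidal

variable {R : Type u} [CommRing R]

abbrev G (R : Type u) [CommRing R] := GradedObject ℤ (ModuleCat.{u} R)

variable (X Y : G R) (η : 𝟙_ (G R) ⟶ X ⊗ Y) (ε : Y ⊗ X ⟶ 𝟙_ (G R))

/-- the degree-p evaluation pairing -/
noncomputable def ev (p : ℤ) : Y (-p) ⊗ X p ⟶ 𝟙_ (ModuleCat.{u} R) :=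
  ιTensorObj Y X (-p) p 0 (by simp) ≫ ε 0 ≫ tensorUnit₀.hom

noncomputable def T (n : ℤ) : (X ⊗ Y) 0 ⊗ X n ⟶ X n :=
  ιTensorObj (X ⊗ Y) X 0 n n (zero_add n) ≫ (α_ X Y X).hom n ≫ (X ◁ ε) n ≫ (ρ_ X).hom n

lemma ι_rightUnitor_hom (n : ℤ) :
    ιTensorObj X (𝟙_ (G R)) n 0 n (add_zero n) ≫ (ρ_ X).hom n =
      (X n ◁ tensorUnit₀.hom) ≫ (ρ_ (X n)).hom := by
  have h : (ρ_ X).inv n = (ρ_ (X n)).inv ≫ X n ◁ tensorUnit₀.inv ≫
      ιTensorObj X (𝟙_ (G R)) n 0 n (add_zero n) := rightUnitor_inv_apply X n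
  have h2 : (ρ_ X).inv n ≫ (ρ_ X).hom n = 𝟙 _ := by
    rw [← GradedObject.categoryOfGradedObjects_comp, Iso.inv_hom_id]; rfl
  have h3 : ιTensorObj X (𝟙_ (G R)) n 0 n (add_zero n) =
      (X n ◁ tensorUnit₀.hom) ≫ (ρ_ (X n)).hom ≫ (ρ_ X).inv n := by
    rw [h]
    simp only [Iso.hom_inv_id_assoc, ← MonoidalCategory.whiskerLeft_comp_assoc, Iso.hom_inv_id,
      MonoidalCategory.whiskerLeft_id, Category.id_comp]
  rw [h3, Category.assoc, Category.assoc, h2, Category.comp_id]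

lemma Φ_general (p q n : ℤ) (hq : -p + n = q) :
    (ιTensorObj X Y p (-p) 0 (by simp) ▷ X n) ≫ ιTensorObj (X ⊗ Y) X 0 n n (zero_add n) ≫
      (α_ X Y X).hom n ≫ (X ◁ ε) n =
    (α_ (X p) (Y (-p)) (X n)).hom ≫ (X p ◁ (ιTensorObj Y X (-p) n q hq ≫ ε q)) ≫
      ιTensorObj X (𝟙_ (G R)) p q n (by omega) := by
  have h1 : (ιTensorObj X Y p (-p) 0 (by simp) ▷ X n) ≫ ιTensorObj (X ⊗ Y) X 0 n n (zero_add n) =
      ιTensorObj₃' X Y X p (-p) n n (by omega) :=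
    (ιTensorObj₃'_eq X Y X p (-p) n n (by omega) 0 (by simp)).symm
  have h2 : ιTensorObj₃' X Y X p (-p) n n (by omega) ≫ (α_ X Y X).hom n =
      (α_ (X p) (Y (-p)) (X n)).hom ≫ ιTensorObj₃ X Y X p (-p) n n (by omega) :=
    ιTensorObj₃'_associator_hom X Y X p (-p) n n (by omega)
  have h3 : ιTensorObj₃ X Y X p (-p) n n (by omega) =
      (X p ◁ ιTensorObj Y X (-p) n q hq) ≫ ιTensorObj X (Y ⊗ X) p q n (by omega) :=
    ιTensorObj₃_eq X Y X p (-p) n n (by omega) q hq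
  have h4 : ιTensorObj X (Y ⊗ X) p q n (by omega) ≫ (X ◁ ε) n =
      (X p ◁ ε q) ≫ ιTensorObj X (𝟙_ (G R)) p q n (by omega) := by
    have := ι_tensorHom (𝟙 X) ε p q n (by omega)
    rw [GradedObject.categoryOfGradedObjects_id, MonoidalCategory.id_tensorHom] at this
    exact this
  rw [← Category.assoc, h1, ← Category.assoc, h2, Category.assoc, h3, Category.assoc, h4,
    MonoidalCategory.whiskerLeft_comp, Category.assoc]

lemma Φ_ne (p n : ℤ) (hpn : p ≠ n) :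
    (ιTensorObj X Y p (-p) 0 (by simp) ▷ X n) ≫ T X Y ε n = 0 := by
  have hq : -p + n ≠ 0 := by omega
  have hz : IsZero ((𝟙_ (G R)) (-p + n)) :=
    IsZero.of_iso (isZero_zero _)
      ((isInitialTensorUnitApply (C := ModuleCat.{u} R) (-p + n) hq).uniqueUpToIso
        HasZeroObject.zeroIsInitial)
  have hε : ε (-p + n) = 0 := hz.eq_of_tgt _ _
  unfold T
  have := Φ_general X Y ε p (-p + n) n rfl
  have h' : (ιTensorObj X Y p (-p) 0 (by simp) ▷ X n) ≫ ιTensorObj (X ⊗ Y) X 0 n n (zero_add n) ≫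
      (α_ X Y X).hom n ≫ (X ◁ ε) n ≫ (ρ_ X).hom n =
      ((ιTensorObj X Y p (-p) 0 (by simp) ▷ X n) ≫ ιTensorObj (X ⊗ Y) X 0 n n (zero_add n) ≫
      (α_ X Y X).hom n ≫ (X ◁ ε) n) ≫ (ρ_ X).hom n := by simp only [Category.assoc]
  rw [h', this, hε]
  simp

lemma Φ_eq (p : ℤ) :
    (ιTensorObj X Y p (-p) 0 (by simp) ▷ X p) ≫ T X Y ε p =
      (α_ (X p) (Y (-p)) (X p)).hom ≫ (X p ◁ ev X Y ε p) ≫ (ρ_ (X p)).hom := by
  unfold T ev
  have := Φ_general X Y ε p 0 p (by simp)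
  have h' : (ιTensorObj X Y p (-p) 0 (by simp) ▷ X p) ≫ ιTensorObj (X ⊗ Y) X 0 p p (zero_add p) ≫
      (α_ X Y X).hom p ≫ (X ◁ ε) p ≫ (ρ_ X).hom p =
      ((ιTensorObj X Y p (-p) 0 (by simp) ▷ X p) ≫ ιTensorObj (X ⊗ Y) X 0 p p (zero_add p) ≫
      (α_ X Y X).hom p ≫ (X ◁ ε) p) ≫ (ρ_ X).hom p := by simp only [Category.assoc]
  rw [h', this]
  simp only [Category.assoc]
  rw [ι_rightUnitor_hom]
  simp only [MonoidalCategory.whiskerLeft_comp, Category.assoc]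

lemma zig (h₁ : η ▷ X ≫ (α_ X Y X).hom ≫ X ◁ ε = (λ_ X).hom ≫ (ρ_ X).inv) (n : ℤ) :
    (λ_ (X n)).inv ≫ ((tensorUnit₀.inv ≫ η 0) ▷ X n) ≫ T X Y ε n = 𝟙 (X n) := by
  have h1 : (η ▷ X) n ≫ (α_ X Y X).hom n ≫ (X ◁ ε) n = (λ_ X).hom n ≫ (ρ_ X).inv n :=
    congr_fun h₁ n
  have h2 : (λ_ X).inv n = (λ_ (X n)).inv ≫ (tensorUnit₀.inv ▷ X n) ≫
      ιTensorObj (𝟙_ (G R)) X 0 n n (zero_add n) := leftUnitor_inv_apply X n
  have h3 : ιTensorObj (𝟙_ (G R)) X 0 n n (zero_add n) ≫ (η ▷ X) n =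
      (η 0 ▷ X n) ≫ ιTensorObj (X ⊗ Y) X 0 n n (zero_add n) := by
    have := ι_tensorHom η (𝟙 X) 0 n n (zero_add n)
    rw [GradedObject.categoryOfGradedObjects_id, MonoidalCategory.tensorHom_id] at this
    exact this
  have h4 : (λ_ X).inv n ≫ (λ_ X).hom n = 𝟙 _ := by
    rw [← GradedObject.categoryOfGradedObjects_comp, Iso.inv_hom_id]; rfl
  have h5 : (ρ_ X).inv n ≫ (ρ_ X).hom n = 𝟙 _ := by
    rw [← GradedObject.categoryOfGradedObjects_comp, Iso.inv_hom_id]; rfl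
  have h6 : (λ_ X).inv n ≫ ((η ▷ X) n ≫ (α_ X Y X).hom n ≫ (X ◁ ε) n) ≫ (ρ_ X).hom n = 𝟙 _ := by
    rw [h1, Category.assoc, h5, Category.comp_id, h4]
  rw [← h6, h2]
  unfold T
  simp only [Category.assoc, MonoidalCategory.comp_whiskerRight]
  rw [reassoc_of% h3]

section elements
open TensorProduct

/-- finite dual-family representation of a linear endomorphism -/
def HasRep {P : Type u} [AddCommGroup P] [Module R P] (F : P →ₗ[R] P) : Prop :=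
  ∃ (K : Type) (_ : Fintype K) (m : K → P) (φ : K → (P →ₗ[R] R)), ∀ x, F x = ∑ k, φ k x • m k

lemma hasRep_zero {P : Type u} [AddCommGroup P] [Module R P] : HasRep (R := R) (0 : P →ₗ[R] P) :=
  ⟨PEmpty, inferInstance, PEmpty.elim, PEmpty.elim, fun x => by simp⟩

lemma hasRep_add {P : Type u} [AddCommGroup P] [Module R P] {F F' : P →ₗ[R] P}
    (h : HasRep F) (h' : HasRep F') : HasRep (F + F') := by
  obtain ⟨K, _, m, φ, hF⟩ := h
  obtain ⟨K', _, m', φ', hF'⟩ := h'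
  refine ⟨K ⊕ K', inferInstance, Sum.elim m m', Sum.elim φ φ', fun x => ?_⟩
  rw [LinearMap.add_apply, hF, hF', Fintype.sum_sum_type]
  rfl

lemma finite_projective_of_hasRep_id {P : Type u} [AddCommGroup P] [Module R P]
    (h : HasRep (LinearMap.id : P →ₗ[R] P)) : Module.Finite R P ∧ Module.Projective R P := by
  obtain ⟨K, _, m, φ, hF⟩ := h
  let s : (K → R) →ₗ[R] P := Fintype.linearCombination R m
  let i : P →ₗ[R] (K → R) := LinearMap.pi φ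
  have hsi : s.comp i = LinearMap.id := by
    ext x
    simp only [LinearMap.coe_comp, Function.comp_apply, LinearMap.id_coe, id_eq]
    have := hF x
    simp only [LinearMap.id_coe, id_eq] at this
    refine Eq.trans ?_ this.symm
    simp [s, i, Fintype.linearCombination_apply]
  have hs : Function.Surjective s := fun x => ⟨i x, by
    have := LinearMap.congr_fun hsi x
    simpa using this⟩
  exact ⟨Module.Finite.of_surjective s hs, Module.Projective.of_split i s hsi⟩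

end elements

section main
open TensorProduct

/-- `x ↦ T_n (w ⊗ x)` -/
noncomputable def Fw (w : ((X ⊗ Y) 0 : ModuleCat.{u} R)) (n : ℤ) : (X n) →ₗ[R] (X n) :=
  (T X Y ε n).hom ∘ₗ (TensorProduct.mk R ((X ⊗ Y) 0 : ModuleCat.{u} R) (X n) w)

lemma Fw_add (w w' : ((X ⊗ Y) 0 : ModuleCat.{u} R)) (n : ℤ) :
    Fw X Y ε (w + w') n = Fw X Y ε w n + Fw X Y ε w' n := by
  unfold Fw
  rw [map_add, LinearMap.comp_add]

lemma Fw_zero (n : ℤ) : Fw X Y ε 0 n = 0 := by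
  unfold Fw
  rw [map_zero, LinearMap.comp_zero]

/-- `x ↦ (α ≫ (X p ◁ ev) ≫ ρ) (v ⊗ x)` -/
noncomputable def Ψ (p : ℤ) (v : (X p ⊗ Y (-p) : ModuleCat.{u} R)) : (X p) →ₗ[R] (X p) :=
  ((α_ (X p) (Y (-p)) (X p)).hom ≫ (X p ◁ ev X Y ε p) ≫ (ρ_ (X p)).hom).hom ∘ₗ
    (TensorProduct.mk R (X p ⊗ Y (-p) : ModuleCat.{u} R) (X p) v)

lemma hasRep_Ψ (p : ℤ) (v : (X p ⊗ Y (-p) : ModuleCat.{u} R)) : HasRep (Ψ X Y ε p v) := by
  induction v using TensorProduct.induction_on with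
  | zero =>
    have : Ψ X Y ε p 0 = 0 := by unfold Ψ; rw [map_zero, LinearMap.comp_zero]
    rw [this]; exact hasRep_zero
  | tmul m y =>
    refine ⟨Unit, inferInstance, fun _ => m,
      fun _ => (ev X Y ε p).hom ∘ₗ (TensorProduct.mk R (Y (-p)) (X p) y), fun x => ?_⟩
    simp only [Ψ, LinearMap.coe_comp, Function.comp_apply,
      ModuleCat.hom_comp, Finset.univ_unique, Finset.sum_singleton]
    change (ρ_ (X p)).hom.hom ((X p ◁ ev X Y ε p).hom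
      ((α_ (X p) (Y (-p)) (X p)).hom.hom ((m ⊗ₜ[R] y) ⊗ₜ[R] x))) =
        (ev X Y ε p).hom (y ⊗ₜ[R] x) • m
    rw [ModuleCat.MonoidalCategory.associator_hom_apply,
      ModuleCat.MonoidalCategory.whiskerLeft_apply,
      ModuleCat.MonoidalCategory.rightUnitor_hom_apply]
  | add v v' hv hv' =>
    have : Ψ X Y ε p (v + v') = Ψ X Y ε p v + Ψ X Y ε p v' := by
      unfold Ψ; rw [map_add, LinearMap.comp_add]
    rw [this]; exact hasRep_add hv hv'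

lemma Fw_ι (p n : ℤ) (v : (X p ⊗ Y (-p) : ModuleCat.{u} R)) (x : X n) :
    Fw X Y ε ((ιTensorObj X Y p (-p) 0 (by simp)).hom v) n x =
      ((ιTensorObj X Y p (-p) 0 (by simp) ▷ X n) ≫ T X Y ε n).hom (v ⊗ₜ[R] x) := by
  change (T X Y ε n).hom (((ιTensorObj X Y p (-p) 0 (by simp)).hom v) ⊗ₜ[R] x) =
    (T X Y ε n).hom ((ιTensorObj X Y p (-p) 0 (by simp) ▷ X n).hom (v ⊗ₜ[R] x))
  rw [ModuleCat.MonoidalCategory.whiskerRight_apply]

lemma Fw_ι_ne (p n : ℤ) (hpn : p ≠ n) (v : (X p ⊗ Y (-p) : ModuleCat.{u} R)) :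
    Fw X Y ε ((ιTensorObj X Y p (-p) 0 (by simp)).hom v) n = 0 := by
  ext x
  rw [Fw_ι, Φ_ne X Y ε p n hpn]
  rfl

lemma Fw_ι_eq (p : ℤ) (v : (X p ⊗ Y (-p) : ModuleCat.{u} R)) :
    Fw X Y ε ((ιTensorObj X Y p (-p) 0 (by simp)).hom v) p = Ψ X Y ε p v := by
  ext x
  rw [Fw_ι, Φ_eq X Y ε p]
  rfl

lemma iSup_range_eq_top :
    (⨆ p : ℤ, LinearMap.range (ιTensorObj X Y p (-p) 0 (by simp)).hom) = ⊤ := by
  set N := ⨆ p : ℤ, LinearMap.range (ιTensorObj X Y p (-p) 0 (by simp)).hom with hN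
  let π : (X ⊗ Y) 0 ⟶ ModuleCat.of R (((X ⊗ Y) 0 : ModuleCat.{u} R) ⧸ N) := ModuleCat.ofHom N.mkQ
  have hπ : π = 0 := by
    apply tensorObj_ext
    intro i₁ i₂ hi
    obtain rfl : i₂ = -i₁ := by omega
    rw [comp_zero]
    ext v
    change N.mkQ ((ιTensorObj X Y i₁ (-i₁) 0 hi).hom v) = 0
    rw [Submodule.mkQ_apply, Submodule.Quotient.mk_eq_zero]
    exact (le_iSup (fun p : ℤ => LinearMap.range (ιTensorObj X Y p (-p) 0 (by simp)).hom) i₁)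
      ⟨v, rfl⟩
  rw [eq_top_iff]
  intro w _
  have : N.mkQ w = 0 := by
    have := congrArg (fun f => f.hom w) hπ
    exact this
  rwa [Submodule.mkQ_apply, Submodule.Quotient.mk_eq_zero] at this

lemma motive_all (w : ((X ⊗ Y) 0 : ModuleCat.{u} R)) :
    (∃ S : Finset ℤ, ∀ n ∉ S, Fw X Y ε w n = 0) ∧ ∀ n, HasRep (Fw X Y ε w n) := by
  have hw : w ∈ ⨆ p : ℤ, LinearMap.range (ιTensorObj X Y p (-p) 0 (by simp)).hom := by
    rw [iSup_range_eq_top]; trivial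
  refine Submodule.iSup_induction _ (motive := fun w =>
    (∃ S : Finset ℤ, ∀ n ∉ S, Fw X Y ε w n = 0) ∧ ∀ n, HasRep (Fw X Y ε w n)) hw ?_ ?_ ?_
  · rintro p _ ⟨v, rfl⟩
    refine ⟨⟨{p}, fun n hn => Fw_ι_ne X Y ε p n (by simpa [eq_comm] using hn) v⟩, fun n => ?_⟩
    by_cases hpn : p = n
    · subst hpn
      rw [Fw_ι_eq]
      exact hasRep_Ψ X Y ε p v
    · rw [Fw_ι_ne X Y ε p n hpn]
      exact hasRep_zero
  · refine ⟨⟨∅, fun n _ => Fw_zero X Y ε n⟩, fun n => ?_⟩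
    rw [Fw_zero]; exact hasRep_zero
  · rintro a b ⟨⟨S, hS⟩, ha⟩ ⟨⟨S', hS'⟩, hb⟩
    classical
    refine ⟨⟨S ∪ S', fun n hn => ?_⟩, fun n => ?_⟩
    · rw [Fw_add, hS n (fun h => hn (Finset.mem_union_left _ h)),
        hS' n (fun h => hn (Finset.mem_union_right _ h)), add_zero]
    · rw [Fw_add]; exact hasRep_add (ha n) (hb n)

include η in
theorem graded_main (h₁ : η ▷ X ≫ (α_ X Y X).hom ≫ X ◁ ε = (λ_ X).hom ≫ (ρ_ X).inv) :
    (∃ S : Finset ℤ, ∀ n ∉ S, Subsingleton (X n)) ∧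
      ∀ n, Module.Finite R (X n) ∧ Module.Projective R (X n) := by
  let u : ((X ⊗ Y) 0 : ModuleCat.{u} R) :=
    (tensorUnit₀.inv ≫ η 0).hom (1 : (𝟙_ (ModuleCat.{u} R) : ModuleCat.{u} R))
  have hid : ∀ n, Fw X Y ε u n = LinearMap.id := by
    intro n
    ext x
    have hz := zig X Y η ε h₁ n
    have := congrArg (fun f => f.hom x) hz
    simp only [ModuleCat.hom_comp, LinearMap.coe_comp, Function.comp_apply, ModuleCat.hom_id,
      LinearMap.id_coe, id_eq] at this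
    rw [ModuleCat.MonoidalCategory.leftUnitor_inv_apply] at this
    erw [ModuleCat.MonoidalCategory.whiskerRight_apply] at this
    exact this
  obtain ⟨⟨S, hS⟩, hrep⟩ := motive_all X Y ε u
  refine ⟨⟨S, fun n hn => ?_⟩, fun n => ?_⟩
  · have h0 := hS n hn
    rw [hid n] at h0
    refine ⟨fun a b => ?_⟩
    have ha := LinearMap.congr_fun h0 a
    have hb := LinearMap.congr_fun h0 b
    simp only [LinearMap.id_coe, id_eq, LinearMap.zero_apply] at ha hb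
    rw [ha, hb]
  · have := hrep n
    rw [hid n] at this
    exact finite_projective_of_hasRep_id this

end main

section mirror
open TensorProduct

noncomputable def T' (n : ℤ) : Y n ⊗ (X ⊗ Y) 0 ⟶ Y n :=
  ιTensorObj Y (X ⊗ Y) n 0 n (add_zero n) ≫ (α_ Y X Y).inv n ≫ (ε ▷ Y) n ≫ (λ_ Y).hom n

lemma ι_leftUnitor_hom (n : ℤ) :
    ιTensorObj (𝟙_ (G R)) Y 0 n n (zero_add n) ≫ (λ_ Y).hom n =
      (tensorUnit₀.hom ▷ Y n) ≫ (λ_ (Y n)).hom := by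
  have h : (λ_ Y).inv n = (λ_ (Y n)).inv ≫ tensorUnit₀.inv ▷ Y n ≫
      ιTensorObj (𝟙_ (G R)) Y 0 n n (zero_add n) := leftUnitor_inv_apply Y n
  have h2 : (λ_ Y).inv n ≫ (λ_ Y).hom n = 𝟙 _ := by
    rw [← GradedObject.categoryOfGradedObjects_comp, Iso.inv_hom_id]; rfl
  have h3 : ιTensorObj (𝟙_ (G R)) Y 0 n n (zero_add n) =
      (tensorUnit₀.hom ▷ Y n) ≫ (λ_ (Y n)).hom ≫ (λ_ Y).inv n := by
    rw [h]
    simp only [Iso.hom_inv_id_assoc, ← MonoidalCategory.comp_whiskerRight_assoc, Iso.hom_inv_id,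
      MonoidalCategory.id_whiskerRight, Category.id_comp]
  rw [h3, Category.assoc, Category.assoc, h2, Category.comp_id]

lemma Φ'_general (p q n : ℤ) (hq : n + p = q) :
    (Y n ◁ ιTensorObj X Y p (-p) 0 (by simp)) ≫ ιTensorObj Y (X ⊗ Y) n 0 n (add_zero n) ≫
      (α_ Y X Y).inv n ≫ (ε ▷ Y) n =
    (α_ (Y n) (X p) (Y (-p))).inv ≫ ((ιTensorObj Y X n p q hq ≫ ε q) ▷ Y (-p)) ≫
      ιTensorObj (𝟙_ (G R)) Y q (-p) n (by omega) := by
  have h1 : (Y n ◁ ιTensorObj X Y p (-p) 0 (by simp)) ≫ ιTensorObj Y (X ⊗ Y) n 0 n (add_zero n) =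
      ιTensorObj₃ Y X Y n p (-p) n (by omega) :=
    (ιTensorObj₃_eq Y X Y n p (-p) n (by omega) 0 (by simp)).symm
  have h2 : ιTensorObj₃ Y X Y n p (-p) n (by omega) ≫ (α_ Y X Y).inv n =
      (α_ (Y n) (X p) (Y (-p))).inv ≫ ιTensorObj₃' Y X Y n p (-p) n (by omega) :=
    ιTensorObj₃_associator_inv Y X Y n p (-p) n (by omega)
  have h3 : ιTensorObj₃' Y X Y n p (-p) n (by omega) =
      (ιTensorObj Y X n p q hq ▷ Y (-p)) ≫ ιTensorObj (Y ⊗ X) Y q (-p) n (by omega) :=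
    ιTensorObj₃'_eq Y X Y n p (-p) n (by omega) q hq
  have h4 : ιTensorObj (Y ⊗ X) Y q (-p) n (by omega) ≫ (ε ▷ Y) n =
      (ε q ▷ Y (-p)) ≫ ιTensorObj (𝟙_ (G R)) Y q (-p) n (by omega) := by
    have := ι_tensorHom ε (𝟙 Y) q (-p) n (by omega)
    rw [GradedObject.categoryOfGradedObjects_id, MonoidalCategory.tensorHom_id] at this
    exact this
  rw [← Category.assoc, h1, ← Category.assoc, h2, Category.assoc, h3, Category.assoc, h4,
    MonoidalCategory.comp_whiskerRight, Category.assoc]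

lemma Φ'_ne (p n : ℤ) (hpn : n ≠ -p) :
    (Y n ◁ ιTensorObj X Y p (-p) 0 (by simp)) ≫ T' X Y ε n = 0 := by
  have hq : n + p ≠ 0 := by omega
  have hz : IsZero ((𝟙_ (G R)) (n + p)) :=
    IsZero.of_iso (isZero_zero _)
      ((isInitialTensorUnitApply (C := ModuleCat.{u} R) (n + p) hq).uniqueUpToIso
        HasZeroObject.zeroIsInitial)
  have hε : ε (n + p) = 0 := hz.eq_of_tgt _ _
  unfold T'
  have := Φ'_general X Y ε p (n + p) n rfl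
  have h' : (Y n ◁ ιTensorObj X Y p (-p) 0 (by simp)) ≫ ιTensorObj Y (X ⊗ Y) n 0 n (add_zero n) ≫
      (α_ Y X Y).inv n ≫ (ε ▷ Y) n ≫ (λ_ Y).hom n =
      ((Y n ◁ ιTensorObj X Y p (-p) 0 (by simp)) ≫ ιTensorObj Y (X ⊗ Y) n 0 n (add_zero n) ≫
      (α_ Y X Y).inv n ≫ (ε ▷ Y) n) ≫ (λ_ Y).hom n := by simp only [Category.assoc]
  rw [h', this, hε]
  simp

lemma Φ'_eq (p : ℤ) :
    (Y (-p) ◁ ιTensorObj X Y p (-p) 0 (by simp)) ≫ T' X Y ε (-p) =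
      (α_ (Y (-p)) (X p) (Y (-p))).inv ≫ (ev X Y ε p ▷ Y (-p)) ≫ (λ_ (Y (-p))).hom := by
  unfold T' ev
  have := Φ'_general X Y ε p 0 (-p) (by simp)
  have h' : (Y (-p) ◁ ιTensorObj X Y p (-p) 0 (by simp)) ≫
      ιTensorObj Y (X ⊗ Y) (-p) 0 (-p) (add_zero (-p)) ≫
      (α_ Y X Y).inv (-p) ≫ (ε ▷ Y) (-p) ≫ (λ_ Y).hom (-p) =
      ((Y (-p) ◁ ιTensorObj X Y p (-p) 0 (by simp)) ≫
      ιTensorObj Y (X ⊗ Y) (-p) 0 (-p) (add_zero (-p)) ≫
      (α_ Y X Y).inv (-p) ≫ (ε ▷ Y) (-p)) ≫ (λ_ Y).hom (-p) := by simp only [Category.assoc]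
  rw [h', this]
  simp only [Category.assoc]
  rw [ι_leftUnitor_hom]
  simp only [MonoidalCategory.comp_whiskerRight, Category.assoc]

lemma zig' (h₂ : Y ◁ η ≫ (α_ Y X Y).inv ≫ ε ▷ Y = (ρ_ Y).hom ≫ (λ_ Y).inv) (n : ℤ) :
    (ρ_ (Y n)).inv ≫ (Y n ◁ (tensorUnit₀.inv ≫ η 0)) ≫ T' X Y ε n = 𝟙 (Y n) := by
  have h1 : (Y ◁ η) n ≫ (α_ Y X Y).inv n ≫ (ε ▷ Y) n = (ρ_ Y).hom n ≫ (λ_ Y).inv n :=
    congr_fun h₂ n
  have h2 : (ρ_ Y).inv n = (ρ_ (Y n)).inv ≫ (Y n ◁ tensorUnit₀.inv) ≫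
      ιTensorObj Y (𝟙_ (G R)) n 0 n (add_zero n) := rightUnitor_inv_apply Y n
  have h3 : ιTensorObj Y (𝟙_ (G R)) n 0 n (add_zero n) ≫ (Y ◁ η) n =
      (Y n ◁ η 0) ≫ ιTensorObj Y (X ⊗ Y) n 0 n (add_zero n) := by
    have := ι_tensorHom (𝟙 Y) η n 0 n (add_zero n)
    rw [GradedObject.categoryOfGradedObjects_id, MonoidalCategory.id_tensorHom] at this
    exact this
  have h4 : (ρ_ Y).inv n ≫ (ρ_ Y).hom n = 𝟙 _ := by
    rw [← GradedObject.categoryOfGradedObjects_comp, Iso.inv_hom_id]; rfl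
  have h5 : (λ_ Y).inv n ≫ (λ_ Y).hom n = 𝟙 _ := by
    rw [← GradedObject.categoryOfGradedObjects_comp, Iso.inv_hom_id]; rfl
  have h6 : (ρ_ Y).inv n ≫ ((Y ◁ η) n ≫ (α_ Y X Y).inv n ≫ (ε ▷ Y) n) ≫ (λ_ Y).hom n = 𝟙 _ := by
    rw [h1, Category.assoc, h5, Category.comp_id, h4]
  rw [← h6, h2]
  unfold T'
  simp only [Category.assoc, MonoidalCategory.whiskerLeft_comp]
  rw [reassoc_of% h3]

/-- `y ↦ T'_n (y ⊗ w)` -/
noncomputable def Fw' (w : ((X ⊗ Y) 0 : ModuleCat.{u} R)) (n : ℤ) : (Y n) →ₗ[R] (Y n) :=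
  (T' X Y ε n).hom ∘ₗ ((TensorProduct.mk R (Y n) ((X ⊗ Y) 0 : ModuleCat.{u} R)).flip w)

lemma Fw'_add (w w' : ((X ⊗ Y) 0 : ModuleCat.{u} R)) (n : ℤ) :
    Fw' X Y ε (w + w') n = Fw' X Y ε w n + Fw' X Y ε w' n := by
  unfold Fw'
  rw [map_add, LinearMap.comp_add]

lemma Fw'_zero (n : ℤ) : Fw' X Y ε 0 n = 0 := by
  unfold Fw'
  rw [map_zero, LinearMap.comp_zero]

noncomputable def Ψ' (p : ℤ) (v : (X p ⊗ Y (-p) : ModuleCat.{u} R)) : (Y (-p)) →ₗ[R] (Y (-p)) :=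
  ((α_ (Y (-p)) (X p) (Y (-p))).inv ≫ (ev X Y ε p ▷ Y (-p)) ≫ (λ_ (Y (-p))).hom).hom ∘ₗ
    ((TensorProduct.mk R (Y (-p)) (X p ⊗ Y (-p) : ModuleCat.{u} R)).flip v)

lemma hasRep_Ψ' (p : ℤ) (v : (X p ⊗ Y (-p) : ModuleCat.{u} R)) : HasRep (Ψ' X Y ε p v) := by
  induction v using TensorProduct.induction_on with
  | zero =>
    have : Ψ' X Y ε p 0 = 0 := by unfold Ψ'; rw [map_zero, LinearMap.comp_zero]
    rw [this]; exact hasRep_zero
  | tmul m y' =>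
    refine ⟨Unit, inferInstance, fun _ => y',
      fun _ => (ev X Y ε p).hom ∘ₗ ((TensorProduct.mk R (Y (-p)) (X p)).flip m), fun y => ?_⟩
    simp only [Ψ', LinearMap.coe_comp, Function.comp_apply,
      ModuleCat.hom_comp, Finset.univ_unique, Finset.sum_singleton]
    change (λ_ (Y (-p))).hom.hom ((ev X Y ε p ▷ Y (-p)).hom
      ((α_ (Y (-p)) (X p) (Y (-p))).inv.hom (y ⊗ₜ[R] (m ⊗ₜ[R] y')))) =
        (ev X Y ε p).hom (y ⊗ₜ[R] m) • y'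
    rw [ModuleCat.MonoidalCategory.associator_inv_apply,
      ModuleCat.MonoidalCategory.whiskerRight_apply,
      ModuleCat.MonoidalCategory.leftUnitor_hom_apply]
  | add v v' hv hv' =>
    have : Ψ' X Y ε p (v + v') = Ψ' X Y ε p v + Ψ' X Y ε p v' := by
      unfold Ψ'; rw [map_add, LinearMap.comp_add]
    rw [this]; exact hasRep_add hv hv'

lemma Fw'_ι (p n : ℤ) (v : (X p ⊗ Y (-p) : ModuleCat.{u} R)) (y : Y n) :
    Fw' X Y ε ((ιTensorObj X Y p (-p) 0 (by simp)).hom v) n y =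
      ((Y n ◁ ιTensorObj X Y p (-p) 0 (by simp)) ≫ T' X Y ε n).hom (y ⊗ₜ[R] v) := by
  change (T' X Y ε n).hom (y ⊗ₜ[R] ((ιTensorObj X Y p (-p) 0 (by simp)).hom v)) =
    (T' X Y ε n).hom ((Y n ◁ ιTensorObj X Y p (-p) 0 (by simp)).hom (y ⊗ₜ[R] v))
  rw [ModuleCat.MonoidalCategory.whiskerLeft_apply]

lemma Fw'_ι_ne (p n : ℤ) (hpn : n ≠ -p) (v : (X p ⊗ Y (-p) : ModuleCat.{u} R)) :
    Fw' X Y ε ((ιTensorObj X Y p (-p) 0 (by simp)).hom v) n = 0 := by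
  ext y
  rw [Fw'_ι, Φ'_ne X Y ε p n hpn]
  rfl

lemma Fw'_ι_eq (p : ℤ) (v : (X p ⊗ Y (-p) : ModuleCat.{u} R)) :
    Fw' X Y ε ((ιTensorObj X Y p (-p) 0 (by simp)).hom v) (-p) = Ψ' X Y ε p v := by
  ext y
  rw [Fw'_ι, Φ'_eq X Y ε p]
  rfl

lemma motive_all' (w : ((X ⊗ Y) 0 : ModuleCat.{u} R)) :
    (∃ S : Finset ℤ, ∀ n ∉ S, Fw' X Y ε w n = 0) ∧ ∀ n, HasRep (Fw' X Y ε w n) := by
  have hw : w ∈ ⨆ p : ℤ, LinearMap.range (ιTensorObj X Y p (-p) 0 (by simp)).hom := by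
    rw [iSup_range_eq_top]; trivial
  refine Submodule.iSup_induction _ (motive := fun w =>
    (∃ S : Finset ℤ, ∀ n ∉ S, Fw' X Y ε w n = 0) ∧ ∀ n, HasRep (Fw' X Y ε w n)) hw ?_ ?_ ?_
  · rintro p _ ⟨v, rfl⟩
    refine ⟨⟨{-p}, fun n hn => Fw'_ι_ne X Y ε p n (by simpa using hn) v⟩, fun n => ?_⟩
    by_cases hpn : n = -p
    · subst hpn
      rw [Fw'_ι_eq]
      exact hasRep_Ψ' X Y ε p v
    · rw [Fw'_ι_ne X Y ε p n hpn]
      exact hasRep_zero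
  · refine ⟨⟨∅, fun n _ => Fw'_zero X Y ε n⟩, fun n => ?_⟩
    rw [Fw'_zero]; exact hasRep_zero
  · rintro a b ⟨⟨S, hS⟩, ha⟩ ⟨⟨S', hS'⟩, hb⟩
    classical
    refine ⟨⟨S ∪ S', fun n hn => ?_⟩, fun n => ?_⟩
    · rw [Fw'_add, hS n (fun h => hn (Finset.mem_union_left _ h)),
        hS' n (fun h => hn (Finset.mem_union_right _ h)), add_zero]
    · rw [Fw'_add]; exact hasRep_add (ha n) (hb n)

include η in
theorem graded_main' (h₂ : Y ◁ η ≫ (α_ Y X Y).inv ≫ ε ▷ Y = (ρ_ Y).hom ≫ (λ_ Y).inv) :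
    (∃ S : Finset ℤ, ∀ n ∉ S, Subsingleton (Y n)) ∧
      ∀ n, Module.Finite R (Y n) ∧ Module.Projective R (Y n) := by
  let u : ((X ⊗ Y) 0 : ModuleCat.{u} R) :=
    (tensorUnit₀.inv ≫ η 0).hom (1 : (𝟙_ (ModuleCat.{u} R) : ModuleCat.{u} R))
  have hid : ∀ n, Fw' X Y ε u n = LinearMap.id := by
    intro n
    ext y
    have hz := zig' X Y η ε h₂ n
    have := congrArg (fun f => f.hom y) hz
    simp only [ModuleCat.hom_comp, LinearMap.coe_comp, Function.comp_apply, ModuleCat.hom_id,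
      LinearMap.id_coe, id_eq] at this
    rw [ModuleCat.MonoidalCategory.rightUnitor_inv_apply] at this
    erw [ModuleCat.MonoidalCategory.whiskerLeft_apply] at this
    exact this
  obtain ⟨⟨S, hS⟩, hrep⟩ := motive_all' X Y ε u
  refine ⟨⟨S, fun n hn => ?_⟩, fun n => ?_⟩
  · have h0 := hS n hn
    rw [hid n] at h0
    refine ⟨fun a b => ?_⟩
    have ha := LinearMap.congr_fun h0 a
    have hb := LinearMap.congr_fun h0 b
    simp only [LinearMap.id_coe, id_eq, LinearMap.zero_apply] at ha hb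
    rw [ha, hb]
  · have := hrep n
    rw [hid n] at this
    exact finite_projective_of_hasRep_id this

end mirror

section complexes

abbrev Cx (R : Type u) [CommRing R] := CochainComplex (ModuleCat.{u} R) ℤ

noncomputable abbrev F (R : Type u) [CommRing R] : Cx R ⥤ G R :=
  HomologicalComplex.forget (ModuleCat.{u} R) (ComplexShape.up ℤ)

noncomputable abbrev dat (R : Type u) [CommRing R] : Monoidal.InducingFunctorData (F R) :=
  HomologicalComplex.Monoidal.inducingFunctorData (ModuleCat.{u} R) (ComplexShape.up ℤ)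

variable (M N : Cx R) (η : 𝟙_ (Cx R) ⟶ M ⊗ N) (ε : N ⊗ M ⟶ 𝟙_ (Cx R))

omit M N η ε in
lemma zig_transfer {C : Type*} [Category C] [MonoidalCategory C] {X Y U : C} (e : 𝟙_ C ≅ U)
    (η₀ : U ⟶ X ⊗ Y) (ε₀ : Y ⊗ X ⟶ U)
    (h1 : η₀ ▷ X ≫ (α_ X Y X).hom ≫ X ◁ ε₀ =
      ((e.inv ▷ X) ≫ (λ_ X).hom) ≫ ((ρ_ X).inv ≫ (X ◁ e.hom))) :
    (e.hom ≫ η₀) ▷ X ≫ (α_ X Y X).hom ≫ X ◁ (ε₀ ≫ e.inv) = (λ_ X).hom ≫ (ρ_ X).inv := by
  rw [MonoidalCategory.comp_whiskerRight, MonoidalCategory.whiskerLeft_comp]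
  simp only [Category.assoc]
  rw [reassoc_of% h1]
  simp only [Category.assoc, ← MonoidalCategory.whiskerLeft_comp, Iso.hom_inv_id,
    MonoidalCategory.whiskerLeft_id, Category.comp_id,
    ← MonoidalCategory.comp_whiskerRight_assoc, MonoidalCategory.id_whiskerRight, Category.id_comp]

omit M N η ε in
lemma zig_transfer' {C : Type*} [Category C] [MonoidalCategory C] {X Y U : C} (e : 𝟙_ C ≅ U)
    (η₀ : U ⟶ X ⊗ Y) (ε₀ : Y ⊗ X ⟶ U)
    (h1 : Y ◁ η₀ ≫ (α_ Y X Y).inv ≫ ε₀ ▷ Y =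
      ((Y ◁ e.inv) ≫ (ρ_ Y).hom) ≫ ((λ_ Y).inv ≫ (e.hom ▷ Y))) :
    Y ◁ (e.hom ≫ η₀) ≫ (α_ Y X Y).inv ≫ (ε₀ ≫ e.inv) ▷ Y = (ρ_ Y).hom ≫ (λ_ Y).inv := by
  rw [MonoidalCategory.comp_whiskerRight, MonoidalCategory.whiskerLeft_comp]
  simp only [Category.assoc]
  rw [reassoc_of% h1]
  simp only [Category.assoc, ← MonoidalCategory.comp_whiskerRight, Iso.hom_inv_id,
    MonoidalCategory.id_whiskerRight, Category.comp_id,
    ← MonoidalCategory.whiskerLeft_comp_assoc, MonoidalCategory.whiskerLeft_id, Category.id_comp]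

lemma zig_cx (h : η ▷ M ≫ (α_ M N M).hom ≫ M ◁ ε = (λ_ M).hom ≫ (ρ_ M).inv) :
    (((dat R).εIso.hom ≫ (F R).map η : 𝟙_ (G R) ⟶ (F R).obj M ⊗ (F R).obj N)) ▷ (F R).obj M ≫
      (α_ ((F R).obj M) ((F R).obj N) ((F R).obj M)).hom ≫
        (F R).obj M ◁ ((F R).map ε ≫ (dat R).εIso.inv) =
      (λ_ ((F R).obj M)).hom ≫ (ρ_ ((F R).obj M)).inv :=
  zig_transfer (X := (F R).obj M) (Y := (F R).obj N) (dat R).εIso ((F R).map η) ((F R).map ε)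
    (congrArg (F R).map h)

lemma zig_cx' (h : N ◁ η ≫ (α_ N M N).inv ≫ ε ▷ N = (ρ_ N).hom ≫ (λ_ N).inv) :
    (F R).obj N ◁ (((dat R).εIso.hom ≫ (F R).map η : 𝟙_ (G R) ⟶ (F R).obj M ⊗ (F R).obj N)) ≫
      (α_ ((F R).obj N) ((F R).obj M) ((F R).obj N)).inv ≫
        ((F R).map ε ≫ (dat R).εIso.inv) ▷ (F R).obj N =
      (ρ_ ((F R).obj N)).hom ≫ (λ_ ((F R).obj N)).inv :=
  zig_transfer' (X := (F R).obj M) (Y := (F R).obj N) (dat R).εIso ((F R).map η) ((F R).map ε)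
    (congrArg (F R).map h)

omit M N η ε in
lemma exists_bounds {Z : ℤ → ModuleCat.{u} R} (S : Finset ℤ) (hS : ∀ n ∉ S, Subsingleton (Z n)) :
    ∃ a b : ℤ, ∀ i : ℤ, i < a ∨ b < i → IsZero (Z i) := by
  refine ⟨-(S.sup Int.natAbs : ℕ), (S.sup Int.natAbs : ℕ), fun i hi => ?_⟩
  have : i ∉ S := by
    intro hiS
    have h1 : i.natAbs ≤ S.sup Int.natAbs := Finset.le_sup (f := Int.natAbs) hiS
    omega
  have := hS i this
  exact ModuleCat.isZero_of_subsingleton _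

omit η ε in
theorem main [ExactPairing M N] :
    (∃ a b : ℤ, ∀ i : ℤ, i < a ∨ b < i → IsZero (M.X i)) ∧
    (∃ a b : ℤ, ∀ i : ℤ, i < a ∨ b < i → IsZero (N.X i)) ∧
    (∀ i : ℤ, Module.Finite R (M.X i) ∧ Module.Projective R (M.X i)) ∧
    (∀ i : ℤ, Module.Finite R (N.X i) ∧ Module.Projective R (N.X i)) := by
  have hM := graded_main ((F R).obj M) ((F R).obj N) _ _
    (zig_cx M N (η_ M N) (ε_ M N) (ExactPairing.evaluation_coevaluation M N))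
  have hN := graded_main' ((F R).obj M) ((F R).obj N) _ _
    (zig_cx' M N (η_ M N) (ε_ M N) (ExactPairing.coevaluation_evaluation M N))
  obtain ⟨⟨S, hS⟩, hM2⟩ := hM
  obtain ⟨⟨S', hS'⟩, hN2⟩ := hN
  exact ⟨exists_bounds S hS, exists_bounds S' hS', hM2, hN2⟩

end complexes

end Groth.Agent.Lib.Helper26.DualCx
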