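import Mathlib

set_option autoImplicit false
set_option maxHeartbeats 400000
universe u
open CategoryTheory MonoidalCategory

namespace Groth.Agent.Lib.Helper26.EWFin

variable {K : Type u} [Field K] (L : FGModuleCat.{u} K ⥤ ModuleCat.{u} K) [L.Additive] [Functor.Linear K L]

/-- hom-sets in `FGModuleCat K` as linear maps. -/
noncomputable def homEq (V W : FGModuleCat.{u} K) : (V ⟶ W) ≃ₗ[K] (V →ₗ[K] W) :=
  (InducedCategory.homLinearEquiv (R := K)).trans (ModuleCat.homLinearEquiv (S := K))

lemma homEq_apply {V W : FGModuleCat.{u} K} (f : V ⟶ W) : homEq V W f = f.hom.hom := rfl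

lemma homEq_symm_hom {V W : FGModuleCat.{u} K} (f : V →ₗ[K] W) : ((homEq V W).symm f).hom.hom = f := rfl

/-- `θ_v : K → V`, `a ↦ a • v`. -/
noncomputable def theta {V : FGModuleCat.{u} K} (v : V) : FGModuleCat.of K K ⟶ V :=
  (homEq (FGModuleCat.of K K) V).symm ((LinearMap.ringLmapEquivSelf K K V).symm v)

lemma theta_apply {V : FGModuleCat.{u} K} (v : V) (a : K) : (theta v).hom.hom a = a • v := rfl

noncomputable def tM (V : FGModuleCat.{u} K) :
    TensorProduct K (L.obj (FGModuleCat.of K K)) V →ₗ[K] L.obj V :=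
  TensorProduct.lift (LinearMap.flip
        ((ModuleCat.homLinearEquiv (S := K)).toLinearMap ∘ₗ Functor.mapLinearMap K L ∘ₗ
          (homEq (FGModuleCat.of K K) V).symm.toLinearMap ∘ₗ
            (LinearMap.ringLmapEquivSelf K K V).symm.toLinearMap))

lemma tM_tmul (V : FGModuleCat.{u} K) (y : L.obj (FGModuleCat.of K K)) (x : V) :
    tM L V (y ⊗ₜ x) = (L.map (theta x)).hom y := by
  rfl

lemma theta_comp {V W : FGModuleCat.{u} K} (x : V) (g : V ⟶ W) :
    theta x ≫ g = theta (g.hom.hom x) := by
  ext
  change g.hom.hom ((1:K) • x) = (1:K) • g.hom.hom x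
  simp

/-- The comparison natural transformation. -/
noncomputable def tau : (ModuleCat.isFG.{u} K).ι ⋙ tensorLeft (L.obj (FGModuleCat.of K K)) ⟶ L where
  app V := ModuleCat.ofHom (tM L V)
  naturality V W g := by
    apply ModuleCat.MonoidalCategory.tensor_ext
    intro y x
    change (tM L W) ((L.obj (FGModuleCat.of K K) ◁ g.hom).hom (y ⊗ₜ x)) = (L.map g).hom (tM L V (y ⊗ₜ x))
    rw [ModuleCat.MonoidalCategory.whiskerLeft_apply, tM_tmul, tM_tmul, ← theta_comp, L.map_comp]
    rfl

section Inv

variable {V : FGModuleCat.{u} K} {n : ℕ} (b : Module.Basis (Fin n) K V)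

/-- coordinate morphisms. -/
noncomputable def coordHom (i : Fin n) : V ⟶ FGModuleCat.of K K :=
  (homEq V (FGModuleCat.of K K)).symm (b.coord i)

lemma coordHom_apply (i : Fin n) (v : V) : (coordHom b i).hom.hom v = b.coord i v := rfl

lemma sum_coord_theta : ∑ i, coordHom b i ≫ theta (b i) = 𝟙 V := by
  apply (homEq V V).injective
  rw [map_sum]
  ext v
  rw [LinearMap.sum_apply]
  simp only [homEq_apply]
  change ∑ i, (theta (b i)).hom.hom ((coordHom b i).hom.hom v) = v
  simp only [theta_apply, coordHom_apply, Module.Basis.coord_apply]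
  exact b.sum_repr v

lemma theta_coord (v : V) (i : Fin n) :
    theta v ≫ coordHom b i = (b.coord i v) • 𝟙 (FGModuleCat.of K K) := by
  apply (homEq _ _).injective
  rw [map_smul]
  ext
  simp only [homEq_apply]
  change (coordHom b i).hom.hom ((theta v).hom.hom (1 : K)) = (b.coord i v) • (1 : K)
  rw [theta_apply, coordHom_apply, one_smul]
  simp

/-- the inverse of `tM`. -/
noncomputable def sM : L.obj V →ₗ[K] TensorProduct K (L.obj (FGModuleCat.of K K)) V :=
  ∑ i, ((TensorProduct.mk K (L.obj (FGModuleCat.of K K)) V).flip (b i)) ∘ₗ (L.map (coordHom b i)).hom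

lemma sM_apply (y : L.obj V) :
    sM L b y = ∑ i, ((L.map (coordHom b i)).hom y) ⊗ₜ[K] (b i) := by
  simp [sM, LinearMap.sum_apply]

lemma tM_sM (y : L.obj V) : tM L V (sM L b y) = y := by
  rw [sM_apply, map_sum]
  simp only [tM_tmul]
  have h1 : ∀ i, (L.map (theta (b i))).hom ((L.map (coordHom b i)).hom y)
      = (L.map (coordHom b i ≫ theta (b i))).hom y := by
    intro i
    rw [L.map_comp]
    rfl
  simp only [h1]
  have h2 : (L.map (∑ i, coordHom b i ≫ theta (b i))).hom y = y := by
    rw [sum_coord_theta, L.map_id]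
    rfl
  rw [L.map_sum, ModuleCat.hom_sum, LinearMap.sum_apply] at h2
  exact h2

lemma sM_tM (w : TensorProduct K (L.obj (FGModuleCat.of K K)) V) : sM L b (tM L V w) = w := by
  induction w using TensorProduct.induction_on with
  | zero => simp
  | add a c ha hc => rw [map_add, map_add, ha, hc]
  | tmul x v =>
    rw [tM_tmul, sM_apply]
    have h1 : ∀ i, (L.map (coordHom b i)).hom ((L.map (theta v)).hom x) = (b.coord i v) • x := by
      intro i
      have : (L.map (theta v ≫ coordHom b i)).hom x = (b.coord i v) • x := by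
        rw [theta_coord, Functor.map_smul, L.map_id]
        rfl
      rw [L.map_comp] at this
      exact this
    simp only [h1]
    simp only [TensorProduct.smul_tmul]
    rw [← TensorProduct.tmul_sum]
    congr 1
    simp only [Module.Basis.coord_apply]
    exact b.sum_repr v

end Inv

lemma tM_bijective (V : FGModuleCat.{u} K) : Function.Bijective (tM L V) := by
  let b := Module.finBasis K V
  constructor
  · intro w w' h
    rw [← sM_tM L b w, ← sM_tM L b w', h]
  · intro y
    exact ⟨sM L b y, tM_sM L b y⟩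

instance isIso_tau : IsIso (tau L) := by
  apply (config := { allowSynthFailures := true }) NatIso.isIso_of_isIso_app
  intro V
  rw [ConcreteCategory.isIso_iff_bijective]
  exact tM_bijective L V

theorem main (K : Type u) [Field K]
    (L : FGModuleCat.{u} K ⥤ ModuleCat.{u} K) [L.Additive] [Functor.Linear K L] :
    Nonempty (L ≅ (ModuleCat.isFG.{u} K).ι ⋙ MonoidalCategory.tensorLeft (L.obj (FGModuleCat.of K K))) :=
  ⟨(asIso (tau L)).symm⟩

end Groth.Agent.Lib.Helper26.EWFin
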