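import Mathlib
set_option maxHeartbeats 1600000
set_option linter.style.haveILetI false
namespace Groth.Agent.Lib.Helper26.EssFld

universe u

section
variable (k : Type u) [Field k] (S : Type u) [CommRing S] [IsLocalRing S] [Algebra k S]

/-- Data: a transcendence basis of the residue field lifted to `S`. -/
lemma exists_lift :
    ∃ (ι : Type u) (t : ι → S),
      IsTranscendenceBasis k (fun i => IsLocalRing.residue S (t i)) := by
  haveI : FaithfulSMul k (IsLocalRing.ResidueField S) :=
    (faithfulSMul_iff_algebraMap_injective k _).mpr (algebraMap k (IsLocalRing.ResidueField S)).injective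
  obtain ⟨s, hs⟩ := exists_isTranscendenceBasis k (IsLocalRing.ResidueField S)
  refine ⟨s, fun i => (IsLocalRing.residue_surjective i.1).choose, ?_⟩
  convert hs using 2 with i
  exact (IsLocalRing.residue_surjective i.1).choose_spec

end

variable {k : Type u} [Field k] {S : Type u} [CommRing S] [IsLocalRing S] [Algebra k S]
variable {ι : Type u} (t : ι → S)

lemma residue_aeval (p : MvPolynomial ι k) :
    IsLocalRing.residue S (MvPolynomial.aeval t p) =
      MvPolynomial.aeval (fun i => IsLocalRing.residue S (t i)) p := by
  have : (IsLocalRing.residue S : S →+* _) = (IsScalarTower.toAlgHom k S (IsLocalRing.ResidueField S) : S →+* _) := rfl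
  rw [this]
  exact (MvPolynomial.comp_aeval_apply (f := t) (IsScalarTower.toAlgHom k S (IsLocalRing.ResidueField S)) p)

lemma isUnit_aeval (ht : AlgebraicIndependent k (fun i => IsLocalRing.residue S (t i)))
    (p : MvPolynomial ι k) (hp : p ≠ 0) : IsUnit (MvPolynomial.aeval t p) := by
  by_contra hnu
  have h0 : IsLocalRing.residue S (MvPolynomial.aeval t p) = 0 :=
    (IsLocalRing.residue_eq_zero_iff _).mpr hnu
  rw [residue_aeval] at h0
  exact hp (ht (by rw [h0, map_zero]))

theorem main (k : Type u) [Field k] [CharZero k] (S : Type u) [CommRing S] [IsDomain S]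
    [IsLocalRing S] [Algebra k S] [Algebra.EssFiniteType k S] :
    ∃ (K : Type u) (_ : Field K) (_ : Algebra k K) (A : Type u) (_ : CommRing A) (_ : Algebra K A)
      (_ : Algebra k A) (_ : IsScalarTower k K A) (_ : Algebra.FiniteType K A) (m : Ideal A)
      (_ : m.IsMaximal), Nonempty (S ≃ₐ[k] Localization.AtPrime m) := by
  classical
  obtain ⟨σ, hσ⟩ := (Algebra.essFiniteType_iff (R := k) (S := S)).mp inferInstance
  obtain ⟨ι, t, ht⟩ := exists_lift k S
  -- the field K
  let P := MvPolynomial ι k
  let K := FractionRing P
  have hunit : ∀ y : nonZeroDivisors P, IsUnit ((MvPolynomial.aeval t : P →ₐ[k] S).toRingHom y) :=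
    fun y => isUnit_aeval t ht.1 y.1 (nonZeroDivisors.ne_zero y.2)
  let j : K →+* S := IsLocalization.lift (M := nonZeroDivisors P) hunit
  letI : Algebra K S := j.toAlgebra
  have hj : ∀ p : P, j (algebraMap P K p) = MvPolynomial.aeval t p := fun p =>
    IsLocalization.lift_eq hunit p
  haveI : IsScalarTower k K S := IsScalarTower.of_algebraMap_eq (fun c => by
    change _ = j (algebraMap k K c)
    rw [IsScalarTower.algebraMap_apply k P K, hj, MvPolynomial.algebraMap_eq, MvPolynomial.aeval_C])
  -- the algebra A
  let A : Subalgebra K S := Algebra.adjoin K (σ : Set S)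
  haveI : Algebra.FiniteType K A := by
    constructor
    rw [Subalgebra.fg_top]
    exact ⟨σ, rfl⟩
  let m : Ideal A := (IsLocalRing.maximalIdeal S).comap (algebraMap A S)
  -- residue field as a K-algebra
  let κ := IsLocalRing.ResidueField S
  letI : Algebra K κ := ((IsLocalRing.residue S).comp j).toAlgebra
  haveI : IsScalarTower K S κ := IsScalarTower.of_algebraMap_eq (fun c => rfl)
  -- κ is algebraic over K
  have halg : Algebra.IsAlgebraic K κ := by
    let tb : ι → κ := fun i => IsLocalRing.residue S (t i)
    let B := Algebra.adjoin k (Set.range tb)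
    haveI : Algebra.IsAlgebraic B κ := ht.isAlgebraic
    let e : P ≃ₐ[k] B := ht.1.aevalEquiv
    let θ : B →+* K := (algebraMap P K).comp e.symm.toRingEquiv.toRingHom
    have hθ : (algebraMap K κ).comp θ = algebraMap B κ := by
      ext b
      obtain ⟨p, rfl⟩ := e.surjective b
      change (IsLocalRing.residue S) (j (algebraMap P K (e.symm (e p)))) = _
      rw [AlgEquiv.symm_apply_apply, hj, residue_aeval]
      rfl
    have hinj : Function.Injective θ :=
      (IsFractionRing.injective P K).comp e.symm.injective
    constructor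
    intro x
    obtain ⟨q, hq0, hq⟩ := Algebra.IsAlgebraic.isAlgebraic (R := B) x
    refine ⟨q.map θ, (Polynomial.map_ne_zero_iff hinj).mpr hq0, ?_⟩
    rw [Polynomial.aeval_def, Polynomial.eval₂_map, hθ, ← Polynomial.aeval_def]
    exact hq
  -- maximality of m
  let ρ : A →ₐ[K] κ := (IsScalarTower.toAlgHom K S κ).comp A.val
  have hmker : m = RingHom.ker ρ.rangeRestrict.toRingHom := by
    ext a
    rw [RingHom.mem_ker]
    change algebraMap A S a ∈ IsLocalRing.maximalIdeal S ↔ _
    rw [← IsLocalRing.residue_eq_zero_iff]
    constructor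
    · intro h; exact Subtype.ext h
    · intro h; exact congrArg Subtype.val h
  have hfield : IsField ρ.range := Subalgebra.isField_of_algebraic _
  letI : Field ρ.range := hfield.toField
  have hmmax : m.IsMaximal := by
    rw [hmker]
    exact RingHom.ker_isMaximal_of_surjective _ ρ.rangeRestrict_surjective
  haveI := hmmax
  haveI : m.IsPrime := hmmax.isPrime
  -- S is the localization of A at m
  have hkA : Algebra.adjoin k (σ : Set S) ≤ A.restrictScalars k := by
    refine Algebra.adjoin_le ?_
    intro x hx
    exact Algebra.subset_adjoin (R := K) hx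
  haveI : IsLocalization.AtPrime S m := by
    constructor; constructor
    · intro y
      have : algebraMap A S y ∉ IsLocalRing.maximalIdeal S := y.2
      rwa [IsLocalRing.mem_maximalIdeal, mem_nonunits_iff, not_not] at this
    · intro s
      obtain ⟨u, hu, hu', h⟩ := hσ s
      refine ⟨⟨⟨_, hkA h⟩, ⟨⟨u, hkA hu⟩, ?_⟩⟩, rfl⟩
      change algebraMap A S ⟨u, hkA hu⟩ ∉ IsLocalRing.maximalIdeal S
      rw [IsLocalRing.mem_maximalIdeal, mem_nonunits_iff, not_not]
      exact hu'
    · intro x y e
      exact ⟨1, by simpa using Subtype.ext e⟩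
  refine ⟨K, inferInstance, inferInstance, A, inferInstance, inferInstance, inferInstance,
    inferInstance, inferInstance, m, hmmax, ⟨?_⟩⟩
  exact ((IsLocalization.algEquiv m.primeCompl (Localization.AtPrime m) S).restrictScalars k).symm

end Groth.Agent.Lib.Helper26.EssFld
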