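import Mathlib
set_option maxHeartbeats 800000
set_option linter.style.haveILetI false
namespace Groth.Agent.Lib.Helper26.EssLoc

universe u
variable {R S : Type u} [CommRing R] [CommRing S] [Algebra R S]

/-- If every generator in `σ` becomes, up to a unit from `D'`, an element of `D'`, then so does
every element of `adjoin R σ`. -/
lemma adjoin_mul_unit (σ : Set S) (D' : Subalgebra R S)
    (h : ∀ y ∈ σ, ∃ u ∈ D', IsUnit u ∧ y * u ∈ D') :
    ∀ d ∈ Algebra.adjoin R σ, ∃ u ∈ D', IsUnit u ∧ d * u ∈ D' := by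
  intro d hd
  induction hd using Algebra.adjoin_induction with
  | mem y hy => exact h y hy
  | algebraMap r => exact ⟨1, D'.one_mem, isUnit_one, by rw [mul_one]; exact D'.algebraMap_mem r⟩
  | add x y _ _ hx hy =>
    obtain ⟨u1, hu1, hu1', h1⟩ := hx
    obtain ⟨u2, hu2, hu2', h2⟩ := hy
    refine ⟨u1 * u2, D'.mul_mem hu1 hu2, hu1'.mul hu2', ?_⟩
    have : (x + y) * (u1 * u2) = (x * u1) * u2 + (y * u2) * u1 := by ring
    rw [this]
    exact D'.add_mem (D'.mul_mem h1 hu2) (D'.mul_mem h2 hu1)
  | mul x y _ _ hx hy =>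
    obtain ⟨u1, hu1, hu1', h1⟩ := hx
    obtain ⟨u2, hu2, hu2', h2⟩ := hy
    refine ⟨u1 * u2, D'.mul_mem hu1 hu2, hu1'.mul hu2', ?_⟩
    have : (x * y) * (u1 * u2) = (x * u1) * (y * u2) := by ring
    rw [this]
    exact D'.mul_mem h1 h2

/-- transfer of the essentially-finite-type condition -/
lemma cond_transfer (σ : Set S) (D' : Subalgebra R S)
    (h : ∀ y ∈ σ, ∃ u ∈ D', IsUnit u ∧ y * u ∈ D')
    (hσ : ∀ s : S, ∃ t ∈ Algebra.adjoin R σ, IsUnit t ∧ s * t ∈ Algebra.adjoin R σ) :
    ∀ s : S, ∃ t ∈ D', IsUnit t ∧ s * t ∈ D' := by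
  intro s
  obtain ⟨t, ht, htu, hst⟩ := hσ s
  obtain ⟨u1, hu1, hu1', h1⟩ := adjoin_mul_unit σ D' h t ht
  obtain ⟨u2, hu2, hu2', h2⟩ := adjoin_mul_unit σ D' h _ hst
  refine ⟨(t * u1) * u2, D'.mul_mem h1 hu2, (htu.mul hu1').mul hu2', ?_⟩
  have : s * (t * u1 * u2) = (s * t * u2) * u1 := by ring
  rw [this]
  exact D'.mul_mem h2 hu1

theorem main {R S : Type u} [CommRing R] [CommRing S] [Algebra R S] [IsLocalRing R]
    [IsLocalRing S] [Algebra.EssFiniteType R S] :
    ∃ (n : ℕ) (m : Ideal (MvPolynomial (Fin n) R)) (_ : m.IsMaximal),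
      m.under R = IsLocalRing.maximalIdeal R ∧
      ∃ (φ : Localization.AtPrime m →ₐ[R] S) (T : Submonoid φ.range), IsLocalization T S := by
  classical
  obtain ⟨σ, hσ⟩ := (Algebra.essFiniteType_iff (R := R) (S := S)).mp inferInstance
  -- the residue field and the valuation ring
  let κ := IsLocalRing.ResidueField S
  let f : R →+* κ := (IsLocalRing.residue S).comp (algebraMap R S)
  obtain ⟨V, hfV, hloc⟩ := IsLocalRing.exists_factor_valuationRing f
  haveI : IsLocalRing V.toSubring := inferInstanceAs (IsLocalRing V)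
  -- modified generators
  let g : S → S := fun y => if IsLocalRing.residue S y ∈ V then y else Ring.inverse y
  have hg : ∀ y, IsLocalRing.residue S (g y) ∈ V := by
    intro y
    by_cases hy : IsLocalRing.residue S y ∈ V
    · simp only [g, if_pos hy]; exact hy
    · simp only [g, if_neg hy]
      have hyu : IsUnit y := by
        by_contra hnu
        apply hy
        have : IsLocalRing.residue S y = 0 := (IsLocalRing.residue_eq_zero_iff y).mpr hnu
        rw [this]; exact V.zero_mem
      obtain ⟨u, rfl⟩ := hyu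
      rw [Ring.inverse_unit, map_units_inv]
      exact (V.mem_or_inv_mem _).resolve_left hy
  let σ' : Finset S := σ.image g
  let D' : Subalgebra R S := Algebra.adjoin R (σ' : Set S)
  have hgen : ∀ y ∈ (σ : Set S), ∃ u ∈ D', IsUnit u ∧ y * u ∈ D' := by
    intro y hy
    have hgy : g y ∈ D' := Algebra.subset_adjoin (Finset.mem_coe.mpr (Finset.mem_image_of_mem g hy))
    by_cases hyV : IsLocalRing.residue S y ∈ V
    · refine ⟨1, D'.one_mem, isUnit_one, ?_⟩
      rw [mul_one]
      simpa only [g, if_pos hyV] using hgy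
    · have hyu : IsUnit y := by
        by_contra hnu
        apply hyV
        have : IsLocalRing.residue S y = 0 := (IsLocalRing.residue_eq_zero_iff y).mpr hnu
        rw [this]; exact V.zero_mem
      have hgy' : g y = Ring.inverse y := by simp only [g, if_neg hyV]
      refine ⟨Ring.inverse y, hgy' ▸ hgy, ?_, ?_⟩
      · obtain ⟨u, rfl⟩ := hyu
        rw [Ring.inverse_unit]; exact (u⁻¹).isUnit
      · rw [Ring.mul_inverse_cancel _ hyu]; exact D'.one_mem
  have hD' := cond_transfer (σ : Set S) D' hgen hσ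
  -- enumerate
  let n := σ'.card
  let b : Fin n → S := fun i => (σ'.equivFin.symm i).1
  have hb : Set.range b = (σ' : Set S) := by
    ext x
    constructor
    · rintro ⟨i, rfl⟩; exact (σ'.equivFin.symm i).2
    · intro hx; exact ⟨σ'.equivFin ⟨x, hx⟩, by simp [b]⟩
  let φ0 : MvPolynomial (Fin n) R →ₐ[R] S := MvPolynomial.aeval b
  have hφ0 : φ0.range = D' := by
    change φ0.range = Algebra.adjoin R (σ' : Set S)
    rw [← hb]; exact (Algebra.adjoin_range_eq_range_aeval R b).symm
  -- the map to V
  let ψ : MvPolynomial (Fin n) R →+* κ := (IsLocalRing.residue S).comp φ0.toRingHom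
  have hψV : ∀ p, ψ p ∈ V.toSubring := by
    intro p
    induction p using MvPolynomial.induction_on with
    | C a =>
      have : ψ (MvPolynomial.C a) = f a := by simp [ψ, φ0, f]
      rw [this]; exact hfV a
    | add p q hp hq => rw [map_add]; exact V.toSubring.add_mem hp hq
    | mul_X p i hp =>
      rw [map_mul]
      refine V.toSubring.mul_mem hp ?_
      have : ψ (MvPolynomial.X i) = IsLocalRing.residue S (b i) := by simp [ψ, φ0]
      rw [this]
      obtain ⟨y, hy, hyb⟩ := Finset.mem_image.mp (σ'.equivFin.symm i).2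
      change IsLocalRing.residue S (σ'.equivFin.symm i).1 ∈ V
      rw [← hyb]; exact hg y
  let ψV : MvPolynomial (Fin n) R →+* V.toSubring := ψ.codRestrict V.toSubring hψV
  let P : Ideal (MvPolynomial (Fin n) R) := (IsLocalRing.maximalIdeal V.toSubring).comap ψV
  haveI : P.IsPrime := Ideal.comap_isPrime ψV _
  obtain ⟨m, hm, hPm⟩ := Ideal.exists_le_maximal P (Ideal.IsPrime.ne_top inferInstance)
  haveI := hm
  have hq'P : (IsLocalRing.maximalIdeal S).comap φ0.toRingHom ≤ P := by
    intro p hp
    rw [Ideal.mem_comap] at hp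
    change ψV p ∈ IsLocalRing.maximalIdeal V.toSubring
    have h0 : ψ p = 0 := (IsLocalRing.residue_eq_zero_iff _).mpr hp
    have : ψV p = 0 := Subtype.ext h0
    rw [this]; exact Ideal.zero_mem _
  refine ⟨n, m, hm, ?_, ?_⟩
  · -- m lies over the maximal ideal
    symm
    apply (IsLocalRing.maximalIdeal.isMaximal R).eq_of_le
    · intro h
      have : (1 : R) ∈ m.under R := by rw [h]; trivial
      rw [Ideal.under_def, Ideal.mem_comap, map_one] at this
      exact hm.ne_top ((Ideal.eq_top_iff_one m).mpr this)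
    · intro r hr
      rw [Ideal.under_def, Ideal.mem_comap]
      apply hPm
      change ψV (algebraMap R _ r) ∈ IsLocalRing.maximalIdeal V.toSubring
      rw [IsLocalRing.mem_maximalIdeal, mem_nonunits_iff] at hr ⊢
      intro hu
      apply hr
      have : ψV (algebraMap R _ r) = f.codRestrict V.toSubring hfV r := by
        apply Subtype.ext
        simp [ψV, ψ, φ0, f]
      rw [this] at hu
      exact hloc.map_nonunit r hu
  · -- the map from the localization
    have hunit : ∀ y : m.primeCompl, IsUnit (φ0 y) := by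
      intro y
      by_contra hnu
      apply y.2
      apply hPm
      apply hq'P
      exact (IsLocalRing.mem_maximalIdeal _).mpr hnu
    let φ : Localization.AtPrime m →ₐ[R] S := IsLocalization.liftAlgHom (M := m.primeCompl) hunit
    have hrange : D' ≤ φ.range := by
      rw [← hφ0]
      rintro _ ⟨p, rfl⟩
      refine ⟨algebraMap _ _ p, ?_⟩
      simp [φ, IsLocalization.liftAlgHom_apply, IsLocalization.lift_eq]
    refine ⟨φ, (IsUnit.submonoid S).comap (algebraMap φ.range S), ?_⟩
    constructor; constructor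
    · exact fun y ↦ y.prop
    · intro s
      obtain ⟨t, ht, ht', h⟩ := hD' s
      exact ⟨⟨⟨_, hrange h⟩, ⟨⟨t, hrange ht⟩, ht'⟩⟩, rfl⟩
    · intro x y e
      exact ⟨1, by simpa using Subtype.ext e⟩

end Groth.Agent.Lib.Helper26.EssLoc
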