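import Groth.Prelude.Def_SixF1
import Groth.Agent.Lib.Helper26.KInjComp
import Groth.Agent.Lib.Helper4.LanExactGen

set_option autoImplicit false
set_option maxHeartbeats 400000
universe u
open CategoryTheory CategoryTheory.Limits AlgebraicGeometry Opposite
attribute [local instance] HasDerivedCategory.standard
open EtSix

namespace Groth.Agent.Lib.Helper26.EtCompMap

lemma pull_exact {X Y : Scheme.{u}} (f : X ⟶ Y) : PreservesFiniteLimits (EtCoh.pull f) :=
  Groth.Agent.Lib.Helper4.LanExactGen.sheafPullback_preservesFiniteLimits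
    Y.smallEtaleTopology X.smallEtaleTopology (EtCoh.bc f)


open Groth.Agent.Lib.Helper26.KInjComp

lemma isIso_mapHomotopyCategory {V W : Type*} [Category V] [Category W] [Preadditive V]
    [Preadditive W] {F G : V ⥤ W} [F.Additive] [G.Additive] (e : F ≅ G) {ι : Type*}
    (c : ComplexShape ι) : IsIso (NatTrans.mapHomotopyCategory e.hom c) :=
  ⟨⟨NatTrans.mapHomotopyCategory e.inv c, by
    rw [← NatTrans.mapHomotopyCategory_comp, e.hom_inv_id, NatTrans.mapHomotopyCategory_id], by
    rw [← NatTrans.mapHomotopyCategory_comp, e.inv_hom_id, NatTrans.mapHomotopyCategory_id]⟩⟩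

theorem main {X Y Z : Scheme.{u}} (f : X ⟶ Y) (g : Y ⟶ Z)
    [DCoh.HasRpushEt X f] [DCoh.HasRpushEt Y g] [DCoh.HasRpushEt X (f ≫ g)] :
    IsIso (EtSix.compMap f g) := by
  apply isIso_rightDerivedDesc_of_isIso_app
  intro I hI
  have := pull_exact f
  have : (EtCoh.pull f).Additive := (EtCoh.pullPushAdj f).left_adjoint_additive
  have : PreservesFiniteColimits (EtCoh.pull f) := by
    have : PreservesColimitsOfSize.{0, 0} (EtCoh.pull f) :=
      (EtCoh.pullPushAdj f).leftAdjoint_preservesColimits
    exact PreservesColimitsOfSize.preservesFiniteColimits _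
  have : CochainComplex.IsKInjective
      (((EtCoh.push f).mapHomologicalComplex (ComplexShape.up ℤ)).obj I) :=
    isKInjective_map_of_adj (EtCoh.pullPushAdj f) I
  have h1 := isIso_unit_of_isKInjective (DCoh.pushEtKh X f) (DCoh.RpushEt X f)
    ((DCoh.pushEtKh X f).totalRightDerivedUnit DerivedCategory.Qh
      (HomotopyCategory.quasiIso (EtCoh.Ab X) (ComplexShape.up ℤ))) I
  have h2 := isIso_unit_of_isKInjective (DCoh.pushEtKh Y g) (DCoh.RpushEt Y g)
    ((DCoh.pushEtKh Y g).totalRightDerivedUnit DerivedCategory.Qh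
      (HomotopyCategory.quasiIso (EtCoh.Ab Y) (ComplexShape.up ℤ)))
    (((EtCoh.push f).mapHomologicalComplex (ComplexShape.up ℤ)).obj I)
  have h3 := isIso_mapHomotopyCategory (EtCoh.pushComp g f).symm (ComplexShape.up ℤ)
  dsimp [EtSix.compUnit]
  simp only [Category.id_comp, Category.comp_id]
  refine @IsIso.comp_isIso _ _ _ _ _ _ _ ?_ (@IsIso.comp_isIso _ _ _ _ _ _ _ ?_ ?_)
  · have h3' : IsIso (NatTrans.mapHomotopyCategory (EtCoh.pushComp g f).inv (ComplexShape.up ℤ)) :=
      h3
    infer_instance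
  · exact h2
  · infer_instance

end Groth.Agent.Lib.Helper26.EtCompMap
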