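import Mathlib.RingTheory.Etale.Field
import Mathlib.RingTheory.Etale.Basic
import Mathlib.FieldTheory.IsAlgClosed.AlgebraicClosure
import Mathlib.RingTheory.HopfAlgebra.Basic
import Mathlib.RingTheory.Coalgebra.Convolution
import Mathlib.RingTheory.Bialgebra.Convolution
import Mathlib.RingTheory.HopfAlgebra.Convolution
import Mathlib.FieldTheory.Fixed
import Mathlib.RingTheory.Artinian.Ring
import Mathlib.Algebra.CharP.Frobenius
import Mathlib.GroupTheory.OrderOfElement

/-!
# The dual of a finite étale group scheme of `p`-power order is local (helper26)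
-/

open TensorProduct

universe u

namespace Groth.Agent.Lib.Helper26.EtaleDual

section Points

variable (k : Type u) [Field k] (A : Type u) [CommRing A] [Algebra k A] [Module.Finite k A]
  [Algebra.Etale k A]

/-- the algebraic closure -/
local notation "K" => AlgebraicClosure k

instance : IsArtinianRing (K ⊗[k] A) := IsArtinianRing.of_finite K _

/-- the splitting of the base change -/
noncomputable def split : (K ⊗[k] A) ≃ₐ[K] (PrimeSpectrum (K ⊗[k] A) → K) :=
  Algebra.FormallyEtale.equivPiOfIsSepClosed K (K ⊗[k] A)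

/-- the geometric points of `A` -/
noncomputable def pt (i : PrimeSpectrum (K ⊗[k] A)) : A →ₐ[k] K :=
  (((Pi.evalAlgHom K (fun _ : PrimeSpectrum (K ⊗[k] A) => K) i).comp
    (split k A).toAlgHom).restrictScalars k).comp Algebra.TensorProduct.includeRight

theorem pt_apply (i : PrimeSpectrum (K ⊗[k] A)) (a : A) :
    pt k A i a = split k A ((1 : K) ⊗ₜ[k] a) i := rfl

theorem split_tmul (c : K) (a : A) (i : PrimeSpectrum (K ⊗[k] A)) :
    split k A (c ⊗ₜ[k] a) i = c * pt k A i a := by
  have : c ⊗ₜ[k] a = c • ((1 : K) ⊗ₜ[k] a) := by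
    rw [TensorProduct.smul_tmul', smul_eq_mul, mul_one]
  rw [this, map_smul, Pi.smul_apply, smul_eq_mul, pt_apply]

theorem pt_injective : Function.Injective (pt k A) := by
  intro i j hij
  by_contra hne
  classical
  -- the element whose `i`-coordinate is `1` and whose `j`-coordinate is `0`
  obtain ⟨z, hz⟩ := (split k A).surjective (Pi.single i 1)
  have key : ∀ w : K ⊗[k] A, split k A w i = split k A w j := by
    intro w
    induction w using TensorProduct.induction_on with
    | zero => simp
    | tmul c a => rw [split_tmul, split_tmul, hij]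
    | add x y hx hy => rw [map_add, Pi.add_apply, Pi.add_apply, hx, hy]
  have := key z
  rw [hz, Pi.single_eq_same, Pi.single_eq_of_ne (Ne.symm hne)] at this
  exact one_ne_zero this

noncomputable instance : Fintype (PrimeSpectrum (K ⊗[k] A)) := Fintype.ofFinite _

theorem card_eq : Fintype.card (PrimeSpectrum (K ⊗[k] A)) = Module.finrank k A := by
  rw [← Module.finrank_baseChange (R := K) (S := k) (M' := A),
    LinearEquiv.finrank_eq (split k A).toLinearEquiv, Module.finrank_fintype_fun_eq_card]

theorem finrank_hom : Module.finrank K (A →ₗ[k] K) = Module.finrank k A := by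
  rw [Module.finrank_linearMap, Module.finrank_self, mul_one]

theorem linearIndependent_pt :
    LinearIndependent K (fun i : PrimeSpectrum (K ⊗[k] A) => (pt k A i).toLinearMap) :=
  (linearIndependent_toLinearMap k A K).comp _ (pt_injective k A)

theorem span_pt :
    Submodule.span K (Set.range fun i : PrimeSpectrum (K ⊗[k] A) => (pt k A i).toLinearMap) = ⊤ :=
  (linearIndependent_pt k A).span_eq_top_of_card_eq_finrank'
    (by rw [card_eq, finrank_hom])

end Points

section Group

variable (k : Type u) [Field k] (A : Type u) [CommRing A] [HopfAlgebra k A]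
  [Coalgebra.IsCocomm k A] [Module.Finite k A] [Algebra.Etale k A]

local notation "K" => AlgebraicClosure k

theorem mul_comp_antipode (g : WithConv (A →ₐ[k] K)) :
    g * WithConv.toConv (g.ofConv.comp (HopfAlgebra.antipodeAlgHom k A)) = 1 := by
  apply WithConv.ext
  apply AlgHom.ext
  intro a
  change (g * WithConv.toConv (g.ofConv.comp (HopfAlgebra.antipodeAlgHom k A))) a =
    (1 : WithConv (A →ₐ[k] K)) a
  rw [AlgHom.convMul_apply, AlgHom.convOne_apply, ← (Coalgebra.Repr.arbitrary k a).eq, map_sum]
  simp only [Algebra.TensorProduct.lift_tmul, WithConv.ofConv_toConv, AlgHom.comp_apply,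
    HopfAlgebra.antipodeAlgHom_apply]
  simp only [← map_mul, ← map_sum]
  rw [HopfAlgebra.sum_mul_antipode_eq_algebraMap_counit, AlgHom.commutes]

theorem isUnit_pt (g : WithConv (A →ₐ[k] K)) : IsUnit g :=
  IsUnit.of_mul_eq_one _ (mul_comp_antipode k A g)

/-- the group of geometric points -/
noncomputable def ptGroup : Group (WithConv (A →ₐ[k] K)) := groupOfIsUnit (isUnit_pt k A)

/-- the embedding of the points in the `K`-valued dual -/
noncomputable def toLin : WithConv (A →ₐ[k] K) →* WithConv (A →ₗ[k] K) where
  toFun g := WithConv.toConv g.ofConv.toLinearMap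
  map_one' := AlgHom.toLinearMap_convOne
  map_mul' := AlgHom.toLinearMap_convMul

theorem linearIndependent_toLin :
    LinearIndependent K (fun g : WithConv (A →ₐ[k] K) => (toLin k A g).ofConv) :=
  (linearIndependent_toLinearMap k A K).comp _ WithConv.ofConv_injective

noncomputable instance : Fintype (WithConv (A →ₐ[k] K)) :=
  @Fintype.ofFinite _ (linearIndependent_toLin k A).finite

theorem card_pt : Fintype.card (WithConv (A →ₐ[k] K)) = Module.finrank k A := by
  apply le_antisymm
  · rw [← finrank_hom k A]
    exact (linearIndependent_toLin k A).fintype_card_le_finrank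
  · rw [← card_eq k A]
    exact Fintype.card_le_of_injective (fun i => WithConv.toConv (pt k A i))
      (fun i j h => pt_injective k A (WithConv.toConv_injective h))

theorem pow_card_pt (g : WithConv (A →ₐ[k] K)) : g ^ Module.finrank k A = 1 := by
  letI := ptGroup k A
  rw [← card_pt k A]
  exact pow_card_eq_one

end Group

section Main

variable (p : ℕ) [Fact p.Prime] (k : Type u) [Field k] [CharP k p] (A : Type u) [CommRing A]
  [HopfAlgebra k A] [Coalgebra.IsCocomm k A] [Module.Finite k A] [Algebra.Etale k A]

local notation "K" => AlgebraicClosure k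

instance : Nontrivial (WithConv (A →ₗ[k] K)) := by
  refine ⟨⟨1, 0, fun h => ?_⟩⟩
  have h1 : (1 : WithConv (A →ₗ[k] K)) (1 : A) = 1 := by
    rw [LinearMap.convOne_apply, Bialgebra.counit_one, map_one]
  rw [h] at h1
  exact zero_ne_one h1

theorem charP_K : CharP K p := charP_of_injective_algebraMap (algebraMap k K).injective p

theorem charP_dual : CharP (WithConv (A →ₗ[k] K)) p :=
  haveI := charP_K p k
  charP_of_injective_algebraMap (algebraMap K (WithConv (A →ₗ[k] K))).injective p

theorem exists_pow_eq (n : ℕ) (hA : Module.finrank k A = p ^ n) (x : WithConv (A →ₗ[k] K)) :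
    ∃ c : K, x ^ (p ^ n) = c • (1 : WithConv (A →ₗ[k] K)) := by
  haveI := charP_dual p k A
  have hx : x.ofConv ∈ Submodule.span K
      (Set.range fun i : PrimeSpectrum (K ⊗[k] A) => (pt k A i).toLinearMap) := by
    rw [span_pt]; trivial
  obtain ⟨c, hc⟩ := (Submodule.mem_span_range_iff_exists_fun K).mp hx
  have hx' : x = ∑ i, c i • toLin k A (WithConv.toConv (pt k A i)) := by
    apply WithConv.ext
    rw [← hc]
    simp [toLin]
  refine ⟨∑ i, c i ^ (p ^ n), ?_⟩
  rw [hx', sum_pow_char_pow, Finset.sum_smul]
  refine Finset.sum_congr rfl fun i _ => ?_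
  rw [smul_pow, ← map_pow, ← hA, pow_card_pt, map_one]

/-- extension of scalars on the dual -/
noncomputable def iota : WithConv (A →ₗ[k] k) →+* WithConv (A →ₗ[k] K) where
  toFun φ := WithConv.toConv ((Algebra.ofId k K).toLinearMap ∘ₗ φ.ofConv)
  map_one' := by
    apply WithConv.ext
    apply LinearMap.ext
    intro a
    rfl
  map_mul' φ ψ := by
    apply WithConv.ext
    exact LinearMap.algHom_comp_convMul_distrib (Algebra.ofId k K) φ ψ
  map_zero' := by
    apply WithConv.ext
    apply LinearMap.ext
    intro a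
    change algebraMap k K (0 : k) = 0
    rw [map_zero]
  map_add' φ ψ := by
    apply WithConv.ext
    apply LinearMap.ext
    intro a
    change algebraMap k K (φ a + ψ a) = algebraMap k K (φ a) + algebraMap k K (ψ a)
    rw [map_add]

theorem iota_apply (φ : WithConv (A →ₗ[k] k)) (a : A) : iota k A φ a = algebraMap k K (φ a) := rfl

theorem iota_injective : Function.Injective (iota k A) := by
  intro φ ψ h
  apply WithConv.ext
  apply LinearMap.ext
  intro a
  apply (algebraMap k K).injective
  rw [← iota_apply, ← iota_apply, h]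

theorem exists_pow_eq' (n : ℕ) (hA : Module.finrank k A = p ^ n) (φ : WithConv (A →ₗ[k] k)) :
    ∃ c : k, φ ^ (p ^ n) = c • (1 : WithConv (A →ₗ[k] k)) := by
  obtain ⟨c, hc⟩ := exists_pow_eq p k A n hA (iota k A φ)
  refine ⟨(φ ^ (p ^ n)) 1, ?_⟩
  apply iota_injective k A
  rw [← map_pow] at hc
  have h1 : iota k A (φ ^ (p ^ n)) (1 : A) = c := by
    rw [hc]
    change c • (1 : WithConv (A →ₗ[k] K)) (1 : A) = c
    rw [LinearMap.convOne_apply, Bialgebra.counit_one, map_one, smul_eq_mul, mul_one]
  rw [iota_apply] at h1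
  rw [hc, ← h1]
  apply WithConv.ext
  apply LinearMap.ext
  intro a
  change algebraMap k K ((φ ^ (p ^ n)) 1) • (1 : WithConv (A →ₗ[k] K)) a =
    algebraMap k K (((φ ^ (p ^ n)) 1) • (1 : WithConv (A →ₗ[k] k)) a)
  rw [LinearMap.convOne_apply, LinearMap.convOne_apply, smul_eq_mul, smul_eq_mul, map_mul]
  rfl

theorem isLocalRing_dual (n : ℕ) (hA : Module.finrank k A = p ^ n) :
    IsLocalRing (WithConv (A →ₗ[k] k)) := by
  haveI : Nontrivial (WithConv (A →ₗ[k] k)) := by
    refine ⟨⟨1, 0, fun h => ?_⟩⟩
    have h1 : (1 : WithConv (A →ₗ[k] k)) (1 : A) = 1 := by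
      rw [LinearMap.convOne_apply, Bialgebra.counit_one, map_one]
    rw [h] at h1
    exact zero_ne_one h1
  apply IsLocalRing.of_isUnit_or_isUnit_one_sub_self
  intro φ
  obtain ⟨c, hc⟩ := exists_pow_eq' p k A n hA φ
  by_cases h0 : c = 0
  · right
    rw [h0, zero_smul] at hc
    exact IsNilpotent.isUnit_one_sub ⟨_, hc⟩
  · left
    have hpos : 0 < p ^ n := pow_pos (Fact.out : p.Prime).pos n
    obtain ⟨m, hm⟩ := Nat.exists_eq_succ_of_ne_zero hpos.ne'
    apply IsUnit.of_mul_eq_one (c⁻¹ • φ ^ m)
    rw [mul_smul_comm, ← pow_succ', ← Nat.succ_eq_add_one, ← hm, hc, smul_smul, inv_mul_cancel₀ h0,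
      one_smul]

end Main

end Groth.Agent.Lib.Helper26.EtaleDual
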