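import Mathlib

set_option maxHeartbeats 400000

namespace Groth.Agent.Lib.Helper26.EtaleFrobLin

open MvPolynomial

universe u

variable (p : ℕ) [Fact p.Prime] (A : Type u) [CommRing A] [CharP A p] (n : ℕ)
  (h : Matrix (Fin n) (Fin n) A)

/-- the relations -/
noncomputable def v (j : Fin n) : MvPolynomial (Fin n) A :=
  (X j : MvPolynomial (Fin n) A) ^ p - ∑ i : Fin n, C (h i j) * X i

lemma pderiv_v (i j : Fin n) : pderiv i (v p A n h j) = - C (h i j) := by
  classical
  unfold v
  have hp : ((p : ℕ) : MvPolynomial (Fin n) A) = 0 := by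
    have : ((p : ℕ) : A) = 0 := CharP.cast_eq_zero A p
    rw [← map_natCast (C : A →+* MvPolynomial (Fin n) A), this, map_zero]
  rw [map_sub, map_sum]
  have h1 : pderiv i ((X j : MvPolynomial (Fin n) A) ^ p) = 0 := by
    rw [Derivation.leibniz_pow]
    rw [nsmul_eq_mul, hp, zero_mul]
  rw [h1, zero_sub]
  congr 1
  rw [Finset.sum_eq_single i]
  · rw [Derivation.leibniz, pderiv_C, pderiv_X_self]
    simp
  · intro b _ hb
    rw [Derivation.leibniz, pderiv_C, pderiv_X_of_ne hb]
    simp
  · intro hi; exact absurd (Finset.mem_univ i) hi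

omit [Fact p.Prime] [CharP A p] in
lemma aeval_v {C : Type*} [CommRing C] [Algebra A C] (c : Fin n → C) (j : Fin n) :
    aeval c (v p A n h j) = c j ^ p - ∑ i, algebraMap A C (h i j) * c i := by
  simp [v]

theorem backward (hdet : IsUnit h.det) :
    Algebra.Etale A (MvPolynomial (Fin n) A ⧸ Ideal.span (Set.range (v p A n h))) := by
  classical
  let P := Algebra.PreSubmersivePresentation.naive (R := A) (v := v p A n h) (a := id)
    Function.injective_id
  have hJ : P.jacobiMatrix = - (h.map (C : A →+* MvPolynomial (Fin n) A)) := by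
    ext i j
    rw [Algebra.PreSubmersivePresentation.jacobiMatrix_naive]
    simp [pderiv_v]
  have hunit : IsUnit P.jacobian := by
    rw [P.jacobian_eq_jacobiMatrix_det, hJ, Matrix.det_neg, ← RingHom.mapMatrix_apply,
      ← RingHom.map_det, map_mul, map_pow, map_neg, map_one]
    refine IsUnit.mul (IsUnit.pow _ ?_) ?_
    · exact ⟨⟨-1, -1, by ring, by ring⟩, rfl⟩
    · exact (hdet.map C).map _
  let SP : Algebra.SubmersivePresentation A
      (MvPolynomial (Fin n) A ⧸ Ideal.span (Set.range (v p A n h))) (Fin n) (Fin n) :=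
    ⟨P, hunit⟩
  have := SP.isStandardSmoothOfRelativeDimension (n := 0) (by simp [Algebra.Presentation.dimension])
  infer_instance


section generic
variable (p : ℕ) (A : Type u) [CommRing A] (n : ℕ)
variable {B : Type u} [CommRing B] [Algebra A B] (H : Matrix (Fin n) (Fin n) B)

abbrev Mq := (Fin n → B) ⧸ LinearMap.range (Matrix.mulVecLin H)

noncomputable def y (x : Fin n → B) (i : Fin n) : TrivSqZeroExt B (Mq n H) :=
  TrivSqZeroExt.inl (x i) + TrivSqZeroExt.inr (Submodule.Quotient.mk (Pi.single i 1))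

lemma mk_col (j : Fin n) :
    (Submodule.Quotient.mk (fun i => H i j) : Mq n H) = 0 := by
  classical
  rw [Submodule.Quotient.mk_eq_zero]
  refine ⟨Pi.single j 1, ?_⟩
  ext i
  simp [Matrix.mulVec_single]

lemma y_rel (hp : ((p : ℕ) : B) = 0) (x : Fin n → B) (j : Fin n) :
    (y n H x j) ^ p - ∑ i, TrivSqZeroExt.inl (H i j) * y n H x i
      = TrivSqZeroExt.inl (x j ^ p - ∑ i, H i j * x i) := by
  classical
  apply TrivSqZeroExt.ext
  · simp [y, TrivSqZeroExt.fst_sum]
  · rw [TrivSqZeroExt.snd_sub, TrivSqZeroExt.snd_pow, TrivSqZeroExt.snd_sum, TrivSqZeroExt.snd_inl]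
    have h1 : ∀ m : Mq n H, p • m = 0 := by
      intro m
      rw [← Nat.cast_smul_eq_nsmul B, hp, zero_smul]
    rw [h1, zero_sub, neg_eq_zero]
    have h2 : ∀ i, (TrivSqZeroExt.inl (H i j) * y n H x i).snd
        = (Submodule.Quotient.mk (H i j • Pi.single i 1) : Mq n H) := by
      intro i
      simp [y]
    simp_rw [h2]
    have h3 : (∑ i, (Submodule.Quotient.mk (H i j • Pi.single i 1) : Mq n H))
        = Submodule.mkQ (LinearMap.range (Matrix.mulVecLin H)) (∑ i, H i j • Pi.single i 1) := by
      rw [map_sum]; rfl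
    rw [h3, Submodule.mkQ_apply]
    convert mk_col n H j using 2
    ext i
    simp [Finset.sum_apply, Pi.single_apply]


lemma eq_inl [Algebra.FormallyUnramified A B] (g : B →ₐ[A] TrivSqZeroExt B (Mq n H))
    (hg : ∀ b, (g b).fst = b) : ∀ b, (g b).snd = 0 := by
  have : g = TrivSqZeroExt.inlAlgHom A B (Mq n H) := by
    apply Algebra.FormallyUnramified.ext' (TrivSqZeroExt.fstHom A B (Mq n H)).toRingHom ?_ g _ ?_
    · refine ⟨2, ?_⟩
      rw [pow_two, Ideal.zero_eq_bot, eq_bot_iff, Ideal.mul_le]
      intro a ha b hb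
      rw [RingHom.mem_ker] at ha hb
      have ha' : a.fst = 0 := ha
      have hb' : b.fst = 0 := hb
      rw [Ideal.mem_bot]
      apply TrivSqZeroExt.ext
      · simp [ha']
      · simp [ha', hb']
    · intro x
      change (g x).fst = (TrivSqZeroExt.inlAlgHom A B (Mq n H) x).fst
      rw [hg]; simp
  intro b; rw [this]; simp

lemma isUnit_of_single_mem (hs : ∀ i : Fin n, (Submodule.Quotient.mk (Pi.single i 1) : Mq n H) = 0) :
    IsUnit H.det := by
  classical
  rw [← Matrix.isUnit_iff_isUnit_det, ← Matrix.mulVec_surjective_iff_isUnit]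
  have htop : LinearMap.range (Matrix.mulVecLin H) = ⊤ := by
    rw [eq_top_iff, ← (Pi.basisFun B (Fin n)).span_eq, Submodule.span_le]
    rintro _ ⟨i, rfl⟩
    have := hs i
    rw [Submodule.Quotient.mk_eq_zero] at this
    simpa using this
  intro w
  have : w ∈ LinearMap.range (Matrix.mulVecLin H) := by rw [htop]; trivial
  obtain ⟨u, hu⟩ := this
  exact ⟨u, by simpa using hu⟩


end generic

section forward

variable {p A n h}

set_option synthInstance.maxHeartbeats 400000 in
theorem forward (he : Algebra.Etale A (MvPolynomial (Fin n) A ⧸ Ideal.span (Set.range (v p A n h)))) :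
    IsUnit h.det := by
  classical
  set I : Ideal (MvPolynomial (Fin n) A) := Ideal.span (Set.range (v p A n h)) with hI
  set B := MvPolynomial (Fin n) A ⧸ I with hBdef
  let x : Fin n → B := fun i => Ideal.Quotient.mk I (X i)
  let H : Matrix (Fin n) (Fin n) B := h.map (algebraMap A B)
  have hp : ((p : ℕ) : B) = 0 := by
    have : ((p : ℕ) : A) = 0 := CharP.cast_eq_zero A p
    rw [← map_natCast (algebraMap A B), this, map_zero]
  let g₀ : MvPolynomial (Fin n) A →ₐ[A] TrivSqZeroExt B (Mq n H) := aeval (y n H x)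
  have hmk : ∀ j, Ideal.Quotient.mk I (v p A n h j) = 0 := by
    intro j
    rw [Ideal.Quotient.eq_zero_iff_mem]
    exact Ideal.subset_span ⟨j, rfl⟩
  have hg₀ : ∀ a ∈ I, g₀ a = 0 := by
    intro a ha
    have : I ≤ RingHom.ker g₀.toRingHom := by
      refine Ideal.span_le.mpr ?_
      rintro _ ⟨j, rfl⟩
      rw [SetLike.mem_coe, RingHom.mem_ker]
      change g₀ (v p A n h j) = 0
      have h1 : g₀ (v p A n h j) = (y n H x j) ^ p - ∑ i, TrivSqZeroExt.inl (H i j) * y n H x i := by
        refine (aeval_v p A n h (y n H x) j).trans ?_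
        congr 1
      rw [h1, y_rel p n H hp x j]
      have h2 : x j ^ p - ∑ i, H i j * x i = Ideal.Quotient.mk I (v p A n h j) := by
        simp only [x, H, v, map_sub, map_pow, map_sum, map_mul, Matrix.map_apply]
        rfl
      rw [h2, hmk, TrivSqZeroExt.inl_zero]
    exact this ha
  let g : B →ₐ[A] TrivSqZeroExt B (Mq n H) := Ideal.Quotient.liftₐ I g₀ hg₀
  have hgfst : ∀ b, (g b).fst = b := by
    intro b
    obtain ⟨f, rfl⟩ := Ideal.Quotient.mk_surjective b
    have : ((TrivSqZeroExt.fstHom A B (Mq n H)).comp g₀) = Ideal.Quotient.mkₐ A I := by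
      apply MvPolynomial.algHom_ext
      intro i
      simp [g₀, y, x]
      rfl
    have h3 := DFunLike.congr_fun this f
    exact h3
  have hunr : Algebra.FormallyUnramified A B := inferInstance
  have hsnd := eq_inl A n H g hgfst
  have hs : ∀ i : Fin n, (Submodule.Quotient.mk (Pi.single i 1) : Mq n H) = 0 := by
    intro i
    have := hsnd (x i)
    have h4 : g (x i) = y n H x i := by
      change g₀ (X i) = _
      simp [g₀]
    rw [h4] at this
    simpa [y] using this
  have hdetB : IsUnit H.det := isUnit_of_single_mem n H hs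
  -- retraction
  let r₀ : MvPolynomial (Fin n) A →ₐ[A] A := aeval (fun _ => (0 : A))
  have hr₀ : ∀ a ∈ I, r₀ a = 0 := by
    intro a ha
    have : I ≤ RingHom.ker r₀.toRingHom := by
      refine Ideal.span_le.mpr ?_
      rintro _ ⟨j, rfl⟩
      rw [SetLike.mem_coe, RingHom.mem_ker]
      change r₀ (v p A n h j) = 0
      have hp0 : p ≠ 0 := (Fact.out : p.Prime).ne_zero
      simp [r₀, v, hp0]
    exact this ha
  let r : B →ₐ[A] A := Ideal.Quotient.liftₐ I r₀ hr₀
  have hdet : H.det = algebraMap A B h.det := by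
    rw [RingHom.map_det]; rfl
  rw [hdet] at hdetB
  have := hdetB.map r
  simpa using this

end forward

theorem main : Algebra.Etale A (MvPolynomial (Fin n) A ⧸ Ideal.span (Set.range fun j : Fin n =>
        (MvPolynomial.X j : MvPolynomial (Fin n) A) ^ p -
          ∑ i : Fin n, MvPolynomial.C (h i j) * MvPolynomial.X i)) ↔
      IsUnit h.det :=
  ⟨fun he => forward (p := p) (h := h) he, backward p A n h⟩

end Groth.Agent.Lib.Helper26.EtaleFrobLin
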