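import Mathlib
set_option maxHeartbeats 400000
namespace Groth.Agent.Lib.Helper26.ExpLaurent
open PowerSeries

/-- uniqueness from logarithmic derivative -/
lemma uniq (Φ Ψ : PowerSeries ℚ) (h1 : constantCoeff Φ = 1) (h2 : constantCoeff Ψ = 1)
    (h : PowerSeries.derivative ℚ Φ * Ψ = Φ * PowerSeries.derivative ℚ Ψ) : Φ = Ψ := by
  have hΨ : constantCoeff Ψ ≠ 0 := by rw [h2]; exact one_ne_zero
  have hcancel : Ψ * Ψ⁻¹ = 1 := PowerSeries.mul_inv_cancel Ψ hΨ
  have hQ : Φ * Ψ⁻¹ = 1 := by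
    apply derivative.ext
    · rw [Derivation.leibniz, derivative_inv', Derivation.map_one_eq_zero]
      have e1 : Φ • (-Ψ⁻¹ ^ 2 * PowerSeries.derivative ℚ Ψ) = Φ * (-Ψ⁻¹ ^ 2 * PowerSeries.derivative ℚ Ψ) := rfl
      have e2 : Ψ⁻¹ • PowerSeries.derivative ℚ Φ = Ψ⁻¹ * PowerSeries.derivative ℚ Φ := rfl
      rw [e1, e2]
      have : Φ * (-Ψ⁻¹ ^ 2 * PowerSeries.derivative ℚ Ψ) + Ψ⁻¹ * PowerSeries.derivative ℚ Φ
          = Ψ⁻¹ ^ 2 * (PowerSeries.derivative ℚ Φ * Ψ - Φ * PowerSeries.derivative ℚ Ψ) + (1 - Ψ * Ψ⁻¹) * (Ψ⁻¹ * PowerSeries.derivative ℚ Φ) := by ring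
      rw [this, h, hcancel]; ring
    · rw [map_mul, h1, map_one, one_mul, PowerSeries.constantCoeff_inv, h2, inv_one]
  calc Φ = Φ * (Ψ⁻¹ * Ψ) := by rw [mul_comm Ψ⁻¹, hcancel, mul_one]
    _ = (Φ * Ψ⁻¹) * Ψ := by ring
    _ = Ψ := by rw [hQ, one_mul]

lemma constCoeff_exp_subst (a : PowerSeries ℚ) (ha : constantCoeff a = 0) :
    constantCoeff ((exp ℚ).subst a) = 1 := by
  have hs : HasSubst a := HasSubst.of_constantCoeff_zero' ha
  rw [← coeff_zero_eq_constantCoeff_apply, coeff_subst' hs, finsum_eq_single _ 0]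
  · simp
  · intro d hd
    rw [coeff_zero_eq_constantCoeff_apply, map_pow, ha, zero_pow hd, smul_zero]

lemma deriv_exp_subst (a : PowerSeries ℚ) (ha : constantCoeff a = 0) :
    PowerSeries.derivative ℚ ((exp ℚ).subst a) = (exp ℚ).subst a * PowerSeries.derivative ℚ a := by
  have hs : HasSubst a := HasSubst.of_constantCoeff_zero' ha
  rw [derivative_subst hs, derivative_exp]

lemma exp_subst_add (a b : PowerSeries ℚ) (ha : constantCoeff a = 0) (hb : constantCoeff b = 0) :
    (exp ℚ).subst (a + b) = (exp ℚ).subst a * (exp ℚ).subst b := by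
  have hab : constantCoeff (a + b) = 0 := by rw [map_add, ha, hb, add_zero]
  apply uniq
  · exact constCoeff_exp_subst _ hab
  · rw [map_mul, constCoeff_exp_subst _ ha, constCoeff_exp_subst _ hb, one_mul]
  · rw [deriv_exp_subst _ hab, Derivation.leibniz, deriv_exp_subst _ ha, deriv_exp_subst _ hb, map_add]
    have e1 : ∀ x y : PowerSeries ℚ, x • y = x * y := fun _ _ => rfl
    rw [e1, e1]
    ring

lemma exp_subst_zero : (exp ℚ).subst (0 : PowerSeries ℚ) = 1 := by
  apply uniq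
  · exact constCoeff_exp_subst _ (map_zero _)
  · exact map_one _
  · rw [deriv_exp_subst _ (map_zero _), map_zero, Derivation.map_one_eq_zero]; simp

lemma exp_subst_sum {ι : Type*} (s : Finset ι) (a : ι → PowerSeries ℚ)
    (ha : ∀ i ∈ s, constantCoeff (a i) = 0) :
    (exp ℚ).subst (∑ i ∈ s, a i) = ∏ i ∈ s, (exp ℚ).subst (a i) := by
  classical
  induction s using Finset.induction_on with
  | empty => simpa using exp_subst_zero
  | insert i s hi ih =>
    rw [Finset.sum_insert hi, Finset.prod_insert hi, exp_subst_add, ih]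
    · intro j hj; exact ha j (Finset.mem_insert_of_mem hj)
    · exact ha i (Finset.mem_insert_self i s)
    · rw [map_sum]; exact Finset.sum_eq_zero fun j hj => ha j (Finset.mem_insert_of_mem hj)

/-- the series `Σ_{v ≥ 1} y^v t^v / v = -log(1 - y t)` -/
noncomputable def L (y : ℚ) : PowerSeries ℚ := PowerSeries.mk fun v : ℕ => if v = 0 then 0 else y ^ v / v

lemma constCoeff_L (y : ℚ) : constantCoeff (L y) = 0 := by
  rw [← coeff_zero_eq_constantCoeff_apply, L, coeff_mk]; simp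

lemma constCoeff_C_mul_L (r y : ℚ) : constantCoeff (C r * L y) = 0 := by
  rw [map_mul, constCoeff_L, mul_zero]

lemma deriv_L_mul (y : ℚ) : PowerSeries.derivative ℚ (L y) * (1 - C y * X) = C y := by
  have hd : ∀ n, coeff n (PowerSeries.derivative ℚ (L y)) = y ^ (n + 1) := by
    intro n
    rw [coeff_derivative, L, coeff_mk, if_neg (Nat.succ_ne_zero n)]
    have : ((n : ℚ) + 1) ≠ 0 := by positivity
    push_cast
    field_simp
  rw [mul_sub, mul_one, mul_comm (C y) X, ← mul_assoc]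
  ext n
  rcases n with _ | n
  · rw [map_sub, hd, coeff_zero_eq_constantCoeff_apply, map_mul, map_mul, constantCoeff_X]
    simp
  · rw [map_sub, hd, coeff_mul_C, coeff_succ_mul_X, hd, coeff_C, if_neg (Nat.succ_ne_zero n)]
    ring

/-- `G y r = exp(r · L y) = (1 - y t)^(-r)` -/
noncomputable def G (y : ℚ) (r : ℤ) : PowerSeries ℚ := (exp ℚ).subst (C (r : ℚ) * L y)

lemma G_add (y : ℚ) (r s : ℤ) : G y (r + s) = G y r * G y s := by
  unfold G
  rw [← exp_subst_add _ _ (constCoeff_C_mul_L _ _) (constCoeff_C_mul_L _ _)]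
  congr 1
  push_cast
  rw [map_add, add_mul]

lemma G_zero (y : ℚ) : G y 0 = 1 := by
  unfold G
  rw [Int.cast_zero, map_zero, zero_mul, exp_subst_zero]

lemma G_one_mul (y : ℚ) : G y 1 * (1 - C y * X) = 1 := by
  have hc : constantCoeff (C ((1 : ℤ) : ℚ) * L y) = 0 := constCoeff_C_mul_L _ _
  apply derivative.ext
  · unfold G
    rw [Derivation.leibniz, deriv_exp_subst _ hc, Derivation.map_one_eq_zero]
    have e1 : ∀ x y : PowerSeries ℚ, x • y = x * y := fun _ _ => rfl
    rw [e1, e1, Int.cast_one, map_one, one_mul]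
    have hu : PowerSeries.derivative ℚ (1 - C y * X) = - C y := by
      rw [map_sub, Derivation.map_one_eq_zero, zero_sub, Derivation.leibniz, derivative_X,
        derivative_C]
      simp
    rw [hu]
    have := deriv_L_mul y
    calc (exp ℚ).subst (L y) * -C y + (1 - C y * X) * ((exp ℚ).subst (L y) * PowerSeries.derivative ℚ (L y))
        = (exp ℚ).subst (L y) * (PowerSeries.derivative ℚ (L y) * (1 - C y * X) - C y) := by ring
      _ = 0 := by rw [this, sub_self, mul_zero]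
  · unfold G
    rw [map_mul, constCoeff_exp_subst _ hc, map_sub, map_mul, constantCoeff_X]
    simp

lemma G_nat_mul (y : ℚ) (m : ℕ) : G y (m : ℤ) * (1 - C y * X) ^ m = 1 := by
  induction m with
  | zero => simpa using G_zero y
  | succ m ih =>
    rw [Nat.cast_succ, G_add, pow_succ]
    calc G y m * G y 1 * ((1 - C y * X) ^ m * (1 - C y * X))
        = (G y m * (1 - C y * X) ^ m) * (G y 1 * (1 - C y * X)) := by ring
      _ = 1 := by rw [ih, G_one_mul, one_mul]

lemma G_neg (y : ℚ) (k : ℕ) : G y (-(k : ℤ)) = (1 - C y * X) ^ k := by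
  calc G y (-(k : ℤ)) = G y (-(k : ℤ)) * (G y k * (1 - C y * X) ^ k) := by rw [G_nat_mul, mul_one]
    _ = G y (-(k : ℤ) + k) * (1 - C y * X) ^ k := by rw [G_add, mul_assoc]
    _ = (1 - C y * X) ^ k := by rw [neg_add_cancel, G_zero, one_mul]

lemma G_single (y : ℚ) (r : ℤ) :
    G y r * (1 - C y * X) ^ r.toNat = (1 - C y * X) ^ (-r).toNat := by
  rcases le_total 0 r with h | h
  · obtain ⟨m, rfl⟩ := Int.eq_ofNat_of_zero_le h
    rw [Int.toNat_natCast, G_nat_mul]
    have : (-(m : ℤ)).toNat = 0 := by omega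
    rw [this, pow_zero]
  · obtain ⟨k, hk⟩ := Int.eq_ofNat_of_zero_le (neg_nonneg.mpr h)
    have hr : r = -(k : ℤ) := by omega
    subst hr
    rw [G_neg, neg_neg, Int.toNat_natCast]
    have : (-(k : ℤ)).toNat = 0 := by omega
    rw [this, pow_zero, mul_one]

theorem main (c : ℤ →₀ ℤ) (q : ℚ) :
    (PowerSeries.exp ℚ).subst
        (PowerSeries.mk fun v : ℕ => if v = 0 then (0 : ℚ)
          else (c.sum fun (n : ℤ) (r : ℤ) => (r : ℚ) * q ^ (n * (v : ℤ))) / (v : ℚ))
      * ∏ n ∈ c.support, (1 - PowerSeries.C (q ^ n) * PowerSeries.X) ^ (c n).toNat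
    = ∏ n ∈ c.support, (1 - PowerSeries.C (q ^ n) * PowerSeries.X) ^ (-(c n)).toNat := by
  have h1 : (PowerSeries.mk fun v : ℕ => if v = 0 then (0 : ℚ)
          else (c.sum fun (n : ℤ) (r : ℤ) => (r : ℚ) * q ^ (n * (v : ℤ))) / (v : ℚ))
      = ∑ n ∈ c.support, C ((c n : ℤ) : ℚ) * L (q ^ n) := by
    ext v
    rw [coeff_mk, map_sum]
    by_cases hv : v = 0
    · rw [if_pos hv]
      symm
      apply Finset.sum_eq_zero
      intro n _
      rw [coeff_C_mul, L, coeff_mk, if_pos hv, mul_zero]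
    · rw [if_neg hv, Finsupp.sum, Finset.sum_div]
      apply Finset.sum_congr rfl
      intro n _
      rw [coeff_C_mul, L, coeff_mk, if_neg hv, zpow_mul, zpow_natCast, mul_div_assoc]
  rw [h1, exp_subst_sum _ _ (fun n _ => constCoeff_C_mul_L _ _), ← Finset.prod_mul_distrib]
  apply Finset.prod_congr rfl
  intro n _
  exact G_single (q ^ n) (c n)

end Groth.Agent.Lib.Helper26.ExpLaurent
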