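import Mathlib
set_option maxHeartbeats 400000
set_option autoImplicit false
universe u
open TensorProduct

/-! S19573: annihilator of the top exterior power of `R^n / R a`, and local freeness of rank `n-1`
off `V(a)`. -/
namespace Groth.Agent.Lib.Helper26.ExtAnn

section
variable (R : Type u) [CommRing R] (n : ℕ) (a : Fin n → R)

/-- the class of the `l`-th basis vector in `R^n / R a` -/
noncomputable def ebar (l : Fin n) : (Fin n → R) ⧸ Submodule.span R {a} :=
  Submodule.Quotient.mk (Pi.single l 1)

theorem sum_smul_ebar : ∑ l, a l • ebar R n a l = 0 := by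
  have : ∑ l, a l • (Pi.single l (1 : R) : Fin n → R) = a := by
    ext j
    simp [Finset.sum_apply, Pi.single_apply]
  have h2 : (Submodule.span R {a}).mkQ (∑ l, a l • (Pi.single l (1 : R) : Fin n → R)) =
      ∑ l, a l • ebar R n a l := by
    rw [map_sum]
    refine Finset.sum_congr rfl fun l _ => ?_
    rw [map_smul]
    rfl
  rw [← h2, this, Submodule.mkQ_apply, Submodule.Quotient.mk_eq_zero]
  exact Submodule.mem_span_singleton_self a

theorem smul_ιMulti_eq_zero (w : Fin n → Fin n) (hw : Function.Surjective w) (i : Fin n) :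
    a i • exteriorPower.ιMulti R n (fun j => ebar R n a (w j)) = 0 := by
  obtain ⟨j, rfl⟩ := hw i
  have h0 : exteriorPower.ιMulti R n
      (Function.update (fun j => ebar R n a (w j)) j (∑ l, a l • ebar R n a l)) = 0 := by
    rw [sum_smul_ebar]
    exact AlternatingMap.map_update_zero _ _ _
  rw [AlternatingMap.map_update_sum] at h0
  rw [Finset.sum_eq_single (w j)] at h0
  · rw [AlternatingMap.map_update_smul] at h0
    rw [← h0]
    congr 2
    exact (Function.update_eq_self _ _).symm
  · intro l _ hl
    rw [AlternatingMap.map_update_smul]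
    obtain ⟨j', rfl⟩ := hw l
    have hjj' : j ≠ j' := fun h => hl (by rw [h])
    rw [AlternatingMap.map_eq_zero_of_eq _ _ _ hjj', smul_zero]
    rw [Function.update_self, Function.update_of_ne hjj'.symm]
  · intro h; exact absurd (Finset.mem_univ _) h

theorem span_ebar : Submodule.span R (Set.range (ebar R n a)) = ⊤ := by
  have h1 : Set.range (ebar R n a) =
      (Submodule.span R {a}).mkQ '' Set.range (Pi.basisFun R (Fin n)) := by
    rw [← Set.range_comp]
    congr 1
    ext l
    simp [ebar, Pi.basisFun_apply]
  rw [h1, ← Submodule.map_span, (Pi.basisFun R (Fin n)).span_eq, Submodule.map_top,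
    Submodule.range_mkQ]

theorem span_le_annihilator :
    Ideal.span (Set.range a) ≤
      Module.annihilator R (⋀[R]^n ((Fin n → R) ⧸ Submodule.span R {a})) := by
  rw [Ideal.span_le]
  rintro _ ⟨i, rfl⟩
  rw [SetLike.mem_coe, Module.mem_annihilator]
  intro ω
  have hω : ω ∈ Submodule.span R (Set.range (exteriorPower.ιMulti_family R n (ebar R n a))) := by
    rw [exteriorPower.ιMulti_family_span_of_span R (span_ebar R n a)]
    trivial
  induction hω using Submodule.span_induction with
  | mem x hx =>
    obtain ⟨s, rfl⟩ := hx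
    have hinj : Function.Injective (Set.powersetCard.ofFinEmbEquiv.symm s : Fin n → Fin n) :=
      (Set.powersetCard.ofFinEmbEquiv.symm s).injective
    exact smul_ιMulti_eq_zero R n a _ (Finite.injective_iff_surjective.mp hinj) i
  | zero => exact smul_zero _
  | add x y _ _ hx hy => rw [smul_add, hx, hy, add_zero]
  | smul c x _ hx => rw [smul_comm, hx, smul_zero]

/-- determinant over `R ⧸ I` as an `R`-alternating map -/
noncomputable def detR (I : Ideal R) : (Fin n → R ⧸ I) [⋀^Fin n]→ₗ[R] (R ⧸ I) :=
  { (Matrix.detRowAlternating (R := R ⧸ I) (n := Fin n)).toMultilinearMap.restrictScalars R with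
    map_eq_zero_of_eq' := fun v i j h hij =>
      (Matrix.detRowAlternating (R := R ⧸ I) (n := Fin n)).map_eq_zero_of_eq v h hij }

theorem detR_apply (I : Ideal R) (v : Fin n → Fin n → R ⧸ I) :
    detR R n I v = Matrix.det (Matrix.of v) := rfl

/-- reduction mod `I` on `R^n/Ra` -/
noncomputable def redI : ((Fin n → R) ⧸ Submodule.span R {a}) →ₗ[R]
    (Fin n → R ⧸ Ideal.span (Set.range a)) :=
  Submodule.liftQ _ ((Ideal.Quotient.mkₐ R (Ideal.span (Set.range a))).toLinearMap.compLeft (Fin n))
    (by
      rw [Submodule.span_le, Set.singleton_subset_iff, SetLike.mem_coe, LinearMap.mem_ker]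
      ext i
      simp only [LinearMap.compLeft_apply, Function.comp_apply, AlgHom.toLinearMap_apply,
        Ideal.Quotient.mkₐ_eq_mk, Pi.zero_apply]
      exact Ideal.Quotient.eq_zero_iff_mem.mpr (Ideal.subset_span ⟨i, rfl⟩))

theorem redI_ebar (l : Fin n) : redI R n a (ebar R n a l) = Pi.single l 1 := by
  ext j
  simp only [redI, ebar, Submodule.liftQ_apply, LinearMap.compLeft_apply, Function.comp_apply,
    AlgHom.toLinearMap_apply, Ideal.Quotient.mkₐ_eq_mk, Pi.single_apply]
  split_ifs <;> simp

theorem annihilator_le_span :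
    Module.annihilator R (⋀[R]^n ((Fin n → R) ⧸ Submodule.span R {a})) ≤
      Ideal.span (Set.range a) := by
  intro r hr
  rw [Module.mem_annihilator] at hr
  let Ψ := exteriorPower.alternatingMapLinearEquiv
    ((detR R n (Ideal.span (Set.range a))).compLinearMap (redI R n a))
  have h1 : Ψ (exteriorPower.ιMulti R n (ebar R n a)) = 1 := by
    rw [exteriorPower.alternatingMapLinearEquiv_apply_ιMulti]
    rw [AlternatingMap.compLinearMap_apply, detR_apply]
    have : (Matrix.of fun i => redI R n a (ebar R n a i)) =
        (1 : Matrix (Fin n) (Fin n) (R ⧸ Ideal.span (Set.range a))) := by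
      ext i j
      rw [Matrix.of_apply, redI_ebar, Matrix.one_apply, Pi.single_apply]
      simp only [eq_comm]
    rw [this, Matrix.det_one]
  have h2 := congrArg Ψ (hr (exteriorPower.ιMulti R n (ebar R n a)))
  rw [map_smul, h1, map_zero, Algebra.smul_def, mul_one] at h2
  exact Ideal.Quotient.eq_zero_iff_mem.mp h2

end

section part2
variable (R : Type u) [CommRing R] (n : ℕ) (a : Fin n → R) (p : PrimeSpectrum R) (i : Fin n)
  (hi : a i ∉ p.asIdeal)

noncomputable def uinv : Localization.AtPrime p.asIdeal :=
  IsLocalization.mk' (Localization.AtPrime p.asIdeal) (1 : R) (⟨a i, hi⟩ : p.asIdeal.primeCompl)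

theorem uinv_mul : uinv R n a p i hi * algebraMap R (Localization.AtPrime p.asIdeal) (a i) = 1 := by
  have := IsLocalization.mk'_spec (Localization.AtPrime p.asIdeal) (1 : R)
    (⟨a i, hi⟩ : p.asIdeal.primeCompl)
  simpa [uinv] using this

noncomputable def phi : (Fin n → R) →ₗ[R] ({j : Fin n // j ≠ i} → Localization.AtPrime p.asIdeal) :=
  LinearMap.pi fun j =>
    { toFun := fun x => algebraMap R (Localization.AtPrime p.asIdeal) (x j) -
        algebraMap R (Localization.AtPrime p.asIdeal) (x i) *
          (uinv R n a p i hi * algebraMap R (Localization.AtPrime p.asIdeal) (a j))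
      map_add' := by intros; simp only [Pi.add_apply, map_add]; ring
      map_smul' := by
        intros
        simp only [Pi.smul_apply, smul_eq_mul, map_mul, RingHom.id_apply, Algebra.smul_def]
        ring }

theorem phi_apply (x : Fin n → R) (j : {j : Fin n // j ≠ i}) :
    phi R n a p i hi x j = algebraMap R (Localization.AtPrime p.asIdeal) (x j) -
        algebraMap R (Localization.AtPrime p.asIdeal) (x i) *
          (uinv R n a p i hi * algebraMap R (Localization.AtPrime p.asIdeal) (a j)) := rfl

theorem phi_a : phi R n a p i hi a = 0 := by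
  ext j
  rw [phi_apply, Pi.zero_apply]
  have := uinv_mul R n a p i hi
  linear_combination (- algebraMap R (Localization.AtPrime p.asIdeal) (a j)) * this

noncomputable def phibar : ((Fin n → R) ⧸ Submodule.span R {a}) →ₗ[R]
    ({j : Fin n // j ≠ i} → Localization.AtPrime p.asIdeal) :=
  Submodule.liftQ _ (phi R n a p i hi) (by
    rw [Submodule.span_le, Set.singleton_subset_iff, SetLike.mem_coe, LinearMap.mem_ker]
    exact phi_a R n a p i hi)

theorem phibar_mk (x : Fin n → R) :
    phibar R n a p i hi (Submodule.Quotient.mk x) = phi R n a p i hi x := rfl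

/-- kernel: if `phi x = 0` then some `c ∉ p` kills the class of `x`. -/
theorem exists_smul_mk_eq_zero (x : Fin n → R) (hx : phi R n a p i hi x = 0) :
    ∃ c : p.asIdeal.primeCompl,
      c • (Submodule.Quotient.mk x : (Fin n → R) ⧸ Submodule.span R {a}) = 0 := by
  have h1 : ∀ j : {j : Fin n // j ≠ i}, ∃ c : p.asIdeal.primeCompl,
      (c : R) * (a i * x j - x i * a j) = 0 := by
    intro j
    have hj := congrFun hx j
    rw [phi_apply, Pi.zero_apply] at hj
    apply (IsLocalization.map_eq_zero_iff p.asIdeal.primeCompl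
      (Localization.AtPrime p.asIdeal) _).mp
    rw [map_sub, map_mul, map_mul]
    have := uinv_mul R n a p i hi
    linear_combination (algebraMap R (Localization.AtPrime p.asIdeal) (a i)) * hj +
      (algebraMap R (Localization.AtPrime p.asIdeal) (x i) *
        algebraMap R (Localization.AtPrime p.asIdeal) (a j)) * this
  choose c hc using h1
  let C : p.asIdeal.primeCompl := ∏ j, c j
  have hC : ∀ l : Fin n, (C : R) * (a i * x l - x i * a l) = 0 := by
    intro l
    by_cases hl : l = i
    · subst hl; ring
    · obtain ⟨d, hd⟩ := Finset.dvd_prod_of_mem c (Finset.mem_univ (⟨l, hl⟩ : {j : Fin n // j ≠ i}))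
      have : (C : R) = c ⟨l, hl⟩ * d := by
        change ((∏ j, c j : p.asIdeal.primeCompl) : R) = _
        rw [hd]; rfl
      rw [this, mul_assoc, mul_comm (d : R), ← mul_assoc, hc ⟨l, hl⟩, zero_mul]
  refine ⟨C * ⟨a i, hi⟩, ?_⟩
  rw [Submonoid.smul_def, ← Submodule.Quotient.mk_smul, Submodule.Quotient.mk_eq_zero,
    Submodule.mem_span_singleton]
  refine ⟨(C : R) * x i, ?_⟩
  ext l
  have := hC l
  simp only [Pi.smul_apply, smul_eq_mul, Submonoid.coe_mul]
  linear_combination -this

instance isLoc : IsLocalizedModule p.asIdeal.primeCompl (phibar R n a p i hi) where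
  map_units s := by
    rw [Module.End.isUnit_iff]
    have hu : IsUnit (algebraMap R (Localization.AtPrime p.asIdeal) s) :=
      IsLocalization.map_units _ s
    constructor
    · intro y y' h
      simp only [Module.algebraMap_end_apply] at h
      rw [← algebraMap_smul (Localization.AtPrime p.asIdeal) (s : R) y,
        ← algebraMap_smul (Localization.AtPrime p.asIdeal) (s : R) y'] at h
      exact hu.smul_left_cancel.mp h
    · intro y
      refine ⟨(hu.unit⁻¹ : (Localization.AtPrime p.asIdeal)ˣ) • y, ?_⟩
      simp only [Module.algebraMap_end_apply]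
      rw [← algebraMap_smul (Localization.AtPrime p.asIdeal) (s : R), Units.smul_def, smul_smul,
        IsUnit.mul_val_inv, one_smul]
  surj y := by
    obtain ⟨b, hb⟩ := IsLocalization.exist_integer_multiples_of_finite p.asIdeal.primeCompl y
    choose r hr using hb
    refine ⟨(Submodule.Quotient.mk (fun l => if h : l ≠ i then r ⟨l, h⟩ else 0), b), ?_⟩
    ext j
    rw [phibar_mk, phi_apply]
    simp only [ne_eq, not_true_eq_false, dite_false, map_zero, zero_mul, sub_zero]
    rw [dif_pos j.2, hr]
    rfl
  exists_of_eq {f₁ f₂} h := by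
    obtain ⟨x₁, rfl⟩ := Submodule.Quotient.mk_surjective _ f₁
    obtain ⟨x₂, rfl⟩ := Submodule.Quotient.mk_surjective _ f₂
    have h0 : phi R n a p i hi (x₁ - x₂) = 0 := by
      rw [map_sub, sub_eq_zero]
      exact h
    obtain ⟨c, hc⟩ := exists_smul_mk_eq_zero R n a p i hi (x₁ - x₂) h0
    refine ⟨c, ?_⟩
    rw [Submodule.Quotient.mk_sub, smul_sub, sub_eq_zero] at hc
    exact hc


theorem part2 (hp : ¬ Ideal.span (Set.range a) ≤ p.asIdeal) :
    p ∈ Module.freeLocus R ((Fin n → R) ⧸ Submodule.span R {a}) ∧
      Module.rankAtStalk ((Fin n → R) ⧸ Submodule.span R {a}) p = n - 1 := by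
  obtain ⟨i, hi⟩ : ∃ i, a i ∉ p.asIdeal := by
    by_contra hcon
    push_neg at hcon
    apply hp
    rw [Ideal.span_le]
    rintro _ ⟨i, rfl⟩
    exact hcon i
  constructor
  · exact (Module.mem_freeLocus_of_isLocalization p (Localization.AtPrime p.asIdeal)
      ({j : Fin n // j ≠ i} → Localization.AtPrime p.asIdeal) (phibar R n a p i hi)).mpr inferInstance
  · let e := (IsLocalizedModule.linearEquiv p.asIdeal.primeCompl
      (LocalizedModule.mkLinearMap p.asIdeal.primeCompl ((Fin n → R) ⧸ Submodule.span R {a}))
      (phibar R n a p i hi)).extendScalarsOfIsLocalization p.asIdeal.primeCompl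
        (Localization.AtPrime p.asIdeal)
    rw [Module.rankAtStalk, e.finrank_eq, Module.finrank_fintype_fun_eq_card]
    simp
end part2

theorem main (R : Type u) [CommRing R] (n : ℕ) (hn : 1 ≤ n) (a : Fin n → R) :
    (⋀[R]^n ((Fin n → R) ⧸ Submodule.span R {a})).annihilator = Ideal.span (Set.range a) ∧
    ∀ p : PrimeSpectrum R, ¬ Ideal.span (Set.range a) ≤ p.asIdeal →
      p ∈ Module.freeLocus R ((Fin n → R) ⧸ Submodule.span R {a}) ∧
      Module.rankAtStalk ((Fin n → R) ⧸ Submodule.span R {a}) p = n - 1 :=
  ⟨le_antisymm (annihilator_le_span R n a) (span_le_annihilator R n a),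
    fun p hp => part2 R n a p hp⟩

end Groth.Agent.Lib.Helper26.ExtAnn
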