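import Mathlib
import Groth.Prelude.Def_CGrpSh

set_option autoImplicit false
universe w v u

namespace Groth.Agent.Lib.Helper26.ExtKill

open CategoryTheory

theorem ext_nsmul_eq_zero {C : Type u} [Category.{v} C] [Abelian C] [HasExt.{w} C] {X Y : C}
    (m : ℕ) (hm : m • (𝟙 X) = 0) {n : ℕ} (x : Abelian.Ext X Y n) : m • x = 0 := by
  have h0 : Abelian.Ext.mk₀ (m • 𝟙 X) = m • Abelian.Ext.mk₀ (𝟙 X) := by
    have := map_nsmul (Abelian.Ext.addEquiv₀ (X := X) (Y := X)).symm m (𝟙 X)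
    simpa using this
  have h1 : (Abelian.Ext.mk₀ (m • 𝟙 X)).comp x (zero_add n) = m • x := by
    rw [h0]
    have h2 := map_nsmul (Abelian.Ext.bilinearComp X X Y 0 n n (zero_add n)) m
      (Abelian.Ext.mk₀ (𝟙 X))
    calc (m • Abelian.Ext.mk₀ (𝟙 X)).comp x (zero_add n)
        = (Abelian.Ext.bilinearComp X X Y 0 n n (zero_add n) (m • Abelian.Ext.mk₀ (𝟙 X))) x := rfl
      _ = (m • Abelian.Ext.bilinearComp X X Y 0 n n (zero_add n) (Abelian.Ext.mk₀ (𝟙 X))) x := by
          rw [h2]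
      _ = m • ((Abelian.Ext.mk₀ (𝟙 X)).comp x (zero_add n)) := rfl
      _ = m • x := by rw [Abelian.Ext.mk₀_id_comp]
  rw [← h1, hm, Abelian.Ext.mk₀_zero, Abelian.Ext.zero_comp]

open AlgebraicGeometry MonObj Opposite

section pts

universe u'

variable {S : Scheme.{u'}} (K : Precoverage Scheme.{u'}) [(QuotSh.J K S).Subcanonical]
  (G : Over S) [GrpObj G] [IsCommMonObj G]

theorem nsmul_id_app (k : ℕ) (T : (Over S)ᵒᵖ) (x : (CGrpSh.pts K G).obj.obj T) :
    ((k • 𝟙 (CGrpSh.pts K G)).hom.app T) x = k • x := by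
  induction k with
  | zero =>
    rw [zero_nsmul, zero_nsmul]
    rfl
  | succ k ih =>
    rw [succ_nsmul, succ_nsmul, ← ih]
    rfl

theorem nsmul_id_pts_eq_zero (m : ℕ) (h : (𝟙 G : G ⟶ G) ^ m = 1) :
    m • 𝟙 (CGrpSh.pts K G) = 0 := by
  apply Sheaf.hom_ext
  apply NatTrans.ext
  funext T
  apply AddCommGrpCat.ext
  intro x
  rw [nsmul_id_app]
  apply ULift.ext
  change m • x.down = 0
  have h1 : (x.down.toMul : unop T ⟶ G) ^ m = 1 := by
    have := MonObj.comp_pow (𝟙 G : G ⟶ G) m (x.down.toMul : unop T ⟶ G)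
    rw [Category.comp_id, h, MonObj.comp_one] at this
    exact this.symm
  exact congrArg Additive.ofMul h1

end pts

end Groth.Agent.Lib.Helper26.ExtKill
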