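import Mathlib
import Groth.Agent.Lib.Helper26.ExtVanB

set_option autoImplicit false
set_option maxHeartbeats 400000
set_option linter.style.haveILetI false
set_option linter.unusedSectionVars false
universe u
open CategoryTheory CategoryTheory.Limits AlgebraicGeometry Opposite TopologicalSpace
open DerivedCategory Pretriangulated

attribute [local instance] HasDerivedCategory.standard

namespace Groth.Agent.Lib.Helper26.ExtVanC

open Groth.Agent.Lib.Helper26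

variable {X : Scheme.{u}}

/-- the vanishing property used in the dévissage -/
def S (F : X.Modules) (N : ℤ) (Y : DCoh.D X) : Prop :=
  ∀ n : ℤ, N ≤ n → ∀ φ : DCoh.inD X F ⟶ Y⟦n⟧, φ = 0

theorem S_iso (F : X.Modules) (N : ℤ) (Y Z : DCoh.D X) (e : Y ≅ Z) (h : S F N Y) : S F N Z := by
  intro n hn φ
  have := h n hn (φ ≫ ((shiftFunctor (DCoh.D X) n).mapIso e).inv)
  have h2 : φ = (φ ≫ ((shiftFunctor (DCoh.D X) n).mapIso e).inv) ≫
      ((shiftFunctor (DCoh.D X) n).mapIso e).hom := by simp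
  rw [h2, this, zero_comp]

theorem S_zero (F : X.Modules) (N : ℤ) (Y : DCoh.D X) (h : IsZero Y) : S F N Y := by
  intro n hn φ
  exact ((shiftFunctor (DCoh.D X) n).map_isZero h).eq_of_tgt _ _

theorem S_ext (F : X.Modules) (N : ℤ) (T : Triangle (DCoh.D X)) (hT : T ∈ distTriang (DCoh.D X))
    (h1 : S F N T.obj₁) (h3 : S F N T.obj₃) : S F N T.obj₂ := by
  intro n hn φ
  have hT' := Triangle.shift_distinguished T hT n
  obtain ⟨ψ, hψ⟩ := Pretriangulated.Triangle.coyoneda_exact₂ _ hT' φ (h3 n hn _)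
  have hψ0 : ψ = 0 := h1 n hn ψ
  rw [hψ, hψ0]
  exact zero_comp

theorem S_single (d : ℕ) (hd : ∀ (F G : X.Modules), FlatMod.IsFinLocFree F → Coh.IsQCoh G →
      ∀ p : ℕ, d ≤ p → ∀ φ : DCoh.inD X F ⟶ (DCoh.inD X G)⟦(p : ℤ)⟧, φ = 0)
    (F : X.Modules) (hF : FlatMod.IsFinLocFree F) (G : X.Modules) (hG : Coh.IsQCoh G)
    (b j : ℤ) (hj : j ≤ b) : S F ((d : ℤ) + b) ((singleFunctor X.Modules j).obj G) := by
  intro n hn φ
  obtain ⟨p, hp⟩ : ∃ p : ℕ, (p : ℤ) = n - j := ⟨(n - j).toNat, Int.toNat_of_nonneg (by omega)⟩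
  let ι : ((singleFunctor X.Modules j).obj G)⟦n⟧ ≅ (DCoh.inD X G)⟦(p : ℤ)⟧ :=
    ((singleFunctors X.Modules).shiftIso n (j - n) j (by omega)).app G ≪≫
      (((singleFunctors X.Modules).shiftIso (p : ℤ) (j - n) 0 (by omega)).app G).symm
  have := hd F G hF hG p (by omega) (φ ≫ ι.hom)
  have h2 : φ = (φ ≫ ι.hom) ≫ ι.inv := by simp
  rw [h2, this, zero_comp]

theorem main (X : Scheme.{u}) [CompactSpace ↥X] [QuasiSeparatedSpace ↥X]
    (E : DCoh.D X) (hE : DCoh.IsQCohD E) (a b : ℤ) [E.IsGE a] [E.IsLE b] :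
    ∃ n₀ : ℤ, 0 < n₀ ∧ ∀ (F : X.Modules), FlatMod.IsFinLocFree F → ∀ n : ℤ, n₀ ≤ n →
      ∀ φ : DCoh.inD X F ⟶ E⟦n⟧, φ = 0 := by
  obtain ⟨d, hd⟩ := ExtVanB.single_case X
  refine ⟨max 1 ((d : ℤ) + b), by omega, fun F hF n hn φ => ?_⟩
  suffices h : S F ((d : ℤ) + b) E from h n (le_trans (le_max_right _ _) hn) φ
  by_cases hab : b + 1 < a
  · exact S_zero F _ E ((TStructure.t (C := X.Modules)).isZero E b a (by omega))
  · obtain ⟨k, hk⟩ : ∃ k : ℕ, b + 1 = a + k :=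
      ⟨(b + 1 - a).toNat, by rw [Int.toNat_of_nonneg (by omega)]; omega⟩
    refine Groth.Agent.Lib.Helper16.DerT.bounded_induction (S F ((d : ℤ) + b))
      (fun Y Z e h => S_iso F _ Y Z e h) (fun Y h => S_zero F _ Y h)
      (fun T hT h1 h3 => S_ext F _ T hT h1 h3) k a b hk E ?_
    intro j hj1 hj2
    exact S_single d hd F hF _ (hE j) b j hj2

end Groth.Agent.Lib.Helper26.ExtVanC
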