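import Mathlib
import Groth.Agent.Lib.Helper26.MVMod3

set_option maxHeartbeats 400000
set_option linter.style.haveILetI false
set_option linter.unusedSectionVars false

universe w v v' u u'

open CategoryTheory CategoryTheory.Limits

namespace Groth.Agent.Lib.Helper26.FunSESTri

open Pretriangulated

variable {A : Type u} [Category.{v} A] [Abelian A] {B : Type u'} [Category.{v'} B] [Abelian B]
  {F₁ F₂ F₂' F₃ : A ⥤ B} [F₁.Additive] [F₂.Additive] [F₂'.Additive] [F₃.Additive]
  (a : F₁ ⟶ F₂) (a' : F₁ ⟶ F₂') (b : F₂ ⟶ F₃) (b' : F₂' ⟶ F₃)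
  (hw : ∀ M : A, biprod.lift (a.app M) (a'.app M) ≫ biprod.desc (b.app M) (-b'.app M) = 0)
  (hS : ∀ M : A, (ShortComplex.mk _ _ (hw M)).ShortExact)
  (K : CochainComplex A ℤ)

include hw in
lemma sq_app (M : A) : a.app M ≫ b.app M = a'.app M ≫ b'.app M := by
  have := hw M
  rw [biprod.lift_desc, Preadditive.comp_neg, ← sub_eq_add_neg, sub_eq_zero] at this
  exact this

include hw in
lemma sqC : (NatTrans.mapHomologicalComplex a (ComplexShape.up ℤ)).app K ≫
      (NatTrans.mapHomologicalComplex b (ComplexShape.up ℤ)).app K =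
    (NatTrans.mapHomologicalComplex a' (ComplexShape.up ℤ)).app K ≫
      (NatTrans.mapHomologicalComplex b' (ComplexShape.up ℤ)).app K := by
  refine HomologicalComplex.hom_ext _ _ (fun n => ?_)
  exact sq_app a a' b b' hw (K.X n)

/-- the complex-level short complex -/
noncomputable def SC : ShortComplex (CochainComplex B ℤ) :=
  ShortComplex.mk
    (biprod.lift ((NatTrans.mapHomologicalComplex a (ComplexShape.up ℤ)).app K)
      ((NatTrans.mapHomologicalComplex a' (ComplexShape.up ℤ)).app K))
    (biprod.desc ((NatTrans.mapHomologicalComplex b (ComplexShape.up ℤ)).app K)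
      (-(NatTrans.mapHomologicalComplex b' (ComplexShape.up ℤ)).app K)) (by
    rw [biprod.lift_desc, Preadditive.comp_neg, sqC a a' b b' hw K, add_neg_cancel])

/-- degreewise the complex-level short complex is the object-level one -/
noncomputable def SCIso (n : ℤ) :
    (SC a a' b b' hw K).map (HomologicalComplex.eval _ _ n) ≅
      ShortComplex.mk _ _ (hw (K.X n)) :=
  ShortComplex.isoMk (Iso.refl _) ((HomologicalComplex.eval _ _ n).mapBiprod _ _) (Iso.refl _)
    (by
      change 𝟙 _ ≫ biprod.lift (a.app (K.X n)) (a'.app (K.X n)) =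
        (HomologicalComplex.eval _ _ n).map
          (biprod.lift ((NatTrans.mapHomologicalComplex a (ComplexShape.up ℤ)).app K)
            ((NatTrans.mapHomologicalComplex a' (ComplexShape.up ℤ)).app K)) ≫
          ((HomologicalComplex.eval _ _ n).mapBiprod _ _).hom
      rw [Category.id_comp, ← biprod.lift_mapBiprod, Category.assoc, Iso.inv_hom_id,
        Category.comp_id]
      rfl)
    (by
      change ((HomologicalComplex.eval _ _ n).mapBiprod _ _).hom ≫
          biprod.desc (b.app (K.X n)) (-b'.app (K.X n)) =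
        (HomologicalComplex.eval _ _ n).map
          (biprod.desc ((NatTrans.mapHomologicalComplex b (ComplexShape.up ℤ)).app K)
            (-(NatTrans.mapHomologicalComplex b' (ComplexShape.up ℤ)).app K)) ≫ 𝟙 _
      rw [Category.comp_id, ← biprod.mapBiprod_hom_desc]
      rfl)

include hS in
lemma SC_shortExact : (SC a a' b b' hw K).ShortExact :=
  HomologicalComplex.shortExact_of_degreewise_shortExact _ (fun n =>
    ShortComplex.shortExact_of_iso (SCIso a a' b b' hw K n).symm (hS (K.X n)))

variable [HasDerivedCategory.{w} B]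

include hS in
theorem exists_triangle :
    ∃ (α : DerivedCategory.Q.obj ((F₁.mapHomologicalComplex (ComplexShape.up ℤ)).obj K) ⟶
        DerivedCategory.Q.obj ((F₂.mapHomologicalComplex (ComplexShape.up ℤ)).obj K) ⊞
        DerivedCategory.Q.obj ((F₂'.mapHomologicalComplex (ComplexShape.up ℤ)).obj K))
      (β : DerivedCategory.Q.obj ((F₂.mapHomologicalComplex (ComplexShape.up ℤ)).obj K) ⊞
        DerivedCategory.Q.obj ((F₂'.mapHomologicalComplex (ComplexShape.up ℤ)).obj K) ⟶
        DerivedCategory.Q.obj ((F₃.mapHomologicalComplex (ComplexShape.up ℤ)).obj K))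
      (γ : DerivedCategory.Q.obj ((F₃.mapHomologicalComplex (ComplexShape.up ℤ)).obj K) ⟶
        (DerivedCategory.Q.obj ((F₁.mapHomologicalComplex (ComplexShape.up ℤ)).obj K))⟦(1 : ℤ)⟧),
      Triangle.mk α β γ ∈ distTriang (DerivedCategory B) := by
  have h := SC_shortExact a a' b b' hw hS K
  have := preservesBinaryBiproducts_of_preservesBiproducts
    (DerivedCategory.Q (C := B))
  exact Groth.Agent.Lib.Helper26.MVMod3.exists_of_isos _
    (DerivedCategory.triangleOfSES_distinguished h) (Iso.refl _)
    ((DerivedCategory.Q (C := B)).mapBiprod _ _) (Iso.refl _)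

end Groth.Agent.Lib.Helper26.FunSESTri
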