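import Mathlib
import Groth.Prelude.Def_CxOX
import Groth.Prelude.Def_DCoh3
import Groth.Agent.Lib.Helper26.MVMod2
import Groth.Agent.Lib.Helper26.MVMod4
import Groth.Agent.Lib.Helper26.ConjSES
import Groth.Agent.Lib.Helper26.FunSESTri

set_option maxHeartbeats 400000
set_option linter.style.haveILetI false
set_option linter.unusedSectionVars false

universe u

open CategoryTheory CategoryTheory.Limits AlgebraicGeometry

namespace Groth.Agent.Lib.Helper26.ExtZeroMV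

open Scheme.Modules Groth.Agent.Lib.Helper26.MVMod1 Groth.Agent.Lib.Helper26.MVMod2
open Pretriangulated

attribute [local instance] HasDerivedCategory.standard

variable {X : Scheme.{u}}

/-- `j_! j^*` -/
noncomputable abbrev L (O : X.Opens) : X.Modules ⥤ X.Modules :=
  restrictFunctor O.ι ⋙ CxOX.extZero O.ι

/-- `j_! j^* ⊣ j_* j^*` -/
noncomputable def adjL (O : X.Opens) : L O ⊣ A O :=
  (restrictAdjunction O.ι).comp (CxOX.extZeroAdj O.ι)

variable (U V : X.Opens) (hUV : U ⊔ V = ⊤)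

/-- `j_{W!} ⟶ j_{U!}` -/
noncomputable def a₁ : L (U ⊓ V) ⟶ L U :=
  Groth.Agent.Lib.Helper26.ConjSES.q₁ (adjL U) (adjL (U ⊓ V)) (ρ (inf_le_left : U ⊓ V ≤ U))
/-- `j_{W!} ⟶ j_{V!}` -/
noncomputable def a₂ : L (U ⊓ V) ⟶ L V :=
  Groth.Agent.Lib.Helper26.ConjSES.q₂ (adjL V) (adjL (U ⊓ V)) (ρ (inf_le_right : U ⊓ V ≤ V))
/-- `j_{U!} ⟶ id` -/
noncomputable def b₁ : L U ⟶ 𝟭 X.Modules :=
  Groth.Agent.Lib.Helper26.ConjSES.c₁ Adjunction.id (adjL U) (η U)
/-- `j_{V!} ⟶ id` -/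
noncomputable def b₂ : L V ⟶ 𝟭 X.Modules :=
  Groth.Agent.Lib.Helper26.ConjSES.c₂ Adjunction.id (adjL V) (η V)

include hUV in
lemma hw (M : X.Modules) :
    biprod.lift ((a₁ U V).app M) ((a₂ U V).app M) ≫
      biprod.desc ((b₁ U).app M) (-(b₂ V).app M) = 0 :=
  Groth.Agent.Lib.Helper26.ConjSES.w Adjunction.id (adjL U) (adjL V) (adjL (U ⊓ V))
    (η U) (η V) (ρ inf_le_left) (ρ inf_le_right) (isPullback U V hUV) M

include hUV in
lemma hS (M : X.Modules) : (ShortComplex.mk _ _ (hw U V hUV M)).ShortExact :=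
  Groth.Agent.Lib.Helper26.ConjSES.shortExact Adjunction.id (adjL U) (adjL V) (adjL (U ⊓ V))
    (η U) (η V) (ρ inf_le_left) (ρ inf_le_right) (isPullback U V hUV)
    (fun N hN => by
      have : Injective (SM U V N).X₁ := hN
      exact ⟨_, (SM_shortExact U V hUV N).splittingOfInjective.s_g⟩) M


/-- identification of the terms -/
noncomputable def termIsoL (O : X.Opens) [PreservesFiniteLimits (CxOX.extZero O.ι)]
    (K : CochainComplex X.Modules ℤ) {E : DCoh.D X} (e : DerivedCategory.Q.obj K ≅ E) :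
    DerivedCategory.Q.obj (((L O).mapHomologicalComplex (ComplexShape.up ℤ)).obj K) ≅
      (CxOX.extZeroD O.ι).obj ((DCoh.restrictD O.ι).obj E) :=
  DerivedCategory.Q.mapIso
      ((Functor.mapHomologicalComplexCompIso (Iso.refl (L O)) (ComplexShape.up ℤ)).symm.app K) ≪≫
    ((CxOX.extZero O.ι).mapDerivedCategoryFactors.app _).symm ≪≫
    (CxOX.extZeroD O.ι).mapIso
      (((restrictFunctor O.ι).mapDerivedCategoryFactors.app K).symm ≪≫
        (DCoh.restrictD O.ι).mapIso e)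

include hUV in
theorem main [PreservesFiniteLimits (CxOX.extZero U.ι)] [PreservesFiniteLimits (CxOX.extZero V.ι)]
    [PreservesFiniteLimits (CxOX.extZero (U ⊓ V).ι)] (E : DCoh.D X) :
    ∃ (a : (CxOX.extZeroD (U ⊓ V).ι).obj ((DCoh.restrictD (U ⊓ V).ι).obj E) ⟶
        ((CxOX.extZeroD U.ι).obj ((DCoh.restrictD U.ι).obj E) ⊞
          (CxOX.extZeroD V.ι).obj ((DCoh.restrictD V.ι).obj E)))
      (b : ((CxOX.extZeroD U.ι).obj ((DCoh.restrictD U.ι).obj E) ⊞
          (CxOX.extZeroD V.ι).obj ((DCoh.restrictD V.ι).obj E)) ⟶ E)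
      (c : E ⟶ ((CxOX.extZeroD (U ⊓ V).ι).obj ((DCoh.restrictD (U ⊓ V).ι).obj E))⟦(1 : ℤ)⟧),
      Triangle.mk a b c ∈ distTriang (DCoh.D X) := by
  let K := DerivedCategory.Q.objPreimage E
  let e : DerivedCategory.Q.obj K ≅ E := DerivedCategory.Q.objObjPreimageIso E
  obtain ⟨α, β, γ, hT⟩ := Groth.Agent.Lib.Helper26.FunSESTri.exists_triangle
    (a₁ U V) (a₂ U V) (b₁ U) (b₂ V) (hw U V hUV) (hS U V hUV) K
  exact Groth.Agent.Lib.Helper26.MVMod3.exists_of_isos _ hT (termIsoL (U ⊓ V) K e)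
    (biprod.mapIso (termIsoL U K e) (termIsoL V K e))
    (DerivedCategory.Q.mapIso
      ((Functor.mapHomologicalComplexIdIso X.Modules (ComplexShape.up ℤ)).app K) ≪≫ e)

end Groth.Agent.Lib.Helper26.ExtZeroMV
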