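import Mathlib

set_option maxHeartbeats 400000
set_option linter.style.haveILetI false
set_option linter.unusedSectionVars false

universe w w' v v' u u'

open CategoryTheory CategoryTheory.Limits

namespace Groth.Agent.Lib.Helper26.FDim8

lemma enoughInjectives (A : Type u) [Category.{v} A] [Abelian A] [HasInjectiveResolutions A] :
    EnoughInjectives A :=
  ⟨fun X => ⟨{ J := (injectiveResolution X).cocomplex.X 0
               injective := inferInstance
               f := (injectiveResolution X).ι.f 0
               mono := by
                 have h : Mono ((injectiveResolution X).ι.f 0) := inferInstance
                 exact h }⟩⟩

end Groth.Agent.Lib.Helper26.FDim8
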