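import Mathlib

/-!
# The functional equation `F(S)F(T) - a₀² = F(S+T+μST) - a₀` versus the ODE `a₁ F = F' (1 + μ S)`
-/

namespace Groth.Agent.Lib.Helper26.FGroupODE

set_option maxHeartbeats 400000

universe u

open Polynomial

/-- uniqueness for the ODE `(1 + ν X) h' = b h`, `h(0) = 0`, in degree `< p` when `(p-1)!` is a unit -/
lemma ode_unique {B : Type u} [CommRing B] (p : ℕ)
    (hu : IsUnit ((Nat.factorial (p - 1) : ℕ) : B))
    (ν b : B) (h : B[X]) (hdeg : h.natDegree < p) (h0 : h.coeff 0 = 0)
    (hode : (1 + C ν * X) * derivative h = C b * h) : h = 0 := by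
  have hunit : ∀ n, n + 1 < p → IsUnit ((n + 1 : ℕ) : B) := by
    intro n hn
    have hdvd : (n + 1) ∣ (p - 1).factorial := Nat.dvd_factorial (Nat.succ_pos n) (by omega)
    obtain ⟨k, hk⟩ := hdvd
    rw [hk, Nat.cast_mul] at hu
    exact isUnit_of_mul_isUnit_left hu
  have hcoef : ∀ n, h.coeff n = 0 := by
    intro n
    induction n with
    | zero => exact h0
    | succ n ih =>
      by_cases hn : n + 1 < p
      · have h1 : ((1 + C ν * X) * derivative h).coeff n = (C b * h).coeff n := by rw [hode]
        rw [add_mul, one_mul, coeff_add, coeff_derivative, mul_assoc, coeff_C_mul, coeff_C_mul,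
          ih, mul_zero] at h1
        have h2 : (X * derivative h).coeff n = 0 := by
          cases n with
          | zero => exact coeff_X_mul_zero _
          | succ m =>
            rw [coeff_X_mul, coeff_derivative, ih, zero_mul]
        rw [h2, mul_zero, add_zero] at h1
        have h3 := hunit n hn
        rw [Nat.cast_succ] at h3
        exact (h3.mul_left_eq_zero).1 h1
      · exact coeff_eq_zero_of_natDegree_lt (by omega)
  ext n
  rw [hcoef n, coeff_zero]

variable {A : Type u} [CommRing A]

/-- `u = S + T + μ S T` in `A[S][T]` with `S = C X`, `T = X` -/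
noncomputable def uu (μ : A) : A[X][X] := C X + X + C (C μ) * C X * X

/-- difference of the two sides of the functional equation, in `A[S][T]` -/
noncomputable def HH (μ : A) (F : A[X]) : A[X][X] :=
  C F * F.map C - C (C (F.coeff 0 ^ 2)) - ((F.map C).comp (uu μ) - C (C (F.coeff 0)))

lemma natDegree_uu_le (μ : A) : (uu μ).natDegree ≤ 1 := by
  have : uu μ = C (1 + C μ * X) * X + C X := by
    rw [uu]; simp only [map_add, map_mul, map_one]; ring
  rw [this]
  exact natDegree_linear_le

lemma coeff10 (μ : A) (F : A[X])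
    (hode : F * C (F.coeff 1) = derivative F * (1 + C μ * X)) :
    F.coeff 0 * F.coeff 1 = F.coeff 1 := by
  have h1 := congrArg (fun q => q.coeff 0) hode
  simp only [mul_coeff_zero, coeff_C_zero, coeff_derivative, coeff_add, coeff_one_zero,
    coeff_X_zero, mul_zero, add_zero, mul_one, Nat.cast_zero, zero_add] at h1
  exact h1

theorem HH_eq_zero (p : ℕ) (hu : IsUnit ((Nat.factorial (p - 1) : ℕ) : A)) (μ : A) (F : A[X])
    (hF : F.natDegree < p)
    (hode : F * C (F.coeff 1) = derivative F * (1 + C μ * X)) : HH μ F = 0 := by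
  have hu' : IsUnit ((Nat.factorial (p - 1) : ℕ) : A[X]) := by
    have := hu.map (C : A →+* A[X])
    rwa [map_natCast] at this
  have h10 := coeff10 μ F hode
  have hp : 0 < p := by omega
  -- Step 1
  have hK : F * C (F.coeff 0 - 1) - C (F.coeff 0 * (F.coeff 0 - 1)) = 0 := by
    apply ode_unique p hu μ 0
    · refine lt_of_le_of_lt (natDegree_sub_le _ _) ?_
      rw [natDegree_C]
      exact max_lt (lt_of_le_of_lt (natDegree_mul_C_le _ _) hF) hp
    · rw [coeff_sub, coeff_mul_C, coeff_C_zero, sub_self]
    · rw [derivative_sub, derivative_C, sub_zero, derivative_mul, derivative_C, mul_zero,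
        add_zero, map_zero, zero_mul]
      have : C (F.coeff 1) * C (F.coeff 0 - 1) = (0 : A[X]) := by
        rw [← map_mul, mul_sub, mul_one, mul_comm, h10, sub_self, map_zero]
      linear_combination (-C (F.coeff 0 - 1)) * hode + F * this
  -- Step 2
  apply ode_unique p hu' (C μ) (C (F.coeff 1))
  · -- degree
    rw [HH]
    refine lt_of_le_of_lt (natDegree_sub_le _ _) (max_lt ?_ ?_)
    · refine lt_of_le_of_lt (natDegree_sub_le _ _) (max_lt ?_ ?_)
      · exact lt_of_le_of_lt (natDegree_C_mul_le _ _) (lt_of_le_of_lt natDegree_map_le hF)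
      · rw [natDegree_C]; exact hp
    · refine lt_of_le_of_lt (natDegree_sub_le _ _) (max_lt ?_ ?_)
      · refine lt_of_le_of_lt natDegree_comp_le ?_
        calc (F.map C).natDegree * (uu μ).natDegree ≤ F.natDegree * 1 :=
              Nat.mul_le_mul natDegree_map_le (natDegree_uu_le μ)
          _ < p := by rw [mul_one]; exact hF
      · rw [natDegree_C]; exact hp
  · -- value at zero
    rw [coeff_zero_eq_eval_zero, HH]
    have e1 : eval 0 (F.map C) = C (F.coeff 0) := by
      rw [eval_zero_map, ← coeff_zero_eq_eval_zero]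
    have e2 : eval 0 (uu μ) = X := by
      simp [uu]
    have e3 : eval X (F.map C) = F := by
      rw [eval_map, eval₂_C_X]
    rw [eval_sub, eval_sub, eval_sub, eval_mul, eval_C, eval_C, eval_C, eval_comp, e1, e2, e3]
    rw [map_pow]
    have := hK
    rw [map_mul, map_sub, map_one] at this
    linear_combination this
  · -- the ODE
    have hT : F.map C * C (C (F.coeff 1)) = (derivative F).map C * (1 + C (C μ) * X) := by
      have := congrArg (Polynomial.map (C : A →+* A[X])) hode
      simpa only [Polynomial.map_mul, Polynomial.map_add, Polynomial.map_one, map_C, map_X]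
        using this
    have hU : (F.map C).comp (uu μ) * C (C (F.coeff 1)) =
        ((derivative F).map C).comp (uu μ) * (1 + C (C μ) * uu μ) := by
      have := congrArg (fun q => q.comp (uu μ)) hT
      simpa only [mul_comp, add_comp, one_comp, C_comp, X_comp] using this
    have h10' : (C (C (F.coeff 0)) : A[X][X]) * C (C (F.coeff 1)) = C (C (F.coeff 1)) := by
      rw [← map_mul, ← map_mul, h10]
    have hder : derivative (HH μ F) = C F * (derivative F).map C -
        ((derivative F).map C).comp (uu μ) * (1 + C (C μ) * C X) := by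
      rw [HH, uu]
      simp only [derivative_sub, derivative_mul, derivative_C, derivative_map, derivative_comp,
        derivative_add, derivative_X, zero_mul, mul_zero, zero_add, add_zero, sub_zero, mul_one]
      ring
    rw [hder]
    rw [uu] at hU
    rw [HH, uu]
    simp only [map_pow]
    linear_combination (-(C F)) * hT + hU + C (C (F.coeff 0)) * h10'

/-- the transfer map `A[S][T] → A[x₀,x₁]` -/
noncomputable def psi : A[X][X] →+* MvPolynomial (Fin 2) A :=
  Polynomial.eval₂RingHom
    (Polynomial.aeval (MvPolynomial.X 0 : MvPolynomial (Fin 2) A)).toRingHom (MvPolynomial.X 1)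

lemma psi_comp_C : ((Polynomial.aeval (MvPolynomial.X 0 : MvPolynomial (Fin 2) A)).toRingHom).comp
    (C : A →+* A[X]) = algebraMap A (MvPolynomial (Fin 2) A) := by
  ext a
  simp

lemma psi_C (G : A[X]) : psi (C G) = Polynomial.aeval (MvPolynomial.X 0) G := by
  simp [psi]

lemma psi_CC (a : A) : psi (C (C a)) = MvPolynomial.C a := by
  rw [psi_C, aeval_C]; rfl

lemma psi_X : psi (X : A[X][X]) = MvPolynomial.X 1 := by
  simp [psi]

lemma psi_map (G : A[X]) : psi (G.map C) = Polynomial.aeval (MvPolynomial.X 1) G := by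
  rw [psi, coe_eval₂RingHom, eval₂_map, psi_comp_C, aeval_def]

lemma psi_uu (μ : A) : psi (uu μ) =
    MvPolynomial.X 0 + MvPolynomial.X 1 + MvPolynomial.C μ * MvPolynomial.X 0 * MvPolynomial.X 1 := by
  rw [uu, map_add, map_add, map_mul, map_mul, psi_CC, psi_X, psi_C, aeval_X]

lemma psi_comp (G : A[X]) (μ : A) : psi ((G.map C).comp (uu μ)) =
    Polynomial.aeval (MvPolynomial.X 0 + MvPolynomial.X 1 +
      MvPolynomial.C μ * MvPolynomial.X 0 * MvPolynomial.X 1 : MvPolynomial (Fin 2) A) G := by
  rw [← psi_uu]
  conv_lhs => rw [psi, coe_eval₂RingHom, eval₂_comp, eval₂_map, psi_comp_C]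
  rw [aeval_def]
  rfl

theorem main (p : ℕ) [Fact p.Prime]
    (hu : IsUnit ((Nat.factorial (p - 1) : ℕ) : A)) (μ : A) (F : A[X]) (hF : F.natDegree < p) :
    (Polynomial.aeval (MvPolynomial.X 0 : MvPolynomial (Fin 2) A) F *
          Polynomial.aeval (MvPolynomial.X 1 : MvPolynomial (Fin 2) A) F -
            MvPolynomial.C (F.coeff 0 ^ 2) =
        Polynomial.aeval (MvPolynomial.X 0 + MvPolynomial.X 1 +
            MvPolynomial.C μ * MvPolynomial.X 0 * MvPolynomial.X 1 : MvPolynomial (Fin 2) A) F -
          MvPolynomial.C (F.coeff 0)) ↔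
      F * Polynomial.C (F.coeff 1) = Polynomial.derivative F * (1 + Polynomial.C μ * Polynomial.X) := by
  constructor
  · intro hid
    have hD := congrArg (MvPolynomial.pderiv (1 : Fin 2)) hid
    have hX0 : MvPolynomial.pderiv (1 : Fin 2) (MvPolynomial.X 0 : MvPolynomial (Fin 2) A) = 0 :=
      MvPolynomial.pderiv_X_of_ne (by decide)
    have hX1 : MvPolynomial.pderiv (1 : Fin 2) (MvPolynomial.X 1 : MvPolynomial (Fin 2) A) = 1 :=
      MvPolynomial.pderiv_X_self 1
    rw [map_sub, map_sub, Derivation.leibniz, Derivation.comp_aeval_eq, Derivation.comp_aeval_eq,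
      Derivation.comp_aeval_eq, MvPolynomial.pderiv_C, MvPolynomial.pderiv_C, hX0, hX1,
      map_add, map_add, Derivation.leibniz, Derivation.leibniz, hX0, hX1,
      MvPolynomial.pderiv_C] at hD
    simp only [smul_eq_mul, smul_zero, mul_zero, zero_mul, add_zero, zero_add, sub_zero,
      mul_one] at hD
    -- apply the evaluation S ↦ X, T ↦ 0
    let ε : MvPolynomial (Fin 2) A →ₐ[A] A[X] := MvPolynomial.aeval ![X, 0]
    have hε := congrArg ε hD
    have e0 : ε (MvPolynomial.X 0) = X := by simp [ε]
    have e1 : ε (MvPolynomial.X 1) = 0 := by simp [ε]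
    have eC : ε (MvPolynomial.C μ) = C μ := by simp [ε]
    simp only [map_mul, map_add, map_one, ← Polynomial.aeval_algHom_apply, e0, e1, eC] at hε
    rw [aeval_X_left_apply, mul_zero, add_zero, add_zero, aeval_X_left_apply,
      ← coeff_zero_eq_aeval_zero', coeff_derivative] at hε
    simp only [Nat.cast_zero, zero_add, mul_one, Polynomial.algebraMap_eq] at hε
    exact hε
  · intro hode
    have h := HH_eq_zero p hu μ F hF hode
    have h2 := congrArg psi h
    rw [HH, map_sub, map_sub, map_sub, map_mul, psi_C, psi_map, psi_CC, psi_CC, psi_comp,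
      map_zero] at h2
    exact sub_eq_zero.1 h2

end Groth.Agent.Lib.Helper26.FGroupODE
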