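import Mathlib

set_option autoImplicit false
set_option maxHeartbeats 400000
set_option linter.style.haveILetI false
set_option linter.unusedSectionVars false
universe u
open CategoryTheory CategoryTheory.Limits MonoidalCategory TensorProduct

namespace Groth.Agent.Lib.Helper26.RingFlat

section Algebra

variable {A B : Type u} [CommRing A] [CommRing B] [Algebra A B]
  (L : Type u) [AddCommGroup L] [Module B L] [Module A L] [IsScalarTower A B L]

/-- `(B ⊗_A N) ⊗_B L ≃ L ⊗_A N` -/
noncomputable def cEquiv (N : Type u) [AddCommGroup N] [Module A N] :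
    (B ⊗[A] N) ⊗[B] L ≃ₗ[B] L ⊗[A] N :=
  (TensorProduct.comm B (B ⊗[A] N) L) ≪≫ₗ
    TensorProduct.AlgebraTensorModule.cancelBaseChange A B B L N

lemma cEquiv_tmul (N : Type u) [AddCommGroup N] [Module A N] (b : B) (n : N) (l : L) :
    cEquiv L N ((b ⊗ₜ[A] n) ⊗ₜ[B] l) = (b • l) ⊗ₜ[A] n := rfl

lemma cEquiv_natural {N N' : Type u} [AddCommGroup N] [Module A N] [AddCommGroup N'] [Module A N']
    (f : N →ₗ[A] N') (x : (B ⊗[A] N) ⊗[B] L) :
    cEquiv L N' ((f.baseChange B).rTensor L x) = f.lTensor L (cEquiv L N x) := by
  induction x using TensorProduct.induction_on with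
  | zero => simp
  | add x y hx hy => simp only [map_add, hx, hy]
  | tmul y l =>
    induction y using TensorProduct.induction_on with
    | zero => simp
    | add y z hy hz => simp only [TensorProduct.add_tmul, map_add, hy, hz]
    | tmul b n =>
      simp only [LinearMap.rTensor_tmul, LinearMap.baseChange_tmul, cEquiv_tmul,
        LinearMap.lTensor_tmul]

lemma injective_rTensor_baseChange [Module.Flat A L] {N N' : Type u} [AddCommGroup N] [Module A N]
    [AddCommGroup N'] [Module A N'] (f : N →ₗ[A] N') (hf : Function.Injective f) :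
    Function.Injective ((f.baseChange B).rTensor L) := by
  have h1 : Function.Injective (f.lTensor L) :=
    Module.Flat.lTensor_preserves_injective_linearMap f hf
  intro x y hxy
  apply (cEquiv L N).injective
  apply h1
  rw [← cEquiv_natural, ← cEquiv_natural, hxy]

lemma surjective_rTensor_baseChange {N N' : Type u} [AddCommGroup N] [Module A N]
    [AddCommGroup N'] [Module A N'] (f : N →ₗ[A] N') (hf : Function.Surjective f) :
    Function.Surjective ((f.baseChange B).rTensor L) := by
  apply LinearMap.rTensor_surjective
  exact LinearMap.lTensor_surjective B hf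

lemma exact_rTensor_baseChange {N₁ N₂ N₃ : Type u} [AddCommGroup N₁] [Module A N₁]
    [AddCommGroup N₂] [Module A N₂] [AddCommGroup N₃] [Module A N₃]
    (f : N₁ →ₗ[A] N₂) (g : N₂ →ₗ[A] N₃) (hfg : Function.Exact f g) (hg : Function.Surjective g) :
    Function.Exact ((f.baseChange B).rTensor L) ((g.baseChange B).rTensor L) := by
  apply rTensor_exact L
  · exact lTensor_exact B hfg hg
  · exact LinearMap.lTensor_surjective B hg

end Algebra

end Groth.Agent.Lib.Helper26.RingFlat

namespace Groth.Agent.Lib.Helper26.RingFlat

section Cat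

variable {A B : Type u} [CommRing A] [CommRing B] (φ : A →+* B) (L : ModuleCat.{u} B)

/-- the functor `N ↦ (B ⊗_A N) ⊗_B L` -/
noncomputable abbrev Φ : ModuleCat.{u} A ⥤ ModuleCat.{u} B :=
  ModuleCat.extendScalars φ ⋙ tensorRight L

theorem shortExact_map (hflat : letI := Module.compHom L φ; Module.Flat A L)
    (T : ShortComplex (ModuleCat.{u} A)) (hT : T.ShortExact) :
    (T.map (Φ φ L)).ShortExact := by
  letI : Algebra A B := φ.toAlgebra
  letI : Module A L := Module.compHom L φ
  haveI : IsScalarTower A B L := IsScalarTower.of_algebraMap_smul (fun r m => rfl)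
  haveI : Module.Flat A L := hflat
  have hf : Function.Injective T.f.hom := (ModuleCat.mono_iff_injective _).1 hT.mono_f
  have hg : Function.Surjective T.g.hom := (ModuleCat.epi_iff_surjective _).1 hT.epi_g
  have hfg : Function.Exact T.f.hom T.g.hom :=
    (ShortComplex.ShortExact.moduleCat_exact_iff_function_exact T).1 hT.exact
  have e1 : ∀ {N N' : ModuleCat.{u} A} (f : N ⟶ N'),
      ⇑((Φ φ L).map f).hom = ⇑((f.hom.baseChange B).rTensor L) := fun f => rfl
  have hmono : Mono (T.map (Φ φ L)).f := by
    rw [ModuleCat.mono_iff_injective]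
    change Function.Injective ((Φ φ L).map T.f).hom
    rw [e1]
    exact injective_rTensor_baseChange L T.f.hom hf
  have hepi : Epi (T.map (Φ φ L)).g := by
    rw [ModuleCat.epi_iff_surjective]
    change Function.Surjective ((Φ φ L).map T.g).hom
    rw [e1]
    exact surjective_rTensor_baseChange L T.g.hom hg
  refine ShortComplex.ShortExact.mk' ?_ hmono hepi
  rw [ShortComplex.ShortExact.moduleCat_exact_iff_function_exact]
  change Function.Exact ((Φ φ L).map T.f).hom ((Φ φ L).map T.g).hom
  rw [e1, e1]
  exact exact_rTensor_baseChange L T.f.hom T.g.hom hfg hg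

end Cat

end Groth.Agent.Lib.Helper26.RingFlat
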