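import Mathlib
import Groth.Prelude.Def_DDual2
import Groth.Prelude.Def_FlatMod2
import Groth.Agent.Lib.Helper16.KD4
import Groth.Agent.Lib.Helper16.PB1
import Groth.Agent.Lib.Helper16.Stk7
import Groth.Agent.Lib.Helper26.RingFlat

set_option autoImplicit false
set_option maxHeartbeats 400000
set_option linter.style.haveILetI false
set_option linter.unusedSectionVars false
universe u
open CategoryTheory CategoryTheory.Limits AlgebraicGeometry MonoidalCategory

namespace Groth.Agent.Lib.Helper26.FMExact

open Groth.Agent.Lib.Helper16.Stk Groth.Agent.Lib.Helper16.KD Groth.Agent.Lib.Helper26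

variable {W X : Scheme.{u}} (p : W ⟶ X) (K : W.Modules)

/-- `A ↦ p^* A ⊗ K` -/
noncomputable abbrev G : X.Modules ⥤ W.Modules :=
  Scheme.Modules.pullback p ⋙ DCoh.tensorRightMod K

/-- the stalk of `p^* A ⊗ K` -/
noncomputable def GStkIso (z : W) :
    G p K ⋙ stk z ≅ stk (p z) ⋙ RingFlat.Φ (φs p z) ((stk z).obj K) :=
  Functor.associator _ _ _ ≪≫
    Functor.isoWhiskerLeft (Scheme.Modules.pullback p) (tensorRightModStkIso K z) ≪≫
    (Functor.associator _ _ _).symm ≪≫
    Functor.isoWhiskerRight (pullbackStkIso p z) (tensorRight ((stk z).obj K)) ≪≫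
    Functor.associator _ _ _

theorem shortExact_map_G (hK : FlatMod.IsFlatOver p K) (T : ShortComplex X.Modules)
    (hT : T.ShortExact) : (T.map (G p K)).ShortExact := by
  apply shortExact_of_forall_stalk
  intro z
  have hTx : (T.map (stk (p z))).ShortExact := hT.map_of_exact (stk (p z))
  have h1 := RingFlat.shortExact_map (φs p z) ((stk z).obj K) (hK z) _ hTx
  exact ShortComplex.shortExact_of_iso (ShortComplex.mapNatIso T (GStkIso p K z)).symm h1

end Groth.Agent.Lib.Helper26.FMExact
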