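import Mathlib
import Groth.Prelude.Def_DDual2
import Groth.Prelude.Def_FlatMod2
import Groth.Agent.Lib.Helper16.KD4
import Groth.Agent.Lib.Helper16.PB1
import Groth.Agent.Lib.Helper16.FRes2
import Groth.Agent.Lib.Helper26.FMExact

set_option autoImplicit false
set_option maxHeartbeats 400000
set_option linter.style.haveILetI false
set_option linter.unusedSectionVars false
universe u
open CategoryTheory CategoryTheory.Limits AlgebraicGeometry MonoidalCategory

attribute [local instance] HasDerivedCategory.standard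

namespace Groth.Agent.Lib.Helper26.FMDerived

open Groth.Agent.Lib.Helper16.Stk Groth.Agent.Lib.Helper16.KD Groth.Agent.Lib.Helper26
open Groth.Agent.Lib.Helper26.FMExact DerivedCategory

variable {W X : Scheme.{u}} (p : W ⟶ X) (K : W.Modules)

theorem preservesHomology_G (hK : FlatMod.IsFlatOver p K) : (G p K).PreservesHomology :=
  ((Functor.exact_tfae (G p K)).out 0 2).1 (fun T hT => shortExact_map_G p K hK T hT)

variable [DCoh.HasLpull p] [DCoh.HasLTensorMod K]

/-- the Fourier–Mukai type functor `M ↦ Lp^* M ⊗^L K` is computed termwise on a K-flat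
representative -/
theorem exists_iso (M : DCoh.D X) :
    ∃ P : CochainComplex X.Modules ℤ, Nonempty (Q.obj P ≅ M) ∧
      Nonempty ((DCoh.LTensorMod K).obj ((DCoh.Lpull p).obj M) ≅
        Q.obj (((G p K).mapHomologicalComplex (ComplexShape.up ℤ)).obj P)) := by
  obtain ⟨R, ψ, h⟩ := exists_functorial_kFlat_resolution X
  let M' : CochainComplex X.Modules ℤ := Q.objPreimage M
  let e0 : Q.obj M' ≅ M := Q.objObjPreimageIso M
  let P := R.obj M'
  have hP : DCoh.IsKFlat P := (h M').1
  haveI : QuasiIso (ψ.app M') := (h M').2.2.1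
  haveI : IsIso (Q.map (ψ.app M')) := by
    rw [DerivedCategory.isIso_Q_map_iff_quasiIso]; infer_instance
  let e1 : Q.obj P ≅ M := asIso (Q.map (ψ.app M')) ≪≫ e0
  refine ⟨P, ⟨e1⟩, ⟨?_⟩⟩
  have hP' : DCoh.IsKFlat ((pullCx p).obj P) := pullback_isKFlat p P hP
  exact (DCoh.LTensorMod K).mapIso ((DCoh.Lpull p).mapIso e1.symm ≪≫ LpullIso p P hP) ≪≫
    LTensorModIso K ((pullCx p).obj P) hP'

/-- cohomology sheaves of `Lp^* M ⊗^L K` for `K` flat over `X` -/
theorem nonempty_HD_iso (hK : FlatMod.IsFlatOver p K) (M : DCoh.D X) (i : ℤ) :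
    Nonempty (DCoh.HD ((DCoh.LTensorMod K).obj ((DCoh.Lpull p).obj M)) i ≅
      (G p K).obj (DCoh.HD M i)) := by
  haveI := preservesHomology_G p K hK
  obtain ⟨P, ⟨e1⟩, ⟨e2⟩⟩ := exists_iso p K M
  let a : DCoh.HD ((DCoh.LTensorMod K).obj ((DCoh.Lpull p).obj M)) i ≅
      (((G p K).mapHomologicalComplex (ComplexShape.up ℤ)).obj P).homology i :=
    (homologyFunctor _ i).mapIso e2 ≪≫ (homologyFunctorFactors _ i).app _
  let b : (((G p K).mapHomologicalComplex (ComplexShape.up ℤ)).obj P).homology i ≅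
      (G p K).obj (P.homology i) := (P.sc i).mapHomologyIso (G p K)
  let c : P.homology i ≅ DCoh.HD M i :=
    ((homologyFunctorFactors _ i).app P).symm ≪≫ (homologyFunctor _ i).mapIso e1
  exact ⟨a ≪≫ b ≪≫ (G p K).mapIso c⟩

end Groth.Agent.Lib.Helper26.FMDerived
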