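import Mathlib
import Groth.Prelude.Def_DDual2
import Groth.Prelude.Def_FlatMod2
import Groth.Prelude.Def_ClSub2
import Groth.Agent.Lib.Helper26.FMDerived
import Groth.Agent.Lib.Helper26.CohSuppD
import Groth.Agent.Lib.Helper17.TensorQC
import Groth.Agent.Lib.Helper17.TensorSupp
import Groth.Agent.S0020

set_option autoImplicit false
set_option maxHeartbeats 400000
set_option linter.style.haveILetI false
set_option linter.unusedSectionVars false
universe u
open CategoryTheory CategoryTheory.Limits AlgebraicGeometry MonoidalCategory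

attribute [local instance] HasDerivedCategory.standard

namespace Groth.Agent.Lib.Helper26.FMMain

open Groth.Agent.Lib.Helper26 Groth.Agent.Lib.Helper26.FMExact DerivedCategory

/-- a closed subset of a closed subset proper over the base is proper over the base -/
theorem isProperOver_of_subset {X S : Scheme.{u}} (f : X ⟶ S) (Z Z' : Set X) (hZ' : IsClosed Z')
    (h : Z' ⊆ Z) (hZ : ClSub.IsProperOver f Z) : ClSub.IsProperOver f Z' := by
  obtain ⟨hZc, hp⟩ := hZ
  refine ⟨hZ', ?_⟩
  have hle : Scheme.IdealSheafData.vanishingIdeal ⟨Z, hZc⟩ ≤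
      Scheme.IdealSheafData.vanishingIdeal ⟨Z', hZ'⟩ :=
    Scheme.IdealSheafData.vanishingIdeal_antimono (S := ⟨Z', hZ'⟩) (T := ⟨Z, hZc⟩) h
  rw [← Scheme.IdealSheafData.inclusion_subschemeι hle, Category.assoc]
  infer_instance

variable {W X : Scheme.{u}} (p : W ⟶ X) (K : W.Modules)

theorem G_obj_eq (A : X.Modules) :
    (G p K).obj A = CohB1.tensorMod ((Scheme.Modules.pullback p).obj A) K := rfl

theorem isCoh_G_obj (hK : Coh.IsCoh K) (A : X.Modules) (hA : Coh.IsCoh A) :
    Coh.IsCoh ((G p K).obj A) := by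
  haveI : A.IsQuasicoherent := hA.1
  haveI : SheafOfModules.IsFiniteType.{u} (R := X.ringCatSheaf) A := hA.2
  haveI : K.IsQuasicoherent := hK.1
  haveI : SheafOfModules.IsFiniteType.{u} (R := W.ringCatSheaf) K := hK.2
  haveI : SheafOfModules.IsFiniteType.{u} (R := W.ringCatSheaf)
      ((Scheme.Modules.pullback p).obj A) :=
    Groth.Agent.Lib.Helper17.TensorSupp.isFiniteType_pullback p A
  rw [G_obj_eq]
  exact ⟨inferInstance, Groth.Agent.Lib.Helper17.TensorQC.isFiniteType_tensorMod _ K⟩

theorem support_G_obj_subset (hK : Coh.IsCoh K) (A : X.Modules) (hA : Coh.IsCoh A) :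
    CohB1.support ((G p K).obj A) ⊆ CohB1.support K := by
  haveI : A.IsQuasicoherent := hA.1
  haveI : SheafOfModules.IsFiniteType.{u} (R := X.ringCatSheaf) A := hA.2
  haveI : K.IsQuasicoherent := hK.1
  haveI : SheafOfModules.IsFiniteType.{u} (R := W.ringCatSheaf) K := hK.2
  haveI : SheafOfModules.IsFiniteType.{u} (R := W.ringCatSheaf)
      ((Scheme.Modules.pullback p).obj A) :=
    Groth.Agent.Lib.Helper17.TensorSupp.isFiniteType_pullback p A
  rw [G_obj_eq, Groth.Agent.Lib.Helper17.TensorSupp.support_tensorMod]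
  exact Set.inter_subset_right

/-- the main theorem: the Fourier–Mukai transform with a coherent kernel flat over the source with
support proper over the target preserves bounded complexes with coherent cohomology -/
theorem main {S X Y : Scheme.{u}} [IsNoetherian S]
    (a : X ⟶ S) (b : Y ⟶ S) [LocallyOfFiniteType a] [QuasiCompact a] [LocallyOfFiniteType b]
    [QuasiCompact b] (K : (Limits.pullback a b).Modules) (hK : Coh.IsCoh K)
    (hflat : FlatMod.IsFlatOver (Limits.pullback.fst a b) K)
    (hsupp : ClSub.IsProperOver (Limits.pullback.snd a b) (CohB1.support K))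
    [DCoh.HasLpull (Limits.pullback.fst a b)] [DCoh.HasLTensorMod K]
    [DCoh.HasRpush (Limits.pullback.snd a b)]
    (M : DCoh.D X) (hM : DCoh.IsCohD M) (m n : ℤ) (hMge : DerivedCategory.IsGE M m)
    (hMle : DerivedCategory.IsLE M n) :
    DCoh.IsCohD ((DCoh.Rpush (Limits.pullback.snd a b)).obj
        ((DCoh.LTensorMod K).obj ((DCoh.Lpull (Limits.pullback.fst a b)).obj M))) ∧
      ∃ m' n' : ℤ, DerivedCategory.IsGE ((DCoh.Rpush (Limits.pullback.snd a b)).obj
          ((DCoh.LTensorMod K).obj ((DCoh.Lpull (Limits.pullback.fst a b)).obj M))) m' ∧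
        DerivedCategory.IsLE ((DCoh.Rpush (Limits.pullback.snd a b)).obj
          ((DCoh.LTensorMod K).obj ((DCoh.Lpull (Limits.pullback.fst a b)).obj M))) n' := by
  set p := Limits.pullback.fst a b with hp
  set q := Limits.pullback.snd a b with hq
  set N := (DCoh.LTensorMod K).obj ((DCoh.Lpull p).obj M) with hN
  haveI : IsLocallyNoetherian Y := LocallyOfFiniteType.isLocallyNoetherian b
  haveI : CompactSpace Y := QuasiCompact.compactSpace_of_compactSpace b
  haveI : IsNoetherian Y := {}
  have hH : ∀ i : ℤ, Nonempty (DCoh.HD N i ≅ (G p K).obj (DCoh.HD M i)) := fun i =>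
    FMDerived.nonempty_HD_iso p K hflat M i
  have hcoh : DCoh.IsCohD N := fun i => by
    obtain ⟨e⟩ := hH i
    exact CohFive.isCoh_of_iso e.symm (isCoh_G_obj p K hK _ (hM i))
  have hs : ∀ i : ℤ, ClSub.IsProperOver q (CohB1.support (DCoh.HD N i)) := fun i => by
    obtain ⟨e⟩ := hH i
    refine isProperOver_of_subset q (CohB1.support K) _
      (Groth.Agent.S0020.result _ _ (hcoh i).2) ?_ hsupp
    rw [← Groth.Agent.Lib.Helper6.K0Filt.support_eq_of_iso e]
    exact support_G_obj_subset p K hK _ (hM i)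
  haveI : N.IsGE m := by
    rw [DerivedCategory.isGE_iff]
    intro i hi
    obtain ⟨e⟩ := hH i
    exact IsZero.of_iso ((G p K).map_isZero (isZero_of_isGE M m i hi)) e
  haveI : N.IsLE n := by
    rw [DerivedCategory.isLE_iff]
    intro i hi
    obtain ⟨e⟩ := hH i
    exact IsZero.of_iso ((G p K).map_isZero (isZero_of_isLE M n i hi)) e
  obtain ⟨n', hn'⟩ := CohSuppD.exists_isLE_Rpush q N m n hcoh hs
  exact ⟨CohSuppD.isCohD_Rpush q N m hcoh hs, m, n', RpushGE.Rpush_isGE q N m, hn'⟩

end Groth.Agent.Lib.Helper26.FMMain
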