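import Mathlib
set_option maxHeartbeats 400000
universe u v
namespace Groth.Agent.Lib.Helper26.FactorMult
open Polynomial UniqueFactorizationMonoid
open scoped Classical

variable {K : Type u} {L : Type v} [Field K] [Field L] [Algebra K L]

/-- factors over `L` of a polynomial over `K` -/
noncomputable def g (P : K[X]) : Multiset L[X] := normalizedFactors (P.map (algebraMap K L))

lemma nF_map (f : K[X]) (hf : f ≠ 0) :
    normalizedFactors (f.map (algebraMap K L)) = (normalizedFactors f).bind (g (L := L)) := by
  have h1 : Associated ((normalizedFactors f).prod.map (algebraMap K L)) (f.map (algebraMap K L)) :=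
    (prod_normalizedFactors hf).map (mapRingHom (algebraMap K L))
  rw [← h1.normalizedFactors_eq, Polynomial.map_multiset_prod, normalizedFactors_multiset_prod]
  · rw [Multiset.map_map]; rfl
  · intro h0
    obtain ⟨P, hP, hP0⟩ := Multiset.mem_map.mp h0
    have : P = 0 := by
      apply Polynomial.map_injective _ (algebraMap K L).injective
      rw [hP0, Polynomial.map_zero]
    rw [this] at hP
    exact zero_notMem_normalizedFactors f hP

lemma sum_natDegree_nF (h : L[X]) (hh : h ≠ 0) :
    ((normalizedFactors h).map natDegree).sum = h.natDegree := by
  have h1 := prod_normalizedFactors hh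
  have h2 := degree_eq_degree_of_associated h1
  have h3 : (normalizedFactors h).prod.natDegree = h.natDegree := natDegree_eq_natDegree h2
  rw [← h3, natDegree_multiset_prod]
  exact zero_notMem_normalizedFactors h

variable [PerfectField K]

lemma count_g (P P' : K[X]) (hP : Irreducible P) (hP' : Irreducible P')
    (hnP : normalize P = P) (hnP' : normalize P' = P') (Q : L[X]) (hQ : Q ∈ g (L := L) P) :
    (g (L := L) P').count Q = if P' = P then 1 else 0 := by
  by_cases h : P' = P
  · subst h
    rw [if_pos rfl]
    apply Multiset.count_eq_one_of_mem _ hQ
    have hsep : (P'.map (algebraMap K L)).Separable := (PerfectField.separable_of_irreducible hP).map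
    exact (squarefree_iff_nodup_normalizedFactors (Polynomial.map_ne_zero hP.ne_zero)).mp hsep.squarefree
  · rw [if_neg h]
    have hcop : IsCoprime P P' := by
      rw [hP.coprime_iff_not_dvd]
      intro hdvd
      have hass : Associated P P' := hP.associated_of_dvd hP' hdvd
      have := normalize_eq_normalize_iff_associated.mpr hass  
      rw [hnP, hnP'] at this
      exact h this.symm
    have hcop' : IsCoprime (P.map (algebraMap K L)) (P'.map (algebraMap K L)) :=
      hcop.map (mapRingHom (algebraMap K L))
    have hdisj := disjoint_normalizedFactors hcop'.isRelPrime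
    rw [Multiset.count_eq_zero]
    exact Multiset.disjoint_left.mp hdisj hQ


lemma sum_ite_eq_count {α : Type*} [DecidableEq α] (m : Multiset α) (a : α) :
    (m.map (fun b => if b = a then 1 else 0)).sum = m.count a := by
  induction m using Multiset.induction_on with
  | empty => simp
  | cons b m ih =>
    rw [Multiset.map_cons, Multiset.sum_cons, ih, Multiset.count_cons]
    by_cases h : b = a
    · subst h; simp [add_comm]
    · have : ¬ a = b := fun h' => h h'.symm
      simp [h, this]

lemma conv {α : Type*} [DecidableEq α] (m : Multiset α) (c : α → ℕ) :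
    ∑ P ∈ m.toFinset, m.count P * c P = (m.map c).sum := by
  rw [Finset.sum_multiset_map_count]
  simp only [smul_eq_mul]

lemma count_bind_g (f₂ : K[X]) (P : K[X]) (hP : Irreducible P) (hnP : normalize P = P)
    (Q : L[X]) (hQ : Q ∈ g (L := L) P) :
    ((normalizedFactors f₂).bind (g (L := L))).count Q = (normalizedFactors f₂).count P := by
  rw [Multiset.count_bind, ← sum_ite_eq_count]
  congr 1
  apply Multiset.map_congr rfl
  intro P' hP'
  exact count_g P P' hP (irreducible_of_normalized_factor P' hP') hnP
    (normalize_normalized_factor P' hP') Q hQ

theorem main (f₁ f₂ : K[X]) (h₁ : f₁ ≠ 0) (h₂ : f₂ ≠ 0) :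
    ∑ P ∈ (normalizedFactors (f₁.map (algebraMap K L))).toFinset,
        (normalizedFactors (f₁.map (algebraMap K L))).count P *
          (normalizedFactors (f₂.map (algebraMap K L))).count P * P.natDegree =
      ∑ P ∈ (normalizedFactors f₁).toFinset,
        (normalizedFactors f₁).count P * (normalizedFactors f₂).count P * P.natDegree := by
  simp only [mul_assoc]
  rw [conv (normalizedFactors (f₁.map (algebraMap K L)))
      (fun P => (normalizedFactors (f₂.map (algebraMap K L))).count P * P.natDegree),
    conv (normalizedFactors f₁) (fun P => (normalizedFactors f₂).count P * P.natDegree),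
    nF_map f₁ h₁, nF_map f₂ h₂, Multiset.map_bind, Multiset.sum_bind]
  congr 1
  apply Multiset.map_congr rfl
  intro P hP
  have hPirr := irreducible_of_normalized_factor P hP
  have hPn := normalize_normalized_factor P hP
  have e1 : (g (L := L) P).map (fun Q => ((normalizedFactors f₂).bind (g (L := L))).count Q * Q.natDegree)
      = (g (L := L) P).map (fun Q => (normalizedFactors f₂).count P * Q.natDegree) := by
    apply Multiset.map_congr rfl
    intro Q hQ
    rw [count_bind_g f₂ P hPirr hPn Q hQ]
  rw [e1, Multiset.sum_map_mul_left]
  congr 1
  show ((normalizedFactors (P.map (algebraMap K L))).map natDegree).sum = P.natDegree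
  rw [sum_natDegree_nF _ (Polynomial.map_ne_zero hPirr.ne_zero), natDegree_map]

end Groth.Agent.Lib.Helper26.FactorMult
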