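import Mathlib
import Groth.Prelude.Def_Flat

set_option maxHeartbeats 400000

open CategoryTheory AlgebraicGeometry Limits

namespace Groth.Agent.Lib.Helper26.FibEtale

universe u

/-- Finite residue field extension for formally unramified lft morphisms. -/
lemma finite_residueFieldMap {X Y : Scheme.{u}} (f : X ⟶ Y) [FormallyUnramified f]
    [LocallyOfFiniteType f] (x : X) :
    letI : Algebra (Y.residueField (f x)) (X.residueField x) :=
      (f.residueFieldMap x).hom.toAlgebra
    Module.Finite (Y.residueField (f x)) (X.residueField x) := by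
  algebraize [(f.stalkMap x).hom]
  have : IsLocalHom (algebraMap (Y.presheaf.stalk (f x)) (X.presheaf.stalk x)) :=
    inferInstanceAs <| IsLocalHom (f.stalkMap x).hom
  suffices h : Module.Finite
      (IsLocalRing.ResidueField <| Y.presheaf.stalk (f x))
      (IsLocalRing.ResidueField <| X.presheaf.stalk x) by
    convert! h
    refine Module.ext' _ _ fun r m => ?_
    obtain ⟨r, rfl⟩ := IsLocalRing.residue_surjective r
    obtain ⟨m, rfl⟩ := IsLocalRing.residue_surjective m
    rfl
  have : Algebra.EssFiniteType (Y.presheaf.stalk (f x)) (X.presheaf.stalk x) := by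
    rw [← RingHom.essFiniteType_algebraMap, RingHom.algebraMap_toAlgebra]
    exact LocallyOfFiniteType.stalkMap f x
  have : Algebra.FormallyUnramified (Y.presheaf.stalk (f x)) (X.presheaf.stalk x) := by
    rw [← RingHom.formallyUnramified_algebraMap, RingHom.algebraMap_toAlgebra]
    exact FormallyUnramified.stalkMap f x
  infer_instance

lemma etale_SpecMap_residueFieldMap {X Y : Scheme.{u}} (f : X ⟶ Y) [Etale f] (x : X) :
    Etale (Spec.map (f.residueFieldMap x)) := by
  rw [HasRingHomProperty.Spec_iff (P := @Etale)]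
  let _ : Algebra (Y.residueField (f x)) (X.residueField x) :=
      (f.residueFieldMap x).hom.toAlgebra
  have h1 : Algebra.IsSeparable (Y.residueField (f x)) (X.residueField x) := inferInstance
  have h2 : Module.Finite (Y.residueField (f x)) (X.residueField x) := finite_residueFieldMap f x
  have h3 : Algebra.FormallyEtale (Y.residueField (f x)) (X.residueField x) :=
    Algebra.FormallyEtale.of_isSeparable _ _
  have h4 : Algebra.FinitePresentation (Y.residueField (f x)) (X.residueField x) :=
    Algebra.FinitePresentation.of_finiteType.mp inferInstance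
  have : Algebra.Etale (Y.residueField (f x)) (X.residueField x) := ⟨h3, h4⟩
  rw [← RingHom.etale_algebraMap] at this
  exact this


lemma etale_of_squares {U U' V V' k k' F F' : Scheme.{u}} (h : U ⟶ V) (h' : U' ⟶ V') (a : U' ⟶ U)
    (b : V' ⟶ V) [Etale a] [Etale b] (comm : h' ≫ b = a ≫ h)
    (ik : k ⟶ V) (ik' : k' ⟶ V') (ρ : k' ⟶ k) [Etale ρ] (hρ : ρ ≫ ik = ik' ≫ b)
    {fstF : F ⟶ U} {sndF : F ⟶ k} (hF : IsPullback fstF sndF h ik)
    {fstF' : F' ⟶ U'} {sndF' : F' ⟶ k'} (hF' : IsPullback fstF' sndF' h' ik')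
    (φ : F' ⟶ F) (hφ1 : φ ≫ fstF = fstF' ≫ a) (hφ2 : φ ≫ sndF = sndF' ≫ ρ) :
    Etale φ := by
  -- W = U ×_V V'
  let c : U' ⟶ pullback h b := pullback.lift a h' comm.symm
  have hc1 : c ≫ pullback.fst h b = a := pullback.lift_fst _ _ _
  have hc2 : c ≫ pullback.snd h b = h' := pullback.lift_snd _ _ _
  have hc : Etale c := by
    refine MorphismProperty.of_postcomp (W := @Etale) (W' := @Etale) c (pullback.fst h b)
      inferInstance ?_
    rw [hc1]; infer_instance
  -- G = F ×_k k'
  let π : pullback sndF ρ ⟶ F := pullback.fst sndF ρ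
  let sndG : pullback sndF ρ ⟶ k' := pullback.snd sndF ρ
  let ψ : F' ⟶ pullback sndF ρ := pullback.lift φ sndF' hφ2
  have hψ1 : ψ ≫ π = φ := pullback.lift_fst _ _ _
  have hψ2 : ψ ≫ sndG = sndF' := pullback.lift_snd _ _ _
  let t : pullback sndF ρ ⟶ pullback h b := pullback.lift (π ≫ fstF) (sndG ≫ ik') (by
    rw [Category.assoc, hF.w, Category.assoc, ← hρ]
    simp only [π, sndG]
    rw [← Category.assoc, pullback.condition, Category.assoc])
  have ht1 : t ≫ pullback.fst h b = π ≫ fstF := pullback.lift_fst _ _ _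
  have ht2 : t ≫ pullback.snd h b = sndG ≫ ik' := pullback.lift_snd _ _ _
  -- Square R
  have hR : IsPullback t sndG (pullback.snd h b) ik' := by
    refine IsPullback.of_right ?_ ht2 (IsPullback.of_hasPullback h b)
    rw [ht1, ← hρ]
    exact (IsPullback.of_hasPullback sndF ρ).paste_horiz hF
  -- Square L
  have hp : ψ ≫ t = fstF' ≫ c := by
    apply pullback.hom_ext
    · rw [Category.assoc, ht1, ← Category.assoc, hψ1, hφ1, Category.assoc, hc1]
    · rw [Category.assoc, ht2, ← Category.assoc, hψ2, Category.assoc, hc2, hF'.w]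
  have hL : IsPullback ψ fstF' t c := by
    refine IsPullback.of_right ?_ hp hR.flip
    rw [hψ2, hc2]
    exact hF'.flip
  have hψ : Etale ψ := MorphismProperty.of_isPullback (P := @Etale) hL.flip hc
  rw [← hψ1]
  infer_instance

theorem main {U U' V V' : Scheme.{u}} (h : U ⟶ V) (h' : U' ⟶ V') (a : U' ⟶ U)
    (b : V' ⟶ V) [Etale a] [Etale b] (comm : h' ≫ b = a ≫ h) (v' : V')
    (φ : h'.fiber v' ⟶ h.fiber (b v')) (hφ1 : φ ≫ h.fiberι (b v') = h'.fiberι v' ≫ a)
    (hφ2 : φ ≫ h.fiberToSpecResidueField (b v') = h'.fiberToSpecResidueField v' ≫ Spec.map (b.residueFieldMap v')) :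
    Etale φ := by
  have := etale_SpecMap_residueFieldMap b v'
  exact etale_of_squares h h' a b comm (V.fromSpecResidueField (b v')) (V'.fromSpecResidueField v')
    (Spec.map (b.residueFieldMap v')) (Scheme.Hom.SpecMap_residueFieldMap_fromSpecResidueField _ _)
    (IsPullback.of_hasPullback h (V.fromSpecResidueField (b v')))
    (IsPullback.of_hasPullback h' (V'.fromSpecResidueField v')) φ hφ1 hφ2

end Groth.Agent.Lib.Helper26.FibEtale
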