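import Mathlib
import Groth.Prelude.Def_FEt

set_option autoImplicit false
set_option maxHeartbeats 400000
universe u
open AlgebraicGeometry CategoryTheory Limits

namespace Groth.Agent.Lib.Helper26.FiberFinite

theorem main {X : Scheme.{u}} {Ω : Type u} [Field Ω] (ξ : Spec (CommRingCat.of Ω) ⟶ X) (Y : FEt.Cat X) :
    Finite (FEt.fiberObj ξ Y) := by
  have hfin : IsFinite Y.hom := Y.prop.1
  let P := pullback Y.hom ξ
  let π : P ⟶ Spec (CommRingCat.of Ω) := pullback.snd Y.hom ξ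
  have hπ : IsFinite π := inferInstance
  have hP : IsAffine P := isAffine_of_isAffineHom π
  let ι : CommRingCat.of Ω ⟶ Γ(P, ⊤) := (Scheme.ΓSpecIso (.of Ω)).inv ≫ π.appTop
  have hιfin : ι.hom.Finite := by
    have h1 : π.appTop.hom.Finite := π.finite_appTop
    have h2 : (Scheme.ΓSpecIso (CommRingCat.of Ω)).inv.hom.Finite :=
      RingHom.Finite.of_surjective _
        (ConcreteCategory.bijective_of_isIso (Scheme.ΓSpecIso (CommRingCat.of Ω)).inv).2
    exact h1.comp h2
  letI : Algebra Ω Γ(P, ⊤) := ι.hom.toAlgebra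
  haveI : Module.Finite Ω Γ(P, ⊤) := hιfin
  -- the sections
  let σ : FEt.fiberObj ξ Y → (Spec (CommRingCat.of Ω) ⟶ P) := fun s =>
    pullback.lift s.1 (𝟙 _) (by rw [s.2, Category.id_comp])
  have hσπ : ∀ s, σ s ≫ π = 𝟙 _ := fun s => pullback.lift_snd _ _ _
  have hσfst : ∀ s, σ s ≫ pullback.fst Y.hom ξ = s.1 := fun s => pullback.lift_fst _ _ _
  let Φ : FEt.fiberObj ξ Y → (Γ(P, ⊤) →ₐ[Ω] Ω) := fun s =>
    { toRingHom := ((σ s).appTop ≫ (Scheme.ΓSpecIso (CommRingCat.of Ω)).hom).hom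
      commutes' := by
        intro r
        change ((Scheme.ΓSpecIso (CommRingCat.of Ω)).inv ≫ π.appTop ≫ (σ s).appTop ≫
          (Scheme.ΓSpecIso (CommRingCat.of Ω)).hom).hom r = r
        rw [← Category.assoc π.appTop, ← Scheme.Hom.comp_appTop, hσπ s]
        simp }
  have hΦ : Function.Injective Φ := by
    intro s s' h
    have h1 : ((σ s).appTop ≫ (Scheme.ΓSpecIso (CommRingCat.of Ω)).hom) =
        ((σ s').appTop ≫ (Scheme.ΓSpecIso (CommRingCat.of Ω)).hom) := by
      ext x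
      exact congrArg (fun f : Γ(P, ⊤) →ₐ[Ω] Ω => f x) h
    rw [cancel_mono] at h1
    have h2 : σ s = σ s' := ext_of_isAffine h1
    apply Subtype.ext
    rw [← hσfst s, ← hσfst s', h2]
  exact Finite.of_injective Φ hΦ

end Groth.Agent.Lib.Helper26.FiberFinite
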