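import Mathlib
import Groth.Agent.Lib.Helper2.LenAt

set_option maxHeartbeats 800000
set_option autoImplicit false

namespace Groth.Agent.Lib.Helper26.FibreLen

open Function Groth.Agent.Lib.Helper2.LenAt TensorProduct

universe u

section

variable (A B : Type u) [CommRing A] [IsLocalRing A] [CommRing B] [Algebra A B]

/-- the maximal ideals of `B` in the closed fibre. -/
abbrev Fib : Type u :=
  {n : MaximalSpectrum B // Ideal.map (algebraMap A B) (IsLocalRing.maximalIdeal A) ≤ n.asIdeal}

variable {A B}

/-- a maximal ideal as a point of the prime spectrum -/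
def toPrime (n : MaximalSpectrum B) : PrimeSpectrum B := ⟨n.asIdeal, n.isMaximal.isPrime⟩

lemma length_quot_eq_one
    (hres : ∀ (n : Ideal B) [n.IsMaximal]
      (h : Ideal.map (algebraMap A B) (IsLocalRing.maximalIdeal A) ≤ n),
      Function.Bijective (Ideal.quotientMap n (algebraMap A B) (Ideal.map_le_iff_le_comap.mp h)))
    (n : Ideal B) [n.IsMaximal]
    (h : Ideal.map (algebraMap A B) (IsLocalRing.maximalIdeal A) ≤ n) :
    Module.length A (B ⧸ n) = 1 := by
  have hb := hres n h
  let f : (A ⧸ IsLocalRing.maximalIdeal A) →ₗ[A] (B ⧸ n) :=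
    { toFun := Ideal.quotientMap n (algebraMap A B) (Ideal.map_le_iff_le_comap.mp h)
      map_add' := map_add _
      map_smul' := by
        intro a x
        obtain ⟨x, rfl⟩ := Ideal.Quotient.mk_surjective x
        have h1 : a • (Ideal.Quotient.mk (IsLocalRing.maximalIdeal A)) x =
            Ideal.Quotient.mk (IsLocalRing.maximalIdeal A) (a * x) := rfl
        rw [h1, Ideal.quotientMap_mk, Ideal.quotientMap_mk, map_mul, map_mul, RingHom.id_apply,
          Algebra.smul_def]
        rfl }
  let e : (A ⧸ IsLocalRing.maximalIdeal A) ≃ₗ[A] (B ⧸ n) := LinearEquiv.ofBijective f hb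
  rw [← e.length_eq, Module.length_eq_one_iff]
  exact isSimpleModule_iff_quot_maximal.mpr ⟨_, inferInstance, ⟨LinearEquiv.refl _ _⟩⟩

--PART2
theorem claim
    (hres : ∀ (n : Ideal B) [n.IsMaximal]
      (h : Ideal.map (algebraMap A B) (IsLocalRing.maximalIdeal A) ≤ n),
      Function.Bijective (Ideal.quotientMap n (algebraMap A B) (Ideal.map_le_iff_le_comap.mp h)))
    (F : Type u) [AddCommGroup F] [Module B F] (hF : IsFiniteLength B F) :
    ∀ [Module A F] [IsScalarTower A B F],
      (∀ a ∈ IsLocalRing.maximalIdeal A, ∀ x : F, a • x = 0) →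
      (Function.support (fun n : Fib A B => lenAt (toPrime n.1) F)).Finite ∧
      ∑ᶠ n : Fib A B, lenAt (toPrime n.1) F = Module.length A F := by
  classical
  induction hF with
  | @of_subsingleton M _ _ hsub =>
    intro _ _ _
    have h0 : ∀ n : Fib A B, lenAt (toPrime n.1) M = 0 := fun n =>
      lenAt_eq_zero_of_subsingleton _ _
    simp only [h0]
    refine ⟨by simp, ?_⟩
    rw [finsum_zero, Module.length_eq_zero]
  | @of_simple_quotient M _ _ N hs hN ih =>
    intro instA instT hkill
    obtain ⟨hfin, hsum⟩ := ih (fun a ha x => Subtype.ext (hkill a ha x))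
    obtain ⟨n₀, hn₀, ⟨e⟩⟩ := isSimpleModule_iff_quot_maximal.mp hs
    -- the fibre condition for n₀
    have hle : Ideal.map (algebraMap A B) (IsLocalRing.maximalIdeal A) ≤ n₀ := by
      rw [Ideal.map_le_iff_le_comap]
      intro a ha
      rw [Ideal.mem_comap]
      obtain ⟨y, hy⟩ := Submodule.Quotient.mk_surjective N (e.symm 1)
      have h1 : (algebraMap A B a) • (e.symm (1 : B ⧸ n₀)) = 0 := by
        rw [← hy, ← Submodule.Quotient.mk_smul, algebraMap_smul, hkill a ha y,
          Submodule.Quotient.mk_zero]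
      have h2 := congrArg e h1
      rw [map_smul, e.apply_symm_apply, map_zero] at h2
      have h3 : (algebraMap A B a) • (1 : B ⧸ n₀) = Ideal.Quotient.mk n₀ (algebraMap A B a) := by
        rw [Algebra.smul_def, mul_one]; rfl
      rw [h3] at h2
      exact Ideal.Quotient.eq_zero_iff_mem.mp h2
    -- the distinguished point
    let P₀ : Fib A B := ⟨⟨n₀, hn₀⟩, hle⟩
    -- lenAt of the simple quotient
    have hδ : ∀ n : Fib A B, lenAt (toPrime n.1) (M ⧸ N) = if n = P₀ then 1 else 0 := by
      intro n
      rw [lenAt_congr _ e]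
      split_ifs with hn
      · rw [hn]
        exact lenAt_quotient_self (toPrime P₀.1)
      · have : lenAt (toPrime n.1) (B ⧸ (toPrime P₀.1).asIdeal) = 0 := by
          apply lenAt_quotient_eq_zero
          intro hle'
          apply hn
          have : n₀ = n.1.asIdeal := hn₀.eq_of_le n.1.isMaximal.ne_top hle'
          apply Subtype.ext
          apply MaximalSpectrum.ext
          exact this.symm
        exact this
    have hadd : ∀ n : Fib A B, lenAt (toPrime n.1) M =
        lenAt (toPrime n.1) N + (if n = P₀ then 1 else 0) := by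
      intro n
      rw [← hδ n]
      exact lenAt_exact _ N.subtype N.mkQ (Submodule.subtype_injective _)
        (Submodule.mkQ_surjective _) (LinearMap.exact_subtype_mkQ _)
    have hfinδ : (Function.support (fun n : Fib A B => if n = P₀ then (1 : ℕ∞) else 0)).Finite := by
      apply Set.Finite.subset (Set.finite_singleton P₀)
      intro n hn
      rw [Function.mem_support] at hn
      by_contra hne
      exact hn (if_neg hne)
    have hlenA : Module.length A M = Module.length A N + 1 := by
      have h1 := Module.length_eq_add_of_exact (N.subtype.restrictScalars A)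
        (N.mkQ.restrictScalars A) (Submodule.subtype_injective _) (Submodule.mkQ_surjective _)
        (LinearMap.exact_subtype_mkQ N)
      rw [h1, (e.restrictScalars A).length_eq]
      haveI := hn₀
      rw [length_quot_eq_one hres n₀ hle]
    simp only [hadd]
    refine ⟨?_, ?_⟩
    · exact (hfin.union hfinδ).subset (Function.support_add _ _)
    · rw [finsum_add_distrib hfin hfinδ, hsum, hlenA]
      congr 1
      rw [finsum_eq_single _ P₀ (fun n hn => if_neg hn), if_pos rfl]

end

--PART3
/-- the `A`-length of the closed fibre of a free algebra of rank `d`. -/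
theorem length_fibre (A B : Type u) [CommRing A] [IsLocalRing A] [CommRing B] [Algebra A B]
    [Module.Free A B] [Module.Finite A B] (d : ℕ) (hd : Module.finrank A B = d) :
    Module.length A (B ⧸ Ideal.map (algebraMap A B) (IsLocalRing.maximalIdeal A)) = d := by
  let m := IsLocalRing.maximalIdeal A
  let e1 : (B ⧸ (m.map (algebraMap A B)).restrictScalars A) ≃ₗ[A] (B ⧸ m.map (algebraMap A B)) :=
    Submodule.Quotient.restrictScalarsEquiv A _
  let e2 : (B ⧸ (m • ⊤ : Submodule A B)) ≃ₗ[A] (B ⧸ (m.map (algebraMap A B)).restrictScalars A) :=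
    Submodule.quotEquivOfEq _ _ (Ideal.smul_top_eq_map m)
  let e3 : ((A ⧸ m) ⊗[A] B) ≃ₗ[A] (B ⧸ (m • ⊤ : Submodule A B)) :=
    TensorProduct.quotTensorEquivQuotSMul B m
  let b := Module.finBasisOfFinrankEq A B hd
  let e4 : ((A ⧸ m) ⊗[A] B) ≃ₗ[A] ((A ⧸ m) ⊗[A] (Fin d → A)) :=
    TensorProduct.congr (LinearEquiv.refl A _) b.equivFun
  let e5 : ((A ⧸ m) ⊗[A] (Fin d → A)) ≃ₗ[A] (Fin d → A ⧸ m) :=
    TensorProduct.piScalarRight A A (A ⧸ m) (Fin d)
  have h1 : Module.length A (A ⧸ m) = 1 := by
    rw [Module.length_eq_one_iff]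
    exact isSimpleModule_iff_quot_maximal.mpr ⟨_, inferInstance, ⟨LinearEquiv.refl _ _⟩⟩
  rw [← e1.length_eq, ← e2.length_eq, ← e3.length_eq, e4.length_eq, e5.length_eq,
    Module.length_pi_of_fintype]
  simp [h1]

theorem main (A B : Type u) [CommRing A] [IsLocalRing A] [CommRing B] [Algebra A B]
    [Module.Free A B] [Module.Finite A B] (d : ℕ) (hd : Module.finrank A B = d)
    (hres : ∀ (n : Ideal B) [n.IsMaximal]
      (h : Ideal.map (algebraMap A B) (IsLocalRing.maximalIdeal A) ≤ n),
      Function.Bijective (Ideal.quotientMap n (algebraMap A B) (Ideal.map_le_iff_le_comap.mp h))) :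
    finsum (fun n : {n : MaximalSpectrum B //
        Ideal.map (algebraMap A B) (IsLocalRing.maximalIdeal A) ≤ n.asIdeal} =>
      Module.length (Localization.AtPrime n.1.asIdeal)
        (LocalizedModule n.1.asIdeal.primeCompl
          (B ⧸ Ideal.map (algebraMap A B) (IsLocalRing.maximalIdeal A)))) = (d : ℕ∞) := by
  have hlen := length_fibre A B d hd
  have hFL : IsFiniteLength B (B ⧸ Ideal.map (algebraMap A B) (IsLocalRing.maximalIdeal A)) := by
    have hA : IsFiniteLength A (B ⧸ Ideal.map (algebraMap A B) (IsLocalRing.maximalIdeal A)) := by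
      rw [← Module.length_ne_top_iff, hlen]; exact ENat.coe_ne_top d
    obtain ⟨h1, h2⟩ := isFiniteLength_iff_isNoetherian_isArtinian.mp hA
    rw [isFiniteLength_iff_isNoetherian_isArtinian]
    exact ⟨isNoetherian_of_tower A h1, isArtinian_of_tower A h2⟩
  have hkill : ∀ a ∈ IsLocalRing.maximalIdeal A,
      ∀ x : B ⧸ Ideal.map (algebraMap A B) (IsLocalRing.maximalIdeal A), a • x = 0 := by
    intro a ha x
    obtain ⟨b, rfl⟩ := Ideal.Quotient.mk_surjective x
    have h1 : a • (Ideal.Quotient.mk (Ideal.map (algebraMap A B) (IsLocalRing.maximalIdeal A)) b) =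
        Ideal.Quotient.mk _ (algebraMap A B a * b) := by
      rw [Algebra.smul_def, map_mul]; rfl
    rw [h1, Ideal.Quotient.eq_zero_iff_mem]
    exact Ideal.mul_mem_right _ _ (Ideal.mem_map_of_mem _ ha)
  obtain ⟨-, hsum⟩ := claim hres _ hFL hkill
  rw [← hlen, ← hsum]
  rfl

end Groth.Agent.Lib.Helper26.FibreLen
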