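import Mathlib

namespace Groth.Agent.Lib.Helper26.FieldFT

universe u

set_option linter.unusedSectionVars false
set_option linter.style.haveILetI false

theorem main {R K : Type u} [CommRing R] [Field K] [Algebra R K]
    (hinj : Function.Injective (algebraMap R K)) [Algebra.FiniteType R K] :
    ∃ f : R, f ≠ 0 ∧ ∃ Rf : Subalgebra R K, IsLocalization.Away f Rf ∧ IsField Rf ∧
      Module.Finite Rf K := by
  classical
  haveI : IsDomain R := hinj.isDomain (algebraMap R K)
  haveI : FaithfulSMul R K := (faithfulSMul_iff_algebraMap_injective R K).mpr hinj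
  letI := FractionRing.liftAlgebra R K
  haveI : IsScalarTower R (FractionRing R) K := FractionRing.isScalarTower_liftAlgebra R K
  haveI : Algebra.FiniteType (FractionRing R) K :=
    Algebra.FiniteType.of_restrictScalars_finiteType R (FractionRing R) K
  haveI : Module.Finite (FractionRing R) K :=
    finite_of_finite_type_of_isJacobsonRing (FractionRing R) K
  obtain ⟨s, hs⟩ := (Algebra.FiniteType.out : (⊤ : Subalgebra R K).FG)
  have hc : ∀ a : K, ∃ c : nonZeroDivisors R, IsIntegral R (c • a) := fun a =>
    IsIntegral.exists_multiple_integral_of_isLocalization (nonZeroDivisors R)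
      (Rₘ := FractionRing R) a (Algebra.IsIntegral.isIntegral a)
  choose c hc using hc
  let f : R := ∏ a ∈ s, (c a : R)
  have hf0 : f ≠ 0 := by
    rw [Finset.prod_ne_zero_iff]
    intro a _
    exact nonZeroDivisors.ne_zero (c a).2
  have hfu : ∀ y : Submonoid.powers f, IsUnit ((Algebra.ofId R K) y) := by
    rintro ⟨_, n, rfl⟩
    rw [isUnit_iff_ne_zero]
    intro h
    apply pow_ne_zero n hf0
    apply hinj
    rw [map_zero]
    exact h
  let φ : Localization.Away f →ₐ[R] K := IsLocalization.liftAlgHom (M := Submonoid.powers f) hfu
  have hφinj : Function.Injective φ := by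
    rw [injective_iff_map_eq_zero]
    intro x hx
    obtain ⟨⟨a, t⟩, ht⟩ := IsLocalization.surj (Submonoid.powers f) x
    simp only at ht
    have h1 : φ (x * algebraMap R (Localization.Away f) t) = 0 := by rw [map_mul, hx, zero_mul]
    rw [ht, AlgHom.commutes] at h1
    have ha : a = 0 := hinj (by rw [h1, map_zero])
    rw [ha, map_zero] at ht
    have hsu : IsUnit (algebraMap R (Localization.Away f) t) :=
      IsLocalization.map_units (Localization.Away f) t
    exact (hsu.mul_left_eq_zero).mp ht
  let e : Localization.Away f ≃ₐ[R] φ.range := AlgEquiv.ofInjective φ hφinj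
  haveI hloc : IsLocalization.Away f φ.range :=
    IsLocalization.isLocalization_of_algEquiv (Submonoid.powers f) e
  refine ⟨f, hf0, φ.range, hloc, ?_⟩
  have hunit : ∀ a ∈ s, IsUnit (algebraMap R φ.range (c a : R)) := by
    intro a ha
    have h1 : IsUnit (algebraMap R φ.range f) := IsLocalization.Away.algebraMap_isUnit f
    have h2 : f = (c a : R) * ∏ b ∈ s.erase a, (c b : R) := (Finset.mul_prod_erase s _ ha).symm
    have h3 : algebraMap R φ.range f = algebraMap R φ.range (c a : R) *
        algebraMap R φ.range (∏ b ∈ s.erase a, (c b : R)) := by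
      rw [← map_mul]
      exact congrArg _ h2
    rw [h3] at h1
    exact isUnit_of_mul_isUnit_left h1
  have hint : ∀ x : K, IsIntegral φ.range x := by
    intro x
    have hx : x ∈ Algebra.adjoin R (s : Set K) := by rw [hs]; trivial
    induction hx using Algebra.adjoin_induction with
    | mem a ha =>
      obtain ⟨u, hu⟩ := hunit a ha
      have h1 : IsIntegral φ.range ((c a : R) • a) := (hc a).tower_top
      have h2 : a = (↑u⁻¹ : φ.range) • ((c a : R) • a) := by
        rw [← algebraMap_smul φ.range (c a : R) a, ← hu, smul_smul, Units.inv_mul, one_smul]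
      rw [h2]
      exact h1.smul _
    | algebraMap r =>
      rw [IsScalarTower.algebraMap_apply R φ.range K]
      exact isIntegral_algebraMap
    | add x y _ _ hx hy => exact hx.add hy
    | mul x y _ _ hx hy => exact hx.mul hy
  haveI : Algebra.IsIntegral φ.range K := ⟨hint⟩
  haveI : Algebra.FiniteType φ.range K :=
    Algebra.FiniteType.of_restrictScalars_finiteType R φ.range K
  refine ⟨?_, Algebra.IsIntegral.finite⟩
  exact isField_of_isIntegral_of_isField (R := φ.range) (S := K)
    Subtype.val_injective (Field.toIsField K)

end Groth.Agent.Lib.Helper26.FieldFT
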