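import Mathlib

set_option maxHeartbeats 400000

universe w w' v u
open CategoryTheory CategoryTheory.Limits

namespace Groth.Agent.Lib.Helper26.FilRes1

section One

variable {P : Type w} [Category.{w'} P] {A : Type u} [Category.{v} A] [Abelian A]
  [∀ a b : P, HasCoproductsOfShape (a ⟶ b) A]

instance additive_L (x : P) : (evaluationLeftAdjoint A x).Additive :=
  (evaluationAdjunctionRight A x).left_adjoint_additive

variable [∀ a b : P, (MorphismProperty.monomorphisms A).IsStableUnderCoproductsOfShape (a ⟶ b)]

instance preservesMono_L (x : P) : (evaluationLeftAdjoint A x).PreservesMonomorphisms where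
  preserves {d d'} f hf := by
    rw [NatTrans.mono_iff_mono_app]
    intro t
    have : (((evaluationLeftAdjoint A x).map f).app t) = Limits.Sigma.map (fun _ => f) := by
      dsimp [evaluationLeftAdjoint]
      ext
      simp
    rw [this]
    have h : ∀ j : (x ⟶ t), Mono ((fun _ : (x ⟶ t) => f) j) := fun _ => hf
    exact @MorphismProperty.instMonoMapOfIsStableUnderCoproductsOfShapeMonomorphisms A _ (x ⟶ t) _ _ _ (fun _ => f) _ _ h

instance preservesHomology_L (x : P) : (evaluationLeftAdjoint A x).PreservesHomology := by
  have : PreservesColimits (evaluationLeftAdjoint A x) := (evaluationAdjunctionRight A x).leftAdjoint_preservesColimits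
  exact Functor.preservesHomology_of_preservesMonos_and_cokernels _


end One

section Two

variable {P : Type w} [Category.{w'} P] {A : Type u} [Category.{v} A] [Abelian A]
  [HasCoproducts.{w'} A]

set_option backward.isDefEq.respectTransparency false in
/-- the comparison `L_y d ⟶ L_x d` induced by `g : x ⟶ y` -/
noncomputable def Lmap {x y : P} (g : x ⟶ y) (d : A) :
    (evaluationLeftAdjoint A y).obj d ⟶ (evaluationLeftAdjoint A x).obj d where
  app t := Sigma.desc (fun h : y ⟶ t => Sigma.ι (fun _ : x ⟶ t => d) (g ≫ h))
  naturality t t' f := by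
    dsimp [evaluationLeftAdjoint]
    ext h
    simp

set_option backward.isDefEq.respectTransparency false in
instance mono_Lmap {x y : P} (g : x ⟶ y) [Epi g] (d : A) : Mono (Lmap g d) := by
  rw [NatTrans.mono_iff_mono_app]
  intro t
  have hι : Function.Injective (fun h : y ⟶ t => g ≫ h) := fun h h' e => (cancel_epi g).1 e
  exact MonoCoprod.mono_of_injective' (fun _ : x ⟶ t => d) _ hι

set_option backward.isDefEq.respectTransparency false in
lemma unit_Lmap {x y : P} (g : x ⟶ y) (d : A) :
    (evaluationAdjunctionRight A x).unit.app d ≫ ((evaluationLeftAdjoint A x).obj d).map g =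
      (evaluationAdjunctionRight A y).unit.app d ≫ (Lmap g d).app y := by
  simp [Lmap, evaluationLeftAdjoint, evaluationAdjunctionRight]

/-- for an injective object `M` of a functor category and an epimorphism `g`,
the map `M.map g` is a split epimorphism -/
theorem exists_section {M : P ⥤ A} [Injective M] {x y : P} (g : x ⟶ y) [Epi g] :
    ∃ s : M.obj y ⟶ M.obj x, s ≫ M.map g = 𝟙 _ := by
  let d := M.obj y
  let φ : (evaluationLeftAdjoint A y).obj d ⟶ M :=
    ((evaluationAdjunctionRight A y).homEquiv d M).symm (𝟙 _)
  let ψ : (evaluationLeftAdjoint A x).obj d ⟶ M := Injective.factorThru φ (Lmap g d)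
  have hψ : Lmap g d ≫ ψ = φ := Injective.comp_factorThru _ _
  refine ⟨(evaluationAdjunctionRight A x).unit.app d ≫ ψ.app x, ?_⟩
  have h1 : ψ.app x ≫ M.map g = ((evaluationLeftAdjoint A x).obj d).map g ≫ ψ.app y :=
    (ψ.naturality g).symm
  have h2 : (evaluationAdjunctionRight A y).unit.app d ≫ φ.app y = 𝟙 _ := by
    have := ((evaluationAdjunctionRight A y).homEquiv d M).apply_symm_apply (𝟙 _)
    rw [Adjunction.homEquiv_unit] at this
    exact this
  have h3 := unit_Lmap g d
  calc ((evaluationAdjunctionRight A x).unit.app d ≫ ψ.app x) ≫ M.map g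
      = (evaluationAdjunctionRight A x).unit.app d ≫
          ((evaluationLeftAdjoint A x).obj d).map g ≫ ψ.app y := by
        rw [Category.assoc, h1]
    _ = (evaluationAdjunctionRight A y).unit.app d ≫ (Lmap g d ≫ ψ).app y := by
        rw [← Category.assoc, h3, Category.assoc, NatTrans.comp_app]
    _ = 𝟙 _ := by rw [hψ, h2]


end Two

end Groth.Agent.Lib.Helper26.FilRes1
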