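import Mathlib
universe v u
open CategoryTheory CategoryTheory.Limits

set_option maxHeartbeats 400000

namespace Groth.Agent.Lib.Helper26.FilRes2

variable {A : Type u} [Category.{v} A] [Abelian A]

lemma injective_of_retract {X Y : A} (i : X ⟶ Y) (r : Y ⟶ X) (h : i ≫ r = 𝟙 X) [Injective Y] :
    Injective X where
  factors {Z W} g f _ := ⟨Injective.factorThru (g ≫ i) f ≫ r, by
    rw [← Category.assoc, Injective.comp_factorThru, Category.assoc, h, Category.comp_id]⟩

/-- the cokernel of a monomorphism between injective objects is injective -/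
lemma injective_cokernel {X Y : A} (f : X ⟶ Y) [Mono f] [Injective X] [Injective Y] :
    Injective (cokernel f) := by
  let r : Y ⟶ X := Injective.factorThru (𝟙 X) f
  have hr : f ≫ r = 𝟙 X := Injective.comp_factorThru _ _
  let e : Y ⟶ Y := 𝟙 Y - r ≫ f
  have he : f ≫ e = 0 := by
    simp only [e, Preadditive.comp_sub, Category.comp_id, ← Category.assoc, hr, Category.id_comp,
      sub_self]
  refine injective_of_retract (cokernel.desc f e he) (cokernel.π f) ?_
  rw [← cancel_epi (cokernel.π f)]
  simp [e]

section Tri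

open Pretriangulated

variable (S : ShortComplex (CochainComplex A ℤ))
  (σ : ∀ n, (S.map (HomologicalComplex.eval A _ n)).Splitting)

include σ

lemma isKInjective_X₁ [S.X₂.IsKInjective] [S.X₃.IsKInjective] : S.X₁.IsKInjective := by
  rw [CochainComplex.isKInjective_iff_rightOrthogonal]
  have hT : CochainComplex.trianglehOfDegreewiseSplit S σ ∈ distTriang _ :=
    (HomotopyCategory.distinguished_iff_iso_trianglehOfDegreewiseSplit _).2 ⟨S, σ, ⟨Iso.refl _⟩⟩
  exact (HomotopyCategory.subcategoryAcyclic A).rightOrthogonal.ext_of_isTriangulatedClosed₁ _ hT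
    (CochainComplex.IsKInjective.rightOrthogonal S.X₂)
    (CochainComplex.IsKInjective.rightOrthogonal S.X₃)

lemma isKInjective_X₃ [S.X₁.IsKInjective] [S.X₂.IsKInjective] : S.X₃.IsKInjective := by
  rw [CochainComplex.isKInjective_iff_rightOrthogonal]
  have hT : CochainComplex.trianglehOfDegreewiseSplit S σ ∈ distTriang _ :=
    (HomotopyCategory.distinguished_iff_iso_trianglehOfDegreewiseSplit _).2 ⟨S, σ, ⟨Iso.refl _⟩⟩
  exact (HomotopyCategory.subcategoryAcyclic A).rightOrthogonal.ext_of_isTriangulatedClosed₃ _ hT
    (CochainComplex.IsKInjective.rightOrthogonal S.X₁)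
    (CochainComplex.IsKInjective.rightOrthogonal S.X₂)

end Tri


section Split

variable (S : ShortComplex (CochainComplex A ℤ)) (hS : S.ShortExact)

include hS

lemma shortExact_eval (n : ℤ) : (S.map (HomologicalComplex.eval A _ n)).ShortExact :=
  hS.map_of_exact _

/-- a short exact sequence of complexes whose first term is degreewise injective is
degreewise split -/
noncomputable def splittingOfInjective [∀ n, Injective (S.X₁.X n)] (n : ℤ) :
    (S.map (HomologicalComplex.eval A _ n)).Splitting := by
  have h := shortExact_eval S hS n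
  have := h.mono_f
  have := h.epi_g
  have : Injective (S.map (HomologicalComplex.eval A (ComplexShape.up ℤ) n)).X₁ :=
    inferInstanceAs (Injective (S.X₁.X n))
  exact ShortComplex.Splitting.ofExactOfRetraction _ h.exact
    (Injective.factorThru (𝟙 _) (S.map (HomologicalComplex.eval A _ n)).f)
    (Injective.comp_factorThru _ _) inferInstance

/-- a short exact sequence of complexes with degreewise sections is degreewise split -/
noncomputable def splittingOfSection (s : ∀ n, S.X₃.X n ⟶ S.X₂.X n)
    (hs : ∀ n, s n ≫ S.g.f n = 𝟙 _) (n : ℤ) :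
    (S.map (HomologicalComplex.eval A _ n)).Splitting := by
  have h := shortExact_eval S hS n
  have := h.mono_f
  have := h.epi_g
  exact ShortComplex.Splitting.ofExactOfSection _ h.exact (s n) (hs n) inferInstance

end Split

section Five

open HomologicalComplex HomologySequence ComposableArrows

variable {S₁ S₂ : ShortComplex (CochainComplex A ℤ)} (φ : S₁ ⟶ S₂)
  (hS₁ : S₁.ShortExact) (hS₂ : S₂.ShortExact)

include hS₁ hS₂

lemma quasiIso_τ₁ (h₂ : QuasiIso φ.τ₂) (h₃ : QuasiIso φ.τ₃) : QuasiIso φ.τ₁ := by
  rw [quasiIso_iff]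
  intro i
  rw [quasiIsoAt_iff_isIso_homologyMap]
  have hij : (ComplexShape.up ℤ).Rel (i - 1) i := by simp
  let ψ := (δ₀Functor).map (mapComposableArrows₅ φ hS₁ hS₂ (i - 1) i hij)
  have e₁ := (composableArrows₅_exact hS₁ (i - 1) i hij).δ₀
  have e₂ := (composableArrows₅_exact hS₂ (i - 1) i hij).δ₀
  have h0 : Epi (app' ψ 0) := by
    change Epi (homologyMap φ.τ₂ (i - 1))
    infer_instance
  have h1 : IsIso (app' ψ 1) := by
    change IsIso (homologyMap φ.τ₃ (i - 1))
    infer_instance
  have h3 : IsIso (app' ψ 3) := by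
    change IsIso (homologyMap φ.τ₂ i)
    infer_instance
  have h4 : Mono (app' ψ 4) := by
    change Mono (homologyMap φ.τ₃ i)
    infer_instance
  exact Abelian.isIso_of_epi_of_isIso_of_isIso_of_mono e₁ e₂ ψ h0 h1 h3 h4

end Five

end Groth.Agent.Lib.Helper26.FilRes2
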