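import Mathlib
import Groth.Prelude.Def_SpSeq
import Groth.Agent.Lib.Helper26.FilRes2
set_option maxHeartbeats 400000

universe v u
open CategoryTheory CategoryTheory.Limits
open Groth.Agent.Lib.Helper26.FilRes2

namespace Groth.Agent.Lib.Helper26.FilRes3

variable {A : Type u} [Category.{v} A] [Abelian A]

open SpSeq

/-- the short exact sequence `0 ⟶ F^p ⟶ K ⟶ K / F^p ⟶ 0` -/
noncomputable def sesQuot {B : Type*} [Category B] [Abelian B] {X : B} (S : Subobject X) :
    ShortComplex B :=
  ShortComplex.mk S.arrow (cokernel.π S.arrow) (cokernel.condition _)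

lemma sesQuot_shortExact {B : Type*} [Category B] [Abelian B] {X : B} (S : Subobject X) :
    (sesQuot S).ShortExact where
  exact := ShortComplex.exact_of_g_is_cokernel _ (cokernelIsCokernel _)
  mono_f := inferInstanceAs (Mono S.arrow)
  epi_g := inferInstanceAs (Epi (cokernel.π S.arrow))

/-- the short exact sequence `0 ⟶ X ⟶ Y ⟶ coker ⟶ 0` of a monomorphism -/
noncomputable def sesMono {B : Type*} [Category B] [Abelian B] {X Y : B} (f : X ⟶ Y) :
    ShortComplex B :=
  ShortComplex.mk f (cokernel.π f) (cokernel.condition _)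

lemma sesMono_shortExact {B : Type*} [Category B] [Abelian B] {X Y : B} (f : X ⟶ Y) [Mono f] :
    (sesMono f).ShortExact where
  exact := ShortComplex.exact_of_g_is_cokernel _ (cokernelIsCokernel _)
  mono_f := inferInstanceAs (Mono f)
  epi_g := inferInstanceAs (Epi (cokernel.π f))

end Groth.Agent.Lib.Helper26.FilRes3

namespace Groth.Agent.Lib.Helper26.FilRes3

variable {A : Type u} [Category.{v} A] [Abelian A]

open SpSeq HomologicalComplex

theorem pack (K J : FilCx A) (j : K ⟶ J)
    (hX : ∀ n, Injective (J.obj.X n)) (hS : ∀ p n, Injective ((J.step p).X n))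
    (hK : J.obj.IsKInjective) (hKS : ∀ p, (J.step p).IsKInjective)
    (hj : QuasiIso j.hom) (jp : ∀ p, K.step p ⟶ J.step p)
    (hjp : ∀ p, jp p ≫ (J.fil p).arrow = (K.fil p).arrow ≫ j.hom)
    (hq : ∀ p, QuasiIso (jp p)) :
      (∀ n p : ℤ, Injective (J.obj.X n) ∧ Injective ((J.XFil n).step p) ∧ Injective ((J.XFil n).quot p) ∧
        ∀ (p' : ℤ) (h : p ≤ p'), Injective (cokernel ((J.XFil n).stepLE h))) ∧
      (CochainComplex.IsKInjective J.obj ∧ ∀ p : ℤ, CochainComplex.IsKInjective (J.step p) ∧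
        CochainComplex.IsKInjective (J.quot p) ∧
        ∀ (p' : ℤ) (h : p ≤ p'), CochainComplex.IsKInjective (cokernel (J.stepLE h))) ∧
      QuasiIso j.hom ∧
      (∀ p : ℤ, ∃ jp : K.step p ⟶ J.step p, jp ≫ (J.fil p).arrow = (K.fil p).arrow ≫ j.hom ∧ QuasiIso jp ∧
        (∀ (p' : ℤ) (h : p ≤ p'), ∃ (jp' : K.step p' ⟶ J.step p') (jg : cokernel (K.stepLE h) ⟶ cokernel (J.stepLE h)),
          jp' ≫ (J.fil p').arrow = (K.fil p').arrow ≫ j.hom ∧ jp' ≫ J.stepLE h = K.stepLE h ≫ jp ∧
          cokernel.π (K.stepLE h) ≫ jg = jp ≫ cokernel.π (J.stepLE h) ∧ QuasiIso jg)) ∧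
      (∀ p : ℤ, ∃ jq : K.quot p ⟶ J.quot p,
        cokernel.π (K.fil p).arrow ≫ jq = j.hom ≫ cokernel.π (J.fil p).arrow ∧ QuasiIso jq) := by
  have hstep : ∀ n p, Injective ((J.XFil n).step p) := fun n p =>
    Injective.of_iso (Subobject.underlyingIso ((J.fil p).arrow.f n)).symm (hS p n)
  have hle : ∀ (p p' : ℤ) (h : p ≤ p'), jp p' ≫ J.stepLE h = K.stepLE h ≫ jp p := by
    intro p p' h
    rw [← cancel_mono (J.fil p).arrow]
    simp only [Category.assoc, Subobject.ofLE_arrow, hjp, Subobject.ofLE_arrow_assoc]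
  refine ⟨?_, ⟨hK, ?_⟩, hj, ?_, ?_⟩
  · intro n p
    have := hX n
    have : Injective (J.XFil n).obj := hX n
    have := hstep n
    refine ⟨hX n, hstep n p, ?_, ?_⟩
    · exact injective_cokernel _
    · intro p' h
      exact injective_cokernel _
  · intro p
    have := hK
    have := hKS
    refine ⟨hKS p, ?_, ?_⟩
    · have : ∀ n, Injective ((sesQuot (J.fil p)).X₁.X n) := hS p
      have : (sesQuot (J.fil p)).X₁.IsKInjective := hKS p
      have : (sesQuot (J.fil p)).X₂.IsKInjective := hK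
      exact isKInjective_X₃ (sesQuot (J.fil p))
        (splittingOfInjective _ (sesQuot_shortExact _))
    · intro p' h
      have : ∀ n, Injective ((sesMono (J.stepLE h)).X₁.X n) := hS p'
      have : (sesMono (J.stepLE h)).X₁.IsKInjective := hKS p'
      have : (sesMono (J.stepLE h)).X₂.IsKInjective := hKS p
      exact isKInjective_X₃ (sesMono (J.stepLE h))
        (splittingOfInjective _ (sesMono_shortExact _))
  · intro p
    refine ⟨jp p, hjp p, hq p, ?_⟩
    intro p' h
    refine ⟨jp p', cokernel.map _ _ (jp p') (jp p) (hle p p' h).symm, hjp p', hle p p' h,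
      by simp, ?_⟩
    let φ : sesMono (K.stepLE h) ⟶ sesMono (J.stepLE h) :=
      { τ₁ := jp p'
        τ₂ := jp p
        τ₃ := cokernel.map _ _ (jp p') (jp p) (hle p p' h).symm
        comm₁₂ := hle p p' h
        comm₂₃ := by simp [sesMono] }
    exact HomologySequence.quasiIso_τ₃ φ (sesMono_shortExact _) (sesMono_shortExact _) (hq p') (hq p)
  · intro p
    refine ⟨cokernel.map _ _ (jp p) j.hom (hjp p).symm, by simp, ?_⟩
    let φ : sesQuot (K.fil p) ⟶ sesQuot (J.fil p) :=
      { τ₁ := jp p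
        τ₂ := j.hom
        τ₃ := cokernel.map _ _ (jp p) j.hom (hjp p).symm
        comm₁₂ := hjp p
        comm₂₃ := by simp [sesQuot] }
    exact HomologySequence.quasiIso_τ₃ φ (sesQuot_shortExact _) (sesQuot_shortExact _) (hq p) hj

end Groth.Agent.Lib.Helper26.FilRes3
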