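import Mathlib
import Groth.Agent.Lib.Helper26.FilRes1
import Groth.Agent.Lib.Helper26.KInjComp
import Groth.Agent.Lib.Helper26.KInjDS
set_option maxHeartbeats 400000

universe w w' v u
open CategoryTheory CategoryTheory.Limits
open Groth.Agent.Lib.Helper26.FilRes1

namespace Groth.Agent.Lib.Helper26.FilRes4

variable {P : Type w} [Category.{w'} P] {A : Type u} [Category.{v} A] [Abelian A]

/-- a functor to cochain complexes, as a cochain complex of functors -/
@[simps]
def cxOf (F : P ⥤ CochainComplex A ℤ) : CochainComplex (P ⥤ A) ℤ where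
  X n := F ⋙ HomologicalComplex.eval A _ n
  d n m :=
    { app := fun x => (F.obj x).d n m
      naturality := fun x y g => (F.map g).comm n m }
  shape n m h := by
    ext x
    exact (F.obj x).shape n m h
  d_comp_d' n m k _ _ := by
    ext x
    exact (F.obj x).d_comp_d n m k

/-- evaluation of complexes of functors -/
abbrev evC (x : P) : CochainComplex (P ⥤ A) ℤ ⥤ CochainComplex A ℤ :=
  ((evaluation P A).obj x).mapHomologicalComplex (ComplexShape.up ℤ)

/-- transition maps -/
abbrev evMap {x y : P} (g : x ⟶ y) : evC (A := A) x ⟶ evC y :=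
  NatTrans.mapHomologicalComplex ((evaluation P A).map g) (ComplexShape.up ℤ)

/-- evaluating `cxOf F` gives back `F.obj x` -/
def evCxOf (F : P ⥤ CochainComplex A ℤ) (x : P) : (evC x).obj (cxOf F) ≅ F.obj x :=
  HomologicalComplex.Hom.isoOfComponents (fun n => Iso.refl _)
    (fun i j _ => (Category.id_comp _).trans (Category.comp_id _).symm)

lemma evCxOf_naturality (F : P ⥤ CochainComplex A ℤ) {x y : P} (g : x ⟶ y) :
    (evMap g).app (cxOf F) ≫ (evCxOf F y).hom = (evCxOf F x).hom ≫ F.map g := by
  ext n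
  exact (Category.comp_id _).trans (Category.id_comp _).symm

end Groth.Agent.Lib.Helper26.FilRes4

namespace Groth.Agent.Lib.Helper26.FilRes4

open Groth.Agent.Lib.Helper26.KInjDS Groth.Agent.Lib.Helper26.KInjComp

variable {P : Type} [SmallCategory P] {A : Type u} [Category.{v} A] [Abelian A]
  [HasCoproducts.{0} A]
  [∀ a b : P, (MorphismProperty.monomorphisms A).IsStableUnderCoproductsOfShape (a ⟶ b)]

instance isKInjective_evC (I : CochainComplex (P ⥤ A) ℤ) [I.IsKInjective] (x : P) :
    ((evC x).obj I).IsKInjective :=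
  isKInjective_map_of_adj (evaluationAdjunctionRight A x) I

instance injective_evC (I : CochainComplex (P ⥤ A) ℤ) [∀ n, Injective (I.X n)] (x : P) (n : ℤ) :
    Injective (((evC x).obj I).X n) :=
  (evaluationAdjunctionRight A x).map_injective _ inferInstance

/-- the functor `P ⥤ CochainComplex A ℤ` attached to a complex of functors -/
@[simps]
def ofCx (I : CochainComplex (P ⥤ A) ℤ) : P ⥤ CochainComplex A ℤ where
  obj x := (evC x).obj I
  map g := (evMap g).app I
  map_id x := by
    ext n
    exact (I.X n).map_id x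
  map_comp f g := by
    ext n
    exact (I.X n).map_comp f g

/-- morphisms `cxOf F ⟶ I` give natural transformations `F ⟶ ofCx I` -/
@[simps]
def homOfCx {F : P ⥤ CochainComplex A ℤ} {I : CochainComplex (P ⥤ A) ℤ} (η : cxOf F ⟶ I) :
    F ⟶ ofCx I where
  app x := (evCxOf F x).inv ≫ (evC x).map η
  naturality x y g := by
    have h1 := evCxOf_naturality F g
    have h2 := (evMap (A := A) g).naturality η
    change F.map g ≫ (evCxOf F y).inv ≫ (evC y).map η =
      ((evCxOf F x).inv ≫ (evC x).map η) ≫ (evMap g).app I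
    rw [← cancel_epi (evCxOf F x).hom, ← reassoc_of% h1, Iso.hom_inv_id_assoc, Category.assoc,
      Iso.hom_inv_id_assoc]
    exact h2.symm

instance quasiIso_homOfCx {F : P ⥤ CochainComplex A ℤ} {I : CochainComplex (P ⥤ A) ℤ}
    (η : cxOf F ⟶ I) [QuasiIso η] (x : P) : QuasiIso ((homOfCx η).app x) := by
  change QuasiIso ((evCxOf F x).inv ≫ (evC x).map η)
  infer_instance

variable [IsGrothendieckAbelian.{v} (P ⥤ A)]

theorem exists_resolution (F : P ⥤ CochainComplex A ℤ) :
    ∃ (G : P ⥤ CochainComplex A ℤ) (η : F ⟶ G),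
      (∀ x, (G.obj x).IsKInjective) ∧ (∀ x n, Injective ((G.obj x).X n)) ∧
      (∀ x, QuasiIso (η.app x)) ∧
      (∀ {x y : P} (g : x ⟶ y) [Epi g] (n : ℤ), ∃ s, s ≫ (G.map g).f n = 𝟙 _) := by
  refine ⟨ofCx ((ρ₀ (P ⥤ A)).obj (cxOf F)), homOfCx ((i₀ (P ⥤ A)).app (cxOf F)), ?_, ?_, ?_, ?_⟩
  · intro x
    change ((evC x).obj ((ρ₀ (P ⥤ A)).obj (cxOf F))).IsKInjective
    infer_instance
  · intro x n
    change Injective (((evC x).obj ((ρ₀ (P ⥤ A)).obj (cxOf F))).X n)
    infer_instance
  · intro x
    infer_instance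
  · intro x y g _ n
    exact exists_section (M := ((ρ₀ (P ⥤ A)).obj (cxOf F)).X n) g

end Groth.Agent.Lib.Helper26.FilRes4
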