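import Mathlib
import Groth.Prelude.Def_SpSeq
import Groth.Agent.Lib.Helper26.FilRes3
import Groth.Agent.Lib.Helper26.FilRes4
set_option maxHeartbeats 400000

universe v u
open CategoryTheory CategoryTheory.Limits
open Groth.Agent.Lib.Helper26.FilRes1 Groth.Agent.Lib.Helper26.FilRes2
  Groth.Agent.Lib.Helper26.FilRes3 Groth.Agent.Lib.Helper26.FilRes4

namespace Groth.Agent.Lib.Helper26.FilRes5

open SpSeq

/-- the index category: `ℤᵒᵖ` with an initial object added -/
abbrev P := WithInitial ℤᵒᵖ

instance : Quiver.IsThin P := fun x y => by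
  rcases x with a | _ <;> rcases y with b | _
  · exact inferInstanceAs (Subsingleton (a ⟶ b))
  · exact inferInstanceAs (Subsingleton PEmpty)
  · exact inferInstanceAs (Subsingleton PUnit)
  · exact inferInstanceAs (Subsingleton PUnit)

variable {A : Type u} [Category.{v} A] [Abelian A]

section Groth

variable [IsGrothendieckAbelian.{v} A]

instance : HasSeparator (P ⥤ A) :=
  HasSeparator.of_equivalence ((opOpEquivalence P).congrLeft (E := A))

instance : IsGrothendieckAbelian.{v} (P ⥤ A) where
  ab5OfSize := ⟨fun _ _ _ => inferInstance⟩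

end Groth


section Main

variable (K : FilCx A)

lemma quotMap_refl (p : ℤ) : K.quotMap (le_refl p) = 𝟙 _ := by
  rw [← cancel_epi (cokernel.π (K.fil p).arrow)]
  simp [FilObj.quotMap]

lemma quotMap_comp {p q r : ℤ} (h : p ≤ q) (h' : q ≤ r) :
    K.quotMap h' ≫ K.quotMap h = K.quotMap (h.trans h') := by
  rw [← cancel_epi (cokernel.π (K.fil r).arrow)]
  simp [FilObj.quotMap]

/-- the tower of quotients of a filtered complex -/
noncomputable def Qf : ℤᵒᵖ ⥤ CochainComplex A ℤ where
  obj p := K.quot p.unop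
  map f := K.quotMap (leOfHom f.unop)
  map_id p := quotMap_refl K _
  map_comp f g := (quotMap_comp K _ _).symm

/-- the tower of quotients together with the complex itself -/
noncomputable def FK : P ⥤ CochainComplex A ℤ :=
  WithInitial.lift (Z := K.obj) (Qf K) (fun p => cokernel.π (K.fil p.unop).arrow) (by
    intro x y f
    simp [Qf, FilObj.quotMap])

end Main

lemma le_pullback_of_factor {B : Type*} [Category B] [Abelian B] {X Y : B} (f : X ⟶ Y)
    (S : Subobject X) (T : Subobject Y) (g : (S : B) ⟶ (T : B))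
    (h : g ≫ T.arrow = S.arrow ≫ f) : S ≤ (Subobject.pullback f).obj T :=
  Subobject.le_of_comm ((Subobject.isPullback f T).lift g S.arrow h)
    ((Subobject.isPullback f T).lift_snd _ _ _)


section Thm

open HomologicalComplex

variable [IsGrothendieckAbelian.{v} A]

theorem main (K : FilCx A) :
    ∃ (J : SpSeq.FilCx A) (j : K ⟶ J),
      (∀ n p : ℤ, Injective (J.obj.X n) ∧ Injective ((J.XFil n).step p) ∧ Injective ((J.XFil n).quot p) ∧
        ∀ (p' : ℤ) (h : p ≤ p'), Injective (cokernel ((J.XFil n).stepLE h))) ∧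
      (CochainComplex.IsKInjective J.obj ∧ ∀ p : ℤ, CochainComplex.IsKInjective (J.step p) ∧
        CochainComplex.IsKInjective (J.quot p) ∧
        ∀ (p' : ℤ) (h : p ≤ p'), CochainComplex.IsKInjective (cokernel (J.stepLE h))) ∧
      QuasiIso j.hom ∧
      (∀ p : ℤ, ∃ jp : K.step p ⟶ J.step p, jp ≫ (J.fil p).arrow = (K.fil p).arrow ≫ j.hom ∧ QuasiIso jp ∧
        (∀ (p' : ℤ) (h : p ≤ p'), ∃ (jp' : K.step p' ⟶ J.step p') (jg : cokernel (K.stepLE h) ⟶ cokernel (J.stepLE h)),
          jp' ≫ (J.fil p').arrow = (K.fil p').arrow ≫ j.hom ∧ jp' ≫ J.stepLE h = K.stepLE h ≫ jp ∧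
          cokernel.π (K.stepLE h) ≫ jg = jp ≫ cokernel.π (J.stepLE h) ∧ QuasiIso jg)) ∧
      (∀ p : ℤ, ∃ jq : K.quot p ⟶ J.quot p,
        cokernel.π (K.fil p).arrow ≫ jq = j.hom ≫ cokernel.π (J.fil p).arrow ∧ QuasiIso jq) := by
  obtain ⟨G, η, hG1, hG2, hη, hsec⟩ := exists_resolution (FK K)
  let st : P := WithInitial.star
  let o : ℤ → P := fun p => WithInitial.of (Opposite.op p)
  let t : ∀ p : ℤ, st ⟶ o p := fun p => WithInitial.homTo _
  let π : ∀ p : ℤ, G.obj st ⟶ G.obj (o p) := fun p => G.map (t p)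
  have hπ : ∀ (p q : ℤ) (h : p ≤ q), ∃ τ : G.obj (o q) ⟶ G.obj (o p), π q ≫ τ = π p := by
    intro p q h
    let g : o q ⟶ o p := (WithInitial.incl).map (homOfLE h).op
    refine ⟨G.map g, ?_⟩
    rw [← G.map_comp]
    congr 1
  -- the filtered complex
  let J : FilCx A :=
    { obj := G.obj st
      fil := fun p => kernelSubobject (π p)
      anti := by
        intro p q h
        obtain ⟨τ, hτ⟩ := hπ p q h
        show kernelSubobject (π q) ≤ kernelSubobject (π p)
        rw [← hτ]
        exact kernelSubobject_comp_le _ _ }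
  let j0 : K.obj ⟶ G.obj st := η.app st
  let jq : ∀ p : ℤ, K.quot p ⟶ G.obj (o p) := fun p => η.app (o p)
  have hj0 : QuasiIso j0 := hη st
  have hjq : ∀ p, QuasiIso (jq p) := fun p => hη (o p)
  -- naturality of η
  have hnat : ∀ p : ℤ, cokernel.π (K.fil p).arrow ≫ jq p = j0 ≫ π p := by
    intro p
    exact η.naturality (t p)
  have hzero : ∀ p : ℤ, ((K.fil p).arrow ≫ j0) ≫ π p = 0 := by
    intro p
    rw [Category.assoc, ← hnat p, cokernel.condition_assoc, zero_comp]
  let jp : ∀ p : ℤ, K.step p ⟶ J.step p := fun p =>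
    factorThruKernelSubobject (π p) ((K.fil p).arrow ≫ j0) (hzero p)
  have hjp : ∀ p : ℤ, jp p ≫ (J.fil p).arrow = (K.fil p).arrow ≫ j0 := fun p =>
    factorThruKernelSubobject_comp_arrow _ _ _
  let j : K ⟶ J :=
    { hom := j0
      compat := fun p => le_pullback_of_factor _ _ _ (jp p) (hjp p) }
  -- the short exact sequences
  let S : ∀ p : ℤ, ShortComplex (CochainComplex A ℤ) := fun p =>
    ShortComplex.mk (kernelSubobject (π p)).arrow (π p) (kernelSubobject_arrow_comp _)
  have hsec' : ∀ (p n : ℤ), ∃ s, s ≫ (π p).f n = 𝟙 _ := fun p n => hsec (t p) n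
  have hepi : ∀ p, Epi (π p) := by
    intro p
    have : ∀ n, Epi ((π p).f n) := fun n => by
      obtain ⟨s, hs⟩ := hsec' p n
      exact epi_of_epi_fac hs
    exact HomologicalComplex.epi_of_epi_f _ this
  have hS : ∀ p, (S p).ShortExact := by
    intro p
    have := hepi p
    have e : S p ≅ ShortComplex.mk (kernel.ι (π p)) (π p) (kernel.condition _) :=
      ShortComplex.isoMk (kernelSubobjectIso _) (Iso.refl _) (Iso.refl _)
        (by simp [S]) (by simp [S])
    refine ShortComplex.shortExact_of_iso e.symm ?_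
    exact
      { exact := ShortComplex.exact_of_f_is_kernel _ (kernelIsKernel _)
        mono_f := inferInstanceAs (Mono (kernel.ι (π p)))
        epi_g := hepi p }
  let σ : ∀ p n, ((S p).map (HomologicalComplex.eval A _ n)).Splitting := fun p n =>
    splittingOfSection (S p) (hS p) (fun n => (hsec' p n).choose)
      (fun n => (hsec' p n).choose_spec) n
  have hK : J.obj.IsKInjective := hG1 st
  have hX : ∀ n, Injective (J.obj.X n) := hG2 st
  have hKS : ∀ p, (J.step p).IsKInjective := by
    intro p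
    have : (S p).X₂.IsKInjective := hG1 st
    have : (S p).X₃.IsKInjective := hG1 (o p)
    exact isKInjective_X₁ (S p) (σ p)
  have hSt : ∀ p n, Injective ((J.step p).X n) := by
    intro p n
    have : Injective ((S p).map (HomologicalComplex.eval A _ n)).X₂ := hG2 st n
    exact injective_of_retract _ (σ p n).r (σ p n).f_r
  have hq : ∀ p, QuasiIso (jp p) := by
    intro p
    let φ : sesQuot (K.fil p) ⟶ S p :=
      { τ₁ := jp p
        τ₂ := j0
        τ₃ := jq p
        comm₁₂ := hjp p
        comm₂₃ := (hnat p).symm }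
    exact quasiIso_τ₁ φ (sesQuot_shortExact _) (hS p) hj0 (hjq p)
  exact ⟨J, j, pack K J j hX hSt hK hKS hj0 jp hjp hq⟩

end Thm

end Groth.Agent.Lib.Helper26.FilRes5
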