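import Mathlib
import Groth.Prelude.Def_NonAbH2
import Groth.Agent.Lib.Helper26.H90g

set_option autoImplicit false
set_option maxHeartbeats 400000
universe u

namespace Groth.Agent.Lib.Helper26.FinConn

open CategoryTheory Limits AlgebraicGeometry MonoidalCategory CartesianMonoidalCategory MonObj
open Groth.Agent.Lib.Helper4 Groth.Agent.Lib.Helper4.ActShear
open Groth.Agent.Lib.Helper26.H90b
open Groth.Agent.Lib.Helper26
open TensorProduct

theorem ker_le_nilradical {K : Type u} [Field K] {A : Type u} [CommRing A] [Algebra K A]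
    [Module.Finite K A] [PreconnectedSpace (PrimeSpectrum A)]
    {D : Type u} [CommRing D] [IsDomain D] (ε : A →+* D) : RingHom.ker ε ≤ nilradical A := by
  have : IsArtinianRing A := IsArtinianRing.of_finite K A
  have hsub : Subsingleton (PrimeSpectrum A) := PreconnectedSpace.trivial_of_discrete
  intro x hx
  rw [nilradical_eq_sInf, Ideal.mem_sInf]
  intro p hp
  have hp' : p.IsPrime := hp
  have hk : (RingHom.ker ε).IsPrime := RingHom.ker_isPrime ε
  have : (⟨p, hp'⟩ : PrimeSpectrum A) = ⟨RingHom.ker ε, hk⟩ := Subsingleton.elim _ _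
  have : p = RingHom.ker ε := congrArg PrimeSpectrum.asIdeal this
  rw [this]
  exact hx

variable {K : Type u} [Field K]

/-- a finite connected `K`-scheme with a rational point has at most one point with values in any
reduced `K`-scheme -/
theorem hom_ext_of_isReduced (G : Over (Spec (CommRingCat.of K))) [IsFinite G.hom]
    [ConnectedSpace G.left] (e : 𝟙_ (Over (Spec (CommRingCat.of K))) ⟶ G)
    (T : Over (Spec (CommRingCat.of K))) [IsReduced T.left] (c c' : T ⟶ G) : c = c' := by
  have haff : IsAffine G.left := isAffine_of_isAffineHom G.hom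
  have hfin : G.hom.appTop.hom.Finite :=
    ((HasAffineProperty.iff_of_isAffine (P := @IsFinite) (f := G.hom)).mp inferInstance).2
  ext1
  apply ext_of_isAffine
  -- the ring of functions of `G`
  let σ : K →+* Γ(G.left, ⊤) := G.hom.appTop.hom.comp (Scheme.ΓSpecIso (CommRingCat.of K)).inv.hom
  let _ : Algebra K Γ(G.left, ⊤) := σ.toAlgebra
  have hσfin : Module.Finite K Γ(G.left, ⊤) := by
    have h1 : (Scheme.ΓSpecIso (CommRingCat.of K)).inv.hom.Finite :=
      RingHom.Finite.of_surjective _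
        (ConcreteCategory.bijective_of_isIso (Scheme.ΓSpecIso (CommRingCat.of K)).inv).2
    exact RingHom.Finite.comp hfin h1
  have hconn : PreconnectedSpace (PrimeSpectrum Γ(G.left, ⊤)) := by
    have hc : ConnectedSpace (Spec Γ(G.left, ⊤)) :=
      (Scheme.homeoOfIso G.left.isoSpec).surjective.connectedSpace
        (Scheme.homeoOfIso G.left.isoSpec).continuous
    exact hc.toPreconnectedSpace
  let ε : Γ(G.left, ⊤) →+* K :=
    (Scheme.ΓSpecIso (CommRingCat.of K)).hom.hom.comp e.left.appTop.hom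
  have hεσ : ∀ k : K, ε (σ k) = k := by
    intro k
    have h1 : e.left ≫ G.hom = 𝟙 _ := Over.w e
    have h2 : G.hom.appTop ≫ e.left.appTop = 𝟙 _ := by
      rw [← Scheme.Hom.comp_appTop, h1]
      rfl
    change (Scheme.ΓSpecIso (CommRingCat.of K)).hom.hom (e.left.appTop.hom
      (G.hom.appTop.hom ((Scheme.ΓSpecIso (CommRingCat.of K)).inv.hom k))) = k
    have h3 : e.left.appTop.hom (G.hom.appTop.hom ((Scheme.ΓSpecIso (CommRingCat.of K)).inv.hom k)) =
        (Scheme.ΓSpecIso (CommRingCat.of K)).inv.hom k :=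
      congrArg (fun m => m.hom ((Scheme.ΓSpecIso (CommRingCat.of K)).inv.hom k)) h2
    rw [h3]
    exact congrArg (fun m => m.hom k) (Scheme.ΓSpecIso (CommRingCat.of K)).inv_hom_id
  have hnil := ker_le_nilradical (K := K) ε
  -- both maps agree on the image of `σ`
  have hw : ∀ k : K, c.left.appTop.hom (σ k) = c'.left.appTop.hom (σ k) := by
    intro k
    have h1 : c.left ≫ G.hom = c'.left ≫ G.hom := (Over.w c).trans (Over.w c').symm
    have h2 : G.hom.appTop ≫ c.left.appTop = G.hom.appTop ≫ c'.left.appTop := by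
      rw [← Scheme.Hom.comp_appTop, ← Scheme.Hom.comp_appTop, h1]
    exact congrArg (fun m => m.hom ((Scheme.ΓSpecIso (CommRingCat.of K)).inv.hom k)) h2
  have key : ∀ (d : T ⟶ G) (x : Γ(G.left, ⊤)), d.left.appTop.hom x = d.left.appTop.hom (σ (ε x)) := by
    intro d x
    have hy : x - σ (ε x) ∈ RingHom.ker ε := by
      rw [RingHom.mem_ker, map_sub, hεσ, sub_self]
    have hn : IsNilpotent (x - σ (ε x)) := hnil hy
    have hn' : IsNilpotent (d.left.appTop.hom (x - σ (ε x))) := hn.map _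
    have h0 : d.left.appTop.hom (x - σ (ε x)) = 0 := hn'.eq_zero
    rw [map_sub, sub_eq_zero] at h0
    exact h0
  ext x
  rw [key c x, key c' x, hw]

open Groth.Agent.Lib.Helper26.H90c (jL jR)

/-- descent of a point of a pseudo-torsor under a finite connected group along a cover `K → L`
with `L ⊗ L` reduced -/
theorem exists_section {G X : Over (Spec (CommRingCat.of K))} [GrpObj G] [IsFinite G.hom]
    [ConnectedSpace G.left] (a : AlgGrp.Action G X) (h : NonAbH1.IsPseudoTorsorSch a)
    (L : Type u) [CommRing L] [Algebra K L] [Nontrivial L] [IsReduced (L ⊗[K] L)]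
    (s' : Spec (CommRingCat.of L) ⟶ X.left)
    (hs' : s' ≫ X.hom = Spec.map (CommRingCat.ofHom (algebraMap K L))) :
    ∃ s : Spec (CommRingCat.of K) ⟶ X.left, s ≫ X.hom = 𝟙 _ := by
  let t : Spec (CommRingCat.of K) ⟶ Spec (CommRingCat.of K) := 𝟙 _
  let s'o : spA t L ⟶ X := Over.homMk s' (by
    change s' ≫ X.hom = Spec.map (CommRingCat.ofHom (algebraMap K L)) ≫ 𝟙 _
    rw [hs', Category.comp_id])
  obtain ⟨c, hc, -⟩ := exists_unique_translate a h (spMap t (jL (A := K) K L) ≫ s'o)
    (spMap t (jR (A := K) K L) ≫ s'o)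
  have hred : IsReduced (spA t (L ⊗[K] L)).left :=
    show IsReduced (Spec (CommRingCat.of (L ⊗[K] L))) from inferInstance
  have hc1 : c = 1 := hom_ext_of_isReduced G η[G] _ c 1
  obtain ⟨s, hs⟩ := Groth.Agent.Lib.Helper26.H90g.exists_section_of_cob_gen a t K L s'o c hc 1 (by
    rw [hc1, MonObj.comp_one, MonObj.comp_one, _root_.mul_one])
  refine ⟨s, ?_⟩
  rw [hs]
  change Spec.map (CommRingCat.ofHom (RingHom.id K)) ≫ 𝟙 _ = 𝟙 _
  rw [Category.comp_id]
  exact Spec.map_id _

theorem isReduced_tensor_of_unramified (K L : Type u) [Field K] [CommRing L] [Algebra K L]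
    [Algebra.FormallyUnramified K L] [Algebra.FiniteType K L] : IsReduced (L ⊗[K] L) := by
  have h1 : Algebra.FormallyUnramified K (L ⊗[K] L) :=
    Algebra.FormallyUnramified.comp K L (L ⊗[K] L)
  have h2 : Algebra.EssFiniteType L (L ⊗[K] L) := inferInstance
  have h3 : Algebra.EssFiniteType K (L ⊗[K] L) := Algebra.EssFiniteType.comp K L (L ⊗[K] L)
  exact Algebra.FormallyUnramified.isReduced_of_field K (L ⊗[K] L)

/-- a nonempty affine piece of a member of a covering family, with a section over it -/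
theorem exists_affine_piece {S : Scheme.{u}} (X : Over S) (P : MorphismProperty Scheme.{u})
    {R : Presieve S} (hR : R ∈ Scheme.precoverage P S)
    (hsec : ∀ ⦃S' : Scheme.{u}⦄ (f : S' ⟶ S), R f → ∃ s : S' ⟶ X.left, s ≫ X.hom = f) (x : S) :
    ∃ (W : Scheme.{u}) (_ : IsAffine W) (_ : Nonempty W) (U : Scheme.{u}) (g : U ⟶ S) (j : W ⟶ U),
      IsOpenImmersion j ∧ P g ∧ ∃ s : W ⟶ X.left, s ≫ X.hom = j ≫ g := by
  obtain ⟨𝒰, rfl⟩ := R.exists_eq_preZeroHypercover
  obtain ⟨hsurj, hP⟩ := (Scheme.presieve₀_mem_precoverage_iff 𝒰).1 hR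
  obtain ⟨i, y, hy⟩ := hsurj x
  obtain ⟨σ0, hσ0⟩ := hsec (𝒰.f i) ⟨i⟩
  obtain ⟨w, hw⟩ := (𝒰.X i).affineCover.covers y
  exact ⟨(𝒰.X i).affineCover.X ((𝒰.X i).affineCover.idx y), inferInstance, ⟨w⟩, 𝒰.X i, 𝒰.f i,
    (𝒰.X i).affineCover.f _, inferInstance, hP i, (𝒰.X i).affineCover.f _ ≫ σ0, by
      rw [Category.assoc, hσ0]⟩

/-- the final step: a point with values in a nonzero `K`-algebra `L` with `L ⊗ L` reduced, given
as a morphism from an affine scheme -/
theorem exists_section_of_affine {G X : Over (Spec (CommRingCat.of K))} [GrpObj G] [IsFinite G.hom]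
    [ConnectedSpace G.left] (a : AlgGrp.Action G X) (h : NonAbH1.IsPseudoTorsorSch a)
    (L : Type u) [CommRing L] [Nontrivial L] (q : Spec (CommRingCat.of L) ⟶ Spec (CommRingCat.of K))
    (hred : letI : Algebra K L := (Spec.preimage q).hom.toAlgebra; IsReduced (L ⊗[K] L))
    (s' : Spec (CommRingCat.of L) ⟶ X.left) (hs' : s' ≫ X.hom = q) :
    ∃ s : Spec (CommRingCat.of K) ⟶ X.left, s ≫ X.hom = 𝟙 _ := by
  letI : Algebra K L := (Spec.preimage q).hom.toAlgebra
  have hq : q = Spec.map (CommRingCat.ofHom (algebraMap K L)) := (Spec.map_preimage q).symm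
  exact exists_section a h L s' (hs'.trans hq)

/-- the étale case -/
theorem exists_section_of_etale {G X : Over (Spec (CommRingCat.of K))} [GrpObj G] [IsFinite G.hom]
    [ConnectedSpace G.left] (a : AlgGrp.Action G X) (h : NonAbH1.IsPseudoTorsorSch a)
    (W : Scheme.{u}) [IsAffine W] [Nonempty W] (q0 : W ⟶ Spec (CommRingCat.of K)) [Etale q0]
    (s0 : W ⟶ X.left) (hs0 : s0 ≫ X.hom = q0) :
    ∃ s : Spec (CommRingCat.of K) ⟶ X.left, s ≫ X.hom = 𝟙 _ := by
  have hne : Nonempty (Spec (CommRingCat.of Γ(W, ⊤))) := ⟨W.isoSpec.hom (Classical.arbitrary W)⟩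
  have hnt : Nontrivial Γ(W, ⊤) := (PrimeSpectrum.nonempty_iff_nontrivial).mp hne
  refine exists_section_of_affine a h Γ(W, ⊤) (W.isoSpec.inv ≫ q0) ?_ (W.isoSpec.inv ≫ s0) (by
    rw [Category.assoc, hs0])
  letI : Algebra K Γ(W, ⊤) := (Spec.preimage (W.isoSpec.inv ≫ q0)).hom.toAlgebra
  have het : Etale (Spec.map (Spec.preimage (W.isoSpec.inv ≫ q0))) := by
    rw [Spec.map_preimage]
    infer_instance
  have het' : (Spec.preimage (W.isoSpec.inv ≫ q0)).hom.Etale :=
    (HasRingHomProperty.Spec_iff (P := @Etale)).mp het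
  have hE : Algebra.Etale K Γ(W, ⊤) := het'
  exact isReduced_tensor_of_unramified K Γ(W, ⊤)

theorem isReduced_tensor_of_perfect (K L : Type u) [Field K] [PerfectField K] [Field L]
    (φ : K →+* L) (hφ : φ.FiniteType) : letI := φ.toAlgebra; IsReduced (L ⊗[K] L) := by
  letI := φ.toAlgebra
  have h1 : Algebra.FiniteType K L := hφ
  have h2 : Module.Finite K L := finite_of_finite_type_of_isJacobsonRing K L
  have h3 : Algebra.IsSeparable K L := inferInstance
  have h4 : Algebra.FormallyUnramified K L := Algebra.FormallyUnramified.of_isSeparable K L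
  exact isReduced_tensor_of_unramified K L

/-- the case of a cover locally of finite type over a perfect field -/
theorem exists_section_of_lft_of_perfect [PerfectField K]
    {G X : Over (Spec (CommRingCat.of K))} [GrpObj G] [IsFinite G.hom]
    [ConnectedSpace G.left] (a : AlgGrp.Action G X) (h : NonAbH1.IsPseudoTorsorSch a)
    (W : Scheme.{u}) [IsAffine W] [Nonempty W] (q0 : W ⟶ Spec (CommRingCat.of K))
    [LocallyOfFiniteType q0] (s0 : W ⟶ X.left) (hs0 : s0 ≫ X.hom = q0) :
    ∃ s : Spec (CommRingCat.of K) ⟶ X.left, s ≫ X.hom = 𝟙 _ := by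
  have hne : Nonempty (Spec (CommRingCat.of Γ(W, ⊤))) := ⟨W.isoSpec.hom (Classical.arbitrary W)⟩
  have hnt : Nontrivial Γ(W, ⊤) := (PrimeSpectrum.nonempty_iff_nontrivial).mp hne
  obtain ⟨m, hm⟩ := Ideal.exists_maximal Γ(W, ⊤)
  letI : Field (Γ(W, ⊤) ⧸ m) := Ideal.Quotient.field m
  have hlft1 : LocallyOfFiniteType (Spec.map (CommRingCat.ofHom (Ideal.Quotient.mk m))) := by
    rw [HasRingHomProperty.Spec_iff (P := @LocallyOfFiniteType)]
    exact RingHom.FiniteType.of_surjective _ Ideal.Quotient.mk_surjective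
  refine exists_section_of_affine a h (Γ(W, ⊤) ⧸ m)
    (Spec.map (CommRingCat.ofHom (Ideal.Quotient.mk m)) ≫ W.isoSpec.inv ≫ q0) ?_
    (Spec.map (CommRingCat.ofHom (Ideal.Quotient.mk m)) ≫ W.isoSpec.inv ≫ s0) (by
    rw [Category.assoc, Category.assoc, hs0])
  have hlft : LocallyOfFiniteType (Spec.map (Spec.preimage
      (Spec.map (CommRingCat.ofHom (Ideal.Quotient.mk m)) ≫ W.isoSpec.inv ≫ q0))) := by
    rw [Spec.map_preimage]
    infer_instance
  have hft := (HasRingHomProperty.Spec_iff (P := @LocallyOfFiniteType)).mp hlft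
  exact isReduced_tensor_of_perfect K (Γ(W, ⊤) ⧸ m) _ hft

end Groth.Agent.Lib.Helper26.FinConn
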