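import Mathlib
set_option maxHeartbeats 800000
universe u
namespace Groth.Agent.Lib.Helper26.FinOrdGL

open Module

variable (R : Type u) [CommRing R] [IsDomain R] [IsDiscreteValuationRing R]
    (K : Type u) [Field K] [Algebra R K] [IsFractionRing R K]

lemma repr_extend {N : ℕ} (Λ : Submodule R (Fin N → K)) [Submodule.IsLattice K Λ]
    (b : Basis (Fin N) R Λ) (w : Λ) (i : Fin N) :
    (b.extendOfIsLattice K).repr (w : Fin N → K) i = algebraMap R K (b.repr w i) := by
  have h1 : (w : Fin N → K) = ∑ l, (algebraMap R K (b.repr w l)) • (b.extendOfIsLattice K) l := by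
    conv_lhs => rw [← b.sum_repr w]
    rw [Submodule.coe_sum]
    refine Finset.sum_congr rfl (fun l _ => ?_)
    rw [Submodule.coe_smul, Basis.extendOfIsLattice_apply, algebraMap_smul]
  conv_lhs => rw [h1]
  rw [Basis.repr_sum_self]

theorem core (N : ℕ) (g : GL (Fin N) K) (hg : IsOfFinOrder g) :
    ∃ (h : GL (Fin N) K) (g' : GL (Fin N) R),
      h * g * h⁻¹ = Matrix.GeneralLinearGroup.map (algebraMap R K) g' := by
  classical
  obtain ⟨m, hm0, hm⟩ := isOfFinOrder_iff_pow_eq_one.mp hg
  -- the lattice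
  let gen : Fin m × Fin N → (Fin N → K) := fun ij =>
    ((g ^ (ij.1 : ℕ) : GL (Fin N) K) : Matrix (Fin N) (Fin N) K).mulVec (Pi.single ij.2 1)
  let Λ : Submodule R (Fin N → K) := Submodule.span R (Set.range gen)
  have hfg : Λ.FG := Submodule.fg_span (Set.finite_range gen)
  have hsp : Submodule.span K (Λ : Set (Fin N → K)) = ⊤ := by
    rw [eq_top_iff, ← (Pi.basisFun K (Fin N)).span_eq, Submodule.span_le]
    rintro _ ⟨j, rfl⟩
    apply Submodule.subset_span
    apply Submodule.subset_span
    refine ⟨(⟨0, hm0⟩, j), ?_⟩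
    simp only [gen, pow_zero, Units.val_one, Matrix.one_mulVec]
    rw [Pi.basisFun_apply]
  haveI : Submodule.IsLattice K Λ := ⟨hfg, hsp⟩
  -- stability
  have hstab1 : ∀ v ∈ Λ, (g : Matrix (Fin N) (Fin N) K).mulVec v ∈ Λ := by
    intro v hv
    induction hv using Submodule.span_induction with
    | mem x hx =>
      obtain ⟨⟨i, j⟩, rfl⟩ := hx
      by_cases hi : (i : ℕ) + 1 < m
      · apply Submodule.subset_span
        refine ⟨(⟨(i : ℕ) + 1, hi⟩, j), ?_⟩
        simp only [gen]
        rw [Matrix.mulVec_mulVec, ← Units.val_mul, ← pow_succ']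
      · have him : (i : ℕ) + 1 = m := by have := i.2; omega
        apply Submodule.subset_span
        refine ⟨(⟨0, hm0⟩, j), ?_⟩
        simp only [gen]
        rw [Matrix.mulVec_mulVec, ← Units.val_mul, ← pow_succ', him, hm, pow_zero]
    | zero => rw [Matrix.mulVec_zero]; exact Submodule.zero_mem _
    | add x y _ _ hx hy => rw [Matrix.mulVec_add]; exact Submodule.add_mem _ hx hy
    | smul a x _ hx =>
      rw [← algebraMap_smul K a x, Matrix.mulVec_smul, algebraMap_smul]
      exact Submodule.smul_mem _ _ hx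
  have hstabn : ∀ n : ℕ, ∀ v ∈ Λ, ((g ^ n : GL (Fin N) K) : Matrix (Fin N) (Fin N) K).mulVec v ∈ Λ := by
    intro n
    induction n with
    | zero => intro v hv; simpa using hv
    | succ n ih =>
      intro v hv
      rw [pow_succ', Units.val_mul, ← Matrix.mulVec_mulVec]
      exact hstab1 _ (ih v hv)
  have hinv : g⁻¹ = g ^ (m - 1) := by
    apply inv_eq_of_mul_eq_one_right
    rw [← pow_succ', Nat.sub_add_cancel hm0, hm]
  have hstab2 : ∀ v ∈ Λ, ((g⁻¹ : GL (Fin N) K) : Matrix (Fin N) (Fin N) K).mulVec v ∈ Λ := by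
    intro v hv
    rw [hinv]
    exact hstabn _ v hv
  -- basis
  have hfr : Module.finrank R Λ = N := by
    rw [Submodule.IsLattice.finrank_of_pi K Λ]; simp
  let b : Basis (Fin N) R Λ := Module.finBasisOfFinrankEq R Λ hfr
  let bK : Basis (Fin N) K (Fin N → K) := b.extendOfIsLattice K
  let std : Basis (Fin N) K (Fin N → K) := Pi.basisFun K (Fin N)
  let G : (Fin N → K) →ₗ[K] (Fin N → K) := Matrix.toLin' (g : Matrix (Fin N) (Fin N) K)
  let G' : (Fin N → K) →ₗ[K] (Fin N → K) := Matrix.toLin' ((g⁻¹ : GL (Fin N) K) : Matrix (Fin N) (Fin N) K)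
  let r : Matrix (Fin N) (Fin N) R := fun i j => b.repr ⟨G (b j), hstab1 _ (b j).2⟩ i
  let r' : Matrix (Fin N) (Fin N) R := fun i j => b.repr ⟨G' (b j), hstab2 _ (b j).2⟩ i
  have hA : LinearMap.toMatrix bK bK G = r.map (algebraMap R K) := by
    refine Matrix.ext (fun i j => ?_)
    rw [LinearMap.toMatrix_apply, Matrix.map_apply]
    have : G (bK j) = ((⟨G (b j), hstab1 _ (b j).2⟩ : Λ) : Fin N → K) := by
      simp only [bK, Basis.extendOfIsLattice_apply]
    rw [this, repr_extend]
  have hA' : LinearMap.toMatrix bK bK G' = r'.map (algebraMap R K) := by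
    refine Matrix.ext (fun i j => ?_)
    rw [LinearMap.toMatrix_apply, Matrix.map_apply]
    have : G' (bK j) = ((⟨G' (b j), hstab2 _ (b j).2⟩ : Λ) : Fin N → K) := by
      simp only [bK, Basis.extendOfIsLattice_apply]
    rw [this, repr_extend]
  have hGG' : G ∘ₗ G' = LinearMap.id := by
    simp only [G, G']
    rw [← Matrix.toLin'_mul, ← Units.val_mul, mul_inv_cancel, Units.val_one, Matrix.toLin'_one]
  have hG'G : G' ∘ₗ G = LinearMap.id := by
    simp only [G, G']
    rw [← Matrix.toLin'_mul, ← Units.val_mul, inv_mul_cancel, Units.val_one, Matrix.toLin'_one]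
  have hinj : Function.Injective (fun M : Matrix (Fin N) (Fin N) R => M.map (algebraMap R K)) :=
    Matrix.map_injective (IsFractionRing.injective R K)
  have hrr' : r * r' = 1 := by
    apply hinj
    change (r * r').map (algebraMap R K) = (1 : Matrix (Fin N) (Fin N) R).map (algebraMap R K)
    rw [Matrix.map_mul, ← hA, ← hA', ← LinearMap.toMatrix_comp, hGG', LinearMap.toMatrix_id,
      Matrix.map_one _ (map_zero _) (map_one _)]
  have hr'r : r' * r = 1 := by
    apply hinj
    change (r' * r).map (algebraMap R K) = (1 : Matrix (Fin N) (Fin N) R).map (algebraMap R K)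
    rw [Matrix.map_mul, ← hA, ← hA', ← LinearMap.toMatrix_comp, hG'G, LinearMap.toMatrix_id,
      Matrix.map_one _ (map_zero _) (map_one _)]
  let h : GL (Fin N) K := ⟨bK.toMatrix std, std.toMatrix bK,
    Basis.toMatrix_mul_toMatrix_flip _ _, Basis.toMatrix_mul_toMatrix_flip _ _⟩
  let g' : GL (Fin N) R := ⟨r, r', hrr', hr'r⟩
  refine ⟨h, g', ?_⟩
  apply Units.ext
  rw [Units.val_mul, Units.val_mul]
  change bK.toMatrix std * (g : Matrix (Fin N) (Fin N) K) * std.toMatrix bK = r.map (algebraMap R K)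
  rw [← hA]
  have hstd : LinearMap.toMatrix std std G = (g : Matrix (Fin N) (Fin N) K) := by
    simp only [std, G]
    rw [LinearMap.toMatrix_eq_toMatrix', LinearMap.toMatrix'_toLin']
  rw [← hstd]
  exact basis_toMatrix_mul_linearMap_toMatrix_mul_basis_toMatrix bK std bK std G

end Groth.Agent.Lib.Helper26.FinOrdGL
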