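import Mathlib.RingTheory.TensorProduct.Free
import Mathlib.LinearAlgebra.Charpoly.ToMatrix
import Mathlib.LinearAlgebra.Charpoly.Basic
import Mathlib.LinearAlgebra.Matrix.Charpoly.Basic
import Mathlib.LinearAlgebra.Matrix.ToLin
import Mathlib.RingTheory.TensorProduct.Finite

/-!
# Characteristic polynomial of multiplication in `T ⊗ A` (helper26)
-/

universe u v w w'
open TensorProduct

namespace Groth.Agent.Lib.Helper26.FiniteInv

section Chi

variable {k : Type u} [Field k] {A : Type v} [CommRing A] [Algebra k A] [Module.Finite k A]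

/-- the characteristic polynomial of multiplication by `y` on the free `T`-module `T ⊗ A` -/
noncomputable def chi (T : Type w) [CommRing T] [Algebra k T] (y : T ⊗[k] A) : Polynomial T :=
  (Algebra.lmul T (T ⊗[k] A) y).charpoly

variable {T : Type w} [CommRing T] [Algebra k T] {T' : Type w'} [CommRing T'] [Algebra k T']

theorem chi_monic (y : T ⊗[k] A) : (chi T y).Monic :=
  LinearMap.charpoly_monic _

theorem chi_eq_charpoly_leftMulMatrix {ι : Type*} [Fintype ι] [DecidableEq ι]
    (b : Module.Basis ι k A) (y : T ⊗[k] A) :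
    chi T y = (Algebra.leftMulMatrix (Algebra.TensorProduct.basis T b) y).charpoly := by
  rw [chi, Algebra.leftMulMatrix_apply, LinearMap.charpoly_toMatrix]

theorem repr_map {ι : Type*} [Fintype ι] [DecidableEq ι] (b : Module.Basis ι k A)
    (φ : T →ₐ[k] T') (z : T ⊗[k] A) (i : ι) :
    (Algebra.TensorProduct.basis T' b).repr
      (Algebra.TensorProduct.map φ (AlgHom.id k A) z) i =
      φ ((Algebra.TensorProduct.basis T b).repr z i) := by
  induction z using TensorProduct.induction_on with
  | zero => simp
  | tmul t a =>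
    simp [Algebra.TensorProduct.basis_repr_tmul, Algebra.smul_def]
  | add x y hx hy => simp only [map_add, Finsupp.add_apply, hx, hy]

/-- base change of the characteristic polynomial -/
theorem chi_map (φ : T →ₐ[k] T') (y : T ⊗[k] A) :
    chi T' (Algebra.TensorProduct.map φ (AlgHom.id k A) y) = (chi T y).map (φ : T →+* T') := by
  classical
  let b := Module.Free.chooseBasis k A
  rw [chi_eq_charpoly_leftMulMatrix b, chi_eq_charpoly_leftMulMatrix b, ← Matrix.charpoly_map]
  congr 1
  ext i j
  rw [Matrix.map_apply, Algebra.leftMulMatrix_eq_repr_mul, Algebra.leftMulMatrix_eq_repr_mul]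
  change _ = φ _
  rw [← repr_map b φ]
  congr 2
  rw [map_mul]
  congr 1
  simp

/-- invariance under algebra automorphisms -/
theorem chi_algEquiv (e : (T ⊗[k] A) ≃ₐ[T] (T ⊗[k] A)) (y : T ⊗[k] A) :
    chi T (e y) = chi T y := by
  rw [chi, chi, ← LinearEquiv.charpoly_conj e.toLinearEquiv (Algebra.lmul T (T ⊗[k] A) y)]
  congr 1
  ext z
  simp [LinearEquiv.conj_apply]

/-- Cayley–Hamilton -/
theorem aeval_chi (y : T ⊗[k] A) : Polynomial.aeval y (chi T y) = 0 := by
  have h := LinearMap.aeval_self_charpoly (Algebra.lmul T (T ⊗[k] A) y)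
  rw [Polynomial.aeval_algHom_apply] at h
  have h2 := congrArg (fun f => f 1) h
  rw [chi]
  simpa using h2

end Chi

end Groth.Agent.Lib.Helper26.FiniteInv
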