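import Groth.Agent.Lib.Helper26.FiniteInvA
import Groth.Prelude.Def_GLin
import Mathlib.RingTheory.HopfAlgebra.Basic
import Mathlib.RingTheory.HopfAlgebra.Convolution
import Mathlib.RingTheory.Bialgebra.Hom

/-!
# The shear automorphism of `(R ⊗ A) ⊗ A` for a Hopf algebra `A` (helper26)
-/

universe u v w
open TensorProduct

namespace Groth.Agent.Lib.Helper26.FiniteInv

section Shear

variable {k : Type u} [Field k] {A : Type v} [CommRing A] [HopfAlgebra k A]
  {R : Type w} [CommRing R] [Algebra k R]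

variable (k A R) in
/-- `b ↦ Σ (1 ⊗ b₁) ⊗ b₂` -/
noncomputable def gmap : A →ₐ[k] (R ⊗[k] A) ⊗[k] A :=
  (Algebra.TensorProduct.map (Algebra.TensorProduct.includeRight : A →ₐ[k] R ⊗[k] A)
    (AlgHom.id k A)).comp (Bialgebra.comulAlgHom k A)

variable (k A R) in
/-- the shear map `t ⊗ b ↦ Σ (t · (1 ⊗ b₁)) ⊗ b₂`, an endomorphism of `(R ⊗ A)`-algebras -/
noncomputable def Psi : (R ⊗[k] A) ⊗[k] A →ₐ[R ⊗[k] A] (R ⊗[k] A) ⊗[k] A :=
  Algebra.TensorProduct.lift (Algebra.ofId (R ⊗[k] A) ((R ⊗[k] A) ⊗[k] A)) (gmap k A R)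
    (fun _ _ => Commute.all _ _)

theorem Psi_tmul (t : R ⊗[k] A) (b : A) :
    Psi k A R (t ⊗ₜ[k] b) = (t ⊗ₜ[k] (1 : A)) * gmap k A R b := by
  rw [Psi, Algebra.TensorProduct.lift_tmul]
  rfl

/-- `(a ⊗ b) ⊗ c ↦ (1 ⊗ a b) ⊗ c` -/
noncomputable def δ3 : (A ⊗[k] A) ⊗[k] A →ₗ[k] (R ⊗[k] A) ⊗[k] A :=
  ((Algebra.TensorProduct.includeRight : A →ₐ[k] R ⊗[k] A).toLinearMap ∘ₗ
    LinearMap.mul' k A).rTensor A

theorem Psi_includeRight_tmul (a b : A) :
    Psi k A R (((1 : R) ⊗ₜ[k] a) ⊗ₜ[k] b) =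
      δ3 ((TensorProduct.assoc k A A A).symm (a ⊗ₜ[k] Coalgebra.comul (R := k) b)) := by
  rw [Psi_tmul, gmap, AlgHom.comp_apply, Bialgebra.comulAlgHom_apply]
  generalize Coalgebra.comul (R := k) b = w
  induction w using TensorProduct.induction_on with
  | zero => simp
  | tmul x y => simp [δ3]
  | add x y hx hy => simp only [map_add, mul_add, TensorProduct.tmul_add, hx, hy]

theorem assoc_symm_lTensor_rTensor (f : A →ₗ[k] A) (z : A ⊗[k] A) :
    (TensorProduct.assoc k A A A).symm
      ((Coalgebra.comul (R := k)).lTensor A (f.rTensor A z)) =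
    (f.rTensor A).rTensor A ((TensorProduct.assoc k A A A).symm
      ((Coalgebra.comul (R := k)).lTensor A z)) := by
  induction z using TensorProduct.induction_on with
  | zero => simp
  | tmul a b =>
    simp only [LinearMap.rTensor_tmul, LinearMap.lTensor_tmul]
    generalize Coalgebra.comul (R := k) b = w
    induction w using TensorProduct.induction_on with
    | zero => simp
    | tmul x y => simp
    | add x y hx hy => simp only [map_add, TensorProduct.tmul_add, hx, hy]
  | add x y hx hy => simp only [map_add, hx, hy]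

/-- `Σ (1 ⊗ S(b₁)) ⊗ b₂` is mapped to `(1 ⊗ 1) ⊗ b` -/
theorem Psi_antipode (b : A) :
    Psi k A R ((Algebra.TensorProduct.map
      ((Algebra.TensorProduct.includeRight : A →ₐ[k] R ⊗[k] A).comp
        (HopfAlgebra.antipodeAlgHom k A)) (AlgHom.id k A)) (Coalgebra.comul (R := k) b)) =
      ((1 : R) ⊗ₜ[k] (1 : A)) ⊗ₜ[k] b := by
  have h1 : ∀ z : A ⊗[k] A, Psi k A R ((Algebra.TensorProduct.map
      ((Algebra.TensorProduct.includeRight : A →ₐ[k] R ⊗[k] A).comp
        (HopfAlgebra.antipodeAlgHom k A)) (AlgHom.id k A)) z) =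
      δ3 ((TensorProduct.assoc k A A A).symm
        ((Coalgebra.comul (R := k)).lTensor A ((HopfAlgebra.antipode k).rTensor A z))) := by
    intro z
    induction z using TensorProduct.induction_on with
    | zero => simp
    | tmul x y =>
      simp only [Algebra.TensorProduct.map_tmul, AlgHom.comp_apply, AlgHom.id_apply,
        LinearMap.rTensor_tmul, LinearMap.lTensor_tmul]
      exact Psi_includeRight_tmul _ _
    | add x y hx hy => simp only [map_add, hx, hy]
  rw [h1, assoc_symm_lTensor_rTensor, Coalgebra.coassoc_symm_apply]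
  -- now ((S ⊗ id) ⊗ id) ((Δ ⊗ id) (Δ b))
  rw [← LinearMap.rTensor_comp_apply, δ3, ← LinearMap.rTensor_comp_apply]
  have h2 : (((Algebra.TensorProduct.includeRight : A →ₐ[k] R ⊗[k] A).toLinearMap ∘ₗ
      LinearMap.mul' k A) ∘ₗ (HopfAlgebra.antipode k).rTensor A ∘ₗ Coalgebra.comul (R := k)) =
      (Algebra.linearMap k (R ⊗[k] A)) ∘ₗ Coalgebra.counit (R := k) (A := A) := by
    ext a
    simp only [LinearMap.comp_apply]
    rw [HopfAlgebra.mul_antipode_rTensor_comul_apply]
    simp only [Algebra.algebraMap_eq_smul_one, AlgHom.toLinearMap_apply, map_smul, map_one,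
      Algebra.linearMap_apply]
  rw [h2, LinearMap.rTensor_comp_apply, Coalgebra.rTensor_counit_comul]
  simp [Algebra.TensorProduct.one_def]

theorem Psi_surjective : Function.Surjective (Psi k A R) := by
  intro z
  induction z using TensorProduct.induction_on with
  | zero => exact ⟨0, map_zero _⟩
  | tmul t b =>
    refine ⟨t • ((Algebra.TensorProduct.map
      ((Algebra.TensorProduct.includeRight : A →ₐ[k] R ⊗[k] A).comp
        (HopfAlgebra.antipodeAlgHom k A)) (AlgHom.id k A)) (Coalgebra.comul (R := k) b)), ?_⟩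
    rw [map_smul, Psi_antipode, TensorProduct.smul_tmul', smul_eq_mul,
      ← Algebra.TensorProduct.one_def, mul_one]
  | add x y hx hy =>
    obtain ⟨x', rfl⟩ := hx
    obtain ⟨y', rfl⟩ := hy
    exact ⟨x' + y', map_add _ _ _⟩

end Shear

end Groth.Agent.Lib.Helper26.FiniteInv
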