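import Groth.Agent.Lib.Helper26.FiniteInvB
import Mathlib.RingTheory.Adjoin.Tower
import Mathlib.RingTheory.IntegralClosure.IsIntegralClosure.Basic
import Mathlib.RingTheory.Polynomial.Basic
import Mathlib.Algebra.Polynomial.Lifts
import Mathlib.RingTheory.OrzechProperty
import Mathlib.RingTheory.FiniteType

/-!
# Invariants of a finite group scheme acting on an affine scheme of finite type (helper26)
-/

universe u v w
open TensorProduct

namespace Groth.Agent.Lib.Helper26.FiniteInv

open HopfRep

section Main

variable {k : Type u} [Field k] {A : Type v} [CommRing A] [HopfAlgebra k A] [Module.Finite k A]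
  {R : Type w} [CommRing R] [Algebra k R] [Comod k A R] [GLin.IsCoactAlg k A R]

variable (k A R) in
noncomputable def PsiEquiv : ((R ⊗[k] A) ⊗[k] A) ≃ₐ[R ⊗[k] A] ((R ⊗[k] A) ⊗[k] A) :=
  AlgEquiv.ofBijective (Psi k A R)
    ⟨OrzechProperty.injective_of_surjective_endomorphism (Psi k A R).toLinearMap Psi_surjective,
      Psi_surjective⟩

omit [Module.Finite k A] [Comod k A R] [GLin.IsCoactAlg k A R] in
theorem assoc_Psi_includeLeft (x : R ⊗[k] A) :
    TensorProduct.assoc k R A A (Psi k A R ((Algebra.TensorProduct.map
      (Algebra.TensorProduct.includeLeft : R →ₐ[k] R ⊗[k] A) (AlgHom.id k A)) x)) =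
      (Coalgebra.comul (R := k)).lTensor R x := by
  induction x using TensorProduct.induction_on with
  | zero => simp
  | tmul r a =>
    rw [Algebra.TensorProduct.map_tmul, AlgHom.id_apply, Psi_tmul, gmap, AlgHom.comp_apply,
      Bialgebra.comulAlgHom_apply, LinearMap.lTensor_tmul]
    generalize Coalgebra.comul (R := k) a = w
    induction w using TensorProduct.induction_on with
    | zero => simp
    | tmul x y => simp
    | add x y hx hy => simp only [map_add, mul_add, TensorProduct.tmul_add, hx, hy]
  | add x y hx hy => simp only [map_add, hx, hy]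

omit [Module.Finite k A] in
theorem Psi_coact (r : R) :
    Psi k A R ((Algebra.TensorProduct.map
      (Algebra.TensorProduct.includeLeft : R →ₐ[k] R ⊗[k] A) (AlgHom.id k A))
        (GLin.coactAlgHom k A R r)) =
      (Algebra.TensorProduct.map (GLin.coactAlgHom k A R) (AlgHom.id k A))
        (GLin.coactAlgHom k A R r) := by
  apply (TensorProduct.assoc k R A A).injective
  rw [assoc_Psi_includeLeft]
  have h := congrArg (fun F => F r) (Comod.coassoc (k := k) (A := A) (V := R))
  simp only [LinearMap.comp_apply, LinearEquiv.coe_coe] at h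
  rw [GLin.coactAlgHom_apply, ← h]
  congr 1

/-- the coefficients of the characteristic polynomial of `ρ r` are invariant -/
theorem chi_coact_map_eq (r : R) :
    (chi R (GLin.coactAlgHom k A R r)).map ((GLin.coactAlgHom k A R : R →ₐ[k] R ⊗[k] A) : R →+* R ⊗[k] A) =
      (chi R (GLin.coactAlgHom k A R r)).map
        ((Algebra.TensorProduct.includeLeft : R →ₐ[k] R ⊗[k] A) : R →+* R ⊗[k] A) := by
  rw [← chi_map, ← chi_map, ← Psi_coact]
  exact chi_algEquiv (PsiEquiv k A R) _

theorem coeff_chi_mem_invariants (r : R) (i : ℕ) :
    (chi R (GLin.coactAlgHom k A R r)).coeff i ∈ GLin.invariants k A R := by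
  have h := congrArg (fun p => Polynomial.coeff p i) (chi_coact_map_eq (k := k) (A := A) r)
  simp only [Polynomial.coeff_map] at h
  exact h

variable (k A R) in
/-- `id ⊗ ε : R ⊗ A → R` -/
noncomputable def epsR : R ⊗[k] A →ₐ[R] R :=
  Algebra.TensorProduct.lift (AlgHom.id R R)
    ((Algebra.ofId k R).comp (Bialgebra.counitAlgHom k A)) (fun _ _ => Commute.all _ _)

omit [Module.Finite k A] in
theorem epsR_coact (r : R) : epsR k A R (GLin.coactAlgHom k A R r) = r := by
  have h := congrArg (fun F => F r) (Comod.counit_comp (k := k) (A := A) (V := R))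
  simp only [LinearMap.comp_apply, LinearMap.flip_apply, TensorProduct.mk_apply] at h
  have h2 : ∀ z : R ⊗[k] A, epsR k A R z =
      TensorProduct.rid k R ((Coalgebra.counit (R := k) (A := A)).lTensor R z) := by
    intro z
    induction z using TensorProduct.induction_on with
    | zero => simp
    | tmul x y => simp [epsR, Algebra.smul_def, mul_comm]
    | add x y hx hy => simp only [map_add, hx, hy]
  rw [h2, GLin.coactAlgHom_apply, h]
  simp

theorem aeval_chi_coact (r : R) :
    Polynomial.aeval r (chi R (GLin.coactAlgHom k A R r)) = 0 := by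
  have h := congrArg (epsR k A R) (aeval_chi (k := k) (A := A) (GLin.coactAlgHom k A R r))
  rw [← Polynomial.aeval_algHom_apply, epsR_coact, map_zero] at h
  exact h

theorem isIntegral_invariants (r : R) : IsIntegral (GLin.invariants k A R) r := by
  set p := chi R (GLin.coactAlgHom k A R r) with hp
  have hl : p ∈ Polynomial.lifts (algebraMap (GLin.invariants k A R) R) := by
    rw [Polynomial.lifts_iff_coeff_lifts]
    intro i
    exact ⟨⟨p.coeff i, coeff_chi_mem_invariants r i⟩, rfl⟩
  obtain ⟨q, hq, _, hqm⟩ := Polynomial.lifts_and_natDegree_eq_and_monic hl (chi_monic _)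
  refine ⟨q, hqm, ?_⟩
  rw [← Polynomial.eval_map, hq]
  have := aeval_chi_coact (k := k) (A := A) r
  rwa [Polynomial.aeval_def, Polynomial.eval₂_eq_eval_map, Algebra.algebraMap_self,
    Polynomial.map_id] at this

theorem finite_and_finiteType [Algebra.FiniteType k R] :
    Algebra.FiniteType k ↥(GLin.invariants k A R) ∧ Module.Finite ↥(GLin.invariants k A R) R := by
  haveI : Algebra.IsIntegral (GLin.invariants k A R) R := ⟨isIntegral_invariants⟩
  haveI : Algebra.FiniteType (GLin.invariants k A R) R :=
    Algebra.FiniteType.of_restrictScalars_finiteType k _ _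
  have hfin : Module.Finite ↥(GLin.invariants k A R) R := Algebra.IsIntegral.finite
  refine ⟨?_, hfin⟩
  constructor
  exact fg_of_fg_of_fg k (GLin.invariants k A R) R (Algebra.FiniteType.out)
    hfin.fg_top Subtype.val_injective

end Main

end Groth.Agent.Lib.Helper26.FiniteInv
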