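import Mathlib
import Groth.Prelude.Def_FlatCA
set_option maxHeartbeats 400000
universe u
namespace Groth.Agent.Lib.Helper26.FlatLocBase
open TensorProduct

theorem flat_localized_of_factor {R' S' : Type u} [CommRing R'] [CommRing S'] [Algebra R' S']
    {M' : Type u} [AddCommGroup M'] [Module S' M'] [Module R' M'] [IsScalarTower R' S' M']
    (T : Submonoid S')
    {N : Type u} [AddCommGroup N] [Module S' N] [Module R' N] [IsScalarTower R' S' N]
    [Module.Flat R' N]
    (g : M' →ₗ[S'] N) (lam : N →ₗ[S'] LocalizedModule T M')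
    (hlg : ∀ m, lam (g m) = LocalizedModule.mkLinearMap T M' m) :
    Module.Flat R' (LocalizedModule T M') := by
  rw [Module.Flat.iff_forall_isTrivialRelation]
  intro l f x hx
  obtain ⟨t, ht⟩ := IsLocalizedModule.exist_integer_multiples_of_finite T
    (LocalizedModule.mkLinearMap T M') x
  choose m hm using ht
  -- hm : ∀ i, mkLinearMap (m i) = t • x i
  have h0 : LocalizedModule.mkLinearMap T M' (∑ i, f i • m i) = 0 := by
    rw [map_sum]
    have : ∀ i, LocalizedModule.mkLinearMap T M' (f i • m i) = (t : S') • (f i • x i) := by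
      intro i
      rw [LinearMap.map_smul_of_tower, hm i, smul_comm]
    rw [Finset.sum_congr rfl (fun i _ => this i), ← Finset.smul_sum, hx, smul_zero]
  obtain ⟨u, hu⟩ := (IsLocalizedModule.eq_zero_iff T (LocalizedModule.mkLinearMap T M')).mp h0
  have h1 : ∑ i, f i • g ((u : S') • m i) = 0 := by
    have : ∀ i, f i • g ((u : S') • m i) = g ((u : S') • (f i • m i)) := by
      intro i
      rw [← LinearMap.map_smul_of_tower, smul_comm]
    rw [Finset.sum_congr rfl (fun i _ => this i), ← map_sum, ← Finset.smul_sum]
    have hu' : (u : S') • ∑ i, f i • m i = 0 := hu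
    rw [hu', map_zero]
  obtain ⟨k, a, y, hxy, hfa⟩ := Module.Flat.isTrivialRelation_of_sum_smul_eq_zero h1
  refine ⟨k, a, fun j => LocalizedModule.divBy (u * t) (lam (y j)), ?_, hfa⟩
  intro i
  have e1 : ((u * t : T) : S') • x i = ∑ j, a i j • lam (y j) := by
    have hxy' : g ((u : S') • m i) = ∑ j, a i j • y j := hxy i
    rw [Submonoid.coe_mul, mul_smul, ← hm i, ← map_smul, ← hlg, hxy', map_sum]
    refine Finset.sum_congr rfl fun j _ => ?_
    rw [LinearMap.map_smul_of_tower]
  have e2 : x i = LocalizedModule.divBy (u * t) (((u * t : T) : S') • x i) := by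
    have := LocalizedModule.divBy_mul_by (u * t) (x i)
    rw [Module.algebraMap_end_apply] at this
    exact this.symm
  rw [e2, e1, map_sum]
  refine Finset.sum_congr rfl fun j _ => ?_
  rw [LinearMap.map_smul_of_tower]

end Groth.Agent.Lib.Helper26.FlatLocBase

namespace Groth.Agent.Lib.Helper26.FlatLocBase
open TensorProduct

theorem main {R S R' S' : Type u} [CommRing R] [CommRing S] [CommRing R'] [CommRing S']
    [Algebra R S] [Algebra R R'] [Algebra S S'] [Algebra R' S'] [Algebra R S'] [IsScalarTower R S S']
    [IsScalarTower R R' S'] [Algebra.IsPushout R S R' S']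
    (I : Ideal R) (I' : Ideal R') (hII' : I.map (algebraMap R R') ≤ I')
    {M M' : Type u} [AddCommGroup M] [Module S M] [Module R M] [IsScalarTower R S M]
    [AddCommGroup M'] [Module S' M'] [Module R' M'] [IsScalarTower R' S' M'] [Module S M'] [IsScalarTower S S' M']
    (f : M →ₗ[S] M') (hf : IsBaseChange S' f) (J : Ideal S)
    (h : (∀ (q : Ideal S) [q.IsPrime], I.map (algebraMap R S) ⊔ J ≤ q → FlatCA.FlatAt R q M)) :
    (∀ (q : Ideal S') [q.IsPrime], I'.map (algebraMap R' S') ⊔ J.map (algebraMap S S') ≤ q → FlatCA.FlatAt R' q M') := by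
  intro q' _ hq'
  set q : Ideal S := q'.comap (algebraMap S S') with hq
  haveI : q.IsPrime := Ideal.comap_isPrime _ _
  have hqc : I.map (algebraMap R S) ⊔ J ≤ q := by
    refine sup_le ?_ ?_
    · rw [Ideal.map_le_iff_le_comap]
      intro i hi
      change algebraMap S S' (algebraMap R S i) ∈ q'
      rw [← IsScalarTower.algebraMap_apply, IsScalarTower.algebraMap_apply R R' S']
      apply hq'
      apply Ideal.mem_sup_left
      apply Ideal.mem_map_of_mem
      exact hII' (Ideal.mem_map_of_mem _ hi)
    · rw [← Ideal.map_le_iff_le_comap]; exact le_trans le_sup_right hq'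
  have hfl : Module.Flat R (LocalizedModule q.primeCompl M) := h q hqc
  haveI : Algebra.IsPushout R R' S S' := Algebra.IsPushout.symm inferInstance
  let e : S' ⊗[S] (LocalizedModule q.primeCompl M) ≃ₗ[R'] R' ⊗[R] (LocalizedModule q.primeCompl M) :=
    Algebra.IsPushout.cancelBaseChange R R' S S' (LocalizedModule q.primeCompl M)
  haveI : Module.Flat R' (S' ⊗[S] (LocalizedModule q.primeCompl M)) := Module.Flat.of_linearEquiv e
  let g : M' →ₗ[S'] S' ⊗[S] (LocalizedModule q.primeCompl M) :=
    (LinearMap.baseChange S' (LocalizedModule.mkLinearMap q.primeCompl M)) ∘ₗ hf.equiv.symm.toLinearMap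
  have hunits : ∀ s : q.primeCompl, IsUnit (algebraMap S
      (Module.End S (LocalizedModule q'.primeCompl M')) s) := by
    intro s
    have hs : algebraMap S S' s ∈ q'.primeCompl := s.2
    have h1 := IsLocalizedModule.map_units (LocalizedModule.mkLinearMap q'.primeCompl M')
      ⟨algebraMap S S' s, hs⟩
    rw [Module.End.isUnit_iff] at h1 ⊢
    convert h1 using 1
    ext x
    simp only [Module.algebraMap_end_apply]
    rw [algebraMap_smul]
  let l : LocalizedModule q.primeCompl M →ₗ[S] LocalizedModule q'.primeCompl M' :=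
    IsLocalizedModule.lift q.primeCompl (LocalizedModule.mkLinearMap q.primeCompl M)
      (((LocalizedModule.mkLinearMap q'.primeCompl M').restrictScalars S) ∘ₗ f) hunits
  let lam : S' ⊗[S] (LocalizedModule q.primeCompl M) →ₗ[S'] LocalizedModule q'.primeCompl M' :=
    LinearMap.liftBaseChange S' l
  have hlg : ∀ m, lam (g m) = LocalizedModule.mkLinearMap q'.primeCompl M' m := by
    have := hf.algHom_ext (lam ∘ₗ g) (LocalizedModule.mkLinearMap q'.primeCompl M') (by
      intro x
      simp only [g, lam, l, LinearMap.comp_apply, LinearEquiv.coe_coe, hf.equiv_symm_apply,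
        LinearMap.baseChange_tmul, LinearMap.liftBaseChange_tmul, one_smul,
        IsLocalizedModule.lift_apply, LinearMap.restrictScalars_apply])
    intro m
    exact LinearMap.congr_fun this m
  exact flat_localized_of_factor q'.primeCompl g lam hlg

end Groth.Agent.Lib.Helper26.FlatLocBase
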