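import Mathlib
set_option maxHeartbeats 800000
set_option linter.style.haveILetI false
namespace Groth.Agent.Lib.Helper26.FrobSep
open Polynomial

universe u

lemma charP_Ω (k : Type u) [Field k] (p : ℕ) [CharP k p] (Ω : Type u) [Field Ω] [Algebra k Ω] :
    CharP Ω p := charP_of_injective_algebraMap (algebraMap k Ω).injective p

variable {k : Type u} [Field k] (p : ℕ) [Fact p.Prime] [CharP k p]
  {Ω : Type u} [Field Ω] [Algebra k Ω] (e : ℕ)

/-- the field `k^{1/q}` inside `Ω` -/
abbrev kq : IntermediateField k Ω :=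
  IntermediateField.adjoin k {y : Ω | y ^ (p ^ e) ∈ Set.range (algebraMap k Ω)}



lemma pow_mem_range (z : Ω) (hz : z ∈ kq (k := k) p (Ω := Ω) e) :
    z ^ (p ^ e) ∈ Set.range (algebraMap k Ω) := by
  haveI := charP_Ω k p Ω
  induction hz using IntermediateField.adjoin_induction with
  | mem y hy => exact hy
  | algebraMap c => exact ⟨c ^ (p ^ e), by rw [map_pow]⟩
  | add a b _ _ ha hb =>
    obtain ⟨a', ha'⟩ := ha
    obtain ⟨b', hb'⟩ := hb
    exact ⟨a' + b', by rw [map_add, ha', hb', add_pow_char_pow]⟩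
  | inv a _ ha =>
    obtain ⟨a', ha'⟩ := ha
    exact ⟨a'⁻¹, by rw [map_inv₀, ha', inv_pow]⟩
  | mul a b _ _ ha hb =>
    obtain ⟨a', ha'⟩ := ha
    obtain ⟨b', hb'⟩ := hb
    exact ⟨a' * b', by rw [map_mul, ha', hb', mul_pow]⟩

/-- the `q`-th power map `k^{1/q} → k` -/
noncomputable def phi' : kq (k := k) p (Ω := Ω) e → k := fun z =>
  (pow_mem_range p e z.1 z.2).choose

lemma phi'_spec (z : kq (k := k) p (Ω := Ω) e) :
    algebraMap k Ω (phi' p e z) = (z : Ω) ^ (p ^ e) :=
  (pow_mem_range p e z.1 z.2).choose_spec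

/-- as a ring hom -/
noncomputable def phiHom : kq (k := k) p (Ω := Ω) e →+* k where
  toFun := phi' p e
  map_one' := by
    apply (algebraMap k Ω).injective
    rw [phi'_spec, map_one]; simp
  map_mul' a b := by
    apply (algebraMap k Ω).injective
    rw [map_mul, phi'_spec, phi'_spec, phi'_spec]; simp [mul_pow]
  map_zero' := by
    apply (algebraMap k Ω).injective
    rw [phi'_spec, map_zero, ZeroMemClass.coe_zero,
      zero_pow (pow_pos (Fact.out : p.Prime).pos e).ne']
  map_add' a b := by
    haveI := charP_Ω k p Ω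
    apply (algebraMap k Ω).injective
    rw [map_add, phi'_spec, phi'_spec, phi'_spec]; simp [add_pow_char_pow]

lemma phiHom_spec (z : kq (k := k) p (Ω := Ω) e) :
    algebraMap k Ω (phiHom p e z) = (z : Ω) ^ (p ^ e) := phi'_spec p e z

lemma phiHom_bijective [IsAlgClosed Ω] : Function.Bijective (phiHom (k := k) p (Ω := Ω) e) := by
  refine ⟨(phiHom p e).injective, fun c => ?_⟩
  obtain ⟨z, hz⟩ := IsAlgClosed.exists_pow_nat_eq (algebraMap k Ω c) (n := p ^ e)
    (pow_pos (Fact.out : p.Prime).pos e)
  have hzk : z ∈ kq (k := k) p (Ω := Ω) e :=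
    IntermediateField.subset_adjoin _ _ ⟨c, hz.symm⟩
  refine ⟨⟨z, hzk⟩, ?_⟩
  apply (algebraMap k Ω).injective
  rw [phiHom_spec, hz]

/-- forward transport: separable over `k^{1/q}` ⇒ `x^q` separable over `k` -/
lemma sep_pow_of_sep (x : Ω) (hx : IsSeparable (kq (k := k) p (Ω := Ω) e) x) :
    IsSeparable k (x ^ (p ^ e)) := by
  haveI := charP_Ω k p Ω
  let h := minpoly (kq (k := k) p (Ω := Ω) e) x
  have hsep : h.Separable := hx
  let g := h.map (phiHom p e)
  have hg : g.Separable := hsep.map
  have hroot : aeval (x ^ (p ^ e)) g = 0 := by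
    rw [aeval_def, eval₂_map]
    have hcomp : (algebraMap k Ω).comp (phiHom p e) =
        (iterateFrobenius Ω p e).comp (algebraMap (kq (k := k) p (Ω := Ω) e) Ω) := by
      ext z
      simp only [RingHom.comp_apply, phiHom_spec, iterateFrobenius_def]
      rfl
    rw [hcomp, ← iterateFrobenius_def (R := Ω) (p := p), ← hom_eval₂, ← aeval_def, minpoly.aeval,
      map_zero]
  exact hg.of_dvd (minpoly.dvd k _ hroot)

/-- backward transport -/
lemma sep_of_sep_pow [IsAlgClosed Ω] (x : Ω) (hx : IsSeparable k (x ^ (p ^ e))) :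
    IsSeparable (kq (k := k) p (Ω := Ω) e) x := by
  haveI := charP_Ω k p Ω
  let σ : k ≃+* kq (k := k) p (Ω := Ω) e := (RingEquiv.ofBijective _ (phiHom_bijective p e)).symm
  have hσ : ∀ c, phiHom p e (σ c) = c := fun c =>
    (RingEquiv.ofBijective _ (phiHom_bijective p e)).apply_symm_apply c
  let g := minpoly k (x ^ (p ^ e))
  have hg : g.Separable := hx
  let h := g.map σ.toRingHom
  have hh : h.Separable := hg.map
  have hroot : aeval x h = 0 := by
    have hinj : Function.Injective (iterateFrobenius Ω p e) := (iterateFrobenius Ω p e).injective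
    apply hinj
    rw [map_zero, aeval_def, eval₂_map, hom_eval₂]
    have hcomp : (iterateFrobenius Ω p e).comp
        ((algebraMap (kq (k := k) p (Ω := Ω) e) Ω).comp σ.toRingHom) = algebraMap k Ω := by
      ext c
      simp only [RingHom.comp_apply, iterateFrobenius_def]
      change ((σ c : kq (k := k) p (Ω := Ω) e) : Ω) ^ (p ^ e) = _
      rw [← phiHom_spec, hσ]
    rw [hcomp, iterateFrobenius_def, ← aeval_def, minpoly.aeval]
  exact hh.of_dvd (minpoly.dvd _ _ hroot)

theorem main {k : Type u} [Field k] (p : ℕ) [Fact p.Prime] [CharP k p]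
    {K : Type u} [Field K] [Algebra k K] [FiniteDimensional k K]
    {Ω : Type u} [Field Ω] [Algebra k Ω] [Algebra K Ω] [IsScalarTower k K Ω] [IsAlgClosed Ω] (e : ℕ) :
    (∀ x : Ω, x ∈ IntermediateField.adjoin k {y : Ω | y ^ (p ^ e) ∈ Set.range (algebraMap k Ω)} ⊔
        IntermediateField.adjoin k (Set.range (algebraMap K Ω)) →
      IsSeparable (IntermediateField.adjoin k {y : Ω | y ^ (p ^ e) ∈ Set.range (algebraMap k Ω)}) x) ↔
    ∀ x : K, x ^ (p ^ e) ∈ separableClosure k K := by
  constructor
  · intro H x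
    rw [mem_separableClosure_iff]
    have h0 : algebraMap K Ω x ∈ IntermediateField.adjoin k (Set.range (algebraMap K Ω)) :=
      IntermediateField.subset_adjoin _ _ ⟨x, rfl⟩
    have h1 : algebraMap K Ω x ∈
        kq (k := k) p (Ω := Ω) e ⊔ IntermediateField.adjoin k (Set.range (algebraMap K Ω)) :=
      (le_sup_right : IntermediateField.adjoin k (Set.range (algebraMap K Ω)) ≤
        kq (k := k) p (Ω := Ω) e ⊔ IntermediateField.adjoin k (Set.range (algebraMap K Ω))) h0
    have h2 := sep_pow_of_sep p e _ (H _ h1)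
    rw [← map_pow] at h2
    exact (isSeparable_map_iff (IsScalarTower.toAlgHom k K Ω) (algebraMap K Ω).injective).mp h2
  · intro H y hy
    have hgen : ∀ z ∈ Set.range (algebraMap K Ω), IsSeparable (kq (k := k) p (Ω := Ω) e) z := by
      rintro _ ⟨x, rfl⟩
      apply sep_of_sep_pow p e
      rw [← map_pow]
      exact (isSeparable_map_iff (IsScalarTower.toAlgHom k K Ω) (algebraMap K Ω).injective).mpr
        ((mem_separableClosure_iff).mp (H x))
    -- the set of elements separable over k' as an intermediate field over k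
    let E : IntermediateField k Ω := (separableClosure (kq (k := k) p (Ω := Ω) e) Ω).restrictScalars k
    have hkE : kq (k := k) p (Ω := Ω) e ≤ E := by
      intro z hz
      exact (separableClosure (kq (k := k) p (Ω := Ω) e) Ω).algebraMap_mem ⟨z, hz⟩
    have hKE : IntermediateField.adjoin k (Set.range (algebraMap K Ω)) ≤ E := by
      rw [IntermediateField.adjoin_le_iff]
      intro z hz
      exact hgen z hz
    have : y ∈ E := (sup_le hkE hKE) hy
    exact this

end Groth.Agent.Lib.Helper26.FrobSep
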