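import Mathlib.RingTheory.Etale.Field
import Mathlib.FieldTheory.PurelyInseparable.PerfectClosure
import Mathlib.RingTheory.Kaehler.Basic
import Mathlib.Algebra.CharP.Algebra

/-!
A finite-dimensional commutative algebra `D` over a field `k` of characteristic `p` is étale iff
the `p`-th powers span `D` over `k`.
-/

set_option autoImplicit false
universe u v

namespace Groth.Agent.Lib.Helper26.FrobSpan

variable (p : ℕ) [Fact p.Prime] (k : Type u) [Field k] [CharP k p]
  (D : Type v) [CommRing D] [Algebra k D]

/-- the `k`-span of the `p`-th powers -/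
def powSpan : Submodule k D := Submodule.span k (Set.range (fun y : D => y ^ p))

variable {p k D}

lemma pow_mem_powSpan (y : D) : y ^ p ∈ powSpan p k D := Submodule.subset_span ⟨y, rfl⟩

theorem formallyUnramified_of_powSpan [CharP D p] (h : powSpan p k D = ⊤) :
    Algebra.FormallyUnramified k D := by
  constructor
  have hD : ∀ y : D, KaehlerDifferential.D k D y = 0 := by
    intro y
    have hy : y ∈ powSpan p k D := h ▸ Submodule.mem_top
    unfold powSpan at hy
    induction hy using Submodule.span_induction with
    | mem x hx =>
      obtain ⟨z, rfl⟩ := hx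
      rw [Derivation.leibniz_pow]
      have : (p : D) = 0 := CharP.cast_eq_zero D p
      rw [← Nat.cast_smul_eq_nsmul D p, this, zero_smul]
    | zero => exact map_zero _
    | add x y _ _ hx hy => rw [map_add, hx, hy, add_zero]
    | smul c x _ hx => rw [Derivation.map_smul, hx, smul_zero]
  have h0 : ∀ w : Ω[D⁄k], w = 0 := by
    intro w
    have hw : w ∈ Submodule.span D (Set.range (KaehlerDifferential.D k D)) := by
      rw [KaehlerDifferential.span_range_derivation]
      exact Submodule.mem_top
    induction hw using Submodule.span_induction with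
    | mem x hx =>
      obtain ⟨y, rfl⟩ := hx
      exact hD y
    | zero => rfl
    | add x y _ _ hx hy => rw [hx, hy, add_zero]
    | smul c x _ hx => rw [hx, smul_zero]
  exact ⟨fun a b => by rw [h0 a, h0 b]⟩

theorem etale_of_powSpan [CharP D p] [Module.Finite k D] (h : powSpan p k D = ⊤) :
    Algebra.Etale k D := by
  haveI := formallyUnramified_of_powSpan h
  haveI : Algebra.FormallyEtale k D := Algebra.FormallyEtale.of_formallyUnramified_of_field k D
  exact ⟨inferInstance, Algebra.FinitePresentation.of_finiteType.mp inferInstance⟩

/-- transport along an algebra equivalence -/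
lemma powSpan_of_algEquiv {D' : Type*} [CommRing D'] [Algebra k D'] (e : D ≃ₐ[k] D')
    (h : powSpan p k D' = ⊤) : powSpan p k D = ⊤ := by
  rw [eq_top_iff]
  intro y _
  have hy : e y ∈ powSpan p k D' := h ▸ Submodule.mem_top
  have key : ∀ z ∈ powSpan p k D', e.symm z ∈ powSpan p k D := by
    intro z hz
    unfold powSpan at hz
    induction hz using Submodule.span_induction with
    | mem x hx =>
      obtain ⟨w, rfl⟩ := hx
      rw [map_pow]
      exact pow_mem_powSpan _
    | zero => rw [map_zero]; exact Submodule.zero_mem _
    | add x y _ _ hx hy => rw [map_add]; exact Submodule.add_mem _ hx hy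
    | smul c x _ hx => rw [map_smul]; exact Submodule.smul_mem _ c hx
  simpa using key _ hy

/-- a separable field extension is spanned by `p`-th powers -/
lemma powSpan_of_isSeparable (L : Type*) [Field L] [Algebra k L] [Algebra.IsSeparable k L] :
    powSpan p k L = ⊤ := by
  haveI : ExpChar k p := ExpChar.prime (Fact.out : p.Prime)
  have h := Field.span_map_pow_expChar_pow_eq_top_of_isSeparable (F := k) (E := L) p 1
    (v := fun y : L => y) (by rw [Set.range_id']; exact Submodule.span_univ)
  simpa [powSpan] using h

/-- a finite product of algebras spanned by `p`-th powers is spanned by `p`-th powers -/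
lemma powSpan_pi {I : Type*} [Finite I] (Ai : I → Type*) [∀ i, CommRing (Ai i)]
    [∀ i, Algebra k (Ai i)] (h : ∀ i, powSpan p k (Ai i) = ⊤) :
    powSpan p k (Π i, Ai i) = ⊤ := by
  classical
  haveI := Fintype.ofFinite I
  rw [eq_top_iff]
  intro y _
  have hy : y = ∑ i, Pi.single i (y i) := by
    ext j
    simp [Finset.sum_apply]
  rw [hy]
  refine Submodule.sum_mem _ fun i _ => ?_
  have key : ∀ z ∈ powSpan p k (Ai i), (Pi.single i z : Π i, Ai i) ∈ powSpan p k (Π i, Ai i) := by
    intro z hz
    unfold powSpan at hz
    induction hz using Submodule.span_induction with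
    | mem x hx =>
      obtain ⟨w, rfl⟩ := hx
      have : (Pi.single i (w ^ p) : Π i, Ai i) = (Pi.single i w) ^ p := by
        ext j
        rw [Pi.pow_apply]
        by_cases hj : j = i
        · subst hj
          rw [Pi.single_eq_same, Pi.single_eq_same]
        · rw [Pi.single_eq_of_ne hj, Pi.single_eq_of_ne hj,
            zero_pow (Fact.out : p.Prime).ne_zero]
      rw [this]
      exact pow_mem_powSpan _
    | zero => rw [Pi.single_zero]; exact Submodule.zero_mem _
    | add x y _ _ hx hy => rw [Pi.single_add]; exact Submodule.add_mem _ hx hy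
    | smul c x _ hx => rw [Pi.single_smul]; exact Submodule.smul_mem _ c hx
  exact key _ (h i ▸ Submodule.mem_top)

theorem powSpan_of_etale [Algebra.Etale k D] : powSpan p k D = ⊤ := by
  obtain ⟨I, _, Ai, _, _, e, H⟩ := (Algebra.Etale.iff_exists_algEquiv_prod k D).mp inferInstance
  refine powSpan_of_algEquiv e (powSpan_pi Ai fun i => ?_)
  have := (H i).2
  exact powSpan_of_isSeparable (Ai i)

theorem etale_iff_powSpan [CharP D p] [Module.Finite k D] :
    Algebra.Etale k D ↔ powSpan p k D = ⊤ :=
  ⟨fun _ => powSpan_of_etale, etale_of_powSpan⟩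

end Groth.Agent.Lib.Helper26.FrobSpan
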