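import Mathlib
import Groth.Prelude.Def_NonAbH2
import Groth.Agent.Lib.Helper26.FinConn

set_option autoImplicit false
set_option maxHeartbeats 400000
universe u

namespace Groth.Agent.Lib.Helper26.FrobTors

open CategoryTheory Limits AlgebraicGeometry MonoidalCategory CartesianMonoidalCategory MonObj
open Groth.Agent.Lib.Helper4 Groth.Agent.Lib.Helper4.ActShear
open Groth.Agent.Lib.Helper26.H90b
open Groth.Agent.Lib.Helper26
open TensorProduct

section aug

variable {K : Type u} [Field K] (G : Over (Spec (CommRingCat.of K))) [GrpObj G]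

/-- the augmentation of the ring of functions of a `K`-group -/
noncomputable def augK : Γ(G.left, ⊤) →+* K :=
  (Scheme.ΓSpecIso (CommRingCat.of K)).hom.hom.comp η[G].left.appTop.hom

/-- the structure map of the ring of functions of a `K`-scheme -/
noncomputable def strK : K →+* Γ(G.left, ⊤) :=
  G.hom.appTop.hom.comp (Scheme.ΓSpecIso (CommRingCat.of K)).inv.hom

theorem augK_strK (k : K) : augK G (strK G k) = k := by
  have h1 : η[G].left ≫ G.hom = 𝟙 _ := Over.w η[G]
  have h2 : G.hom.appTop ≫ η[G].left.appTop = 𝟙 _ := by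
    rw [← Scheme.Hom.comp_appTop, h1]
    rfl
  change (Scheme.ΓSpecIso (CommRingCat.of K)).hom.hom (η[G].left.appTop.hom
    (G.hom.appTop.hom ((Scheme.ΓSpecIso (CommRingCat.of K)).inv.hom k))) = k
  have h3 : η[G].left.appTop.hom (G.hom.appTop.hom ((Scheme.ΓSpecIso (CommRingCat.of K)).inv.hom k)) =
      (Scheme.ΓSpecIso (CommRingCat.of K)).inv.hom k :=
    congrArg (fun m => m.hom ((Scheme.ΓSpecIso (CommRingCat.of K)).inv.hom k)) h2
  rw [h3]
  exact congrArg (fun m => m.hom k) (Scheme.ΓSpecIso (CommRingCat.of K)).inv_hom_id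

/-- two points of an affine `K`-group killing the augmentation ideal agree -/
theorem hom_ext_of_ker [IsAffine G.left] {T : Over (Spec (CommRingCat.of K))} (c c' : T ⟶ G)
    (hc : ∀ y, augK G y = 0 → c.left.appTop.hom y = 0)
    (hc' : ∀ y, augK G y = 0 → c'.left.appTop.hom y = 0) : c = c' := by
  ext1
  apply ext_of_isAffine
  have hw : ∀ k : K, c.left.appTop.hom (strK G k) = c'.left.appTop.hom (strK G k) := by
    intro k
    have h1 : c.left ≫ G.hom = c'.left ≫ G.hom := (Over.w c).trans (Over.w c').symm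
    have h2 : G.hom.appTop ≫ c.left.appTop = G.hom.appTop ≫ c'.left.appTop := by
      rw [← Scheme.Hom.comp_appTop, ← Scheme.Hom.comp_appTop, h1]
    exact congrArg (fun m => m.hom ((Scheme.ΓSpecIso (CommRingCat.of K)).inv.hom k)) h2
  have key : ∀ (d : T ⟶ G), (∀ y, augK G y = 0 → d.left.appTop.hom y = 0) →
      ∀ x : Γ(G.left, ⊤), d.left.appTop.hom x = d.left.appTop.hom (strK G (augK G x)) := by
    intro d hd x
    have hy : augK G (x - strK G (augK G x)) = 0 := by
      rw [map_sub, augK_strK, sub_self]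
    have h0 := hd _ hy
    rw [map_sub, sub_eq_zero] at h0
    exact h0
  ext x
  rw [key c hc x, key c' hc' x, hw]

theorem one_appTop_ker {T : Over (Spec (CommRingCat.of K))} (y : Γ(G.left, ⊤))
    (hy : augK G y = 0) : (1 : T ⟶ G).left.appTop.hom y = 0 := by
  have h0 : η[G].left.appTop.hom y = 0 := by
    have hinj := (ConcreteCategory.bijective_of_isIso
      (Scheme.ΓSpecIso (CommRingCat.of K)).hom).1
    apply hinj
    rw [map_zero]
    exact hy
  rw [Hom.one_def]
  change ((toUnit T).left ≫ η[G].left).appTop.hom y = 0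
  rw [Scheme.Hom.comp_appTop]
  change (toUnit T).left.appTop.hom (η[G].left.appTop.hom y) = 0
  rw [h0, map_zero]

/-- the augmentation ideal of a finite connected group is nilpotent -/
theorem exists_pow_ker [IsFinite G.hom] [ConnectedSpace G.left] :
    ∃ N : ℕ, ∀ y, augK G y = 0 → y ^ N = 0 := by
  have haff : IsAffine G.left := isAffine_of_isAffineHom G.hom
  have hfin : G.hom.appTop.hom.Finite :=
    ((HasAffineProperty.iff_of_isAffine (P := @IsFinite) (f := G.hom)).mp inferInstance).2
  let _ : Algebra K Γ(G.left, ⊤) := (strK G).toAlgebra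
  have hσfin : Module.Finite K Γ(G.left, ⊤) := by
    have h1 : (Scheme.ΓSpecIso (CommRingCat.of K)).inv.hom.Finite :=
      RingHom.Finite.of_surjective _
        (ConcreteCategory.bijective_of_isIso (Scheme.ΓSpecIso (CommRingCat.of K)).inv).2
    exact RingHom.Finite.comp hfin h1
  have hconn : PreconnectedSpace (PrimeSpectrum Γ(G.left, ⊤)) := by
    have hc : ConnectedSpace (Spec Γ(G.left, ⊤)) :=
      (Scheme.homeoOfIso G.left.isoSpec).surjective.connectedSpace
        (Scheme.homeoOfIso G.left.isoSpec).continuous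
    exact hc.toPreconnectedSpace
  have hnil := FinConn.ker_le_nilradical (K := K) (augK G)
  have hart : IsArtinianRing Γ(G.left, ⊤) := IsArtinianRing.of_finite K _
  obtain ⟨N, hN⟩ := IsArtinianRing.isNilpotent_nilradical (R := Γ(G.left, ⊤))
  refine ⟨N, fun y hy => ?_⟩
  have hy' : y ∈ nilradical Γ(G.left, ⊤) := hnil hy
  have : y ^ N ∈ (nilradical Γ(G.left, ⊤)) ^ N := Ideal.pow_mem_pow hy' N
  rw [hN] at this
  exact this

end aug


section frob

variable {K : Type u} [Field K] (p : ℕ) [ExpChar K p] (n : ℕ)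

/-- the `n`-fold Frobenius of `Spec K` -/
noncomputable abbrev tF : Spec (CommRingCat.of K) ⟶ Spec (CommRingCat.of K) :=
  Spec.map (CommRingCat.ofHom (iterateFrobenius K p n))

theorem frob_appTop (B : Type u) [CommRing B] [ExpChar B p] (z : Γ(Spec (CommRingCat.of B), ⊤)) :
    (Spec.map (CommRingCat.ofHom (iterateFrobenius B p n))).appTop.hom z = z ^ (p ^ n) := by
  have hinj := (ConcreteCategory.bijective_of_isIso
    (Scheme.ΓSpecIso (CommRingCat.of B)).hom).1
  apply hinj
  have := Scheme.ΓSpecIso_naturality (CommRingCat.ofHom (iterateFrobenius B p n))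
  have h2 := congrArg (fun m => m.hom z) this
  refine h2.trans ?_
  change iterateFrobenius B p n ((Scheme.ΓSpecIso (CommRingCat.of B)).hom.hom z) = _
  rw [iterateFrobenius_def]
  exact (map_pow (Scheme.ΓSpecIso (CommRingCat.of B)).hom.hom z (p ^ n)).symm

theorem frob_comm (B : Type u) [CommRing B] [Algebra K B] [ExpChar B p] :
    (iterateFrobenius B p n).comp (algebraMap K B) =
      (algebraMap K B).comp (iterateFrobenius K p n) := by
  ext x
  simp [iterateFrobenius_def]

/-- Frobenius of `Spec B` as a `K`-morphism from the twisted to the untwisted structure -/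
noncomputable def frB (B : Type u) [CommRing B] [Algebra K B] [ExpChar B p] :
    spA (tF p n) B ⟶ spA (𝟙 (Spec (CommRingCat.of K))) B :=
  Over.homMk (Spec.map (CommRingCat.ofHom (iterateFrobenius B p n))) (by
    change Spec.map _ ≫ Spec.map _ ≫ 𝟙 _ = Spec.map _ ≫ Spec.map _
    rw [Category.comp_id, ← Spec.map_comp, ← Spec.map_comp, ← CommRingCat.ofHom_comp,
      ← CommRingCat.ofHom_comp, frob_comm])

theorem frB_nat {B B' : Type u} [CommRing B] [CommRing B'] [Algebra K B] [Algebra K B']
    [ExpChar B p] [ExpChar B' p] (g : B →ₐ[K] B') :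
    spMap (tF p n) g ≫ frB p n B = frB p n B' ≫ spMap (𝟙 (Spec (CommRingCat.of K))) g := by
  ext1
  change Spec.map _ ≫ Spec.map _ = Spec.map _ ≫ Spec.map _
  rw [← Spec.map_comp, ← Spec.map_comp, ← CommRingCat.ofHom_comp, ← CommRingCat.ofHom_comp]
  congr 2
  ext x
  simp [iterateFrobenius_def]

theorem frB_comp_eq_one (G : Over (Spec (CommRingCat.of K))) [GrpObj G] [IsAffine G.left]
    (N : ℕ) (hN : ∀ y, augK G y = 0 → y ^ N = 0) (hpn : N ≤ p ^ n)
    (B : Type u) [CommRing B] [Algebra K B] [ExpChar B p]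
    (c : spA (𝟙 (Spec (CommRingCat.of K))) B ⟶ G) : frB p n B ≫ c = 1 := by
  apply hom_ext_of_ker G
  · intro y hy
    change ((frB p n B).left ≫ c.left).appTop.hom y = 0
    rw [Scheme.Hom.comp_appTop]
    change (Spec.map (CommRingCat.ofHom (iterateFrobenius B p n))).appTop.hom
      (c.left.appTop.hom y) = 0
    rw [frob_appTop]
    have h1 : (c.left.appTop.hom y) ^ (p ^ n) = c.left.appTop.hom (y ^ (p ^ n)) :=
      (map_pow c.left.appTop.hom y (p ^ n)).symm
    refine h1.trans ?_
    rw [pow_eq_zero_of_le hpn (hN y hy), map_zero]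
    rfl
  · intro y hy
    exact one_appTop_ker G y hy

end frob


section main

open Groth.Agent.Lib.Helper26.H90c (jL jR)

variable {K : Type u} [Field K] (p : ℕ) [ExpChar K p] (n : ℕ)

/-- a point of a pseudo-torsor under a `K`-group whose augmentation ideal is killed by the
`p^n`-th power descends to a point over the `n`-fold Frobenius of `K` -/
theorem exists_section_frob {G X : Over (Spec (CommRingCat.of K))} [GrpObj G] [IsAffine G.left]
    (a : AlgGrp.Action G X) (h : NonAbH1.IsPseudoTorsorSch a)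
    (N : ℕ) (hN : ∀ y, augK G y = 0 → y ^ N = 0) (hpn : N ≤ p ^ n)
    (A : Type u) [CommRing A] [Algebra K A] [Nontrivial A]
    (s' : Spec (CommRingCat.of A) ⟶ X.left)
    (hs' : s' ≫ X.hom = Spec.map (CommRingCat.ofHom (algebraMap K A))) :
    ∃ s : Spec (CommRingCat.of K) ⟶ X.left, s ≫ X.hom = tF p n := by
  have hA : ExpChar A p := expChar_of_injective_algebraMap (algebraMap K A).injective p
  have hAA : ExpChar (A ⊗[K] A) p :=
    expChar_of_injective_algebraMap (algebraMap K (A ⊗[K] A)).injective p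
  let t : Spec (CommRingCat.of K) ⟶ Spec (CommRingCat.of K) := 𝟙 _
  let s'o : spA t A ⟶ X := Over.homMk s' (by
    change s' ≫ X.hom = Spec.map (CommRingCat.ofHom (algebraMap K A)) ≫ 𝟙 _
    rw [hs', Category.comp_id])
  obtain ⟨c, hc, -⟩ := exists_unique_translate a h (spMap t (jL (A := K) K A) ≫ s'o)
    (spMap t (jR (A := K) K A) ≫ s'o)
  have hc1 : frB p n (A ⊗[K] A) ≫ c = 1 := frB_comp_eq_one p n G N hN hpn (A ⊗[K] A) c
  have hσ : smul a 1 (spMap (tF p n) (jL (A := K) K A) ≫ frB p n A ≫ s'o) =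
      spMap (tF p n) (jR (A := K) K A) ≫ frB p n A ≫ s'o := by
    rw [Hom.one_def, one_smul', ← Category.assoc, frB_nat, ← Category.assoc, frB_nat,
      Category.assoc, Category.assoc, ← hc, comp_smul, hc1, Hom.one_def, one_smul']
  obtain ⟨s, hs⟩ := Groth.Agent.Lib.Helper26.H90g.exists_section_of_cob_gen a (tF p n) K A
    (frB p n A ≫ s'o) 1 hσ 1 (by
    rw [MonObj.comp_one, MonObj.comp_one, _root_.mul_one])
  refine ⟨s, ?_⟩
  rw [hs]
  change Spec.map (CommRingCat.ofHom (RingHom.id K)) ≫ _ = _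
  change Spec.map (𝟙 _) ≫ _ = _
  rw [Spec.map_id, Category.id_comp]

end main


section final

variable (K : Type u) [Field K]

theorem main (p : ℕ) [ExpChar K p] (G : Over (Spec (CommRingCat.of K))) [GrpObj G]
    [IsFinite G.hom] [ConnectedSpace G.left] :
    ∃ n : ℕ, ∀ (X : Over (Spec (CommRingCat.of K))) (a : AlgGrp.Action G X),
      NonAbH1.IsTorsorFor Scheme.fppfPrecoverage a →
      NonAbH1.HasSectionOver X (Spec.map (CommRingCat.ofHom (iterateFrobenius K p n))) := by
  have haff : IsAffine G.left := isAffine_of_isAffineHom G.hom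
  obtain ⟨N, hN⟩ := exists_pow_ker G
  rcases expChar_is_prime_or_one K p with hp | rfl
  · refine ⟨N, fun X a h => ?_⟩
    obtain ⟨hps, R, hR, hsec⟩ := h
    obtain ⟨W, hW, hWne, U, g, j, hj, hg, s0, hs0⟩ :=
      FinConn.exists_affine_piece X (@Flat ⊓ @LocallyOfFinitePresentation) hR hsec
        (Classical.arbitrary _)
    have hne : Nonempty (Spec (CommRingCat.of Γ(W, ⊤))) :=
      ⟨W.isoSpec.hom (Classical.arbitrary W)⟩
    have hnt : Nontrivial Γ(W, ⊤) := (PrimeSpectrum.nonempty_iff_nontrivial).mp hne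
    letI : Algebra K Γ(W, ⊤) := (Spec.preimage (W.isoSpec.inv ≫ j ≫ g)).hom.toAlgebra
    have hq : W.isoSpec.inv ≫ j ≫ g = Spec.map (CommRingCat.ofHom (algebraMap K Γ(W, ⊤))) :=
      (Spec.map_preimage _).symm
    exact exists_section_frob p N a hps N hN (Nat.lt_pow_self hp.one_lt).le Γ(W, ⊤)
      (W.isoSpec.inv ≫ s0) (by rw [Category.assoc, hs0, hq])
  · haveI : CharZero K := charZero_of_expChar_one' K
    refine ⟨0, fun X a h => ?_⟩
    obtain ⟨hps, R, hR, hsec⟩ := h
    obtain ⟨W, hW, hWne, U, g, j, hj, hg, s0, hs0⟩ :=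
      FinConn.exists_affine_piece X (@Flat ⊓ @LocallyOfFinitePresentation) hR hsec
        (Classical.arbitrary _)
    have : LocallyOfFinitePresentation g := hg.2
    obtain ⟨s, hs⟩ := FinConn.exists_section_of_lft_of_perfect a hps W (j ≫ g) s0 hs0
    refine ⟨s, ?_⟩
    rw [hs, iterateFrobenius_zero]
    exact (Spec.map_id _).symm

end final

end Groth.Agent.Lib.Helper26.FrobTors
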