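import Mathlib

namespace Groth.Agent.Lib.Helper26.GL2Fix

set_option linter.unusedSectionVars false
set_option linter.style.haveILetI false

open Matrix

abbrev M2 := Matrix (Fin 2) (Fin 2) ℤ

lemma fix_iff (M : M2) : (∃ v : Fin 2 → ℤ, v ≠ 0 ∧ M *ᵥ v = v) ↔ (M - 1).det = 0 := by
  rw [← Matrix.exists_mulVec_eq_zero_iff]
  constructor
  · rintro ⟨v, hv, h⟩
    exact ⟨v, hv, by rw [Matrix.sub_mulVec, Matrix.one_mulVec, h, sub_self]⟩
  · rintro ⟨v, hv, h⟩
    refine ⟨v, hv, ?_⟩
    rw [Matrix.sub_mulVec, Matrix.one_mulVec, sub_eq_zero] at h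
    exact h

lemma sq_zero (M : M2) (hdet : M.det = 1) (hfix : (M - 1).det = 0) : (M - 1) * (M - 1) = 0 := by
  rw [Matrix.det_fin_two] at hdet hfix
  simp only [Matrix.sub_apply, Matrix.one_apply_eq, Matrix.one_apply_ne, ne_eq, zero_ne_one,
    not_false_eq_true, one_ne_zero, sub_zero] at hfix
  have htr : M 0 0 + M 1 1 = 2 := by linarith
  ext i j
  fin_cases i <;> fin_cases j
  · simp [Matrix.mul_apply, Fin.sum_univ_two]
    linear_combination (M 0 0) * htr - hdet
  · simp [Matrix.mul_apply, Fin.sum_univ_two]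
    linear_combination (M 0 1) * htr
  · simp [Matrix.mul_apply, Fin.sum_univ_two]
    linear_combination (M 1 0) * htr
  · simp [Matrix.mul_apply, Fin.sum_univ_two]
    linear_combination (M 1 1) * htr - hdet

lemma pow_eq (N : M2) (hN : N * N = 0) (k : ℕ) : (1 + N) ^ k = 1 + (k : ℤ) • N := by
  induction k with
  | zero => simp
  | succ k ih =>
    rw [pow_succ, ih, mul_add, mul_one, add_mul, one_mul, smul_mul_assoc, hN, smul_zero, add_zero]
    push_cast
    rw [add_smul, one_smul, add_assoc]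

lemma eq_one_of (M : M2) (hdet : M.det = 1) (hfix : (M - 1).det = 0) (k : ℕ) (hk : 0 < k)
    (hpow : M ^ k = 1) : M = 1 := by
  have hN := sq_zero M hdet hfix
  have h1 : M = 1 + (M - 1) := by abel
  rw [h1, pow_eq _ hN] at hpow
  have h2 : (k : ℤ) • (M - 1) = 0 := by
    have := congrArg (fun X => X - 1) hpow
    simpa using this
  have h3 : M - 1 = 0 := by
    ext i j
    have := congrFun (congrFun h2 i) j
    simp only [Matrix.smul_apply, smul_eq_mul, Matrix.zero_apply] at this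
    rcases mul_eq_zero.mp this with h | h
    · exact absurd (by exact_mod_cast h) hk.ne'
    · simpa using h
  exact sub_eq_zero.mp h3

theorem main
    (Γ : Subgroup (Matrix.GeneralLinearGroup (Fin 2) ℤ)) [Finite Γ]
    (h : ∀ γ ∈ Γ, ∃ v : Fin 2 → ℤ, v ≠ 0 ∧ (γ : Matrix (Fin 2) (Fin 2) ℤ) *ᵥ v = v) :
    ∃ v : Fin 2 → ℤ, v ≠ 0 ∧ ∀ γ ∈ Γ, (γ : Matrix (Fin 2) (Fin 2) ℤ) *ᵥ v = v := by
  have key : ∀ γ ∈ Γ, (γ : M2).det = 1 → γ = 1 := by
    intro γ hγ hdet
    have hfix := (fix_iff (γ : M2)).mp (h γ hγ)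
    have hfin : IsOfFinOrder (⟨γ, hγ⟩ : Γ) := isOfFinOrder_of_finite _
    obtain ⟨k, hk, hpow⟩ := hfin.exists_pow_eq_one
    have hpow' : γ ^ k = 1 := by
      have := congrArg (Subtype.val) hpow
      rwa [Subgroup.coe_pow, Subgroup.coe_one] at this
    have hpow'' : (γ : M2) ^ k = 1 := by
      have := congrArg (fun g : Matrix.GeneralLinearGroup (Fin 2) ℤ => (g : M2)) hpow'
      simp only [Units.val_pow_eq_pow_val, Units.val_one] at this
      exact this
    have := eq_one_of (γ : M2) hdet hfix k hk hpow''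
    exact Units.ext this
  have hdetpm : ∀ γ : Matrix.GeneralLinearGroup (Fin 2) ℤ, (γ : M2).det = 1 ∨ (γ : M2).det = -1 := by
    intro γ
    have hu : IsUnit (γ : M2).det := by
      have := (Matrix.isUnit_iff_isUnit_det (γ : M2)).mp γ.isUnit
      exact this
    exact Int.isUnit_iff.mp hu
  by_cases hall : ∀ γ ∈ Γ, (γ : M2).det = 1
  · refine ⟨![1, 0], by simp, fun γ hγ => ?_⟩
    rw [key γ hγ (hall γ hγ)]
    simp
  · push Not at hall
    obtain ⟨s, hs, hsdet⟩ := hall
    have hsdet' : (s : M2).det = -1 := (hdetpm s).resolve_left hsdet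
    obtain ⟨v, hv, hsv⟩ := h s hs
    refine ⟨v, hv, fun γ hγ => ?_⟩
    rcases hdetpm γ with h1 | h1
    · rw [key γ hγ h1]
      simp
    · have hmem : γ * s⁻¹ ∈ Γ := Γ.mul_mem hγ (Γ.inv_mem hs)
      have hdet : ((γ * s⁻¹ : Matrix.GeneralLinearGroup (Fin 2) ℤ) : M2).det = 1 := by
        have e1 : ((γ * s⁻¹ : Matrix.GeneralLinearGroup (Fin 2) ℤ) : M2) * (s : M2) = (γ : M2) := by
          rw [← Units.val_mul, inv_mul_cancel_right]
        have e2 := congrArg Matrix.det e1
        rw [Matrix.det_mul, hsdet', h1] at e2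
        linarith
      have := key _ hmem hdet
      have hγs : γ = s := by
        rw [mul_inv_eq_one] at this
        exact this
      rw [hγs]
      exact hsv

end Groth.Agent.Lib.Helper26.GL2Fix
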