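import Mathlib
import Groth.Agent.Lib.Helper26.GL2Fix

namespace Groth.Agent.Lib.Helper26.GL2FixMod

set_option linter.unusedSectionVars false
set_option linter.style.haveILetI false

open Matrix GL2Fix

lemma cayley (M : M2) (hdet : M.det = 1) : M * M = M.trace • M - 1 := by
  rw [Matrix.det_fin_two] at hdet
  ext i j
  rw [Matrix.sub_apply, Matrix.smul_apply, smul_eq_mul, Matrix.trace_fin_two, Matrix.mul_apply,
    Fin.sum_univ_two]
  fin_cases i <;> fin_cases j
  · simp only [Fin.zero_eta, Matrix.one_apply_eq]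
    linear_combination (-1 : ℤ) * hdet
  · simp only [Fin.zero_eta, Fin.mk_one, ne_eq, zero_ne_one, not_false_eq_true,
      Matrix.one_apply_ne]
    ring
  · simp only [Fin.zero_eta, Fin.mk_one, ne_eq, one_ne_zero, not_false_eq_true,
      Matrix.one_apply_ne]
    ring
  · simp only [Fin.mk_one, Matrix.one_apply_eq]
    linear_combination (-1 : ℤ) * hdet

lemma trace_rec (M : M2) (hdet : M.det = 1) (k : ℕ) :
    (M ^ (k + 2)).trace = M.trace * (M ^ (k + 1)).trace - (M ^ k).trace := by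
  have h1 : M ^ (k + 2) = M.trace • M ^ (k + 1) - M ^ k := by
    rw [pow_add, pow_two, cayley M hdet, mul_sub, mul_one, mul_smul_comm, ← pow_succ]
  rw [h1, Matrix.trace_sub, Matrix.trace_smul, smul_eq_mul]

lemma trace_grow (M : M2) (hdet : M.det = 1) (ht : 3 ≤ M.trace) (k : ℕ) :
    (M ^ k).trace + 1 ≤ (M ^ (k + 1)).trace ∧ 2 ≤ (M ^ k).trace := by
  induction k with
  | zero =>
    simp only [pow_zero, zero_add, pow_one]
    rw [Matrix.trace_one]
    simp only [Fintype.card_fin, Nat.cast_ofNat]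
    constructor <;> linarith
  | succ k ih =>
    obtain ⟨h1, h2⟩ := ih
    refine ⟨?_, by linarith⟩
    rw [trace_rec M hdet k]
    nlinarith

lemma no_pow_one (M : M2) (hdet : M.det = 1) (ht : 3 ≤ M.trace) (k : ℕ) (hk : 0 < k) :
    M ^ k ≠ 1 := by
  intro h
  obtain ⟨j, rfl⟩ : ∃ j, k = j + 1 := ⟨k - 1, by omega⟩
  have h1 := (trace_grow M hdet ht j).1
  have h2 := (trace_grow M hdet ht j).2
  rw [h, Matrix.trace_one] at h1
  simp only [Fintype.card_fin, Nat.cast_ofNat] at h1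
  linarith

lemma trace_sq (M : M2) : (M * M).trace = M.trace ^ 2 - 2 * M.det := by
  rw [Matrix.det_fin_two, Matrix.trace_fin_two, Matrix.trace_fin_two]
  simp [Matrix.mul_apply, Fin.sum_univ_two]
  ring

lemma det_sub_one (M : M2) : (M - 1).det = 1 - M.trace + M.det := by
  rw [Matrix.det_fin_two, Matrix.det_fin_two, Matrix.trace_fin_two]
  simp
  ring

/-- a finite-order element with `d ∣ det (M - 1)`, `d > 6`, has `det (M - 1) = 0`. -/
lemma det_sub_one_eq_zero (M : M2) (hdet : M.det = 1 ∨ M.det = -1) (k : ℕ) (hk : 0 < k)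
    (hpow : M ^ k = 1) (d : ℕ) (hd : 6 < d) (hdvd : (d : ℤ) ∣ (M - 1).det) : (M - 1).det = 0 := by
  have hsq : (M * M) ^ k = 1 := by rw [← pow_two, ← pow_mul, mul_comm, pow_mul, hpow, one_pow]
  have hsqdet : (M * M).det = 1 := by
    rw [Matrix.det_mul]
    rcases hdet with h | h <;> rw [h] <;> norm_num
  have hsqtr : (M * M).trace < 3 := by
    by_contra hcon
    exact no_pow_one (M * M) hsqdet (not_lt.mp hcon) k hk hsq
  rw [trace_sq] at hsqtr
  rw [det_sub_one] at hdvd ⊢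
  rcases hdet with h | h
  · rw [h] at hsqtr hdvd ⊢
    have ht1 : M.trace < 3 := by
      by_contra hcon
      exact no_pow_one M h (not_lt.mp hcon) k hk hpow
    have ht2 : -3 < M.trace := by nlinarith
    obtain ⟨c, hc⟩ := hdvd
    have hd' : (6 : ℤ) < d := by exact_mod_cast hd
    have hc0 : c = 0 := by
      by_contra hne
      rcases lt_or_gt_of_ne hne with hlt | hgt
      · have : c ≤ -1 := by omega
        nlinarith
      · have : 1 ≤ c := by omega
        nlinarith
    rw [hc, hc0, mul_zero]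
  · rw [h] at hsqtr hdvd ⊢
    have ht0 : M.trace = 0 := by nlinarith
    rw [ht0]
    ring

theorem main
    (Γ : Subgroup (Matrix.GeneralLinearGroup (Fin 2) ℤ)) [Finite Γ] (d : ℕ) (hd : 6 < d)
    (w : Fin 2 → ZMod d) (hw : ∀ m : ℕ, 0 < m → m < d → m • w ≠ 0)
    (hfix : ∀ γ ∈ Γ, ((γ : Matrix (Fin 2) (Fin 2) ℤ).map (Int.castRingHom (ZMod d))) *ᵥ w = w) :
    ∃ v : Fin 2 → ℤ, v ≠ 0 ∧ ∀ γ ∈ Γ, (γ : Matrix (Fin 2) (Fin 2) ℤ) *ᵥ v = v := by
  haveI : NeZero d := ⟨by omega⟩
  apply GL2Fix.main Γ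
  intro γ hγ
  rw [fix_iff]
  have hfin : IsOfFinOrder (⟨γ, hγ⟩ : Γ) := isOfFinOrder_of_finite _
  obtain ⟨k, hk, hpow⟩ := hfin.exists_pow_eq_one
  have hpow' : γ ^ k = 1 := by
    have := congrArg (Subtype.val) hpow
    rwa [Subgroup.coe_pow, Subgroup.coe_one] at this
  have hpow'' : (γ : M2) ^ k = 1 := by
    have := congrArg (fun g : Matrix.GeneralLinearGroup (Fin 2) ℤ => (g : M2)) hpow'
    simp only [Units.val_pow_eq_pow_val, Units.val_one] at this
    exact this
  have hdetpm : (γ : M2).det = 1 ∨ (γ : M2).det = -1 := by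
    have hu : IsUnit (γ : M2).det := (Matrix.isUnit_iff_isUnit_det (γ : M2)).mp γ.isUnit
    exact Int.isUnit_iff.mp hu
  refine det_sub_one_eq_zero (γ : M2) hdetpm k hk hpow'' d hd ?_
  -- divisibility
  set N : M2 := (γ : M2) - 1 with hN
  set Nb : Matrix (Fin 2) (Fin 2) (ZMod d) := N.map (Int.castRingHom (ZMod d)) with hNb
  have hNw : Nb *ᵥ w = 0 := by
    have h1 : Nb = ((γ : M2).map (Int.castRingHom (ZMod d))) - 1 := by
      rw [hNb, hN]
      ext i j
      simp [Matrix.map_apply, Matrix.one_apply]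
    rw [h1, Matrix.sub_mulVec, Matrix.one_mulVec, hfix γ hγ, sub_self]
  have hdetw : Nb.det • w = 0 := by
    have h2 : (Nb.adjugate * Nb) *ᵥ w = 0 := by
      rw [← Matrix.mulVec_mulVec, hNw, Matrix.mulVec_zero]
    rw [Matrix.adjugate_mul, Matrix.smul_mulVec, Matrix.one_mulVec] at h2
    exact h2
  have hdetcast : Nb.det = ((N.det : ℤ) : ZMod d) := by
    rw [hNb]
    exact ((Int.castRingHom (ZMod d)).map_det N).symm
  rw [hdetcast] at hdetw
  -- reduce to a natural number multiple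
  set m : ℕ := (N.det % (d : ℤ)).toNat with hm
  have hd0 : (0 : ℤ) < d := by exact_mod_cast (by omega : 0 < d)
  have hmnn : 0 ≤ N.det % (d : ℤ) := Int.emod_nonneg _ hd0.ne'
  have hmlt : N.det % (d : ℤ) < d := Int.emod_lt_of_pos _ hd0
  have hmcast : ((m : ℕ) : ZMod d) = ((N.det : ℤ) : ZMod d) := by
    have h3 : ((m : ℕ) : ℤ) = N.det % (d : ℤ) := Int.toNat_of_nonneg hmnn
    have h4 : (((m : ℕ) : ℤ) : ZMod d) = ((N.det % (d : ℤ) : ℤ) : ZMod d) := by rw [h3]
    rw [Int.cast_natCast] at h4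
    rw [h4]
    rw [ZMod.intCast_eq_intCast_iff_dvd_sub]
    exact Int.dvd_self_sub_emod
  have hmw : m • w = 0 := by
    rw [← hdetw, ← hmcast]
    ext i
    simp [nsmul_eq_mul]
  have hm0 : m = 0 := by
    by_contra hne
    have hmpos : 0 < m := Nat.pos_of_ne_zero hne
    have hmd : m < d := by
      have : ((m : ℕ) : ℤ) < d := by rw [Int.toNat_of_nonneg hmnn]; exact hmlt
      exact_mod_cast this
    exact hw m hmpos hmd hmw
  have : N.det % (d : ℤ) = 0 := by
    have h3 : ((m : ℕ) : ℤ) = N.det % (d : ℤ) := Int.toNat_of_nonneg hmnn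
    rw [← h3, hm0]
    rfl
  exact Int.dvd_of_emod_eq_zero this

end Groth.Agent.Lib.Helper26.GL2FixMod
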