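import Mathlib
import Groth.Prelude.Def_AlgGrp
import Groth.Prelude.Def_ChGrp
import Groth.Prelude.Def_W4bk4git07Quot
import Groth.Agent.Lib.Helper4.ActShear
import Groth.Agent.Lib.Helper4.GaPts
import Groth.Agent.Lib.Helper4.FpqcDesc

set_option autoImplicit false
set_option maxHeartbeats 400000
set_option linter.unusedVariables false
set_option linter.unusedSectionVars false
set_option linter.style.haveILetI false
set_option linter.unusedSimpArgs false
set_option linter.unnecessarySimpa false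

universe u
open CategoryTheory MonoidalCategory CartesianMonoidalCategory MonObj GrpObj AlgebraicGeometry Limits

namespace Groth.Agent.Lib.Helper26.GQ1

open Groth.Agent.Lib.Helper4
open Groth.Agent.Lib.Helper4.ActShear

variable {S : Scheme.{u}} {G X Y : Over S} [GrpObj G] (a : AlgGrp.Action G X) (φ : X ⟶ Y)
  (hinv : GIT.IsInvariant a φ)

/-- an open subscheme as an object over `S` -/
noncomputable def ov (Z : Over S) (U : Z.left.Opens) : Over S := Over.mk (U.ι ≫ Z.hom)

noncomputable def ovι (Z : Over S) (U : Z.left.Opens) : ov Z U ⟶ Z := Over.homMk U.ι rfl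

instance (Z : Over S) (U : Z.left.Opens) : Mono (ovι Z U) := by
  have : Mono (ovι Z U).left := by
    change Mono U.ι
    infer_instance
  exact Over.mono_of_mono_left _

/-- restriction of a morphism over `S` to opens -/
noncomputable def ovRes {Z Z' : Over S} (f : Z ⟶ Z') (U' : Z'.left.Opens) (U : Z.left.Opens)
    (e : U ≤ f.left ⁻¹ᵁ U') : ov Z U ⟶ ov Z' U' :=
  Over.homMk (f.left.resLE U' U e) (by
    change f.left.resLE U' U e ≫ U'.ι ≫ Z'.hom = U.ι ≫ Z.hom
    rw [Scheme.Hom.resLE_comp_ι_assoc, Over.w f])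

theorem ovRes_ι {Z Z' : Over S} (f : Z ⟶ Z') (U' : Z'.left.Opens) (U : Z.left.Opens)
    (e : U ≤ f.left ⁻¹ᵁ U') : ovRes f U' U e ≫ ovι Z' U' = ovι Z U ≫ f := by
  ext
  change f.left.resLE U' U e ≫ U'.ι = U.ι ≫ f.left
  exact Scheme.Hom.resLE_comp_ι _ _

/-- lifting a point through an open -/
theorem exists_lift_ov (Z : Over S) (U : Z.left.Opens) {T : Over S} (x : T ⟶ Z)
    (hx : ∀ t : T.left, x.left t ∈ U) : ∃ y : T ⟶ ov Z U, y ≫ ovι Z U = x := by
  have hr : Set.range x.left ⊆ Set.range U.ι := by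
    rintro _ ⟨t, rfl⟩
    rw [Scheme.Opens.range_ι]
    exact hx t
  have hoi : IsOpenImmersion U.ι := inferInstance
  let l : T.left ⟶ U.toScheme := IsOpenImmersion.lift U.ι x.left hr
  have hl : l ≫ U.ι = x.left := IsOpenImmersion.lift_fac _ _ _
  refine ⟨Over.homMk l ?_, ?_⟩
  · change l ≫ U.ι ≫ Z.hom = T.hom
    rw [reassoc_of% hl, Over.w x]
  · ext
    exact hl


theorem iso_hom_inv_apply {A B : CommRingCat.{u}} (e : A ≅ B) (x : B) : e.hom (e.inv x) = x := by
  have := congrArg (fun m => m.hom x) e.inv_hom_id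
  simpa using this

theorem iso_inv_hom_apply {A B : CommRingCat.{u}} (e : A ≅ B) (x : A) : e.inv (e.hom x) = x := by
  have := congrArg (fun m => m.hom x) e.hom_inv_id
  simpa using this

/-- the point of `𝔾ₐ` attached to a section over an open -/
noncomputable def pt (Z : Over S) (U : Z.left.Opens) (f : Γ(Z.left, U)) : ov Z U ⟶ Red.Ga S :=
  GaPts.ptOfFn (T := ov Z U) (U.topIso.inv f)

theorem gaFn_pt (Z : Over S) (U : Z.left.Opens) (f : Γ(Z.left, U)) :
    Red.gaFn (pt Z U f) = U.topIso.inv f :=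
  GaPts.gaFn_ptOfFn _

theorem pt_injective (Z : Over S) (U : Z.left.Opens) : Function.Injective (pt Z U) := by
  intro f g h
  have := congrArg Red.gaFn h
  rw [gaFn_pt, gaFn_pt] at this
  have h2 := congrArg (U.topIso.hom) this
  rw [iso_hom_inv_apply, iso_hom_inv_apply] at h2
  exact h2

theorem pt_surjective (Z : Over S) (U : Z.left.Opens) (x : ov Z U ⟶ Red.Ga S) :
    ∃ f, pt Z U f = x := by
  refine ⟨U.topIso.hom (Red.gaFn x), ?_⟩
  apply GaPts.gaFn_injective
  rw [gaFn_pt]
  exact iso_inv_hom_apply _ _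

theorem resLE_appTop_apply {X Y : Scheme.{u}} (f : X ⟶ Y) {U : Y.Opens} {V : X.Opens}
    (e : V ≤ f ⁻¹ᵁ U) (x : Γ(U.toScheme, ⊤)) :
    (f.resLE U V e).appTop.hom x = V.topIso.inv.hom ((f.appLE U V e).hom (U.topIso.hom.hom x)) := by
  have h := Scheme.Hom.resLE_app_top f e
  have := congrArg (fun m => m.hom x) h
  exact this

theorem res_pt {Z Z' : Over S} (f : Z ⟶ Z') (U' : Z'.left.Opens) (U : Z.left.Opens)
    (e : U ≤ f.left ⁻¹ᵁ U') (f0 : Γ(Z'.left, U')) :
    ovRes f U' U e ≫ pt Z' U' f0 = pt Z U (f.left.appLE U' U e f0) := by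
  apply GaPts.gaFn_injective
  rw [GaPts.gaFn_comp, gaFn_pt, gaFn_pt]
  change (f.left.resLE U' U e).appTop.hom (U'.topIso.inv.hom f0) = _
  rw [resLE_appTop_apply]
  congr 2
  exact iso_hom_inv_apply _ _


section sections

variable (U : Y.left.Opens)

noncomputable abbrev Vo : X.left.Opens := φ.left ⁻¹ᵁ U

noncomputable abbrev Wo : (G ⊗ X).left.Opens :=
  a.act.left ⁻¹ᵁ (φ.left ⁻¹ᵁ U) ⊓ (snd G X).left ⁻¹ᵁ (φ.left ⁻¹ᵁ U)

noncomputable def qO : ov X (Vo φ U) ⟶ ov Y U := ovRes φ U (Vo φ U) le_rfl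

noncomputable def σO : ov (G ⊗ X) (Wo a φ U) ⟶ ov X (Vo φ U) :=
  ovRes a.act (Vo φ U) (Wo a φ U) inf_le_left

noncomputable def pO : ov (G ⊗ X) (Wo a φ U) ⟶ ov X (Vo φ U) :=
  ovRes (snd G X) (Vo φ U) (Wo a φ U) inf_le_right

theorem isInvSection_iff (f : Γ(X.left, φ.left ⁻¹ᵁ U)) :
    GIT.IsInvSection a φ U f ↔ σO a φ U ≫ pt X _ f = pO a φ U ≫ pt X _ f := by
  unfold σO pO
  rw [res_pt, res_pt]
  unfold GIT.IsInvSection
  exact ⟨fun h => congrArg _ h, fun h => pt_injective _ _ h⟩

theorem app_eq_iff (f0 : Γ(Y.left, U)) (f : Γ(X.left, φ.left ⁻¹ᵁ U)) :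
    φ.left.app U f0 = f ↔ qO φ U ≫ pt Y U f0 = pt X _ f := by
  unfold qO
  rw [res_pt, Scheme.Hom.appLE_eq_app]
  exact ⟨fun h => congrArg _ h, fun h => pt_injective _ _ h⟩

include hinv in
theorem σO_qO : σO a φ U ≫ qO φ U = pO a φ U ≫ qO φ U := by
  rw [← cancel_mono (ovι Y U)]
  unfold σO pO qO
  rw [Category.assoc, Category.assoc, ovRes_ι, ← Category.assoc, ← Category.assoc, ovRes_ι, ovRes_ι,
    Category.assoc, Category.assoc, hinv]

include hinv in
theorem sections_of_torsor
    (hex : ∀ (T : Over S) (u v : T ⟶ X), u ≫ φ = v ≫ φ → ∃ g : T ⟶ G, smul a g v = u)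
    (hee : EffectiveEpi (qO φ U).left) :
    Function.Injective (φ.left.app U) ∧
      Set.range (φ.left.app U) = {f | GIT.IsInvSection a φ U f} := by
  have hepi : Epi (qO φ U) := Over.epi_of_epi_left _
  constructor
  · intro f1 f2 h
    have h1 := (app_eq_iff φ U f1 _).mp h
    have h2 := (app_eq_iff φ U f2 _).mp rfl
    rw [← h2] at h1
    exact pt_injective _ _ ((cancel_epi _).mp h1)
  · ext f
    constructor
    · rintro ⟨f0, rfl⟩
      rw [Set.mem_ofPred_eq, isInvSection_iff]
      have := (app_eq_iff φ U f0 _).mp rfl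
      rw [← this, ← Category.assoc, ← Category.assoc, σO_qO a φ hinv U]
    · intro hf
      rw [Set.mem_ofPred_eq, isInvSection_iff] at hf
      have hdesc : ∀ (T : Over S) (u v : T ⟶ ov X (Vo φ U)), u ≫ qO φ U = v ≫ qO φ U →
          u ≫ pt X _ f = v ≫ pt X _ f := by
        intro T u v huv
        have h1 : (u ≫ ovι X _) ≫ φ = (v ≫ ovι X _) ≫ φ := by
          unfold qO at huv
          rw [Category.assoc, Category.assoc, ← ovRes_ι, ← Category.assoc, ← Category.assoc, huv]
        obtain ⟨g, hg⟩ := hex T _ _ h1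
        have hσ : (lift g (v ≫ ovι X _)).left ≫ a.act.left = u.left ≫ (Vo φ U).ι := by
          have := congrArg (fun m => Over.Hom.left m) hg
          unfold smul at this
          simp only [Over.comp_left] at this
          exact this
        have hp : (lift g (v ≫ ovι X _)).left ≫ (snd G X).left = v.left ≫ (Vo φ U).ι := by
          have := congrArg (fun m => Over.Hom.left m) (lift_snd g (v ≫ ovι X _))
          simp only [Over.comp_left] at this
          exact this
        have hmem : ∀ t : T.left, (lift g (v ≫ ovι X _)).left t ∈ Wo a φ U := by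
          intro t
          constructor
          · change a.act.left ((lift g (v ≫ ovι X _)).left t) ∈ Vo φ U
            rw [← Scheme.Hom.comp_apply, hσ, Scheme.Hom.comp_apply]
            exact (u.left t).2
          · change (snd G X).left ((lift g (v ≫ ovι X _)).left t) ∈ Vo φ U
            rw [← Scheme.Hom.comp_apply, hp, Scheme.Hom.comp_apply]
            exact (v.left t).2
        obtain ⟨w2, hw2⟩ := exists_lift_ov (G ⊗ X) (Wo a φ U) (lift g (v ≫ ovι X _)) hmem
        have e1 : w2 ≫ σO a φ U = u := by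
          rw [← cancel_mono (ovι X _)]
          unfold σO
          rw [Category.assoc, ovRes_ι, ← Category.assoc, hw2]
          exact hg
        have e2 : w2 ≫ pO a φ U = v := by
          rw [← cancel_mono (ovι X _)]
          unfold pO
          rw [Category.assoc, ovRes_ι, ← Category.assoc, hw2, lift_snd]
        rw [← e1, Category.assoc, hf, ← Category.assoc, e2]
      obtain ⟨x0, hx0⟩ := FpqcDesc.exists_desc (qO φ U) (pt X _ f) hdesc
      obtain ⟨f0, rfl⟩ := pt_surjective Y U x0
      exact ⟨f0, (app_eq_iff φ U f0 f).mpr hx0⟩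

end sections


theorem effectiveEpi_qO [Flat φ.left] [Surjective φ.left] [QuasiCompact φ.left]
    (U : Y.left.Opens) : EffectiveEpi (qO φ U).left := by
  change EffectiveEpi (φ.left.resLE U (φ.left ⁻¹ᵁ U) le_rfl)
  rw [Scheme.Hom.resLE_eq_morphismRestrict]
  have h1 : Flat (φ.left ∣_ U) :=
    IsZariskiLocalAtTarget.restrict (P := @Flat) (inferInstanceAs (Flat φ.left)) U
  have h2 : Surjective (φ.left ∣_ U) :=
    IsZariskiLocalAtTarget.restrict (P := @Surjective) (inferInstanceAs (Surjective φ.left)) U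
  have h3 : QuasiCompact (φ.left ∣_ U) :=
    IsZariskiLocalAtTarget.restrict (P := @QuasiCompact) (inferInstanceAs (QuasiCompact φ.left)) U
  infer_instance

theorem isUnivSubmersive_of_fpqc {X Y : Scheme.{u}} (f : X ⟶ Y) [Flat f] [Surjective f]
    [QuasiCompact f] : GIT.IsUnivSubmersive f := by
  intro X' Y' i₁ i₂ f' sq
  have h1 : Flat f' := MorphismProperty.of_isPullback sq.flip inferInstance
  have h2 : Surjective f' := MorphismProperty.of_isPullback sq.flip inferInstance
  have h3 : QuasiCompact f' := MorphismProperty.of_isPullback sq.flip inferInstance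
  exact Flat.isQuotientMap_of_surjective f'

include hinv in
theorem isGeomQuot_of_torsor
    (hex : ∀ (T : Over S) (u v : T ⟶ X), u ≫ φ = v ≫ φ → ∃ g : T ⟶ G, smul a g v = u)
    (horb : Function.Surjective (GIT.PsiY a φ hinv).base)
    [Flat φ.left] [Surjective φ.left] [QuasiCompact φ.left] : GIT.IsGeomQuot a φ where
  inv := hinv
  surj := φ.left.surjective
  orbit := horb
  subm := isUnivSubmersive_of_fpqc φ.left
  sections U := sections_of_torsor a φ hinv U hex (effectiveEpi_qO φ U)

end Groth.Agent.Lib.Helper26.GQ1
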