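import Mathlib
import Groth.Prelude.Def_AlgGrp
import Groth.Prelude.Def_W4bk4git07Quot
import Groth.Agent.Lib.Helper4.ActShear

set_option autoImplicit false
set_option maxHeartbeats 400000
set_option linter.unusedVariables false
set_option linter.unusedSectionVars false
set_option linter.style.haveILetI false
set_option linter.unusedSimpArgs false
set_option linter.unnecessarySimpa false

universe u
open CategoryTheory MonoidalCategory CartesianMonoidalCategory MonObj GrpObj AlgebraicGeometry Limits

namespace Groth.Agent.Lib.Helper26.PB1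

open Groth.Agent.Lib.Helper4.ActShear

variable {S : Scheme.{u}} {H P Q : Over S} [GrpObj H] (a : AlgGrp.Action H P) (q : P ⟶ Q)
  (hq : GIT.IsInvariant a q)

theorem psiY_fst : GIT.PsiY a q hq ≫ pullback.fst q.left q.left = a.act.left :=
  pullback.lift_fst _ _ _

theorem psiY_snd : GIT.PsiY a q hq ≫ pullback.snd q.left q.left = (snd H P).left :=
  pullback.lift_snd _ _ _

include hq in
/-- invariance on points -/
theorem smul_comp_q {T : Over S} (h : T ⟶ H) (x : T ⟶ P) : smul a h x ≫ q = x ≫ q := by
  unfold smul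
  rw [Category.assoc, hq, ← Category.assoc, lift_snd]

/-- simple transitivity on fibres: existence -/
theorem exists_pt [IsIso (GIT.PsiY a q hq)] {T : Over S} (u v : T ⟶ P) (huv : u ≫ q = v ≫ q) :
    ∃ h : T ⟶ H, smul a h v = u := by
  have huv' : u.left ≫ q.left = v.left ≫ q.left := by
    rw [← Over.comp_left, ← Over.comp_left, huv]
  let w0 : T.left ⟶ (H ⊗ P).left := pullback.lift u.left v.left huv' ≫ inv (GIT.PsiY a q hq)
  have hw1 : w0 ≫ a.act.left = u.left := by
    rw [← psiY_fst a q hq]
    simp only [w0, Category.assoc, IsIso.inv_hom_id_assoc, pullback.lift_fst]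
  have hw2 : w0 ≫ (snd H P).left = v.left := by
    rw [← psiY_snd a q hq]
    simp only [w0, Category.assoc, IsIso.inv_hom_id_assoc, pullback.lift_snd]
  have hw3 : w0 ≫ (H ⊗ P).hom = T.hom := by
    rw [← Over.w (snd H P), ← Category.assoc, hw2, Over.w]
  let w : T ⟶ H ⊗ P := Over.homMk w0 hw3
  have hwsnd : w ≫ snd H P = v := by
    apply Over.OverMorphism.ext
    rw [Over.comp_left]
    exact hw2
  have hwact : w ≫ a.act = u := by
    apply Over.OverMorphism.ext
    rw [Over.comp_left]
    exact hw1
  refine ⟨w ≫ fst H P, ?_⟩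
  unfold smul
  have : lift (w ≫ fst H P) v = w := by
    apply CartesianMonoidalCategory.hom_ext
    · rw [lift_fst]
    · rw [lift_snd, hwsnd]
  rw [this, hwact]

/-- simple transitivity on fibres: uniqueness -/
theorem pt_unique [Mono (GIT.PsiY a q hq)] {T : Over S} (h h' : T ⟶ H) (v : T ⟶ P)
    (e : smul a h v = smul a h' v) : h = h' := by
  have key : (lift h v).left = (lift h' v).left := by
    rw [← cancel_mono (GIT.PsiY a q hq)]
    apply pullback.hom_ext
    · rw [Category.assoc, Category.assoc, psiY_fst, ← Over.comp_left, ← Over.comp_left]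
      exact congrArg CommaMorphism.left e
    · rw [Category.assoc, Category.assoc, psiY_snd, ← Over.comp_left, ← Over.comp_left,
        lift_snd, lift_snd]
  have key' : lift h v = lift h' v := Over.OverMorphism.ext key
  have := congrArg (· ≫ fst H P) key'
  simpa using this

section main

variable {P' Q' : Over S} (a' : AlgGrp.Action H P') (q' : P' ⟶ Q') (hq' : GIT.IsInvariant a' q')
  (f : P ⟶ P') (hf : a.act ≫ f = (H ◁ f) ≫ a'.act) (p : Q ⟶ Q') (hp : q ≫ p = f ≫ q')

include hf in
/-- equivariance on points -/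
theorem smul_comp_f {T : Over S} (h : T ⟶ H) (x : T ⟶ P) :
    smul a h x ≫ f = smul a' h (x ≫ f) := by
  unfold smul
  rw [Category.assoc, hf, ← Category.assoc, lift_whiskerLeft]

include hp in
theorem hp_left : q.left ≫ p.left = f.left ≫ q'.left := by
  rw [← Over.comp_left, ← Over.comp_left, hp]

/-- the comparison map -/
noncomputable def θ : P.left ⟶ pullback p.left q'.left :=
  pullback.lift q.left f.left (hp_left q q' f p hp)

include hf in
theorem mono_θ [IsIso (GIT.PsiY a q hq)] [Mono (GIT.PsiY a' q' hq')] :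
    Mono (θ q q' f p hp) := by
  constructor
  intro Z u v huv
  have h1 : u ≫ q.left = v ≫ q.left := by
    have := congrArg (· ≫ pullback.fst p.left q'.left) huv
    rw [Category.assoc, Category.assoc, θ, pullback.lift_fst] at this
    exact this
  have h2 : u ≫ f.left = v ≫ f.left := by
    have := congrArg (· ≫ pullback.snd p.left q'.left) huv
    rw [Category.assoc, Category.assoc, θ, pullback.lift_snd] at this
    exact this
  have h3 : u ≫ P.hom = v ≫ P.hom := by
    rw [← Over.w q, ← Category.assoc, h1, Category.assoc]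
  let T : Over S := Over.mk (v ≫ P.hom)
  let uo : T ⟶ P := Over.homMk u h3
  let vo : T ⟶ P := Over.homMk v rfl
  have e1 : uo ≫ q = vo ≫ q := by
    apply Over.OverMorphism.ext
    rw [Over.comp_left, Over.comp_left]
    exact h1
  have e2 : uo ≫ f = vo ≫ f := by
    apply Over.OverMorphism.ext
    rw [Over.comp_left, Over.comp_left]
    exact h2
  obtain ⟨h, hh⟩ := exists_pt a q hq uo vo e1
  have e3 : smul a' h (vo ≫ f) = smul a' (toUnit T ≫ η[H]) (vo ≫ f) := by
    rw [one_smul', ← smul_comp_f a a' f hf, hh, e2]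
  have e4 : h = toUnit T ≫ η[H] := pt_unique a' q' hq' _ _ _ e3
  have e5 : uo = vo := by
    rw [← hh, e4, one_smul']
  exact congrArg CommaMorphism.left e5

include hf in
theorem isIso_θ [IsIso (GIT.PsiY a q hq)] [IsIso (GIT.PsiY a' q' hq')]
    [Flat q.left] [Surjective q.left] [QuasiCompact q.left] :
    IsIso (θ q q' f p hp) := by
  have hmono : Mono (θ q q' f p hp) := mono_θ a q hq a' q' hq' f hf p hp
  set θ0 := θ q q' f p hp with hθ0
  let g1 := pullback.fst p.left q'.left
  let g' := pullback.fst g1 q.left
  let p0 := pullback.snd g1 q.left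
  have hcond : g' ≫ g1 = p0 ≫ q.left := pullback.condition
  have hcond2 : g1 ≫ p.left = pullback.snd p.left q'.left ≫ q'.left := pullback.condition
  let T : Over S := Over.mk (p0 ≫ P.hom)
  let p0o : T ⟶ P := Over.homMk p0 rfl
  have hgo : (g' ≫ pullback.snd p.left q'.left) ≫ P'.hom = p0 ≫ P.hom := by
    rw [← Over.w q', Category.assoc, ← Category.assoc (pullback.snd p.left q'.left), ← hcond2,
      Category.assoc, Over.w p, ← Category.assoc, hcond, Category.assoc, Over.w q]
  let go : T ⟶ P' := Over.homMk (g' ≫ pullback.snd p.left q'.left) hgo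
  have e1 : (p0o ≫ f) ≫ q' = go ≫ q' := by
    apply Over.OverMorphism.ext
    simp only [Over.comp_left, p0o, go, Over.homMk_left]
    rw [Category.assoc, ← hp_left q q' f p hp, ← Category.assoc, ← hcond, Category.assoc,
      Category.assoc, hcond2]
  obtain ⟨h, hh⟩ := exists_pt a' q' hq' (p0o ≫ f) go e1
  let t : T ⟶ P := smul a (h ≫ ι[H]) p0o
  have ht1 : t.left ≫ q.left = g' ≫ g1 := by
    have : t ≫ q = p0o ≫ q := smul_comp_q a q hq _ _
    have := congrArg (fun m => Over.Hom.left m) this
    simp only [Over.comp_left] at this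
    rw [this, hcond]
    rfl
  have ht2 : t.left ≫ f.left = g' ≫ pullback.snd p.left q'.left := by
    have : t ≫ f = go := by
      rw [smul_comp_f a a' f hf, ← hh, Groth.Agent.Lib.Helper4.ActShear.inv_smul_smul]
    have := congrArg (fun m => Over.Hom.left m) this
    simp only [Over.comp_left] at this
    rw [this]
    rfl
  have ht : t.left ≫ θ0 = 𝟙 _ ≫ g' := by
    rw [Category.id_comp]
    apply pullback.hom_ext
    · rw [Category.assoc, hθ0, θ, pullback.lift_fst, ht1]
    · rw [Category.assoc, hθ0, θ, pullback.lift_snd, ht2]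
  let σ : pullback g1 q.left ⟶ pullback θ0 g' := pullback.lift t.left (𝟙 _) ht
  have hσ : σ ≫ pullback.snd θ0 g' = 𝟙 _ := pullback.lift_snd _ _ _
  have : IsSplitEpi (pullback.snd θ0 g') := ⟨⟨σ, hσ⟩⟩
  have hiso : IsIso (pullback.snd θ0 g') := isIso_of_mono_of_isSplitEpi _
  have hQ : (@Surjective ⊓ @Flat ⊓ @QuasiCompact : MorphismProperty Scheme.{u}) g' :=
    ⟨⟨inferInstance, inferInstance⟩, inferInstance⟩
  exact MorphismProperty.of_pullback_snd_of_descendsAlong
    (P := MorphismProperty.isomorphisms Scheme.{u})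
    (Q := @Surjective ⊓ @Flat ⊓ @QuasiCompact) hQ hiso

include hf hp in
/-- **Key lemma**: an equivariant map of principal bundles gives a cartesian square. -/
theorem isPullback [IsIso (GIT.PsiY a q hq)] [IsIso (GIT.PsiY a' q' hq')]
    [Flat q.left] [Surjective q.left] [QuasiCompact q.left] :
    IsPullback q.left f.left p.left q'.left := by
  have := isIso_θ a q hq a' q' hq' f hf p hp
  exact IsPullback.of_iso_pullback ⟨hp_left q q' f p hp⟩ (asIso (θ q q' f p hp))
    (pullback.lift_fst _ _ _) (pullback.lift_snd _ _ _)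

end main

end Groth.Agent.Lib.Helper26.PB1
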