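import Mathlib
import Groth.Prelude.Def_W4bk4git07Quot
import Groth.Agent.Lib.Helper26.PB1

set_option autoImplicit false
universe u
open CategoryTheory MonoidalCategory CartesianMonoidalCategory MonObj GrpObj AlgebraicGeometry Topology Limits

namespace Groth.Agent.Lib.Helper26.GQ2

/-- universally quotient maps are stable under composition -/
instance : (topologically @IsQuotientMap : MorphismProperty Scheme.{u}).IsStableUnderComposition where
  comp_mem {X Y Z} f g hf hg := by
    have h1 : IsQuotientMap ⇑f.base := hf
    have h2 : IsQuotientMap ⇑g.base := hg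
    have h3 := IsQuotientMap.comp h2 h1
    exact h3

theorem isQuotientMap_map {X Y S : Scheme.{u}} (f : X ⟶ Y) (i : Y ⟶ S)
    (hf : GIT.IsUnivSubmersive f) :
    IsQuotientMap (pullback.map (f ≫ i) (f ≫ i) i i f f (𝟙 _) (Category.comp_id _)
      (Category.comp_id _)).base := by
  have : (MorphismProperty.universally (topologically @IsQuotientMap))
      (pullback.map (f ≫ i) (f ≫ i) i i f f (𝟙 _) (Category.comp_id _) (Category.comp_id _)) :=
    MorphismProperty.pullbackMap (P := MorphismProperty.universally (topologically @IsQuotientMap))
      hf hf rfl rfl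
  exact MorphismProperty.universally_le _ _ this


theorem isSeparated_iff_isClosed_range_diagonal {Y S : Scheme.{u}} (i : Y ⟶ S) :
    IsSeparated i ↔ IsClosed (Set.range (pullback.diagonal i).base) := by
  constructor
  · intro h
    exact (pullback.diagonal i).isClosedEmbedding.isClosed_range
  · intro h
    exact ⟨IsClosedImmersion.of_isPreimmersion _ h⟩

end Groth.Agent.Lib.Helper26.GQ2
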