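import Mathlib

set_option autoImplicit false
set_option maxHeartbeats 400000
universe u
open CategoryTheory AlgebraicGeometry Topology Limits

namespace Groth.Agent.Lib.Helper26.GQ3

variable {R X Y X' T : Scheme.{u}} (σ p : R ⟶ X) (φ : X ⟶ Y) (hinv : σ ≫ φ = p ≫ φ)
  (i₁ : X' ⟶ X) (i₂ : T ⟶ Y) (f' : X' ⟶ T) (sq : IsPullback f' i₁ i₂ φ)

include sq in
/-- the kernel pair of a base change is the base change of the kernel pair -/
theorem isPullback_kernelPair :
    IsPullback (pullback.fst f' f') (pullback.map f' f' φ φ i₁ i₁ i₂ sq.w sq.w) i₁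
      (pullback.fst φ φ) := by
  have outer : IsPullback (pullback.snd f' f' ≫ i₁) (pullback.fst f' f') φ (f' ≫ i₂) :=
    (IsPullback.of_hasPullback f' f').flip.paste_horiz sq.flip
  have right : IsPullback (pullback.snd φ φ) (pullback.fst φ φ) φ φ :=
    (IsPullback.of_hasPullback φ φ).flip
  have e1 : pullback.map f' f' φ φ i₁ i₁ i₂ sq.w sq.w ≫ pullback.snd φ φ =
      pullback.snd f' f' ≫ i₁ := pullback.lift_snd _ _ _
  have e2 : pullback.map f' f' φ φ i₁ i₁ i₂ sq.w sq.w ≫ pullback.fst φ φ =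
      pullback.fst f' f' ≫ i₁ := pullback.lift_fst _ _ _
  rw [← e1, sq.w] at outer
  exact (IsPullback.of_right outer e2 right).flip


include sq hinv in
theorem isOpenMap_of_orbit_surjective [UniversallyOpen σ]
    (horb : Function.Surjective (pullback.lift σ p hinv).base)
    (hq : IsQuotientMap f'.base) : IsOpenMap f'.base := by
  have S1 := isPullback_kernelPair φ i₁ i₂ f' sq
  set μ := pullback.map f' f' φ φ i₁ i₁ i₂ sq.w sq.w with hμ
  set Ψ := pullback.lift σ p hinv with hΨ
  have hΨ1 : Ψ ≫ pullback.fst φ φ = σ := pullback.lift_fst _ _ _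
  let r := pullback.fst σ i₁
  let σ' := pullback.snd σ i₁
  have hcomm : (r ≫ Ψ) ≫ pullback.fst φ φ = σ' ≫ i₁ := by
    rw [Category.assoc, hΨ1]
    exact pullback.condition
  let Ψ' := S1.lift σ' (r ≫ Ψ) hcomm.symm
  have hΨ'1 : Ψ' ≫ pullback.fst f' f' = σ' := S1.lift_fst _ _ _
  have hΨ'2 : Ψ' ≫ μ = r ≫ Ψ := S1.lift_snd _ _ _
  have S2 : IsPullback Ψ' r μ Ψ := by
    have outer : IsPullback (Ψ' ≫ pullback.fst f' f') r i₁ (Ψ ≫ pullback.fst φ φ) := by
      rw [hΨ'1, hΨ1]
      exact (IsPullback.of_hasPullback σ i₁).flip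
    exact IsPullback.of_right outer hΨ'2 S1
  have hΨsurj : Surjective Ψ := ⟨horb⟩
  have hΨ'surj : Surjective Ψ' :=
    MorphismProperty.of_isPullback (P := @Surjective) S2.flip hΨsurj
  have hσ' : UniversallyOpen σ' := inferInstance
  let p' := Ψ' ≫ pullback.snd f' f'
  intro O hO
  rw [← hq.isOpen_preimage]
  have key : f'.base ⁻¹' (f'.base '' O) = σ'.base '' (p'.base ⁻¹' O) := by
    ext x'
    constructor
    · rintro ⟨o, ho, hfo⟩
      obtain ⟨ξ, hξ1, hξ2⟩ := Scheme.Pullback.exists_preimage_pullback (f := f') (g := f') x' o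
        hfo.symm
      obtain ⟨w, hw⟩ := Ψ'.surjective ξ
      refine ⟨w, ?_, ?_⟩
      · change p'.base w ∈ O
        have : p'.base w = o := by
          change (Ψ' ≫ pullback.snd f' f').base w = o
          rw [Scheme.Hom.comp_base, TopCat.comp_app]
          erw [hw, hξ2]
        rw [this]
        exact ho
      · have : σ' = Ψ' ≫ pullback.fst f' f' := hΨ'1.symm
        rw [this, Scheme.Hom.comp_base, TopCat.comp_app]
        erw [hw, hξ1]
    · rintro ⟨w, hw, rfl⟩
      refine ⟨p'.base w, hw, ?_⟩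
      have e : p' ≫ f' = σ' ≫ f' := by
        change (Ψ' ≫ pullback.snd f' f') ≫ f' = σ' ≫ f'
        rw [Category.assoc, ← pullback.condition, ← Category.assoc, hΨ'1]
      have := congrArg (fun m => m.base w) e
      simpa using this
  rw [key]
  exact σ'.isOpenMap _ (hO.preimage p'.continuous)

end Groth.Agent.Lib.Helper26.GQ3
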