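import Mathlib
import Groth.Prelude.Def_AlgGrp
import Groth.Prelude.Def_Red2
import Groth.Prelude.Def_ChGrp
import Groth.Agent.Lib.Helper4.GaPts
import Groth.Agent.Lib.Helper25.GaPts
import Groth.Agent.Lib.Helper25.GmPts
import Groth.Agent.Lib.Helper18.FinSub.Common
import Groth.Agent.S11107

/-!
# helper26 — fixed points of `𝔾_a` / `𝔾_m` acting on a proper scheme with a rational point (S15592)
-/

set_option autoImplicit false
universe u

namespace Groth.Agent.Lib.Helper26.GaGmFix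

open CategoryTheory Limits AlgebraicGeometry MonoidalCategory CartesianMonoidalCategory MonObj
open Polynomial
open Groth.Agent.Lib.Helper25 Groth.Agent.Lib.Helper25.GaPts Groth.Agent.Lib.Helper18.FinSub

variable {k : Type u} [Field k]

/-- the morphism `Z ⟶ 𝔸¹ = Spec k[X]` with coordinate `r` -/
noncomputable def aff (Z : Over (Spec (CommRingCat.of k))) (r : Γ(Z.left, ⊤)) :
    Z ⟶ T (k := k) k[X] :=
  toT (eval₂RingHom (sig Z) r) (ev₁_comp_algebraMap Z r)

lemma rho_aff (Z : Over (Spec (CommRingCat.of k))) (r : Γ(Z.left, ⊤)) :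
    rho (aff Z r) = eval₂RingHom (sig Z) r := rho_toT _ _

lemma aff_appTop (Z : Over (Spec (CommRingCat.of k))) (r : Γ(Z.left, ⊤)) :
    (aff Z r).left.appTop (gamInv (k := k) k[X] X) = r := by
  have h := congrArg (fun f => f X) (rho_aff Z r)
  simpa [rho_apply] using h

lemma comp_aff {Z Z' : Over (Spec (CommRingCat.of k))} (ψ : Z' ⟶ Z) (r : Γ(Z.left, ⊤)) :
    ψ ≫ aff Z r = aff Z' (ψ.left.appTop r) := by
  apply rho_injective
  rw [rho_comp, rho_aff, rho_aff, comp_eval₂RingHom, appTop_comp_sig]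

section extension

/-- the coordinate function on `𝔸¹` -/
noncomputable def coord : Γ((T (k := k) k[X]).left, ⊤) := gamInv (k := k) k[X] X

/-- the open `u ≠ 0` of `𝔸¹` -/
noncomputable def Uo : (T (k := k) k[X]).left.Opens := (T (k := k) k[X]).left.basicOpen coord

/-- `u ≠ 0` as a `k`-scheme -/
noncomputable def UoOver : Over (Spec (CommRingCat.of k)) :=
  Over.mk ((Uo (k := k)).ι ≫ (T (k := k) k[X]).hom)

/-- inclusion -/
noncomputable def UoIncl : UoOver (k := k) ⟶ T (k := k) k[X] := Over.homMk (Uo (k := k)).ι rfl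

lemma isUnit_coord_Uo : IsUnit ((Uo (k := k)).ι.appTop (coord (k := k))) := by
  apply RingedSpace.isUnit_of_isUnit_germ
  intro x _
  have hx : x ∈ (Uo (k := k)).toScheme.basicOpen ((Uo (k := k)).ι.appTop coord) := by
    rw [← Scheme.preimage_basicOpen_top]
    change x ∈ (Uo (k := k)).ι ⁻¹ᵁ (Uo (k := k))
    rw [Scheme.Opens.ι_preimage_self]
    trivial
  exact (Scheme.mem_basicOpen_top _ _ x).1 hx

/-- the tautological point of `𝔾_m` over `u ≠ 0` -/
noncomputable def mU : UoOver (k := k) ⟶ Red.Gm (Spec (CommRingCat.of k)) :=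
  GmPts.ptm (isUnit_coord_Uo (k := k)).unit

lemma coord_ne_zero : (coord (k := k)) ≠ 0 := by
  intro h
  have h1 := congrArg (gam (k := k) k[X]) h
  unfold coord at h1
  rw [gam_gamInv, map_zero] at h1
  exact Polynomial.X_ne_zero h1

lemma dense_Uo : Dense ((Uo (k := k) : (T (k := k) k[X]).left.Opens) : Set (T (k := k) k[X]).left) := by
  haveI : IsIntegral (T (k := k) k[X]).left := by
    change IsIntegral (Spec (CommRingCat.of k[X]))
    infer_instance
  apply IsOpen.dense (Uo (k := k)).isOpen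
  by_contra h
  rw [Set.not_nonempty_iff_eq_empty] at h
  have h2 : (Uo (k := k)) = ⊥ := SetLike.coe_injective (by simpa using h)
  exact coord_ne_zero ((AlgebraicGeometry.basicOpen_eq_bot_iff _).1 h2)

lemma ringKrullDim_stalk_le_one (x : (T (k := k) k[X]).left) :
    ringKrullDim ((T (k := k) k[X]).left.presheaf.stalk x) ≤ 1 := by
  have hV : IsAffineOpen (⊤ : (T (k := k) k[X]).left.Opens) := by
    change IsAffineOpen (⊤ : (Spec (CommRingCat.of k[X])).Opens)
    exact isAffineOpen_top _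
  let q := (hV.primeIdealOf ⟨x, trivial⟩).asIdeal
  letI := TopCat.Presheaf.algebra_section_stalk (T (k := k) k[X]).left.presheaf
    (U := ⊤) ⟨x, trivial⟩
  haveI h1 : IsLocalization.AtPrime ((T (k := k) k[X]).left.presheaf.stalk x) q :=
    hV.isLocalization_stalk ⟨x, trivial⟩
  rw [IsLocalization.AtPrime.ringKrullDim_eq_height q]
  refine le_trans Ideal.height_le_ringKrullDim_of_isPrime ?_
  have e : Γ((T (k := k) k[X]).left, ⊤) ≃+* k[X] :=
    (Scheme.ΓSpecIso (CommRingCat.of k[X])).commRingCatIsoToRingEquiv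
  rw [ringKrullDim_eq_of_ringEquiv e]
  exact Ring.krullDimLE_iff.mp inferInstance

lemma smooth_affineLine : Smooth (T (k := k) k[X]).hom := by
  change Smooth (Spec.map (CommRingCat.ofHom (algebraMap k k[X])))
  rw [HasRingHomProperty.Spec_iff (P := @Smooth)]
  change (algebraMap k k[X]).Smooth
  rw [RingHom.smooth_algebraMap]
  haveI : Algebra.FormallySmooth k k[X] :=
    .of_equiv (MvPolynomial.uniqueAlgEquiv k PUnit.{1})
  exact {}


/-- a morphism `𝔾_m → X` to a proper `k`-scheme extends to `𝔸¹` -/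
theorem exists_extension (Xs : Over (Spec (CommRingCat.of k))) [IsProper Xs.hom]
    (f' : Red.Gm (Spec (CommRingCat.of k)) ⟶ Xs) :
    ∃ φ : T (k := k) k[X] ⟶ Xs, ∀ (Z : Over (Spec (CommRingCat.of k))) (r : (Γ(Z.left, ⊤))ˣ),
      aff Z (r : Γ(Z.left, ⊤)) ≫ φ = GmPts.ptm r ≫ f' := by
  haveI := smooth_affineLine (k := k)
  obtain ⟨V, hUV, g, hg1, hg2, hg3⟩ := Groth.Agent.S11107.result (R := k)
    (T (k := k) k[X]).hom Xs.hom Uo dense_Uo (mU ≫ f').left (Over.w (mU ≫ f'))
  have hV : V = ⊤ := by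
    rw [eq_top_iff]
    intro x _
    by_contra hx
    have h2 := hg3 x hx
    have h1 := ringKrullDim_stalk_le_one (k := k) x
    have h3 := le_trans h2 h1
    revert h3
    decide
  subst hV
  let φ : T (k := k) k[X] ⟶ Xs := Over.homMk ((T (k := k) k[X]).left.topIso.inv ≫ g) (by
    rw [Category.assoc, hg1]
    simp)
  have hφ : UoIncl (k := k) ≫ φ = mU ≫ f' := by
    apply Over.OverMorphism.ext
    rw [← hg2]
    change (Uo (k := k)).ι ≫ (T (k := k) k[X]).left.topIso.inv ≫ g = _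
    rw [← Category.assoc]
    congr 1
    rw [← cancel_mono (⊤ : (T (k := k) k[X]).left.Opens).ι]
    simp
  refine ⟨φ, ?_⟩
  intro Z r
  -- `aff Z r` factors through `Uo`
  have hle : (⊤ : Z.left.Opens) ≤ (aff Z (r : Γ(Z.left, ⊤))).left ⁻¹ᵁ (Uo (k := k)) := by
    unfold Uo
    rw [Scheme.preimage_basicOpen_top]
    unfold coord
    rw [aff_appTop, Scheme.basicOpen_of_isUnit _ r.isUnit]
  have hrange : Set.range (aff Z (r : Γ(Z.left, ⊤))).left ⊆ Set.range (Uo (k := k)).ι := by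
    rintro _ ⟨z, rfl⟩
    rw [Scheme.Opens.range_ι]
    exact hle (Set.mem_univ z)
  let h₀ : Z.left ⟶ (Uo (k := k)).toScheme :=
    IsOpenImmersion.lift (Uo (k := k)).ι (aff Z (r : Γ(Z.left, ⊤))).left hrange
  have hh₀ : h₀ ≫ (Uo (k := k)).ι = (aff Z (r : Γ(Z.left, ⊤))).left :=
    IsOpenImmersion.lift_fac _ _ _
  let h : Z ⟶ UoOver (k := k) := Over.homMk h₀ (by
    change h₀ ≫ (Uo (k := k)).ι ≫ _ = _
    rw [← Category.assoc, hh₀]
    exact Over.w _)
  have hh : h ≫ UoIncl (k := k) = aff Z (r : Γ(Z.left, ⊤)) := by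
    apply Over.OverMorphism.ext
    exact hh₀
  have hm : h ≫ mU (k := k) = GmPts.ptm r := by
    apply GmPts.gmFn_injective
    change Red.gmFn (h ≫ mU (k := k)) = Red.gmFn (GmPts.ptm r)
    rw [GmPts.gmFn_comp, GmPts.gmFn_ptm]
    unfold mU
    rw [GmPts.gmFn_ptm]
    change h₀.appTop ((Uo (k := k)).ι.appTop coord) = _
    rw [← CommRingCat.comp_apply, ← Scheme.Hom.comp_appTop, hh₀]
    exact aff_appTop Z _
  rw [← hh, Category.assoc, hφ, ← Category.assoc, hm]

end extension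

section density

variable {C : Type u} [CommRing C] [IsDomain C] [Algebra k C]

/-- the generic point of `Spec C` -/
noncomputable def inc (C : Type u) [CommRing C] [IsDomain C] [Algebra k C] :
    T (k := k) (FractionRing C) ⟶ T (k := k) C :=
  Tmap (IsScalarTower.toAlgHom k C (FractionRing C))

lemma inc_appTop (c : C) : (inc (k := k) C).left.appTop (gamInv (k := k) C c) =
    gamInv (k := k) (FractionRing C) (algebraMap C (FractionRing C) c) := by
  unfold inc Tmap
  rw [toT_appTop]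
  rfl

instance : IsDominant (inc (k := k) C).left := by
  unfold inc
  rw [Tmap_left]
  constructor
  change DenseRange (PrimeSpectrum.comap _)
  rw [PrimeSpectrum.denseRange_comap_iff_ker_le_nilRadical]
  intro c hc
  rw [RingHom.mem_ker] at hc
  have : c = 0 := IsFractionRing.injective C (FractionRing C) (by simpa using hc)
  rw [this]
  exact Ideal.zero_mem _

instance : IsReduced (T (k := k) C).left := by
  change IsReduced (Spec (CommRingCat.of C))
  infer_instance

/-- two morphisms from `Spec C` to a separated `k`-scheme agreeing at the generic point agree -/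
lemma hom_ext_generic {Xs : Over (Spec (CommRingCat.of k))} [IsSeparated Xs.hom]
    (f g : T (k := k) C ⟶ Xs) (h : inc (k := k) C ≫ f = inc (k := k) C ≫ g) : f = g := by
  apply Over.OverMorphism.ext
  refine ext_of_isDominant_of_isSeparated Xs.hom ?_ (inc (k := k) C).left ?_
  · rw [Over.w f, Over.w g]
  · rw [← Over.comp_left, ← Over.comp_left, h]

end density

section action

variable {G Xs : Over (Spec (CommRingCat.of k))} [GrpObj G] (a : AlgGrp.Action G Xs)

lemma smul_orbit (x₀ : 𝟙_ (Over (Spec (CommRingCat.of k))) ⟶ Xs)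
    {Z : Over (Spec (CommRingCat.of k))} (g h : Z ⟶ G) :
    lift g (h ≫ a.orbitMap x₀) ≫ a.act = (g * h) ≫ a.orbitMap x₀ := by
  rw [a.comp_orbitMap, a.comp_orbitMap, a.lift_mul_act]

/-- the density argument: an identity `gg • φ(rW) = φ(rτ)` at the generic point of `Spec C`
specializes to `g • φ(0) = φ(0)` along any point where `rW` and `rτ` vanish -/
theorem core [IsSeparated Xs.hom] {C : Type u} [CommRing C] [IsDomain C] [Algebra k C]
    (gg : T (k := k) C ⟶ G) (φ : T (k := k) k[X] ⟶ Xs) (rW rτ : C)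
    (hK : lift (inc (k := k) C ≫ gg)
        (aff _ (gamInv (k := k) _ (algebraMap C (FractionRing C) rW)) ≫ φ) ≫ a.act =
      aff _ (gamInv (k := k) _ (algebraMap C (FractionRing C) rτ)) ≫ φ)
    {Z : Over (Spec (CommRingCat.of k))} (ψ : Z ⟶ T (k := k) C)
    (hW : ψ.left.appTop (gamInv (k := k) C rW) = 0)
    (hτ : ψ.left.appTop (gamInv (k := k) C rτ) = 0) :
    lift (ψ ≫ gg) (aff Z 0 ≫ φ) ≫ a.act = aff Z 0 ≫ φ := by
  have key : lift gg (aff _ (gamInv (k := k) C rW) ≫ φ) ≫ a.act =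
      aff _ (gamInv (k := k) C rτ) ≫ φ := by
    apply hom_ext_generic
    rw [comp_lift_assoc, ← Category.assoc (inc (k := k) C), comp_aff, inc_appTop,
      ← Category.assoc (inc (k := k) C), comp_aff, inc_appTop]
    exact hK
  have h2 : ψ ≫ lift gg (aff _ (gamInv (k := k) C rW) ≫ φ) ≫ a.act =
      ψ ≫ aff _ (gamInv (k := k) C rτ) ≫ φ := by rw [key]
  rw [comp_lift_assoc, ← Category.assoc ψ, comp_aff, hW, ← Category.assoc ψ, comp_aff, hτ] at h2
  exact h2

theorem isFixedPt_of (φ : T (k := k) k[X] ⟶ Xs)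
    (h : ∀ (Z : Over (Spec (CommRingCat.of k))) (g : Z ⟶ G),
      lift g (aff Z 0 ≫ φ) ≫ a.act = aff Z 0 ≫ φ) :
    a.IsFixedPt (aff (𝟙_ (Over (Spec (CommRingCat.of k)))) 0 ≫ φ) := by
  intro Z g
  rw [← Category.assoc, comp_aff, map_zero]
  exact h Z g

end action

section Ga

variable {G Xs : Over (Spec (CommRingCat.of k))} [GrpObj G] (a : AlgGrp.Action G Xs)

/-- inversion `𝔾_m → 𝔾_a`, `v ↦ v⁻¹` -/
noncomputable def invMap : Red.Gm (Spec (CommRingCat.of k)) ⟶ Red.Ga (Spec (CommRingCat.of k)) :=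
  GaPts.pt (((GmPts.gmU (𝟙 (Red.Gm (Spec (CommRingCat.of k)))))⁻¹ :
    (Γ((Red.Gm (Spec (CommRingCat.of k))).left, ⊤))ˣ) : Γ((Red.Gm (Spec (CommRingCat.of k))).left, ⊤))

lemma ptm_invMap {Z : Over (Spec (CommRingCat.of k))} (r : (Γ(Z.left, ⊤))ˣ) :
    GmPts.ptm r ≫ invMap (k := k) = GaPts.pt ((r⁻¹ : (Γ(Z.left, ⊤))ˣ) : Γ(Z.left, ⊤)) := by
  apply GaPts.gaFn_injective
  rw [GaPts.gaFn_comp, GaPts.gaFn_pt]
  unfold invMap
  rw [GaPts.gaFn_pt]
  have h : Units.map (GmPts.ptm (S := Spec (CommRingCat.of k)) r).left.appTop.hom.toMonoidHom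
      (GmPts.gmU (𝟙 (Red.Gm (Spec (CommRingCat.of k))))) = r := by
    apply Units.ext
    change (GmPts.ptm r).left.appTop (Red.gmFn (𝟙 (Red.Gm (Spec (CommRingCat.of k))))) = r
    rw [← GmPts.gmFn_comp, Category.comp_id, GmPts.gmFn_ptm]
  have h' : ((r⁻¹ : (Γ(Z.left, ⊤))ˣ) : Γ(Z.left, ⊤)) =
      ((Units.map (GmPts.ptm (S := Spec (CommRingCat.of k)) r).left.appTop.hom.toMonoidHom
      (GmPts.gmU (𝟙 (Red.Gm (Spec (CommRingCat.of k))))))⁻¹ : (Γ(Z.left, ⊤))ˣ) := by rw [h]
  rw [h']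
  rfl

lemma pt_mul_pt {Z : Over (Spec (CommRingCat.of k))} (A B : Γ(Z.left, ⊤)) :
    (GaPts.pt A : Z ⟶ Red.Ga (Spec (CommRingCat.of k))) * GaPts.pt B = GaPts.pt (A + B) := by
  apply GaPts.gaFn_injective
  rw [Groth.Agent.Lib.Helper4.GaPts.gaFn_mul, GaPts.gaFn_pt, GaPts.gaFn_pt, GaPts.gaFn_pt]

/-- the universal ring for the `𝔾_a` case: `k[a]⟦u⟧` -/
abbrev CA (k : Type u) [Field k] : Type u := PowerSeries k[X]

noncomputable def aC : CA k := PowerSeries.C (Polynomial.X)
noncomputable def uC : CA k := PowerSeries.X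

lemma isUnit_D : IsUnit (1 + aC * uC : CA k) := by
  rw [PowerSeries.isUnit_iff_constantCoeff]
  simp [aC, uC]

noncomputable def tauC : CA k := (uC : CA k) * (((isUnit_D (k := k)).unit⁻¹ : (CA k)ˣ) : CA k)

lemma tauC_mul : tauC * (1 + aC * uC) = (uC : CA k) := by
  unfold tauC
  rw [_root_.mul_assoc, IsUnit.val_inv_mul, _root_.mul_one]

theorem main_Ga [IsProper Xs.hom] (eh : G ⟶ Red.Ga (Spec (CommRingCat.of k)))
    (ei : Red.Ga (Spec (CommRingCat.of k)) ⟶ G) [IsMonHom ei] (h1 : eh ≫ ei = 𝟙 G)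
    (x₀ : 𝟙_ (Over (Spec (CommRingCat.of k))) ⟶ Xs) :
    ∃ x : 𝟙_ (Over (Spec (CommRingCat.of k))) ⟶ Xs, a.IsFixedPt x := by
  obtain ⟨φ, hφ⟩ := exists_extension Xs (invMap ≫ ei ≫ a.orbitMap x₀)
  refine ⟨_, isFixedPt_of a φ ?_⟩
  intro Z g
  have hφ' : ∀ (x : FractionRing (CA k)) (hx : x ≠ 0),
      aff _ (gamInv (k := k) _ x) ≫ φ =
        (GaPts.pt (gamInv (k := k) _ x⁻¹) ≫ ei) ≫ a.orbitMap x₀ := by
    intro x hx
    have h := hφ _ (Units.map (gamInv (k := k) (FractionRing (CA k))).toMonoidHom (Units.mk0 x hx))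
    rw [← Category.assoc, ptm_invMap] at h
    rw [Category.assoc]
    have e1 : ((Units.map (gamInv (k := k) (FractionRing (CA k))).toMonoidHom (Units.mk0 x hx) :
        (Γ((T (k := k) (FractionRing (CA k))).left, ⊤))ˣ) : Γ((T (k := k) (FractionRing (CA k))).left, ⊤)) =
        gamInv (k := k) _ x := rfl
    have e2 : (((Units.map (gamInv (k := k) (FractionRing (CA k))).toMonoidHom (Units.mk0 x hx))⁻¹ :
        (Γ((T (k := k) (FractionRing (CA k))).left, ⊤))ˣ) : Γ((T (k := k) (FractionRing (CA k))).left, ⊤)) =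
        gamInv (k := k) _ x⁻¹ := by
      rw [Units.coe_map_inv]
      simp
    rw [e1, e2] at h
    exact h
  have hu : algebraMap (CA k) (FractionRing (CA k)) uC ≠ 0 := by
    intro h
    have := IsFractionRing.injective (CA k) (FractionRing (CA k)) (h.trans (map_zero _).symm)
    exact PowerSeries.X_ne_zero this
  have hD : algebraMap (CA k) (FractionRing (CA k)) (1 + aC * uC) ≠ 0 :=
    ((isUnit_D (k := k)).map (algebraMap (CA k) (FractionRing (CA k)))).ne_zero
  have hτeq : algebraMap (CA k) (FractionRing (CA k)) tauC *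
      algebraMap (CA k) (FractionRing (CA k)) (1 + aC * uC) =
      algebraMap (CA k) (FractionRing (CA k)) uC := by
    rw [← map_mul, tauC_mul]
  have hτ : algebraMap (CA k) (FractionRing (CA k)) tauC ≠ 0 := by
    intro h
    rw [h, zero_mul] at hτeq
    exact hu hτeq.symm
  have hK : lift (inc (k := k) (CA k) ≫ GaPts.pt (gamInv (k := k) (CA k) aC) ≫ ei)
      (aff _ (gamInv (k := k) _ (algebraMap (CA k) (FractionRing (CA k)) uC)) ≫ φ) ≫ a.act =
      aff _ (gamInv (k := k) _ (algebraMap (CA k) (FractionRing (CA k)) tauC)) ≫ φ := by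
    rw [hφ' _ hu, hφ' _ hτ, smul_orbit]
    congr 1
    rw [← Category.assoc]
    have hmc := MonObj.mul_comp (inc (k := k) (CA k) ≫ GaPts.pt (gamInv (k := k) (CA k) aC))
      (GaPts.pt (gamInv (k := k) (FractionRing (CA k)) (algebraMap (CA k) (FractionRing (CA k)) uC)⁻¹)) ei
    rw [← hmc]
    congr 1
    apply GaPts.gaFn_injective
    rw [Groth.Agent.Lib.Helper4.GaPts.gaFn_mul, GaPts.gaFn_comp, GaPts.gaFn_pt, GaPts.gaFn_pt,
      GaPts.gaFn_pt, inc_appTop, ← map_add]
    congr 1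
    have h3 : algebraMap (CA k) (FractionRing (CA k)) tauC =
        algebraMap (CA k) (FractionRing (CA k)) uC /
          algebraMap (CA k) (FractionRing (CA k)) (1 + aC * uC) := by
      rw [eq_div_iff hD, hτeq]
    rw [h3]
    rw [map_add, map_one, map_mul] at hD ⊢
    field_simp
    ring
  let b : Γ(Z.left, ⊤) := Red.gaFn (g ≫ eh)
  let ev : CA k →+* Γ(Z.left, ⊤) :=
    (eval₂RingHom (sig Z) b).comp (PowerSeries.constantCoeff (R := k[X]))
  have hev : ev.comp (algebraMap k (CA k)) = sig Z := by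
    ext c
    simp [ev, PowerSeries.algebraMap_apply]
  let ψ : Z ⟶ T (k := k) (CA k) := toT ev hev
  have hψ : ∀ c, ψ.left.appTop (gamInv (k := k) (CA k) c) = ev c := fun c => toT_appTop ev hev c
  have hg : ψ ≫ GaPts.pt (gamInv (k := k) (CA k) aC) ≫ ei = g := by
    rw [← Category.assoc]
    have h4 : ψ ≫ GaPts.pt (gamInv (k := k) (CA k) aC) = g ≫ eh := by
      apply GaPts.gaFn_injective
      rw [GaPts.gaFn_comp, GaPts.gaFn_pt, hψ]
      simp [ev, aC, b]
    rw [h4, Category.assoc, h1, Category.comp_id]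
  have h5 := core a (GaPts.pt (gamInv (k := k) (CA k) aC) ≫ ei) φ uC tauC hK ψ
    (by rw [hψ]; simp [ev, uC]) (by rw [hψ]; simp [ev, tauC, uC])
  rw [hg] at h5
  exact h5

end Ga

section Gm

variable {G Xs : Over (Spec (CommRingCat.of k))} [GrpObj G] (a : AlgGrp.Action G Xs)

lemma ptm_mul_ptm {Z : Over (Spec (CommRingCat.of k))} (A B : (Γ(Z.left, ⊤))ˣ) :
    (GmPts.ptm A : Z ⟶ Red.Gm (Spec (CommRingCat.of k))) * GmPts.ptm B = GmPts.ptm (A * B) := by
  apply Groth.Agent.Lib.Helper25.GmPts.gmFn_injective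
  rw [_root_.GmPts.gmFn_mul, GmPts.gmFn_ptm, GmPts.gmFn_ptm, GmPts.gmFn_ptm]
  rfl

/-- the universal ring for the `𝔾_m` case: `k[t,t⁻¹]⟦u⟧` -/
abbrev CM (k : Type u) [Field k] : Type u := PowerSeries (LaurentPolynomial k)

noncomputable def tC : (CM k)ˣ :=
  Units.map (PowerSeries.C (R := LaurentPolynomial k)).toMonoidHom (GmEnd.tU k)

theorem main_Gm [IsProper Xs.hom] (eh : G ⟶ Red.Gm (Spec (CommRingCat.of k)))
    (ei : Red.Gm (Spec (CommRingCat.of k)) ⟶ G) [IsMonHom ei] (h1 : eh ≫ ei = 𝟙 G)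
    (x₀ : 𝟙_ (Over (Spec (CommRingCat.of k))) ⟶ Xs) :
    ∃ x : 𝟙_ (Over (Spec (CommRingCat.of k))) ⟶ Xs, a.IsFixedPt x := by
  obtain ⟨φ, hφ⟩ := exists_extension Xs (ei ≫ a.orbitMap x₀)
  refine ⟨_, isFixedPt_of a φ ?_⟩
  intro Z g
  have hu : algebraMap (CM k) (FractionRing (CM k)) PowerSeries.X ≠ 0 := by
    intro h
    have := IsFractionRing.injective (CM k) (FractionRing (CM k)) (h.trans (map_zero _).symm)
    exact PowerSeries.X_ne_zero this
  let tK : (Γ((T (k := k) (FractionRing (CM k))).left, ⊤))ˣ :=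
    Units.map ((gamInv (k := k) (FractionRing (CM k))).comp
      (algebraMap (CM k) (FractionRing (CM k)))).toMonoidHom tC
  let uK : (Γ((T (k := k) (FractionRing (CM k))).left, ⊤))ˣ :=
    Units.map (gamInv (k := k) (FractionRing (CM k))).toMonoidHom (Units.mk0 _ hu)
  let tΩ : (Γ((T (k := k) (CM k)).left, ⊤))ˣ := Units.map (gamInv (k := k) (CM k)).toMonoidHom tC
  have hK : lift (inc (k := k) (CM k) ≫ GmPts.ptm tΩ ≫ ei)
      (aff _ (gamInv (k := k) _ (algebraMap (CM k) (FractionRing (CM k)) PowerSeries.X)) ≫ φ) ≫ a.act =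
      aff _ (gamInv (k := k) _ (algebraMap (CM k) (FractionRing (CM k))
        ((tC (k := k) : CM k) * PowerSeries.X))) ≫ φ := by
    have e1 : aff _ (gamInv (k := k) _ (algebraMap (CM k) (FractionRing (CM k)) PowerSeries.X)) ≫ φ =
        (GmPts.ptm uK ≫ ei) ≫ a.orbitMap x₀ := by
      rw [Category.assoc]
      exact hφ _ uK
    have e2 : aff _ (gamInv (k := k) _ (algebraMap (CM k) (FractionRing (CM k))
        ((tC (k := k) : CM k) * PowerSeries.X))) ≫ φ = (GmPts.ptm (tK * uK) ≫ ei) ≫ a.orbitMap x₀ := by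
      rw [Category.assoc, ← hφ _ (tK * uK)]
      congr 2
      rw [map_mul, map_mul]
      rfl
    rw [e1, e2, smul_orbit]
    congr 1
    rw [← Category.assoc]
    have hmc := MonObj.mul_comp (inc (k := k) (CM k) ≫ GmPts.ptm tΩ) (GmPts.ptm uK) ei
    rw [← hmc]
    congr 1
    have h6 : inc (k := k) (CM k) ≫ GmPts.ptm tΩ = GmPts.ptm tK := by
      apply Groth.Agent.Lib.Helper25.GmPts.gmFn_injective
      rw [GmPts.gmFn_comp, GmPts.gmFn_ptm, GmPts.gmFn_ptm]
      exact inc_appTop _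
    rw [h6, ptm_mul_ptm]
  let b : (Γ(Z.left, ⊤))ˣ := GmPts.gmU (g ≫ eh)
  let ev : CM k →+* Γ(Z.left, ⊤) :=
    (LaurentPolynomial.eval₂ (sig Z) b).comp (PowerSeries.constantCoeff (R := LaurentPolynomial k))
  have hev : ev.comp (algebraMap k (CM k)) = sig Z := by
    ext c
    have h7 : algebraMap k (LaurentPolynomial k) c = LaurentPolynomial.C c := rfl
    simp [ev, PowerSeries.algebraMap_apply, h7]
  let ψ : Z ⟶ T (k := k) (CM k) := toT ev hev
  have hψ : ∀ c, ψ.left.appTop (gamInv (k := k) (CM k) c) = ev c := fun c => toT_appTop ev hev c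
  have hg : ψ ≫ GmPts.ptm tΩ ≫ ei = g := by
    rw [← Category.assoc]
    have h4 : ψ ≫ GmPts.ptm tΩ = g ≫ eh := by
      apply Groth.Agent.Lib.Helper25.GmPts.gmFn_injective
      rw [GmPts.gmFn_comp, GmPts.gmFn_ptm]
      change ψ.left.appTop (gamInv (k := k) (CM k) (PowerSeries.C (LaurentPolynomial.T 1))) = _
      rw [hψ]
      simp [ev, b]
    rw [h4, Category.assoc, h1, Category.comp_id]
  have h5 := core a (GmPts.ptm tΩ ≫ ei) φ PowerSeries.X ((tC (k := k) : CM k) * PowerSeries.X) hK ψ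
    (by rw [hψ]; simp [ev]) (by rw [hψ]; simp [ev])
  rw [hg] at h5
  exact h5

end Gm

theorem main (G Xs : Over (Spec (CommRingCat.of k))) [GrpObj G]
    (hG : Nonempty (Grp.mk G ≅ Grp.mk (Red.Ga (Spec (CommRingCat.of k)))) ∨
      Nonempty (Grp.mk G ≅ Grp.mk (Red.Gm (Spec (CommRingCat.of k)))))
    [IsProper Xs.hom] (x₀ : 𝟙_ (Over (Spec (CommRingCat.of k))) ⟶ Xs) (a : AlgGrp.Action G Xs) :
    ∃ x : 𝟙_ (Over (Spec (CommRingCat.of k))) ⟶ Xs, a.IsFixedPt x := by
  rcases hG with ⟨⟨e⟩⟩ | ⟨⟨e⟩⟩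
  · haveI : IsMonHom e.inv.hom.hom := inferInstanceAs (IsMonHom e.inv.hom.hom)
    exact main_Ga a e.hom.hom.hom e.inv.hom.hom (congrArg (fun f => f.hom.hom) e.hom_inv_id) x₀
  · haveI : IsMonHom e.inv.hom.hom := inferInstanceAs (IsMonHom e.inv.hom.hom)
    exact main_Gm a e.hom.hom.hom e.inv.hom.hom (congrArg (fun f => f.hom.hom) e.hom_inv_id) x₀

end Groth.Agent.Lib.Helper26.GaGmFix
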