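import Mathlib
import Groth.Prelude.Def_Red2
import Groth.Agent.Lib.Helper26.H90c
import Groth.Agent.Lib.Helper25.GaPts

set_option autoImplicit false
set_option maxHeartbeats 400000
universe u

namespace Groth.Agent.Lib.Helper26.GaGmHom

open CategoryTheory Limits AlgebraicGeometry MonoidalCategory CartesianMonoidalCategory MonObj

open Groth.Agent.Lib.Helper26.H90b Groth.Agent.Lib.Helper26.H90c
open Polynomial

section poly

theorem eq_one_of_isUnit_of_eval_zero {R : Type u} [CommRing R] [IsReduced R] (P : R[X])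
    (hP : IsUnit P) (h0 : P.eval 0 = 1) : P = 1 := by
  have h := Polynomial.coeff_isUnit_isNilpotent_of_isUnit hP
  ext i
  by_cases hi : i = 0
  · subst hi
    rw [Polynomial.coeff_zero_eq_eval_zero, h0]
    simp
  · have := (h.2 i hi).eq_zero
    rw [this, Polynomial.coeff_one, if_neg hi]

end poly

section loc

variable {S : Scheme.{u}} {R : Type u} [CommRing R] (t : Spec (CommRingCat.of R) ⟶ S)

theorem el_one {B : Type u} [CommRing B] [Algebra R B] : el t (1 : spA t B ⟶ Red.Ga S) = 0 := by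
  have h := el_mul t (1 : spA t B ⟶ Red.Ga S) 1
  have h1 : (1 : spA t B ⟶ Red.Ga S) * 1 = 1 := by
    have := @_root_.mul_one (spA t B ⟶ Red.Ga S) _ 1
    exact this
  rw [h1] at h
  exact left_eq_add.mp h

theorem elm_one {B : Type u} [CommRing B] [Algebra R B] :
    elm t (1 : spA t B ⟶ Red.Gm S) = 1 := by
  have h := elm_inv_mul t (1 : spA t B ⟶ Red.Gm S)
  have h1 : (1 : spA t B ⟶ Red.Gm S)⁻¹ * 1 = 1 := by
    have h2 := @_root_.mul_one (spA t B ⟶ Red.Gm S) _ (1 : spA t B ⟶ Red.Gm S)⁻¹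
    have h3 := @inv_one (spA t B ⟶ Red.Gm S) _
    exact h2.trans h3
  rw [← elm_mul, h1] at h
  exact h

/-- the universal point of `𝔾_a` over a reduced ring is sent to `1` -/
theorem univ_comp_eq_one [IsReduced R] (φ : Red.Ga S ⟶ Red.Gm S)
    (hφ : ∀ T : Over S, (1 : T ⟶ Red.Ga S) ≫ φ = 1)
    (p : spA t R[X] ⟶ Red.Ga S) (hp : el t p = X) : p ≫ φ = 1 := by
  let z : spA t R ⟶ spA t R[X] := spMap t (Polynomial.aeval (0 : R))
  have hz : z ≫ p = 1 := by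
    apply el_injective t
    rw [el_comp, hp, el_one, Polynomial.aeval_X]
  have h1 : z ≫ p ≫ φ = 1 := by
    rw [← Category.assoc, hz, hφ]
  have hunit : IsUnit (elm t (p ≫ φ)) :=
    ⟨⟨elm t (p ≫ φ), elm t (p ≫ φ)⁻¹, by rw [_root_.mul_comm]; exact elm_inv_mul t (p ≫ φ),
      elm_inv_mul t (p ≫ φ)⟩, rfl⟩
  have h0 : (elm t (p ≫ φ)).eval 0 = 1 := by
    have := congrArg (elm t) h1
    rw [elm_comp, elm_one, Polynomial.coe_aeval_eq_eval] at this
    exact this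
  have hP := eq_one_of_isUnit_of_eval_zero _ hunit h0
  apply elm_injective t
  rw [hP, elm_one]

end loc


section glob

variable {S : Scheme.{u}}

open Groth.Agent.Lib.Helper25.GaPts (toSpecΓ_map_appTop eq_toSpecΓ_map)
open Groth.Agent.Lib.Helper4.GaPts (gaFn_comp gaFn_injective)

/-- a point of `𝔾_a` over an `S`-scheme lying over a reduced affine `Spec R ⟶ S` is sent to `1` -/
theorem comp_eq_one_of_over (φ : Red.Ga S ⟶ Red.Gm S)
    (hφ : ∀ T : Over S, (1 : T ⟶ Red.Ga S) ≫ φ = 1)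
    {R : Type u} [CommRing R] [IsReduced R] (t : Spec (CommRingCat.of R) ⟶ S) (W : Over S)
    (h : W.left ⟶ Spec (CommRingCat.of R)) (hW : h ≫ t = W.hom) (x : W ⟶ Red.Ga S) :
    x ≫ φ = 1 := by
  let σ : R →+* Γ(W.left, ⊤) := ((Scheme.ΓSpecIso (CommRingCat.of R)).inv ≫ h.appTop).hom
  let ρ : R[X] →+* Γ(W.left, ⊤) := Polynomial.eval₂RingHom σ (Red.gaFn x)
  have hC : ρ.comp Polynomial.C = σ := by
    ext r
    simp [ρ]
  let el0 : W.left ⟶ Spec (CommRingCat.of R[X]) :=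
    W.left.toSpecΓ ≫ Spec.map (CommRingCat.ofHom ρ)
  have h1 : el0 ≫ Spec.map (CommRingCat.ofHom (algebraMap R R[X])) = h := by
    change (W.left.toSpecΓ ≫ Spec.map (CommRingCat.ofHom ρ)) ≫
      Spec.map (CommRingCat.ofHom (Polynomial.C : R →+* R[X])) = h
    rw [Category.assoc, ← Spec.map_comp, ← CommRingCat.ofHom_comp, hC]
    exact (eq_toSpecΓ_map h).symm
  let e : W ⟶ spA t R[X] := Over.homMk el0 (by
    change el0 ≫ Spec.map (CommRingCat.ofHom (algebraMap R R[X])) ≫ t = W.hom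
    rw [← Category.assoc, h1, hW])
  obtain ⟨p, hp⟩ := el_surjective t (R := R[X]) (X : R[X])
  have hep : e ≫ p = x := by
    apply gaFn_injective
    rw [gaFn_comp]
    have h2 : Red.gaFn p = (Scheme.ΓSpecIso (CommRingCat.of R[X])).inv (X : R[X]) := by
      rw [← hp]
      exact (congrArg (fun m => m.hom (Red.gaFn p))
        (Scheme.ΓSpecIso (CommRingCat.of R[X])).hom_inv_id).symm
    rw [h2]
    refine (toSpecΓ_map_appTop (CommRingCat.ofHom ρ) (X : R[X])).trans ?_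
    change Polynomial.eval₂ σ (Red.gaFn x) X = _
    rw [Polynomial.eval₂_X]
  rw [← hep, Category.assoc, univ_comp_eq_one t φ hφ p hp, MonObj.comp_one]

theorem main [IsReduced S] (φ : Red.Ga S ⟶ Red.Gm S)
    (hφ : ∀ T : Over S, (1 : T ⟶ Red.Ga S) ≫ φ = 1) : φ = 1 := by
  ext1
  apply Scheme.hom_ext_of_forall
  intro y
  let s : S := (Red.Ga S).hom y
  let 𝒰 := S.affineCover
  obtain ⟨r, hr⟩ := 𝒰.covers s
  let V : S.Opens := (𝒰.f (𝒰.idx s)).opensRange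
  let U : (Red.Ga S).left.Opens := (Red.Ga S).hom ⁻¹ᵁ V
  have hyU : y ∈ U := ⟨r, hr⟩
  refine ⟨U, hyU, ?_⟩
  let W : Over S := Over.mk (U.ι ≫ (Red.Ga S).hom)
  have hrange : Set.range (U.ι ≫ (Red.Ga S).hom) ⊆ Set.range (𝒰.f (𝒰.idx s)) := by
    rintro _ ⟨w, rfl⟩
    exact w.2
  let h : W.left ⟶ 𝒰.X (𝒰.idx s) := IsOpenImmersion.lift (𝒰.f (𝒰.idx s)) (U.ι ≫ (Red.Ga S).hom) hrange
  have hW : h ≫ 𝒰.f (𝒰.idx s) = W.hom := IsOpenImmersion.lift_fac _ _ _
  have hred : IsReduced (𝒰.X (𝒰.idx s)) := isReduced_of_isOpenImmersion (𝒰.f (𝒰.idx s))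
  have hred' : _root_.IsReduced ↑Γ(𝒰.X (𝒰.idx s), ⊤) := inferInstance
  let t : Spec (CommRingCat.of ↑Γ(𝒰.X (𝒰.idx s), ⊤)) ⟶ S :=
    (𝒰.X (𝒰.idx s)).isoSpec.inv ≫ 𝒰.f (𝒰.idx s)
  let h' : W.left ⟶ Spec (CommRingCat.of ↑Γ(𝒰.X (𝒰.idx s), ⊤)) :=
    h ≫ (𝒰.X (𝒰.idx s)).isoSpec.hom
  have hW' : h' ≫ t = W.hom := by
    change (h ≫ (𝒰.X (𝒰.idx s)).isoSpec.hom) ≫ (𝒰.X (𝒰.idx s)).isoSpec.inv ≫ 𝒰.f (𝒰.idx s) = _
    rw [Category.assoc, Iso.hom_inv_id_assoc, hW]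
  let x : W ⟶ Red.Ga S := Over.homMk U.ι rfl
  have e1 : x ≫ φ = 1 := comp_eq_one_of_over φ hφ t W h' hW' x
  have e2 : x ≫ (1 : Red.Ga S ⟶ Red.Gm S) = 1 := MonObj.comp_one x
  have e3 := congrArg (fun m => Over.Hom.left m) (e1.trans e2.symm)
  exact e3

end glob

end Groth.Agent.Lib.Helper26.GaGmHom
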