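import Mathlib
import Groth.Prelude.Def_AlgGrp
import Groth.Prelude.Def_Red2
import Groth.Agent.Lib.Helper4.KerPts
import Groth.Agent.Lib.Helper4.SmoothRed
import Groth.Agent.Lib.Helper5.RegSmooth
import Groth.Agent.Lib.Helper7.FinUnramCount
import Groth.Agent.Lib.Helper18.FinSub.Final

/-!
# helper26 — quotients of `𝔾_a` by finite subgroup schemes (S15606)

* `SubGrp`: group structure on a subobject closed under the group operations (copy of the
  `SubGrp` section of helper9's `RC4`, to avoid its import closure).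
* `exists_desc`, `exists_iso_of_same_kernel`: uniqueness of quotients by effective epimorphisms
  (after helper24's `QuotField.Unique`, with `EffectiveEpi` hypotheses instead of fppf coverings).
* `kerObj`, `kerι`, `kerGrp`: the kernel of a homomorphism as a group object.
* `flat_of_finite_surjective`: a finite surjective morphism from `𝔾_a` to an affine scheme smooth
  over the field is flat (helper7's `flat_of_regular`).
* `main`: S15606.
-/

set_option autoImplicit false
universe u

namespace Groth.Agent.Lib.Helper26.GaQuot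

open CategoryTheory Limits AlgebraicGeometry MonoidalCategory CartesianMonoidalCategory MonObj GrpObj
open Opposite

section SubGrp

variable {C : Type*} [Category.{u} C] [CartesianMonoidalCategory C] {G Z : C} [GrpObj G]
  (z : Z ⟶ G) [Mono z]
  (hmul : ∀ (X : C) (a b : X ⟶ Z), ∃ c : X ⟶ Z, c ≫ z = (a ≫ z) * (b ≫ z))
  (hone : ∀ X : C, ∃ c : X ⟶ Z, c ≫ z = 1)
  (hinv : ∀ (X : C) (a : X ⟶ Z), ∃ c : X ⟶ Z, c ≫ z = (a ≫ z)⁻¹)

/-- the subgroup of points factoring through `z` -/
def Sub (X : C) : Subgroup (X ⟶ G) where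
  carrier := {g | ∃ a : X ⟶ Z, a ≫ z = g}
  mul_mem' := by
    rintro _ _ ⟨a, rfl⟩ ⟨b, rfl⟩
    exact hmul X a b
  one_mem' := hone X
  inv_mem' := by
    rintro _ ⟨a, rfl⟩
    exact hinv X a

/-- precomposition as a monoid hom -/
def preM {X X' : C} (u : X' ⟶ X) : (X ⟶ G) →* (X' ⟶ G) where
  toFun x := u ≫ x
  map_one' := MonObj.comp_one _
  map_mul' _ _ := MonObj.comp_mul _ _ _

/-- restriction -/
def resM {X X' : C} (u : X' ⟶ X) : Sub z hmul hone hinv X →* Sub z hmul hone hinv X' :=
  ((preM (G := G) u).comp (Sub z hmul hone hinv X).subtype).codRestrict (Sub z hmul hone hinv X')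
    (fun x => by
      obtain ⟨a, ha⟩ := x.2
      exact ⟨u ≫ a, by rw [Category.assoc, ha]; rfl⟩)

/-- the presheaf of groups -/
def SubF : Cᵒᵖ ⥤ GrpCat.{u} where
  obj X := GrpCat.of (Sub z hmul hone hinv X.unop)
  map u := GrpCat.ofHom (resM z hmul hone hinv u.unop)
  map_id X := by
    ext x
    change 𝟙 _ ≫ x.1 = x.1
    rw [Category.id_comp]
  map_comp u v := by
    ext x
    change (v.unop ≫ u.unop) ≫ x.1 = v.unop ≫ u.unop ≫ x.1
    rw [Category.assoc]

/-- `Z` represents the presheaf -/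
noncomputable def rep : (SubF z hmul hone hinv ⋙ forget GrpCat).RepresentableBy Z where
  homEquiv {X} :=
    { toFun := fun a => ⟨a ≫ z, a, rfl⟩
      invFun := fun g => g.2.choose
      left_inv := fun a => by
        rw [← cancel_mono z]
        exact (⟨a ≫ z, a, rfl⟩ : Sub z hmul hone hinv X).2.choose_spec
      right_inv := fun g => Subtype.ext g.2.choose_spec }
  homEquiv_comp {X X'} u g := by
    apply Subtype.ext
    change (u ≫ g) ≫ z = u ≫ g ≫ z
    rw [Category.assoc]

/-- the induced group structure -/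
@[instance_reducible]
noncomputable def grpObj : GrpObj Z :=
  GrpObj.ofRepresentableBy Z (SubF z hmul hone hinv) (rep z hmul hone hinv)

theorem mul_comp_z (X : C) (a b : X ⟶ Z) :
    letI := grpObj z hmul hone hinv
    (a * b) ≫ z = (a ≫ z) * (b ≫ z) := by
  letI := grpObj z hmul hone hinv
  have h := ((yonedaGrpObjIsoOfRepresentableBy Z (SubF z hmul hone hinv)
    (rep z hmul hone hinv)).hom.app (op X)).hom.map_mul a b
  exact congrArg Subtype.val h

theorem one_comp_z (X : C) :
    letI := grpObj z hmul hone hinv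
    (1 : X ⟶ Z) ≫ z = 1 := by
  letI := grpObj z hmul hone hinv
  have h := ((yonedaGrpObjIsoOfRepresentableBy Z (SubF z hmul hone hinv)
    (rep z hmul hone hinv)).hom.app (op X)).hom.map_one
  exact congrArg Subtype.val h

theorem isMonHom_of_hom {M N : C} [MonObj M] [MonObj N] (f : M ⟶ N)
    (h1 : ∀ X : C, (1 : X ⟶ M) ≫ f = 1)
    (hm : ∀ (X : C) (a b : X ⟶ M), (a * b) ≫ f = a ≫ f * b ≫ f) : IsMonHom f where
  one_hom := by
    have h := h1 (𝟙_ C)
    rw [Hom.one_def, Hom.one_def] at h
    have e : toUnit (𝟙_ C) = 𝟙 _ := toUnit_unique _ _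
    rw [e, Category.id_comp, Category.id_comp] at h
    exact h
  mul_hom := by
    have h := hm (M ⊗ M) (fst M M) (snd M M)
    rw [Hom.mul_def, Hom.mul_def, lift_fst_snd, Category.id_comp] at h
    rw [h]
    congr 1
    ext <;> simp

theorem isMonHom_z :
    letI := grpObj z hmul hone hinv
    IsMonHom z := by
  letI := grpObj z hmul hone hinv
  exact isMonHom_of_hom z (one_comp_z z hmul hone hinv) (mul_comp_z z hmul hone hinv)

end SubGrp

section desc

variable {S : Scheme.{u}} {G Q H : Over S} [GrpObj G] [GrpObj Q]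

theorem epi_of_effectiveEpi_left {X Y : Over S} (q : X ⟶ Y) [EffectiveEpi q.left] : Epi q := by
  haveI : Epi q.left := inferInstance
  exact (Over.forget S).epi_of_epi_map ‹Epi q.left›

/-- a morphism invariant under the kernel of an effective epimorphic homomorphism factors
through it (after helper24's `QuotField.exists_desc`) -/
theorem exists_desc (q : G ⟶ Q) [IsMonHom q] [EffectiveEpi q.left] (f : G ⟶ H)
    (hf : ∀ (T : Over S) (g n : T ⟶ G), n ≫ q = 1 → (g * n) ≫ f = g ≫ f) :
    ∃ fb : Q ⟶ H, q ≫ fb = f := by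
  haveI : Epi q.left := inferInstance
  have hcoh : ∀ {Z : Scheme.{u}} (g₁ g₂ : Z ⟶ G.left), g₁ ≫ q.left = g₂ ≫ q.left →
      g₁ ≫ f.left = g₂ ≫ f.left := by
    intro Z g₁ g₂ h
    have hS : g₁ ≫ G.hom = g₂ ≫ G.hom := by
      rw [← Over.w q, ← Category.assoc, h, Category.assoc]
    let T : Over S := Over.mk (g₁ ≫ G.hom)
    let x₁ : T ⟶ G := Over.homMk g₁ rfl
    let x₂ : T ⟶ G := Over.homMk g₂ hS.symm
    have hx : x₁ ≫ q = x₂ ≫ q := by
      apply Over.OverMorphism.ext
      exact h
    have hn : (x₁⁻¹ * x₂) ≫ q = 1 := by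
      rw [MonObj.mul_comp, GrpObj.inv_comp, hx, inv_mul_cancel]
    have h2 := hf T x₁ (x₁⁻¹ * x₂) hn
    rw [mul_inv_cancel_left] at h2
    exact (congrArg (fun φ => φ.left) h2).symm
  let s : Q.left ⟶ H.left := EffectiveEpi.desc q.left f.left hcoh
  have hs : q.left ≫ s = f.left := EffectiveEpi.fac q.left f.left hcoh
  refine ⟨Over.homMk s ?_, ?_⟩
  · rw [← cancel_epi q.left, ← Category.assoc, hs, Over.w f, Over.w q]
  · apply Over.OverMorphism.ext
    exact hs

variable {Q' : Over S} [GrpObj Q']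

/-- two effective epimorphic quotients with the same kernel are isomorphic -/
theorem exists_iso_of_same_kernel (q : G ⟶ Q) [IsMonHom q] [EffectiveEpi q.left]
    (q' : G ⟶ Q') [IsMonHom q'] [EffectiveEpi q'.left]
    (hker : ∀ (T : Over S) (n : T ⟶ G), n ≫ q = 1 ↔ n ≫ q' = 1) :
    ∃ e : Q ≅ Q', q ≫ e.hom = q' := by
  obtain ⟨a, ha⟩ := exists_desc q q' (fun T g n hn => by
    rw [MonObj.mul_comp, (hker T n).1 hn, _root_.mul_one])
  obtain ⟨b, hb⟩ := exists_desc q' q (fun T g n hn => by
    rw [MonObj.mul_comp, (hker T n).2 hn, _root_.mul_one])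
  haveI := epi_of_effectiveEpi_left q
  haveI := epi_of_effectiveEpi_left q'
  refine ⟨⟨a, b, ?_, ?_⟩, ha⟩
  · rw [← cancel_epi q, ← Category.assoc, ha, hb, Category.comp_id]
  · rw [← cancel_epi q', ← Category.assoc, hb, ha, Category.comp_id]

end desc

section kernel

variable {S : Scheme.{u}} {G Q : Over S} [GrpObj G] [GrpObj Q] (q : G ⟶ Q) [IsMonHom q]

instance mono_one : Mono η[Q] :=
  mono_of_mono_fac (show η[Q] ≫ toUnit Q = 𝟙 _ from toUnit_unique _ _)

/-- the kernel -/
noncomputable def kerObj : Over S := pullback q η[Q]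

/-- the inclusion of the kernel -/
noncomputable def kerι : kerObj q ⟶ G := pullback.fst q η[Q]

instance : Mono (kerι q) := by
  unfold kerι
  exact pullback.fst_of_mono

omit [GrpObj G] [IsMonHom q] in
theorem isKernel_kerι : AlgGrp.IsKernel (kerι q) q := by
  unfold AlgGrp.IsKernel
  have h := IsPullback.of_hasPullback q η[Q]
  have e : pullback.snd q η[Q] = toUnit _ := toUnit_unique _ _
  rw [e] at h
  exact h

omit [GrpObj G] [IsMonHom q] in
theorem ker_pts {N : Over S} (i : N ⟶ G) (hk : AlgGrp.IsKernel i q) (T : Over S) (x : T ⟶ G) :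
    x ≫ q = 1 ↔ ∃ y : T ⟶ N, y ≫ i = x := by
  obtain ⟨h1, h2⟩ := (Groth.Agent.Lib.Helper4.KerPts.isKernel_iff i q).1 hk
  constructor
  · intro hx
    obtain ⟨y, hy, -⟩ := h2 T x hx
    exact ⟨y, hy⟩
  · rintro ⟨y, rfl⟩
    rw [Category.assoc, h1, MonObj.comp_one]

/-- the group structure on the kernel -/
@[instance_reducible]
noncomputable def kerGrp : GrpObj (kerObj q) :=
  grpObj (kerι q)
    (fun X a b => (ker_pts q (kerι q) (isKernel_kerι q) X _).1 (by
      rw [MonObj.mul_comp, (ker_pts q (kerι q) (isKernel_kerι q) X _).2 ⟨a, rfl⟩,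
        (ker_pts q (kerι q) (isKernel_kerι q) X _).2 ⟨b, rfl⟩, _root_.mul_one]))
    (fun X => (ker_pts q (kerι q) (isKernel_kerι q) X _).1 (MonObj.one_comp q))
    (fun X a => (ker_pts q (kerι q) (isKernel_kerι q) X _).1 (by
      rw [GrpObj.inv_comp, (ker_pts q (kerι q) (isKernel_kerι q) X _).2 ⟨a, rfl⟩, inv_one]))

theorem isMonHom_kerι : letI := kerGrp q; IsMonHom (kerι q) :=
  isMonHom_z (kerι q) _ _ _

omit [GrpObj G] [IsMonHom q] in
/-- the kernel of a finite morphism is finite over the base -/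
theorem isFinite_kerObj [IsFinite q.left] : IsFinite (kerObj q).hom := by
  have sq := (IsPullback.of_hasPullback q η[Q]).map (Over.forget S)
  simp only [Over.forget_map] at sq
  have h1 : IsFinite (pullback.snd q η[Q]).left :=
    MorphismProperty.of_isPullback (P := @IsFinite) sq ‹IsFinite q.left›
  have h2 : (kerObj q).hom = (pullback.snd q η[Q]).left ≫ (𝟙_ (Over S)).hom :=
    (Over.w (pullback.snd q η[Q])).symm
  have h3 : IsFinite (𝟙_ (Over S)).hom := by
    change IsFinite (𝟙 S)
    infer_instance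
  rw [h2]
  exact MorphismProperty.comp_mem @IsFinite _ _ h1 h3

end kernel

section flat

open Polynomial

variable {k : Type u} [Field k]

/-- `𝔾_a ≅ Spec k[X]` as schemes -/
noncomputable def gaSchemeIso :
    (Red.Ga (Spec (CommRingCat.of k))).left ≅ Spec (CommRingCat.of k[X]) :=
  (Over.forget _).mapIso (Groth.Agent.Lib.Helper18.FinSub.betaA (K := k))

instance isAffine_ga : IsAffine (Red.Ga (Spec (CommRingCat.of k))).left :=
  IsAffine.of_isIso (gaSchemeIso (k := k)).hom

/-- `Γ(𝔾_a) ≃ k[X]` -/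
noncomputable def gaRingEquiv : Γ((Red.Ga (Spec (CommRingCat.of k))).left, ⊤) ≃+* k[X] :=
  ((Scheme.Γ.mapIso (gaSchemeIso (k := k)).symm.op) ≪≫ Scheme.ΓSpecIso _).commRingCatIsoToRingEquiv

theorem isRegularRing_of_smooth_affine (X : Scheme.{u}) [IsAffine X]
    (g : X ⟶ Spec (CommRingCat.of k)) [Smooth g] : IsRegularRing Γ(X, ⊤) := by
  have hU : IsAffineOpen (⊤ : (Spec (CommRingCat.of k)).Opens) := isAffineOpen_top _
  have hV : IsAffineOpen (⊤ : X.Opens) := isAffineOpen_top _
  have hVU : (⊤ : X.Opens) ≤ g ⁻¹ᵁ ⊤ := le_top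
  have hs : (g.appLE ⊤ ⊤ hVU).hom.Smooth :=
    HasRingHomProperty.appLE (P := @Smooth) g inferInstance ⟨⊤, hU⟩ ⟨⊤, hV⟩ hVU
  let e : Γ(Spec (CommRingCat.of k), ⊤) ≃+* k :=
    (Scheme.ΓSpecIso (CommRingCat.of k)).commRingCatIsoToRingEquiv
  haveI : IsRegularRing Γ(Spec (CommRingCat.of k), ⊤) := IsRegularRing.of_ringEquiv e.symm
  algebraize [(g.appLE ⊤ ⊤ hVU).hom]
  haveI : Algebra.Smooth Γ(Spec (CommRingCat.of k), ⊤) Γ(X, ⊤) := hs
  exact Groth.Agent.Lib.Helper5.RegSmooth.isRegularRing_of_smooth Γ(Spec (CommRingCat.of k), ⊤) Γ(X, ⊤)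

/-- a finite surjective morphism from `𝔾_a` to an affine scheme smooth over the field is flat -/
theorem flat_of_finite_surjective (H : Over (Spec (CommRingCat.of k))) [IsAffine H.left]
    [Smooth H.hom] (f : Red.Ga (Spec (CommRingCat.of k)) ⟶ H) [IsFinite f.left]
    [Surjective f.left] : Flat f.left := by
  rw [HasRingHomProperty.iff_of_isAffine (P := @Flat)]
  haveI : IsReduced H.left := Groth.Agent.Lib.Helper4.SmoothRed.isReduced_of_smooth_to_field H.hom
  haveI : IsSchemeTheoreticallyDominant f.left := IsSchemeTheoreticallyDominant.of_isDominant f.left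
  have hinj : Function.Injective f.left.appTop.hom := f.left.app_injective ⊤
  have hfin : f.left.appTop.hom.Finite := f.left.finite_appTop
  haveI hA : IsRegularRing Γ(H.left, ⊤) := isRegularRing_of_smooth_affine H.left H.hom
  haveI hB : IsRegularRing Γ((Red.Ga (Spec (CommRingCat.of k))).left, ⊤) :=
    IsRegularRing.of_ringEquiv (gaRingEquiv (k := k)).symm
  haveI hD : IsDomain Γ((Red.Ga (Spec (CommRingCat.of k))).left, ⊤) :=
    (gaRingEquiv (k := k)).toMulEquiv.isDomain k[X]
  algebraize [f.left.appTop.hom]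
  haveI : Module.Finite Γ(H.left, ⊤) Γ((Red.Ga (Spec (CommRingCat.of k))).left, ⊤) := hfin
  exact Groth.Agent.Lib.Helper7.FinUnramCount.flat_of_regular _ _ hinj
    (fun P _ => inferInstance) (fun Q _ => inferInstance)

end flat

section whisker

variable {S : Scheme.{u}}

/-- base change square for `T ◁ u` (after helper4's `MaxOpenGrp.isPullback_whiskerLeft`) -/
theorem isPullback_whiskerLeft (T G H : Over S) (u : G ⟶ H) :
    IsPullback (T ◁ u).left (snd T G).left (snd T H).left u.left := by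
  have A := IsPullback.of_hasPullback T.hom H.hom
  have B := IsPullback.of_hasPullback T.hom G.hom
  have hGH : G.hom = u.left ≫ H.hom := (Over.w u).symm
  refine IsPullback.of_right (h₁₂ := pullback.fst T.hom H.hom) (h₂₂ := H.hom) (v₁₃ := T.hom) ?_ ?_ A
  · rw [Over.whiskerLeft_left_fst, ← hGH]
    exact B
  · exact Over.whiskerLeft_left_snd u

theorem epi_whiskerLeft {G H : Over S} (u : G ⟶ H) [QuasiCompact u.left] [Surjective u.left]
    [Flat u.left] (T : Over S) : Epi (T ◁ u) := by
  have sq := (isPullback_whiskerLeft T G H u).flip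
  haveI : QuasiCompact (T ◁ u).left :=
    MorphismProperty.of_isPullback (P := @QuasiCompact) sq ‹QuasiCompact u.left›
  haveI : Surjective (T ◁ u).left :=
    MorphismProperty.of_isPullback (P := @Surjective) sq ‹Surjective u.left›
  haveI : Flat (T ◁ u).left :=
    MorphismProperty.of_isPullback (P := @Flat) sq ‹Flat u.left›
  haveI : EffectiveEpi (T ◁ u).left := inferInstance
  exact epi_of_effectiveEpi_left (T ◁ u)

theorem epi_whiskerRight {G H : Over S} (u : G ⟶ H) [QuasiCompact u.left] [Surjective u.left]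
    [Flat u.left] (T : Over S) : Epi (u ▷ T) := by
  haveI := epi_whiskerLeft u T
  have h : u ▷ T = (β_ G T).hom ≫ (T ◁ u) ≫ (β_ H T).inv := by
    rw [← Category.assoc, ← BraidedCategory.braiding_naturality_left, Category.assoc,
      Iso.hom_inv_id, Category.comp_id]
  rw [h]
  infer_instance

theorem epi_tensorHom {G H : Over S} (u : G ⟶ H) [QuasiCompact u.left] [Surjective u.left]
    [Flat u.left] : Epi (u ⊗ₘ u) := by
  haveI := epi_whiskerLeft u H
  haveI := epi_whiskerRight u G
  rw [MonoidalCategory.tensorHom_def]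
  infer_instance

end whisker

section main

variable {k : Type u} [Field k]

theorem main (H : Over (Spec (CommRingCat.of k))) [GrpObj H] [IsAffine H.left] [Smooth H.hom]
    (f : Red.Ga (Spec (CommRingCat.of k)) ⟶ H) [IsMonHom f] [IsFinite f.left]
    [Surjective f.left] :
    Nonempty (Grp.mk H ≅ Grp.mk (Red.Ga (Spec (CommRingCat.of k)))) := by
  letI := kerGrp f
  haveI := isMonHom_kerι f
  haveI := isFinite_kerObj f
  obtain ⟨φ, hφ, hk, hfl, hsu⟩ := Groth.Agent.Lib.Helper18.FinSub.main_Ga (kerι f)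
  haveI : Flat f.left := flat_of_finite_surjective H f
  haveI : QuasiCompact f.left := inferInstance
  haveI : EffectiveEpi f.left := inferInstance
  haveI : QuasiCompact φ.left := inferInstance
  haveI : EffectiveEpi φ.left := inferInstance
  obtain ⟨e, he⟩ := exists_iso_of_same_kernel f φ (fun T n => by
    rw [ker_pts f (kerι f) (isKernel_kerι f) T n, ker_pts φ (kerι f) hk T n])
  haveI : Epi f := epi_of_effectiveEpi_left f
  haveI : Epi (f ⊗ₘ f) := epi_tensorHom f
  have hf1 : η[Red.Ga (Spec (CommRingCat.of k))] ≫ f = η[H] := IsMonHom.one_hom f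
  have hφ1 : η[Red.Ga (Spec (CommRingCat.of k))] ≫ φ = η[Red.Ga (Spec (CommRingCat.of k))] :=
    IsMonHom.one_hom φ
  have hfm : μ[Red.Ga (Spec (CommRingCat.of k))] ≫ f = (f ⊗ₘ f) ≫ μ[H] := IsMonHom.mul_hom f
  have hφm : μ[Red.Ga (Spec (CommRingCat.of k))] ≫ φ =
      (φ ⊗ₘ φ) ≫ μ[Red.Ga (Spec (CommRingCat.of k))] := IsMonHom.mul_hom φ
  haveI : IsMonHom e.hom :=
    { one_hom := by
        rw [← hf1, Category.assoc, he, hφ1]
      mul_hom := by
        rw [← cancel_epi (f ⊗ₘ f)]
        have h1 : (f ⊗ₘ f) ≫ μ[H] ≫ e.hom = (φ ⊗ₘ φ) ≫ μ[Red.Ga (Spec (CommRingCat.of k))] := by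
          rw [← Category.assoc, ← hfm, Category.assoc, he, hφm]
        have h2 : (f ⊗ₘ f) ≫ (e.hom ⊗ₘ e.hom) ≫ μ[Red.Ga (Spec (CommRingCat.of k))] =
            (φ ⊗ₘ φ) ≫ μ[Red.Ga (Spec (CommRingCat.of k))] := by
          rw [← Category.assoc, tensorHom_comp_tensorHom, he]
        rw [h1, h2] }
  exact ⟨Grp.mkIso' e⟩

end main

end Groth.Agent.Lib.Helper26.GaQuot
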