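import Mathlib
import Groth.Prelude.Def_EtBase
import Groth.Prelude.Def_EtCore

set_option maxHeartbeats 400000

open CategoryTheory CategoryTheory.Limits Opposite AlgebraicGeometry

namespace Groth.Agent.Lib.Helper26.GalCov

universe w u

section abstract
variable {C : Type*} [Category C] [HasBinaryProducts C] {T : C} (hT : IsTerminal T)
  (Y : C) {G : Type*} [Group G] (σ : G →* Aut Y)
  (P : Cᵒᵖ ⥤ Type w)

include hT in
lemma compat_iff
    (hP : Function.Injective (fun s : P.obj (op (Y ⨯ Y)) => fun g : G => P.map (prod.lift (𝟙 Y) (σ g).hom).op s))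
    (x : P.obj (op Y)) :
    (∀ {Z : C} (p₁ p₂ : Z ⟶ Y), p₁ ≫ hT.from Y = p₂ ≫ hT.from Y → P.map p₁.op x = P.map p₂.op x) ↔
      ∀ g : G, P.map (σ g).hom.op x = x := by
  constructor
  · intro h g
    have := h (σ g).hom (𝟙 Y) (hT.hom_ext _ _)
    simpa using this
  · intro h Z p₁ p₂ _
    have key : P.map (prod.fst : Y ⨯ Y ⟶ Y).op x = P.map (prod.snd : Y ⨯ Y ⟶ Y).op x := by
      apply hP
      funext g
      show P.map (prod.lift (𝟙 Y) (σ g).hom).op (P.map (prod.fst : Y ⨯ Y ⟶ Y).op x) =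
        P.map (prod.lift (𝟙 Y) (σ g).hom).op (P.map (prod.snd : Y ⨯ Y ⟶ Y).op x)
      rw [← FunctorToTypes.map_comp_apply, ← FunctorToTypes.map_comp_apply, ← op_comp, ← op_comp,
        prod.lift_fst, prod.lift_snd, h g]
      simp
    have h1 : P.map p₁.op x = P.map (prod.lift p₁ p₂).op (P.map (prod.fst : Y ⨯ Y ⟶ Y).op x) := by
      rw [← FunctorToTypes.map_comp_apply, ← op_comp, prod.lift_fst]
    have h2 : P.map p₂.op x = P.map (prod.lift p₁ p₂).op (P.map (prod.snd : Y ⨯ Y ⟶ Y).op x) := by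
      rw [← FunctorToTypes.map_comp_apply, ← op_comp, prod.lift_snd]
    rw [h1, h2, key]

include hT in
theorem isSheafFor_iff
    (hP : Function.Injective (fun s : P.obj (op (Y ⨯ Y)) => fun g : G => P.map (prod.lift (𝟙 Y) (σ g).hom).op s)) :
    Presieve.IsSheafFor P (Presieve.singleton (hT.from Y)) ↔
      (Function.Injective (P.map (hT.from Y).op) ∧
        Set.range (P.map (hT.from Y).op) = {s | ∀ g : G, P.map (σ g).hom.op s = s}) := by
  rw [Presieve.isSheafFor_singleton]
  simp_rw [compat_iff hT Y σ P hP]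
  have hinv : ∀ t : P.obj (op T), ∀ g : G, P.map (σ g).hom.op (P.map (hT.from Y).op t) =
      P.map (hT.from Y).op t := by
    intro t g
    rw [← FunctorToTypes.map_comp_apply, ← op_comp, hT.hom_ext ((σ g).hom ≫ hT.from Y) (hT.from Y)]
  constructor
  · intro h
    refine ⟨?_, ?_⟩
    · intro t₁ t₂ h12
      obtain ⟨y, -, hy⟩ := h (P.map (hT.from Y).op t₁) (hinv t₁)
      rw [hy t₁ rfl, hy t₂ h12.symm]
    · ext s
      constructor
      · rintro ⟨t, rfl⟩
        exact hinv t
      · intro hs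
        obtain ⟨y, hy, -⟩ := h s hs
        exact ⟨y, hy⟩
  · rintro ⟨hinj, hrange⟩ x hx
    have : x ∈ Set.range (P.map (hT.from Y).op) := by rw [hrange]; exact hx
    obtain ⟨y, hy⟩ := this
    exact ⟨y, hy, fun y' hy' => hinj (hy'.trans hy.symm)⟩

end abstract

theorem s16268 (X : Scheme.{u})
    (Y : X.Etale)
    {G : Type u} [Group G] (σ : G →* Aut Y)
    (P : X.Etaleᵒᵖ ⥤ Type w)
    (hP : Function.Bijective (fun s : P.obj (op (Y ⨯ Y)) => fun g : G => P.map (prod.lift (𝟙 Y) (σ g).hom).op s)) :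
    Presieve.IsSheafFor P (Presieve.singleton ((EtCore.topIsTerminal X).from Y)) ↔
      (Function.Injective (P.map ((EtCore.topIsTerminal X).from Y).op) ∧
        Set.range (P.map ((EtCore.topIsTerminal X).from Y).op) = {s | ∀ g : G, P.map (σ g).hom.op s = s}) :=
  isSheafFor_iff (EtCore.topIsTerminal X) Y σ P hP.injective

end Groth.Agent.Lib.Helper26.GalCov
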