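import Mathlib
import Groth.Prelude.Def_EtBase
import Groth.Prelude.Def_EtCore
import Groth.Agent.Lib.Helper26.GalCov

set_option maxHeartbeats 400000
set_option backward.isDefEq.respectTransparency false
set_option backward.isDefEq.respectTransparency.types false

open CategoryTheory CategoryTheory.Limits Opposite AlgebraicGeometry

namespace Groth.Agent.Lib.Helper26.GalCov2

universe u

/-- Coproduct injections in the small étale site are jointly surjective. -/
lemma iUnion_range_eq_univ {X : Scheme.{u}} {G : Type u} {Y : G → X.Etale} {W : X.Etale}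
    (ι : ∀ g, Y g ⟶ W) (hc : IsColimit (Cofan.mk W ι)) :
    ⋃ g, Set.range (ι g).left = Set.univ := by
  have hopen : IsOpen (⋃ g, Set.range (ι g).left) :=
    isOpen_iUnion fun g => (ι g).left.isOpenMap.isOpen_range
  let U : W.left.Opens := ⟨_, hopen⟩
  let Uobj : X.Etale := Scheme.Etale.mk (U.ι ≫ W.hom)
  let j : Uobj ⟶ W := MorphismProperty.Over.homMk U.ι rfl
  have hsub : ∀ g, Set.range (ι g).left ⊆ Set.range U.ι := by
    intro g
    rw [Scheme.Opens.range_ι]
    exact Set.subset_iUnion (fun g => Set.range (ι g).left) g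
  let ι' : ∀ g, Y g ⟶ Uobj := fun g =>
    MorphismProperty.Over.homMk (IsOpenImmersion.lift U.ι (ι g).left (hsub g)) (by
      show IsOpenImmersion.lift U.ι (ι g).left (hsub g) ≫ U.ι ≫ W.hom = (Y g).hom
      rw [IsOpenImmersion.lift_fac_assoc]
      exact MorphismProperty.Over.w (ι g))
  have hι' : ∀ g, ι' g ≫ j = ι g := by
    intro g
    apply MorphismProperty.Over.Hom.ext
    exact IsOpenImmersion.lift_fac _ _ _
  let r : W ⟶ Uobj := Cofan.IsColimit.desc hc ι'
  have hr : ∀ g, ι g ≫ r = ι' g := fun g => Cofan.IsColimit.fac hc ι' g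
  have hrj : r ≫ j = 𝟙 W := by
    refine Cofan.IsColimit.hom_ext hc _ _ (fun g => ?_)
    show ι g ≫ r ≫ j = ι g ≫ 𝟙 W
    rw [← Category.assoc, hr, hι', Category.comp_id]
  have hrj' : r.left ≫ U.ι = 𝟙 W.left := by
    have := congrArg (fun t => t.left) hrj
    exact this
  ext w
  simp only [Set.mem_univ, iff_true]
  have hw : U.ι (r.left w) = w := by
    have := congrArg (fun t => t.base w) hrj'
    exact this
  have : w ∈ (U : Set W.left) := by
    rw [← hw]
    exact (r.left w).2
  exact this

open Groth.Agent.Lib.Helper26 in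
theorem s16269 (X : Scheme.{u})
    (Y : X.Etale) (hY : Function.Surjective Y.hom.base)
    {G : Type u} [Group G] (σ : G →* Aut Y)
    (hgal : Nonempty (IsColimit (Cofan.mk (Y ⨯ Y) (fun g : G => prod.lift (𝟙 Y) (σ g).hom))))
    (F : EtCoh.Ab X) :
    Function.Injective (F.obj.map ((EtCore.topIsTerminal X).from Y).op) ∧
      Set.range (F.obj.map ((EtCore.topIsTerminal X).from Y).op) =
        {s : EtCoh.sect F Y | ∀ g : G, F.obj.map (σ g).hom.op s = s} := by
  obtain ⟨hc⟩ := hgal
  set f := (EtCore.topIsTerminal X).from Y with hf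
  let P : X.Etaleᵒᵖ ⥤ Type (u + 1) := F.obj ⋙ forget AddCommGrpCat.{u + 1}
  have hsh : Presieve.IsSheaf X.smallEtaleTopology P :=
    (isSheaf_iff_isSheaf_of_type _ _).mp
      ((Presheaf.isSheaf_iff_isSheaf_forget _ F.obj (forget AddCommGrpCat.{u + 1})).mp F.cond)
  -- Step A
  have hfl : f.left = Y.hom := by
    have := MorphismProperty.Over.w f
    exact (Category.comp_id _).symm.trans this
  have hmemA : Sieve.ofArrows (fun _ : PUnit.{1} => Y) (fun _ => f) ∈
      X.smallEtaleTopology (EtCoh.top X) := by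
    rw [Scheme.ofArrows_mem_smallEtaleTopology_iff]
    rw [Set.eq_univ_iff_forall]
    intro x
    obtain ⟨y, hy⟩ := hY x
    refine Set.mem_iUnion.mpr ⟨PUnit.unit, y, ?_⟩
    rw [hfl]
    exact hy
  have hA : Presieve.IsSheafFor P (Presieve.singleton f) := by
    rw [← Presieve.ofArrows_pUnit, Presieve.isSheafFor_iff_generate]
    exact hsh _ hmemA
  -- Step B
  have hmemB : Sieve.ofArrows (fun _ : G => Y) (fun g : G => prod.lift (𝟙 Y) (σ g).hom) ∈
      X.smallEtaleTopology (Y ⨯ Y) := by
    rw [Scheme.ofArrows_mem_smallEtaleTopology_iff]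
    exact iUnion_range_eq_univ _ hc
  have hB : Function.Injective (fun s : P.obj (op (Y ⨯ Y)) => fun g : G =>
      P.map (prod.lift (𝟙 Y) (σ g).hom).op s) := by
    intro s s' hss'
    refine (hsh _ hmemB).isSeparatedFor.ext ?_
    rintro Z _ ⟨Z', a, _, ⟨g⟩, rfl⟩
    have := congrFun hss' g
    simp only at this
    rw [op_comp, FunctorToTypes.map_comp_apply, FunctorToTypes.map_comp_apply, this]
  exact (GalCov.isSheafFor_iff (EtCore.topIsTerminal X) Y σ P hB).mp hA

end Groth.Agent.Lib.Helper26.GalCov2
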