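import Mathlib
set_option maxHeartbeats 400000
namespace Groth.Agent.Lib.Helper26.GaussJacobi
open Finset

variable {F : Type} [Field F] [Fintype F] [DecidableEq F] {R : Type} [CommRing R] [IsDomain R]

/-- `S ψ c = Σ_{x : Fin N → F, Σ x = c} ∏ ψ_i (x_i)` -/
noncomputable def S {N : ℕ} (ψ : Fin N → MulChar F R) (c : F) : R :=
  ∑ x ∈ (univ : Finset (Fin N → F)).filter (fun x => ∑ i, x i = c), ∏ i, ψ i (x i)

omit [Fintype F] [DecidableEq F] [IsDomain R] in
lemma mprod_apply {ι : Type} (s : Finset ι) (ψ : ι → MulChar F R) {c : F} (hc : c ≠ 0) :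
    (∏ i ∈ s, ψ i) c = ∏ i ∈ s, ψ i c := by
  classical
  induction s using Finset.induction_on with
  | empty =>
    simp only [Finset.prod_empty]
    exact MulChar.one_apply (isUnit_iff_ne_zero.mpr hc)
  | insert a s ha ih =>
    rw [Finset.prod_insert ha, Finset.prod_insert ha, MulChar.mul_apply, ih]

omit [Fintype F] [DecidableEq F] [IsDomain R] in
lemma addchar_sum {ι : Type} (s : Finset ι) (Ψ : AddChar F R) (x : ι → F) :
    Ψ (∑ i ∈ s, x i) = ∏ i ∈ s, Ψ (x i) := by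
  classical
  induction s using Finset.induction_on with
  | empty => simp
  | insert a s ha ih =>
    rw [Finset.sum_insert ha, Finset.prod_insert ha, AddChar.map_add_eq_mul, ih]

/-- scaling -/
lemma S_scale {N : ℕ} (ψ : Fin N → MulChar F R) {t : F} (ht : t ≠ 0) (c : F) :
    S ψ (t * c) = (∏ i, ψ i) t * S ψ c := by
  unfold S
  rw [Finset.mul_sum]
  symm
  refine Finset.sum_nbij' (fun y j => t * y j) (fun x j => t⁻¹ * x j) ?_ ?_ ?_ ?_ ?_
  · intro y hy
    simp only [Finset.mem_filter, Finset.mem_univ, true_and] at hy ⊢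
    rw [← Finset.mul_sum, hy]
  · intro x hx
    simp only [Finset.mem_filter, Finset.mem_univ, true_and] at hx ⊢
    rw [← Finset.mul_sum, hx, ← mul_assoc, inv_mul_cancel₀ ht, one_mul]
  · intro y _
    funext j
    simp only
    rw [← mul_assoc, inv_mul_cancel₀ ht, one_mul]
  · intro x _
    funext j
    simp only
    rw [← mul_assoc, mul_inv_cancel₀ ht, one_mul]
  · intro y _
    simp only
    rw [mprod_apply _ _ ht, ← Finset.prod_mul_distrib]
    refine Finset.prod_congr rfl fun j _ => ?_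
    rw [map_mul]

/-- product of Gauss sums -/
lemma prod_gauss {N : ℕ} (ψ : Fin N → MulChar F R) (Ψ : AddChar F R) :
    ∏ i, (∑ y : F, Ψ y * ψ i y) = ∑ c : F, Ψ c * S ψ c := by
  rw [Fintype.prod_sum]
  rw [← Finset.sum_fiberwise (univ : Finset (Fin N → F)) (fun x => ∑ i, x i)]
  refine Finset.sum_congr rfl fun c _ => ?_
  unfold S
  rw [Finset.mul_sum]
  refine Finset.sum_congr rfl fun x hx => ?_
  simp only [Finset.mem_filter, Finset.mem_univ, true_and] at hx
  rw [Finset.prod_mul_distrib, ← addchar_sum, hx]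

/-- sum over units -/
lemma unit_sum {N : ℕ} (ψ : Fin N → MulChar F R) (c : F) :
    ∑ x ∈ (Finset.univ : Finset (Fin N → Fˣ)).filter (fun x => ∑ i, ((x i : Fˣ) : F) = c),
          ∏ i : Fin N, ψ i ((x i : Fˣ) : F) = S ψ c := by
  unfold S
  refine Finset.sum_of_injOn (fun x i => ((x i : Fˣ) : F)) ?_ ?_ ?_ ?_
  · intro x _ y _ h
    funext i
    exact Units.ext (congrFun h i)
  · intro x hx
    simp only [Finset.coe_filter, Finset.mem_univ, true_and, Set.mem_setOf_eq] at hx ⊢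
    exact hx
  · intro x hx hnot
    simp only [Finset.mem_filter, Finset.mem_univ, true_and] at hx
    by_cases h0 : ∃ i, x i = 0
    · obtain ⟨i, hi⟩ := h0
      refine Finset.prod_eq_zero (Finset.mem_univ i) ?_
      rw [hi]; exact MulChar.map_zero _
    · exfalso
      push Not at h0
      apply hnot
      refine ⟨fun i => Units.mk0 (x i) (h0 i), ?_, ?_⟩
      · simp only [Finset.coe_filter, Finset.mem_univ, true_and, Set.mem_setOf_eq, Units.val_mk0]
        exact hx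
      · funext i; simp
  · intro x _
    rfl


lemma S_ne_zero {N : ℕ} (ψ : Fin N → MulChar F R) {c : F} (hc : c ≠ 0) :
    S ψ c = (∏ i, ψ i) c * S ψ 1 := by
  have := S_scale ψ hc 1
  rwa [mul_one] at this

lemma S_formula {N : ℕ} (ψ : Fin N → MulChar F R) (c : F) :
    S ψ c = (∏ i, ψ i) c * S ψ 1 + if c = 0 then S ψ 0 else 0 := by
  by_cases hc : c = 0
  · subst hc; rw [MulChar.map_zero, zero_mul, zero_add, if_pos rfl]
  · rw [if_neg hc, add_zero]; exact S_ne_zero ψ hc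

lemma sum_Psi_S {N : ℕ} (ψ : Fin N → MulChar F R) (Ψ : AddChar F R) :
    ∑ c, Ψ c * S ψ c = S ψ 1 * ∑ c, Ψ c * (∏ i, ψ i) c + S ψ 0 := by
  have h : ∀ c, Ψ c * S ψ c
      = S ψ 1 * (Ψ c * (∏ i, ψ i) c) + if c = 0 then S ψ 0 else 0 := by
    intro c
    by_cases hc : c = 0
    · subst hc
      rw [if_pos rfl, MulChar.map_zero, mul_zero, mul_zero, zero_add, AddChar.map_zero_eq_one,
        one_mul]
    · rw [if_neg hc, add_zero, S_ne_zero ψ hc]; ring
  rw [Finset.sum_congr rfl fun c _ => h c, Finset.sum_add_distrib, ← Finset.mul_sum,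
    Finset.sum_ite_eq' Finset.univ (0 : F) (fun _ => S ψ 0), if_pos (Finset.mem_univ _)]

lemma sum_S {N : ℕ} (ψ : Fin N → MulChar F R) :
    ∑ c, S ψ c = S ψ 1 * ∑ c, (∏ i, ψ i) c + S ψ 0 := by
  have h : ∀ c, S ψ c
      = S ψ 1 * ((∏ i, ψ i) c) + if c = 0 then S ψ 0 else 0 := by
    intro c
    by_cases hc : c = 0
    · subst hc
      rw [if_pos rfl, MulChar.map_zero, mul_zero, zero_add]
    · rw [if_neg hc, add_zero, S_ne_zero ψ hc]; ring
  rw [Finset.sum_congr rfl fun c _ => h c, Finset.sum_add_distrib, ← Finset.mul_sum,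
    Finset.sum_ite_eq' Finset.univ (0 : F) (fun _ => S ψ 0), if_pos (Finset.mem_univ _)]

lemma sum_S_eq_zero {N : ℕ} (ψ : Fin N → MulChar F R) (h : ∃ i, ψ i ≠ 1) :
    ∑ c, S ψ c = 0 := by
  unfold S
  rw [Finset.sum_fiberwise (univ : Finset (Fin N → F)) (fun x => ∑ i, x i)
    (fun x => ∏ i, ψ i (x i)), ← Fintype.prod_sum]
  obtain ⟨i, hi⟩ := h
  exact Finset.prod_eq_zero (Finset.mem_univ i) (MulChar.sum_eq_zero_of_ne_one hi)

lemma gs_mul_inv {χ : MulChar F R} (hχ : χ ≠ 1) {ψ : AddChar F R} (hψ : ψ.IsPrimitive) :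
    gaussSum χ ψ * gaussSum χ⁻¹ ψ = χ (-1) * Fintype.card F := by
  rw [← mul_gaussSum_inv_eq_gaussSum χ⁻¹, mul_left_comm, gaussSum_mul_gaussSum_eq_card hχ hψ,
    MulChar.inv_apply', inv_neg_one]

omit [DecidableEq F] [IsDomain R] in
lemma G_eq (χ : MulChar F R) (Ψ : AddChar F R) : ∑ y, Ψ y * χ y = gaussSum χ Ψ := by
  unfold gaussSum
  exact Finset.sum_congr rfl fun y _ => mul_comm _ _

lemma key {N : ℕ} (ψ : Fin N → MulChar F R) (Ψ : AddChar F R) (hΨ : Ψ ≠ 1)
    (hnt : (∏ i, ψ i) ≠ 1 ∨ ∃ i, ψ i ≠ 1) :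
    (∑ y, Ψ y * (∏ i, ψ i)⁻¹ y) * ∑ c, Ψ c * S ψ c = (Fintype.card F : R) * S ψ (-1) := by
  have hm1 : S ψ (-1) = (∏ i, ψ i) (-1) * S ψ 1 := S_ne_zero ψ (neg_ne_zero.mpr one_ne_zero)
  rw [sum_Psi_S, G_eq, G_eq, hm1]
  by_cases hP : (∏ i, ψ i) = 1
  · have hnt' : ∃ i, ψ i ≠ 1 := hnt.resolve_left (fun h => h hP)
    have h0 := sum_S_eq_zero ψ hnt'
    rw [sum_S, hP, MulChar.sum_one_eq_card_units] at h0
    rw [hP, inv_one, gaussSum_one_left hΨ, MulChar.one_apply (isUnit_iff_ne_zero.mpr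
      (neg_ne_zero.mpr one_ne_zero))]
    have hq : (Fintype.card F : R) = (Fintype.card Fˣ : R) + 1 := by
      rw [Fintype.card_eq_card_units_add_one (α := F)]
      push_cast
      rfl
    rw [hq]
    linear_combination -h0
  · have hprim := AddChar.IsPrimitive.of_ne_one hΨ
    have hS0 : S ψ 0 = 0 := by
      obtain ⟨a, ha⟩ := MulChar.ne_one_iff.mp hP
      have := S_scale ψ (a.ne_zero) 0
      rw [mul_zero] at this
      have h2 : (1 - (∏ i, ψ i) (a : F)) * S ψ 0 = 0 := by linear_combination this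
      rcases mul_eq_zero.mp h2 with h3 | h3
      · exfalso; apply ha; linear_combination -h3
      · exact h3
    have hg := gs_mul_inv hP hprim
    rw [hS0]
    linear_combination (S ψ 1) * hg

theorem main (F : Type) [Field F] [Fintype F] [DecidableEq F] (R : Type) [CommRing R] [IsDomain R]
    (N : ℕ) (hN : 1 ≤ N) (χ : Fin (N + 1) → MulChar F R) (hprod : ∏ i, χ i = 1) (hnt : ∃ i, χ i ≠ 1)
    (Ψ : AddChar F R) (hΨ : Ψ ≠ 1) :
    (Fintype.card F : R) * ((-1) ^ (N - 1) *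
        ∑ x ∈ (Finset.univ : Finset (Fin N → Fˣ)).filter (fun x => ∑ i, ((x i : Fˣ) : F) = -1),
          ∏ i : Fin N, (χ i.succ)⁻¹ ((x i : Fˣ) : F)) =
      ∏ i : Fin (N + 1), (-(∑ y : F, Ψ y * (χ i)⁻¹ y)) := by
  set ψ : Fin N → MulChar F R := fun i => (χ i.succ)⁻¹ with hψ
  have hu := unit_sum ψ (-1)
  simp only [hψ] at hu
  rw [hu]
  rw [Fin.prod_univ_succ] at hprod
  have hP : (∏ i, ψ i) = χ 0 := by
    simp only [hψ]
    rw [Finset.prod_inv_distrib]
    exact (eq_inv_of_mul_eq_one_left hprod).symm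
  have hnt' : (∏ i, ψ i) ≠ 1 ∨ ∃ i, ψ i ≠ 1 := by
    by_cases h1 : (∏ i, ψ i) = 1
    · right
      obtain ⟨i, hi⟩ := hnt
      rw [hP] at h1
      induction i using Fin.cases with
      | zero => exact absurd h1 hi
      | succ j => exact ⟨j, inv_ne_one.mpr hi⟩
    · exact Or.inl h1
  have hk := key ψ Ψ hΨ hnt'
  rw [← prod_gauss, hP] at hk
  rw [Fin.prod_univ_succ]
  have hneg : ∏ i : Fin N, (-(∑ y : F, Ψ y * (χ i.succ)⁻¹ y))
      = (-1) ^ N * ∏ i : Fin N, (∑ y : F, Ψ y * ψ i y) := by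
    rw [Finset.prod_neg, Finset.card_univ, Fintype.card_fin]
  rw [hneg]
  obtain ⟨M, rfl⟩ : ∃ M, N = M + 1 := ⟨N - 1, by omega⟩
  simp only [Nat.add_sub_cancel]
  have e : ((-1 : R)) ^ (M + 1) = - (-1) ^ M := by rw [pow_succ]; ring
  rw [e]
  linear_combination -(-1 : R) ^ M * hk

end Groth.Agent.Lib.Helper26.GaussJacobi
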