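import Mathlib

/-!
# gcd of Euler characteristics of hypersurfaces = gcd of binomial coefficients = gcd of `d/δ`
-/

namespace Groth.Agent.Lib.Helper26.GcdEuler

set_option maxHeartbeats 400000

/-- Lucas: `p ∤ C(d-1, p^j-1)` when `p^j ∣ d`. -/
lemma not_dvd_choose (p : ℕ) [Fact p.Prime] : ∀ (j d : ℕ), 1 ≤ d → p ^ j ∣ d →
    ¬ p ∣ (d - 1).choose (p ^ j - 1) := by
  have hp : p.Prime := Fact.out
  intro j
  induction j with
  | zero =>
    intro d _ _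
    simp only [pow_zero, Nat.sub_self, Nat.choose_zero_right, Nat.dvd_one]
    exact hp.one_lt.ne'
  | succ j ih =>
    intro d hd hdvd
    obtain ⟨d', rfl⟩ : p ∣ d := Dvd.dvd.trans (dvd_pow_self p (Nat.succ_ne_zero j)) hdvd
    have hd' : 1 ≤ d' := by
      rcases Nat.eq_zero_or_pos d' with h | h
      · rw [h, mul_zero] at hd; omega
      · exact h
    have hdvd' : p ^ j ∣ d' := by
      rw [pow_succ, mul_comm] at hdvd
      exact (Nat.mul_dvd_mul_iff_left hp.pos).1 hdvd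
    have hppos : 0 < p := hp.pos
    have hpj : 1 ≤ p ^ j := Nat.one_le_pow _ _ hppos
    -- quotient and remainder computations
    have h1 : (p * d' - 1) / p = d' - 1 ∧ (p * d' - 1) % p = p - 1 := by
      rw [Nat.div_mod_unique hppos]
      refine ⟨?_, by omega⟩
      obtain ⟨e, rfl⟩ : ∃ e, d' = e + 1 := ⟨d' - 1, by omega⟩
      rw [Nat.add_sub_cancel, mul_add, mul_one]
      generalize p * e = m
      omega
    have h2 : (p ^ (j + 1) - 1) / p = p ^ j - 1 ∧ (p ^ (j + 1) - 1) % p = p - 1 := by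
      rw [Nat.div_mod_unique hppos]
      refine ⟨?_, by omega⟩
      obtain ⟨e, he⟩ : ∃ e, p ^ j = e + 1 := ⟨p ^ j - 1, by omega⟩
      have hpow : p ^ (j + 1) = p * e + p := by rw [pow_succ, he]; ring
      rw [hpow, he, Nat.add_sub_cancel]
      generalize p * e = m
      omega
    have hlucas := Choose.choose_modEq_choose_mod_mul_choose_div_nat
      (n := p * d' - 1) (k := p ^ (j + 1) - 1) (p := p)
    rw [h1.1, h1.2, h2.1, h2.2, Nat.choose_self, one_mul] at hlucas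
    intro hdiv
    apply ih d' hd' hdvd'
    exact (Nat.modEq_zero_iff_dvd.1 (hlucas.symm.trans (Nat.modEq_zero_iff_dvd.2 hdiv)))

/-- `k * C(d,k) = d * C(d-1,k-1)` -/
lemma choose_identity (d k : ℕ) (hd : 1 ≤ d) (hk : 1 ≤ k) :
    d * (d - 1).choose (k - 1) = d.choose k * k := by
  obtain ⟨d', rfl⟩ : ∃ e, d = e + 1 := ⟨d - 1, by omega⟩
  obtain ⟨k', rfl⟩ : ∃ e, k = e + 1 := ⟨k - 1, by omega⟩
  simpa using Nat.add_one_mul_choose_eq d' k'

lemma B1 (d N g : ℕ) (hd : 1 ≤ d)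
    (h : ∀ δ, 1 ≤ δ → δ ≤ N → δ ∣ d → g ∣ d / δ) (k : ℕ) (hk1 : 1 ≤ k) (hkN : k ≤ N) :
    g ∣ d.choose k := by
  have hδpos : 0 < Nat.gcd d k := Nat.gcd_pos_of_pos_right _ hk1
  have hδle : Nat.gcd d k ≤ N := le_trans (Nat.gcd_le_right _ hk1) hkN
  have hg := h (Nat.gcd d k) hδpos hδle (Nat.gcd_dvd_left d k)
  refine hg.trans ?_
  have hcop := Nat.coprime_div_gcd_div_gcd (m := d) (n := k) hδpos
  have hid := choose_identity d k hd hk1
  -- divide the identity by gcd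
  have h1 : d / Nat.gcd d k * (d - 1).choose (k - 1) = d.choose k * (k / Nat.gcd d k) := by
    apply Nat.eq_of_mul_eq_mul_left hδpos
    rw [← mul_assoc, Nat.mul_div_cancel' (Nat.gcd_dvd_left d k), hid]
    rw [mul_comm (Nat.gcd d k), mul_assoc, Nat.div_mul_cancel (Nat.gcd_dvd_right d k)]
  exact hcop.dvd_of_dvd_mul_right ⟨_, h1.symm⟩

lemma B2 (d N g : ℕ) (hd : 1 ≤ d)
    (h : ∀ k, 1 ≤ k → k ≤ N → g ∣ d.choose k) (δ : ℕ) (hδ1 : 1 ≤ δ) (hδN : δ ≤ N)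
    (hδd : δ ∣ d) : g ∣ d / δ := by
  rw [Nat.dvd_iff_prime_pow_dvd_dvd]
  intro p k hp hpk
  have : Fact p.Prime := ⟨hp⟩
  obtain ⟨j, δ', hδ', hδeq⟩ := Nat.exists_eq_pow_mul_and_not_dvd (by omega : δ ≠ 0) p hp.one_lt.ne'
  have hpjδ : p ^ j ∣ δ := ⟨δ', hδeq⟩
  have hpj1 : 1 ≤ p ^ j := Nat.one_le_pow _ _ hp.pos
  have hpjN : p ^ j ≤ N := le_trans (Nat.le_of_dvd (by omega) hpjδ) hδN
  have hpjd : p ^ j ∣ d := hpjδ.trans hδd
  have h1 : p ^ k ∣ d.choose (p ^ j) := hpk.trans (h _ hpj1 hpjN)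
  have hid := choose_identity d (p ^ j) hd hpj1
  have h2 : p ^ (k + j) ∣ d * (d - 1).choose (p ^ j - 1) := by
    rw [hid, pow_add]
    exact Nat.mul_dvd_mul h1 dvd_rfl
  have hcop : Nat.Coprime (p ^ (k + j)) ((d - 1).choose (p ^ j - 1)) :=
    Nat.Coprime.pow_left _ ((Nat.Prime.coprime_iff_not_dvd hp).2 (not_dvd_choose p j d hd hpjd))
  have h3 : p ^ (k + j) ∣ d := hcop.dvd_of_dvd_mul_right h2
  -- d = p^j * δ' * (d/δ)
  have hdeq : d = p ^ j * (δ' * (d / δ)) := by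
    rw [← mul_assoc, ← hδeq, Nat.mul_div_cancel' hδd]
  rw [hdeq, pow_add, mul_comm (p ^ k)] at h3
  have h4 : p ^ k ∣ δ' * (d / δ) := (Nat.mul_dvd_mul_iff_left (by omega)).1 h3
  have hcop2 : Nat.Coprime (p ^ k) δ' :=
    Nat.Coprime.pow_left _ ((Nat.Prime.coprime_iff_not_dvd hp).2 hδ')
  exact hcop2.dvd_of_dvd_mul_left h4

/-- the Euler characteristic `χ(d,n)` -/
def chi (d n : ℕ) : ℤ := 1 - (-1 : ℤ) ^ n * ((d - 1).choose n : ℤ)

lemma chi_zero (d : ℕ) : chi d 0 = 0 := by simp [chi]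

lemma chi_succ (d n : ℕ) (hd : 1 ≤ d) :
    chi d (n + 1) = chi d n + (-1 : ℤ) ^ n * (d.choose (n + 1) : ℤ) := by
  obtain ⟨d', rfl⟩ : ∃ e, d = e + 1 := ⟨d - 1, by omega⟩
  simp only [chi, Nat.add_sub_cancel]
  rw [Nat.choose_succ_succ]
  push_cast
  ring

lemma A2 (d N : ℕ) (g : ℤ) (hd : 1 ≤ d)
    (h : ∀ k, 1 ≤ k → k ≤ N → g ∣ (d.choose k : ℤ)) : ∀ n, n ≤ N → g ∣ chi d n := by
  intro n
  induction n with
  | zero => intro _; rw [chi_zero]; exact dvd_zero g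
  | succ n ih =>
    intro hn
    rw [chi_succ d n hd]
    exact dvd_add (ih (by omega)) (Dvd.dvd.mul_left (h (n + 1) (by omega) hn) _)

lemma A1 (d N : ℕ) (g : ℤ) (hd : 1 ≤ d)
    (h : ∀ n, 1 ≤ n → n ≤ N → g ∣ chi d n) (k : ℕ) (hk1 : 1 ≤ k) (hkN : k ≤ N) :
    g ∣ (d.choose k : ℤ) := by
  obtain ⟨n, rfl⟩ : ∃ e, k = e + 1 := ⟨k - 1, by omega⟩
  have h1 : (d.choose (n + 1) : ℤ) = (-1 : ℤ) ^ n * (chi d (n + 1) - chi d n) := by
    rw [chi_succ d n hd]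
    have : ((-1 : ℤ) ^ n) * ((-1 : ℤ) ^ n) = 1 := by
      rw [← mul_pow]; simp
    linear_combination (-(d.choose (n + 1) : ℤ)) * this
  rw [h1]
  apply Dvd.dvd.mul_left
  apply dvd_sub (h (n + 1) hk1 hkN)
  rcases Nat.eq_zero_or_pos n with h0 | h0
  · rw [h0, chi_zero]; exact dvd_zero g
  · exact h n h0 (by omega)

theorem main (d N : ℕ) (hd : 1 ≤ d) :
    (Finset.Icc 1 N).gcd (fun n => 1 - (-1 : ℤ) ^ n * ((d - 1).choose n : ℤ)) =
      ((Finset.Icc 1 N).filter (fun δ => δ ∣ d)).gcd (fun δ => ((d / δ : ℕ) : ℤ)) := by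
  apply dvd_antisymm_of_normalize_eq Finset.normalize_gcd Finset.normalize_gcd
  · apply Finset.dvd_gcd
    intro δ hδ
    rw [Finset.mem_filter, Finset.mem_Icc] at hδ
    obtain ⟨⟨hδ1, hδN⟩, hδd⟩ := hδ
    set g := (Finset.Icc 1 N).gcd (fun n => 1 - (-1 : ℤ) ^ n * ((d - 1).choose n : ℤ)) with hg
    have hchi : ∀ n, 1 ≤ n → n ≤ N → g ∣ chi d n := by
      intro n h1 h2
      exact Finset.gcd_dvd (f := fun n => 1 - (-1 : ℤ) ^ n * ((d - 1).choose n : ℤ))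
        (Finset.mem_Icc.2 ⟨h1, h2⟩)
    have hC : ∀ k, 1 ≤ k → k ≤ N → g.natAbs ∣ d.choose k := by
      intro k h1 h2
      exact Int.dvd_natCast.1 (A1 d N g hd hchi k h1 h2)
    exact Int.dvd_natCast.2 (B2 d N g.natAbs hd hC δ hδ1 hδN hδd)
  · apply Finset.dvd_gcd
    intro n hn
    rw [Finset.mem_Icc] at hn
    set g := ((Finset.Icc 1 N).filter (fun δ => δ ∣ d)).gcd (fun δ => ((d / δ : ℕ) : ℤ)) with hg
    have hδ : ∀ δ, 1 ≤ δ → δ ≤ N → δ ∣ d → g.natAbs ∣ d / δ := by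
      intro δ h1 h2 h3
      apply Int.dvd_natCast.1
      exact Finset.gcd_dvd (f := fun δ => ((d / δ : ℕ) : ℤ))
        (Finset.mem_filter.2 ⟨Finset.mem_Icc.2 ⟨h1, h2⟩, h3⟩)
    have hC : ∀ k, 1 ≤ k → k ≤ N → g ∣ (d.choose k : ℤ) := by
      intro k h1 h2
      exact Int.dvd_natCast.2 (B1 d N g.natAbs hd hδ k h1 h2)
    exact A2 d N g hd hC n hn.2

end Groth.Agent.Lib.Helper26.GcdEuler
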