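import Mathlib
set_option maxHeartbeats 400000
set_option autoImplicit false
universe u
open TensorProduct

/-! S9635: geometric reducedness over `k` versus over a separable algebraic extension `k'`. -/
namespace Groth.Agent.Lib.Helper26.GeomRedSep

section
variable {k k' A : Type u} [Field k] [Field k'] [Algebra k k']
  [CommRing A] [Algebra k' A] [Algebra k A] [IsScalarTower k k' A]
variable (K : Type u) [Field K] [Algebra k' K] [Algebra k K] [IsScalarTower k k' K]

/-- the natural surjection `K ⊗[k] A → K ⊗[k'] A` -/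
noncomputable def piHom : K ⊗[k] A →ₐ[k] K ⊗[k'] A :=
  Algebra.TensorProduct.productMap
    ((Algebra.TensorProduct.includeLeft : K →ₐ[k'] K ⊗[k'] A).restrictScalars k)
    ((Algebra.TensorProduct.includeRight : A →ₐ[k'] K ⊗[k'] A).restrictScalars k)

@[simp] theorem piHom_tmul (c : K) (a : A) : piHom (k := k) (k' := k') K (c ⊗ₜ[k] a) = c ⊗ₜ[k'] a := by
  simp [piHom]

theorem piHom_surjective : Function.Surjective (piHom (k := k) (k' := k') (A := A) K) := by
  intro x
  induction x using TensorProduct.induction_on with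
  | zero => exact ⟨0, map_zero _⟩
  | tmul c a => exact ⟨c ⊗ₜ a, piHom_tmul K c a⟩
  | add x y hx hy =>
    obtain ⟨x', rfl⟩ := hx
    obtain ⟨y', rfl⟩ := hy
    exact ⟨x' + y', map_add _ _ _⟩

variable (L : IntermediateField k k')

noncomputable def fK : L →ₐ[k] K := (IsScalarTower.toAlgHom k k' K).comp L.val
noncomputable def gA : L →ₐ[k] A := (IsScalarTower.toAlgHom k k' A).comp L.val

theorem fK_apply (s : L) : fK K L s = algebraMap k' K s := rfl
theorem gA_apply (s : L) : gA (A := A) L s = algebraMap k' A s := rfl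

noncomputable def rho : L ⊗[k] L →ₐ[k] K ⊗[k] A := Algebra.TensorProduct.map (fK K L) (gA L)

theorem pi_rho (t : L ⊗[k] L) : piHom (k := k) (k' := k') K (rho (A := A) K L t) =
    algebraMap k' (K ⊗[k'] A) ((Algebra.TensorProduct.lmul' k t : L) : k') := by
  induction t using TensorProduct.induction_on with
  | zero => simp
  | tmul s s' =>
    rw [rho, Algebra.TensorProduct.map_tmul, piHom_tmul, fK_apply, gA_apply,
      Algebra.TensorProduct.lmul'_apply_tmul, Algebra.TensorProduct.algebraMap_apply]
    rw [Algebra.algebraMap_eq_smul_one (s' : k'), ← TensorProduct.smul_tmul,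
      Algebra.smul_def, ← map_mul, mul_comm]
    rfl
  | add x y hx hy => simp only [map_add, hx, hy, AddMemClass.coe_add]

variable [FiniteDimensional k L] [Algebra.IsSeparable k L]

instance : Algebra.FormallyUnramified k L := Algebra.FormallyUnramified.of_isSeparable k L

noncomputable def idem : K ⊗[k] A := rho K L (Algebra.FormallyUnramified.elem k L)

theorem pi_idem : piHom (k := k) (k' := k') K (idem (A := A) K L) = 1 := by
  rw [idem, pi_rho, Algebra.FormallyUnramified.lmul_elem]
  simp [Algebra.TensorProduct.one_def]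

theorem idem_comm (s : L) (c : K) (a : A) :
    idem K L * (c ⊗ₜ[k] (algebraMap k' A s * a)) = idem K L * ((algebraMap k' K s * c) ⊗ₜ[k] a) := by
  have h := congrArg (rho (A := A) K L) (Algebra.FormallyUnramified.one_tmul_mul_elem (R := k) (S := L) s)
  rw [map_mul, map_mul, rho, Algebra.TensorProduct.map_tmul, Algebra.TensorProduct.map_tmul,
    map_one, map_one, fK_apply, gA_apply] at h
  change (1 ⊗ₜ[k] (algebraMap k' A s)) * idem K L = ((algebraMap k' K s) ⊗ₜ[k] 1) * idem K L at h
  have e1 : c ⊗ₜ[k] (algebraMap k' A s * a) = ((1 : K) ⊗ₜ[k] (algebraMap k' A s)) * (c ⊗ₜ[k] a) := by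
    rw [Algebra.TensorProduct.tmul_mul_tmul, one_mul]
  have e2 : (algebraMap k' K s * c) ⊗ₜ[k] a = ((algebraMap k' K s) ⊗ₜ[k] (1 : A)) * (c ⊗ₜ[k] a) := by
    rw [Algebra.TensorProduct.tmul_mul_tmul, one_mul]
  rw [e1, e2, ← mul_assoc, ← mul_assoc, mul_comm (idem K L), h, mul_comm (idem K L)]

omit L [FiniteDimensional k L] [Algebra.IsSeparable k L] in
theorem exists_idem_mul_eq_zero [Algebra.IsSeparable k k'] (y : K ⊗[k] A)
    (hy : piHom (k := k) (k' := k') K y = 0) :
    ∃ e : K ⊗[k] A, piHom (k := k) (k' := k') K e = 1 ∧ e * y = 0 := by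
  obtain ⟨S, rfl⟩ := TensorProduct.exists_finset y
  rw [← Finset.sum_coe_sort] at hy ⊢
  simp only [map_sum, piHom_tmul] at hy
  have hm : Function.Injective (LinearMap.rTensor A
      (Submodule.span k' (Set.range (fun i : S => (i : K × A).1))).subtype) :=
    Module.Flat.rTensor_preserves_injective_linearMap _ (Submodule.injective_subtype _)
  obtain ⟨κ, r, a', h1, h2⟩ :=
    TensorProduct.vanishesTrivially_of_sum_tmul_eq_zero_of_rTensor_injective k' hm hy
  simp only at h1 h2
  let L : IntermediateField k k' :=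
    IntermediateField.adjoin k (Set.range (fun p : S × Fin κ => r p.1 p.2))
  haveI : FiniteDimensional k L :=
    IntermediateField.finiteDimensional_adjoin (fun x _ => Algebra.IsIntegral.isIntegral x)
  have hr : ∀ i j, r i j ∈ L := fun i j => IntermediateField.subset_adjoin _ _ ⟨(i, j), rfl⟩
  refine ⟨idem K L, pi_idem K L, ?_⟩
  rw [Finset.mul_sum]
  have step : ∀ i : S, idem (A := A) K L * ((i : K × A).1 ⊗ₜ[k] (i : K × A).2) =
      ∑ j, idem K L * ((r i j • (i : K × A).1) ⊗ₜ[k] a' j) := by
    intro i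
    rw [h1 i, TensorProduct.tmul_sum, Finset.mul_sum]
    refine Finset.sum_congr rfl fun j _ => ?_
    have := idem_comm (A := A) K L ⟨r i j, hr i j⟩ (i : K × A).1 (a' j)
    rw [Algebra.smul_def, Algebra.smul_def]
    exact this
  rw [Finset.sum_congr rfl fun i _ => step i, Finset.sum_comm]
  refine Finset.sum_eq_zero fun j _ => ?_
  rw [← Finset.mul_sum, ← TensorProduct.sum_tmul, h2 j, TensorProduct.zero_tmul, mul_zero]

omit L [FiniteDimensional k L] [Algebra.IsSeparable k L] in
theorem reduced_of_reduced [Algebra.IsSeparable k k'] (h : IsReduced (K ⊗[k] A)) :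
    IsReduced (K ⊗[k'] A) := by
  constructor
  rintro x ⟨n, hn⟩
  obtain ⟨x₀, rfl⟩ := piHom_surjective (k := k) (k' := k') (A := A) K x
  have hn1 : piHom (k := k) (k' := k') K (x₀ ^ (n + 1)) = 0 := by
    rw [map_pow, pow_succ, hn, zero_mul]
  obtain ⟨e, he1, he0⟩ := exists_idem_mul_eq_zero K _ hn1
  have hnil : IsNilpotent (e * x₀) := by
    refine ⟨n + 1, ?_⟩
    rw [mul_pow, pow_succ e, mul_assoc, he0, mul_zero]
  have h0 : e * x₀ = 0 := hnil.eq_zero
  have := congrArg (piHom (k := k) (k' := k') K) h0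
  rw [map_mul, he1, one_mul, map_zero] at this
  exact this

end
theorem reduced_of_fields (k' A R' : Type u) [Field k'] [CommRing A] [Algebra k' A] [CommRing R']
    [Algebra k' R'] [IsReduced R']
    (h : ∀ (K : Type u) [Field K] [Algebra k' K], IsReduced (K ⊗[k'] A)) :
    IsReduced (R' ⊗[k'] A) := by
  constructor
  intro x hx
  let b := Module.Free.chooseBasis k' A
  apply (Algebra.TensorProduct.basis R' b).repr.injective
  rw [map_zero]
  ext i
  rw [Finsupp.zero_apply]
  apply IsNilpotent.eq_zero
  rw [← mem_nilradical, nilradical_eq_sInf, Ideal.mem_sInf]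
  intro 𝔭 h𝔭
  haveI : 𝔭.IsPrime := h𝔭
  let ι𝔭 : R' →ₐ[k'] FractionRing (R' ⧸ 𝔭) :=
    (IsScalarTower.toAlgHom k' (R' ⧸ 𝔭) (FractionRing (R' ⧸ 𝔭))).comp (Ideal.Quotient.mkₐ k' 𝔭)
  let Φ : R' ⊗[k'] A →ₐ[k'] FractionRing (R' ⧸ 𝔭) ⊗[k'] A :=
    Algebra.TensorProduct.map ι𝔭 (AlgHom.id k' A)
  haveI := h (FractionRing (R' ⧸ 𝔭))
  have hΦx : Φ x = 0 := (hx.map Φ).eq_zero
  have key : ∀ y : R' ⊗[k'] A,
      (Algebra.TensorProduct.basis (FractionRing (R' ⧸ 𝔭)) b).repr (Φ y) i =
        ι𝔭 ((Algebra.TensorProduct.basis R' b).repr y i) := by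
    intro y
    induction y using TensorProduct.induction_on with
    | zero => simp
    | tmul r a =>
      simp only [Φ, Algebra.TensorProduct.map_tmul, AlgHom.id_apply,
        Algebra.TensorProduct.basis_repr_tmul, Finsupp.smul_apply, Finsupp.mapRange_apply,
        smul_eq_mul, map_mul, AlgHom.commutes]
    | add y z hy hz => simp only [map_add, Finsupp.add_apply, hy, hz]
  have h0 := key x
  rw [hΦx, map_zero, Finsupp.zero_apply] at h0
  have h1 : Ideal.Quotient.mk 𝔭 ((Algebra.TensorProduct.basis R' b).repr x i) = 0 := by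
    apply IsFractionRing.injective (R' ⧸ 𝔭) (FractionRing (R' ⧸ 𝔭))
    rw [map_zero]
    exact h0.symm
  exact Ideal.Quotient.eq_zero_iff_mem.mp h1

theorem reduced_tensor_sep (k k' K : Type u) [Field k] [Field k'] [Algebra k k']
    [Algebra.IsSeparable k k'] [Field K] [Algebra k K] : IsReduced (K ⊗[k] k') := by
  apply IsReduced.tensorProduct_of_flat_of_forall_fg
  intro B hB
  obtain ⟨s, rfl⟩ := hB
  let L := IntermediateField.adjoin k (s : Set k')
  haveI : FiniteDimensional k L :=
    IntermediateField.finiteDimensional_adjoin (fun x _ => Algebra.IsIntegral.isIntegral x)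
  have hle : Algebra.adjoin k (s : Set k') ≤ L.toSubalgebra :=
    IntermediateField.algebra_adjoin_le_adjoin k _
  let j : Algebra.adjoin k (s : Set k') →ₐ[k] L := Subalgebra.inclusion hle
  have hj : Function.Injective j := Subalgebra.inclusion_injective hle
  haveI : Algebra.FormallyUnramified k L := .of_isSeparable k L
  haveI : IsReduced (K ⊗[k] L) := Algebra.FormallyUnramified.isReduced_of_field K (K ⊗[k] L)
  exact isReduced_of_injective (Algebra.TensorProduct.map (AlgHom.id K K) j)
    (Module.Flat.lTensor_preserves_injective_linearMap _ hj)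

theorem reduced_of_reduced' {k k' A : Type u} [Field k] [Field k'] [Algebra k k']
    [Algebra.IsSeparable k k'] [CommRing A] [Algebra k' A] [Algebra k A] [IsScalarTower k k' A]
    (K : Type u) [Field K] [Algebra k K]
    (h : ∀ (K' : Type u) [Field K'] [Algebra k' K'], IsReduced (K' ⊗[k'] A)) :
    IsReduced (K ⊗[k] A) := by
  haveI : IsReduced (K ⊗[k] k') := reduced_tensor_sep k k' K
  haveI : IsReduced (k' ⊗[k] K) := isReduced_of_injective (Algebra.TensorProduct.comm k k' K)
    (Algebra.TensorProduct.comm k k' K).injective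
  haveI : IsReduced ((k' ⊗[k] K) ⊗[k'] A) := reduced_of_fields k' A (k' ⊗[k] K) h
  let e1 := Algebra.TensorProduct.cancelBaseChange k k' k' A K
  let e2 := Algebra.TensorProduct.comm k' A (k' ⊗[k] K)
  let e3 := Algebra.TensorProduct.comm k K A
  exact isReduced_of_injective
    ((e2.toRingEquiv.toRingHom.comp e1.symm.toRingEquiv.toRingHom).comp e3.toRingEquiv.toRingHom)
    ((e2.injective.comp e1.symm.injective).comp e3.injective)

theorem main {k k' A : Type u} [Field k] [Field k'] [Algebra k k'] [Algebra.IsSeparable k k']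
    [CommRing A] [Algebra k' A] [Algebra k A] [IsScalarTower k k' A] :
    (∀ (K : Type u) [Field K] [Algebra k K], IsReduced (K ⊗[k] A)) ↔
      ∀ (K : Type u) [Field K] [Algebra k' K], IsReduced (K ⊗[k'] A) := by
  constructor
  · intro h K _ _
    letI : Algebra k K := ((algebraMap k' K).comp (algebraMap k k')).toAlgebra
    haveI : IsScalarTower k k' K := IsScalarTower.of_algebraMap_eq (fun _ => rfl)
    exact reduced_of_reduced K (h K)
  · intro h K _ _
    exact reduced_of_reduced' K h

end Groth.Agent.Lib.Helper26.GeomRedSep
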