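import Mathlib

/-!
# Kernel of `η : R[X_σ, Z] → A` in a gluing square
-/

namespace Groth.Agent.Lib.Helper26.GlueKer

set_option maxHeartbeats 400000

universe u v w x y

open MvPolynomial

/-- every polynomial in `R[X_σ, Z]` is `f₀ + Z f₁` with `f₀` free of `Z` -/
lemma decomp {R : Type u} [CommRing R] {σ : Type y} (f : MvPolynomial (Option σ) R) :
    ∃ (f₀ : MvPolynomial σ R) (f₁ : MvPolynomial (Option σ) R),
      f = rename (Option.some : σ → Option σ) f₀ + X none * f₁ := by
  induction f using MvPolynomial.induction_on with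
  | C r => exact ⟨C r, 0, by simp⟩
  | add f g hf hg =>
    obtain ⟨f₀, f₁, rfl⟩ := hf
    obtain ⟨g₀, g₁, rfl⟩ := hg
    exact ⟨f₀ + g₀, f₁ + g₁, by rw [map_add]; ring⟩
  | mul_X f i hf =>
    obtain ⟨f₀, f₁, hf⟩ := hf
    cases i with
    | none => exact ⟨0, f, by rw [map_zero, zero_add, mul_comm]⟩
    | some s =>
      refine ⟨f₀ * X s, f₁ * X (some s), ?_⟩
      rw [hf, map_mul, rename_X]
      ring

theorem main {R : Type u} [CommRing R] {A : Type v} {B : Type w} {C : Type x}
    [CommRing A] [CommRing B] [CommRing C] [Algebra R A] [Algebra R B] [Algebra R C]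
    (i : A →ₐ[R] B) (j : A →ₐ[R] C)
    (hinj : ∀ t : A, i t = 0 → j t = 0 → t = 0)
    (c : B) (hc : c ∈ nonZeroDivisors B)
    (ζ : A) (hiζ : i ζ = c) (hjζ : j ζ = 0)
    {σ τ ιp ιq ιv : Type y}
    (η : MvPolynomial (Option σ) R →ₐ[R] A) (hη : η (MvPolynomial.X none) = ζ)
    (a : MvPolynomial τ R →ₐ[R] B)
    (ηZ : MvPolynomial (Option σ) R →ₐ[R] MvPolynomial τ R)
    (hcomm : ∀ t, a (ηZ t) = i (η t)) (hηZ : Function.Surjective ηZ)
    (cZ : MvPolynomial τ R) (hcZ : a cZ = c)
    (p : ιp → MvPolynomial σ R)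
    (hp : Ideal.span (Set.range p) =
      RingHom.ker ((j.comp η).comp (MvPolynomial.rename (Option.some : σ → Option σ))))
    (q' : ιq → MvPolynomial τ R) (hq' : Ideal.span (Set.range q') = RingHom.ker a)
    (q : ιq → MvPolynomial (Option σ) R) (hq : ∀ h, ηZ (q h) = q' h)
    (v : ιv → MvPolynomial (Option σ) R) (hv : Ideal.span (Set.range v) = RingHom.ker ηZ)
    (g' : ιp → MvPolynomial τ R)
    (hg' : ∀ h, ηZ (MvPolynomial.rename (Option.some : σ → Option σ) (p h)) + g' h * cZ ∈
      Ideal.span (Set.range q'))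
    (g : ιp → MvPolynomial (Option σ) R) (hg : ∀ h, ηZ (g h) = g' h) :
    RingHom.ker η = Ideal.span
      (Set.range (fun h : ιq => MvPolynomial.X none * q h) ∪
        Set.range (fun h : ιv => MvPolynomial.X none * v h) ∪
        Set.range (fun h : ιp =>
          MvPolynomial.rename (Option.some : σ → Option σ) (p h) + MvPolynomial.X none * g h)) := by
  set I : Ideal (MvPolynomial (Option σ) R) := Ideal.span
      (Set.range (fun h : ιq => MvPolynomial.X none * q h) ∪
        Set.range (fun h : ιv => MvPolynomial.X none * v h) ∪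
        Set.range (fun h : ιp =>
          MvPolynomial.rename (Option.some : σ → Option σ) (p h) + MvPolynomial.X none * g h))
    with hI
  have hIq : ∀ h, (X none : MvPolynomial (Option σ) R) * q h ∈ I := fun h =>
    Ideal.subset_span (Or.inl (Or.inl ⟨h, rfl⟩))
  have hIv : ∀ h, (X none : MvPolynomial (Option σ) R) * v h ∈ I := fun h =>
    Ideal.subset_span (Or.inl (Or.inr ⟨h, rfl⟩))
  have hIp : ∀ h, rename (Option.some : σ → Option σ) (p h) + X none * g h ∈ I := fun h =>
    Ideal.subset_span (Or.inr ⟨h, rfl⟩)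
  -- the easy inclusion
  have hle : I ≤ RingHom.ker η := by
    rw [hI, Ideal.span_le]
    rintro f ((⟨h, rfl⟩ | ⟨h, rfl⟩) | ⟨h, rfl⟩)
    · show η (X none * q h) = 0
      apply hinj
      · rw [map_mul, hη, map_mul, hiζ, ← hcomm, hq]
        have : q' h ∈ RingHom.ker a := by rw [← hq']; exact Ideal.subset_span ⟨h, rfl⟩
        rw [(RingHom.mem_ker).1 this, mul_zero]
      · rw [map_mul, hη, map_mul, hjζ, zero_mul]
    · show η (X none * v h) = 0
      apply hinj
      · rw [map_mul, hη, map_mul, hiζ, ← hcomm]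
        have : v h ∈ RingHom.ker ηZ := by rw [← hv]; exact Ideal.subset_span ⟨h, rfl⟩
        rw [(RingHom.mem_ker).1 this, map_zero, mul_zero]
      · rw [map_mul, hη, map_mul, hjζ, zero_mul]
    · show η (rename (Option.some : σ → Option σ) (p h) + X none * g h) = 0
      apply hinj
      · rw [map_add, map_add, map_mul, hη, map_mul, hiζ, ← hcomm, ← hcomm, hg, ← hcZ, ← map_mul,
          ← map_add, mul_comm]
        have : ηZ (rename (Option.some : σ → Option σ) (p h)) + g' h * cZ ∈ RingHom.ker a := by
          rw [← hq']; exact hg' h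
        exact (RingHom.mem_ker).1 this
      · rw [map_add, map_add, map_mul, hη, map_mul, hjζ, zero_mul, add_zero]
        have : p h ∈ RingHom.ker
            ((j.comp η).comp (MvPolynomial.rename (Option.some : σ → Option σ))) := by
          rw [← hp]; exact Ideal.subset_span ⟨h, rfl⟩
        exact (RingHom.mem_ker).1 this
  refine le_antisymm ?_ hle
  -- Step A
  have stepA : ∀ f₀ ∈ Ideal.span (Set.range p), ∃ w : MvPolynomial (Option σ) R,
      rename (Option.some : σ → Option σ) f₀ + X none * w ∈ I := by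
    intro f₀ hf₀
    induction hf₀ using Submodule.span_induction with
    | mem x hx =>
      obtain ⟨h, rfl⟩ := hx
      exact ⟨g h, hIp h⟩
    | zero => exact ⟨0, by simp⟩
    | add x y _ _ hx hy =>
      obtain ⟨w₁, h₁⟩ := hx
      obtain ⟨w₂, h₂⟩ := hy
      refine ⟨w₁ + w₂, ?_⟩
      have := I.add_mem h₁ h₂
      rw [map_add]
      convert this using 1
      ring
    | smul r x _ hx =>
      obtain ⟨w, hw⟩ := hx
      refine ⟨rename (Option.some : σ → Option σ) r * w, ?_⟩
      have := I.mul_mem_left (rename (Option.some : σ → Option σ) r) hw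
      rw [smul_eq_mul, map_mul]
      convert this using 1
      ring
  -- Step B
  have stepB : ∀ y ∈ Ideal.span (Set.range q'), ∃ w : MvPolynomial (Option σ) R,
      ηZ w = y ∧ X none * w ∈ I := by
    intro y hy
    induction hy using Submodule.span_induction with
    | mem x hx =>
      obtain ⟨h, rfl⟩ := hx
      exact ⟨q h, hq h, hIq h⟩
    | zero => exact ⟨0, map_zero _, by simp⟩
    | add x y _ _ hx hy =>
      obtain ⟨w₁, e₁, h₁⟩ := hx
      obtain ⟨w₂, e₂, h₂⟩ := hy
      refine ⟨w₁ + w₂, by rw [map_add, e₁, e₂], ?_⟩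
      rw [mul_add]
      exact I.add_mem h₁ h₂
    | smul r x _ hx =>
      obtain ⟨w, e, hw⟩ := hx
      obtain ⟨r', hr'⟩ := hηZ r
      refine ⟨r' * w, by rw [map_mul, hr', e, smul_eq_mul], ?_⟩
      have := I.mul_mem_left r' hw
      convert this using 1
      ring
  -- Step C
  have stepC : ∀ y ∈ Ideal.span (Set.range v), (X none : MvPolynomial (Option σ) R) * y ∈ I := by
    intro y hy
    induction hy using Submodule.span_induction with
    | mem x hx =>
      obtain ⟨h, rfl⟩ := hx
      exact hIv h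
    | zero => simp
    | add x y _ _ hx hy => rw [mul_add]; exact I.add_mem hx hy
    | smul r x _ hx =>
      have := I.mul_mem_left r hx
      rw [smul_eq_mul]
      convert this using 1
      ring
  intro f hf
  have hf0 : η f = 0 := (RingHom.mem_ker).1 hf
  obtain ⟨f₀, f₁, rfl⟩ := decomp f
  -- f₀ ∈ span p
  have hf₀ : f₀ ∈ Ideal.span (Set.range p) := by
    rw [hp, RingHom.mem_ker]
    have := congrArg j hf0
    rw [map_add, map_add, map_mul, hη, map_mul, hjζ, zero_mul, add_zero, map_zero] at this
    exact this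
  obtain ⟨w, hw⟩ := stepA f₀ hf₀
  have hsplit : rename (Option.some : σ → Option σ) f₀ + X none * f₁ =
      (rename (Option.some : σ → Option σ) f₀ + X none * w) + X none * (f₁ - w) := by ring
  rw [hsplit]
  refine I.add_mem hw ?_
  -- now Z * (f₁ - w) ∈ ker η
  have h2 : η (X none * (f₁ - w)) = 0 := by
    have h3 : η (rename (Option.some : σ → Option σ) f₀ + X none * w) = 0 :=
      (RingHom.mem_ker).1 (hle hw)
    have := hf0
    rw [hsplit, map_add, h3, zero_add] at this
    exact this
  have h4 : i (η (f₁ - w)) = 0 := by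
    have := congrArg i h2
    rw [map_mul, hη, map_mul, hiζ, map_zero, mul_comm] at this
    exact (mem_nonZeroDivisors_iff_right.1 hc) _ this
  have h5 : ηZ (f₁ - w) ∈ Ideal.span (Set.range q') := by
    rw [hq', RingHom.mem_ker, hcomm, h4]
  obtain ⟨w', e', hw'⟩ := stepB _ h5
  have h6 : f₁ - w - w' ∈ Ideal.span (Set.range v) := by
    rw [hv, RingHom.mem_ker, map_sub, e', sub_self]
  have h7 := stepC _ h6
  have : X none * (f₁ - w) = X none * w' + X none * (f₁ - w - w') := by ring
  rw [this]
  exact I.add_mem hw' h7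

end Groth.Agent.Lib.Helper26.GlueKer
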