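import Mathlib
import Groth.Prelude.Def_CxOX
import Groth.Prelude.Def_DCoh3
import Groth.Agent.Lib.Helper26.CxE
import Groth.Agent.Lib.Helper26.CxH
import Groth.Agent.Lib.Helper26.CxI
import Groth.Agent.Lib.Helper26.CxL

set_option maxHeartbeats 400000
set_option linter.style.haveILetI false
set_option linter.unusedSectionVars false

universe u

open CategoryTheory CategoryTheory.Limits AlgebraicGeometry Opposite ZeroObject

namespace Groth.Agent.Lib.Helper26.GlueTwo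

open Pretriangulated Scheme.Modules Groth.Agent.Lib.Helper26.SuppD3

attribute [local instance] HasDerivedCategory.standard

/-- restriction along a composite detects isomorphisms after two-step restriction -/
lemma isIso_restrictD_restrictD {A B C : Scheme.{u}} (a : A ⟶ B) (b : B ⟶ C) (c : A ⟶ C)
    [IsOpenImmersion a] [IsOpenImmersion b] [IsOpenImmersion c] (w : a ≫ b = c)
    {M N : DCoh.D C} (φ : M ⟶ N) (h : IsIso ((DCoh.restrictD c).map φ)) :
    IsIso ((DCoh.restrictD a).map ((DCoh.restrictD b).map φ)) := by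
  obtain ⟨K, g, δ, hT⟩ := distinguished_cocone_triangle φ
  have hc := (DCoh.restrictD c).map_distinguished _ hT
  have hz : IsZero ((DCoh.restrictD c).obj K) := (Triangle.isZero₃_iff_isIso₁ _ hc).2 h
  obtain ⟨e⟩ := Groth.Agent.Lib.Helper26.CxL.nonempty_restrictD_comp_iso a b c w K
  have hz' : IsZero ((DCoh.restrictD a).obj ((DCoh.restrictD b).obj K)) := hz.of_iso e
  have hab := (DCoh.restrictD a).map_distinguished _ ((DCoh.restrictD b).map_distinguished _ hT)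
  exact (Triangle.isZero₃_iff_isIso₁ _ hab).1 hz'

/-- a morphism between objects which become `i`-local on `Y'` is an isomorphism on `Y'` as
soon as it is one on the smaller open -/
lemma isIso_restrictD_of_local {W' Y' X : Scheme.{u}} (i : W' ⟶ Y') (j : Y' ⟶ X) (h : W' ⟶ X)
    [IsOpenImmersion i] [IsOpenImmersion j] [IsOpenImmersion h] (w : i ≫ j = h)
    [DCoh.HasRpush i] {M N : DCoh.D X} (φ : M ⟶ N) (hφ : IsIso ((DCoh.restrictD h).map φ))
    (P P' : DCoh.D W') (eM : (DCoh.restrictD j).obj M ≅ (DCoh.Rpush i).obj P)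
    (eN : (DCoh.restrictD j).obj N ≅ (DCoh.Rpush i).obj P') :
    IsIso ((DCoh.restrictD j).map φ) := by
  obtain ⟨adj⟩ := Groth.Agent.Lib.Helper26.CxI.nonempty_adj i
  haveI := Groth.Agent.Lib.Helper26.CxA.isIso_unit_of_iso i adj _ P eM
  haveI := Groth.Agent.Lib.Helper26.CxA.isIso_unit_of_iso i adj _ P' eN
  haveI := isIso_restrictD_restrictD i j h w φ hφ
  have hn := adj.unit.naturality ((DCoh.restrictD j).map φ)
  simp only [Functor.id_map, Functor.comp_map] at hn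
  have : (DCoh.restrictD j).map φ = adj.unit.app _ ≫
      (DCoh.Rpush i).map ((DCoh.restrictD i).map ((DCoh.restrictD j).map φ)) ≫
        inv (adj.unit.app _) := by
    rw [← Category.assoc, ← hn, Category.assoc, IsIso.hom_inv_id, Category.comp_id]
  rw [this]
  infer_instance

/-- `(Rh_* C)|_{Y'} ≅ Ri_* C` for `i ≫ j = h` -/
lemma nonempty_restrictD_Rpush_comp {W' Y' X : Scheme.{u}} (i : W' ⟶ Y') (j : Y' ⟶ X)
    (h : W' ⟶ X) [IsOpenImmersion i] [IsOpenImmersion j] [IsOpenImmersion h] (w : i ≫ j = h)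
    [DCoh.HasRpush i] [DCoh.HasRpush j] [DCoh.HasRpush h] (C : DCoh.D W') :
    Nonempty ((DCoh.restrictD j).obj ((DCoh.Rpush h).obj C) ≅ (DCoh.Rpush i).obj C) := by
  obtain ⟨adj⟩ := Groth.Agent.Lib.Helper26.CxI.nonempty_adj j
  haveI := Groth.Agent.Lib.Helper26.CxA.isIso_counit j adj
  obtain ⟨e⟩ := Groth.Agent.Lib.Helper26.CxI.rpush_factor i j h w C
  exact ⟨(DCoh.restrictD j).mapIso e ≪≫ asIso (adj.counit.app _)⟩

/-- `(Rj_{U*} A)|_V` is a pushforward from any open of `V` containing `U ∩ V` -/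
lemma nonempty_restrictD_Rpush_opens {X : Scheme.{u}} (U V : X.Opens) [DCoh.HasRpush U.ι]
    {Z : Scheme.{u}} (i : Z ⟶ (V : Scheme.{u})) [IsOpenImmersion i] [DCoh.HasRpush i]
    (hr : Set.range (U.ι ∣_ V).base ⊆ Set.range i.base) (A : DCoh.D (U : Scheme.{u})) :
    ∃ P : DCoh.D Z, Nonempty ((DCoh.restrictD V.ι).obj ((DCoh.Rpush U.ι).obj A) ≅
      (DCoh.Rpush i).obj P) := by
  haveI := hasRpush (U.ι ∣_ V)
  obtain ⟨e⟩ := Groth.Agent.Lib.Helper26.OpenBC2.main U.ι V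
  let l := IsOpenImmersion.lift i (U.ι ∣_ V) hr
  have hl : l ≫ i = U.ι ∣_ V := IsOpenImmersion.lift_fac _ _ _
  haveI : IsOpenImmersion l := IsOpenImmersion.of_comp l i
  haveI := hasRpush l
  obtain ⟨e'⟩ := Groth.Agent.Lib.Helper26.CxI.rpush_factor l i (U.ι ∣_ V) hl
    ((DCoh.restrictD (U.ι ⁻¹ᵁ V).ι).obj A)
  exact ⟨_, ⟨e.app A ≪≫ e'⟩⟩


section Main

variable {X : Scheme.{u}} (U V : X.Opens)

lemma range_morphismRestrict_le_left :
    Set.range (U.ι ∣_ V).base ⊆ Set.range (X.homOfLE (inf_le_right : U ⊓ V ≤ V)).base := by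
  rintro v ⟨x, rfl⟩
  have h1 : ((U.ι ∣_ V) x).1 ∈ U := by
    have := congrArg (fun f => f.base x) (morphismRestrict_ι U.ι V)
    simp only [Scheme.Hom.comp_base, TopCat.hom_comp, ContinuousMap.comp_apply] at this
    change (V.ι ((U.ι ∣_ V) x)) ∈ U
    erw [this]
    have h2 := Set.mem_range_self (f := U.ι.base) ((U.ι ⁻¹ᵁ V).ι.base x)
    rw [Scheme.Opens.range_ι] at h2
    exact h2
  refine ⟨⟨((U.ι ∣_ V) x).1, h1, ((U.ι ∣_ V) x).2⟩, ?_⟩
  apply V.ι.isOpenEmbedding.injective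
  have := congrArg (fun f => f.base ⟨((U.ι ∣_ V) x).1, h1, ((U.ι ∣_ V) x).2⟩)
    (X.homOfLE_ι (inf_le_right : U ⊓ V ≤ V))
  simp only [Scheme.Hom.comp_base, TopCat.hom_comp, ContinuousMap.comp_apply] at this
  exact this

lemma range_morphismRestrict_le_right :
    Set.range (V.ι ∣_ U).base ⊆ Set.range (X.homOfLE (inf_le_left : U ⊓ V ≤ U)).base := by
  rintro v ⟨x, rfl⟩
  have h1 : ((V.ι ∣_ U) x).1 ∈ V := by
    have := congrArg (fun f => f.base x) (morphismRestrict_ι V.ι U)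
    simp only [Scheme.Hom.comp_base, TopCat.hom_comp, ContinuousMap.comp_apply] at this
    change (U.ι ((V.ι ∣_ U) x)) ∈ V
    erw [this]
    have h2 := Set.mem_range_self (f := V.ι.base) ((V.ι ⁻¹ᵁ U).ι.base x)
    rw [Scheme.Opens.range_ι] at h2
    exact h2
  refine ⟨⟨((V.ι ∣_ U) x).1, ((V.ι ∣_ U) x).2, h1⟩, ?_⟩
  apply U.ι.isOpenEmbedding.injective
  have := congrArg (fun f => f.base ⟨((V.ι ∣_ U) x).1, ((V.ι ∣_ U) x).2, h1⟩)
    (X.homOfLE_ι (inf_le_left : U ⊓ V ≤ U))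
  simp only [Scheme.Hom.comp_base, TopCat.hom_comp, ContinuousMap.comp_apply] at this
  exact this

theorem main (A : DCoh.D (U : Scheme.{u})) (B : DCoh.D (V : Scheme.{u}))
    (c : (DCoh.restrictD (X.homOfLE (inf_le_left : U ⊓ V ≤ U))).obj A ≅
      (DCoh.restrictD (X.homOfLE (inf_le_right : U ⊓ V ≤ V))).obj B) :
    ∃ F : DCoh.D X, Nonempty ((DCoh.restrictD U.ι).obj F ≅ A) ∧
      Nonempty ((DCoh.restrictD V.ι).obj F ≅ B) := by
  let W : X.Opens := U ⊓ V
  let a : (W : Scheme.{u}) ⟶ U := X.homOfLE (inf_le_left : U ⊓ V ≤ U)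
  let b : (W : Scheme.{u}) ⟶ V := X.homOfLE (inf_le_right : U ⊓ V ≤ V)
  have wa : a ≫ U.ι = W.ι := X.homOfLE_ι _
  have wb : b ≫ V.ι = W.ι := X.homOfLE_ι _
  haveI := hasRpush U.ι
  haveI := hasRpush V.ι
  haveI := hasRpush W.ι
  haveI := hasRpush a
  haveI := hasRpush b
  obtain ⟨adjU⟩ := Groth.Agent.Lib.Helper26.CxI.nonempty_adj U.ι
  obtain ⟨adjV⟩ := Groth.Agent.Lib.Helper26.CxI.nonempty_adj V.ι
  obtain ⟨adjW⟩ := Groth.Agent.Lib.Helper26.CxI.nonempty_adj W.ι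
  haveI := Groth.Agent.Lib.Helper26.CxA.isIso_counit U.ι adjU
  haveI := Groth.Agent.Lib.Helper26.CxA.isIso_counit V.ι adjV
  let C := (DCoh.restrictD a).obj A
  let MA := (DCoh.Rpush U.ι).obj A
  let MB := (DCoh.Rpush V.ι).obj B
  let N := (DCoh.Rpush W.ι).obj C
  obtain ⟨e1⟩ := Groth.Agent.Lib.Helper26.CxL.nonempty_restrictD_comp_iso a U.ι W.ι wa MA
  obtain ⟨e2⟩ := Groth.Agent.Lib.Helper26.CxL.nonempty_restrictD_comp_iso b V.ι W.ι wb MB
  let θA : (DCoh.restrictD W.ι).obj MA ≅ C :=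
    e1.symm ≪≫ (DCoh.restrictD a).mapIso (asIso (adjU.counit.app A))
  let θB : (DCoh.restrictD W.ι).obj MB ≅ C :=
    e2.symm ≪≫ (DCoh.restrictD b).mapIso (asIso (adjV.counit.app B)) ≪≫ c.symm
  let φA : MA ⟶ N := adjW.unit.app MA ≫ (DCoh.Rpush W.ι).map θA.hom
  let φB : MB ⟶ N := adjW.unit.app MB ≫ (DCoh.Rpush W.ι).map θB.hom
  have hφA : IsIso ((DCoh.restrictD W.ι).map φA) := by
    haveI := Groth.Agent.Lib.Helper26.CxA.isIso_restrict_unit W.ι adjW MA
    simp only [φA, Functor.map_comp]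
    infer_instance
  have hφB : IsIso ((DCoh.restrictD W.ι).map φB) := by
    haveI := Groth.Agent.Lib.Helper26.CxA.isIso_restrict_unit W.ι adjW MB
    simp only [φB, Functor.map_comp]
    infer_instance
  -- `φA` is an isomorphism on `V`, `φB` is an isomorphism on `U`
  have hAV : IsIso ((DCoh.restrictD V.ι).map φA) := by
    obtain ⟨P, ⟨eM⟩⟩ := nonempty_restrictD_Rpush_opens U V b
      (range_morphismRestrict_le_left U V) A
    obtain ⟨eN⟩ := nonempty_restrictD_Rpush_comp b V.ι W.ι wb C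
    exact isIso_restrictD_of_local b V.ι W.ι wb φA hφA P C eM eN
  have hBU : IsIso ((DCoh.restrictD U.ι).map φB) := by
    obtain ⟨P, ⟨eM⟩⟩ := nonempty_restrictD_Rpush_opens V U a
      (range_morphismRestrict_le_right U V) B
    obtain ⟨eN⟩ := nonempty_restrictD_Rpush_comp a U.ι W.ι wa C
    exact isIso_restrictD_of_local a U.ι W.ι wa φB hφB P C eM eN
  -- the glueing triangles
  obtain ⟨Q, q, δ, hT1⟩ := distinguished_cocone_triangle φA
  obtain ⟨F, ι, δ', hT2⟩ := distinguished_cocone_triangle₁ (φB ≫ q)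
  refine ⟨F, ?_, ?_⟩
  · -- on `U`
    have hT1U := (DCoh.restrictD U.ι).map_distinguished _ hT1
    have hT2U := (DCoh.restrictD U.ι).map_distinguished _ hT2
    haveI := hBU
    have r1 := rot_of_distTriang _ hT1U
    have r2 := rot_of_distTriang _ hT2U
    let I := isoTriangleOfIso₁₂ _ _ r2 r1 (@asIso _ _ _ _ ((DCoh.restrictD U.ι).map φB) hBU)
      (Iso.refl _) (by
        change (DCoh.restrictD U.ι).map (φB ≫ q) ≫ 𝟙 _ =
          (DCoh.restrictD U.ι).map φB ≫ (DCoh.restrictD U.ι).map q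
        rw [Category.comp_id, Functor.map_comp])
    let e3 : ((DCoh.restrictD U.ι).obj F)⟦(1 : ℤ)⟧ ≅ ((DCoh.restrictD U.ι).obj MA)⟦(1 : ℤ)⟧ :=
      Triangle.π₃.mapIso I
    exact ⟨(shiftFunctor (DCoh.D (U : Scheme.{u})) (1 : ℤ)).preimageIso e3 ≪≫
      asIso (adjU.counit.app A)⟩
  · -- on `V`
    have hT1V := (DCoh.restrictD V.ι).map_distinguished _ hT1
    have hT2V := (DCoh.restrictD V.ι).map_distinguished _ hT2
    have hQ : IsZero ((DCoh.restrictD V.ι).obj Q) := (Triangle.isZero₃_iff_isIso₁ _ hT1V).2 hAV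
    have hι : IsIso ((DCoh.restrictD V.ι).map ι) := (Triangle.isZero₃_iff_isIso₁ _ hT2V).1 hQ
    exact ⟨asIso ((DCoh.restrictD V.ι).map ι) ≪≫ asIso (adjV.counit.app B)⟩

end Main

end Groth.Agent.Lib.Helper26.GlueTwo
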