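import Groth.Agent.Lib.Helper26.WeightDecomp
import Mathlib.Algebra.Polynomial.Laurent
import Mathlib.RingTheory.MvPolynomial.Homogeneous

/-!
# Diagonal actions of the multiplicative group on affine space (helper26)
-/

open TensorProduct LaurentPolynomial

universe u

namespace Groth.Agent.Lib.Helper26.Weight

open HopfRep Groth.Agent.Lib.Helper26.Comod MvPolynomial

section Gm

variable {k : Type u} [Field k] {ι : Type*}
  [Comod k k[T;T⁻¹] (MvPolynomial ι k)] [GLin.IsCoactAlg k k[T;T⁻¹] (MvPolynomial ι k)]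
  (r : ι → ℤ)

/-- the weight of a monomial -/
def wgt (a : ι →₀ ℕ) : ℤ := a.sum fun i n => (n : ℤ) * r i

theorem wgt_zero : wgt r 0 = 0 := by simp [wgt]

theorem wgt_add (a b : ι →₀ ℕ) : wgt r (a + b) = wgt r a + wgt r b := by
  unfold wgt
  rw [Finsupp.sum_add_index']
  · intro i; simp
  · intro i m n; push_cast; ring

theorem wgt_single (i : ι) (n : ℕ) : wgt r (Finsupp.single i n) = (n : ℤ) * r i := by
  unfold wgt
  rw [Finsupp.sum_single_index]
  simp

variable (hr : ∀ i : ι, Comod.coact (k := k) (A := k[T;T⁻¹]) (X i : MvPolynomial ι k) =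
      (X i : MvPolynomial ι k) ⊗ₜ[k] (T (r i) : k[T;T⁻¹]))

include hr

theorem X_mem (i : ι) : (X i : MvPolynomial ι k) ∈
    eigenspace k (AddMonoidAlgebra k ℤ) (MvPolynomial ι k) (AddMonoidAlgebra.single (r i) 1) :=
  hr i

theorem X_pow_mem (i : ι) (n : ℕ) : (X i ^ n : MvPolynomial ι k) ∈
    eigenspace k (AddMonoidAlgebra k ℤ) (MvPolynomial ι k)
      (AddMonoidAlgebra.single ((n : ℤ) * r i) 1) := by
  classical
  induction n with
  | zero =>
    rw [pow_zero, Nat.cast_zero, zero_mul]
    exact (mem_invariants_iff_mem_eigenspace (1 : MvPolynomial ι k)).mp (Subalgebra.one_mem _)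
  | succ n ih =>
    rw [pow_succ]
    have := mul_mem_eigenspace ih (X_mem r hr i)
    have e : ((n + 1 : ℕ) : ℤ) * r i = (n : ℤ) * r i + r i := by push_cast; ring
    rw [e]
    exact this

theorem monomial_mem (a : ι →₀ ℕ) (c : k) : (monomial a c : MvPolynomial ι k) ∈
    eigenspace k (AddMonoidAlgebra k ℤ) (MvPolynomial ι k)
      (AddMonoidAlgebra.single (wgt r a) 1) := by
  classical
  induction a using Finsupp.induction_linear generalizing c with
  | zero =>
    rw [wgt_zero]
    exact (mem_invariants_iff_mem_eigenspace _).mp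
      ((GLin.invariants k (AddMonoidAlgebra k ℤ) (MvPolynomial ι k)).algebraMap_mem c)
  | add f g hf hg =>
    have : (monomial (f + g) c : MvPolynomial ι k) = monomial f c * monomial g 1 := by
      rw [monomial_mul, mul_one]
    rw [this, wgt_add]
    exact mul_mem_eigenspace (hf c) (hg 1)
  | single i n =>
    rw [← C_mul_X_pow_eq_monomial, wgt_single]
    have h0 : (C c : MvPolynomial ι k) ∈ eigenspace k (AddMonoidAlgebra k ℤ) (MvPolynomial ι k)
        (AddMonoidAlgebra.single 0 1) :=
      (mem_invariants_iff_mem_eigenspace _).mp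
        ((GLin.invariants k (AddMonoidAlgebra k ℤ) (MvPolynomial ι k)).algebraMap_mem c)
    have := mul_mem_eigenspace h0 (X_pow_mem r hr i n)
    rwa [zero_add] at this

/-- the monomials of an invariant polynomial have weight zero -/
theorem wgt_eq_zero_of_mem_support {F : MvPolynomial ι k}
    (hF : F ∈ GLin.invariants k (AddMonoidAlgebra k ℤ) (MvPolynomial ι k)) {a : ι →₀ ℕ}
    (ha : a ∈ F.support) : wgt r a = 0 := by
  classical
  have hF0 := (mem_invariants_iff_mem_eigenspace F).mp hF
  have h1 : pw k (0 : ℤ) F = F := by rw [pw_of_mem hF0, if_pos rfl]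
  have h2 : pw k (0 : ℤ) F = ∑ b ∈ F.support, if wgt r b = 0 then monomial b (coeff b F) else 0 := by
    conv_lhs => rw [F.as_sum, map_sum]
    apply Finset.sum_congr rfl
    intro b _
    exact pw_of_mem (monomial_mem r hr b _) 0
  by_contra hne
  have h3 := congrArg (coeff a) (h1.symm.trans h2)
  rw [coeff_sum] at h3
  rw [Finset.sum_eq_single a] at h3
  · rw [if_neg hne, coeff_zero] at h3
    exact (mem_support_iff.mp ha) h3
  · intro b _ hba
    split_ifs
    · rw [coeff_monomial, if_neg hba]
    · rw [coeff_zero]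
  · intro h; exact absurd ha h

end Gm

end Groth.Agent.Lib.Helper26.Weight
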