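import Groth.Agent.Lib.Helper26.GLinOrbit
import Groth.Agent.Lib.Helper26.GLinPoints
import Groth.Agent.Lib.Helper26.DiagMu
import Mathlib.RingTheory.IntegralClosure.IsIntegralClosure.Basic
import Mathlib.RingTheory.Spectrum.Prime.Topology
import Mathlib.RingTheory.FiniteType
import Mathlib.RingTheory.Ideal.GoingUp

/-!
# Stable vectors for a diagonal action of the multiplicative group (helper26)
-/

open TensorProduct LaurentPolynomial

universe u v w

namespace Groth.Agent.Lib.Helper26.GmStable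

section Laurent

variable {k : Type u} [Field k]

theorem not_finite_laurent : ¬ Module.Finite k k[T;T⁻¹] := by
  intro h
  have : Finite ℤ := Module.Finite.finite_basis (AddMonoidAlgebra.basis ℤ k)
  exact not_finite ℤ

theorem adjoin_T_eq_top : Algebra.adjoin k {(T 1 : k[T;T⁻¹]), T (-1)} = ⊤ := by
  rw [eq_top_iff]
  rintro f -
  induction f using LaurentPolynomial.induction_on' with
  | add p q hp hq => exact Subalgebra.add_mem _ hp hq
  | C_mul_T n a =>
    apply Subalgebra.mul_mem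
    · rw [C_eq_algebraMap]
      exact Subalgebra.algebraMap_mem _ a
    · rcases le_total 0 n with hn | hn
      · obtain ⟨m, rfl⟩ := Int.eq_ofNat_of_zero_le hn
        have : (T (m : ℤ) : k[T;T⁻¹]) = T 1 ^ m := by rw [T_pow, mul_one]
        rw [this]
        exact Subalgebra.pow_mem _ (Algebra.subset_adjoin (by simp)) m
      · obtain ⟨m, hm⟩ := Int.eq_ofNat_of_zero_le (neg_nonneg.mpr hn)
        have : (T n : k[T;T⁻¹]) = T (-1) ^ m := by rw [T_pow, ← hm]; congr 1; ring
        rw [this]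
        exact Subalgebra.pow_mem _ (Algebra.subset_adjoin (by simp)) m

/-- if `T^n - 1` lies in the ideal (with `n > 0`), the quotient is finite -/
theorem finite_quotient (I : Ideal k[T;T⁻¹]) (n : ℕ) (hn : 0 < n)
    (h : (T (n : ℤ) : k[T;T⁻¹]) - 1 ∈ I) : Module.Finite k (k[T;T⁻¹] ⧸ I) := by
  set q := Ideal.Quotient.mkₐ k I with hq
  have hq1 : q (T (n : ℤ)) = 1 := by
    have : q (T (n : ℤ) - 1) = 0 := Ideal.Quotient.eq_zero_iff_mem.mpr h
    rwa [map_sub, map_one, sub_eq_zero] at this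
  have ht : q (T 1) ^ n = 1 := by
    rw [← map_pow, T_pow, mul_one, hq1]
  have ht' : q (T (-1)) ^ n = 1 := by
    have h2 : q (T (-1)) ^ n * q (T 1) ^ n = 1 := by
      rw [← mul_pow, ← map_mul, ← T_add]
      simp
    rwa [ht, mul_one] at h2
  have hint : ∀ y : k[T;T⁻¹] ⧸ I, y ^ n = 1 → IsIntegral k y := by
    intro y hy
    refine ⟨Polynomial.X ^ n - 1, Polynomial.monic_X_pow_sub_C 1 hn.ne', ?_⟩
    simp [hy]
  have hfg := fg_adjoin_of_finite (R := k) (s := {q (T 1), q (T (-1))}) (by simp)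
    (by
      intro y hy
      simp only [Set.mem_insert_iff, Set.mem_singleton_iff] at hy
      rcases hy with rfl | rfl
      · exact hint _ ht
      · exact hint _ ht')
  have htop : Algebra.adjoin k {q (T 1), q (T (-1))} = ⊤ := by
    have : ({q (T 1), q (T (-1))} : Set (k[T;T⁻¹] ⧸ I)) = q '' {T 1, T (-1)} := by
      simp [Set.image_pair]
    rw [this, ← AlgHom.map_adjoin, adjoin_T_eq_top, Algebra.map_top, AlgHom.range_eq_top]
    exact Ideal.Quotient.mkₐ_surjective k I
  rw [htop] at hfg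
  exact ⟨by simpa using hfg⟩

/-- if the range of an algebra map to the Laurent polynomials contains a negative and a positive
power of `T`, the map is integral -/
theorem isIntegral_of_T_mem_range {R : Type w} [CommRing R] [Algebra k R]
    (φ : R →ₐ[k] k[T;T⁻¹]) (a b : ℕ) (ha : 0 < a) (hb : 0 < b)
    (hTa : (T (-(a : ℤ)) : k[T;T⁻¹]) ∈ φ.range) (hTb : (T (b : ℤ) : k[T;T⁻¹]) ∈ φ.range) :
    φ.toRingHom.IsIntegral := by
  have h1 : φ.toRingHom.IsIntegralElem (T 1) := by
    obtain ⟨y, hy⟩ := hTb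
    refine ⟨Polynomial.X ^ b - Polynomial.C y, Polynomial.monic_X_pow_sub_C y hb.ne', ?_⟩
    rw [Polynomial.eval₂_sub, Polynomial.eval₂_pow, Polynomial.eval₂_X, Polynomial.eval₂_C,
      T_pow, mul_one]
    change T (b : ℤ) - φ y = 0
    have hy' : φ y = T (b : ℤ) := hy
    rw [hy', sub_self]
  have h2 : φ.toRingHom.IsIntegralElem (T (-1)) := by
    obtain ⟨y, hy⟩ := hTa
    refine ⟨Polynomial.X ^ a - Polynomial.C y, Polynomial.monic_X_pow_sub_C y ha.ne', ?_⟩
    rw [Polynomial.eval₂_sub, Polynomial.eval₂_pow, Polynomial.eval₂_X, Polynomial.eval₂_C,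
      T_pow, mul_neg, mul_one]
    change T (-(a : ℤ)) - φ y = 0
    have hy' : φ y = T (-(a : ℤ)) := hy
    rw [hy', sub_self]
  intro f
  have hf : f ∈ Algebra.adjoin k {(T 1 : k[T;T⁻¹]), T (-1)} := by
    rw [adjoin_T_eq_top]; trivial
  induction hf using Algebra.adjoin_induction with
  | mem x hx =>
    simp only [Set.mem_insert_iff, Set.mem_singleton_iff] at hx
    rcases hx with rfl | rfl
    · exact h1
    · exact h2
  | algebraMap c =>
    have : algebraMap k k[T;T⁻¹] c = φ.toRingHom (algebraMap k R c) := by simp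
    rw [this]
    exact φ.toRingHom.isIntegralElem_map
  | add x y _ _ hx hy => exact RingHom.IsIntegralElem.add _ hx hy
  | mul x y _ _ hx hy => exact RingHom.IsIntegralElem.mul _ hx hy

end Laurent

section Main

open HopfRep

variable {k : Type u} [Field k] {ι : Type w} [Fintype ι]
  [Comod k k[T;T⁻¹] (MvPolynomial ι k)] [GLin.IsCoactAlg k k[T;T⁻¹] (MvPolynomial ι k)]
  (r : ι → ℤ)
  (hr : ∀ i : ι, Comod.coact (k := k) (A := k[T;T⁻¹]) (MvPolynomial.X i : MvPolynomial ι k) =
      (MvPolynomial.X i : MvPolynomial ι k) ⊗ₜ[k] (T (r i) : k[T;T⁻¹]))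
  (v : ι → k)

include hr in
theorem orbitHom_X (i : ι) :
    GLin.orbitHom k k[T;T⁻¹] (GLin.vecPt k ι v) (MvPolynomial.X i) = C (v i) * T (r i) := by
  rw [Groth.Agent.Lib.Helper26.Comod.orbitHom_apply, hr, LinearMap.rTensor_tmul,
    TensorProduct.lid_tmul, AlgHom.toLinearMap_apply, MvPolynomial.aeval_X, smul_eq_C_mul]

include hr in
theorem isStable_of_weights (i j : ι) (hvi : v i ≠ 0) (hvj : v j ≠ 0) (hri : r i < 0)
    (hrj : 0 < r j) : GLin.IsStableVec k k[T;T⁻¹] v := by
  have hmem : ∀ l : ι, v l ≠ 0 →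
      (T (r l) : k[T;T⁻¹]) ∈ (GLin.orbitHom k k[T;T⁻¹] (GLin.vecPt k ι v)).range := by
    intro l hl
    refine ⟨(v l)⁻¹ • MvPolynomial.X l, ?_⟩
    change GLin.orbitHom k k[T;T⁻¹] (GLin.vecPt k ι v) ((v l)⁻¹ • MvPolynomial.X l) = _
    rw [map_smul, orbitHom_X r hr v, smul_eq_C_mul, ← mul_assoc, ← map_mul, inv_mul_cancel₀ hl,
      map_one, one_mul]
  obtain ⟨a, ha⟩ := Int.eq_ofNat_of_zero_le (neg_nonneg.mpr hri.le)
  obtain ⟨b, hb⟩ := Int.eq_ofNat_of_zero_le hrj.le
  have ha0 : 0 < a := by omega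
  have hb0 : 0 < b := by omega
  refine ⟨?_, ?_⟩
  · -- closed orbit
    have hint := isIntegral_of_T_mem_range (GLin.orbitHom k k[T;T⁻¹] (GLin.vecPt k ι v)) a b ha0 hb0
      (by rw [← ha, neg_neg]; exact hmem i hvi) (by rw [← hb]; exact hmem j hvj)
    exact (PrimeSpectrum.isClosedMap_comap_of_isIntegral _ hint).isClosed_range
  · -- finite stabiliser
    apply finite_quotient _ b hb0
    have h1 : (MvPolynomial.X j - MvPolynomial.C (v j) : MvPolynomial ι k) ∈
        RingHom.ker (GLin.vecPt k ι v) := by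
      rw [RingHom.mem_ker, map_sub]
      simp
    have h2 := Ideal.mem_map_of_mem (GLin.orbitHom k k[T;T⁻¹] (GLin.vecPt k ι v)) h1
    rw [map_sub, orbitHom_X r hr v, ← MvPolynomial.algebraMap_eq, AlgHom.commutes,
      ← C_eq_algebraMap] at h2
    have h3 : (T (b : ℤ) : k[T;T⁻¹]) - 1 = C (v j)⁻¹ * (C (v j) * T (r j) - C (v j)) := by
      rw [mul_sub, ← mul_assoc, ← map_mul, inv_mul_cancel₀ hvj, map_one, one_mul, hb]
    rw [h3]
    exact Ideal.mul_mem_left _ _ h2

include hr in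
/-- if all weights of the non-zero coordinates have the same sign (after the substitution `φ`) and
one of them is non-zero, the orbit is not closed -/
theorem not_isClosedOrbit_of_sign [IsAlgClosed k] (φ : k[T;T⁻¹] →ₐ[k] k[T;T⁻¹]) (s : ℤ → ℤ)
    (hφ : ∀ n, φ (T n) = T (s n)) (hs : ∀ i, v i ≠ 0 → 0 ≤ s (r i))
    (i₀ : ι) (hv₀ : v i₀ ≠ 0) (hs₀ : 0 < s (r i₀)) :
    ¬ GLin.IsClosedOrbit k k[T;T⁻¹] (GLin.vecPt k ι v) := by
  intro hcl
  haveI : AddMonoid.FG ℤ :=
    AddGroup.fg_iff_addMonoid_fg.mp (Module.Finite.iff_addGroup_fg.mp inferInstance)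
  let h : MvPolynomial ι k →ₐ[k] Polynomial k :=
    MvPolynomial.aeval (fun i => Polynomial.C (v i) * Polynomial.X ^ (s (r i)).toNat)
  have hcomp : (Polynomial.toLaurentAlg (R := k)).comp h =
      φ.comp (GLin.orbitHom k k[T;T⁻¹] (GLin.vecPt k ι v)) := by
    apply MvPolynomial.algHom_ext
    intro i
    rw [AlgHom.comp_apply, AlgHom.comp_apply, orbitHom_X r hr v, MvPolynomial.aeval_X,
      Polynomial.toLaurentAlg_apply, Polynomial.toLaurent_C_mul_X_pow, map_mul, hφ,
      C_eq_algebraMap, AlgHom.commutes]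
    by_cases hvi : v i = 0
    · rw [hvi, map_zero, zero_mul, zero_mul]
    · rw [Int.toNat_of_nonneg (hs i hvi)]
  let y : MvPolynomial ι k →ₐ[k] k := (Polynomial.aeval (0 : k)).comp h
  have hy : GLin.InOrbitClosure k k[T;T⁻¹] (GLin.vecPt k ι v) y := by
    intro f hf
    rw [RingHom.mem_ker] at hf ⊢
    have h1 : Polynomial.toLaurentAlg (R := k) (h f) = 0 := by
      rw [← AlgHom.comp_apply, hcomp, AlgHom.comp_apply, hf, map_zero]
    have h2 : h f = 0 := by
      rw [Polynomial.toLaurentAlg_apply] at h1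
      exact Polynomial.toLaurent_eq_zero.mp h1
    change Polynomial.aeval (0 : k) (h f) = 0
    rw [h2, map_zero]
  obtain ⟨g, hg⟩ := Groth.Agent.Lib.Helper26.Comod.exists_actPt_eq_of_isClosedOrbit
    (GLin.vecPt k ι v) y hcl hy
  have h1 : y (MvPolynomial.X i₀) = 0 := by
    change Polynomial.aeval (0 : k) (h (MvPolynomial.X i₀)) = 0
    rw [MvPolynomial.aeval_X, map_mul, map_pow, Polynomial.aeval_X, Polynomial.aeval_C,
      zero_pow, mul_zero]
    intro h0
    have := Int.toNat_of_nonneg hs₀.le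
    omega
  have h2 : y (MvPolynomial.X i₀) = v i₀ * g (T (r i₀)) := by
    rw [hg]
    change g (GLin.orbitHom k k[T;T⁻¹] (GLin.vecPt k ι v) (MvPolynomial.X i₀)) = _
    rw [orbitHom_X r hr v, map_mul, C_eq_algebraMap, AlgHom.commutes]
    rfl
  have h3 : IsUnit (g (T (r i₀))) := (isUnit_T (r i₀)).map g
  rw [h1] at h2
  exact (mul_ne_zero hv₀ h3.ne_zero) h2.symm

include hr in
theorem weights_of_isStable [IsAlgClosed k] (hst : GLin.IsStableVec k k[T;T⁻¹] v) :
    ∃ i j : ι, v i ≠ 0 ∧ v j ≠ 0 ∧ r i < 0 ∧ 0 < r j := by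
  obtain ⟨hcl, hfin⟩ := hst
  -- some non-zero coordinate has non-zero weight
  have hex : ∃ i, v i ≠ 0 ∧ r i ≠ 0 := by
    by_contra hno
    push_neg at hno
    apply not_finite_laurent (k := k)
    have hfix : ∀ f : MvPolynomial ι k, GLin.orbitHom k k[T;T⁻¹] (GLin.vecPt k ι v) f =
        algebraMap k k[T;T⁻¹] (GLin.vecPt k ι v f) := by
      intro f
      have : GLin.orbitHom k k[T;T⁻¹] (GLin.vecPt k ι v) =
          (Algebra.ofId k k[T;T⁻¹]).comp (GLin.vecPt k ι v) := by
        apply MvPolynomial.algHom_ext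
        intro i
        rw [orbitHom_X r hr v, AlgHom.comp_apply, MvPolynomial.aeval_X]
        by_cases hvi : v i = 0
        · rw [hvi, map_zero, zero_mul, map_zero]
        · rw [hno i hvi, T_zero, mul_one, C_eq_algebraMap]
          rfl
      rw [this]
      rfl
    have hbot : GLin.stabIdeal k k[T;T⁻¹] (GLin.vecPt k ι v) = ⊥ := by
      rw [eq_bot_iff]
      apply Ideal.map_le_iff_le_comap.mpr
      intro f hf
      rw [RingHom.mem_ker] at hf
      rw [Ideal.mem_comap, Ideal.mem_bot]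
      change GLin.orbitHom k k[T;T⁻¹] (GLin.vecPt k ι v) f = 0
      rw [hfix, hf, map_zero]
    have hfin' : Module.Finite k (k[T;T⁻¹] ⧸ GLin.stabIdeal k k[T;T⁻¹] (GLin.vecPt k ι v)) := hfin
    rw [hbot] at hfin'
    exact Module.Finite.equiv (AlgEquiv.quotientBot k k[T;T⁻¹]).toLinearEquiv
  obtain ⟨i₀, hv₀, hr₀⟩ := hex
  have hneg : ∃ i, v i ≠ 0 ∧ r i < 0 := by
    by_contra hno
    push_neg at hno
    exact not_isClosedOrbit_of_sign r hr v (AlgHom.id k _) id (fun n => rfl) hno i₀ hv₀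
      (lt_of_le_of_ne (hno i₀ hv₀) (Ne.symm hr₀)) hcl
  have hpos : ∃ j, v j ≠ 0 ∧ 0 < r j := by
    by_contra hno
    push_neg at hno
    refine not_isClosedOrbit_of_sign r hr v (LaurentPolynomial.invert (R := k)).toAlgHom
      (fun n => -n) (fun n => invert_T n) (fun i hi => ?_) i₀ hv₀ ?_ hcl
    · have := hno i hi
      change 0 ≤ -r i
      omega
    · have := hno i₀ hv₀
      change 0 < -r i₀
      omega
  obtain ⟨i, hvi, hri⟩ := hneg
  obtain ⟨j, hvj, hrj⟩ := hpos
  exact ⟨i, j, hvi, hvj, hri, hrj⟩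

end Main

end Groth.Agent.Lib.Helper26.GmStable
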