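import Mathlib
import Groth.Prelude.Def_CycDet
import Groth.Agent.Lib.Helper2.LenAt

set_option maxHeartbeats 400000
set_option autoImplicit false

namespace Groth.Agent.Lib.Helper26.GoodSeq

open Function CycDet Groth.Agent.Lib.Helper2.LenAt

universe u

variable {R : Type u} [CommRing R] [IsLocalRing R] {M : Type u} [AddCommGroup M] [Module R M]

lemma spanBefore_mono {l : ℕ} (x : Fin l → M) {i i' : ℕ} (h : i ≤ i') :
    spanBefore R M x i ≤ spanBefore R M x i' := by
  unfold spanBefore
  apply Submodule.span_mono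
  apply Set.image_mono
  intro j hj
  exact lt_of_lt_of_le hj h

lemma spanBefore_zero {l : ℕ} (x : Fin l → M) : spanBefore R M x 0 = ⊥ := by
  unfold spanBefore
  have : {j : Fin l | (j : ℕ) < 0} = ∅ := by
    ext j; simp
  rw [this, Set.image_empty, Submodule.span_empty]

lemma spanBefore_all {l : ℕ} (x : Fin l → M) : spanBefore R M x l = Submodule.span R (Set.range x) := by
  unfold spanBefore
  have : {j : Fin l | (j : ℕ) < l} = Set.univ := by
    ext j; simp
  rw [this, Set.image_univ]

lemma spanBefore_snoc_of_le {l : ℕ} (x : Fin l → M) (y : M) {i : ℕ} (hi : i ≤ l) :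
    spanBefore R M (Fin.snoc x y : Fin (l + 1) → M) i = spanBefore R M x i := by
  unfold spanBefore
  congr 1
  ext z
  constructor
  · rintro ⟨j, hj, rfl⟩
    have hjl : (j : ℕ) < l := lt_of_lt_of_le hj hi
    refine ⟨⟨j, hjl⟩, hj, ?_⟩
    have : j = Fin.castSucc ⟨j, hjl⟩ := by ext; rfl
    conv_rhs => rw [this]
    rw [Fin.snoc_castSucc]
  · rintro ⟨j, hj, rfl⟩
    refine ⟨Fin.castSucc j, hj, ?_⟩
    rw [Fin.snoc_castSucc]

lemma spanBefore_snoc_last {l : ℕ} (x : Fin l → M) (y : M) :
    spanBefore R M (Fin.snoc x y : Fin (l + 1) → M) (l + 1) =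
      Submodule.span R (Set.range x) ⊔ Submodule.span R {y} := by
  rw [spanBefore_all]
  apply le_antisymm
  · rw [Submodule.span_le]
    rintro _ ⟨j, rfl⟩
    refine Fin.lastCases ?_ (fun j' => ?_) j
    · rw [Fin.snoc_last]
      exact Submodule.mem_sup_right (Submodule.subset_span rfl)
    · rw [Fin.snoc_castSucc]
      exact Submodule.mem_sup_left (Submodule.subset_span ⟨j', rfl⟩)
  · rw [sup_le_iff, Submodule.span_le, Submodule.span_le]
    constructor
    · rintro _ ⟨j, rfl⟩
      exact Submodule.subset_span ⟨Fin.castSucc j, by rw [Fin.snoc_castSucc]⟩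
    · rintro _ rfl
      exact Submodule.subset_span ⟨Fin.last l, by rw [Fin.snoc_last]⟩

--PART2
/-- length at `q` of a chain with quotients `R/q`. -/
lemma lenAt_spanBefore (q : PrimeSpectrum R) {l : ℕ} (x : Fin l → M)
    (hgood : ∀ i : Fin l, Nonempty ((↥(spanBefore R M x (i + 1)) ⧸
      (spanBefore R M x i).submoduleOf (spanBefore R M x (i + 1))) ≃ₗ[R] (R ⧸ q.asIdeal)))
    (i : ℕ) (hi : i ≤ l) : lenAt q (spanBefore R M x i) = i := by
  induction i with
  | zero =>
    rw [spanBefore_zero]
    simpa using lenAt_eq_zero_of_subsingleton q (⊥ : Submodule R M)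
  | succ i ih =>
    have hle := spanBefore_mono (R := R) x (Nat.le_succ i)
    obtain ⟨e⟩ := hgood ⟨i, hi⟩
    have hex := lenAt_exact q (Submodule.inclusion hle)
      ((spanBefore R M x i).submoduleOf (spanBefore R M x (i + 1))).mkQ
      (Submodule.inclusion_injective hle) (Submodule.mkQ_surjective _) (by
        rw [LinearMap.exact_iff, Submodule.ker_mkQ, Submodule.range_inclusion]
        rfl)
    rw [hex, ih (Nat.le_of_succ_le hi), lenAt_congr q e, lenAt_quotient_self]
    push_cast
    rfl

theorem part2 (q : PrimeSpectrum R) (l : ℕ) (x : Fin l → M)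
    (hq : q ∉ Module.support R (M ⧸ Submodule.span R (Set.range x)))
    (hgood : ∀ i : Fin l, Nonempty ((↥(spanBefore R M x (i + 1)) ⧸
      (spanBefore R M x i).submoduleOf (spanBefore R M x (i + 1))) ≃ₗ[R] (R ⧸ q.asIdeal))) :
    (l : ℕ∞) = Module.length (Localization.AtPrime q.asIdeal)
      (LocalizedModule q.asIdeal.primeCompl M) := by
  change (l : ℕ∞) = lenAt q M
  have h1 := lenAt_exact q (Submodule.span R (Set.range x)).subtype
    (Submodule.span R (Set.range x)).mkQ (Submodule.subtype_injective _)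
    (Submodule.mkQ_surjective _) (LinearMap.exact_subtype_mkQ _)
  have h2 : lenAt q (M ⧸ Submodule.span R (Set.range x)) = 0 := by
    unfold lenAt
    rw [Module.length_eq_zero_iff]
    rw [Module.mem_support_iff, not_nontrivial_iff_subsingleton] at hq
    exact hq
  rw [h1, h2, add_zero, ← spanBefore_all, lenAt_spanBefore q x hgood l le_rfl]

--PART3
/-- `(N ⊔ Ry)/N ≅ R/q` when `q = (N : y)`. -/
lemma nonempty_equiv_of_colon (q : Ideal R) (N : Submodule R M) (y : M)
    (hq : ∀ r : R, r ∈ q ↔ r • y ∈ N) :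
    Nonempty ((↥(N ⊔ Submodule.span R {y}) ⧸ N.submoduleOf (N ⊔ Submodule.span R {y})) ≃ₗ[R]
      (R ⧸ q)) := by
  have hy : y ∈ N ⊔ Submodule.span R {y} :=
    Submodule.mem_sup_right (Submodule.subset_span rfl)
  let φ : R →ₗ[R] (↥(N ⊔ Submodule.span R {y}) ⧸ N.submoduleOf (N ⊔ Submodule.span R {y})) :=
    (Submodule.mkQ _).comp (LinearMap.toSpanSingleton R _ ⟨y, hy⟩)
  have hφ : ∀ r, φ r = Submodule.Quotient.mk (r • ⟨y, hy⟩) := fun r => rfl
  have hsurj : Surjective φ := by
    intro z
    obtain ⟨⟨w, hw⟩, rfl⟩ := Submodule.Quotient.mk_surjective _ z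
    obtain ⟨n, hn, v, hv, rfl⟩ := Submodule.mem_sup.mp hw
    obtain ⟨r, rfl⟩ := Submodule.mem_span_singleton.mp hv
    refine ⟨r, ?_⟩
    rw [hφ, Submodule.Quotient.eq]
    change ((r • ⟨y, hy⟩ - ⟨n + r • y, hw⟩ : ↥(N ⊔ Submodule.span R {y})) : M) ∈ N
    simp only [Submodule.coe_sub, Submodule.coe_smul, sub_add_cancel_right]
    exact N.neg_mem hn
  have hker : LinearMap.ker φ = q := by
    ext r
    rw [LinearMap.mem_ker, hφ, Submodule.Quotient.mk_eq_zero, hq r]
    rfl
  exact ⟨((Submodule.quotEquivOfEq _ _ hker).symm.trans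
    (φ.quotKerEquivOfSurjective hsurj)).symm⟩

theorem part1 [IsNoetherianRing R] [Module.Finite R M] (q : PrimeSpectrum R)
    (hq : Minimal (fun p : PrimeSpectrum R => p ∈ Module.support R M) q) :
    ∃ (l : ℕ) (x : Fin l → M), q ∉ Module.support R (M ⧸ Submodule.span R (Set.range x)) ∧
      ∀ i : Fin l, Nonempty ((↥(spanBefore R M x (i + 1)) ⧸
        (spanBefore R M x i).submoduleOf (spanBefore R M x (i + 1))) ≃ₗ[R] (R ⧸ q.asIdeal)) := by
  haveI : IsNoetherian R M := isNoetherian_of_isNoetherianRing_of_finite R M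
  -- noetherian induction on the span
  have key : ∀ N : Submodule R M, (∃ (l : ℕ) (x : Fin l → M), Submodule.span R (Set.range x) = N ∧
      ∀ i : Fin l, Nonempty ((↥(spanBefore R M x (i + 1)) ⧸
        (spanBefore R M x i).submoduleOf (spanBefore R M x (i + 1))) ≃ₗ[R] (R ⧸ q.asIdeal))) →
      ∃ (l : ℕ) (x : Fin l → M), q ∉ Module.support R (M ⧸ Submodule.span R (Set.range x)) ∧
      ∀ i : Fin l, Nonempty ((↥(spanBefore R M x (i + 1)) ⧸
        (spanBefore R M x i).submoduleOf (spanBefore R M x (i + 1))) ≃ₗ[R] (R ⧸ q.asIdeal)) := by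
    intro N
    induction N using IsWellFounded.induction (· > · : Submodule R M → Submodule R M → Prop) with
    | ind N ih =>
    rintro ⟨l, x, hxN, hgood⟩
    by_cases hsupp : q ∈ Module.support R (M ⧸ N)
    · -- extend the sequence
      have hann : Module.annihilator R (M ⧸ N) ≤ q.asIdeal :=
        Module.mem_support_iff_of_finite.mp hsupp
      have hmin : q.asIdeal ∈ (Module.annihilator R (M ⧸ N)).minimalPrimes := by
        refine ⟨⟨q.isPrime, hann⟩, ?_⟩
        rintro p ⟨hp, hpann⟩ hpq
        have hpS : (⟨p, hp⟩ : PrimeSpectrum R) ∈ Module.support R (M ⧸ N) :=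
          Module.mem_support_iff_of_finite.mpr hpann
        have hpM : (⟨p, hp⟩ : PrimeSpectrum R) ∈ Module.support R M :=
          Module.support_subset_of_surjective N.mkQ (Submodule.mkQ_surjective N) hpS
        exact hq.2 hpM hpq
      have hass := Module.associatedPrimes.minimalPrimes_annihilator_subset_associatedPrimes R
        (M ⧸ N) hmin
      obtain ⟨-, ybar, hy⟩ := (isAssociatedPrime_iff).mp hass
      obtain ⟨y, rfl⟩ := Submodule.Quotient.mk_surjective _ ybar
      have hcolon : ∀ r : R, r ∈ q.asIdeal ↔ r • y ∈ N := by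
        intro r
        rw [hy, Submodule.mem_colon_singleton, Submodule.mem_bot, ← Submodule.Quotient.mk_smul,
          Submodule.Quotient.mk_eq_zero]
      have hyN : y ∉ N := by
        intro hyN
        apply q.isPrime.ne_top
        rw [Ideal.eq_top_iff_one, hcolon, one_smul]
        exact hyN
      have hlt : N < N ⊔ Submodule.span R {y} := by
        refine lt_of_le_of_ne le_sup_left ?_
        intro heq
        apply hyN
        rw [heq]
        exact Submodule.mem_sup_right (Submodule.subset_span rfl)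
      apply ih (N ⊔ Submodule.span R {y}) hlt
      refine ⟨l + 1, Fin.snoc x y, ?_, ?_⟩
      · rw [← spanBefore_all, spanBefore_snoc_last, hxN]
      · intro i
        refine Fin.lastCases ?_ (fun i' => ?_) i
        · have e1 : ((Fin.last l : Fin (l + 1)) : ℕ) = l := rfl
          rw [e1, spanBefore_snoc_last, spanBefore_snoc_of_le x y le_rfl, spanBefore_all, hxN]
          exact nonempty_equiv_of_colon q.asIdeal N y hcolon
        · have e1 : ((Fin.castSucc i' : Fin (l + 1)) : ℕ) = i' := rfl
          rw [e1, spanBefore_snoc_of_le x y (Nat.succ_le_of_lt i'.2),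
            spanBefore_snoc_of_le x y (Nat.le_of_lt i'.2)]
          exact hgood i'
    · exact ⟨l, x, by rw [hxN]; exact hsupp, hgood⟩
  apply key ⊥
  refine ⟨0, Fin.elim0, ?_, fun i => i.elim0⟩
  rw [Submodule.span_eq_bot]
  rintro _ ⟨j, -⟩
  exact j.elim0


theorem main (R : Type u) [CommRing R] [IsNoetherianRing R] [IsLocalRing R] (M : Type u)
    [AddCommGroup M] [Module R M] [Module.Finite R M] (q : PrimeSpectrum R)
    (hq : Minimal (fun p : PrimeSpectrum R => p ∈ Module.support R M) q) :
    (∃ (l : ℕ) (x : Fin l → M), q ∉ Module.support R (M ⧸ Submodule.span R (Set.range x)) ∧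
      ∀ i : Fin l, Nonempty ((↥(CycDet.spanBefore R M x (i + 1)) ⧸
        (CycDet.spanBefore R M x i).submoduleOf (CycDet.spanBefore R M x (i + 1))) ≃ₗ[R]
          (R ⧸ q.asIdeal))) ∧
    ∀ (l : ℕ) (x : Fin l → M), q ∉ Module.support R (M ⧸ Submodule.span R (Set.range x)) →
      (∀ i : Fin l, Nonempty ((↥(CycDet.spanBefore R M x (i + 1)) ⧸
        (CycDet.spanBefore R M x i).submoduleOf (CycDet.spanBefore R M x (i + 1))) ≃ₗ[R]
          (R ⧸ q.asIdeal))) →
      (l : ℕ∞) = Module.length (Localization.AtPrime q.asIdeal)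
        (LocalizedModule q.asIdeal.primeCompl M) :=
  ⟨part1 q hq, fun l x h1 h2 => part2 q l x h1 h2⟩

end Groth.Agent.Lib.Helper26.GoodSeq
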