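import Mathlib
import Groth.Prelude.Def_GrLC

namespace Groth.Agent.Lib.Helper26.GrField

set_option linter.unusedSectionVars false
set_option maxHeartbeats 400000

open DirectSum

universe u

variable {R : Type u} [CommRing R] (𝒜 : ℤ → AddSubgroup R) [GradedRing 𝒜]
  {M : Type u} [AddCommGroup M] [Module R M] (ℳ : ℤ → AddSubgroup M)
  [DirectSum.Decomposition ℳ] [SetLike.GradedSMul 𝒜 ℳ]

/-- the degree `n` component -/
def proj (n : ℤ) (x : M) : M := (DirectSum.decompose ℳ x n : M)

lemma proj_zero (n : ℤ) : proj ℳ n 0 = 0 := by simp [proj]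

lemma proj_add (n : ℤ) (x y : M) : proj ℳ n (x + y) = proj ℳ n x + proj ℳ n y := by
  simp [proj, DirectSum.decompose_add]

lemma proj_sum {ι : Type*} (s : Finset ι) (f : ι → M) (n : ℤ) :
    proj ℳ n (∑ i ∈ s, f i) = ∑ i ∈ s, proj ℳ n (f i) := by
  classical
  induction s using Finset.induction_on with
  | empty => simp [proj_zero]
  | insert a s ha ih => rw [Finset.sum_insert ha, Finset.sum_insert ha, proj_add, ih]

lemma proj_of_mem_same {n : ℤ} {x : M} (hx : x ∈ ℳ n) : proj ℳ n x = x :=
  DirectSum.decompose_of_mem_same ℳ hx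

lemma proj_of_mem_ne {i n : ℤ} {x : M} (hx : x ∈ ℳ i) (h : i ≠ n) : proj ℳ n x = 0 :=
  DirectSum.decompose_of_mem_ne ℳ hx h

lemma proj_mem (n : ℤ) (x : M) : proj ℳ n x ∈ ℳ n := (DirectSum.decompose ℳ x n).2

lemma proj_smul_of_mem {k : ℤ} {r : R} (hr : r ∈ 𝒜 k) (n : ℤ) (x : M) :
    proj ℳ n (r • x) = r • proj ℳ (n - k) x := by
  classical
  have hx : x = ∑ j ∈ (DirectSum.decompose ℳ x).support, proj ℳ j x :=
    (DirectSum.sum_support_decompose ℳ x).symm
  conv_lhs => rw [hx, Finset.smul_sum, proj_sum]
  have hterm : ∀ j, proj ℳ n (r • proj ℳ j x) = if k + j = n then r • proj ℳ j x else 0 := by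
    intro j
    have hmem : r • proj ℳ j x ∈ ℳ (k + j) := by
      have := SetLike.GradedSMul.smul_mem hr (proj_mem ℳ j x)
      simpa using this
    split_ifs with h
    · rw [← h]; exact proj_of_mem_same ℳ hmem
    · exact proj_of_mem_ne ℳ hmem h
  simp only [hterm]
  rw [Finset.sum_ite, Finset.sum_const_zero, add_zero]
  by_cases hmem : n - k ∈ (DirectSum.decompose ℳ x).support
  · have : (DirectSum.decompose ℳ x).support.filter (fun j => k + j = n) = {n - k} := by
      ext j
      simp only [Finset.mem_filter, Finset.mem_singleton]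
      constructor
      · rintro ⟨_, h⟩; omega
      · rintro rfl; exact ⟨hmem, by omega⟩
    rw [this, Finset.sum_singleton]
  · have : (DirectSum.decompose ℳ x).support.filter (fun j => k + j = n) = ∅ := by
      ext j
      simp only [Finset.mem_filter, Finset.notMem_empty, iff_false, not_and]
      intro hj h
      apply hmem
      have : j = n - k := by omega
      rwa [← this]
    rw [this, Finset.sum_empty]
    have h0 : proj ℳ (n - k) x = 0 := by
      rw [DFinsupp.notMem_support_iff] at hmem
      rw [proj, hmem]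
      rfl
    rw [h0, smul_zero]

open Classical in
lemma proj_smul (r : R) (n : ℤ) (x : M) :
    proj ℳ n (r • x) = ∑ k ∈ (DirectSum.decompose 𝒜 r).support,
      (DirectSum.decompose 𝒜 r k : R) • proj ℳ (n - k) x := by
  classical
  have hr : r = ∑ k ∈ (DirectSum.decompose 𝒜 r).support, (DirectSum.decompose 𝒜 r k : R) :=
    (DirectSum.sum_support_decompose 𝒜 r).symm
  conv_lhs => rw [hr, Finset.sum_smul, proj_sum]
  refine Finset.sum_congr rfl fun k _ => ?_
  exact proj_smul_of_mem 𝒜 ℳ (DirectSum.decompose 𝒜 r k).2 n x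

include 𝒜 in
/-- the span of homogeneous elements is stable under projections -/
lemma proj_mem_span (H : Set M) (hH : ∀ x ∈ H, SetLike.IsHomogeneousElem ℳ x) (x : M)
    (hx : x ∈ Submodule.span R H) (n : ℤ) : proj ℳ n x ∈ Submodule.span R H := by
  induction hx using Submodule.span_induction generalizing n with
  | mem x hx =>
    obtain ⟨e, he⟩ := hH x hx
    by_cases h : e = n
    · rw [← h, proj_of_mem_same ℳ he]; exact Submodule.subset_span hx
    · rw [proj_of_mem_ne ℳ he h]; exact Submodule.zero_mem _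
  | zero => rw [proj_zero]; exact Submodule.zero_mem _
  | add x y _ _ hx hy => rw [proj_add]; exact Submodule.add_mem _ (hx n) (hy n)
  | smul r x _ hx =>
    rw [proj_smul 𝒜 ℳ]
    exact Submodule.sum_mem _ fun k _ => Submodule.smul_mem _ _ (hx _)

end Groth.Agent.Lib.Helper26.GrField
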