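import Mathlib
import Groth.Prelude.Def_GrLC
import Groth.Agent.Lib.Helper26.GrField

namespace Groth.Agent.Lib.Helper26.GrField

set_option linter.unusedSectionVars false
set_option maxHeartbeats 400000

open DirectSum

universe u

theorem main (R : Type u) [CommRing R]
    (𝒜 : ℤ → AddSubgroup R) [GradedRing 𝒜] (h0 : IsField (GrLC.deg0 𝒜))
    (d : ℤ) (T : Rˣ)
    (hA : ∀ (n : ℤ) (x : R), x ∈ 𝒜 n → x ≠ 0 →
      ∃ j : ℤ, ∃ a ∈ 𝒜 0, j * d = n ∧ x = a * ((T ^ j : Rˣ) : R))
    (M : Type u) [AddCommGroup M] [Module R M] (ℳ : ℤ → AddSubgroup M)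
    [DirectSum.Decomposition ℳ] [SetLike.GradedSMul 𝒜 ℳ] :
    ∃ (κ : Type u) (b : Module.Basis κ R M), ∀ i : κ, SetLike.IsHomogeneousElem ℳ (b i) := by
  classical
  -- nonzero homogeneous elements are units
  have hunit : ∀ (n : ℤ) (x : R), x ∈ 𝒜 n → x ≠ 0 → IsUnit x := by
    intro n x hx hx0
    obtain ⟨j, a, ha, -, rfl⟩ := hA n x hx hx0
    have ha0 : (⟨a, ha⟩ : GrLC.deg0 𝒜) ≠ 0 := by
      intro h
      apply hx0
      have : a = 0 := congrArg Subtype.val h
      rw [this, zero_mul]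
    obtain ⟨b, hb⟩ := h0.mul_inv_cancel ha0
    have hab : a * (b : R) = 1 := congrArg Subtype.val hb
    exact (IsUnit.of_mul_eq_one _ hab).mul (T ^ j).isUnit
  let ι := {m : M // SetLike.IsHomogeneousElem ℳ m}
  let v : ι → M := Subtype.val
  obtain ⟨s, hs, hmax⟩ := exists_maximal_linearIndepOn R v
  set H : Set M := v '' s with hH
  have hHhom : ∀ x ∈ H, SetLike.IsHomogeneousElem ℳ x := by
    rintro _ ⟨i, _, rfl⟩
    exact i.2
  -- every homogeneous element lies in the span
  have hhom : ∀ m : M, SetLike.IsHomogeneousElem ℳ m → m ∈ Submodule.span R H := by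
    intro m hm
    by_cases hms : (⟨m, hm⟩ : ι) ∈ s
    · exact Submodule.subset_span ⟨⟨m, hm⟩, hms, rfl⟩
    · obtain ⟨a, ha0, ha⟩ := hmax ⟨m, hm⟩ hms
      change a • m ∈ Submodule.span R H at ha
      obtain ⟨e, he⟩ := hm
      -- a nonzero component of a
      obtain ⟨k, hk⟩ : ∃ k, (DirectSum.decompose 𝒜 a k : R) ≠ 0 := by
        by_contra hcon
        push Not at hcon
        apply ha0
        rw [← DirectSum.sum_support_decompose 𝒜 a]
        exact Finset.sum_eq_zero fun k _ => hcon k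
      have h1 := proj_mem_span 𝒜 ℳ H hHhom _ ha (k + e)
      rw [proj_smul 𝒜 ℳ] at h1
      have h2 : ∑ k' ∈ (DirectSum.decompose 𝒜 a).support,
          (DirectSum.decompose 𝒜 a k' : R) • proj ℳ (k + e - k') m
          = (DirectSum.decompose 𝒜 a k : R) • m := by
        rw [Finset.sum_eq_single k]
        · rw [show k + e - k = e by ring, proj_of_mem_same ℳ he]
        · intro k' _ hk'
          rw [proj_of_mem_ne ℳ he (by omega), smul_zero]
        · intro hk'
          rw [DFinsupp.notMem_support_iff] at hk'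
          exact absurd (by rw [hk']; rfl) hk
      rw [h2] at h1
      obtain ⟨u, hu⟩ := hunit k _ (DirectSum.decompose 𝒜 a k).2 hk
      have : m = (↑u⁻¹ : R) • ((DirectSum.decompose 𝒜 a k : R) • m) := by
        rw [smul_smul, ← hu, Units.inv_mul, one_smul]
      rw [this]
      exact Submodule.smul_mem _ _ h1
  have htop : ⊤ ≤ Submodule.span R (Set.range fun i : s => v i) := by
    have hrange : Set.range (fun i : s => v i) = H := by
      ext x
      constructor
      · rintro ⟨i, rfl⟩; exact ⟨i.1, i.2, rfl⟩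
      · rintro ⟨i, hi, rfl⟩; exact ⟨⟨i, hi⟩, rfl⟩
    rw [hrange]
    intro x _
    rw [← DirectSum.sum_support_decompose ℳ x]
    exact Submodule.sum_mem _ fun n _ => hhom _ ⟨n, (DirectSum.decompose ℳ x n).2⟩
  refine ⟨↥s, Module.Basis.mk hs htop, fun i => ?_⟩
  rw [Module.Basis.mk_apply]
  exact i.1.2

end Groth.Agent.Lib.Helper26.GrField
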