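import Mathlib
set_option maxHeartbeats 400000
set_option autoImplicit false
universe u
open TensorProduct

/-! S13623: a graded algebra with finite components is generated in degree one if it is so
after base change to every algebraically closed field. -/
namespace Groth.Agent.Lib.Helper26.GradedDegOne

theorem ff_field (K L : Type*) [Field K] [Field L] [Algebra K L] : Module.FaithfullyFlat K L :=
  inferInstance

theorem nontrivial_field_tensor (K L V : Type*) [Field K] [Field L] [Algebra K L]
    [AddCommGroup V] [Module K V] [Nontrivial V] : Nontrivial (L ⊗[K] V) :=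
  Module.FaithfullyFlat.lTensor_nontrivial _ _ _

theorem subsingleton_of_algClosed (A : Type u) [CommRing A] (M : Type u) [AddCommGroup M]
    [Module A M] [Module.Finite A M]
    (h : ∀ (k : Type u) [Field k] [IsAlgClosed k] [Algebra A k], Subsingleton (k ⊗[A] M)) :
    Subsingleton M := by
  rw [← Module.support_eq_empty_iff (R := A)]
  by_contra hne
  obtain ⟨p, hp⟩ := Set.nonempty_iff_ne_empty.mpr hne
  rw [Module.mem_support_iff_nontrivial_residueField_tensorProduct] at hp
  have h1 := h (AlgebraicClosure p.asIdeal.ResidueField)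
  let e := TensorProduct.AlgebraTensorModule.cancelBaseChange A p.asIdeal.ResidueField
    (AlgebraicClosure p.asIdeal.ResidueField) (AlgebraicClosure p.asIdeal.ResidueField) M
  have hnt : Nontrivial ((AlgebraicClosure p.asIdeal.ResidueField) ⊗[p.asIdeal.ResidueField]
    (p.asIdeal.ResidueField ⊗[A] M)) := nontrivial_field_tensor _ _ _
  have hss := e.toEquiv.subsingleton
  exact not_subsingleton _ hss

section
variable (A : Type u) [CommRing A] (B : Type u) [CommRing B] [Algebra A B]
    (𝒜 : ℕ → Submodule A B) [GradedAlgebra 𝒜]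

/-- projection onto degree `m` as a linear map into the component -/
noncomputable def pr (m : ℕ) : B →ₗ[A] 𝒜 m :=
  (DirectSum.component A ℕ (fun i => 𝒜 i) m) ∘ₗ (DirectSum.decomposeLinearEquiv 𝒜).toLinearMap

theorem pr_apply (m : ℕ) (b : B) : pr A B 𝒜 m b = DirectSum.decompose 𝒜 b m := rfl

theorem closure_homog (x : B) (hx : x ∈ Submonoid.closure (𝒜 1 : Set B)) : ∃ r, x ∈ 𝒜 r := by
  induction hx using Submonoid.closure_induction with
  | mem x hx => exact ⟨1, hx⟩
  | one => exact ⟨0, SetLike.GradedOne.one_mem⟩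
  | mul x y _ _ hx hy =>
    obtain ⟨r, hr⟩ := hx
    obtain ⟨s, hs⟩ := hy
    exact ⟨r + s, SetLike.GradedMul.mul_mem hr hs⟩

theorem pr_mem (s : B) (hs : s ∈ Algebra.adjoin A (𝒜 1 : Set B)) (m : ℕ) :
    (pr A B 𝒜 m s : B) ∈ Algebra.adjoin A (𝒜 1 : Set B) := by
  have hs' : s ∈ (Algebra.adjoin A (𝒜 1 : Set B)).toSubmodule := hs
  rw [Algebra.adjoin_eq_span] at hs'
  clear hs
  induction hs' using Submodule.span_induction with
  | mem x hx =>
    obtain ⟨r, hr⟩ := closure_homog A B 𝒜 x hx
    have hxS : x ∈ Algebra.adjoin A (𝒜 1 : Set B) := by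
      have : x ∈ (Algebra.adjoin A (𝒜 1 : Set B)).toSubmodule := by
        rw [Algebra.adjoin_eq_span]; exact Submodule.subset_span hx
      exact this
    by_cases hrm : r = m
    · subst hrm
      rw [pr_apply, DirectSum.decompose_of_mem_same 𝒜 hr]
      exact hxS
    · rw [pr_apply, DirectSum.decompose_of_mem_ne 𝒜 hr hrm]
      exact Subalgebra.zero_mem _
  | zero => simp
  | add x y _ _ hx hy => rw [map_add]; exact Subalgebra.add_mem _ hx hy
  | smul a x _ hx => rw [map_smul]; exact Subalgebra.smul_mem _ hx a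

theorem comp_le (hfin : ∀ m : ℕ, Module.Finite A (𝒜 m))
    (hgen : ∀ (k : Type u) [Field k] [IsAlgClosed k] [Algebra A k],
      Algebra.adjoin k ((Algebra.TensorProduct.includeRight : B →ₐ[A] k ⊗[A] B) '' (𝒜 1 : Set B)) = ⊤)
    (m : ℕ) : 𝒜 m ≤ (Algebra.adjoin A (𝒜 1 : Set B)).toSubmodule := by
  let Nm : Submodule A (𝒜 m) := (Algebra.adjoin A (𝒜 1 : Set B)).toSubmodule.comap (𝒜 m).subtype
  let φ : B →ₗ[A] (𝒜 m ⧸ Nm) := Nm.mkQ ∘ₗ pr A B 𝒜 m
  have hφS : ∀ s ∈ Algebra.adjoin A (𝒜 1 : Set B), φ s = 0 := by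
    intro s hs
    simp only [φ, LinearMap.comp_apply, Submodule.mkQ_apply, Submodule.Quotient.mk_eq_zero]
    exact pr_mem A B 𝒜 s hs m
  have hφsurj : Function.Surjective φ := by
    intro q
    obtain ⟨⟨x, hx⟩, rfl⟩ := Nm.mkQ_surjective q
    refine ⟨x, ?_⟩
    simp only [φ, LinearMap.comp_apply]
    congr 1
    apply Subtype.ext
    rw [pr_apply, DirectSum.decompose_of_mem_same 𝒜 hx]
  haveI := hfin m
  have hsub : Subsingleton (𝒜 m ⧸ Nm) := by
    apply subsingleton_of_algClosed A
    intro k _ _ _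
    have hk := hgen k
    let ψ : k ⊗[A] B →ₗ[k] k ⊗[A] (𝒜 m ⧸ Nm) := φ.baseChange k
    have hψsurj : Function.Surjective ψ := by
      have := LinearMap.lTensor_surjective k hφsurj
      intro y
      obtain ⟨x, hx⟩ := this y
      exact ⟨x, hx⟩
    have hψ0 : ∀ z, ψ z = 0 := by
      intro z
      have hz : z ∈ (Algebra.adjoin k ((Algebra.TensorProduct.includeRight : B →ₐ[A] k ⊗[A] B) ''
          (𝒜 1 : Set B))).toSubmodule := by
        rw [hk]; trivial
      rw [Algebra.adjoin_eq_span] at hz
      induction hz using Submodule.span_induction with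
      | mem y hy =>
        have hcl : Submonoid.closure ((Algebra.TensorProduct.includeRight : B →ₐ[A] k ⊗[A] B) ''
            (𝒜 1 : Set B)) = (Submonoid.closure (𝒜 1 : Set B)).map
              ((Algebra.TensorProduct.includeRight : B →ₐ[A] k ⊗[A] B) : B →* k ⊗[A] B) :=
          (MonoidHom.map_mclosure _ _).symm
        rw [hcl] at hy
        obtain ⟨s, hs, rfl⟩ := hy
        have hsS : s ∈ Algebra.adjoin A (𝒜 1 : Set B) := by
          have : s ∈ (Algebra.adjoin A (𝒜 1 : Set B)).toSubmodule := by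
            rw [Algebra.adjoin_eq_span]; exact Submodule.subset_span hs
          exact this
        change ψ ((1 : k) ⊗ₜ[A] s) = 0
        simp only [ψ, LinearMap.baseChange_tmul, hφS s hsS, TensorProduct.tmul_zero]
      | zero => simp
      | add x y _ _ hx hy => rw [map_add, hx, hy, add_zero]
      | smul a x _ hx => rw [map_smul, hx, smul_zero]
    constructor
    intro a b
    obtain ⟨a', rfl⟩ := hψsurj a
    obtain ⟨b', rfl⟩ := hψsurj b
    rw [hψ0, hψ0]
  rw [Submodule.Quotient.subsingleton_iff] at hsub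
  intro x hx
  have : (⟨x, hx⟩ : 𝒜 m) ∈ Nm := by rw [hsub]; trivial
  exact this

theorem main (hfin : ∀ m : ℕ, Module.Finite A (𝒜 m))
    (hgen : ∀ (k : Type u) [Field k] [IsAlgClosed k] [Algebra A k],
      Algebra.adjoin k ((Algebra.TensorProduct.includeRight : B →ₐ[A] k ⊗[A] B) '' (𝒜 1 : Set B)) = ⊤) :
    Algebra.adjoin A (𝒜 1 : Set B) = ⊤ := by
  rw [eq_top_iff]
  intro b _
  classical
  rw [← DirectSum.sum_support_decompose 𝒜 b]
  refine Subalgebra.sum_mem _ ?_
  intro i _
  exact comp_le A B 𝒜 hfin hgen i (DirectSum.decompose 𝒜 b i).2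

end
end Groth.Agent.Lib.Helper26.GradedDegOne
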