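import Mathlib
set_option maxHeartbeats 400000
universe u v
namespace Groth.Agent.Lib.Helper26.GradedGen
open HomogeneousLocalization

variable {R : Type u} {A : Type v} [CommRing R] [CommRing A] [Algebra R A]
    (𝒜 : ℕ → Submodule R A) [GradedAlgebra 𝒜]

/-- basic computation in the localization -/
lemma mk_eq_of_mul_eq {τ : A} (a b : A) (m n : ℕ) (h : a * τ ^ n = b * τ ^ m) :
    (Localization.mk a (⟨τ ^ m, ⟨m, rfl⟩⟩ : Submonoid.powers τ) : Localization (Submonoid.powers τ)) =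
      Localization.mk b (⟨τ ^ n, ⟨n, rfl⟩⟩ : Submonoid.powers τ) := by
  rw [Localization.mk_eq_mk_iff, Localization.r_iff_exists]
  refine ⟨1, ?_⟩
  simp only [OneMemClass.coe_one, one_mul]
  rw [mul_comm, h, mul_comm]

variable {τ : A} {s : ℕ} (hτ : τ ∈ 𝒜 s)

/-- the generator f/τ -/
noncomputable def gen (f : A) (hf : f ∈ 𝒜 s) : Away 𝒜 τ :=
  Away.mk 𝒜 hτ 1 f (by simpa using hf)

lemma val_gen (f : A) (hf : f ∈ 𝒜 s) :
    (gen 𝒜 hτ f hf).val = Localization.mk f ⟨τ, Submonoid.mem_powers _⟩ := by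
  unfold gen
  rw [Away.val_mk]
  congr 1
  exact Subtype.ext (pow_one τ)

lemma mul_gen_pow_eq (z z' : Away 𝒜 τ) (m n N : ℕ) (a b f : A) (hf : f ∈ 𝒜 s)
    (hz : z.val = Localization.mk a (⟨τ ^ m, ⟨m, rfl⟩⟩ : Submonoid.powers τ))
    (hz' : z'.val = Localization.mk b (⟨τ ^ N, ⟨N, rfl⟩⟩ : Submonoid.powers τ))
    (h : a * f ^ n * τ ^ N = b * τ ^ (m + n)) :
    z * (gen 𝒜 hτ f hf) ^ n = z' := by
  apply HomogeneousLocalization.val_injective
  rw [val_mul, val_pow, val_gen, hz, hz', Localization.mk_pow, Localization.mk_mul]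
  have : (⟨τ ^ m, ⟨m, rfl⟩⟩ : Submonoid.powers τ) * (⟨τ, Submonoid.mem_powers _⟩ : Submonoid.powers τ) ^ n
      = ⟨τ ^ (m + n), ⟨m + n, rfl⟩⟩ := by
    apply Subtype.ext
    simp [pow_add]
  rw [this]
  exact mk_eq_of_mul_eq _ _ _ _ h


omit [GradedAlgebra 𝒜] in
lemma prod_val_eq_one {n : ℕ} (σ : Fin n → A) (K : Fin n → ℕ) (s : ℕ) (hK : ∑ i, K i = s)
    (τ : A) (hτdef : τ = ∏ i, σ i ^ K i) :
    ∏ j, (Localization.mk (σ j ^ s) (⟨τ, Submonoid.mem_powers _⟩ :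
      Submonoid.powers τ) : Localization (Submonoid.powers τ)) ^ K j
      = 1 := by
  set L := Localization (Submonoid.powers τ)
  set tinv : L := Localization.mk 1 (⟨τ, Submonoid.mem_powers _⟩ : Submonoid.powers τ) with htinv
  have h1 : ∀ a : A, (Localization.mk a (⟨τ, Submonoid.mem_powers _⟩ : Submonoid.powers τ) : L)
      = algebraMap A L a * tinv := by
    intro a
    rw [← Localization.mk_one_eq_algebraMap, htinv, Localization.mk_mul, one_mul, mul_one]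
  have h2 : algebraMap A L τ * tinv = 1 := by
    rw [← h1]
    exact Localization.mk_self (⟨τ, Submonoid.mem_powers _⟩ : Submonoid.powers τ)
  simp_rw [h1, mul_pow]
  rw [Finset.prod_mul_distrib, Finset.prod_pow_eq_pow_sum, hK]
  have h3 : ∏ j, (algebraMap A L (σ j ^ s)) ^ K j = (algebraMap A L τ) ^ s := by
    have h4 : algebraMap A L τ = ∏ i, algebraMap A L (σ i ^ K i) := by
      rw [← map_prod, ← hτdef]
    rw [h4, ← Finset.prod_pow]
    refine Finset.prod_congr rfl (fun j _ => ?_)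
    rw [map_pow, map_pow, ← pow_mul, ← pow_mul, mul_comm]
  rw [h3, ← mul_pow, h2, one_pow]


theorem main' {n : ℕ} (σ : Fin n → A) (hσ : ∀ i, σ i ∈ 𝒜 1) {s : ℕ} (hs : 0 < s)
    (hgen : ∀ i, Algebra.adjoin (𝒜 0)
      {z : HomogeneousLocalization.Away 𝒜 (σ i) |
        ∃ f ∈ 𝒜 s, z.val = Localization.mk f ⟨σ i ^ s, Submonoid.pow_mem _ (Submonoid.mem_powers (σ i)) s⟩} = ⊤)
    (K : Fin n → ℕ) (hK : ∑ i, K i = s) (τ : A) (hτeq : τ = ∏ i, σ i ^ K i) :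
    Algebra.adjoin (𝒜 0)
      {z : HomogeneousLocalization.Away 𝒜 τ |
        ∃ f ∈ 𝒜 s, z.val = Localization.mk f ⟨τ, Submonoid.mem_powers _⟩} = ⊤ := by
  classical
  have hτ : τ ∈ 𝒜 s := by
    rw [hτeq]
    have := SetLike.prod_pow_mem_graded 𝒜 (fun _ : Fin n => 1) σ K (F := Finset.univ)
      (fun k _ => hσ k)
    simpa [hK] using this
  set T := Algebra.adjoin (𝒜 0) {z : Away 𝒜 τ |
    ∃ f ∈ 𝒜 s, z.val = Localization.mk f ⟨τ, Submonoid.mem_powers _⟩} with hT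
  have hgenT : ∀ f (hf : f ∈ 𝒜 s), gen 𝒜 hτ f hf ∈ T :=
    fun f hf => Algebra.subset_adjoin ⟨f, hf, val_gen 𝒜 hτ f hf⟩
  have hσs : ∀ j, σ j ^ s ∈ 𝒜 s := fun j => by simpa using SetLike.pow_mem_graded s (hσ j)
  let u : Fin n → Away 𝒜 τ := fun j => gen 𝒜 hτ (σ j ^ s) (hσs j)
  have huT : ∀ j, u j ∈ T := fun j => hgenT _ _
  have hprod : ∏ j, u j ^ K j = 1 := by
    apply HomogeneousLocalization.val_injective
    rw [val_one]
    have : (∏ j, u j ^ K j).val = ∏ j, (u j).val ^ K j := by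
      rw [← HomogeneousLocalization.algebraMap_apply, map_prod]
      refine Finset.prod_congr rfl (fun j _ => ?_)
      rw [HomogeneousLocalization.algebraMap_apply, val_pow]
    rw [this]
    simp_rw [u, val_gen]
    exact prod_val_eq_one σ K s hK τ hτeq
  obtain ⟨i₀, hi₀⟩ : ∃ i₀, 0 < K i₀ := by
    by_contra h
    push Not at h
    have : ∑ i, K i = 0 := Finset.sum_eq_zero (fun i _ => by have := h i; omega)
    omega
  obtain ⟨w, hwT, huw⟩ : ∃ w ∈ T, u i₀ * w = 1 := by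
    refine ⟨u i₀ ^ (K i₀ - 1) * ∏ j ∈ Finset.univ.erase i₀, u j ^ K j, ?_, ?_⟩
    · exact T.mul_mem (T.pow_mem (huT i₀) _) (T.prod_mem (fun j _ => T.pow_mem (huT j) _))
    · rw [← mul_assoc, ← pow_succ', Nat.sub_add_cancel hi₀,
        Finset.mul_prod_erase _ (fun j => u j ^ K j) (Finset.mem_univ i₀)]
      exact hprod
  obtain ⟨g, hgdef⟩ : ∃ g : A, g = σ i₀ ^ (K i₀ - 1) * ∏ j ∈ Finset.univ.erase i₀, σ j ^ K j :=
    ⟨_, rfl⟩
  have hx : τ = σ i₀ * g := by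
    rw [hτeq, hgdef, ← mul_assoc, ← pow_succ', Nat.sub_add_cancel hi₀,
      Finset.mul_prod_erase _ (fun j => σ j ^ K j) (Finset.mem_univ i₀)]
  have hg : g ∈ 𝒜 (s - 1) := by
    have h1 : σ i₀ ^ (K i₀ - 1) ∈ 𝒜 ((K i₀ - 1) • 1) := SetLike.pow_mem_graded _ (hσ i₀)
    have h2 := SetLike.prod_pow_mem_graded 𝒜 (fun _ : Fin n => 1) σ K
      (F := Finset.univ.erase i₀) (fun k _ => hσ k)
    have h3 := SetLike.mul_mem_graded h1 h2
    have h4 : (K i₀ - 1) • 1 + ∑ k ∈ Finset.univ.erase i₀, K k • 1 = s - 1 := by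
      have := Finset.add_sum_erase Finset.univ K (Finset.mem_univ i₀)
      simp only [smul_eq_mul, mul_one]
      omega
    rw [hgdef]
    rwa [h4] at h3
  let φ : Away 𝒜 (σ i₀) →ₐ[𝒜 0] Away 𝒜 τ := awayMapₐ 𝒜 hg hx
  have hφval : ∀ (N : ℕ) (a : A) (ha : a ∈ 𝒜 (N • 1)),
      (φ (Away.mk 𝒜 (hσ i₀) N a ha)).val =
        Localization.mk (a * g ^ N) (⟨τ ^ N, ⟨N, rfl⟩⟩ : Submonoid.powers τ) := by
    intro N a ha
    change (awayMap 𝒜 hg hx (Away.mk 𝒜 (hσ i₀) N a ha)).val = _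
    rw [awayMap_mk, Away.val_mk]
  have hφT : ∀ y, φ y ∈ T := by
    intro y
    have hy : y ∈ Algebra.adjoin (𝒜 0) {z : Away 𝒜 (σ i₀) |
        ∃ f ∈ 𝒜 s, z.val = Localization.mk f ⟨σ i₀ ^ s,
          Submonoid.pow_mem _ (Submonoid.mem_powers (σ i₀)) s⟩} := by
      rw [hgen i₀]; trivial
    induction hy using Algebra.adjoin_induction with
    | mem z hz =>
      obtain ⟨f, hf, hzf⟩ := hz
      have hf' : f ∈ 𝒜 (s • 1) := by simpa using hf
      have hz' : z = Away.mk 𝒜 (hσ i₀) s f hf' := by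
        apply HomogeneousLocalization.val_injective
        rw [hzf, Away.val_mk]
      have key : φ z * (u i₀) ^ 1 = gen 𝒜 hτ f hf := by
        refine mul_gen_pow_eq 𝒜 hτ _ _ s 1 1 (f * g ^ s) f (σ i₀ ^ s) (hσs i₀) ?_ ?_ ?_
        · rw [hz', hφval]
        · unfold gen; rw [Away.val_mk]
        · rw [hx]; ring
      rw [pow_one] at key
      have : φ z = gen 𝒜 hτ f hf * w := by
        calc φ z = φ z * (u i₀ * w) := by rw [huw, mul_one]
          _ = (φ z * u i₀) * w := by ring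
          _ = _ := by rw [key]
      rw [this]
      exact T.mul_mem (hgenT f hf) hwT
    | algebraMap r => rw [AlgHom.commutes]; exact T.algebraMap_mem r
    | add a b _ _ ha hb => rw [map_add]; exact T.add_mem ha hb
    | mul a b _ _ ha hb => rw [map_mul]; exact T.mul_mem ha hb
  rw [eq_top_iff]
  intro z _
  obtain ⟨m, a, ha, rfl⟩ := Away.mk_surjective 𝒜 hτ z
  have ha' : a ∈ 𝒜 ((m * s) • 1) := by simpa using ha
  have : φ (Away.mk 𝒜 (hσ i₀) (m * s) a ha') * u i₀ ^ m = Away.mk 𝒜 hτ m a ha := by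
    refine mul_gen_pow_eq 𝒜 hτ _ _ (m * s) m m (a * g ^ (m * s)) a (σ i₀ ^ s) (hσs i₀) ?_ ?_ ?_
    · rw [hφval]
    · rw [Away.val_mk]
    · rw [hx]; ring
  rw [← this]
  exact T.mul_mem (hφT _) (T.pow_mem (huT _) _)

theorem main {n : ℕ} (σ : Fin n → A) (hσ : ∀ i, σ i ∈ 𝒜 1) {s : ℕ} (hs : 0 < s)
    (hgen : ∀ i, Algebra.adjoin (𝒜 0)
      {z : HomogeneousLocalization.Away 𝒜 (σ i) |
        ∃ f ∈ 𝒜 s, z.val = Localization.mk f ⟨σ i ^ s, Submonoid.pow_mem _ (Submonoid.mem_powers (σ i)) s⟩} = ⊤)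
    (K : Fin n → ℕ) (hK : ∑ i, K i = s) :
    Algebra.adjoin (𝒜 0)
      {z : HomogeneousLocalization.Away 𝒜 (∏ i, σ i ^ K i) |
        ∃ f ∈ 𝒜 s, z.val = Localization.mk f ⟨∏ i, σ i ^ K i, Submonoid.mem_powers _⟩} = ⊤ :=
  main' 𝒜 σ hσ hs hgen K hK _ rfl

end Groth.Agent.Lib.Helper26.GradedGen
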