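import Mathlib.RingTheory.GradedAlgebra.Homogeneous.Ideal
import Mathlib.RingTheory.Ideal.Cotangent
import Mathlib.RingTheory.FiniteType
import Mathlib.Algebra.MvPolynomial.Equiv
import Mathlib.LinearAlgebra.Dimension.Finrank
import Mathlib.RingTheory.Adjoin.Basic

/-!
Graded sections of the conormal module of the irrelevant ideal of an `ℕ`-graded algebra.
-/

set_option autoImplicit false
universe u

namespace Groth.Agent.Lib.Helper26.GradedSection

open DirectSum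

variable {A B : Type u} [CommRing A] [CommRing B] [Algebra A B]
variable (𝒜 : ℕ → Submodule A B) [GradedAlgebra 𝒜]

local notation "Pr" => GradedAlgebra.proj 𝒜
local notation "Bp" => HomogeneousIdeal.toIdeal (HomogeneousIdeal.irrelevant 𝒜)

theorem proj_mem (d : ℕ) (x : B) : Pr d x ∈ 𝒜 d := by
  rw [GradedAlgebra.proj_apply]; exact SetLike.coe_mem _

theorem proj_of_mem {d : ℕ} {x : B} (hx : x ∈ 𝒜 d) (e : ℕ) :
    Pr e x = if e = d then x else 0 := by
  rw [GradedAlgebra.proj_apply]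
  split_ifs with h
  · subst h; exact DirectSum.decompose_of_mem_same 𝒜 hx
  · exact DirectSum.decompose_of_mem_ne 𝒜 hx (Ne.symm h)

theorem proj_proj (d e : ℕ) (x : B) : Pr e (Pr d x) = if e = d then Pr d x else 0 :=
  proj_of_mem 𝒜 (proj_mem 𝒜 d x) e

theorem mem_Bp_iff (x : B) : x ∈ Bp ↔ Pr 0 x = 0 := by
  exact (HomogeneousIdeal.mem_irrelevant_iff 𝒜 x)

theorem proj_mem_Bp {x : B} (hx : x ∈ Bp) (d : ℕ) : Pr d x ∈ Bp :=
  (HomogeneousIdeal.irrelevant 𝒜).isHomogeneous d hx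

theorem proj_mem_Bp_sq {x : B} (hx : x ∈ Bp ^ 2) (d : ℕ) : Pr d x ∈ Bp ^ 2 := by
  have h : (Bp ^ 2).IsHomogeneous 𝒜 := by
    rw [pow_two]
    exact Ideal.IsHomogeneous.mul (HomogeneousIdeal.irrelevant 𝒜).isHomogeneous
      (HomogeneousIdeal.irrelevant 𝒜).isHomogeneous
  exact h d hx

theorem exists_bound (x : B) : ∃ D : ℕ, ∀ d, D ≤ d → Pr d x = 0 := by
  classical
  refine ⟨(DirectSum.decompose 𝒜 x).support.sup id + 1, fun d hd => ?_⟩
  rw [GradedAlgebra.proj_apply]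
  by_contra h
  have : d ∈ (DirectSum.decompose 𝒜 x).support := by
    rw [DFinsupp.mem_support_iff]
    intro h'
    exact h (by rw [h']; rfl)
  have := Finset.le_sup (f := id) this
  simp only [id] at this
  omega

theorem sum_proj {x : B} {D : ℕ} (hD : ∀ d, D ≤ d → Pr d x = 0) :
    ∑ d ∈ Finset.range D, Pr d x = x := by
  classical
  conv_rhs => rw [← DirectSum.sum_support_decompose 𝒜 x]
  symm
  apply Finset.sum_subset
  · intro d hd
    rw [Finset.mem_range]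
    by_contra h
    rw [DFinsupp.mem_support_iff] at hd
    apply hd
    have := hD d (by omega)
    rw [GradedAlgebra.proj_apply] at this
    exact Subtype.ext this
  · intro d _ hd
    rw [DFinsupp.mem_support_iff, not_not] at hd
    rw [hd]; rfl

theorem sub_proj_zero_mem (x : B) : x - Pr 0 x ∈ Bp := by
  rw [mem_Bp_iff, map_sub, proj_proj, if_pos rfl, sub_self]

/-- The conormal projection extended to all of `B` by killing degree zero. -/
noncomputable def piB : B →ₗ[A] (Bp).Cotangent where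
  toFun x := (Bp).toCotangent ⟨x - Pr 0 x, sub_proj_zero_mem 𝒜 x⟩
  map_add' x y := by
    rw [← map_add]
    congr 1
    apply Subtype.ext
    simp only [map_add, Submodule.coe_add]
    ring
  map_smul' a x := by
    simp only [RingHom.id_apply]
    rw [← LinearMap.map_smul_of_tower]
    congr 1
    apply Subtype.ext
    simp only [map_smul, Submodule.coe_smul_of_tower, smul_sub]

theorem piB_of_mem {x : B} (hx : x ∈ Bp) : piB 𝒜 x = (Bp).toCotangent ⟨x, hx⟩ := by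
  unfold piB
  simp only [LinearMap.coe_mk, AddHom.coe_mk]
  congr 1
  apply Subtype.ext
  simp only
  rw [(mem_Bp_iff 𝒜 x).mp hx, sub_zero]

theorem piB_eq_zero_iff {x : B} (hx : x ∈ Bp) : piB 𝒜 x = 0 ↔ x ∈ Bp ^ 2 := by
  rw [piB_of_mem 𝒜 hx, Ideal.toCotangent_eq_zero]

theorem piB_of_mem_sq {x : B} (hx : x ∈ Bp ^ 2) : piB 𝒜 x = 0 :=
  (piB_eq_zero_iff 𝒜 (Ideal.pow_le_self two_ne_zero hx)).mpr hx

theorem piB_surjective : Function.Surjective (piB 𝒜) := by
  intro n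
  obtain ⟨x, rfl⟩ := Ideal.toCotangent_surjective _ n
  exact ⟨x, piB_of_mem 𝒜 x.2⟩

section Construction

variable {r : ℕ}
  (bas : Module.Basis (Fin r) A (HomogeneousIdeal.toIdeal (HomogeneousIdeal.irrelevant 𝒜)).Cotangent)
  (yt : Fin r → B)

/-- A (non-graded) section of the conormal projection. -/
noncomputable def s0 : (Bp).Cotangent →ₗ[A] B := bas.constr A yt

theorem s0_apply (n : (Bp).Cotangent) : s0 𝒜 bas yt n = ∑ i, (bas.repr n) i • yt i :=
  Module.Basis.constr_apply_fintype ..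

variable (hyt : ∀ i, yt i ∈ HomogeneousIdeal.toIdeal (HomogeneousIdeal.irrelevant 𝒜))
  (hπ : ∀ i, piB 𝒜 (yt i) = bas i)

include hyt in
theorem s0_mem (n : (Bp).Cotangent) : s0 𝒜 bas yt n ∈ Bp := by
  rw [s0_apply]
  refine Ideal.sum_mem _ fun i _ => ?_
  rw [Algebra.smul_def]
  exact Ideal.mul_mem_left _ _ (hyt i)

include hπ in
theorem piB_s0 (n : (Bp).Cotangent) : piB 𝒜 (s0 𝒜 bas yt n) = n := by
  rw [s0_apply, map_sum]
  simp only [map_smul, hπ]
  exact bas.sum_repr n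

include hyt hπ in
theorem sub_s0_mem_sq {b : B} (hb : b ∈ Bp) : b - s0 𝒜 bas yt (piB 𝒜 b) ∈ Bp ^ 2 := by
  rw [← piB_eq_zero_iff 𝒜 (Ideal.sub_mem _ hb (s0_mem 𝒜 bas yt hyt _)), map_sub,
    piB_s0 𝒜 bas yt hπ, sub_self]

/-- The graded projections induced on the conormal module. -/
noncomputable def pbar (d : ℕ) : (Bp).Cotangent →ₗ[A] (Bp).Cotangent :=
  piB 𝒜 ∘ₗ Pr d ∘ₗ s0 𝒜 bas yt

include hyt hπ in
theorem pbar_piB {b : B} (hb : b ∈ Bp) (d : ℕ) :
    pbar 𝒜 bas yt d (piB 𝒜 b) = piB 𝒜 (Pr d b) := by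
  have h := proj_mem_Bp_sq 𝒜 (sub_s0_mem_sq 𝒜 bas yt hyt hπ hb) d
  have h2 := piB_of_mem_sq 𝒜 h
  rw [map_sub, map_sub, sub_eq_zero] at h2
  exact h2.symm

include hyt hπ in
theorem pbar_pbar (d e : ℕ) (n : (Bp).Cotangent) :
    pbar 𝒜 bas yt e (pbar 𝒜 bas yt d n) = if e = d then pbar 𝒜 bas yt d n else 0 := by
  have h1 : pbar 𝒜 bas yt d n = piB 𝒜 (Pr d (s0 𝒜 bas yt n)) := rfl
  rw [h1, pbar_piB 𝒜 bas yt hyt hπ (proj_mem_Bp 𝒜 (s0_mem 𝒜 bas yt hyt n) d), proj_proj]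
  split_ifs
  · rfl
  · exact map_zero _

variable {D : ℕ} (hD : ∀ i d, D ≤ d → GradedAlgebra.proj 𝒜 d (yt i) = 0)

include hD in
theorem proj_s0_of_le (n : (Bp).Cotangent) {d : ℕ} (hd : D ≤ d) : Pr d (s0 𝒜 bas yt n) = 0 := by
  rw [s0_apply, map_sum]
  refine Finset.sum_eq_zero fun i _ => ?_
  rw [map_smul, hD i d hd, smul_zero]

include hπ hD in
theorem sum_pbar (n : (Bp).Cotangent) : ∑ d ∈ Finset.range D, pbar 𝒜 bas yt d n = n := by
  have h1 : ∀ d, pbar 𝒜 bas yt d n = piB 𝒜 (Pr d (s0 𝒜 bas yt n)) := fun _ => rfl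
  simp only [h1]
  rw [← map_sum, sum_proj 𝒜 (fun d hd => proj_s0_of_le 𝒜 bas yt hD n hd), piB_s0 𝒜 bas yt hπ]

/-- The graded section. -/
noncomputable def sec (D : ℕ) : (Bp).Cotangent →ₗ[A] B :=
  ∑ d ∈ Finset.range D, Pr d ∘ₗ s0 𝒜 bas yt ∘ₗ pbar 𝒜 bas yt d

theorem sec_apply (D : ℕ) (n : (Bp).Cotangent) :
    sec 𝒜 bas yt D n = ∑ d ∈ Finset.range D, Pr d (s0 𝒜 bas yt (pbar 𝒜 bas yt d n)) := by
  simp only [sec, LinearMap.sum_apply, LinearMap.comp_apply]

include hyt in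
theorem sec_mem (D : ℕ) (n : (Bp).Cotangent) : sec 𝒜 bas yt D n ∈ Bp := by
  rw [sec_apply]
  exact Ideal.sum_mem _ fun d _ => proj_mem_Bp 𝒜 (s0_mem 𝒜 bas yt hyt _) d

include hyt hπ hD in
theorem piB_sec (n : (Bp).Cotangent) : piB 𝒜 (sec 𝒜 bas yt D n) = n := by
  rw [sec_apply, map_sum]
  have h1 : ∀ d, piB 𝒜 (Pr d (s0 𝒜 bas yt (pbar 𝒜 bas yt d n))) = pbar 𝒜 bas yt d n := by
    intro d
    have : piB 𝒜 (Pr d (s0 𝒜 bas yt (pbar 𝒜 bas yt d n)))
        = pbar 𝒜 bas yt d (pbar 𝒜 bas yt d n) := rfl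
    rw [this, pbar_pbar 𝒜 bas yt hyt hπ, if_pos rfl]
  simp only [h1]
  exact sum_pbar 𝒜 bas yt hπ hD n

include hyt hπ in
theorem proj_sec (e : ℕ) (n : (Bp).Cotangent) :
    Pr e (sec 𝒜 bas yt D n) = sec 𝒜 bas yt D (pbar 𝒜 bas yt e n) := by
  rw [sec_apply, sec_apply, map_sum]
  simp only [proj_proj, pbar_pbar 𝒜 bas yt hyt hπ]
  by_cases he : e < D
  · rw [Finset.sum_eq_single_of_mem e (Finset.mem_range.mpr he),
      Finset.sum_eq_single_of_mem e (Finset.mem_range.mpr he)]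
    · rw [if_pos rfl, if_pos rfl]
    · intro d _ hd
      rw [if_neg hd]; simp only [map_zero]
    · intro d _ hd
      rw [if_neg (Ne.symm hd)]
  · rw [Finset.sum_eq_zero, Finset.sum_eq_zero]
    · intro d hd
      have : d ≠ e := by rw [Finset.mem_range] at hd; omega
      rw [if_neg this]; simp only [map_zero]
    · intro d hd
      have : e ≠ d := by rw [Finset.mem_range] at hd; omega
      rw [if_neg this]

end Construction

theorem proj_sq_mem_of_lt (C : Subalgebra A B) (d : ℕ)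
    (IH : ∀ e, e < d → ∀ b ∈ 𝒜 e, b ∈ C) {x : B} (hx : x ∈ Bp ^ 2) : Pr d x ∈ C := by
  rw [pow_two] at hx
  refine Submodule.mul_induction_on hx ?_ ?_
  · intro u hu v hv
    obtain ⟨Du, hDu⟩ := exists_bound 𝒜 u
    obtain ⟨Dv, hDv⟩ := exists_bound 𝒜 v
    have hu0 : Pr 0 u = 0 := (mem_Bp_iff 𝒜 u).mp hu
    have hv0 : Pr 0 v = 0 := (mem_Bp_iff 𝒜 v).mp hv
    have : u * v = ∑ e ∈ Finset.range Du, ∑ f ∈ Finset.range Dv, Pr e u * Pr f v := by
      rw [← Finset.sum_mul_sum, sum_proj 𝒜 hDu, sum_proj 𝒜 hDv]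
    rw [this, map_sum]
    refine Subalgebra.sum_mem _ fun e _ => ?_
    rw [map_sum]
    refine Subalgebra.sum_mem _ fun f _ => ?_
    have hmem : Pr e u * Pr f v ∈ 𝒜 (e + f) :=
      SetLike.mul_mem_graded (proj_mem 𝒜 e u) (proj_mem 𝒜 f v)
    rw [proj_of_mem 𝒜 hmem]
    split_ifs with h
    · by_cases he : e = 0
      · subst he; rw [hu0, zero_mul]; exact Subalgebra.zero_mem _
      by_cases hf : f = 0
      · subst hf; rw [hv0, mul_zero]; exact Subalgebra.zero_mem _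
      exact Subalgebra.mul_mem _ (IH e (by omega) _ (proj_mem 𝒜 e u))
        (IH f (by omega) _ (proj_mem 𝒜 f v))
    · exact Subalgebra.zero_mem _
  · intro x y hx hy
    rw [map_add]
    exact Subalgebra.add_mem _ hx hy

theorem exists_gens (h0 : ∀ b : B, b ∈ 𝒜 0 → b ∈ Set.range (algebraMap A B)) {r : ℕ}
    (bas : Module.Basis (Fin r) A (Bp).Cotangent) :
    ∃ y : Fin r → B, (∀ i, y i ∈ Bp) ∧ (∀ i, piB 𝒜 (y i) = bas i) ∧
      Algebra.adjoin A (Set.range y) = ⊤ := by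
  classical
  choose yt' hyt' using fun i => Ideal.toCotangent_surjective _ (bas i)
  set yt : Fin r → B := fun i => (yt' i : B) with hytdef
  have hyt : ∀ i, yt i ∈ Bp := fun i => (yt' i).2
  have hπ : ∀ i, piB 𝒜 (yt i) = bas i := fun i => by
    rw [piB_of_mem 𝒜 (hyt i)]; exact hyt' i
  choose Di hDi using fun i => exists_bound 𝒜 (yt i)
  set D := Finset.univ.sup Di with hDdef
  have hD : ∀ i d, D ≤ d → Pr d (yt i) = 0 := fun i d hd =>
    hDi i d (le_trans (Finset.le_sup (f := Di) (Finset.mem_univ i)) hd)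
  set y : Fin r → B := fun i => sec 𝒜 bas yt D (bas i) with hy
  have hsecC : ∀ n, sec 𝒜 bas yt D n ∈ Algebra.adjoin A (Set.range y) := by
    intro n
    rw [← bas.sum_repr n, map_sum]
    refine Subalgebra.sum_mem _ fun j _ => ?_
    rw [map_smul]
    exact Subalgebra.smul_mem _ (Algebra.subset_adjoin (Set.mem_range_self j)) _
  refine ⟨y, fun i => sec_mem 𝒜 bas yt hyt D _, fun i => piB_sec 𝒜 bas yt hyt hπ hD _, ?_⟩
  have key : ∀ d, ∀ b ∈ 𝒜 d, b ∈ Algebra.adjoin A (Set.range y) := by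
    intro d
    induction d using Nat.strong_induction_on with
    | _ d IH =>
      intro b hb
      rcases Nat.eq_zero_or_pos d with hd | hd
      · subst hd
        obtain ⟨a, rfl⟩ := h0 b hb
        exact Subalgebra.algebraMap_mem _ a
      · have hbp : b ∈ Bp := HomogeneousIdeal.mem_irrelevant_of_mem 𝒜 hd hb
        have hpb : Pr d b = b := by rw [proj_of_mem 𝒜 hb, if_pos rfl]
        set n := piB 𝒜 b with hn
        have hpn : pbar 𝒜 bas yt d n = n := by
          rw [hn, pbar_piB 𝒜 bas yt hyt hπ hbp, hpb]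
        have hx : b - sec 𝒜 bas yt D n ∈ Bp ^ 2 := by
          rw [← piB_eq_zero_iff 𝒜 (Ideal.sub_mem _ hbp (sec_mem 𝒜 bas yt hyt D n)), map_sub,
            piB_sec 𝒜 bas yt hyt hπ hD, sub_self]
        have hx2 := proj_sq_mem_of_lt 𝒜 _ d IH hx
        rw [map_sub, hpb, proj_sec 𝒜 bas yt hyt hπ, hpn] at hx2
        have := Subalgebra.add_mem _ hx2 (hsecC n)
        rwa [sub_add_cancel] at this
  rw [eq_top_iff]
  intro b _
  obtain ⟨Db, hDb⟩ := exists_bound 𝒜 b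
  rw [← sum_proj 𝒜 hDb]
  exact Subalgebra.sum_mem _ fun d _ => key d _ (proj_mem 𝒜 d b)

end Groth.Agent.Lib.Helper26.GradedSection
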