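import Mathlib.RingTheory.Smooth.Locus
import Mathlib.RingTheory.RingHom.Surjective
import Mathlib.RingTheory.Localization.AtPrime.Basic

/-!
A lifting lemma: formal smoothness of a localisation kills square-zero thickenings
whose kernel is annihilated by an ideal containing it.
-/

set_option autoImplicit false
universe u

namespace Groth.Agent.Lib.Helper26.SmoothLift

theorem exists_mul_eq_zero_of_smoothAt {A C B : Type u} [CommRing A] [CommRing C] [CommRing B]
    [Algebra A C] [Algebra A B] (ψ : C →ₐ[A] B) (hψ : Function.Surjective ψ)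
    (𝔫 : Ideal C) (hker : RingHom.ker (ψ : C →+* B) ≤ 𝔫)
    (hann : ∀ u ∈ 𝔫, ∀ m : C, ψ m = 0 → u * m = 0)
    (q : Ideal B) [q.IsPrime] [Algebra.FormallySmooth A (Localization.AtPrime q)]
    {f : C} (hf : f ∈ 𝔫 ^ 2) (hf0 : ψ f = 0) :
    ∃ t : C, ψ t ∉ q ∧ t * f = 0 := by
  classical
  let q' : Ideal C := q.comap (ψ : C →+* B)
  have : q'.IsPrime := Ideal.comap_isPrime _ _
  let g₀ : Localization.AtPrime q' →+* Localization.AtPrime q :=
    Localization.localRingHom q' q (ψ : C →+* B) rfl
  let g : Localization.AtPrime q' →ₐ[A] Localization.AtPrime q :=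
    { g₀ with
      commutes' := fun a => by
        rw [IsScalarTower.algebraMap_apply A C (Localization.AtPrime q'),
          IsScalarTower.algebraMap_apply A B (Localization.AtPrime q)]
        show g₀ _ = _
        rw [Localization.localRingHom_to_map]
        simp }
  have hgg : ∀ x, g x = g₀ x := fun _ => rfl
  have hg : Function.Surjective g :=
    RingHom.surjective_localRingHom_of_surjective (ψ : C →+* B) hψ q
  have hkerg : ∀ k : Localization.AtPrime q', g k = 0 → ∃ m : C, ψ m = 0 ∧ ∃ s : C, s ∉ q' ∧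
      k * algebraMap C (Localization.AtPrime q') s = algebraMap C (Localization.AtPrime q') m := by
    intro k hk
    obtain ⟨c, s, rfl⟩ := IsLocalization.exists_mk'_eq q'.primeCompl k
    rw [hgg, Localization.localRingHom_mk', IsLocalization.mk'_eq_zero_iff] at hk
    obtain ⟨t, ht⟩ := hk
    obtain ⟨t', ht'⟩ := hψ t
    have ht'q : t' ∉ q' := by
      show ¬ (ψ t' ∈ q)
      rw [ht']; exact t.2
    refine ⟨t' * c, ?_, t' * s, ?_, ?_⟩
    · rw [map_mul, ht']; exact ht
    · exact fun h => (Ideal.IsPrime.mem_or_mem ‹q'.IsPrime› h).elim ht'q s.2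
    · rw [map_mul, map_mul, mul_comm (algebraMap C _ t'), ← mul_assoc, IsLocalization.mk'_spec]
      ring
  have hunit : ∀ s : C, s ∉ q' → IsUnit (algebraMap C (Localization.AtPrime q') s) :=
    fun s hs => IsLocalization.map_units (Localization.AtPrime q') (⟨s, hs⟩ : q'.primeCompl)
  have K1 : ∀ u ∈ 𝔫, ∀ k : Localization.AtPrime q', g k = 0 →
      algebraMap C (Localization.AtPrime q') u * k = 0 := by
    intro u hu k hk
    obtain ⟨m, hm, s, hs, e⟩ := hkerg k hk
    have : algebraMap C (Localization.AtPrime q') u * k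
        * algebraMap C (Localization.AtPrime q') s = 0 := by
      rw [mul_assoc, e, ← map_mul, hann u hu m hm, map_zero]
    exact (hunit s hs).mul_left_eq_zero.mp this
  have K2 : ∀ k k' : Localization.AtPrime q', g k = 0 → g k' = 0 → k * k' = 0 := by
    intro k k' hk hk'
    obtain ⟨m, hm, s, hs, e⟩ := hkerg k hk
    have hm𝔫 : m ∈ 𝔫 := hker (by rw [RingHom.mem_ker]; exact hm)
    have : k * algebraMap C (Localization.AtPrime q') s * k' = 0 := by
      rw [e]; exact K1 m hm𝔫 k' hk'
    have h2 : k * k' * algebraMap C (Localization.AtPrime q') s = 0 := by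
      rw [← this]; ring
    exact (hunit s hs).mul_left_eq_zero.mp h2
  have hnil : IsNilpotent (RingHom.ker (g : Localization.AtPrime q' →+* Localization.AtPrime q)) := by
    refine ⟨2, ?_⟩
    rw [pow_two, Ideal.zero_eq_bot, eq_bot_iff]
    refine Ideal.mul_le.mpr fun a ha b hb => ?_
    rw [Ideal.mem_bot]
    exact K2 a b ha hb
  let σ := Algebra.FormallySmooth.liftOfSurjective (AlgHom.id A (Localization.AtPrime q)) g hg hnil
  have hσ : ∀ x, g (σ x) = x := fun x =>
    Algebra.FormallySmooth.liftOfSurjective_apply (AlgHom.id A (Localization.AtPrime q)) g hg hnil x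
  let θ : C →+* Localization.AtPrime q' :=
    (σ : Localization.AtPrime q →+* Localization.AtPrime q').comp
      ((algebraMap B (Localization.AtPrime q)).comp (ψ : C →+* B))
  let ι : C →+* Localization.AtPrime q' := algebraMap C (Localization.AtPrime q')
  have hθ : ∀ c, θ c = σ (algebraMap B (Localization.AtPrime q) (ψ c)) := fun _ => rfl
  have hδ : ∀ c, g (θ c - ι c) = 0 := by
    intro c
    rw [map_sub, hθ, hσ, hgg (ι c)]
    show _ - g₀ (algebraMap C _ c) = 0
    rw [Localization.localRingHom_to_map]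
    simp
  have key : ∀ x ∈ 𝔫 ^ 2, θ x = ι x := by
    intro x hx
    rw [pow_two] at hx
    refine Submodule.mul_induction_on hx ?_ ?_
    · intro u hu v hv
      have e1 : ι v * (θ u - ι u) = 0 := K1 v hv _ (hδ u)
      have e2 : ι u * (θ v - ι v) = 0 := K1 u hu _ (hδ v)
      have e3 : (θ u - ι u) * (θ v - ι v) = 0 := K2 _ _ (hδ u) (hδ v)
      rw [map_mul, map_mul, ← sub_eq_zero]
      have : θ u * θ v - ι u * ι v
          = (θ u - ι u) * (θ v - ι v) + ι u * (θ v - ι v) + ι v * (θ u - ι u) := by ring
      rw [this, e1, e2, e3]; simp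
    · intro x y hx hy
      rw [map_add, map_add, hx, hy]
  have hιf : ι f = 0 := by
    rw [← key f hf, hθ, hf0, map_zero, map_zero]
  obtain ⟨t, ht⟩ := (IsLocalization.map_eq_zero_iff q'.primeCompl (Localization.AtPrime q') f).mp hιf
  exact ⟨t, t.2, ht⟩

end Groth.Agent.Lib.Helper26.SmoothLift
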