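import Groth.Agent.Lib.Helper26.GradedSection
import Groth.Agent.Lib.Helper26.SmoothLift
import Mathlib.RingTheory.MvPolynomial.Ideal
import Mathlib.RingTheory.Ideal.Colon

/-!
A graded algebra smooth along its irrelevant ideal with free conormal module is a polynomial ring.
-/

set_option autoImplicit false
universe u

namespace Groth.Agent.Lib.Helper26.GradedSmooth

open MvPolynomial Groth.Agent.Lib.Helper26.GradedSection

variable {A B : Type u} [CommRing A] [CommRing B] [Algebra A B]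
variable (𝒜 : ℕ → Submodule A B) [GradedAlgebra 𝒜]
variable {r : ℕ} (y : Fin r → B)

local notation "Pr" => GradedAlgebra.proj 𝒜
local notation "Bp" => HomogeneousIdeal.toIdeal (HomogeneousIdeal.irrelevant 𝒜)

omit [GradedAlgebra 𝒜] in
theorem sub_C_mem (g : MvPolynomial (Fin r) A) :
    g - C (constantCoeff g) ∈ idealOfVars (Fin r) A := by
  rw [← pow_one (idealOfVars _ _), mem_pow_idealOfVars_iff']
  intro x hx
  have : x = 0 := (Finsupp.degree_eq_zero_iff x).mp (by omega)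
  subst this
  simp [constantCoeff_eq]

theorem idealOfVars_le_comap (hy : ∀ i, y i ∈ Bp) :
    idealOfVars (Fin r) A ≤ Ideal.comap (aeval y : MvPolynomial (Fin r) A →ₐ[A] B) Bp := by
  rw [Ideal.span_le]
  rintro _ ⟨i, rfl⟩
  show aeval y (X i) ∈ Bp
  rw [aeval_X]; exact hy i

theorem aeval_mem_Bp (hy : ∀ i, y i ∈ Bp) {f : MvPolynomial (Fin r) A}
    (hf : f ∈ idealOfVars (Fin r) A) : aeval y f ∈ Bp :=
  idealOfVars_le_comap 𝒜 y hy hf

theorem aeval_mem_Bp_sq (hy : ∀ i, y i ∈ Bp) {f : MvPolynomial (Fin r) A}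
    (hf : f ∈ idealOfVars (Fin r) A ^ 2) : aeval y f ∈ Bp ^ 2 :=
  Ideal.le_comap_pow _ 2 (Ideal.pow_right_mono (idealOfVars_le_comap 𝒜 y hy) 2 hf)

theorem mem_idealOfVars_of_aeval_mem (hinj : Function.Injective (algebraMap A B))
    (hy : ∀ i, y i ∈ Bp) {f : MvPolynomial (Fin r) A} (hf : aeval y f ∈ Bp) :
    f ∈ idealOfVars (Fin r) A := by
  have h1 := sub_C_mem (A := A) f
  have h2 := aeval_mem_Bp 𝒜 y hy h1
  rw [map_sub, aeval_C] at h2
  have h3 : algebraMap A B (constantCoeff f) ∈ Bp := by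
    have := Ideal.sub_mem _ hf h2
    rwa [sub_sub_cancel] at this
  rw [mem_Bp_iff, proj_of_mem 𝒜 (SetLike.algebraMap_mem_graded 𝒜 _), if_pos rfl] at h3
  have h4 : constantCoeff f = 0 := hinj (by rw [h3, map_zero])
  rw [h4, map_zero, sub_zero] at h1
  exact h1

theorem ker_le_sq (hinj : Function.Injective (algebraMap A B))
    (bas : Module.Basis (Fin r) A (Bp).Cotangent)
    (hy : ∀ i, y i ∈ Bp) (hπ : ∀ i, piB 𝒜 (y i) = bas i) {f : MvPolynomial (Fin r) A}
    (hf : aeval y f = 0) : f ∈ idealOfVars (Fin r) A ^ 2 := by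
  have h1 : f ∈ idealOfVars (Fin r) A :=
    mem_idealOfVars_of_aeval_mem 𝒜 y hinj hy (by rw [hf]; exact Ideal.zero_mem _)
  obtain ⟨c, hc⟩ := (Ideal.mem_span_range_iff_exists_fun).mp h1
  set j2 : MvPolynomial (Fin r) A := ∑ i, (c i - C (constantCoeff (c i))) * X i with hj2
  have hj2mem : j2 ∈ idealOfVars (Fin r) A ^ 2 := by
    rw [pow_two]
    refine Ideal.sum_mem _ fun i _ => ?_
    exact Ideal.mul_mem_mul (sub_C_mem _) (Ideal.subset_span (Set.mem_range_self i))
  have hsplit : f = ∑ i, C (constantCoeff (c i)) * X i + j2 := by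
    rw [← hc, hj2, ← Finset.sum_add_distrib]
    refine Finset.sum_congr rfl fun i _ => by ring
  have h2 : aeval y f = ∑ i, constantCoeff (c i) • y i + aeval y j2 := by
    conv_lhs => rw [hsplit]
    rw [map_add, map_sum]
    congr 1
    refine Finset.sum_congr rfl fun i _ => ?_
    rw [map_mul, aeval_C, aeval_X, Algebra.smul_def]
  have h3 : ∑ i, constantCoeff (c i) • y i ∈ Bp ^ 2 := by
    have := aeval_mem_Bp_sq 𝒜 y hy hj2mem
    rw [hf] at h2
    have e : ∑ i, constantCoeff (c i) • y i = - aeval y j2 := by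
      rw [eq_neg_iff_add_eq_zero]; exact h2.symm
    rw [e]; exact Ideal.neg_mem_iff _ |>.mpr this
  have h4 := piB_of_mem_sq 𝒜 h3
  rw [map_sum] at h4
  simp only [map_smul, hπ] at h4
  have h5 := Fintype.linearIndependent_iff.mp bas.linearIndependent _ h4
  have : f = j2 := by
    rw [hsplit]
    simp [h5]
  rw [this]; exact hj2mem

theorem aeval_injective (hinj : Function.Injective (algebraMap A B))
    (hsm : ∀ (P : Ideal B) [P.IsPrime], Bp ≤ P → Algebra.IsSmoothAt A P)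
    (bas : Module.Basis (Fin r) A (Bp).Cotangent)
    (hy : ∀ i, y i ∈ Bp) (hπ : ∀ i, piB 𝒜 (y i) = bas i)
    (hsurj : Function.Surjective (aeval y : MvPolynomial (Fin r) A →ₐ[A] B)) :
    Function.Injective (aeval y : MvPolynomial (Fin r) A →ₐ[A] B) := by
  classical
  set φ : MvPolynomial (Fin r) A →ₐ[A] B := aeval y with hφ
  set 𝔭 : Ideal (MvPolynomial (Fin r) A) := idealOfVars (Fin r) A with h𝔭
  set J : Ideal (MvPolynomial (Fin r) A) := RingHom.ker (φ : MvPolynomial (Fin r) A →+* B) with hJ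
  have hJmem : ∀ f, f ∈ J ↔ φ f = 0 := fun f => RingHom.mem_ker
  have hJ2 : J ≤ 𝔭 ^ 2 := fun f hf =>
    ker_le_sq 𝒜 y hinj bas hy hπ ((hJmem f).mp hf)
  have hJ1 : J ≤ 𝔭 := hJ2.trans (Ideal.pow_le_self two_ne_zero)
  set I : Ideal (MvPolynomial (Fin r) A) := 𝔭 * J with hI
  have hIJ : I ≤ J := Ideal.mul_le_right
  -- the thickening
  let ψ : (MvPolynomial (Fin r) A ⧸ I) →ₐ[A] B :=
    Ideal.Quotient.liftₐ I φ (fun a ha => (hJmem a).mp (hIJ ha))
  have hψmk : ∀ f, ψ (Ideal.Quotient.mk I f) = φ f := fun f => rfl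
  have hψ : Function.Surjective ψ := fun b => by
    obtain ⟨f, rfl⟩ := hsurj b
    exact ⟨Ideal.Quotient.mk I f, rfl⟩
  set 𝔫 : Ideal (MvPolynomial (Fin r) A ⧸ I) := 𝔭.map (Ideal.Quotient.mk I) with h𝔫
  have hker : RingHom.ker (ψ : (MvPolynomial (Fin r) A ⧸ I) →+* B) ≤ 𝔫 := by
    intro c hc
    obtain ⟨f, rfl⟩ := Ideal.Quotient.mk_surjective c
    rw [RingHom.mem_ker] at hc
    exact Ideal.mem_map_of_mem _ (hJ1 ((hJmem f).mpr hc))
  have hann : ∀ u ∈ 𝔫, ∀ m : MvPolynomial (Fin r) A ⧸ I, ψ m = 0 → u * m = 0 := by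
    intro u hu m hm
    obtain ⟨u', hu', rfl⟩ := (Ideal.mem_map_iff_of_surjective _ Ideal.Quotient.mk_surjective).mp hu
    obtain ⟨m', rfl⟩ := Ideal.Quotient.mk_surjective m
    rw [← map_mul, Ideal.Quotient.eq_zero_iff_mem]
    exact Ideal.mul_mem_mul hu' ((hJmem m').mpr hm)
  -- local statement
  have hloc : ∀ (q : Ideal B) [q.IsPrime], Bp ≤ q → ∀ j ∈ J, ∃ t, φ t ∉ q ∧ t * j ∈ I := by
    intro q _ hq j hj
    have : Algebra.FormallySmooth A (Localization.AtPrime q) := hsm q hq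
    have hf : Ideal.Quotient.mk I j ∈ 𝔫 ^ 2 := by
      rw [h𝔫, ← Ideal.map_pow]
      exact Ideal.mem_map_of_mem _ (hJ2 hj)
    obtain ⟨t, ht, ht0⟩ := SmoothLift.exists_mul_eq_zero_of_smoothAt ψ hψ 𝔫 hker hann q hf
      ((hJmem j).mp hj)
    obtain ⟨t', rfl⟩ := Ideal.Quotient.mk_surjective t
    refine ⟨t', ht, ?_⟩
    rwa [← map_mul, Ideal.Quotient.eq_zero_iff_mem] at ht0
  -- J ≤ 𝔭 * J
  have hJI : J ≤ I := by
    intro j hj
    have htop : (I.colon {j}) ⊔ 𝔭 = ⊤ := by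
      by_contra hne
      obtain ⟨𝔪, h𝔪, hle⟩ := Ideal.exists_le_maximal _ hne
      have := h𝔪.isPrime
      have hk : RingHom.ker (φ : MvPolynomial (Fin r) A →+* B) ≤ 𝔪 :=
        hJ1.trans (le_sup_right.trans hle)
      have : (𝔪.map (φ : MvPolynomial (Fin r) A →+* B)).IsPrime :=
        Ideal.map_isPrime_of_surjective (f := (φ : MvPolynomial (Fin r) A →+* B)) hsurj hk
      have hq : Bp ≤ 𝔪.map (φ : MvPolynomial (Fin r) A →+* B) := by
        intro b hb
        obtain ⟨f, rfl⟩ := hsurj b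
        have : f ∈ 𝔭 := mem_idealOfVars_of_aeval_mem 𝒜 y hinj hy hb
        exact Ideal.mem_map_of_mem _ (hle (Ideal.mem_sup_right this))
      obtain ⟨t, ht, htj⟩ := hloc _ hq j hj
      apply ht
      have : t ∈ I.colon {j} := Submodule.mem_colon_singleton.mpr (by rwa [smul_eq_mul])
      exact Ideal.mem_map_of_mem _ (hle (Ideal.mem_sup_left this))
    have h1 : (1 : MvPolynomial (Fin r) A) ∈ (I.colon {j}) ⊔ 𝔭 := by rw [htop]; trivial
    obtain ⟨t, ht, u, hu, htu⟩ := Submodule.mem_sup.mp h1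
    have e : j = t * j + u * j := by rw [← add_mul, htu, one_mul]
    rw [e]
    refine Ideal.add_mem _ ?_ (Ideal.mul_mem_mul hu hj)
    have := Submodule.mem_colon_singleton.mp ht
    rwa [smul_eq_mul] at this
  -- J ≤ 𝔭 ^ n for all n
  have hJn : ∀ n : ℕ, J ≤ 𝔭 ^ n := by
    intro n
    induction n with
    | zero => rw [pow_zero, Ideal.one_eq_top]; exact le_top
    | succ n ih =>
      refine hJI.trans ?_
      rw [pow_succ']
      exact Ideal.mul_mono_right ih
  rw [injective_iff_map_eq_zero]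
  intro f hf
  have hfJ : f ∈ J := (hJmem f).mpr hf
  ext x
  have := (mem_pow_idealOfVars_iff' (Finsupp.degree x + 1) f).mp (hJn _ hfJ) x (Nat.lt_succ_self _)
  rw [this, coeff_zero]

end Groth.Agent.Lib.Helper26.GradedSmooth
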