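import Mathlib
import Groth.Prelude.Def_CAlgX

namespace Groth.Agent.Lib.Helper26.H1Conormal

set_option linter.unusedSectionVars false
set_option linter.style.haveILetI false

open TensorProduct

universe u v

section Abstract

variable {S : Type u} [CommRing S] {N : Type v} [AddCommGroup N] [Module S N]

/-- Abstract lemma: a "symmetric" functional whose image is generated by an `H₁`-regular sequence. -/
theorem abstract (π : N →ₗ[S] S) (hsym : ∀ n n' : N, π n • n' = π n' • n)
    {c : ℕ} (f : Fin c → S) (hf : CAlgX.IsH1Regular f)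
    (hrange : ∀ s : S, s ∈ LinearMap.range π ↔ s ∈ Ideal.span (Set.range f))
    (x : N) (hx : π x = 0)
    (hx2 : x ∈ (Ideal.span (Set.range f)) • (⊤ : Submodule S N)) : x = 0 := by
  have hψ : ∀ j, ∃ n, π n = f j := fun j =>
    (hrange (f j)).mpr (Ideal.subset_span ⟨j, rfl⟩)
  choose ψ hψ using hψ
  let Ψ : (Fin c → S) →ₗ[S] N := Fintype.linearCombination S ψ
  have hΨ : ∀ a, Ψ a = ∑ j, a j • ψ j := fun a => Fintype.linearCombination_apply S ψ a
  have hπΨ : ∀ a, π (Ψ a) = ∑ j, a j * f j := by
    intro a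
    rw [hΨ, map_sum]
    refine Finset.sum_congr rfl fun j _ => ?_
    rw [map_smul, hψ, smul_eq_mul]
  -- Ψ kills trivial relations
  have hT : ∀ a, a ∈ Submodule.span S {v : Fin c → S | ∃ i j : Fin c,
      v = Pi.single i (f j) - Pi.single j (f i)} → Ψ a = 0 := by
    intro a ha
    induction ha using Submodule.span_induction with
    | mem v hv =>
      obtain ⟨i, j, rfl⟩ := hv
      rw [map_sub, hΨ, hΨ]
      simp only [Pi.single_apply, ite_smul, zero_smul, Finset.sum_ite_eq', Finset.mem_univ, if_true]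
      rw [← hψ j, ← hψ i, hsym, sub_self]
    | zero => simp
    | add v w _ _ hv hw => rw [map_add, hv, hw, add_zero]
    | smul b v _ hv => rw [map_smul, hv, smul_zero]
  -- every element of J N is in the range of Ψ
  have hB : ∀ y ∈ (Ideal.span (Set.range f)) • (⊤ : Submodule S N), ∃ r, y = Ψ r := by
    intro y hy
    refine Submodule.smul_induction_on hy ?_ ?_
    · intro s hs n _
      obtain ⟨m, rfl⟩ := (hrange s).mpr hs
      have hn : π n ∈ Ideal.span (Set.range f) := (hrange _).mp ⟨n, rfl⟩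
      rw [Ideal.mem_span_range_iff_exists_fun] at hn
      obtain ⟨a, ha⟩ := hn
      refine ⟨π m • a, ?_⟩
      rw [hsym, ← ha, map_smul, hΨ, Finset.sum_smul, Finset.smul_sum]
      refine Finset.sum_congr rfl fun j _ => ?_
      rw [← hψ j, mul_smul, hsym (ψ j) m, smul_smul, smul_smul, mul_comm]
    · intro y z hy hz
      obtain ⟨r, rfl⟩ := hy
      obtain ⟨r', rfl⟩ := hz
      exact ⟨r + r', (map_add _ _ _).symm⟩
  obtain ⟨r, rfl⟩ := hB x hx2
  apply hT
  apply hf
  rw [← hπΨ]
  exact hx

end Abstract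

section Local

variable {R : Type u} [CommRing R] {N : Type v} [AddCommGroup N] [Module R N]
  (S : Type u) [CommRing S] [Algebra R S]

/-- base change of the functional -/
noncomputable def piS (π : N →ₗ[R] R) : S ⊗[R] N →ₗ[S] S :=
  ((Algebra.linearMap R S).comp π).liftBaseChange S

lemma piS_tmul (π : N →ₗ[R] R) (s : S) (n : N) :
    piS S π (s ⊗ₜ[R] n) = s * algebraMap R S (π n) := by
  simp [piS, LinearMap.liftBaseChange_tmul]

lemma piS_sym (π : N →ₗ[R] R) (hsym : ∀ n n' : N, π n • n' = π n' • n)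
    (t t' : S ⊗[R] N) : piS S π t • t' = piS S π t' • t := by
  induction t using TensorProduct.induction_on with
  | zero => simp
  | add a b ha hb => rw [map_add, add_smul, ha, hb, smul_add]
  | tmul s n =>
    induction t' using TensorProduct.induction_on with
    | zero => simp
    | add a b ha hb => rw [map_add, add_smul, ← ha, ← hb, smul_add]
    | tmul s' n' =>
      rw [piS_tmul, piS_tmul, TensorProduct.smul_tmul', TensorProduct.smul_tmul', smul_eq_mul,
        smul_eq_mul]
      have e1 : s * algebraMap R S (π n) * s' = π n • (s * s') := by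
        rw [Algebra.smul_def]; ring
      have e2 : s' * algebraMap R S (π n') * s = π n' • (s * s') := by
        rw [Algebra.smul_def]; ring
      rw [e1, e2, TensorProduct.smul_tmul, TensorProduct.smul_tmul, hsym]

lemma piS_range (π : N →ₗ[R] R) (K : Ideal R) (hK : ∀ r, r ∈ LinearMap.range π ↔ r ∈ K) (s : S) :
    s ∈ LinearMap.range (piS S π) ↔ s ∈ K.map (algebraMap R S) := by
  constructor
  · rintro ⟨t, rfl⟩
    induction t using TensorProduct.induction_on with
    | zero => simp
    | add a b ha hb => rw [map_add]; exact Ideal.add_mem _ ha hb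
    | tmul s n =>
      rw [piS_tmul]
      exact Ideal.mul_mem_left _ _ (Ideal.mem_map_of_mem _ ((hK _).mp ⟨n, rfl⟩))
  · intro hs
    have : K.map (algebraMap R S) ≤ (LinearMap.range (piS S π) : Ideal S) := by
      rw [Ideal.map_le_iff_le_comap]
      intro k hk
      obtain ⟨n, rfl⟩ := (hK k).mpr hk
      exact ⟨1 ⊗ₜ n, by rw [piS_tmul, one_mul]⟩
    exact this hs

/-- local vanishing -/
theorem local_vanish (π : N →ₗ[R] R) (hsym : ∀ n n' : N, π n • n' = π n' • n)
    (K : Ideal R) (hK : ∀ r, r ∈ LinearMap.range π ↔ r ∈ K) (g : R)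
    {c : ℕ} (f : Fin c → Localization.Away g) (hf : CAlgX.IsH1Regular f)
    (hspan : Ideal.span (Set.range f) = K.map (algebraMap R (Localization.Away g)))
    (x : N) (hx : π x = 0) (hx2 : x ∈ K • (⊤ : Submodule R N)) :
    ∃ k : ℕ, g ^ k • x = 0 := by
  have h0 : ((1 : Localization.Away g) ⊗ₜ[R] x) = 0 := by
    refine abstract (piS _ π) (piS_sym _ π hsym) f hf ?_ _ ?_ ?_
    · intro s
      rw [hspan]
      exact piS_range _ π K hK s
    · rw [piS_tmul, hx, map_zero, mul_zero]
    · rw [hspan]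
      refine Submodule.smul_induction_on hx2 ?_ ?_
      · intro k hk n _
        have : ((1 : Localization.Away g) ⊗ₜ[R] (k • n))
            = algebraMap R (Localization.Away g) k • ((1 : Localization.Away g) ⊗ₜ[R] n) := by
          rw [TensorProduct.smul_tmul', smul_eq_mul, mul_one, ← TensorProduct.smul_tmul,
            Algebra.smul_def, mul_one]
        rw [this]
        exact Submodule.smul_mem_smul (Ideal.mem_map_of_mem _ hk) Submodule.mem_top
      · intro y z hy hz
        rw [TensorProduct.tmul_add]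
        exact Submodule.add_mem _ hy hz
  have := (IsLocalizedModule.eq_zero_iff (Submonoid.powers g)
    (TensorProduct.mk R (Localization.Away g) N 1) (m := x)).mp h0
  obtain ⟨⟨_, k, rfl⟩, hk⟩ := this
  exact ⟨k, hk⟩

end Local

section Global

variable {A : Type u} [CommRing A] (I J : Ideal A)

/-- `J / IJ` -/
abbrev NN : Type u := ↥J ⧸ (I • ⊤ : Submodule A ↥J)

/-- the class map -/
def cl : ↥J →ₗ[A] NN I J := Submodule.mkQ _

lemma mk_smul_cl (r : A) (n : ↥J) : Ideal.Quotient.mk I r • cl I J n = cl I J (r • n) := rfl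

/-- `J/IJ → A/I` as an `A`-linear map -/
noncomputable def piA : NN I J →ₗ[A] A ⧸ I :=
  Submodule.liftQ _ ((Ideal.Quotient.mkₐ A I).toLinearMap ∘ₗ J.subtype) (by
    rw [Submodule.smul_le]
    intro r hr n _
    rw [LinearMap.mem_ker, map_smul, Algebra.smul_def, Ideal.Quotient.algebraMap_eq,
      Ideal.Quotient.eq_zero_iff_mem.mpr hr, zero_mul])

lemma piA_cl (n : ↥J) : piA I J (cl I J n) = Ideal.Quotient.mk I n.1 := rfl

lemma cl_surj : Function.Surjective (cl I J) := Submodule.mkQ_surjective _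

/-- `J/IJ → A/I` as an `A/I`-linear map -/
noncomputable def piR : NN I J →ₗ[A ⧸ I] A ⧸ I where
  toFun := piA I J
  map_add' := map_add _
  map_smul' := by
    intro r n
    obtain ⟨r, rfl⟩ := Ideal.Quotient.mk_surjective r
    obtain ⟨n, rfl⟩ := cl_surj I J n
    rw [mk_smul_cl, piA_cl, piA_cl, RingHom.id_apply, smul_eq_mul, ← map_mul]
    rfl

lemma piR_cl (n : ↥J) : piR I J (cl I J n) = Ideal.Quotient.mk I n.1 := rfl

lemma piR_sym (n n' : NN I J) : piR I J n • n' = piR I J n' • n := by
  obtain ⟨n, rfl⟩ := cl_surj I J n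
  obtain ⟨n', rfl⟩ := cl_surj I J n'
  rw [piR_cl, piR_cl, mk_smul_cl, mk_smul_cl]
  congr 1
  apply Subtype.ext
  simp [mul_comm]

lemma piR_range (r : A ⧸ I) :
    r ∈ LinearMap.range (piR I J) ↔ r ∈ J.map (Ideal.Quotient.mk I) := by
  constructor
  · rintro ⟨n, rfl⟩
    obtain ⟨n, rfl⟩ := cl_surj I J n
    rw [piR_cl]
    exact Ideal.mem_map_of_mem _ n.2
  · intro hr
    rw [Ideal.mem_map_iff_of_surjective _ Ideal.Quotient.mk_surjective] at hr
    obtain ⟨j, hj, rfl⟩ := hr
    exact ⟨cl I J ⟨j, hj⟩, rfl⟩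

lemma cl_mem (x : ↥J) (hx : x.1 ∈ J * J) :
    cl I J x ∈ (J.map (Ideal.Quotient.mk I)) • (⊤ : Submodule (A ⧸ I) (NN I J)) := by
  have h1 : x ∈ J • (⊤ : Submodule A ↥J) := by
    rw [Submodule.mem_smul_top_iff]
    exact hx
  refine Submodule.smul_induction_on h1 ?_ ?_
  · intro a ha n _
    rw [← mk_smul_cl]
    exact Submodule.smul_mem_smul (Ideal.mem_map_of_mem _ ha) Submodule.mem_top
  · intro y z hy hz
    rw [map_add]
    exact Submodule.add_mem _ hy hz

lemma mem_of_cl_eq_zero (x : ↥J) (hx : cl I J x = 0) : x.1 ∈ I * J := by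
  have h1 : x ∈ I • (⊤ : Submodule A ↥J) := (Submodule.Quotient.mk_eq_zero _).mp hx
  rw [Submodule.mem_smul_top_iff] at h1
  exact h1

end Global

end Groth.Agent.Lib.Helper26.H1Conormal
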