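import Mathlib
import Groth.Prelude.Def_CAlgX
import Groth.Agent.Lib.Helper26.H1Conormal

namespace Groth.Agent.Lib.Helper26.H1Conormal

set_option linter.unusedSectionVars false
set_option linter.style.haveILetI false

open TensorProduct

universe u v

set_option maxHeartbeats 400000

variable {A : Type u} [CommRing A] (I J : Ideal A)

theorem local_apply (g : A ⧸ I) {c : ℕ} (f : Fin c → Localization.Away g) (hf : CAlgX.IsH1Regular f)
    (hspan : Ideal.span (Set.range f) =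
            (J.map (Ideal.Quotient.mk I)).map (algebraMap (A ⧸ I) (Localization.Away g)))
    (n : NN I J) (hπ : piR I J n = 0)
    (hmem : n ∈ (J.map (Ideal.Quotient.mk I)) • (⊤ : Submodule (A ⧸ I) (NN I J))) :
    ∃ k : ℕ, g ^ k • n = 0 := by
  have h1 := piR_sym I J
  have h2 := piR_range I J
  exact local_vanish (R := A ⧸ I) (N := NN I J) (piR I J) h1 (J.map (Ideal.Quotient.mk I))
        h2 g f hf hspan n hπ hmem

theorem zero_of (n : NN I J) (hπ : piR I J n = 0)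
    (hmem : n ∈ (J.map (Ideal.Quotient.mk I)) • (⊤ : Submodule (A ⧸ I) (NN I J)))
    (h : ∀ (𝔮 : Ideal (A ⧸ I)) [𝔮.IsPrime], J.map (Ideal.Quotient.mk I) ≤ 𝔮 →
      ∃ g : A ⧸ I, g ∉ 𝔮 ∧ ∃ (c : ℕ) (f : Fin c → Localization.Away g),
        CAlgX.IsH1Regular f ∧
          Ideal.span (Set.range f) =
            (J.map (Ideal.Quotient.mk I)).map (algebraMap (A ⧸ I) (Localization.Away g))) :
    n = 0 := by
  -- annihilator of n
  let 𝔞 : Ideal (A ⧸ I) := LinearMap.ker (LinearMap.toSpanSingleton (A ⧸ I) (NN I J) n)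
  have h𝔞 : ∀ r, r ∈ 𝔞 ↔ r • n = 0 := fun r => by
    rw [LinearMap.mem_ker, LinearMap.toSpanSingleton_apply]
  by_cases htop : 𝔞 = ⊤
  · have : (1 : A ⧸ I) ∈ 𝔞 := by rw [htop]; exact Submodule.mem_top
    rw [h𝔞, one_smul] at this
    exact this
  · exfalso
    obtain ⟨𝔮, h𝔮max, h𝔮⟩ := Ideal.exists_le_maximal 𝔞 htop
    haveI := h𝔮max.isPrime
    have hJ𝔞 : J.map (Ideal.Quotient.mk I) ≤ 𝔞 := by
      intro r hr
      obtain ⟨m, rfl⟩ := (piR_range I J r).mpr hr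
      rw [h𝔞, piR_sym, hπ, zero_smul]
    obtain ⟨g, hg, c, f, hf, hspan⟩ := h 𝔮 (hJ𝔞.trans h𝔮)
    obtain ⟨k, hk⟩ := local_apply I J g f hf hspan n hπ hmem
    have : g ^ k ∈ 𝔮 := h𝔮 ((h𝔞 _).mpr hk)
    exact hg (Ideal.IsPrime.mem_of_pow_mem inferInstance k this)

theorem main (hIJ : I ≤ J)
    (h : ∀ (𝔮 : Ideal (A ⧸ I)) [𝔮.IsPrime], J.map (Ideal.Quotient.mk I) ≤ 𝔮 →
      ∃ g : A ⧸ I, g ∉ 𝔮 ∧ ∃ (c : ℕ) (f : Fin c → Localization.Away g),
        CAlgX.IsH1Regular f ∧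
          Ideal.span (Set.range f) =
            (J.map (Ideal.Quotient.mk I)).map (algebraMap (A ⧸ I) (Localization.Away g))) :
    I ⊓ J ^ 2 = I * J := by
  apply le_antisymm
  · intro x hx
    rw [Submodule.mem_inf] at hx
    have hxI : x ∈ I := hx.1
    have hxJ2 : x ∈ J * J := by
      have := hx.2
      rwa [pow_two] at this
    have hxJ : x ∈ J := hIJ hxI
    have hπ : piR I J (cl I J ⟨x, hxJ⟩) = 0 := by
      rw [piR_cl]
      exact Ideal.Quotient.eq_zero_iff_mem.mpr hxI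
    have hmem := cl_mem I J ⟨x, hxJ⟩ hxJ2
    exact mem_of_cl_eq_zero I J ⟨x, hxJ⟩ (zero_of I J _ hπ hmem h)
  · intro x hx
    rw [Submodule.mem_inf]
    refine ⟨Ideal.mul_le_left hx, ?_⟩
    rw [pow_two]
    exact Ideal.mul_mono_left hIJ hx

end Groth.Agent.Lib.Helper26.H1Conormal
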