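import Mathlib
import Groth.Prelude.Def_HMNum
import Groth.Prelude.Def_ChGrp

/-!
# helper26 — conjugation invariance of the numerical function μ (S19786, S19791)
-/

set_option autoImplicit false
universe u

namespace Groth.Agent.Lib.Helper26.HMConj

open CategoryTheory CategoryTheory.Limits MonoidalCategory CartesianMonoidalCategory MonObj AlgebraicGeometry Opposite
open Magnet HMNum GLinSh

variable {S : Scheme.{u}} {G X V : Over S} [GrpObj G]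

section basics

lemma lift_gmAct (a : AlgGrp.Action G X) (l : Red.Gm S ⟶ G) [IsMonHom l] {T : Over S}
    (g : T ⟶ Red.Gm S) (z : T ⟶ X) :
    lift g z ≫ (gmAct a l).act = lift (g ≫ l) z ≫ a.act := by
  rw [MonAct.lift_restrict_act, MonAct.ofAction_act]

lemma comp_cst (h : 𝟙_ (Over S) ⟶ G) {T T' : Over S} (t : T' ⟶ T) :
    t ≫ (toUnit T ≫ h) = toUnit T' ≫ h := by
  rw [← Category.assoc, toUnit_unique (t ≫ toUnit T) (toUnit T')]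

lemma comp_conj (l l' : Red.Gm S ⟶ G) (h : 𝟙_ (Over S) ⟶ G)
    (hl' : l' = (toUnit _ ≫ h)⁻¹ * l * (toUnit _ ≫ h)) {T : Over S} (g : T ⟶ Red.Gm S) :
    g ≫ l' = (toUnit T ≫ h)⁻¹ * (g ≫ l) * (toUnit T ≫ h) := by
  rw [hl', MonObj.comp_mul, MonObj.comp_mul, GrpObj.comp_inv, comp_cst]

end basics

section limit

variable (a : AlgGrp.Action G X) (l l' : Red.Gm S ⟶ G) [IsMonHom l] [IsMonHom l']
  (h : 𝟙_ (Over S) ⟶ G) (hl' : l' = (toUnit _ ≫ h)⁻¹ * l * (toUnit _ ≫ h))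

include hl' in
/-- transport of limits: if `y = lim l(u)·x` then `h⁻¹·y = lim (h⁻¹ l h)(u)·(h⁻¹·x)` -/
theorem isLimitPt_conj {T : Over S} {x y : T ⟶ X} (hxy : IsLimitPt a l x y) :
    IsLimitPt a l' (lift (toUnit T ≫ h)⁻¹ x ≫ a.act) (lift (toUnit T ≫ h)⁻¹ y ≫ a.act) := by
  obtain ⟨φ, hx, hy⟩ := hxy
  have hφ := (MonAct.mem_eqvHom_iff φ.1).1 φ.2
  rw [limitPt_eq] at hy
  change lift (toUnit T ≫ η[AMonS S ↥plus]) (𝟙 T) ≫ φ.1 = x at hx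
  refine ⟨⟨lift (toUnit _ ≫ h)⁻¹ φ.1 ≫ a.act, ?_⟩, ?_, ?_⟩
  · rw [MonAct.mem_eqvHom_iff]
    intro T' g b t
    rw [comp_lift_assoc, hφ, lift_gmAct, lift_gmAct, comp_lift_assoc, ← a.lift_mul_act,
      ← a.lift_mul_act, GrpObj.comp_inv, GrpObj.comp_inv, comp_cst, comp_cst,
      comp_conj l l' h hl']
    congr 2
    group
  · change lift (toUnit T ≫ η[AMonS S ↥plus]) (𝟙 T) ≫ lift (toUnit _ ≫ h)⁻¹ φ.1 ≫ a.act = _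
    rw [comp_lift_assoc, hx, GrpObj.comp_inv, comp_cst]
  · rw [limitPt_eq]
    change lift (toUnit T ≫ origin S) (𝟙 T) ≫ lift (toUnit _ ≫ h)⁻¹ φ.1 ≫ a.act = _
    rw [comp_lift_assoc, hy, GrpObj.comp_inv, comp_cst]

end limit

section weight

lemma appLE_appLE_apply {X₁ Y₁ Z₁ : Scheme.{u}} (f : X₁ ⟶ Y₁) (g : Y₁ ⟶ Z₁) (U : Z₁.Opens) (V₁ : Y₁.Opens)
    (W : X₁.Opens) (e₁ : V₁ ≤ g ⁻¹ᵁ U) (e₂ : W ≤ f ⁻¹ᵁ V₁) (s : Γ(Z₁, U)) :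
    f.appLE V₁ W e₂ (g.appLE U V₁ e₁ s) =
      (f ≫ g).appLE U W (e₂.trans ((TopologicalSpace.Opens.map f.base).map (homOfLE e₁)).le) s := by
  rw [← Scheme.Hom.appLE_comp_appLE]
  rfl

lemma appLE_congr_hom {X₁ Y₁ : Scheme.{u}} {f f' : X₁ ⟶ Y₁} (e : f = f') (U : Y₁.Opens) (W : X₁.Opens)
    (h : W ≤ f ⁻¹ᵁ U) (h' : W ≤ f' ⁻¹ᵁ U) (s : Γ(Y₁, U)) : f.appLE U W h s = f'.appLE U W h' s := by
  subst e
  rfl

omit [GrpObj G] in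
lemma preimage_top_of_comp {T T' : Over S} (t : T' ⟶ T) (y : T ⟶ X) (U : X.left.Opens)
    (hU : y.left ⁻¹ᵁ U = ⊤) (z : T' ⟶ X) (hz : z = t ≫ y) : z.left ⁻¹ᵁ U = ⊤ := by
  subst hz
  change t.left ⁻¹ᵁ (y.left ⁻¹ᵁ U) = ⊤
  rw [hU]
  rfl

variable (a : AlgGrp.Action G X) (π : V ⟶ X)
  (chart : ∀ U : X.left.Opens, Set (Γ(V.left, π.left ⁻¹ᵁ U))) (Φ : AlgGrp.Action G V)
  (hπ : Φ.act ≫ π = (G ◁ π) ≫ a.act)

include hπ in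
lemma act_π {T : Over S} (g : T ⟶ G) (v : T ⟶ V) :
    (lift g v ≫ Φ.act) ≫ π = lift g (v ≫ π) ≫ a.act := by
  rw [Category.assoc, hπ, ← Category.assoc, lift_whiskerLeft]

omit [GrpObj G] in
lemma evalFn_congr {U : X.left.Opens} (y : Γ(V.left, π.left ⁻¹ᵁ U)) {T' : Over S} {v v' : T' ⟶ V}
    (e : v = v') (h : ⊤ ≤ v.left ⁻¹ᵁ (π.left ⁻¹ᵁ U)) (h' : ⊤ ≤ v'.left ⁻¹ᵁ (π.left ⁻¹ᵁ U)) :
    evalFn π y v h = evalFn π y v' h' := by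
  subst e
  rfl

variable (l l' : Red.Gm S ⟶ G) [IsMonHom l] [IsMonHom l']
  (h : 𝟙_ (Over S) ⟶ G) (hl' : l' = (toUnit _ ≫ h)⁻¹ * l * (toUnit _ ≫ h))

include hl' in
/-- a fixed point of `l` is carried by `h⁻¹` to a fixed point of `h⁻¹ l h` -/
theorem isFixedBy_conj {T : Over S} {y₀ : T ⟶ X} (hfix : IsFixedBy a l y₀) :
    IsFixedBy a l' (lift (toUnit T ≫ h)⁻¹ y₀ ≫ a.act) := by
  intro T' t g
  rw [comp_lift_assoc, GrpObj.comp_inv, comp_cst, ← a.lift_mul_act, comp_conj l l' h hl']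
  have e : (toUnit T' ≫ h)⁻¹ * (g ≫ l) * (toUnit T' ≫ h) * (toUnit T' ≫ h)⁻¹ =
      (toUnit T' ≫ h)⁻¹ * (g ≫ l) := by group
  rw [e, a.lift_mul_act, hfix T' t g]

include hπ hl' in
/-- transport of the weight on the fibre at a fixed point -/
theorem hasFibreWt_conj (hlin : IsLinearLift a π Φ chart hπ)
    (hcover : ∀ x : X.left, ∃ U : X.left.Opens, x ∈ U ∧ (chart U).Nonempty)
    {T : Over S} (p₀ : T.left) (hp₀ : ∀ q : T.left, q = p₀)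
    {y₀ : T ⟶ X} {w : ℤ} (H : HasFibreWt a π chart Φ l y₀ w) :
    HasFibreWt a π chart Φ l' (lift (toUnit T ≫ h)⁻¹ y₀ ≫ a.act) w := by
  obtain ⟨hfix, U, yc, hyc, hU, hw⟩ := H
  obtain ⟨U', hpU', yc', hyc'⟩ := hcover ((lift (toUnit T ≫ h)⁻¹ y₀ ≫ a.act).left.base p₀)
  have hU' : (lift (toUnit T ≫ h)⁻¹ y₀ ≫ a.act).left ⁻¹ᵁ U' = ⊤ := by
    rw [eq_top_iff]
    intro q _
    rw [hp₀ q]
    exact hpU'
  obtain ⟨c, hc⟩ := hlin U U' yc yc' hyc hyc'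
  refine ⟨isFixedBy_conj a l l' h hl' hfix, U', yc', hyc', hU', ?_⟩
  intro T' t g v' hv' hgv'
  -- the points `u₂ = h·v'` and `u₁ = l(g)·u₂`
  have hty : t ≫ lift (toUnit T ≫ h)⁻¹ y₀ ≫ a.act = lift (toUnit T' ≫ h)⁻¹ (t ≫ y₀) ≫ a.act := by
    rw [comp_lift_assoc, GrpObj.comp_inv, comp_cst]
  have hu₂π : (lift (toUnit T' ≫ h) v' ≫ Φ.act) ≫ π = t ≫ y₀ := by
    rw [act_π a π Φ hπ, hv', hty, ← a.lift_mul_act, mul_inv_cancel, a.lift_one_act]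
  have hu₁π : (lift (g ≫ l) (lift (toUnit T' ≫ h) v' ≫ Φ.act) ≫ Φ.act) ≫ π = t ≫ y₀ := by
    rw [act_π a π Φ hπ, hu₂π]
    exact hfix T' t g
  have key := hw T' t g (lift (toUnit T' ≫ h) v' ≫ Φ.act) hu₂π hu₁π
  -- the points `p_i = (h⁻¹, u_i)` of `G ⊗ V`
  have hp₂ : lift (toUnit T' ≫ h)⁻¹ (lift (toUnit T' ≫ h) v' ≫ Φ.act) ≫ Φ.act = v' := by
    rw [← Φ.lift_mul_act, inv_mul_cancel, Φ.lift_one_act]
  have hp₁ : lift (toUnit T' ≫ h)⁻¹ (lift (g ≫ l) (lift (toUnit T' ≫ h) v' ≫ Φ.act) ≫ Φ.act) ≫ Φ.act =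
      lift (g ≫ l') v' ≫ Φ.act := by
    rw [← Φ.lift_mul_act, ← Φ.lift_mul_act, comp_conj l l' h hl', _root_.mul_assoc]
  -- the value of the cocycle at `(h⁻¹, y₀)`
  have hC : ⊤ ≤ (lift (toUnit T' ≫ h)⁻¹ (t ≫ y₀)).left ⁻¹ᵁ
      (a.act.left ⁻¹ᵁ U' ⊓ (snd G X).left ⁻¹ᵁ U) := by
    have e1 : (lift (toUnit T' ≫ h)⁻¹ (t ≫ y₀)).left ⁻¹ᵁ (a.act.left ⁻¹ᵁ U') = ⊤ :=
      preimage_top_of_comp t _ U' hU' (lift (toUnit T' ≫ h)⁻¹ (t ≫ y₀) ≫ a.act) hty.symm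
    have e2 : (lift (toUnit T' ≫ h)⁻¹ (t ≫ y₀)).left ⁻¹ᵁ ((snd G X).left ⁻¹ᵁ U) = ⊤ :=
      preimage_top_of_comp t y₀ U hU (lift (toUnit T' ≫ h)⁻¹ (t ≫ y₀) ≫ snd G X) (lift_snd _ _)
    change ⊤ ≤ (lift (toUnit T' ≫ h)⁻¹ (t ≫ y₀)).left ⁻¹ᵁ (a.act.left ⁻¹ᵁ U') ⊓
      (lift (toUnit T' ≫ h)⁻¹ (t ≫ y₀)).left ⁻¹ᵁ ((snd G X).left ⁻¹ᵁ U)
    rw [e1, e2, inf_idem]
  have main : ∀ (u : T' ⟶ V) (hu : u ≫ π = t ≫ y₀)
      (h1 : ⊤ ≤ (lift (toUnit T' ≫ h)⁻¹ u ≫ Φ.act).left ⁻¹ᵁ (π.left ⁻¹ᵁ U'))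
      (h2 : ⊤ ≤ u.left ⁻¹ᵁ (π.left ⁻¹ᵁ U)),
      evalFn π yc' (lift (toUnit T' ≫ h)⁻¹ u ≫ Φ.act) h1 =
        (lift (toUnit T' ≫ h)⁻¹ (t ≫ y₀)).left.appLE _ ⊤ hC c * evalFn π yc u h2 := by
    intro u hu h1 h2
    have hpπ : lift (toUnit T' ≫ h)⁻¹ u ≫ (G ◁ π) = lift (toUnit T' ≫ h)⁻¹ (t ≫ y₀) := by
      rw [lift_whiskerLeft, hu]
    have hLO : ⊤ ≤ (lift (toUnit T' ≫ h)⁻¹ u).left ⁻¹ᵁ liftOpen a π U U' := by
      have e1 : (lift (toUnit T' ≫ h)⁻¹ u).left ⁻¹ᵁ (((G ◁ π) ≫ a.act).left ⁻¹ᵁ U') = ⊤ :=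
        preimage_top_of_comp t _ U' hU' (lift (toUnit T' ≫ h)⁻¹ u ≫ (G ◁ π) ≫ a.act)
          (by rw [← Category.assoc, hpπ, hty])
      have e2 : (lift (toUnit T' ≫ h)⁻¹ u).left ⁻¹ᵁ (((G ◁ π) ≫ snd G X).left ⁻¹ᵁ U) = ⊤ :=
        preimage_top_of_comp t y₀ U hU (lift (toUnit T' ≫ h)⁻¹ u ≫ (G ◁ π) ≫ snd G X)
          (by rw [← Category.assoc, hpπ, lift_snd])
      change ⊤ ≤ (lift (toUnit T' ≫ h)⁻¹ u).left ⁻¹ᵁ (((G ◁ π) ≫ a.act).left ⁻¹ᵁ U') ⊓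
        (lift (toUnit T' ≫ h)⁻¹ u).left ⁻¹ᵁ (((G ◁ π) ≫ snd G X).left ⁻¹ᵁ U)
      rw [e1, e2, inf_idem]
    have hev := congrArg (fun s => (lift (toUnit T' ≫ h)⁻¹ u).left.appLE (liftOpen a π U U') ⊤ hLO s) hc
    simp only [map_mul] at hev
    rw [appLE_appLE_apply, appLE_appLE_apply, appLE_appLE_apply] at hev
    refine Eq.trans ?_ (hev.trans ?_)
    · rfl
    · congr 1
      · exact appLE_congr_hom (congrArg Over.Hom.left hpπ) _ _ _ _ c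
      · exact appLE_congr_hom (congrArg Over.Hom.left (lift_snd (toUnit T' ≫ h)⁻¹ u)) _ _ _ _ yc
  have h1₁ : ⊤ ≤ (lift (toUnit T' ≫ h)⁻¹ (lift (g ≫ l) (lift (toUnit T' ≫ h) v' ≫ Φ.act) ≫ Φ.act) ≫
      Φ.act).left ⁻¹ᵁ (π.left ⁻¹ᵁ U') := by
    rw [hp₁]
    exact top_le_preimage π hU' hgv'
  have h1₂ : ⊤ ≤ (lift (toUnit T' ≫ h)⁻¹ (lift (toUnit T' ≫ h) v' ≫ Φ.act) ≫
      Φ.act).left ⁻¹ᵁ (π.left ⁻¹ᵁ U') := by
    rw [hp₂]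
    exact top_le_preimage π hU' hv'
  rw [evalFn_congr π yc' hp₁.symm _ h1₁, main _ hu₁π h1₁ (top_le_preimage π hU hu₁π), key,
    evalFn_congr π yc' hp₂.symm _ h1₂, main _ hu₂π h1₂ (top_le_preimage π hU hu₂π)]
  exact mul_left_comm _ _ _

end weight

section main

theorem isMonHom_of_hom {C : Type*} [Category C] [CartesianMonoidalCategory C] {M N : C} [MonObj M] [MonObj N]
    (f : M ⟶ N) (h1 : ∀ X : C, (1 : X ⟶ M) ≫ f = 1)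
    (hm : ∀ (X : C) (a b : X ⟶ M), (a * b) ≫ f = a ≫ f * b ≫ f) : IsMonHom f where
  one_hom := by
    have h := h1 (𝟙_ C)
    rw [Hom.one_def, Hom.one_def] at h
    have e : toUnit (𝟙_ C) = 𝟙 _ := toUnit_unique _ _
    rw [e, Category.id_comp, Category.id_comp] at h
    exact h
  mul_hom := by
    have h := hm (M ⊗ M) (fst M M) (snd M M)
    rw [Hom.mul_def, Hom.mul_def, lift_fst_snd, Category.id_comp] at h
    rw [h]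
    congr 1
    ext <;> simp

/-- the conjugate of a one-parameter subgroup by a constant point is a homomorphism -/
theorem isMonHom_conj (l : Red.Gm S ⟶ G) [IsMonHom l] (H : 𝟙_ (Over S) ⟶ G) :
    IsMonHom ((toUnit _ ≫ H)⁻¹ * l * (toUnit _ ≫ H)) := by
  apply isMonHom_of_hom
  · intro T
    rw [MonObj.comp_mul, MonObj.comp_mul, GrpObj.comp_inv, comp_cst, MonObj.one_comp]
    group
  · intro T p q
    rw [MonObj.comp_mul, MonObj.comp_mul, GrpObj.comp_inv, comp_cst, MonObj.mul_comp,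
      MonObj.comp_mul, MonObj.comp_mul, GrpObj.comp_inv, comp_cst,
      MonObj.comp_mul, MonObj.comp_mul, GrpObj.comp_inv, comp_cst]
    group

variable (a : AlgGrp.Action G X) (π : V ⟶ X)
  (chart : ∀ U : X.left.Opens, Set (Γ(V.left, π.left ⁻¹ᵁ U))) (Φ : AlgGrp.Action G V)
  (hπ : Φ.act ≫ π = (G ◁ π) ≫ a.act)
  (l l' : Red.Gm S ⟶ G) [IsMonHom l] [IsMonHom l']
  (g₀ : 𝟙_ (Over S) ⟶ G) (hl' : l' = (toUnit _ ≫ g₀)⁻¹ * l * (toUnit _ ≫ g₀))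

include hπ hl' in
theorem main (hlin : IsLinearLift a π Φ chart hπ)
    (hcover : ∀ x : X.left, ∃ U : X.left.Opens, x ∈ U ∧ (chart U).Nonempty)
    {T : Over S} (p₀ : T.left) (hp₀ : ∀ q : T.left, q = p₀) (x : T ⟶ X) (m : ℤ) :
    IsMuOf a π chart Φ l (lift (toUnit T ≫ g₀) x ≫ a.act) m ↔ IsMuOf a π chart Φ l' x m := by
  have hl : l = (toUnit _ ≫ g₀⁻¹)⁻¹ * l' * (toUnit _ ≫ g₀⁻¹) := by
    rw [hl', GrpObj.comp_inv]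
    group
  constructor
  · rintro ⟨y, h1, h2⟩
    refine ⟨lift (toUnit T ≫ g₀)⁻¹ y ≫ a.act, ?_, hasFibreWt_conj a π chart Φ hπ l l' g₀ hl' hlin hcover p₀ hp₀ h2⟩
    have h3 := isLimitPt_conj a l l' g₀ hl' h1
    rwa [← a.lift_mul_act, inv_mul_cancel, a.lift_one_act] at h3
  · rintro ⟨y, h1, h2⟩
    have e : (toUnit T ≫ g₀⁻¹)⁻¹ = toUnit T ≫ g₀ := by rw [GrpObj.comp_inv, inv_inv]
    refine ⟨lift (toUnit T ≫ g₀) y ≫ a.act, ?_, ?_⟩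
    · have h3 := isLimitPt_conj a l' l g₀⁻¹ hl h1
      rwa [e] at h3
    · have h3 := hasFibreWt_conj a π chart Φ hπ l' l g₀⁻¹ hl hlin hcover p₀ hp₀ h2
      rwa [e] at h3

end main

end Groth.Agent.Lib.Helper26.HMConj
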