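import Mathlib
import Groth.Prelude.Def_HMNum
import Groth.Agent.S18285

/-!
# helper26 — limits of one-parameter orbits: uniqueness, the limit is fixed, fixed points are their own limit
-/

set_option autoImplicit false
universe u

namespace Groth.Agent.Lib.Helper26.HMLim

open CategoryTheory CategoryTheory.Limits MonoidalCategory CartesianMonoidalCategory MonObj AlgebraicGeometry Opposite
open Magnet HMNum

variable {S : Scheme.{u}}

section trivialMonoid

/-- the structure map of `A({0})_ℤ` is an isomorphism -/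
instance isIso_AMon_bot (R : Type u) [CommRing R] :
    IsIso (AMon R ↥(⊥ : AddSubmonoid ℤ)).hom := by
  have hid : (Algebra.ofId R (MonoidAlgebra R (Multiplicative ↥(⊥ : AddSubmonoid ℤ)))).comp
      (Bialgebra.counitAlgHom R (MonoidAlgebra R (Multiplicative ↥(⊥ : AddSubmonoid ℤ)))) =
      AlgHom.id R _ := by
    refine MonoidAlgebra.algHom_ext (fun m => ?_) (Subsingleton.elim _ _)
    have hm : m = 1 := by
      have hsub : ∀ p q : ↥(⊥ : AddSubmonoid ℤ), p = q := fun p q =>
        Subtype.ext ((AddSubmonoid.mem_bot.1 p.2).trans (AddSubmonoid.mem_bot.1 q.2).symm)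
      exact Multiplicative.toAdd.injective (hsub _ _)
    subst hm
    simp
  have hb : Function.Bijective (algebraMap R (MonoidAlgebra R (Multiplicative ↥(⊥ : AddSubmonoid ℤ)))) := by
    constructor
    · intro r s h
      have := congrArg (Bialgebra.counitAlgHom R (MonoidAlgebra R (Multiplicative ↥(⊥ : AddSubmonoid ℤ)))) h
      simpa using this
    · intro f
      refine ⟨Bialgebra.counitAlgHom R _ f, ?_⟩
      exact congrArg (fun φ => φ f) hid
  let e := (RingEquiv.ofBijective _ hb).toCommRingCatIso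
  change IsIso (Spec.map (CommRingCat.ofHom (algebraMap R _)))
  exact inferInstanceAs (IsIso (Scheme.Spec.mapIso e.op).hom)

instance isIso_AMonS_bot : IsIso (AMonS S ↥(⊥ : AddSubmonoid ℤ)).hom := by
  change IsIso (pullback.snd _ _)
  infer_instance

lemma hom_AMonS_bot_ext {T : Over S} (p q : T ⟶ AMonS S ↥(⊥ : AddSubmonoid ℤ)) : p = q := by
  apply Over.OverMorphism.ext
  rw [← cancel_mono (AMonS S ↥(⊥ : AddSubmonoid ℤ)).hom, Over.w p, Over.w q]

end trivialMonoid

section limits

variable {G X : Over S} [GrpObj G] (a : AlgGrp.Action G X) (l : Red.Gm S ⟶ G) [IsMonHom l]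

/-- the origin of the affine line is absorbing for the action of the multiplicative group -/
lemma smul_origin {T : Over S} (g : T ⟶ Red.Gm S) :
    lift g (toUnit T ≫ origin S) ≫ (subAct S ℤ plus).act = toUnit T ≫ origin S := by
  have h := (MonAct.isEquivariant_iff _ _ _).1 (isEquivariant_faceMapS S (M := ℤ) isFace_bot) T g
    (toUnit T ≫ η[AMonS S ↥(⊥ : AddSubmonoid ℤ)])
  unfold origin
  rw [← Category.assoc (toUnit T), ← h]
  rw [← Category.assoc]
  congr 1
  exact hom_AMonS_bot_ext _ _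

omit [IsMonHom l] in
lemma lift_gmAct [IsMonHom l] {T : Over S} (g : T ⟶ Red.Gm S) (z : T ⟶ X) :
    lift g z ≫ (gmAct a l).act = lift (g ≫ l) z ≫ a.act := by
  rw [MonAct.lift_restrict_act, MonAct.ofAction_act]

/-- a limit point is fixed -/
theorem isFixedBy_of_isLimitPt {T : Over S} {x y : T ⟶ X} (h : IsLimitPt a l x y) :
    IsFixedBy a l y := by
  obtain ⟨φ, -, hy⟩ := h
  rw [limitPt_eq] at hy
  have hφ := (MonAct.mem_eqvHom_iff φ.1).1 φ.2
  intro T' t g
  have e1 : t ≫ y = lift (toUnit T' ≫ origin S) t ≫ φ.1 := by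
    rw [← hy, ← Category.assoc, comp_lift, Category.comp_id, ← Category.assoc,
      toUnit_unique (t ≫ toUnit T) (toUnit T')]
  rw [e1, ← lift_gmAct, ← hφ, smul_origin]

/-- a fixed point is its own limit -/
theorem isLimitPt_self {T : Over S} {y : T ⟶ X} (h : IsFixedBy a l y) : IsLimitPt a l y y := by
  refine ⟨⟨snd _ _ ≫ y, ?_⟩, ?_, ?_⟩
  · rw [MonAct.mem_eqvHom_iff]
    intro T' g b t
    rw [lift_snd_assoc, lift_snd_assoc, lift_gmAct, h]
  · change lift (toUnit T ≫ η[AMonS S ↥plus]) (𝟙 T) ≫ snd _ _ ≫ y = y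
    rw [lift_snd_assoc, Category.id_comp]
  · rw [limitPt_eq]
    change lift (toUnit T ≫ origin S) (𝟙 T) ≫ snd _ _ ≫ y = y
    rw [lift_snd_assoc, Category.id_comp]

/-- limits are unique in a separated scheme -/
theorem isLimitPt_unique [IsSeparated X.hom] {T : Over S} {x y y' : T ⟶ X}
    (h : IsLimitPt a l x y) (h' : IsLimitPt a l x y') : y = y' := by
  obtain ⟨φ, hx, hy⟩ := h
  obtain ⟨φ', hx', hy'⟩ := h'
  have : φ = φ' := Groth.Agent.S18285.result S ℤ X (gmAct a l) plus T (hx.trans hx'.symm)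
  subst this
  exact hy.symm.trans hy'

end limits

theorem main {G X V : Over S} [GrpObj G] [IsSeparated X.hom] (a : AlgGrp.Action G X) (π : V ⟶ X)
    (chart : ∀ U : X.left.Opens, Set (Γ(V.left, π.left ⁻¹ᵁ U))) (Φ : AlgGrp.Action G V)
    (l : Red.Gm S ⟶ G) [IsMonHom l] {T : Over S} (x y : T ⟶ X) (hy : IsLimitPt a l x y) (m : ℤ) :
    IsMuOf a π chart Φ l x m ↔ IsMuOf a π chart Φ l y m := by
  have hself : IsLimitPt a l y y := isLimitPt_self a l (isFixedBy_of_isLimitPt a l hy)
  constructor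
  · rintro ⟨y', h1, h2⟩
    obtain rfl := isLimitPt_unique a l hy h1
    exact ⟨y, hself, h2⟩
  · rintro ⟨y'', h1, h2⟩
    obtain rfl := isLimitPt_unique a l hself h1
    exact ⟨y, hy, h2⟩

end Groth.Agent.Lib.Helper26.HMLim
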