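import Mathlib
import Groth.Prelude.Def_HMNum
import Groth.Prelude.Def_ChGrp
import Groth.Agent.Lib.Helper26.HMLim
import Groth.Agent.Lib.Helper26.HMConj
import Groth.Agent.Lib.Helper3.MagKey2

/-!
# helper26 — μ(x, λ) = μ(γ·x, λ) for γ in the parabolic subgroup P(λ) (S19785)
-/

set_option autoImplicit false
universe u

namespace Groth.Agent.Lib.Helper26.HMPar

open CategoryTheory CategoryTheory.Limits MonoidalCategory CartesianMonoidalCategory MonObj AlgebraicGeometry Opposite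
open Magnet HMNum GLinSh
open Groth.Agent.Lib.Helper26

variable {S : Scheme.{u}} {G X V : Over S} [GrpObj G]

section identity

variable (l : Red.Gm S ⟶ G) [IsMonHom l] (g₀ : 𝟙_ (Over S) ⟶ G) (f : A1 S ⟶ G)
  (hf : incl S ≫ f = l * (toUnit _ ≫ g₀) * l⁻¹)

include hf in
lemma f_incl {T : Over S} (v : T ⟶ Red.Gm S) :
    (v ≫ incl S) ≫ f = (v ≫ l) * (toUnit T ≫ g₀) * (v ≫ l)⁻¹ := by
  rw [Category.assoc, hf, MonObj.comp_mul, MonObj.comp_mul, GrpObj.comp_inv, HMConj.comp_cst]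

lemma smul_eq {T : Over S} (u : T ⟶ Red.Gm S) (b : T ⟶ A1 S) :
    lift u b ≫ (subAct S ℤ plus).act = (u ≫ incl S) * b := by
  rw [subAct, MonAct.lift_restrict_act, MonAct.lift_regular_act]

include hf in
theorem key_identity [IsSeparated G.hom] {T : Over S} (u : T ⟶ Red.Gm S) (b : T ⟶ A1 S) :
    (((u ≫ incl S) * b) ≫ f) * (u ≫ l) = (u ≫ l) * (b ≫ f) := by
  let E₁ : A1 S ⊗ Red.Gm S ⟶ G :=
    (((snd (A1 S) (Red.Gm S) ≫ incl S) * fst (A1 S) (Red.Gm S)) ≫ f) * (snd (A1 S) (Red.Gm S) ≫ l)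
  let E₂ : A1 S ⊗ Red.Gm S ⟶ G :=
    (snd (A1 S) (Red.Gm S) ≫ l) * (fst (A1 S) (Red.Gm S) ≫ f)
  have hE : E₁ = E₂ := by
    refine Groth.Agent.Lib.Helper3.MagKey.ext_of_whiskerRight S (AddSubmonoid.subtype plus)
      Subtype.val_injective (Red.Gm S) G E₁ E₂ ?_
    apply Magnet.hom_ext_lift₂
    intro T' v w
    have e1 : lift v w ≫ (AMonS.map S (AddSubmonoid.subtype plus) ▷ Red.Gm S) =
        lift (v ≫ incl S) w := lift_whiskerRight _ _ _
    rw [← Category.assoc, ← Category.assoc, e1]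
    simp only [E₁, E₂, MonObj.comp_mul, ← Category.assoc, lift_fst, lift_snd]
    have e2 : (w ≫ incl S) * (v ≫ incl S) = (w * v) ≫ incl S := (MonObj.mul_comp w v (incl S)).symm
    rw [e2, f_incl l g₀ f hf, f_incl l g₀ f hf, MonObj.mul_comp]
    group
  have h := congrArg (fun E => lift b u ≫ E) hE
  simp only [E₁, E₂, MonObj.comp_mul, ← Category.assoc, lift_fst, lift_snd] at h
  exact h

end identity

section transport

variable (l : Red.Gm S ⟶ G) [IsMonHom l] (g₀ : 𝟙_ (Over S) ⟶ G) (f : A1 S ⟶ G)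
  (hf : incl S ≫ f = l * (toUnit _ ≫ g₀) * l⁻¹)

include hf in
/-- the value of `f` at the unit of the affine line is `g₀` -/
lemma one_f : η[A1 S] ≫ f = g₀ := by
  have h1 : η[Red.Gm S] ≫ incl S = η[A1 S] := IsMonHom.one_hom (incl S)
  rw [← h1, f_incl l g₀ f hf, IsMonHom.one_hom l]
  have e : toUnit (𝟙_ (Over S)) = 𝟙 _ := toUnit_unique _ _
  rw [e, Category.id_comp]
  have h2 : η[G] = (1 : 𝟙_ (Over S) ⟶ G) := by
    rw [Hom.one_def, e, Category.id_comp]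
  rw [h2]
  group

include hf in
/-- `f(0)` centralises `l` -/
theorem central [IsSeparated G.hom] {T : Over S} (u : T ⟶ Red.Gm S) :
    (toUnit T ≫ origin S ≫ f) * (u ≫ l) = (u ≫ l) * (toUnit T ≫ origin S ≫ f) := by
  have h := key_identity l g₀ f hf u (toUnit T ≫ origin S)
  rw [← smul_eq, HMLim.smul_origin, Category.assoc] at h
  simpa only [Category.assoc] using h

variable (a : AlgGrp.Action G X)

include hf in
/-- if `y = lim l(u)·x` and `g₀ ∈ P(l)` then `f(0)·y = lim l(u)·(g₀·x)` -/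
theorem isLimitPt_par [IsSeparated G.hom] {T : Over S} {x y : T ⟶ X} (hxy : IsLimitPt a l x y) :
    IsLimitPt a l (lift (toUnit T ≫ g₀) x ≫ a.act) (lift (toUnit T ≫ origin S ≫ f) y ≫ a.act) := by
  obtain ⟨φ, hx, hy⟩ := hxy
  have hφ := (MonAct.mem_eqvHom_iff φ.1).1 φ.2
  rw [limitPt_eq] at hy
  change lift (toUnit T ≫ η[AMonS S ↥plus]) (𝟙 T) ≫ φ.1 = x at hx
  refine ⟨⟨lift (fst _ _ ≫ f) φ.1 ≫ a.act, ?_⟩, ?_, ?_⟩
  · rw [MonAct.mem_eqvHom_iff]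
    intro T' u b t
    rw [comp_lift_assoc, ← Category.assoc, lift_fst, hφ, HMConj.lift_gmAct, HMConj.lift_gmAct,
      comp_lift_assoc, ← Category.assoc, lift_fst, ← a.lift_mul_act, ← a.lift_mul_act, smul_eq,
      key_identity l g₀ f hf]
  · change lift (toUnit T ≫ η[AMonS S ↥plus]) (𝟙 T) ≫ lift (fst _ _ ≫ f) φ.1 ≫ a.act = _
    rw [comp_lift_assoc, hx, ← Category.assoc, lift_fst, Category.assoc, one_f l g₀ f hf]
  · rw [limitPt_eq]
    change lift (toUnit T ≫ origin S) (𝟙 T) ≫ lift (fst _ _ ≫ f) φ.1 ≫ a.act = _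
    rw [comp_lift_assoc, hy, ← Category.assoc, lift_fst, Category.assoc]

variable (π : V ⟶ X)
  (chart : ∀ U : X.left.Opens, Set (Γ(V.left, π.left ⁻¹ᵁ U))) (Φ : AlgGrp.Action G V)
  (hπ : Φ.act ≫ π = (G ◁ π) ≫ a.act)

include hf hπ in
theorem isMuOf_par [IsSeparated G.hom] (hlin : IsLinearLift a π Φ chart hπ)
    (hcover : ∀ x : X.left, ∃ U : X.left.Opens, x ∈ U ∧ (chart U).Nonempty)
    {T : Over S} (p₀ : T.left) (hp₀ : ∀ q : T.left, q = p₀) (x : T ⟶ X) (m : ℤ)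
    (H : IsMuOf a π chart Φ l x m) :
    IsMuOf a π chart Φ l (lift (toUnit T ≫ g₀) x ≫ a.act) m := by
  obtain ⟨y, h1, h2⟩ := H
  refine ⟨lift (toUnit T ≫ origin S ≫ f) y ≫ a.act, isLimitPt_par l g₀ f hf a h1, ?_⟩
  have hc : l = (toUnit _ ≫ (origin S ≫ f)⁻¹)⁻¹ * l * (toUnit _ ≫ (origin S ≫ f)⁻¹) := by
    rw [GrpObj.comp_inv, inv_inv]
    have h3 := central l g₀ f hf (𝟙 (Red.Gm S))
    rw [Category.id_comp] at h3
    rw [h3]
    group
  have h4 := HMConj.hasFibreWt_conj a π chart Φ hπ l l (origin S ≫ f)⁻¹ hc hlin hcover p₀ hp₀ h2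
  rw [GrpObj.comp_inv, inv_inv] at h4
  exact h4

end transport

theorem main [IsSeparated G.hom] (a : AlgGrp.Action G X) (π : V ⟶ X)
    (chart : ∀ U : X.left.Opens, Set (Γ(V.left, π.left ⁻¹ᵁ U))) (Φ : AlgGrp.Action G V)
    (hπ : Φ.act ≫ π = (G ◁ π) ≫ a.act) (hlin : IsLinearLift a π Φ chart hπ)
    (hcover : ∀ x : X.left, ∃ U : X.left.Opens, x ∈ U ∧ (chart U).Nonempty)
    {T : Over S} (p₀ : T.left) (hp₀ : ∀ q : T.left, q = p₀)
    (l l' : Red.Gm S ⟶ G) [IsMonHom l] [IsMonHom l'] (g₀ : 𝟙_ (Over S) ⟶ G) (f : A1 S ⟶ G)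
    (hf : incl S ≫ f = l * (toUnit _ ≫ g₀) * l⁻¹)
    (hl' : l' = (toUnit _ ≫ g₀)⁻¹ * l * (toUnit _ ≫ g₀)) (x : T ⟶ X) (m : ℤ) :
    IsMuOf a π chart Φ l x m ↔ IsMuOf a π chart Φ l' x m := by
  rw [← HMConj.main a π chart Φ hπ l l' g₀ hl' hlin hcover p₀ hp₀ x m]
  constructor
  · exact isMuOf_par l g₀ f hf a π chart Φ hπ hlin hcover p₀ hp₀ x m
  · intro H
    have hf' : incl S ≫ f⁻¹ = l * (toUnit _ ≫ g₀⁻¹) * l⁻¹ := by
      rw [GrpObj.comp_inv, hf, GrpObj.comp_inv]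
      group
    have h5 := isMuOf_par l g₀⁻¹ f⁻¹ hf' a π chart Φ hπ hlin hcover p₀ hp₀ _ m H
    rwa [← a.lift_mul_act, GrpObj.comp_inv, inv_mul_cancel, a.lift_one_act] at h5

end Groth.Agent.Lib.Helper26.HMPar
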