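import Mathlib
import Groth.Agent.Lib.Helper3.GQFinal

/-!
# Norms for `RDual` and the orbit lemma (ring level)  (helper26)
-/

set_option autoImplicit false
universe u

namespace Groth.Agent.Lib.Helper26.HQ1

open Matrix Groth.Agent.Lib.Helper3.GQ

section Nrm

variable {A B : Type u} [CommRing A] [CommRing B] {f : A →+* B} {n : ℕ} (D : RDual f n)

/-- matrix of multiplication by `b` -/
def mat (b : B) : Matrix (Fin n) (Fin n) A := Matrix.of fun j k => D.ι j (b * D.p k)

theorem mat_add (b c : B) : mat D (b + c) = mat D b + mat D c := by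
  ext j k
  simp [mat, add_mul, D.ι_add]

theorem mat_one : mat D 1 = D.E := by
  ext j k
  simp [mat, RDual.E]

theorem mat_map_mul (a : A) (b : B) : mat D (f a * b) = a • mat D b := by
  ext j k
  simp [mat, mul_assoc, D.ι_smul]

theorem mat_map (a : A) : mat D (f a) = a • D.E := by
  have := mat_map_mul D a 1
  rwa [mul_one, mat_one] at this

theorem mat_mul_mat (b c : B) : mat D b * mat D c = mat D (b * c) := by
  ext j l
  simp only [Matrix.mul_apply, mat, Matrix.of_apply]
  have h1 : b * c * D.p l = ∑ k, f (D.ι k (c * D.p l)) * (b * D.p k) := by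
    conv_lhs => rw [mul_assoc, ← D.repr (c * D.p l), Finset.mul_sum]
    refine Finset.sum_congr rfl fun k _ => ?_
    ring
  conv_rhs => rw [h1, D.ι_sum]
  refine Finset.sum_congr rfl fun k _ => ?_
  rw [D.ι_smul, mul_comm]

theorem mat_mulVec_coord (b x : B) : mat D b *ᵥ D.coord x = D.coord (b * x) := by
  ext j
  simp only [mulVec, dotProduct, mat, RDual.coord, Matrix.of_apply]
  have h1 : b * x = ∑ k, f (D.ι k x) * (b * D.p k) := by
    conv_lhs => rw [← D.repr x, Finset.mul_sum]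
    refine Finset.sum_congr rfl fun k _ => ?_
    ring
  conv_rhs => rw [h1, D.ι_sum]
  refine Finset.sum_congr rfl fun k _ => ?_
  rw [D.ι_smul, mul_comm]

/-- the norm -/
noncomputable def nrm (b : B) : A := (1 - mat D 1 + mat D b).det

theorem key_mul (b c : B) :
    (1 - mat D 1 + mat D b) * (1 - mat D 1 + mat D c) = 1 - mat D 1 + mat D (b * c) := by
  have hE : mat D 1 * mat D 1 = mat D 1 := by rw [mat_mul_mat, one_mul]
  have h1 : mat D 1 * mat D c = mat D c := by rw [mat_mul_mat, one_mul]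
  have h2 : mat D b * mat D 1 = mat D b := by rw [mat_mul_mat, mul_one]
  have h3 := mat_mul_mat D b c
  simp only [add_mul, mul_add, sub_mul, mul_sub, one_mul, mul_one, hE, h1, h2, h3]
  abel

theorem nrm_mul (b c : B) : nrm D (b * c) = nrm D b * nrm D c := by
  rw [nrm, nrm, nrm, ← Matrix.det_mul, key_mul]

theorem nrm_one : nrm D 1 = 1 := by
  rw [nrm, sub_add_cancel, Matrix.det_one]

/-- `f (nrm b)` is a multiple of `b`. -/
theorem map_nrm_mem (b : B) : ∃ y : B, f (nrm D b) = b * y := by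
  set M := 1 - mat D 1 + mat D b with hM
  let v : Fin n → A := M.adjugate *ᵥ D.coord 1
  have hv : M *ᵥ v = M.det • D.coord 1 := by
    rw [Matrix.mulVec_mulVec, Matrix.mul_adjugate, Matrix.smul_mulVec, Matrix.one_mulVec]
  have hE : mat D 1 *ᵥ (M *ᵥ v) = mat D b *ᵥ v := by
    rw [Matrix.mulVec_mulVec, hM, mul_add, mul_sub, mul_one, mat_mul_mat, one_mul, sub_self,
      zero_add, mat_mul_mat, one_mul]
  let y : B := ∑ k, f (v k) * D.p k
  have hy : mat D b *ᵥ v = D.coord (b * y) := by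
    ext j
    simp only [mulVec, dotProduct, mat, Matrix.of_apply, RDual.coord, y, Finset.mul_sum]
    rw [D.ι_sum]
    refine Finset.sum_congr rfl fun k _ => ?_
    have : b * (f (v k) * D.p k) = f (v k) * (b * D.p k) := by ring
    rw [this, D.ι_smul, mul_comm]
  refine ⟨y, ?_⟩
  apply D.coord_injective
  rw [← hy, ← hE, hv, Matrix.mulVec_smul, mat_mulVec_coord, one_mul]
  have : f M.det = f M.det * 1 := by rw [mul_one]
  rw [show nrm D b = M.det from rfl, this, D.coord_smul]

theorem nrm_map_mul_det (s : A) : nrm D (f s) * (s • (1 - D.E) + D.E).det = s ^ n := by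
  rw [nrm, mat_map, mat_one, ← Matrix.det_mul]
  have hEE := D.E_mul_E
  have : (1 - D.E + s • D.E) * (s • (1 - D.E) + D.E) = s • (1 : Matrix (Fin n) (Fin n) A) := by
    simp only [add_mul, mul_add, sub_mul, mul_sub, one_mul, mul_one, Matrix.smul_mul,
      Matrix.mul_smul, hEE, smul_sub, sub_self, smul_zero]
    abel_nf
  rw [this, Matrix.det_smul, Matrix.det_one, mul_one, Fintype.card_fin]

/-- congruence of norms modulo an ideal -/
theorem nrm_sub_mem (q : Ideal A) (b b' : B) (h : b - b' ∈ Ideal.map f q) :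
    nrm D b - nrm D b' ∈ q := by
  have key : ∀ z ∈ Ideal.map f q, ∀ (w : B) j, D.ι j (z * w) ∈ q := by
    intro z hz
    refine Submodule.span_induction (p := fun z _ => ∀ (w : B) j, D.ι j (z * w) ∈ q)
      ?_ ?_ ?_ ?_ hz
    · rintro _ ⟨a, ha, rfl⟩ w j
      have : D.ι j (f a * w) = a * D.ι j w := D.ι_smul j a _
      rw [this]
      exact q.mul_mem_right _ ha
    · intro w j
      simp [D.ι_zero]
    · intro x y _ _ hx hy w j
      rw [add_mul, D.ι_add]
      exact q.add_mem (hx w j) (hy w j)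
    · intro c x _ hx w j
      rw [smul_eq_mul, mul_comm c x, mul_assoc]
      exact hx _ j
  rw [← Ideal.Quotient.eq, nrm, nrm, RingHom.map_det, RingHom.map_det]
  congr 1
  ext j k
  simp only [RingHom.mapMatrix_apply, Matrix.map_apply, Matrix.add_apply, Matrix.sub_apply,
    map_add, map_sub]
  congr 1
  rw [Ideal.Quotient.eq]
  have : mat D b j k - mat D b' j k = D.ι j ((b - b') * D.p k) := by
    have e : b = (b - b') + b' := by ring
    conv_lhs => rw [e]
    simp only [mat, Matrix.of_apply, add_mul, D.ι_add]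
    ring
  rw [this]
  exact key _ h _ j

/-- The norm of `b` lies in a prime `q` iff `b` lies in a prime over `q`. -/
theorem nrm_mem_iff (q : Ideal A) [hq : q.IsPrime] (b : B) :
    nrm D b ∈ q ↔ ∃ r : Ideal B, r.IsPrime ∧ r.comap f = q ∧ b ∈ r := by
  constructor
  · intro hb
    let J : Ideal B := Ideal.span {b} ⊔ Ideal.map f q
    let S : Submonoid B := q.primeCompl.map f
    have hdisj : Disjoint (J : Set B) (S : Set B) := by
      rw [Set.disjoint_left]
      rintro x hxJ ⟨s, hs, rfl⟩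
      obtain ⟨u, hu, z, hz, huz⟩ := Submodule.mem_sup.1 hxJ
      obtain ⟨y, rfl⟩ := Ideal.mem_span_singleton'.1 hu
      have h1 : nrm D (f s) - nrm D (y * b) ∈ q := by
        apply nrm_sub_mem
        rw [← huz]
        simpa using hz
      have h2 : nrm D (y * b) ∈ q := by
        rw [nrm_mul]
        exact q.mul_mem_left _ hb
      have h3 : nrm D (f s) ∈ q := by
        have := q.add_mem h1 h2
        simpa using this
      have h4 : s ^ n ∈ q := by
        rw [← nrm_map_mul_det D s]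
        exact q.mul_mem_right _ h3
      exact hs (hq.mem_of_pow_mem _ h4)
    obtain ⟨r, hr, hJr, hrS⟩ := Ideal.exists_le_prime_disjoint J S hdisj
    refine ⟨r, hr, ?_, ?_⟩
    · apply le_antisymm
      · intro a ha
        by_contra haq
        exact Set.disjoint_left.1 hrS ha ⟨a, haq, rfl⟩
      · rw [← Ideal.map_le_iff_le_comap]
        exact le_trans le_sup_right hJr
    · exact hJr (Ideal.mem_sup_left (Ideal.subset_span rfl))
  · rintro ⟨r, hr, rfl, hb⟩
    obtain ⟨y, hy⟩ := map_nrm_mem D b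
    show f (nrm D b) ∈ r
    rw [hy]
    exact r.mul_mem_right _ hb

/-- The norm does not depend on the dual basis. -/
theorem nrm_indep (D D' : RDual f n) (b : B) : nrm D b = nrm D' b := by
  have mat_sub_one : ∀ (D : RDual f n), mat D (b - 1) = mat D b - mat D 1 := by
    intro D
    have := mat_add D (b - 1) 1
    rw [sub_add_cancel] at this
    rw [this, add_sub_cancel_right]
  let X : Matrix (Fin n) (Fin n) A := Matrix.of fun j k => D.ι j (D'.p k)
  let Y : Matrix (Fin n) (Fin n) A := Matrix.of fun j k => D'.ι j ((b - 1) * D.p k)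
  have h1 : X * Y = mat D (b - 1) := by
    ext j l
    simp only [Matrix.mul_apply, X, Y, Matrix.of_apply, mat]
    conv_rhs => rw [← D'.repr ((b - 1) * D.p l), D.ι_sum]
    refine Finset.sum_congr rfl fun k _ => ?_
    rw [D.ι_smul, mul_comm]
  have h2 : Y * X = mat D' (b - 1) := by
    ext j l
    simp only [Matrix.mul_apply, X, Y, Matrix.of_apply, mat]
    have h3 : (b - 1) * D'.p l = ∑ k, f (D.ι k (D'.p l)) * ((b - 1) * D.p k) := by
      conv_lhs => rw [← D.repr (D'.p l), Finset.mul_sum]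
      refine Finset.sum_congr rfl fun k _ => ?_
      ring
    conv_rhs => rw [h3, D'.ι_sum]
    refine Finset.sum_congr rfl fun k _ => ?_
    rw [D'.ι_smul, mul_comm]
  have e1 : (1 : Matrix (Fin n) (Fin n) A) - mat D 1 + mat D b = 1 + X * Y := by
    rw [h1, mat_sub_one]; abel
  have e2 : (1 : Matrix (Fin n) (Fin n) A) - mat D' 1 + mat D' b = 1 + Y * X := by
    rw [h2, mat_sub_one]; abel
  unfold nrm
  rw [e1, e2, Matrix.det_one_add_mul_comm]

end Nrm

section MapNrm

variable {A B A' B' : Type u} [CommRing A] [CommRing B] [CommRing A'] [CommRing B']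
  {f : A →+* B} {f' : A' →+* B'} {n : ℕ} (D : RDual f n) (D' : RDual f' n)
  (ψ : A →+* A') (φ : B →+* B')
  (hp : ∀ k, D'.p k = φ (D.p k)) (hι : ∀ j b, D'.ι j (φ b) = ψ (D.ι j b))

include hp hι in
theorem map_nrm (b : B) : ψ (nrm D b) = nrm D' (φ b) := by
  rw [nrm, nrm, RingHom.map_det]
  congr 1
  ext j k
  simp only [RingHom.mapMatrix_apply, Matrix.map_apply, Matrix.add_apply, Matrix.sub_apply,
    map_add, map_sub, mat, Matrix.of_apply, Matrix.one_apply]
  rw [hp, ← hι, ← hι, map_mul, map_mul, map_one]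
  congr 2
  split_ifs <;> simp

end MapNrm

section Fin

variable {A B : Type u} [CommRing A] [CommRing B] {f : A →+* B} {n : ℕ} (D : RDual f n)

include D in
theorem finite_primes_over (q : Ideal A) [q.IsPrime] :
    {r : Ideal B | r.IsPrime ∧ r.comap f = q}.Finite := by
  classical
  letI := f.toAlgebra
  haveI : Module.Finite A B := by
    refine ⟨⟨Finset.univ.image D.p, ?_⟩⟩
    rw [eq_top_iff]
    intro x _
    rw [← D.repr x]
    refine Submodule.sum_mem _ fun j _ => ?_
    have : f (D.ι j x) * D.p j = D.ι j x • D.p j := (Algebra.smul_def _ _).symm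
    rw [this]
    refine Submodule.smul_mem _ _ (Submodule.subset_span ?_)
    simp
  have := Algebra.QuasiFinite.finite_primesOver (R := A) (S := B) q
  refine this.subset ?_
  rintro r ⟨hr, hrq⟩
  exact ⟨hr, ⟨hrq.symm⟩⟩

end Fin

section Orbit

variable {A B P : Type u} [CommRing A] [CommRing B] [CommRing P]
  (σ τ : A →+* B) (ε : B →+* A) (p0 p1 γ : B →+* P)
  (hεσ : ∀ a, ε (σ a) = a) (hετ : ∀ a, ε (τ a) = a)
  (H3 : ∀ a, γ (τ a) = p0 (τ a))
  {n : ℕ} (D : RDual σ n) (D1 D2 : RDual p1 n)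
  (hD1p : ∀ k, D1.p k = p0 (D.p k)) (hD1ι : ∀ j b, D1.ι j (p0 b) = τ (D.ι j b))
  (hD2p : ∀ k, D2.p k = γ (D.p k)) (hD2ι : ∀ j b, D2.ι j (γ b) = σ (D.ι j b))
  (hint : Algebra.IsIntegral (RingHom.eqLocus σ τ) A)

include H3 hD1p hD1ι hD2p hD2ι in
theorem nrm_tau_mem (a : A) : σ (nrm D (τ a)) = τ (nrm D (τ a)) := by
  rw [map_nrm D D2 σ γ hD2p hD2ι, map_nrm D D1 τ p0 hD1p hD1ι, H3]
  exact nrm_indep D2 D1 _

include hεσ hετ H3 hD1p hD1ι hD2p hD2ι hint in
theorem horb (q q' : Ideal A) [hq : q.IsPrime] [hq' : q'.IsPrime]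
    (h : q.comap (algebraMap (RingHom.eqLocus σ τ) A) =
      q'.comap (algebraMap (RingHom.eqLocus σ τ) A)) :
    ∃ 𝔯 : Ideal B, 𝔯.IsPrime ∧ 𝔯.comap τ = q ∧ 𝔯.comap σ = q' := by
  classical
  by_contra hno
  push Not at hno
  have hF := finite_primes_over D q'
  set F : Set (Ideal B) := {r : Ideal B | r.IsPrime ∧ r.comap σ = q'} with hFdef
  let O₁ : Finset (Ideal A) := hF.toFinset.image (Ideal.comap τ)
  have hO₁ : ∀ o ∈ O₁, ∃ r : Ideal B, r.IsPrime ∧ r.comap σ = q' ∧ o = r.comap τ := by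
    intro o ho
    obtain ⟨r, hr, rfl⟩ := Finset.mem_image.1 ho
    have : r ∈ F := by simpa using hr
    exact ⟨r, this.1, this.2, rfl⟩
  have hprime : ∀ o ∈ O₁, o.IsPrime := by
    intro o ho
    obtain ⟨r, hr, -, rfl⟩ := hO₁ o ho
    haveI := hr
    infer_instance
  have hcomap : ∀ o ∈ O₁, o.comap (algebraMap (RingHom.eqLocus σ τ) A) =
      q'.comap (algebraMap (RingHom.eqLocus σ τ) A) := by
    intro o ho
    obtain ⟨r, hr, hrq, rfl⟩ := hO₁ o ho
    ext c
    have hc : σ (c : A) = τ (c : A) := c.2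
    show τ (c : A) ∈ r ↔ (c : A) ∈ q'
    rw [← hc, ← hrq]
    rfl
  have hnle : ∀ o ∈ O₁, ¬ q ≤ o := by
    intro o ho hle
    rcases eq_or_lt_of_le hle with heq | hlt
    · obtain ⟨r, hr, hrq, rfl⟩ := hO₁ o ho
      exact hno r hr heq.symm hrq
    · have := Ideal.IsIntegral.comap_lt_comap (R := RingHom.eqLocus σ τ) hlt
      rw [h, hcomap o ho] at this
      exact lt_irrefl _ this
  have havoid : ¬ ((q : Set A) ⊆ ⋃ o ∈ (O₁ : Set (Ideal A)), (o : Set A)) := by
    rw [Ideal.subset_union_prime (s := O₁) (f := fun o => o) ⊥ ⊥ (fun o ho _ _ => hprime o ho)]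
    rintro ⟨o, ho, hle⟩
    exact hnle o ho hle
  obtain ⟨f₀, hf₀q, hf₀⟩ := Set.not_subset.mp havoid
  have hf₀' : ∀ o ∈ O₁, f₀ ∉ o := by
    intro o ho hmem
    apply hf₀
    simp only [Set.mem_iUnion]
    exact ⟨o, ho, hmem⟩
  set N : A := nrm D (τ f₀) with hN
  have hNinv : σ N = τ N := nrm_tau_mem σ τ p0 p1 γ H3 D D1 D2 hD1p hD1ι hD2p hD2ι f₀
  have hNq : N ∈ q := by
    rw [hN, nrm_mem_iff]
    refine ⟨q.comap ε, inferInstance, ?_, ?_⟩
    · ext a
      show ε (σ a) ∈ q ↔ a ∈ q
      rw [hεσ]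
    · show ε (τ f₀) ∈ q
      rw [hετ]
      exact hf₀q
  have hNq' : N ∉ q' := by
    rw [hN, nrm_mem_iff]
    rintro ⟨r, hr, hrq, hmem⟩
    have hrF : r ∈ hF.toFinset := by
      rw [Set.Finite.mem_toFinset]
      exact ⟨hr, hrq⟩
    exact hf₀' (r.comap τ) (Finset.mem_image_of_mem _ hrF) hmem
  have : (⟨N, hNinv⟩ : RingHom.eqLocus σ τ) ∈ q.comap (algebraMap (RingHom.eqLocus σ τ) A) := hNq
  rw [h] at this
  exact hNq' this

end Orbit

end Groth.Agent.Lib.Helper26.HQ1
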