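import Mathlib
import Groth.Agent.Lib.Helper26.HQ1

/-!
# Right translation by a finite flat quotient Hopf algebra: the groupoid data (helper26)

`A` a commutative Hopf algebra over `R`, `π : A → C` a surjective bialgebra map onto a commutative
Hopf algebra `C` which is finite projective over `R`.  We set up the ring-level groupoid data used
by `Helper3.GQ.finite_projective` / `tensor_bijective`.
-/

set_option autoImplicit false
universe u v

namespace Groth.Agent.Lib.Helper26.HQ2

open TensorProduct Groth.Agent.Lib.Helper3.GQ WithConv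

section Std

variable {R : Type u} [CommRing R] {C : Type v} [CommRing C] [Algebra R C]
  (M : Type v) [CommRing M] [Algebra R M] {n : ℕ}
  (c : Fin n → C) (φ : Fin n → (C →ₗ[R] R)) (hc : ∀ x, ∑ k, φ k x • c k = x)

/-- the `M`-linear coordinate `M ⊗ C → M` -/
noncomputable def coordL (j : Fin n) : M ⊗[R] C →ₗ[M] M :=
  (AlgebraTensorModule.rid R M M).toLinearMap ∘ₗ
    AlgebraTensorModule.map (LinearMap.id : M →ₗ[M] M) (φ j)

@[simp] theorem coordL_tmul (j : Fin n) (m : M) (x : C) : coordL M φ j (m ⊗ₜ x) = φ j x • m := by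
  simp [coordL]

/-- the standard dual basis of `M ⊗ C` over `M` -/
noncomputable def stdDual :
    RDual (Algebra.TensorProduct.includeLeft : M →ₐ[R] M ⊗[R] C).toRingHom n where
  p k := 1 ⊗ₜ c k
  ι j x := coordL M φ j x
  ι_add j x y := map_add _ x y
  ι_smul j a x := by
    have : (Algebra.TensorProduct.includeLeft : M →ₐ[R] M ⊗[R] C).toRingHom a * x = a • x := by
      rw [Algebra.smul_def]; rfl
    rw [this, map_smul, smul_eq_mul]
  repr x := by
    induction x using TensorProduct.induction_on with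
    | zero => simp
    | tmul m x =>
      simp only [coordL_tmul, AlgHom.toRingHom_eq_coe, RingHom.coe_coe,
        Algebra.TensorProduct.includeLeft_apply, Algebra.TensorProduct.tmul_mul_tmul, mul_one,
        one_mul]
      conv_rhs => rw [← hc x, TensorProduct.tmul_sum]
      refine Finset.sum_congr rfl fun k _ => ?_
      rw [TensorProduct.smul_tmul]
    | add x y hx hy =>
      simp only [map_add, add_mul, Finset.sum_add_distrib]
      rw [hx, hy]

end Std

section Hopf

variable (R : Type u) [CommRing R] (A C : Type v) [CommRing A] [HopfAlgebra R A]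
  [CommRing C] [HopfAlgebra R C]

/-- source: `g ↦ (g, h) ↦ g` -/
noncomputable def sg : A →ₐ[R] A ⊗[R] C := Algebra.TensorProduct.includeLeft

/-- unit section -/
noncomputable def ep : A ⊗[R] C →ₐ[R] A :=
  Algebra.TensorProduct.lift (AlgHom.id R A) ((Algebra.ofId R A).comp (Bialgebra.counitAlgHom R C))
    (fun _ _ => Commute.all _ _)

/-- second projection on composable pairs -/
noncomputable def p1 : A ⊗[R] C →ₐ[R] (A ⊗[R] C) ⊗[R] C := Algebra.TensorProduct.includeLeft

/-- `c ↦ (1 ⊗ c) ⊗ 1` -/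
noncomputable def uu : C →ₐ[R] (A ⊗[R] C) ⊗[R] C :=
  (p1 R A C).comp Algebra.TensorProduct.includeRight

/-- `c ↦ (1 ⊗ 1) ⊗ c` -/
noncomputable def ww : C →ₐ[R] (A ⊗[R] C) ⊗[R] C := Algebra.TensorProduct.includeRight

/-- `c ↦ (1 ⊗ c₁) ⊗ c₂` -/
noncomputable def g1 : C →ₐ[R] (A ⊗[R] C) ⊗[R] C :=
  ofConv (toConv (uu R A C) * toConv (ww R A C))

/-- `c ↦ (1 ⊗ S c₁) ⊗ c₂` -/
noncomputable def g2 : C →ₐ[R] (A ⊗[R] C) ⊗[R] C :=
  ofConv ((toConv (uu R A C))⁻¹ * toConv (ww R A C))

/-- composition -/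
noncomputable def gm : A ⊗[R] C →ₐ[R] (A ⊗[R] C) ⊗[R] C :=
  Algebra.TensorProduct.lift ((p1 R A C).comp (sg R A C)) (g1 R A C)
    (fun _ _ => Commute.all _ _)

theorem ep_sg (a : A) : ep R A C (sg R A C a) = a := by
  simp [ep, sg]

theorem H2 (a : A) : gm R A C (sg R A C a) = p1 R A C (sg R A C a) := by
  simp [gm, sg]

variable {R A C} (π : A →ₐc[R] C)

/-- `a ↦ 1 ⊗ π a` -/
noncomputable def nu : A →ₐ[R] A ⊗[R] C :=
  (Algebra.TensorProduct.includeRight : C →ₐ[R] A ⊗[R] C).comp (π : A →ₐ[R] C)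

/-- target: `a ↦ a₁ ⊗ π a₂` -/
noncomputable def tu : A →ₐ[R] A ⊗[R] C := ofConv (toConv (sg R A C) * toConv (nu π))

theorem tu_eq : tu π = (Algebra.TensorProduct.map (AlgHom.id R A) (π : A →ₐ[R] C)).comp
    (Bialgebra.comulAlgHom R A) := by
  unfold tu
  rw [AlgHom.convMul_def, ofConv_toConv, ← AlgHom.comp_assoc]
  congr 1
  ext <;> simp [sg, nu]

theorem ep_comp_nu : (ep R A C).comp (nu π) =
    (Algebra.ofId R A).comp (Bialgebra.counitAlgHom R A) := by
  ext a
  simp [ep, nu]

theorem ep_tu (a : A) : ep R A C (tu π a) = a := by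
  have h : (ep R A C).comp (tu π) = AlgHom.id R A := by
    unfold tu
    rw [AlgHom.comp_convMul_distrib, ofConv_toConv, ofConv_toConv, ep_comp_nu]
    have h1 : (ep R A C).comp (sg R A C) = AlgHom.id R A := by
      ext a; exact ep_sg R A C a
    rw [h1, ← AlgHom.convOne_def, mul_one, ofConv_toConv]
  exact DFunLike.congr_fun h a

/-- first projection on composable pairs -/
noncomputable def p0 : A ⊗[R] C →ₐ[R] (A ⊗[R] C) ⊗[R] C :=
  Algebra.TensorProduct.map (tu π) (AlgHom.id R C)

theorem H1 (a : A) : p0 π (sg R A C a) = p1 R A C (tu π a) := by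
  simp [p0, p1, sg]

theorem gm_comp_nu : (gm R A C).comp (nu π) =
    ofConv (toConv ((p1 R A C).comp (nu π)) * toConv ((ww R A C).comp (π : A →ₐ[R] C))) := by
  have h1 : (gm R A C).comp (nu π) = (g1 R A C).comp (π : A →ₐ[R] C) := by
    ext a
    simp [gm, nu]
  rw [h1]
  unfold g1
  rw [AlgHom.convMul_comp_bialgHom_distrib]
  rfl

theorem H3 (a : A) : gm R A C (tu π a) = p0 π (tu π a) := by
  have h : (gm R A C).comp (tu π) = (p0 π).comp (tu π) := by
    have e1 : (p0 π).comp (sg R A C) = (p1 R A C).comp (tu π) := by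
      ext a; exact H1 π a
    have e2 : (gm R A C).comp (sg R A C) = (p1 R A C).comp (sg R A C) := by
      ext a; exact H2 R A C a
    have e3 : (p0 π).comp (nu π) = (ww R A C).comp (π : A →ₐ[R] C) := by
      ext a
      simp [p0, nu, ww]
    conv_lhs => unfold tu
    conv_rhs => unfold tu
    rw [AlgHom.comp_convMul_distrib, AlgHom.comp_convMul_distrib, ofConv_toConv, ofConv_toConv,
      e1, e2, e3, gm_comp_nu]
    unfold tu
    rw [AlgHom.comp_convMul_distrib]
    simp only [toConv_ofConv]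
    exact congrArg ofConv (mul_assoc (toConv ((p1 R A C).comp (sg R A C)))
      (toConv ((p1 R A C).comp (nu π))) (toConv ((ww R A C).comp (π : A →ₐ[R] C)))).symm
  exact DFunLike.congr_fun h a

end Hopf

section Theta

variable (R : Type u) [CommRing R] (A C : Type v) [CommRing A] [HopfAlgebra R A]
  [CommRing C] [HopfAlgebra R C]

/-- the shear automorphism `(a ⊗ c) ⊗ c' ↦ (a ⊗ c c'₁) ⊗ c'₂` -/
noncomputable def Θ : (A ⊗[R] C) ⊗[R] C →ₐ[R] (A ⊗[R] C) ⊗[R] C :=
  Algebra.TensorProduct.lift (p1 R A C) (g1 R A C) (fun _ _ => Commute.all _ _)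

/-- its inverse -/
noncomputable def Θ' : (A ⊗[R] C) ⊗[R] C →ₐ[R] (A ⊗[R] C) ⊗[R] C :=
  Algebra.TensorProduct.lift (p1 R A C) (g2 R A C) (fun _ _ => Commute.all _ _)

theorem Θ_p1 (b : A ⊗[R] C) : Θ R A C (p1 R A C b) = p1 R A C b := by
  simp [Θ, p1]

theorem Θ'_p1 (b : A ⊗[R] C) : Θ' R A C (p1 R A C b) = p1 R A C b := by
  simp [Θ', p1]

theorem comp_inv (h : (A ⊗[R] C) ⊗[R] C →ₐ[R] (A ⊗[R] C) ⊗[R] C)
    (f : WithConv (C →ₐ[R] (A ⊗[R] C) ⊗[R] C)) :
    h.comp (ofConv f⁻¹) = ofConv (toConv (h.comp f.ofConv))⁻¹ := rfl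

theorem Θ_comp_uu : (Θ R A C).comp (uu R A C) = uu R A C := by
  ext c
  simp [uu, Θ_p1]

theorem Θ'_comp_uu : (Θ' R A C).comp (uu R A C) = uu R A C := by
  ext c
  simp [uu, Θ'_p1]

theorem Θ_comp_ww : (Θ R A C).comp (ww R A C) = g1 R A C := by
  ext c
  simp [ww, Θ]

theorem Θ'_comp_ww : (Θ' R A C).comp (ww R A C) = g2 R A C := by
  ext c
  simp [ww, Θ']

theorem Θ_comp_g2 : (Θ R A C).comp (g2 R A C) = ww R A C := by
  unfold g2
  rw [AlgHom.comp_convMul_distrib, comp_inv, ofConv_toConv, ofConv_toConv, Θ_comp_uu, Θ_comp_ww]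
  unfold g1
  simp only [toConv_ofConv]
  exact congrArg ofConv (inv_mul_cancel_left (toConv (uu R A C)) (toConv (ww R A C)))

theorem Θ'_comp_g1 : (Θ' R A C).comp (g1 R A C) = ww R A C := by
  unfold g1
  rw [AlgHom.comp_convMul_distrib, ofConv_toConv, ofConv_toConv, Θ'_comp_uu, Θ'_comp_ww]
  unfold g2
  simp only [toConv_ofConv]
  exact congrArg ofConv (mul_inv_cancel_left (toConv (uu R A C)) (toConv (ww R A C)))

theorem Θ_Θ' : (Θ R A C).comp (Θ' R A C) = AlgHom.id R _ := by
  apply Algebra.TensorProduct.ext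
  · refine AlgHom.ext fun b => ?_
    show Θ R A C (Θ' R A C (p1 R A C b)) = p1 R A C b
    rw [Θ'_p1, Θ_p1]
  · have : (Θ' R A C).comp (ww R A C) = g2 R A C := Θ'_comp_ww R A C
    ext c
    show Θ R A C (Θ' R A C (ww R A C c)) = ww R A C c
    rw [← AlgHom.comp_apply (Θ' R A C), this, ← AlgHom.comp_apply, Θ_comp_g2]

theorem Θ'_Θ : (Θ' R A C).comp (Θ R A C) = AlgHom.id R _ := by
  apply Algebra.TensorProduct.ext
  · refine AlgHom.ext fun b => ?_
    show Θ' R A C (Θ R A C (p1 R A C b)) = p1 R A C b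
    rw [Θ_p1, Θ'_p1]
  · have : (Θ R A C).comp (ww R A C) = g1 R A C := Θ_comp_ww R A C
    ext c
    show Θ' R A C (Θ R A C (ww R A C c)) = ww R A C c
    rw [← AlgHom.comp_apply (Θ R A C), this, ← AlgHom.comp_apply, Θ'_comp_g1]

theorem Θ_Θ'_apply (x : (A ⊗[R] C) ⊗[R] C) : Θ R A C (Θ' R A C x) = x :=
  DFunLike.congr_fun (Θ_Θ' R A C) x

theorem Θ'_Θ_apply (x : (A ⊗[R] C) ⊗[R] C) : Θ' R A C (Θ R A C x) = x :=
  DFunLike.congr_fun (Θ'_Θ R A C) x

/-- `a ⊗ c ↦ (a ⊗ 1) ⊗ c` -/
noncomputable def p0' : A ⊗[R] C →ₐ[R] (A ⊗[R] C) ⊗[R] C :=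
  Algebra.TensorProduct.map (sg R A C) (AlgHom.id R C)

theorem Θ_p0' (b : A ⊗[R] C) : Θ R A C (p0' R A C b) = gm R A C b := by
  have : (Θ R A C).comp (p0' R A C) = gm R A C := by
    apply Algebra.TensorProduct.ext
    · ext a
      simp [Θ, p0', gm, p1, sg]
    · ext c
      simp [Θ, p0', gm, p1, sg, ← Algebra.TensorProduct.one_def]
  exact DFunLike.congr_fun this b

theorem Θ'_gm (b : A ⊗[R] C) : Θ' R A C (gm R A C b) = p0' R A C b := by
  rw [← Θ_p0', Θ'_Θ_apply]

end Theta

section Duals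

variable {R : Type u} [CommRing R] {A C : Type v} [CommRing A] [HopfAlgebra R A]
  [CommRing C] [HopfAlgebra R C] (π : A →ₐc[R] C) {n : ℕ}
  (c : Fin n → C) (φ : Fin n → (C →ₗ[R] R)) (hc : ∀ x, ∑ k, φ k x • c k = x)

/-- dual basis of `A ⊗ C` over `A` -/
noncomputable def D : RDual (sg R A C).toRingHom n := stdDual A c φ hc

/-- dual basis of `(A ⊗ C) ⊗ C` over `A ⊗ C` through `p1` -/
noncomputable def D1 : RDual (p1 R A C).toRingHom n := stdDual (A ⊗[R] C) c φ hc

/-- the dual basis transported along the shear map -/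
noncomputable def D2 : RDual (p1 R A C).toRingHom n where
  p k := Θ R A C ((D1 (A := A) c φ hc).p k)
  ι j x := (D1 (A := A) c φ hc).ι j (Θ' R A C x)
  ι_add j x y := by rw [map_add, RDual.ι_add]
  ι_smul j b x := by
    rw [map_mul]
    have : Θ' R A C ((p1 R A C).toRingHom b) = (p1 R A C).toRingHom b := Θ'_p1 R A C b
    rw [this, RDual.ι_smul]
  repr x := by
    have h := (D1 (A := A) c φ hc).repr (Θ' R A C x)
    have h2 := congrArg (Θ R A C) h
    rw [Θ_Θ'_apply, map_sum] at h2
    refine Eq.trans (Finset.sum_congr rfl fun j _ => ?_) h2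
    rw [map_mul]
    congr 1
    exact (Θ_p1 R A C _).symm

theorem hD1p (k : Fin n) : (D1 (A := A) c φ hc).p k = (p0 π).toRingHom ((D (A := A) c φ hc).p k) := by
  simp [D1, D, stdDual, p0, Algebra.TensorProduct.one_def]

theorem hD1ι (j : Fin n) (b : A ⊗[R] C) :
    (D1 (A := A) c φ hc).ι j ((p0 π).toRingHom b) = (tu π).toRingHom ((D (A := A) c φ hc).ι j b) := by
  induction b using TensorProduct.induction_on with
  | zero => simp [RDual.ι_zero]
  | tmul a x => simp [D1, D, stdDual, p0]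
  | add x y hx hy => rw [map_add, RDual.ι_add, RDual.ι_add, map_add, hx, hy]

theorem hD2p (k : Fin n) : (D2 (A := A) c φ hc).p k = (gm R A C).toRingHom ((D (A := A) c φ hc).p k) := by
  simp [D2, D1, D, stdDual, Θ, gm]

theorem hD2ι (j : Fin n) (b : A ⊗[R] C) :
    (D2 (A := A) c φ hc).ι j ((gm R A C).toRingHom b) = (sg R A C).toRingHom ((D (A := A) c φ hc).ι j b) := by
  show (D1 (A := A) c φ hc).ι j (Θ' R A C (gm R A C b)) = _
  rw [Θ'_gm]
  induction b using TensorProduct.induction_on with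
  | zero => simp [RDual.ι_zero]
  | tmul a x => simp [D1, D, stdDual, p0', sg]
  | add x y hx hy => rw [map_add, RDual.ι_add, RDual.ι_add, map_add, hx, hy]

end Duals

section Key

variable {R : Type u} [CommRing R] {A C : Type v} [CommRing A] [HopfAlgebra R A]
  [CommRing C] [HopfAlgebra R C] (π : A →ₐc[R] C)

theorem toConv_nu : toConv (nu π) = (toConv (sg R A C))⁻¹ * toConv (tu π) := by
  unfold tu
  rw [toConv_ofConv]
  exact (inv_mul_cancel_left (toConv (sg R A C)) (toConv (nu π))).symm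

theorem hsurj (hπ : Function.Surjective π) (b : A ⊗[R] C) :
    b ∈ AddSubmonoid.closure {b : A ⊗[R] C | ∃ a a', b = (tu π).toRingHom a * (sg R A C).toRingHom a'} := by
  set S := AddSubmonoid.closure
    {b : A ⊗[R] C | ∃ a a', b = (tu π).toRingHom a * (sg R A C).toRingHom a'} with hS
  -- key: `sg a * lift (sg ∘ S) tu z ∈ S`
  have key : ∀ (a : A) (z : A ⊗[R] A), sg R A C a *
      Algebra.TensorProduct.lift ((toConv (sg R A C))⁻¹).ofConv (tu π)
        (fun _ _ => Commute.all _ _) z ∈ S := by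
    intro a z
    induction z using TensorProduct.induction_on with
    | zero => simp
    | tmul x y =>
      apply AddSubmonoid.subset_closure
      refine ⟨y, a * HopfAlgebra.antipodeAlgHom R A x, ?_⟩
      simp only [Algebra.TensorProduct.lift_tmul, AlgHom.toRingHom_eq_coe, RingHom.coe_coe,
        map_mul]
      have : ((toConv (sg R A C))⁻¹).ofConv x = sg R A C (HopfAlgebra.antipodeAlgHom R A x) := rfl
      rw [this]
      ring
    | add z z' hz hz' =>
      rw [map_add, mul_add]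
      exact S.add_mem hz hz'
  induction b using TensorProduct.induction_on with
  | zero => exact S.zero_mem
  | tmul a x =>
    obtain ⟨a'', rfl⟩ := hπ x
    have h1 : a ⊗ₜ[R] π a'' = sg R A C a * nu π a'' := by
      simp [sg, nu]
    have h2 : nu π a'' = Algebra.TensorProduct.lift ((toConv (sg R A C))⁻¹).ofConv (tu π)
        (fun _ _ => Commute.all _ _) (Coalgebra.comul a'') := by
      have := AlgHom.convMul_apply ((toConv (sg R A C))⁻¹) (toConv (tu π)) a''
      rw [← toConv_nu] at this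
      exact this
    rw [h1, h2]
    exact key a _
  | add x y hx hy => exact S.add_mem hx hy

theorem hint [Module.Finite R A] :
    Algebra.IsIntegral (RingHom.eqLocus (sg R A C).toRingHom (tu π).toRingHom) A := by
  let S := RingHom.eqLocus (sg R A C).toRingHom (tu π).toRingHom
  let f : R →+* S := (algebraMap R A).codRestrict S (fun r => by
    show (sg R A C).toRingHom (algebraMap R A r) = (tu π).toRingHom (algebraMap R A r)
    simp)
  have h : (S.subtype.comp f).IsIntegral := by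
    have : S.subtype.comp f = algebraMap R A := rfl
    rw [this]
    exact fun a => (Algebra.IsIntegral.isIntegral (R := R) a)
  have := RingHom.IsIntegral.tower_top f S.subtype h
  exact ⟨fun a => this a⟩

/-- **Key theorem.** `A` is finite projective over the invariants and the canonical map
`A ⊗_B A → A ⊗ C` is bijective. -/
theorem key [Module.Finite R A] [Module.Finite R C] [Module.Projective R C]
    (hπ : Function.Surjective π) :
    Module.Finite (RingHom.eqLocus (sg R A C).toRingHom (tu π).toRingHom) A ∧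
    Module.Projective (RingHom.eqLocus (sg R A C).toRingHom (tu π).toRingHom) A ∧
    ∀ ψ : A ⊗[RingHom.eqLocus (sg R A C).toRingHom (tu π).toRingHom] A →+ A ⊗[R] C,
      (∀ a a', ψ (a ⊗ₜ a') = (tu π).toRingHom a * (sg R A C).toRingHom a') →
        Function.Bijective ψ := by
  obtain ⟨n, f, g, -, -, hfg⟩ := Module.Finite.exists_comp_eq_id_of_projective R C
  let c : Fin n → C := fun k => f (Pi.single k 1)
  let φ : Fin n → (C →ₗ[R] R) := fun k => (LinearMap.proj k).comp g
  have hc : ∀ x, ∑ k, φ k x • c k = x := by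
    intro x
    have h1 : f (g x) = x := LinearMap.congr_fun hfg x
    conv_rhs => rw [← h1]
    have h2 : g x = ∑ k, (g x k) • (Pi.single k (1 : R) : Fin n → R) := by
      ext i
      simp [Finset.sum_apply, Pi.single_apply]
    conv_rhs => rw [h2, map_sum]
    refine Finset.sum_congr rfl fun k _ => ?_
    rw [map_smul]
    rfl
  have hεσ : ∀ a, (ep R A C).toRingHom ((sg R A C).toRingHom a) = a := ep_sg R A C
  have hετ : ∀ a, (ep R A C).toRingHom ((tu π).toRingHom a) = a := ep_tu π
  have hH1 : ∀ a, (p0 π).toRingHom ((sg R A C).toRingHom a) =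
      (p1 R A C).toRingHom ((tu π).toRingHom a) := H1 π
  have hH2 : ∀ a, (gm R A C).toRingHom ((sg R A C).toRingHom a) =
      (p1 R A C).toRingHom ((sg R A C).toRingHom a) := H2 R A C
  have hH3 : ∀ a, (gm R A C).toRingHom ((tu π).toRingHom a) =
      (p0 π).toRingHom ((tu π).toRingHom a) := H3 π
  have hi := hint π
  have horb := fun (q q' : Ideal A) (hq : q.IsPrime) (hq' : q'.IsPrime) =>
    Groth.Agent.Lib.Helper26.HQ1.horb (sg R A C).toRingHom (tu π).toRingHom (ep R A C).toRingHom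
      (p0 π).toRingHom (p1 R A C).toRingHom (gm R A C).toRingHom hεσ hετ hH3
      (D (A := A) c φ hc) (D1 (A := A) c φ hc) (D2 (A := A) c φ hc)
      (hD1p π c φ hc) (hD1ι π c φ hc) (hD2p c φ hc) (hD2ι c φ hc) hi q q'
  have fp := finite_projective (sg R A C).toRingHom (tu π).toRingHom (ep R A C).toRingHom
      (p0 π).toRingHom (p1 R A C).toRingHom (gm R A C).toRingHom hεσ hετ hH1 hH2 hH3
      (D (A := A) c φ hc) (D1 (A := A) c φ hc) (D2 (A := A) c φ hc)
      (hD1p π c φ hc) (hD1ι π c φ hc) (hD2p c φ hc) (hD2ι c φ hc) (hsurj π hπ) hi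
      (fun q q' hq hq' => horb q q' hq hq')
  refine ⟨fp.1, fp.2, fun ψ hψ => ?_⟩
  exact tensor_bijective (sg R A C).toRingHom (tu π).toRingHom (ep R A C).toRingHom
      (p0 π).toRingHom (p1 R A C).toRingHom (gm R A C).toRingHom hεσ hετ hH1 hH2 hH3
      (D (A := A) c φ hc) (D1 (A := A) c φ hc) (D2 (A := A) c φ hc)
      (hD1p π c φ hc) (hD1ι π c φ hc) (hD2p c φ hc) (hD2ι c φ hc) (hsurj π hπ) hi
      (fun q q' hq hq' => horb q q' hq hq') ψ hψ

end Key

end Groth.Agent.Lib.Helper26.HQ2
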