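import Mathlib

/-!
# Rank in towers with constant rank along a fibre (helper26)
-/

set_option autoImplicit false
universe u v w

namespace Groth.Agent.Lib.Helper26.HQ3

open TensorProduct

/-- A finite flat module of constant rank `d` over a semilocal ring is free of rank `d`. -/
theorem nonempty_basis_of_rankAtStalk (B : Type u) (M : Type v) [CommRing B]
    [Finite (MaximalSpectrum B)] [AddCommGroup M] [Module B M] [Module.Finite B M]
    [Module.Flat B M] (d : ℕ) (h : ∀ p : PrimeSpectrum B, Module.rankAtStalk M p = d) :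
    Nonempty (Module.Basis (Fin d) B M) := by
  apply Module.nonempty_basis_of_flat_of_finrank_eq
  intro P
  haveI := P.isMaximal
  have h1 := h ⟨P.asIdeal, P.isMaximal.isPrime⟩
  rw [Module.rankAtStalk_eq] at h1
  letI : Field (B ⧸ P.asIdeal) := Ideal.Quotient.field P.asIdeal
  let κ := P.asIdeal.ResidueField
  let e : κ ⊗[B ⧸ P.asIdeal] ((B ⧸ P.asIdeal) ⊗[B] M) ≃ₗ[κ] κ ⊗[B] M :=
    AlgebraTensorModule.cancelBaseChange B (B ⧸ P.asIdeal) κ κ M
  rw [← h1]
  show _ = Module.finrank κ (κ ⊗[B] M)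
  rw [← e.finrank_eq]
  exact (Module.finrank_baseChange (R := κ) (S := B ⧸ P.asIdeal)
    (M' := (B ⧸ P.asIdeal) ⊗[B] M)).symm

attribute [local instance] Algebra.TensorProduct.rightAlgebra in
/-- Rank in a tower, when the rank over the intermediate ring is constant along the fibre. -/
theorem rankAtStalk_tower (R : Type u) (B : Type v) (M : Type w) [CommRing R] [CommRing B]
    [Algebra R B] [Module.Finite R B] [Module.Flat R B]
    [AddCommGroup M] [Module B M] [Module R M] [IsScalarTower R B M] [Module.Finite B M]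
    [Module.Flat B M] (q : PrimeSpectrum R) (d : ℕ)
    (h : ∀ p : PrimeSpectrum B, p.comap (algebraMap R B) = q → Module.rankAtStalk M p = d) :
    Module.rankAtStalk (R := R) M q = d * Module.rankAtStalk (R := R) B q := by
  haveI : Module.Finite R M := Module.Finite.trans B M
  haveI : Module.Flat R M := Module.Flat.trans R B M
  let κ := q.asIdeal.ResidueField
  haveI : IsArtinianRing (κ ⊗[R] B) := IsArtinianRing.of_finite κ (κ ⊗[R] B)
  have hr : ∀ P : PrimeSpectrum (κ ⊗[R] B),
      Module.rankAtStalk ((κ ⊗[R] B) ⊗[B] M) P = d := by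
    intro P
    rw [Module.rankAtStalk_baseChange]
    apply h
    apply PrimeSpectrum.ext
    have h1 : (P.asIdeal).LiesOver q.asIdeal := inferInstance
    have h2 : q.asIdeal = P.asIdeal.under R := h1.over
    refine Eq.trans ?_ h2.symm
    ext r
    simp only [PrimeSpectrum.comap_asIdeal, Ideal.mem_comap, Ideal.under_def]
    rw [IsScalarTower.algebraMap_apply R B (κ ⊗[R] B)]
  obtain ⟨b⟩ := nonempty_basis_of_rankAtStalk (κ ⊗[R] B) ((κ ⊗[R] B) ⊗[B] M) d hr
  have e : ((κ ⊗[R] B) ⊗[B] M) ≃ₗ[κ] κ ⊗[R] M :=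
    Algebra.IsPushout.cancelBaseChange R κ B (κ ⊗[R] B) M
  rw [Module.rankAtStalk_eq (M := M) q, Module.rankAtStalk_eq (M := B) q]
  show Module.finrank κ (κ ⊗[R] M) = d * Module.finrank κ (κ ⊗[R] B)
  rw [← e.finrank_eq]
  rcases subsingleton_or_nontrivial (κ ⊗[R] B) with hs | hn
  · haveI : Subsingleton ((κ ⊗[R] B) ⊗[B] M) := Module.subsingleton (κ ⊗[R] B) _
    rw [Module.finrank_zero_of_subsingleton, Module.finrank_zero_of_subsingleton, mul_zero]
  · haveI : Module.Free (κ ⊗[R] B) ((κ ⊗[R] B) ⊗[B] M) := Module.Free.of_basis b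
    have h3 := Module.finrank_mul_finrank κ (κ ⊗[R] B) ((κ ⊗[R] B) ⊗[B] M)
    rw [Module.finrank_eq_card_basis b, Fintype.card_fin] at h3
    rw [← h3, mul_comm]

end Groth.Agent.Lib.Helper26.HQ3
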