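import Mathlib
import Groth.Agent.Lib.Helper26.HQ2
import Groth.Agent.Lib.Helper26.HQ3
import Groth.Agent.Lib.Helper22.FSDescA

/-!
# Invariants of right translation by a finite flat quotient Hopf algebra (helper26)
-/

set_option autoImplicit false
universe u v

namespace Groth.Agent.Lib.Helper26.HQ4

open TensorProduct Groth.Agent.Lib.Helper26.HQ2 Groth.Agent.Lib.Helper26

variable {R : Type u} [CommRing R] {A C : Type v} [CommRing A] [HopfAlgebra R A]
  [CommRing C] [HopfAlgebra R C] (π : A →ₐc[R] C)

/-- the subalgebra of invariants -/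
noncomputable abbrev Inv : Subalgebra R A := AlgHom.equalizer (tu π) (sg R A C)

theorem mem_Inv (a : A) : a ∈ Inv π ↔ tu π a = sg R A C a := Iff.rfl

theorem eqLocus_eq : RingHom.eqLocus (sg R A C).toRingHom (tu π).toRingHom = (Inv π).toSubring := by
  ext x
  exact eq_comm

/-- `tu` as a linear map over the invariants -/
noncomputable def tuL : A →ₗ[Inv π] A ⊗[R] C where
  toFun := tu π
  map_add' := map_add _
  map_smul' c a := by
    have hc : tu π (c : A) = sg R A C (c : A) := c.2
    show tu π ((c : A) * a) = c • tu π a
    rw [map_mul, hc]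
    induction tu π a using TensorProduct.induction_on with
    | zero => simp
    | tmul x y =>
      simp only [sg, Algebra.TensorProduct.includeLeft_apply, Algebra.TensorProduct.tmul_mul_tmul,
        one_mul]
      rfl
    | add x y hx hy => rw [mul_add, smul_add, hx, hy]

/-- the canonical map `A ⊗_B A → A ⊗ C`, `a ⊗ a' ↦ (a ⊗ 1) τ(a')`, linear over the left factor -/
noncomputable def can : A ⊗[Inv π] A →ₗ[A] A ⊗[R] C :=
  LinearMap.liftBaseChange A (tuL π)

theorem can_tmul (a a' : A) : can π (a ⊗ₜ a') = sg R A C a * tu π a' := by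
  simp only [can, LinearMap.liftBaseChange_tmul]
  show a • tu π a' = _
  rw [Algebra.smul_def]
  rfl

section Key

variable [Module.Finite R A] [Module.Finite R C] [Module.Projective R C]
  (hπ : Function.Surjective π)

include hπ

theorem finite_inv : Module.Finite (Inv π) A := by
  have h := (HQ2.key π hπ).1
  rw [eqLocus_eq π] at h
  exact h

theorem projective_inv : Module.Projective (Inv π) A := by
  have h := (HQ2.key π hπ).2.1
  rw [eqLocus_eq π] at h
  exact h

theorem bijective_inv (ψ : A ⊗[Inv π] A →+ A ⊗[R] C)
    (hψ : ∀ a a', ψ (a ⊗ₜ a') = tu π a * sg R A C a') : Function.Bijective ψ := by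
  have h := (HQ2.key π hπ).2.2
  rw [eqLocus_eq π] at h
  exact h ψ hψ

theorem can_bijective : Function.Bijective (can π) := by
  let ψ : A ⊗[Inv π] A →+ A ⊗[R] C :=
    (can π).toAddMonoidHom.comp (TensorProduct.comm (Inv π) A A).toLinearMap.toAddMonoidHom
  have hψ : ∀ a a', ψ (a ⊗ₜ a') = tu π a * sg R A C a' := by
    intro a a'
    show can π (TensorProduct.comm (Inv π) A A (a ⊗ₜ a')) = _
    rw [TensorProduct.comm_tmul, can_tmul, mul_comm]
  have hb := bijective_inv π hπ ψ hψ
  have : (can π : A ⊗[Inv π] A → A ⊗[R] C) = ψ ∘ (TensorProduct.comm (Inv π) A A).symm := by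
    ext x
    show _ = can π (TensorProduct.comm (Inv π) A A ((TensorProduct.comm (Inv π) A A).symm x))
    rw [LinearEquiv.apply_symm_apply]
  rw [this]
  exact hb.comp (TensorProduct.comm (Inv π) A A).symm.bijective

/-- the rank of `A` over the invariants is the rank of `C` -/
theorem rankAtStalk_inv (p : PrimeSpectrum (Inv π)) :
    Module.rankAtStalk (R := Inv π) A p =
      Module.rankAtStalk (R := R) C (p.comap (algebraMap R (Inv π))) := by
  haveI := finite_inv π hπ
  haveI := projective_inv π hπ
  haveI : Algebra.IsIntegral (Inv π) A := Algebra.IsIntegral.of_finite _ _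
  haveI : FaithfulSMul (Inv π) A :=
    (faithfulSMul_iff_algebraMap_injective (Inv π) A).mpr Subtype.val_injective
  obtain ⟨P, rfl⟩ := Algebra.IsIntegral.comap_surjective (Inv π) A p
  have e : A ⊗[Inv π] A ≃ₗ[A] A ⊗[R] C := LinearEquiv.ofBijective (can π) (can_bijective π hπ)
  have h1 := Module.rankAtStalk_baseChange (R := Inv π) (M := A) (S := A) P
  have h2 := Module.rankAtStalk_baseChange (R := R) (M := C) (S := A) P
  rw [← h1, Module.rankAtStalk_eq_of_equiv e, h2]
  congr 1

end Key


section Field

variable {k : Type u} [Field k] {A C : Type v} [CommRing A] [HopfAlgebra k A]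
  [CommRing C] [HopfAlgebra k C] (π : A →ₐc[k] C) [Module.Finite k A]
  (hπ : Function.Surjective π)

include hπ in
theorem free_field : Module.Free (Inv π) A ∧ Module.finrank (Inv π) A = Module.finrank k C := by
  haveI : Module.Finite k C := Module.Finite.of_surjective (π : A →ₗ[k] C) hπ
  haveI := finite_inv π hπ
  haveI := projective_inv π hπ
  haveI : Module.Finite k (Inv π) := by
    have : Module.Finite k (Subalgebra.toSubmodule (Inv π)) := inferInstance
    exact this
  haveI : IsArtinianRing (Inv π) := IsArtinianRing.of_finite k (Inv π)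
  haveI : Nontrivial A := (Bialgebra.counitAlgHom k A).toRingHom.domain_nontrivial
  have hr : ∀ p : PrimeSpectrum (Inv π), Module.rankAtStalk (R := Inv π) A p = Module.finrank k C := by
    intro p
    rw [rankAtStalk_inv π hπ p, Module.rankAtStalk_eq_finrank_of_free]
    rfl
  obtain ⟨b⟩ := HQ3.nonempty_basis_of_rankAtStalk (Inv π) A (Module.finrank k C) hr
  refine ⟨Module.Free.of_basis b, ?_⟩
  rw [Module.finrank_eq_card_basis b, Fintype.card_fin]

end Field

section General

variable {R : Type u} [CommRing R] {A C : Type v} [CommRing A] [HopfAlgebra R A]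
  [CommRing C] [HopfAlgebra R C] (π : A →ₐc[R] C) [Module.Finite R A] [Module.Projective R A]
  [Module.Projective R C] (hπ : Function.Surjective π)

include hπ in
theorem finite_projective_inv_base :
    Module.Finite R (Inv π) ∧ Module.Projective R (Inv π) := by
  haveI : Module.Finite R C := Module.Finite.of_surjective (π : A →ₗ[R] C) hπ
  haveI := finite_inv π hπ
  haveI := projective_inv π hπ
  haveI : Algebra.IsIntegral (Inv π) A := Algebra.IsIntegral.of_finite _ _
  haveI : FaithfulSMul (Inv π) A :=
    (faithfulSMul_iff_algebraMap_injective (Inv π) A).mpr Subtype.val_injective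
  haveI : Module.FaithfullyFlat (Inv π) A :=
    Module.FaithfullyFlat.of_comap_surjective (Algebra.IsIntegral.comap_surjective (Inv π) A)
  obtain ⟨r, hr⟩ := Groth.Agent.Lib.Helper22.FSDesc.exists_retraction (Inv π) A
  let ι : (Inv π) →ₗ[R] A := (Inv π).val.toLinearMap
  let r' : A →ₗ[R] (Inv π) := r.restrictScalars R
  have hri : r' ∘ₗ ι = LinearMap.id := by
    refine LinearMap.ext fun c => ?_
    show r (c : A) = c
    have : (c : A) = c • (1 : A) := by
      show (c : A) = (c : A) * 1
      rw [mul_one]
    rw [this, map_smul, hr, smul_eq_mul, mul_one]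
  refine ⟨Module.Finite.of_surjective r' ?_, Module.Projective.of_split ι r' hri⟩
  intro c
  exact ⟨ι c, LinearMap.congr_fun hri c⟩

include hπ in
/-- order of `G` = order of `G'` times the index -/
theorem rank_mul (q : PrimeSpectrum R) :
    Module.rankAtStalk (R := R) A q =
      Module.rankAtStalk (R := R) C q * Module.rankAtStalk (R := R) (Inv π) q := by
  haveI : Module.Finite R C := Module.Finite.of_surjective (π : A →ₗ[R] C) hπ
  haveI := finite_inv π hπ
  haveI := projective_inv π hπ
  obtain ⟨h1, h2⟩ := finite_projective_inv_base π hπ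
  haveI := h1
  haveI := h2
  exact HQ3.rankAtStalk_tower R (Inv π) A q (Module.rankAtStalk (R := R) C q) (fun p hp => by
    rw [rankAtStalk_inv π hπ p, hp])

end General

end Groth.Agent.Lib.Helper26.HQ4
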