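import Mathlib

set_option maxHeartbeats 400000

open CategoryTheory CategoryTheory.Limits CategoryTheory.Triangulated Pretriangulated ZeroObject

namespace Groth.Agent.Lib.Helper26.HeartAb

universe v' u' v u

variable {C : Type u} [Category.{v} C] [Preadditive C] [HasZeroObject C] [HasShift C ℤ]
  [∀ n : ℤ, (shiftFunctor C n).Additive] [Pretriangulated C]
  (t : TStructure C) {H : Type u'} [Category.{v'} H] [Preadditive H] [t.Heart H]

lemma exists_iso_of_heart (X : C) (hX : t.heart X) :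
    ∃ Y : H, Nonempty ((t.ιHeart (H := H)).obj Y ≅ X) := by
  rw [← t.essImage_ιHeart H] at hX
  exact hX

include t in
lemma hasZeroObject : HasZeroObject H := by
  have h0 : t.heart (0 : C) := by
    rw [TStructure.mem_heart_iff]
    exact ⟨inferInstance, inferInstance⟩
  obtain ⟨Z, ⟨e⟩⟩ := exists_iso_of_heart (H := H) t 0 h0
  exact ⟨⟨Z, IsZero.of_full_of_faithful_of_isZero t.ιHeart Z (IsZero.of_iso (isZero_zero C) e)⟩⟩

lemma biprod_mem_heart (X Y : C) (hX : t.heart X) (hY : t.heart Y) : t.heart (X ⊞ Y) := by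
  rw [TStructure.mem_heart_iff] at hX hY ⊢
  obtain ⟨hX1, hX2⟩ := hX
  obtain ⟨hY1, hY2⟩ := hY
  exact ⟨t.isLE₂ _ (binaryBiproductTriangle_distinguished X Y) 0 hX1 hY1,
    t.isGE₂ _ (binaryBiproductTriangle_distinguished X Y) 0 hX2 hY2⟩

include t in
lemma hasBinaryBiproducts : HasBinaryBiproducts H := by
  refine ⟨fun X Y => ?_⟩
  obtain ⟨W, ⟨e⟩⟩ := exists_iso_of_heart (H := H) t _
    (biprod_mem_heart t _ _ (t.ιHeart_obj_mem X) (t.ιHeart_obj_mem Y))
  let b : BinaryBicone X Y :=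
    { pt := W
      fst := (t.ιHeart (H := H)).preimage (e.hom ≫ biprod.fst)
      snd := (t.ιHeart (H := H)).preimage (e.hom ≫ biprod.snd)
      inl := (t.ιHeart (H := H)).preimage (biprod.inl ≫ e.inv)
      inr := (t.ιHeart (H := H)).preimage (biprod.inr ≫ e.inv)
      inl_fst := (t.ιHeart (H := H)).map_injective (by simp)
      inl_snd := (t.ιHeart (H := H)).map_injective (by simp)
      inr_fst := (t.ιHeart (H := H)).map_injective (by simp)
      inr_snd := (t.ιHeart (H := H)).map_injective (by simp) }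
  refine HasBinaryBiproduct.mk ⟨b, isBinaryBilimitOfTotal b ((t.ιHeart (H := H)).map_injective ?_)⟩
  simp only [b, Functor.map_add, Functor.map_comp, Functor.map_preimage, Functor.map_id,
    Category.assoc]
  rw [← Preadditive.comp_add, ← Category.assoc, ← Category.assoc, ← Preadditive.add_comp,
    biprod.total, Category.id_comp, e.hom_inv_id]
  exact ((t.ιHeart (H := H)).map_id W).symm

include t in
lemma hasFiniteProducts : HasFiniteProducts H := by
  have := hasZeroObject (H := H) t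
  have := hasBinaryBiproducts (H := H) t
  exact hasFiniteProducts_of_has_binary_and_terminal

lemma hι ⦃X Y : H⦄ ⦃n : ℤ⦄ (f : (t.ιHeart (H := H)).obj X ⟶ ((t.ιHeart (H := H)).obj Y)⟦n⟧)
    (hn : n < 0) : f = 0 := by
  have : t.IsGE (((t.ιHeart (H := H)).obj Y)⟦n⟧) (-n) :=
    t.isGE_shift ((t.ιHeart (H := H)).obj Y) 0 n (-n) (by omega)
  exact t.zero_of_isLE_of_isGE f 0 (-n) (by omega) inferInstance inferInstance

variable [IsTriangulated C]

lemma hA : AbelianSubcategory.admissibleMorphism (t.ιHeart (H := H)) = ⊤ := by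
  ext X₁ X₂ f₁
  simp only [MorphismProperty.top_apply, iff_true]
  intro X₃ f₂ f₃ hT
  -- X₃ is ≤ 0 and ≥ -1
  have hrot := rot_of_distTriang _ hT
  have h1LE' : t.IsLE (((t.ιHeart (H := H)).obj X₁)⟦(1 : ℤ)⟧) (-1) :=
    t.isLE_shift _ 0 1 (-1) (by omega)
  have h1LE : t.IsLE (((t.ιHeart (H := H)).obj X₁)⟦(1 : ℤ)⟧) 0 :=
    t.isLE_of_le _ (-1) 0 (by omega)
  have h1GE : t.IsGE (((t.ιHeart (H := H)).obj X₁)⟦(1 : ℤ)⟧) (-1) :=
    t.isGE_shift _ 0 1 (-1) (by omega)
  have h2GE : t.IsGE ((t.ιHeart (H := H)).obj X₂) (-1) := t.isGE_of_ge _ (-1) 0 (by omega)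
  have h2LE : t.IsLE ((t.ιHeart (H := H)).obj X₂) 0 := inferInstance
  have h3LE : t.IsLE X₃ 0 := t.isLE₂ _ hrot 0 h2LE h1LE
  have h3GE : t.IsGE X₃ (-1) := t.isGE₂ _ hrot (-1) h2GE h1GE
  -- truncation triangle
  have hTr := t.triangleLTGE_distinguished 0 X₃
  have hA1 : t.IsLE ((t.truncLT 0).obj X₃) (-1) := t.isLE_truncLT_obj X₃ 0 (-1) (by omega)
  have hA2 : t.IsGE ((t.truncLT 0).obj X₃) (-1) := inferInstance
  have hB1 : t.IsLE ((t.truncGE 0).obj X₃) 0 := inferInstance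
  have hB2 : t.IsGE ((t.truncGE 0).obj X₃) 0 := inferInstance
  have hBh : t.heart ((t.truncGE 0).obj X₃) := (t.mem_heart_iff _).mpr ⟨hB1, hB2⟩
  have hAh : t.heart (((t.truncLT 0).obj X₃)⟦(-1 : ℤ)⟧) := (t.mem_heart_iff _).mpr
    ⟨t.isLE_shift _ (-1) (-1) 0 (by omega), t.isGE_shift _ (-1) (-1) 0 (by omega)⟩
  obtain ⟨Q, ⟨eQ⟩⟩ := exists_iso_of_heart (H := H) t _ hBh
  obtain ⟨K, ⟨eK⟩⟩ := exists_iso_of_heart (H := H) t _ hAh
  let eA : ((t.ιHeart (H := H)).obj K)⟦(1 : ℤ)⟧ ≅ (t.truncLT 0).obj X₃ :=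
    (shiftFunctor C (1 : ℤ)).mapIso eK ≪≫ (shiftEquiv C (1 : ℤ)).counitIso.app _
  clear_value eA
  refine ⟨K, Q, eA.hom ≫ (t.truncLTι 0).app X₃, (t.truncGEπ 0).app X₃ ≫ eQ.inv,
    eQ.hom ≫ (t.truncGEδLT 0).app X₃ ≫ eA.inv⟦(1 : ℤ)⟧', ?_⟩
  refine isomorphic_distinguished _ hTr _ ?_
  refine Triangle.isoMk _ _ eA (Iso.refl _) eQ ?_ ?_ ?_
  · exact Category.comp_id _
  · exact (Category.assoc _ _ _).trans ((congrArg (fun k => (t.truncGEπ 0).app X₃ ≫ k)
      eQ.inv_hom_id).trans ((Category.comp_id _).trans (Category.id_comp _).symm))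
  · have h1 : (shiftFunctor C (1 : ℤ)).map eA.inv ≫ (shiftFunctor C (1 : ℤ)).map eA.hom = 𝟙 _ := by
      rw [← CategoryTheory.Functor.map_comp, Iso.inv_hom_id, CategoryTheory.Functor.map_id]
    exact (Category.assoc _ _ _).trans (congrArg (fun k => eQ.hom ≫ k)
      ((Category.assoc _ _ _).trans ((congrArg (fun k => (t.truncGEδLT 0).app X₃ ≫ k) h1).trans
        (Category.comp_id _))))

theorem main {C : Type u} [Category.{v} C] [Preadditive C] [HasZeroObject C] [HasShift C ℤ]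
    [∀ n : ℤ, (shiftFunctor C n).Additive] [Pretriangulated C] [IsTriangulated C]
    (t : TStructure C) {H : Type u'} [Category.{v'} H] [inst : Preadditive H] [t.Heart H] :
    ∃ a : Abelian H, @Abelian.toPreadditive H _ a = inst := by
  have := hasFiniteProducts (H := H) t
  exact ⟨AbelianSubcategory.abelian (t.ιHeart (H := H)) (hι t) (hA t), rfl⟩

end Groth.Agent.Lib.Helper26.HeartAb
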