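import Mathlib
import Groth.Agent.Lib.Helper26.HeartAb

set_option maxHeartbeats 400000

open CategoryTheory CategoryTheory.Limits CategoryTheory.Triangulated Pretriangulated ZeroObject

namespace Groth.Agent.Lib.Helper26.HeartSES

universe v' u' v u

open Groth.Agent.Lib.Helper26

theorem main {C : Type u} [Category.{v} C] [Preadditive C] [HasZeroObject C] [HasShift C ℤ]
    [∀ n : ℤ, (shiftFunctor C n).Additive] [Pretriangulated C] [IsTriangulated C]
    (t : TStructure C) {H : Type u'} [Category.{v'} H] [Abelian H] [t.Heart H] {X Y Z : H}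
    (u : X ⟶ Y) (v : Y ⟶ Z) :
    (∃ huv : u ≫ v = 0, (ShortComplex.mk u v huv).ShortExact) ↔
      ∃ (w : t.ιHeart.obj Z ⟶ (t.ιHeart.obj X)⟦(1 : ℤ)⟧),
        Triangle.mk (t.ιHeart.map u) (t.ιHeart.map v) w ∈ distTriang C := by
  constructor
  · rintro ⟨huv, hS⟩
    have : Epi v := hS.epi_g
    have : Mono u := hS.mono_f
    obtain ⟨X₁, i, δ, hT⟩ := AbelianSubcategory.exists_distinguished_triangle_of_epi
      (HeartAb.hι t) (HeartAb.hA t) v
    have hK1 := AbelianSubcategory.isLimitKernelForkOfDistTriang (HeartAb.hι t) i v δ hT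
    have hK2 : IsLimit (KernelFork.ofι u huv) := hS.fIsKernel
    let e : X ≅ X₁ := IsLimit.conePointUniqueUpToIso hK2 hK1
    have he : e.hom ≫ i = u :=
      IsLimit.conePointUniqueUpToIso_hom_comp hK2 hK1 WalkingParallelPair.zero
    clear_value e
    refine ⟨δ ≫ ((t.ιHeart (H := H)).map e.inv)⟦(1 : ℤ)⟧', ?_⟩
    refine isomorphic_distinguished _ hT _ ?_
    refine Triangle.isoMk _ _ ((t.ιHeart (H := H)).mapIso e) (Iso.refl _) (Iso.refl _) ?_ ?_ ?_
    · change (t.ιHeart (H := H)).map u ≫ 𝟙 _ = (t.ιHeart (H := H)).map e.hom ≫ (t.ιHeart (H := H)).map i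
      exact (Category.comp_id _).trans (by rw [← CategoryTheory.Functor.map_comp, he])
    · change (t.ιHeart (H := H)).map v ≫ 𝟙 _ = 𝟙 _ ≫ (t.ιHeart (H := H)).map v
      exact (Category.comp_id _).trans (Category.id_comp _).symm
    · change (δ ≫ ((t.ιHeart (H := H)).map e.inv)⟦(1 : ℤ)⟧') ≫
        ((t.ιHeart (H := H)).map e.hom)⟦(1 : ℤ)⟧' = 𝟙 _ ≫ δ
      have h1 : ((t.ιHeart (H := H)).map e.inv)⟦(1 : ℤ)⟧' ≫
          ((t.ιHeart (H := H)).map e.hom)⟦(1 : ℤ)⟧' = 𝟙 _ := by
        rw [← CategoryTheory.Functor.map_comp, ← CategoryTheory.Functor.map_comp, e.inv_hom_id,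
          CategoryTheory.Functor.map_id, CategoryTheory.Functor.map_id]
      exact (Category.assoc _ _ _).trans ((congrArg (fun k => δ ≫ k) h1).trans
        ((Category.comp_id _).trans (Category.id_comp _).symm))
  · rintro ⟨w, hT⟩
    have hK := AbelianSubcategory.isLimitKernelForkOfDistTriang (HeartAb.hι t) u v w hT
    have hQ := AbelianSubcategory.isColimitCokernelCoforkOfDistTriang (HeartAb.hι t) u v w hT
    have huv : u ≫ v = 0 := (t.ιHeart (H := H)).map_injective (by
      have : (t.ιHeart (H := H)).map u ≫ (t.ιHeart (H := H)).map v = 0 :=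
        comp_distTriang_mor_zero₁₂ _ hT
      rw [CategoryTheory.Functor.map_comp, this, CategoryTheory.Functor.map_zero])
    refine ⟨huv, ?_⟩
    have hm : Mono u := mono_of_isLimit_fork hK
    have he : Epi v := epi_of_isColimit_cofork hQ
    exact { exact := ShortComplex.exact_of_f_is_kernel _ hK }

end Groth.Agent.Lib.Helper26.HeartSES
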