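import Mathlib.RingTheory.Smooth.Basic

/-!
The Hochschild extension of a commutative algebra by a symmetric 2-cocycle.
-/

set_option autoImplicit false
universe u v

namespace Groth.Agent.Lib.Helper26.HochExt

variable {A : Type u} {B : Type v} [CommRing A] [CommRing B] [Algebra A B]
  {L : Type v} [AddCommGroup L] [Module B L] [Module A L] [IsScalarTower A B L]

/-- data of a symmetric Hochschild 2-cocycle -/
structure Cocycle (A : Type u) (B : Type v) [CommRing A] [CommRing B] [Algebra A B]
    (L : Type v) [AddCommGroup L] [Module B L] [Module A L] [IsScalarTower A B L] where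
  f : B →ₗ[A] B →ₗ[A] L
  symm : ∀ x y : B, f x y = f y x
  coc : ∀ x y z : B, f (x * y) z + z • f x y = x • f y z + f x (y * z)

/-- the extension `B × L` -/
@[ext] structure E (c : Cocycle A B L) where
  fst : B
  snd : L

variable (c : Cocycle A B L)

namespace E

/-- identification with the product -/
def toProd : E c ≃ B × L where
  toFun x := (x.fst, x.snd)
  invFun p := ⟨p.1, p.2⟩
  left_inv _ := rfl
  right_inv _ := rfl

instance : AddCommGroup (E c) := (toProd c).addCommGroup
instance : Module A (E c) := (toProd c).module A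
instance : One (E c) := ⟨⟨1, -c.f 1 1⟩⟩
instance : Mul (E c) :=
  ⟨fun x y => ⟨x.fst * y.fst, x.fst • y.snd + y.fst • x.snd + c.f x.fst y.fst⟩⟩

@[simp] lemma zero_fst : (0 : E c).fst = 0 := rfl
@[simp] lemma zero_snd : (0 : E c).snd = 0 := rfl
@[simp] lemma add_fst (x y : E c) : (x + y).fst = x.fst + y.fst := rfl
@[simp] lemma add_snd (x y : E c) : (x + y).snd = x.snd + y.snd := rfl
@[simp] lemma neg_fst (x : E c) : (-x).fst = -x.fst := rfl
@[simp] lemma neg_snd (x : E c) : (-x).snd = -x.snd := rfl
@[simp] lemma sub_fst (x y : E c) : (x - y).fst = x.fst - y.fst := rfl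
@[simp] lemma sub_snd (x y : E c) : (x - y).snd = x.snd - y.snd := rfl
@[simp] lemma nsmul_fst (n : ℕ) (x : E c) : (n • x).fst = n • x.fst := rfl
@[simp] lemma nsmul_snd (n : ℕ) (x : E c) : (n • x).snd = n • x.snd := rfl
@[simp] lemma zsmul_fst (n : ℤ) (x : E c) : (n • x).fst = n • x.fst := rfl
@[simp] lemma zsmul_snd (n : ℤ) (x : E c) : (n • x).snd = n • x.snd := rfl
@[simp] lemma smul_fst (a : A) (x : E c) : (a • x).fst = a • x.fst := rfl
@[simp] lemma smul_snd (a : A) (x : E c) : (a • x).snd = a • x.snd := rfl
@[simp] lemma one_fst : (1 : E c).fst = 1 := rfl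
@[simp] lemma one_snd : (1 : E c).snd = -c.f 1 1 := rfl
@[simp] lemma mul_fst (x y : E c) : (x * y).fst = x.fst * y.fst := rfl
@[simp] lemma mul_snd (x y : E c) :
    (x * y).snd = x.fst • y.snd + y.fst • x.snd + c.f x.fst y.fst := rfl

lemma f_one (b : B) : c.f 1 b = b • c.f 1 1 := by
  have h := c.coc 1 1 b
  rw [one_mul, one_mul, one_smul] at h
  exact (add_left_cancel h).symm

instance : CommRing (E c) where
  mul_assoc x y z := by
    ext
    · simp [mul_assoc]
    · simp only [mul_fst, mul_snd, smul_add, map_add]
      have h := c.coc x.fst y.fst z.fst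
      simp only [mul_smul]
      rw [smul_comm z.fst x.fst y.snd, smul_comm z.fst y.fst x.snd]
      have e1 : x.fst • y.fst • z.snd + (x.fst • z.fst • y.snd + y.fst • z.fst • x.snd + z.fst • c.f x.fst y.fst)
          + c.f (x.fst * y.fst) z.fst
          = x.fst • y.fst • z.snd + x.fst • z.fst • y.snd + y.fst • z.fst • x.snd
            + (c.f (x.fst * y.fst) z.fst + z.fst • c.f x.fst y.fst) := by abel
      rw [e1, h]
      abel
  one_mul x := by
    ext
    · simp
    · simp only [mul_snd, one_fst, one_snd, one_smul]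
      rw [f_one c x.fst, smul_neg]
      abel
  mul_one x := by
    ext
    · simp
    · simp only [mul_snd, one_fst, one_snd, one_smul]
      rw [c.symm x.fst 1, f_one c x.fst, smul_neg]
      abel
  left_distrib x y z := by
    ext
    · simp [mul_add]
    · simp only [mul_snd, add_fst, add_snd, smul_add, add_smul, map_add]
      abel
  right_distrib x y z := by
    ext
    · simp [add_mul]
    · simp only [mul_snd, add_fst, add_snd, smul_add, add_smul, map_add, LinearMap.add_apply]
      abel
  zero_mul x := by ext <;> simp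
  mul_zero x := by ext <;> simp
  mul_comm x y := by
    ext
    · simp [mul_comm]
    · simp only [mul_snd, c.symm x.fst y.fst]
      abel

instance : Algebra A (E c) :=
  Algebra.ofModule
    (fun a x y => by
      ext
      · simp
      · simp only [mul_snd, smul_fst, smul_snd, smul_add, map_smul, LinearMap.smul_apply]
        rw [smul_assoc a x.fst y.snd, smul_comm a y.fst x.snd])
    (fun a x y => by
      ext
      · simp
      · simp only [mul_snd, smul_fst, smul_snd, smul_add, map_smul]
        rw [smul_assoc a y.fst x.snd, smul_comm a x.fst y.snd])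

/-- projection to `B` -/
def pr : E c →ₐ[A] B where
  toFun x := x.fst
  map_one' := rfl
  map_mul' _ _ := rfl
  map_zero' := rfl
  map_add' _ _ := rfl
  commutes' a := by
    show (algebraMap A (E c) a).fst = algebraMap A B a
    rw [Algebra.algebraMap_eq_smul_one, Algebra.algebraMap_eq_smul_one]
    rfl

lemma pr_surjective : Function.Surjective (pr c) := fun b => ⟨⟨b, 0⟩, rfl⟩

lemma isNilpotent_ker : IsNilpotent (RingHom.ker (pr c : E c →+* B)) := by
  refine ⟨2, ?_⟩
  rw [pow_two, Ideal.zero_eq_bot, eq_bot_iff, Ideal.mul_le]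
  intro x hx y hy
  have hx' : x.fst = 0 := hx
  have hy' : y.fst = 0 := hy
  rw [Ideal.mem_bot]
  ext
  · simp [hx']
  · simp [hx', hy']

/-- second projection, linear -/
def sndₗ : E c →ₗ[A] L where
  toFun x := x.snd
  map_add' _ _ := rfl
  map_smul' _ _ := rfl

end E

theorem exists_cobound [Algebra.FormallySmooth A B] :
    ∃ g : B →ₗ[A] L, ∀ x y : B, c.f x y = x • g y - g (x * y) + y • g x := by
  set s : B →ₐ[A] E c :=
    Algebra.FormallySmooth.liftOfSurjective (AlgHom.id A B) (E.pr c) (E.pr_surjective c)
      (E.isNilpotent_ker c) with hs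
  have h1 : ∀ b, (s b).fst = b := fun b =>
    Algebra.FormallySmooth.liftOfSurjective_apply (AlgHom.id A B) (E.pr c) (E.pr_surjective c)
      (E.isNilpotent_ker c) b
  refine ⟨-((E.sndₗ c).comp s.toLinearMap), fun x y => ?_⟩
  have h2 := congrArg E.snd (map_mul s x y)
  rw [E.mul_snd, h1, h1] at h2
  simp only [LinearMap.neg_apply, LinearMap.comp_apply, AlgHom.toLinearMap_apply]
  show c.f x y = x • -(s y).snd - -(s (x * y)).snd + y • -(s x).snd
  rw [h2]
  simp only [smul_neg]
  abel

end Groth.Agent.Lib.Helper26.HochExt
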