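import Mathlib
set_option maxHeartbeats 400000
set_option autoImplicit false
universe u

/-! S9659: for a ℤ-graded ring with a homogeneous unit of positive degree, homogeneous primes are
homeomorphic to `Spec S₀`. -/
namespace Groth.Agent.Lib.Helper26.HomogPrimes

section
variable {R S : Type u} [CommRing R] [CommRing S] [Algebra R S] (𝒜 : ℤ → Submodule R S)
  [GradedAlgebra 𝒜]

theorem inv_mem (f : Sˣ) (d : ℤ) (hf : (f : S) ∈ 𝒜 d) : ((f⁻¹ : Sˣ) : S) ∈ 𝒜 (-d) := by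
  have h1 : ((DirectSum.decompose 𝒜 ((f : S) * ((f⁻¹ : Sˣ) : S)) (d + (-d)) : S)) =
      f * DirectSum.decompose 𝒜 ((f⁻¹ : Sˣ) : S) (-d) :=
    DirectSum.coe_decompose_mul_add_of_left_mem 𝒜 hf
  rw [Units.mul_inv, add_neg_cancel,
    DirectSum.decompose_of_mem_same 𝒜 (SetLike.GradedOne.one_mem)] at h1
  have h2 : ((f⁻¹ : Sˣ) : S) = DirectSum.decompose 𝒜 ((f⁻¹ : Sˣ) : S) (-d) := by
    calc ((f⁻¹ : Sˣ) : S) = ((f⁻¹ : Sˣ) : S) * 1 := (mul_one _).symm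
      _ = ((f⁻¹ : Sˣ) : S) * (f * DirectSum.decompose 𝒜 ((f⁻¹ : Sˣ) : S) (-d)) := by rw [← h1]
      _ = DirectSum.decompose 𝒜 ((f⁻¹ : Sˣ) : S) (-d) := by
        rw [← mul_assoc, Units.inv_mul, one_mul]
  rw [h2]
  exact (DirectSum.decompose 𝒜 ((f⁻¹ : Sˣ) : S) (-d)).2

theorem zpow_mem (f : Sˣ) (d : ℤ) (hf : (f : S) ∈ 𝒜 d) (m : ℤ) :
    ((f ^ m : Sˣ) : S) ∈ 𝒜 (m * d) := by
  cases m with
  | ofNat n =>
    have := SetLike.pow_mem_graded n hf
    simpa [nsmul_eq_mul] using this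
  | negSucc n =>
    have := SetLike.pow_mem_graded (n + 1) (inv_mem 𝒜 f d hf)
    rw [zpow_negSucc, ← inv_pow, Units.val_pow_eq_pow_val]
    convert this using 2
    rw [Int.negSucc_eq, nsmul_eq_mul]
    push_cast
    ring

variable (fu : Sˣ) (d' : ℕ)

/-- `x ↦ x^d f^{-n}`, landing in degree zero when `x` has degree `n`. -/
def rho (n : ℤ) (x : S) : S := x ^ d' * ((fu ^ (-n) : Sˣ) : S)

theorem rho_mem (hf : (fu : S) ∈ 𝒜 (d' : ℤ)) (n : ℤ) (x : S) (hx : x ∈ 𝒜 n) :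
    rho fu d' n x ∈ 𝒜 0 := by
  have h1 := SetLike.pow_mem_graded d' hx
  have h2 := zpow_mem 𝒜 fu d' hf (-n)
  have h3 := SetLike.mul_mem_graded h1 h2
  have : d' • n + (-n) * (d' : ℤ) = 0 := by rw [nsmul_eq_mul]; ring
  rw [this] at h3
  exact h3

theorem rho_mem_iff (hd : 0 < d') (p : Ideal S) [p.IsPrime] (n : ℤ) (x : S) :
    rho fu d' n x ∈ p ↔ x ∈ p := by
  constructor
  · intro h
    rcases Ideal.IsPrime.mem_or_mem ‹_› h with h1 | h1
    · exact Ideal.IsPrime.mem_of_pow_mem ‹_› _ h1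
    · exfalso
      exact (Ideal.IsPrime.ne_top ‹_›) (Ideal.eq_top_of_isUnit_mem _ h1 (Units.isUnit _))
  · intro h
    exact Ideal.mul_mem_right _ _ (Ideal.pow_mem_of_mem _ h _ hd)

/-- the map of the statement -/
def F (p : {p : PrimeSpectrum S // p.asIdeal.IsHomogeneous 𝒜}) :
    PrimeSpectrum (SetLike.GradeZero.subring 𝒜) :=
  PrimeSpectrum.comap (SetLike.GradeZero.subring 𝒜).subtype p.1

theorem mem_F_iff (p : {p : PrimeSpectrum S // p.asIdeal.IsHomogeneous 𝒜})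
    (z : SetLike.GradeZero.subring 𝒜) : z ∈ (F 𝒜 p).asIdeal ↔ (z : S) ∈ p.1.asIdeal := Iff.rfl

theorem mem_iff_forall (hf : (fu : S) ∈ 𝒜 (d' : ℤ)) (hd : 0 < d')
    (p : {p : PrimeSpectrum S // p.asIdeal.IsHomogeneous 𝒜}) (x : S) :
    x ∈ p.1.asIdeal ↔ ∀ n : ℤ, (⟨rho fu d' n (DirectSum.decompose 𝒜 x n : S),
      rho_mem 𝒜 fu d' hf n _ (DirectSum.decompose 𝒜 x n).2⟩ : SetLike.GradeZero.subring 𝒜) ∈
        (F 𝒜 p).asIdeal := by
  rw [Ideal.IsHomogeneous.mem_iff 𝒜 p.2]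
  refine forall_congr' fun n => ?_
  rw [mem_F_iff]
  exact (rho_mem_iff fu d' hd p.1.asIdeal n _).symm

theorem F_injective (hf : (fu : S) ∈ 𝒜 (d' : ℤ)) (hd : 0 < d') : Function.Injective (F 𝒜) := by
  intro p p' h
  apply Subtype.ext
  apply PrimeSpectrum.ext
  ext x
  rw [mem_iff_forall 𝒜 fu d' hf hd p, mem_iff_forall 𝒜 fu d' hf hd p', h]

theorem comap_map_eq (q : Ideal (SetLike.GradeZero.subring 𝒜)) :
    (q.map (SetLike.GradeZero.subring 𝒜).subtype).comap (SetLike.GradeZero.subring 𝒜).subtype = q := by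
  apply le_antisymm _ Ideal.le_comap_map
  intro z hz
  rw [Ideal.mem_comap] at hz
  have key : ∀ x ∈ q.map (SetLike.GradeZero.subring 𝒜).subtype, ∀ s : S,
      ∃ w ∈ q, (w : S) = (DirectSum.decompose 𝒜 (s * x) 0 : S) := by
    intro x hx
    rw [Ideal.map] at hx
    induction hx using Submodule.span_induction with
    | mem x hx =>
      obtain ⟨w0, hw0, rfl⟩ := hx
      intro s
      refine ⟨⟨(DirectSum.decompose 𝒜 s 0 : S), (DirectSum.decompose 𝒜 s 0).2⟩ * w0,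
        Ideal.mul_mem_left _ _ hw0, ?_⟩
      rw [Subring.subtype_apply,
        DirectSum.coe_decompose_mul_of_right_mem_zero 𝒜 (show (w0 : S) ∈ 𝒜 0 from w0.2)]
      rfl
    | zero => intro s; exact ⟨0, q.zero_mem, by simp⟩
    | add x y _ _ hx hy =>
      intro s
      obtain ⟨w1, hw1, e1⟩ := hx s
      obtain ⟨w2, hw2, e2⟩ := hy s
      refine ⟨w1 + w2, q.add_mem hw1 hw2, ?_⟩
      rw [mul_add, DirectSum.decompose_add, DirectSum.add_apply]
      push_cast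
      rw [e1, e2]
    | smul a x _ hx =>
      intro s
      obtain ⟨w, hw, e⟩ := hx (s * a)
      refine ⟨w, hw, ?_⟩
      rw [e, smul_eq_mul, mul_assoc]
  obtain ⟨w, hw, e⟩ := key _ hz 1
  rw [one_mul, Subring.subtype_apply,
    DirectSum.decompose_of_mem_same 𝒜 (show (z : S) ∈ 𝒜 0 from z.2)] at e
  have : w = z := Subtype.ext e
  rw [← this]
  exact hw

theorem F_surjective : Function.Surjective (F 𝒜) := by
  intro q
  haveI := q.isPrime
  obtain ⟨P, hP, hPq⟩ := (Ideal.comap_map_eq_self_iff_of_isPrime q.asIdeal).mp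
    (comap_map_eq 𝒜 q.asIdeal)
  refine ⟨⟨⟨(P.homogeneousCore 𝒜).toIdeal, Ideal.IsPrime.homogeneousCore hP⟩,
    (P.homogeneousCore 𝒜).isHomogeneous⟩, ?_⟩
  apply PrimeSpectrum.ext
  rw [← hPq]
  ext z
  rw [mem_F_iff, Ideal.mem_comap]
  constructor
  · intro h
    exact Ideal.toIdeal_homogeneousCore_le 𝒜 P h
  · intro h
    exact Ideal.mem_homogeneousCore_of_homogeneous_of_mem ⟨0, z.2⟩ h

theorem F_continuous : Continuous (F 𝒜) :=
  (PrimeSpectrum.continuous_comap _).comp continuous_subtype_val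

theorem F_image_basicOpen (hf : (fu : S) ∈ 𝒜 (d' : ℤ)) (hd : 0 < d') (g : S) :
    F 𝒜 '' (Subtype.val ⁻¹' (PrimeSpectrum.basicOpen g : Set (PrimeSpectrum S))) =
      ⋃ n : ℤ, (PrimeSpectrum.basicOpen
        (⟨rho fu d' n (DirectSum.decompose 𝒜 g n : S),
          rho_mem 𝒜 fu d' hf n _ (DirectSum.decompose 𝒜 g n).2⟩ : SetLike.GradeZero.subring 𝒜) :
          Set (PrimeSpectrum (SetLike.GradeZero.subring 𝒜))) := by
  ext q
  simp only [Set.mem_image, Set.mem_preimage, SetLike.mem_coe, PrimeSpectrum.mem_basicOpen,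
    Set.mem_iUnion]
  constructor
  · rintro ⟨p, hgp, rfl⟩
    have : ∃ n : ℤ, (DirectSum.decompose 𝒜 g n : S) ∉ p.1.asIdeal := by
      by_contra hcon
      push_neg at hcon
      exact hgp ((Ideal.IsHomogeneous.mem_iff 𝒜 p.2).mpr hcon)
    obtain ⟨n, hn⟩ := this
    refine ⟨n, ?_⟩
    rw [mem_F_iff]
    intro h
    exact hn ((rho_mem_iff fu d' hd p.1.asIdeal n _).mp h)
  · rintro ⟨n, hn⟩
    obtain ⟨p, rfl⟩ := F_surjective 𝒜 q
    refine ⟨p, ?_, rfl⟩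
    intro hg
    apply hn
    rw [mem_F_iff]
    exact (rho_mem_iff fu d' hd p.1.asIdeal n _).mpr (p.2 n hg)

theorem F_isOpenMap (hf : (fu : S) ∈ 𝒜 (d' : ℤ)) (hd : 0 < d') : IsOpenMap (F 𝒜) := by
  have hB := TopologicalSpace.IsTopologicalBasis.isInducing
    (Topology.IsInducing.subtypeVal (t := {p : PrimeSpectrum S | p.asIdeal.IsHomogeneous 𝒜}))
    PrimeSpectrum.isTopologicalBasis_basic_opens
  rw [hB.isOpenMap_iff]
  rintro _ ⟨_, ⟨g, rfl⟩, rfl⟩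
  change IsOpen (F 𝒜 '' (Subtype.val ⁻¹' (PrimeSpectrum.basicOpen g : Set (PrimeSpectrum S))))
  rw [F_image_basicOpen 𝒜 fu d' hf hd g]
  exact isOpen_iUnion fun n => (PrimeSpectrum.basicOpen _).isOpen

theorem main (f : S) (d : ℤ) (hd : 0 < d) (hf : f ∈ 𝒜 d) (hu : IsUnit f) :
    IsHomeomorph (fun p : {p : PrimeSpectrum S // p.asIdeal.IsHomogeneous 𝒜} =>
      PrimeSpectrum.comap (SetLike.GradeZero.subring 𝒜).subtype p.1) := by
  obtain ⟨fu, rfl⟩ := hu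
  obtain ⟨d', rfl⟩ := Int.eq_ofNat_of_zero_le hd.le
  have hd' : 0 < d' := by exact_mod_cast hd
  exact ⟨F_continuous 𝒜, F_isOpenMap 𝒜 fu d' hf hd',
    F_injective 𝒜 fu d' hf hd', F_surjective 𝒜⟩

end
end Groth.Agent.Lib.Helper26.HomogPrimes
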