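import Mathlib.RingTheory.HopfAlgebra.Convolution
import Mathlib.RingTheory.Bialgebra.Hom
import Mathlib.Algebra.Algebra.Epi
import Mathlib.RingTheory.TensorProduct.Maps
import Mathlib.RingTheory.Ideal.Maps
import Mathlib.RingTheory.Finiteness.Basic

/-!
An injective map of finite commutative Hopf algebras with trivial kernel is surjective.
-/

set_option autoImplicit false
universe u v w

namespace Groth.Agent.Lib.Helper26.HopfEpi

open WithConv TensorProduct

section Inv

variable {k : Type u} [CommRing k] {H : Type v} [CommRing H] [HopfAlgebra k H]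
  {T : Type w} [CommRing T] [Algebra k T]

lemma id_antipode_cancel :
    toConv (AlgHom.id k H) * toConv (HopfAlgebra.antipodeAlgHom k H) = 1 := by
  apply WithConv.ofConv_injective
  apply AlgHom.toLinearMap_injective
  apply WithConv.toConv_injective
  rw [AlgHom.toLinearMap_convMul, AlgHom.toLinearMap_convOne]
  simp [LinearMap.id_mul_antipode]

lemma comp_one (j : H →ₐ[k] T) :
    j.comp (1 : WithConv (H →ₐ[k] H)).ofConv = (1 : WithConv (H →ₐ[k] T)).ofConv := by
  apply AlgHom.ext
  intro a
  show j (algebraMap k H (Coalgebra.counit a)) = algebraMap k T (Coalgebra.counit a)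
  rw [AlgHom.commutes]

lemma inv_mul (j : H →ₐ[k] T) :
    toConv (j.comp (HopfAlgebra.antipodeAlgHom k H)) * toConv j = 1 := by
  have h := AlgHom.comp_convMul_distrib j (toConv (HopfAlgebra.antipodeAlgHom k H))
    (toConv (AlgHom.id k H))
  rw [AlgHom.antipode_id_cancel, comp_one] at h
  apply WithConv.ofConv_injective
  rw [h]
  rfl

lemma mul_inv (j : H →ₐ[k] T) :
    toConv j * toConv (j.comp (HopfAlgebra.antipodeAlgHom k H)) = 1 := by
  have h := AlgHom.comp_convMul_distrib j (toConv (AlgHom.id k H))
    (toConv (HopfAlgebra.antipodeAlgHom k H))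
  rw [id_antipode_cancel, comp_one] at h
  apply WithConv.ofConv_injective
  rw [h]
  rfl

end Inv

section Antipode

variable {k : Type u} [CommRing k] {A : Type v} [CommRing A] [HopfAlgebra k A]
  {B : Type w} [CommRing B] [HopfAlgebra k B]

/-- a bialgebra map of commutative Hopf algebras commutes with the antipodes -/
theorem comp_antipode (f : B →ₐc[k] A) :
    (f : B →ₐ[k] A).comp (HopfAlgebra.antipodeAlgHom k B)
      = (HopfAlgebra.antipodeAlgHom k A).comp (f : B →ₐ[k] A) := by
  have h1 : toConv ((f : B →ₐ[k] A).comp (HopfAlgebra.antipodeAlgHom k B))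
      * toConv (f : B →ₐ[k] A) = 1 := inv_mul _
  have h2 : toConv (f : B →ₐ[k] A)
      * toConv ((HopfAlgebra.antipodeAlgHom k A).comp (f : B →ₐ[k] A)) = 1 := by
    have h := AlgHom.convMul_comp_bialgHom_distrib (toConv (AlgHom.id k A))
      (toConv (HopfAlgebra.antipodeAlgHom k A)) f
    rw [id_antipode_cancel] at h
    apply WithConv.ofConv_injective
    refine Eq.trans ?_ (Eq.trans h.symm ?_)
    · rfl
    · apply AlgHom.ext
      intro b
      show algebraMap k A (Coalgebra.counit (f b)) = algebraMap k A (Coalgebra.counit b)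
      rw [CoalgHomClass.counit_comp_apply]
  exact WithConv.toConv_injective (left_inv_eq_right_inv h1 h2)

end Antipode

section Main

variable {k : Type u} [CommRing k] {A : Type v} [CommRing A] [HopfAlgebra k A]
  {B : Type w} [CommRing B] [HopfAlgebra k B]

theorem surjective_of_trivial_kernel [Module.Finite k A] (f : B →ₐc[k] A)
    (hker : Ideal.map f (RingHom.ker (Bialgebra.counitAlgHom k B))
      = RingHom.ker (Bialgebra.counitAlgHom k A)) :
    Function.Surjective f := by
  letI : Algebra B A := (f : B →+* A).toAlgebra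
  haveI : IsScalarTower k B A :=
    IsScalarTower.of_algebraMap_eq (fun r => ((f : B →ₐ[k] A).commutes r).symm)
  haveI : Module.Finite B A := Module.Finite.of_restrictScalars_finite k B A
  have hepi : Algebra.IsEpi B A := by
    rw [Algebra.isEpi_iff_forall_one_tmul_eq]
    let ι₁ : A →ₐ[k] A ⊗[B] A := Algebra.TensorProduct.includeLeft
    let ι₂ : A →ₐ[k] A ⊗[B] A :=
      (Algebra.TensorProduct.includeRight (R := B) (A := A) (B := A)).restrictScalars k
    have hj : ι₁.comp (f : B →ₐ[k] A) = ι₂.comp (f : B →ₐ[k] A) := by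
      apply AlgHom.ext
      intro b
      show (f b) ⊗ₜ[B] (1 : A) = (1 : A) ⊗ₜ[B] (f b)
      have hfb : f b = b • (1 : A) := by
        rw [Algebra.smul_def, mul_one]; rfl
      rw [hfb, TensorProduct.smul_tmul]
    set Φ : WithConv (A →ₐ[k] A ⊗[B] A) :=
      toConv (ι₁.comp (HopfAlgebra.antipodeAlgHom k A)) * toConv ι₂ with hΦdef
    have hΦf : Φ.ofConv.comp (f : B →ₐ[k] A) = (1 : WithConv (B →ₐ[k] A ⊗[B] A)).ofConv := by
      rw [hΦdef, AlgHom.convMul_comp_bialgHom_distrib]
      have e1 : (toConv (ι₁.comp (HopfAlgebra.antipodeAlgHom k A))).ofConv.comp (f : B →ₐ[k] A)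
          = (ι₁.comp (f : B →ₐ[k] A)).comp (HopfAlgebra.antipodeAlgHom k B) := by
        rw [ofConv_toConv, AlgHom.comp_assoc, ← comp_antipode, ← AlgHom.comp_assoc]
      have e2 : (toConv ι₂).ofConv.comp (f : B →ₐ[k] A) = ι₁.comp (f : B →ₐ[k] A) := by
        rw [ofConv_toConv, hj]
      rw [e1, e2, inv_mul]
    have hle : Ideal.map f (RingHom.ker (Bialgebra.counitAlgHom k B))
        ≤ RingHom.ker (Φ.ofConv : A →+* A ⊗[B] A) := by
      rw [Ideal.map_le_iff_le_comap]
      intro b hb
      rw [Ideal.mem_comap, RingHom.mem_ker]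
      have h3 := AlgHom.congr_fun hΦf b
      have h4 : (1 : WithConv (B →ₐ[k] A ⊗[B] A)).ofConv b
          = algebraMap k (A ⊗[B] A) (Coalgebra.counit b) := rfl
      rw [h4] at h3
      have hb' : Coalgebra.counit (R := k) b = 0 := hb
      rw [hb', map_zero] at h3
      exact h3
    have hΦ : Φ = 1 := by
      apply WithConv.ofConv_injective
      apply AlgHom.ext
      intro c
      have hc : c - algebraMap k A (Coalgebra.counit c)
          ∈ RingHom.ker (Bialgebra.counitAlgHom k A) := by
        rw [RingHom.mem_ker, map_sub, AlgHom.commutes]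
        exact sub_self _
      rw [← hker] at hc
      have h5 := hle hc
      rw [RingHom.mem_ker] at h5
      have h6 : Φ.ofConv (c - algebraMap k A (Coalgebra.counit c)) = 0 := h5
      rw [map_sub, AlgHom.commutes, sub_eq_zero] at h6
      exact h6
    intro a
    have h12 : toConv ι₂ = toConv ι₁ := by
      have h1 : toConv ι₁ * Φ = toConv ι₂ := by
        rw [hΦdef, ← mul_assoc, mul_inv, one_mul]
      rw [← h1, hΦ, mul_one]
    exact congrArg (fun g : WithConv (A →ₐ[k] A ⊗[B] A) => g.ofConv a) h12
  exact Algebra.isEpi_iff_surjective_algebraMap_of_finite.mp hepi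

end Main

end Groth.Agent.Lib.Helper26.HopfEpi
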