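import Mathlib

/-!
Height one primes of `A[X]` are vertical or horizontal.
-/

set_option autoImplicit false
universe u

namespace Groth.Agent.Lib.Helper26.HtOnePoly

open Polynomial

theorem main (A : Type u) [CommRing A] [IsDomain A]
    [IsNoetherianRing A] (P : Ideal A[X]) [P.IsPrime] (hP : P.height = 1) :
    P.comap (C : A →+* A[X]) = ⊥ ∨
      ((P.comap (C : A →+* A[X])).height = 1 ∧ P = (P.comap (C : A →+* A[X])).map C) := by
  set p := P.comap (C : A →+* A[X]) with hp
  by_cases hp0 : p = ⊥
  · exact Or.inl hp0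
  right
  haveI : p.IsPrime := Ideal.comap_isPrime _ _
  haveI : P.LiesOver p := ⟨rfl⟩
  have h := Ideal.height_eq_height_add_of_liesOver_of_hasGoingDown p P
  rw [hP] at h
  have hp1 : 1 ≤ p.height := by
    rw [ENat.one_le_iff_ne_zero]
    intro h0
    rw [Ideal.height_eq_zero_iff, IsDomain.minimalPrimes_eq_singleton_bot] at h0
    exact hp0 h0
  have hple : p.height ≤ 1 := by rw [h]; exact le_self_add
  have hpe : p.height = 1 := le_antisymm hple hp1
  rw [hpe] at h
  have hq0 : (P.map (Ideal.Quotient.mk (p.map (algebraMap A A[X])))).height = 0 := by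
    have h1 : (1 : ℕ∞) + 0 = 1 + (P.map (Ideal.Quotient.mk (p.map (algebraMap A A[X])))).height := by
      rw [add_zero]; exact h
    exact (WithTop.add_left_cancel (ENat.one_ne_top) h1).symm
  have hle : p.map (algebraMap A A[X]) ≤ P := Ideal.map_comap_le
  haveI : (p.map (algebraMap A A[X])).IsPrime := Ideal.isPrime_map_C_of_isPrime
  haveI : (P.map (Ideal.Quotient.mk (p.map (algebraMap A A[X])))).IsPrime :=
    Ideal.map_isPrime_of_surjective Ideal.Quotient.mk_surjective (by rw [Ideal.mk_ker]; exact hle)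
  rw [Ideal.height_eq_zero_iff, IsDomain.minimalPrimes_eq_singleton_bot, Set.mem_singleton_iff,
    Ideal.map_eq_bot_iff_le_ker, Ideal.mk_ker] at hq0
  exact ⟨hpe, le_antisymm hq0 hle⟩

end Groth.Agent.Lib.Helper26.HtOnePoly
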