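import Mathlib

set_option maxHeartbeats 400000
set_option autoImplicit false

namespace Groth.Agent.Lib.Helper26.HyperODE

open Polynomial

variable {k : Type*} [Field k] [CharZero k]

lemma mult_le_one (P A B : k[X])
    (hode : X * (1 - X) * derivative (derivative P) = A * derivative P + B * P)
    (c : k) (hc0 : c ≠ 0) (hc1 : c ≠ 1) : rootMultiplicity c P ≤ 1 := by
  by_contra hcon
  push Not at hcon
  obtain ⟨μ, hμ⟩ : ∃ μ, μ = rootMultiplicity c P := ⟨_, rfl⟩
  rw [← hμ] at hcon
  have hP0 : P ≠ 0 := by
    rintro rfl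
    rw [rootMultiplicity_zero] at hμ
    omega
  have hroot : P.IsRoot c := (rootMultiplicity_pos hP0).mp (by omega)
  have h1 : rootMultiplicity c (derivative P) = μ - 1 := by
    rw [derivative_rootMultiplicity_of_root hroot, hμ]
  have hP'0 : derivative P ≠ 0 := by
    intro h
    rw [h, rootMultiplicity_zero] at h1
    omega
  have hroot' : (derivative P).IsRoot c := (rootMultiplicity_pos hP'0).mp (by omega)
  have h2 : rootMultiplicity c (derivative (derivative P)) = μ - 1 - 1 := by
    rw [derivative_rootMultiplicity_of_root hroot', h1]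
  have hP''0 : derivative (derivative P) ≠ 0 := by
    intro h
    have h3 := eq_C_of_derivative_eq_zero h
    rw [h3] at hroot'
    have h4 : (derivative P).coeff 0 = 0 := by simpa [IsRoot] using hroot'
    apply hP'0
    rw [h3, h4, map_zero]
  have hd1 : (X - C c) ^ (μ - 1) ∣ derivative P := by
    rw [← le_rootMultiplicity_iff hP'0, h1]
  have hd0 : (X - C c) ^ (μ - 1) ∣ P :=
    (pow_dvd_pow _ (by omega)).trans ((le_rootMultiplicity_iff hP0).mp (le_of_eq hμ))
  have hd : (X - C c) ^ (μ - 1) ∣ X * (1 - X) * derivative (derivative P) := by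
    rw [hode]
    exact dvd_add (Dvd.dvd.mul_left hd1 _) (Dvd.dvd.mul_left hd0 _)
  have hprime : Prime (X - C c) := prime_X_sub_C c
  have hnd : ¬ (X - C c) ∣ X * (1 - X) := by
    rw [dvd_iff_isRoot]
    simp only [IsRoot, eval_mul, eval_X, eval_sub, eval_one, mul_eq_zero, not_or]
    exact ⟨hc0, sub_ne_zero.mpr (Ne.symm hc1)⟩
  have hd2 := hprime.pow_dvd_of_dvd_mul_left _ hnd hd
  rw [← le_rootMultiplicity_iff hP''0, h2] at hd2
  omega

lemma ode (h : k[X]) (α β γ : k)
    (hrec : ∀ s : ℕ, ((s : k) + 1) * ((s : k) + α) * h.coeff (s + 1) =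
      ((s : k) * ((s : k) - 1) + β * s + γ) * h.coeff s) :
    X * (1 - X) * derivative (derivative h) =
      (-(C α - C β * X)) * derivative h + C γ * h := by
  have e : X * (1 - X) * derivative (derivative h) =
      X * derivative (derivative h) - X * (X * derivative (derivative h)) := by ring
  have e' : (-(C α - C β * X)) * derivative h + C γ * h =
      -(C α * derivative h) + C β * (X * derivative h) + C γ * h := by ring
  rw [e, e']
  ext m
  rcases m with _ | _ | t
  · have := hrec 0
    simp only [coeff_sub, coeff_add, coeff_neg, coeff_C_mul, coeff_X_mul_zero, coeff_derivative]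
    simp only [Nat.cast_zero, zero_add] at this ⊢
    linear_combination this
  · have := hrec 1
    simp only [coeff_sub, coeff_add, coeff_neg, coeff_C_mul, coeff_X_mul, coeff_X_mul_zero,
      coeff_derivative, zero_add]
    simp only [Nat.cast_one, Nat.cast_zero, zero_add] at this ⊢
    linear_combination this
  · have := hrec (t + 2)
    simp only [coeff_sub, coeff_add, coeff_neg, coeff_C_mul, coeff_X_mul, coeff_derivative]
    push_cast at this ⊢
    linear_combination this

lemma choose_cast (N r : ℕ) :
    ((N.choose (r + 1) : ℕ) : k) * ((r : k) + 1) = ((N.choose r : ℕ) : k) * ((N : k) - r) := by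
  rcases le_or_gt r N with h | h
  · have := Nat.choose_succ_right_eq N r
    have h2 : ((N.choose (r + 1) * (r + 1) : ℕ) : k) = ((N.choose r * (N - r) : ℕ) : k) := by
      rw [this]
    rw [Nat.cast_mul, Nat.cast_mul, Nat.cast_sub h] at h2
    push_cast at h2
    exact h2
  · rw [Nat.choose_eq_zero_of_lt h, Nat.choose_eq_zero_of_lt (by omega : N < r + 1)]
    simp

/-- the coefficient sequence -/
noncomputable def a (i j n : ℕ) (s : ℕ) : k :=
  if s ≤ n then ((i.choose (n - s) : ℕ) : k) * ((j.choose s : ℕ) : k) else 0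

/-- the polynomial -/
noncomputable def hpoly (i j n : ℕ) : k[X] :=
  ∑ l ∈ Finset.range (n + 1),
    Polynomial.C (((i.choose l) * (j.choose (n - l)) : ℕ) : k) * Polynomial.X ^ (n - l)

lemma coeff_hpoly (i j n s : ℕ) : (hpoly (k := k) i j n).coeff s = a i j n s := by
  unfold hpoly a
  rw [finset_sum_coeff]
  simp only [coeff_C_mul, coeff_X_pow]
  split_ifs with hs
  · rw [Finset.sum_eq_single (n - s)]
    · rw [if_pos (by omega), mul_one, show n - (n - s) = s by omega]
      push_cast; ring
    · intro l hl hne
      rw [Finset.mem_range] at hl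
      rw [if_neg (by omega), mul_zero]
    · intro h
      exact absurd (Finset.mem_range.mpr (by omega)) h
  · apply Finset.sum_eq_zero
    intro l _
    rw [if_neg (by omega), mul_zero]

lemma a_rec (i j n s : ℕ) :
    ((s : k) + 1) * ((s : k) + (1 + (i : k) - n)) * a (k := k) i j n (s + 1) =
      ((s : k) * ((s : k) - 1) + (1 - (n : k) - j) * s + (n : k) * j) * a i j n s := by
  unfold a
  rcases lt_trichotomy s n with hs | hs | hs
  · obtain ⟨r, rfl⟩ : ∃ r, n = s + 1 + r := ⟨n - s - 1, by omega⟩
    rw [if_pos (by omega), if_pos (by omega), show s + 1 + r - (s + 1) = r by omega,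
      show s + 1 + r - s = r + 1 by omega]
    have F1 := choose_cast (k := k) j s
    have F2 := choose_cast (k := k) i r
    push_cast
    linear_combination (((i.choose r : ℕ) : k) * ((i : k) - r)) * F1 -
      (((j.choose s : ℕ) : k) * ((j : k) - s)) * F2
  · subst hs
    rw [if_neg (by omega), if_pos le_rfl]
    ring
  · rw [if_neg (by omega), if_neg (by omega)]
    ring

theorem main (i j n : ℕ) (c : k) (hc0 : c ≠ 0) (hc1 : c ≠ 1) :
    Polynomial.rootMultiplicity c
      (∑ l ∈ Finset.range (n + 1),
        Polynomial.C (((i.choose l) * (j.choose (n - l)) : ℕ) : k) * Polynomial.X ^ (n - l)) ≤ 1 := by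
  change rootMultiplicity c (hpoly (k := k) i j n) ≤ 1
  refine mult_le_one _ _ _ (ode (hpoly (k := k) i j n) (1 + (i : k) - n) (1 - (n : k) - j)
    ((n : k) * j) ?_) c hc0 hc1
  intro s
  rw [coeff_hpoly, coeff_hpoly]
  exact a_rec i j n s

end Groth.Agent.Lib.Helper26.HyperODE
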