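import Groth.Prelude.Def_KZero
import Mathlib

/-!
`K₀` of finite projective modules over a local ring is `ℤ`.
-/

set_option autoImplicit false
universe u
open CategoryTheory

namespace Groth.Agent.Lib.Helper26.K0Local

variable (R : Type u) [CommRing R]

/-- the object property: finite projective -/
abbrev P : ObjectProperty (ModuleCat.{u} R) :=
  fun M : ModuleCat.{u} R => Module.Finite R M ∧ Module.Projective R M

variable {R}

lemma rel (S : ShortComplex (ModuleCat.{u} R)) (hS : S.ShortExact)
    (h₁ : P R S.X₁) (h₂ : P R S.X₂) (h₃ : P R S.X₃) :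
    (QuotientAddGroup.mk (FreeAbelianGroup.of ⟨S.X₂, h₂⟩) : KZero.K0sub (P R)) =
      QuotientAddGroup.mk (FreeAbelianGroup.of ⟨S.X₁, h₁⟩) +
      QuotientAddGroup.mk (FreeAbelianGroup.of ⟨S.X₃, h₃⟩) := by
  rw [← QuotientAddGroup.mk_add, QuotientAddGroup.eq]
  have : FreeAbelianGroup.of (⟨S.X₂, h₂⟩ : Subtype (P R)) - FreeAbelianGroup.of ⟨S.X₁, h₁⟩
      - FreeAbelianGroup.of ⟨S.X₃, h₃⟩ ∈ KZero.relSub (P R) :=
    AddSubgroup.subset_closure ⟨S, h₁, h₂, h₃, hS, rfl⟩
  have h2 := neg_mem this
  convert h2 using 1
  abel

lemma split {M1 M2 M3 : Type*} [AddCommGroup M1] [AddCommGroup M2] [AddCommGroup M3]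
    [Module R M1] [Module R M2] [Module R M3] {f : M1 →ₗ[R] M2} {g : M2 →ₗ[R] M3}
    (h : Function.Exact f g) (hf : Function.Injective f) (hg : Function.Surjective g)
    [Module.Projective R M3] : Nonempty (M2 ≃ₗ[R] M1 × M3) := by
  obtain ⟨l, hl⟩ := Module.projective_lifting_property g LinearMap.id hg
  exact ⟨(h.splitSurjectiveEquiv hf ⟨l, hl⟩).1⟩

section localring

variable [IsLocalRing R]

lemma free_of_P (M : Type*) [AddCommGroup M] [Module R M] [Module.Finite R M]
    [Module.Projective R M] : Module.Free R M := Module.free_of_flat_of_isLocalRing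

lemma finrank_add {M1 M2 M3 : Type*} [AddCommGroup M1] [AddCommGroup M2] [AddCommGroup M3]
    [Module R M1] [Module R M2] [Module R M3] {f : M1 →ₗ[R] M2} {g : M2 →ₗ[R] M3}
    (h : Function.Exact f g) (hf : Function.Injective f) (hg : Function.Surjective g)
    [Module.Finite R M1] [Module.Projective R M1]
    [Module.Finite R M3] [Module.Projective R M3] :
    Module.finrank R M2 = Module.finrank R M1 + Module.finrank R M3 := by
  obtain ⟨e⟩ := split h hf hg
  haveI := free_of_P (R := R) M1
  haveI := free_of_P (R := R) M3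
  rw [e.finrank_eq, Module.finrank_prod]

lemma hR : P R (ModuleCat.of R R) := ⟨inferInstanceAs (Module.Finite R R),
  inferInstanceAs (Module.Projective R R)⟩

/-- the class of `R` -/
noncomputable def clR : KZero.K0sub (P R) :=
  QuotientAddGroup.mk (FreeAbelianGroup.of ⟨ModuleCat.of R R, hR⟩)

lemma cls_eq : ∀ (n : ℕ) (M : Type u) [AddCommGroup M] [Module R M]
    (hM : P R (ModuleCat.of R M)), Module.finrank R M = n →
    (QuotientAddGroup.mk (FreeAbelianGroup.of ⟨ModuleCat.of R M, hM⟩) : KZero.K0sub (P R))
      = n • clR := by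
  intro n
  induction n with
  | zero =>
    intro M _ _ hM hn
    haveI : Module.Finite R M := hM.1
    haveI : Module.Projective R M := hM.2
    haveI := free_of_P (R := R) M
    haveI : Subsingleton M := (Module.finrank_eq_zero_iff_of_free R M).1 hn
    have hS := ModuleCat.shortComplex_shortExact
      (ModuleCat.shortComplexOfCompEqZero (0 : M →ₗ[R] M) (0 : M →ₗ[R] M) (by simp))
      (fun y => ⟨fun _ => ⟨0, Subsingleton.elim _ _⟩, fun _ => Subsingleton.elim _ _⟩)
      (fun x y _ => Subsingleton.elim _ _) (fun y => ⟨0, Subsingleton.elim _ _⟩)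
    have h := rel _ hS hM hM hM
    rw [zero_smul]
    exact (add_eq_left.1 h.symm)
  | succ n ih =>
    intro M _ _ hM hn
    haveI : Module.Finite R M := hM.1
    haveI : Module.Projective R M := hM.2
    haveI := free_of_P (R := R) M
    let b := Module.Free.chooseBasis R M
    have hcard : Fintype.card (Module.Free.ChooseBasisIndex R M) = n + 1 := by
      rw [← Module.finrank_eq_card_chooseBasisIndex, hn]
    haveI : Nonempty (Module.Free.ChooseBasisIndex R M) :=
      Fintype.card_pos_iff.1 (by omega)
    let i : Module.Free.ChooseBasisIndex R M := Classical.arbitrary _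
    let g : M →ₗ[R] R := b.coord i
    have hg : Function.Surjective g := by
      intro r
      refine ⟨r • b i, ?_⟩
      simp [g]
    have hS := LinearMap.shortExact_shortComplexKer hg
    have hex : Function.Exact (LinearMap.ker g).subtype g := LinearMap.exact_subtype_ker_map g
    obtain ⟨e⟩ := split hex (LinearMap.ker g).injective_subtype hg
    haveI : Module.Finite R (LinearMap.ker g × R) := Module.Finite.equiv e
    haveI : Module.Projective R (LinearMap.ker g × R) := Module.Projective.of_equiv e
    haveI : Module.Finite R (LinearMap.ker g) :=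
      Module.Finite.of_surjective (LinearMap.fst R (LinearMap.ker g) R) LinearMap.fst_surjective
    haveI : Module.Projective R (LinearMap.ker g) :=
      Module.Projective.of_split (LinearMap.inl R (LinearMap.ker g) R)
        (LinearMap.fst R (LinearMap.ker g) R) (by ext; simp)
    have hK : P R (ModuleCat.of R (LinearMap.ker g)) := ⟨‹_›, ‹_›⟩
    have hrk := finrank_add hex (LinearMap.ker g).injective_subtype hg
    rw [hn, Module.finrank_self] at hrk
    have h := rel _ hS hK hM hR
    rw [h, ih (LinearMap.ker g) hK (by omega), succ_nsmul]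
    rfl

variable (R) in
/-- the rank map on generators -/
noncomputable def ψ : FreeAbelianGroup (Subtype (P R)) →+ ℤ :=
  FreeAbelianGroup.lift (fun M => (Module.finrank R M.1 : ℤ))

lemma hψ : KZero.relSub (P R) ≤ (ψ R).ker := by
  rw [KZero.relSub, AddSubgroup.closure_le]
  rintro x ⟨S, h₁, h₂, h₃, hS, rfl⟩
  rw [SetLike.mem_coe, AddMonoidHom.mem_ker, map_sub, map_sub]
  simp only [ψ, FreeAbelianGroup.lift_apply_of]
  haveI : Module.Finite R S.X₁ := h₁.1
  haveI : Module.Projective R S.X₁ := h₁.2
  haveI : Module.Finite R S.X₃ := h₃.1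
  haveI : Module.Projective R S.X₃ := h₃.2
  have hadd := finrank_add (R := R) (f := S.f.hom) (g := S.g.hom)
    ((ShortComplex.ShortExact.moduleCat_exact_iff_function_exact S).mp hS.exact)
    hS.moduleCat_injective_f hS.moduleCat_surjective_g
  rw [hadd]
  push_cast
  ring

variable (R) in
/-- the rank map -/
noncomputable def φ : KZero.K0sub (P R) →+ ℤ := QuotientAddGroup.lift (KZero.relSub (P R)) (ψ R) hψ

lemma φ_clR : φ R clR = 1 := by
  show (ψ R) (FreeAbelianGroup.of ⟨ModuleCat.of R R, hR⟩) = 1
  simp only [ψ, FreeAbelianGroup.lift_apply_of]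
  have : Module.finrank R (ModuleCat.of R R) = 1 := Module.finrank_self R
  rw [this]; rfl

lemma eq_smul (x : KZero.K0sub (P R)) : x = (φ R x) • clR := by
  induction x using QuotientAddGroup.induction_on with
  | H z =>
    induction z using FreeAbelianGroup.induction_on with
    | zero => simp
    | of M =>
      have h1 : (QuotientAddGroup.mk (FreeAbelianGroup.of M) : KZero.K0sub (P R))
          = (Module.finrank R M.1) • clR := cls_eq (Module.finrank R M.1) M.1 M.2 rfl
      have h2 : φ R (QuotientAddGroup.mk (FreeAbelianGroup.of M)) = (Module.finrank R M.1 : ℤ) := by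
        show (ψ R) (FreeAbelianGroup.of M) = _
        simp only [ψ, FreeAbelianGroup.lift_apply_of]
      rw [h2, h1, natCast_zsmul]
    | neg M ih =>
      rw [QuotientAddGroup.mk_neg, map_neg, neg_smul, ← ih]
    | add a b iha ihb =>
      rw [QuotientAddGroup.mk_add, map_add, add_smul, ← iha, ← ihb]

theorem main : ∃ e : KZero.K0sub (P R) ≃+ ℤ, e (KZero.clSub (P R) (ModuleCat.of R R)) = 1 := by
  refine ⟨{ toFun := φ R
            invFun := fun k => k • clR
            left_inv := fun x => (eq_smul x).symm
            right_inv := fun k => by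
              show φ R (k • clR) = k
              rw [map_zsmul, φ_clR, smul_eq_mul, mul_one]
            map_add' := map_add (φ R) }, ?_⟩
  have : KZero.clSub (P R) (ModuleCat.of R R) = clR := dif_pos hR
  show φ R _ = 1
  rw [this, φ_clR]

end localring

end Groth.Agent.Lib.Helper26.K0Local
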