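import Mathlib
import Groth.Agent.Lib.Helper26.K0Local

namespace Groth.Agent.Lib.Helper26.InjLocus

open TensorProduct

universe u

variable {R : Type u} [CommRing R] {P₁ P₂ : Type u} [AddCommGroup P₁] [Module R P₁]
  [AddCommGroup P₂] [Module R P₂]

/-- The ideal of `f` such that `φ` has a retraction up to multiplication by `f`. -/
def J (φ : P₁ →ₗ[R] P₂) : Ideal R where
  carrier := {f | ∃ g : P₂ →ₗ[R] P₁, g ∘ₗ φ = f • LinearMap.id}
  add_mem' := by
    rintro a b ⟨g, hg⟩ ⟨g', hg'⟩
    exact ⟨g + g', by rw [LinearMap.add_comp, hg, hg', add_smul]⟩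
  zero_mem' := ⟨0, by simp⟩
  smul_mem' := by
    rintro c a ⟨g, hg⟩
    exact ⟨c • g, by rw [LinearMap.smul_comp, hg, smul_smul]; rfl⟩

lemma mem_J {φ : P₁ →ₗ[R] P₂} {f : R} :
    f ∈ J φ ↔ ∃ g : P₂ →ₗ[R] P₁, g ∘ₗ φ = f • LinearMap.id := Iff.rfl

lemma inj_of_mem (φ : P₁ →ₗ[R] P₂) (p : PrimeSpectrum R) (f : R) (hf : f ∈ J φ)
    (hfp : f ∉ p.asIdeal) : Function.Injective (φ.lTensor p.asIdeal.ResidueField) := by
  obtain ⟨g, hg⟩ := hf
  have h1 : (g.lTensor p.asIdeal.ResidueField) ∘ₗ (φ.lTensor p.asIdeal.ResidueField) =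
      f • LinearMap.id := by
    rw [← LinearMap.lTensor_comp, hg, LinearMap.lTensor_smul, LinearMap.lTensor_id]
  have hc : algebraMap R p.asIdeal.ResidueField f ≠ 0 := by
    rw [Ne, Ideal.algebraMap_residueField_eq_zero]
    exact hfp
  rw [injective_iff_map_eq_zero]
  intro x hx
  have h2 := LinearMap.congr_fun h1 x
  rw [LinearMap.comp_apply, hx, map_zero, LinearMap.smul_apply, LinearMap.id_apply,
    ← algebraMap_smul p.asIdeal.ResidueField f x] at h2
  exact (smul_eq_zero.mp h2.symm).resolve_left hc

section transfer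

variable (p : PrimeSpectrum R) (φ : P₁ →ₗ[R] P₂)

lemma transfer (h : Function.Injective (φ.lTensor p.asIdeal.ResidueField)) :
    Function.Injective ((φ.baseChange (Localization.AtPrime p.asIdeal)).lTensor
      (IsLocalRing.ResidueField (Localization.AtPrime p.asIdeal))) := by
  let e₁ := TensorProduct.AlgebraTensorModule.cancelBaseChange R (Localization.AtPrime p.asIdeal)
    p.asIdeal.ResidueField p.asIdeal.ResidueField P₁
  let e₂ := TensorProduct.AlgebraTensorModule.cancelBaseChange R (Localization.AtPrime p.asIdeal)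
    p.asIdeal.ResidueField p.asIdeal.ResidueField P₂
  have hcomm : ∀ x, e₂ ((φ.baseChange (Localization.AtPrime p.asIdeal)).lTensor
      (IsLocalRing.ResidueField (Localization.AtPrime p.asIdeal)) x) =
      φ.lTensor p.asIdeal.ResidueField (e₁ x) := by
    intro x
    induction x using TensorProduct.induction_on with
    | zero => simp
    | tmul c y =>
      induction y using TensorProduct.induction_on with
      | zero => simp
      | tmul a n => simp [e₁, e₂]
      | add y z hy hz => simp only [tmul_add, map_add, hy, hz]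
    | add x y hx hy => simp only [map_add, hx, hy]
  intro x y hxy
  apply e₁.injective
  apply h
  rw [← hcomm, ← hcomm, hxy]

end transfer

lemma mem_of_inj [Module.Finite R P₁] [Module.Projective R P₁] [Module.Finite R P₂]
    [Module.Projective R P₂] (φ : P₁ →ₗ[R] P₂) (p : PrimeSpectrum R)
    (h : Function.Injective (φ.lTensor p.asIdeal.ResidueField)) :
    ∃ f ∈ J φ, f ∉ p.asIdeal := by
  haveI : Module.Free (Localization.AtPrime p.asIdeal)
      (Localization.AtPrime p.asIdeal ⊗[R] P₂) := Module.free_of_flat_of_isLocalRing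
  have : Module.FinitePresentation R P₂ := Module.finitePresentation_of_projective R P₂
  obtain ⟨l', hl'⟩ := (IsLocalRing.split_injective_iff_lTensor_residueField_injective
    (φ.baseChange (Localization.AtPrime p.asIdeal))).mpr (transfer p φ h)
  let mk₁ : P₁ →ₗ[R] Localization.AtPrime p.asIdeal ⊗[R] P₁ :=
    TensorProduct.mk R (Localization.AtPrime p.asIdeal) P₁ 1
  let mk₂ : P₂ →ₗ[R] Localization.AtPrime p.asIdeal ⊗[R] P₂ :=
    TensorProduct.mk R (Localization.AtPrime p.asIdeal) P₂ 1
  obtain ⟨h', s, hs⟩ := Module.FinitePresentation.exists_lift_of_isLocalizedModule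
    p.asIdeal.primeCompl mk₁ ((l'.restrictScalars R) ∘ₗ mk₂)
  have hcomp : mk₁ ∘ₗ (h' ∘ₗ φ) = mk₁ ∘ₗ ((s : R) • LinearMap.id) := by
    rw [← LinearMap.comp_assoc, hs]
    ext x
    have h3 := LinearMap.congr_fun hl' ((1 : Localization.AtPrime p.asIdeal) ⊗ₜ[R] x)
    simp only [LinearMap.comp_apply, LinearMap.id_apply] at h3
    simp only [LinearMap.smul_apply, LinearMap.comp_apply, LinearMap.id_apply, mk₁, mk₂,
      TensorProduct.mk_apply, LinearMap.coe_restrictScalars, map_smul]
    have h4 : (φ.baseChange (Localization.AtPrime p.asIdeal))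
        ((1 : Localization.AtPrime p.asIdeal) ⊗ₜ[R] x) = 1 ⊗ₜ[R] φ x := rfl
    rw [h4] at h3
    rw [h3]
    rfl
  obtain ⟨t, ht⟩ := Module.Finite.exists_smul_of_comp_eq_of_isLocalizedModule
    p.asIdeal.primeCompl mk₁ (h' ∘ₗ φ) ((s : R) • LinearMap.id) hcomp
  refine ⟨(t : R) * (s : R), ⟨(t : R) • h', ?_⟩, (t * s).2⟩
  rw [LinearMap.smul_comp, mul_smul]
  exact ht

theorem main [Module.Finite R P₁] [Module.Projective R P₁] [Module.Finite R P₂]
    [Module.Projective R P₂] (φ : P₁ →ₗ[R] P₂) :
    IsOpen {p : PrimeSpectrum R | Function.Injective (φ.lTensor p.asIdeal.ResidueField)} ∧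
    ∀ f : R, (↑(PrimeSpectrum.basicOpen f) : Set (PrimeSpectrum R)) ⊆
        {p : PrimeSpectrum R | Function.Injective (φ.lTensor p.asIdeal.ResidueField)} →
      Function.Injective (LocalizedModule.map (Submonoid.powers f) φ) ∧
      Module.Finite (Localization.Away f)
        (LocalizedModule (Submonoid.powers f) (P₂ ⧸ LinearMap.range φ)) ∧
      Module.Projective (Localization.Away f)
        (LocalizedModule (Submonoid.powers f) (P₂ ⧸ LinearMap.range φ)) := by
  have hU : {p : PrimeSpectrum R | Function.Injective (φ.lTensor p.asIdeal.ResidueField)} =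
      (PrimeSpectrum.zeroLocus (J φ : Set R))ᶜ := by
    ext p
    rw [Set.mem_compl_iff, PrimeSpectrum.mem_zeroLocus, Set.mem_setOf_eq]
    constructor
    · intro h hle
      obtain ⟨f, hf, hfp⟩ := mem_of_inj φ p h
      exact hfp (hle hf)
    · intro h
      obtain ⟨f, hf, hfp⟩ := Set.not_subset.mp h
      exact inj_of_mem φ p f hf hfp
  rw [hU]
  refine ⟨(PrimeSpectrum.isClosed_zeroLocus _).isOpen_compl, ?_⟩
  intro f hf
  -- `f ∈ radical J`
  have hrad : f ∈ (J φ).radical := by
    have : PrimeSpectrum.zeroLocus (J φ : Set R) ⊆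
        PrimeSpectrum.zeroLocus (((Ideal.span {f} : Ideal R)) : Set R) := by
      intro p hp
      rw [PrimeSpectrum.zeroLocus_span, PrimeSpectrum.mem_zeroLocus, Set.singleton_subset_iff]
      by_contra hfp
      exact hf (show p ∈ (PrimeSpectrum.basicOpen f : Set _) from hfp) hp
    rw [PrimeSpectrum.zeroLocus_subset_zeroLocus_iff] at this
    exact this (Ideal.subset_span rfl)
  obtain ⟨N, g, hg⟩ := hrad
  -- retraction over the localization
  have hu : IsUnit (algebraMap R (Localization.Away f) (f ^ N)) :=
    IsLocalization.map_units (Localization.Away f) (⟨f ^ N, N, rfl⟩ : Submonoid.powers f)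
  obtain ⟨u, hu⟩ := hu
  have hcomp : ∀ x, (LocalizedModule.map (Submonoid.powers f) g)
      ((LocalizedModule.map (Submonoid.powers f) φ) x) = (u : Localization.Away f) • x := by
    intro x
    induction x using LocalizedModule.induction_on with
    | h m s =>
      rw [LocalizedModule.map_mk, LocalizedModule.map_mk, hu]
      have h1 := LinearMap.congr_fun hg m
      simp only [LinearMap.comp_apply, LinearMap.smul_apply, LinearMap.id_apply] at h1
      rw [h1, algebraMap_smul, LocalizedModule.smul'_mk]
  let r : LocalizedModule (Submonoid.powers f) P₂ →ₗ[Localization.Away f]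
      LocalizedModule (Submonoid.powers f) P₁ :=
    ((↑u⁻¹ : Localization.Away f)) • LocalizedModule.map (Submonoid.powers f) g
  have hr : r ∘ₗ LocalizedModule.map (Submonoid.powers f) φ = LinearMap.id := by
    ext x
    simp only [r, LinearMap.comp_apply, LinearMap.smul_apply, LinearMap.id_apply]
    rw [hcomp, smul_smul, Units.inv_mul, one_smul]
  have hinj : Function.Injective (LocalizedModule.map (Submonoid.powers f) φ) :=
    Function.LeftInverse.injective (g := r) (fun x => LinearMap.congr_fun hr x)
  refine ⟨hinj, ?_⟩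
  have hex : Function.Exact (LocalizedModule.map (Submonoid.powers f) φ)
      (LocalizedModule.map (Submonoid.powers f) (LinearMap.range φ).mkQ) :=
    LocalizedModule.map_exact (Submonoid.powers f) _ _ (LinearMap.exact_map_mkQ_range φ)
  have hsurj : Function.Surjective
      (LocalizedModule.map (Submonoid.powers f) (LinearMap.range φ).mkQ) :=
    IsLocalizedModule.map_surjective (Submonoid.powers f) _ _ _ (Submodule.mkQ_surjective _)
  let e := (hex.splitInjectiveEquiv hsurj ⟨r, hr⟩).1
  have hfin : Module.Finite (Localization.Away f)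
      (LocalizedModule (Submonoid.powers f) P₁ ×
        LocalizedModule (Submonoid.powers f) (P₂ ⧸ LinearMap.range φ)) := Module.Finite.equiv e
  have hproj : Module.Projective (Localization.Away f)
      (LocalizedModule (Submonoid.powers f) P₁ ×
        LocalizedModule (Submonoid.powers f) (P₂ ⧸ LinearMap.range φ)) :=
    Module.Projective.of_equiv e
  constructor
  · exact Module.Finite.of_surjective (LinearMap.snd (Localization.Away f)
      (LocalizedModule (Submonoid.powers f) P₁)
      (LocalizedModule (Submonoid.powers f) (P₂ ⧸ LinearMap.range φ))) LinearMap.snd_surjective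
  · exact Module.Projective.of_split (LinearMap.inr (Localization.Away f)
      (LocalizedModule (Submonoid.powers f) P₁)
      (LocalizedModule (Submonoid.powers f) (P₂ ⧸ LinearMap.range φ))) (LinearMap.snd _ _ _)
      (by ext; simp)

end Groth.Agent.Lib.Helper26.InjLocus
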