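import Mathlib

/-!
A common generator of an invertible module at finitely many primes.
-/

set_option autoImplicit false
universe u

namespace Groth.Agent.Lib.Helper26.InvGen

open IsLocalRing

lemma isUnit_add_of_mem {R : Type*} [CommRing R] [IsLocalRing R] {x y : R} (hx : IsUnit x)
    (hy : y ∈ maximalIdeal R) : IsUnit (x + y) := by
  by_contra h
  have h1 : x + y ∈ maximalIdeal R := (mem_maximalIdeal _).2 h
  have h2 : x ∈ maximalIdeal R := by
    have := sub_mem h1 hy
    rwa [add_sub_cancel_right] at this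
  exact ((mem_maximalIdeal _).1 h2) hx

theorem avoid {A : Type*} [CommRing A] {M : Type*} [AddCommGroup M] [Module A M]
    (φ : ∀ q : PrimeSpectrum A, M →ₗ[A] Localization.AtPrime q.asIdeal)
    (hφ : ∀ q, ∃ t, IsUnit (φ q t)) (F : Finset (PrimeSpectrum A)) :
    ∃ s : M, ∀ q ∈ F, IsUnit (φ q s) := by
  classical
  induction' hn : F.card with n ih generalizing F
  · rw [Finset.card_eq_zero] at hn
    subst hn
    exact ⟨0, fun q hq => absurd hq (Finset.notMem_empty q)⟩
  · have hne : F.Nonempty := by
      rw [← Finset.card_pos]; omega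
    obtain ⟨k, hkF, hkmin⟩ := F.exists_minimal hne
    obtain ⟨s, hs⟩ := ih (F.erase k) (by rw [Finset.card_erase_of_mem hkF]; omega)
    by_cases hk : IsUnit (φ k s)
    · refine ⟨s, fun q hq => ?_⟩
      by_cases hqk : q = k
      · subst hqk; exact hk
      · exact hs q (Finset.mem_erase.2 ⟨hqk, hq⟩)
    · -- choose `a` in all other primes but not in `k`
      have hprod : ¬ (∏ j ∈ F.erase k, j.asIdeal) ≤ k.asIdeal := by
        intro hle
        obtain ⟨j, hj, hjk⟩ := (Ideal.IsPrime.prod_le k.isPrime).1 hle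
        obtain ⟨hjne, hjF⟩ := Finset.mem_erase.1 hj
        have hle' : j ≤ k := hjk
        exact hjne (le_antisymm hle' (hkmin hjF hle'))
      obtain ⟨a, ha, hak⟩ := SetLike.not_le_iff_exists.1 hprod
      obtain ⟨t, ht⟩ := hφ k
      refine ⟨s + a • t, fun q hq => ?_⟩
      rw [map_add, map_smul, Algebra.smul_def]
      by_cases hqk : q = k
      · subst hqk
        rw [add_comm]
        refine isUnit_add_of_mem ?_ ((mem_maximalIdeal _).2 hk)
        exact (IsLocalization.map_units _ (⟨a, hak⟩ : q.asIdeal.primeCompl)).mul ht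
      · have hq' : q ∈ F.erase k := Finset.mem_erase.2 ⟨hqk, hq⟩
        refine isUnit_add_of_mem (hs q hq') ?_
        have haq : a ∈ q.asIdeal :=
          (Ideal.prod_le_inf.trans (Finset.inf_le hq')) ha
        refine Ideal.mul_mem_right _ _ ?_
        rw [mem_maximalIdeal, mem_nonunits_iff,
          IsLocalization.AtPrime.isUnit_to_map_iff _ q.asIdeal]
        exact fun h => h haq

theorem main (A : Type u) [CommRing A]
    (M : Type u) [AddCommGroup M] [Module A M] [Module.Invertible A M] (ι : Type) [Finite ι]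
    (p : ι → PrimeSpectrum A) :
    ∃ s : M, ∀ i : ι, Submodule.span (Localization.AtPrime (p i).asIdeal)
      {LocalizedModule.mkLinearMap (p i).asIdeal.primeCompl M s} = ⊤ := by
  classical
  haveI := Fintype.ofFinite ι
  have hequiv : ∀ q : PrimeSpectrum A, Nonempty (LocalizedModule q.asIdeal.primeCompl M
      ≃ₗ[Localization.AtPrime q.asIdeal] Localization.AtPrime q.asIdeal) := fun q =>
    Module.Invertible.free_iff_linearEquiv.1 inferInstance
  let e := fun q => (hequiv q).some
  let φ : ∀ q : PrimeSpectrum A, M →ₗ[A] Localization.AtPrime q.asIdeal := fun q =>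
    ((e q).toLinearMap.restrictScalars A) ∘ₗ (LocalizedModule.mkLinearMap q.asIdeal.primeCompl M)
  have hφ : ∀ q, ∃ t, IsUnit (φ q t) := by
    intro q
    obtain ⟨⟨t, b⟩, hb⟩ := IsLocalizedModule.surj q.asIdeal.primeCompl
      (LocalizedModule.mkLinearMap q.asIdeal.primeCompl M) ((e q).symm 1)
    refine ⟨t, ?_⟩
    show IsUnit ((e q) (LocalizedModule.mkLinearMap q.asIdeal.primeCompl M t))
    simp only at hb
    rw [← hb, Submonoid.smul_def, ← algebraMap_smul (Localization.AtPrime q.asIdeal) (b : A),
      map_smul, LinearEquiv.apply_symm_apply, smul_eq_mul, mul_one]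
    exact IsLocalization.map_units _ b
  obtain ⟨s, hs⟩ := avoid φ hφ (Finset.univ.image p)
  refine ⟨s, fun i => ?_⟩
  have hu : IsUnit (φ (p i) s) := hs (p i) (Finset.mem_image_of_mem p (Finset.mem_univ i))
  set x := LocalizedModule.mkLinearMap (p i).asIdeal.primeCompl M s with hx
  have hu' : IsUnit ((e (p i)) x) := hu
  rw [eq_top_iff]
  intro y _
  have hy : (e (p i)) y ∈ Ideal.span {(e (p i)) x} := by
    rw [Ideal.span_singleton_eq_top.2 hu']; trivial
  obtain ⟨c, hc⟩ := Ideal.mem_span_singleton'.1 hy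
  rw [Submodule.mem_span_singleton]
  refine ⟨c, (e (p i)).injective ?_⟩
  rw [map_smul, smul_eq_mul, hc]

end Groth.Agent.Lib.Helper26.InvGen
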