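import Mathlib
set_option maxHeartbeats 400000
set_option linter.unusedSectionVars false
namespace Groth.Agent.Lib.Helper26.InvPol
open Polynomial TensorProduct

universe u
variable {R G : Type u} [CommRing R] [Group G] [Fintype G] [MulSemiringAction G R]

/-- the inclusion of the invariant subring -/
abbrev jR (R G : Type u) [CommRing R] [Group G] [MulSemiringAction G R] :
    FixedPoints.subring R G →+* R := (FixedPoints.subring R G).subtype

/-- the linear form `∑ x_i σ(r_i)` -/
noncomputable def lin {ι : Type} [Fintype ι] (r : ι → R) (σ : G) : MvPolynomial ι R :=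
  ∑ i, MvPolynomial.X i * MvPolynomial.C (σ • r i)

/-- the product over the group -/
noncomputable def Qpoly {ι : Type} [Fintype ι] (r : ι → R) : Polynomial (MvPolynomial ι R) :=
  ∏ σ : G, (X - C (lin r σ))

lemma map_lin {ι : Type} [Fintype ι] (r : ι → R) (σ τ : G) :
    MvPolynomial.map (MulSemiringAction.toRingHom G R τ) (lin r σ) = lin r (τ * σ) := by
  simp only [lin, map_sum, map_mul, MvPolynomial.map_X, MvPolynomial.map_C]
  refine Finset.sum_congr rfl fun i _ => ?_
  rw [MulSemiringAction.toRingHom_apply, mul_smul]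

lemma map_Qpoly {ι : Type} [Fintype ι] (r : ι → R) (τ : G) :
    (Qpoly (G := G) r).map (MvPolynomial.map (MulSemiringAction.toRingHom G R τ)) = Qpoly (G := G) r := by
  simp only [Qpoly, Polynomial.map_prod, Polynomial.map_sub, Polynomial.map_X, Polynomial.map_C,
    map_lin]
  exact Fintype.prod_equiv (Equiv.mulLeft τ) _ _ (fun σ => rfl)

lemma Qpoly_mem {ι : Type} [Fintype ι] (r : ι → R) :
    ∃ p : Polynomial (MvPolynomial ι (FixedPoints.subring R G)),
      p.map (MvPolynomial.map (jR R G)) = Qpoly (G := G) r := by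
  rw [← Polynomial.mem_lifts, Polynomial.lifts_iff_coeff_lifts]
  intro n
  have : (Qpoly (G := G) r).coeff n ∈ Set.range (MvPolynomial.map (jR R G)) := by
    rw [MvPolynomial.mem_range_map_iff_coeffs_subset]
    intro c hc
    rw [Finset.mem_coe, MvPolynomial.mem_coeffs_iff] at hc
    obtain ⟨m, _, rfl⟩ := hc
    refine ⟨⟨_, fun τ => ?_⟩, rfl⟩
    have h := congrArg (fun q => MvPolynomial.coeff m (Polynomial.coeff q n)) (map_Qpoly r τ)
    simp only [Polynomial.coeff_map, MvPolynomial.coeff_map,
      MulSemiringAction.toRingHom_apply] at h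
    exact h
  exact this

/-- the polynomial over the invariants -/
noncomputable def P0 {ι : Type} [Fintype ι] (r : ι → R) :
    Polynomial (MvPolynomial ι (FixedPoints.subring R G)) := (Qpoly_mem (G := G) r).choose

lemma P0_spec {ι : Type} [Fintype ι] (r : ι → R) :
    (P0 (G := G) r).map (MvPolynomial.map (jR R G)) = Qpoly (G := G) r :=
  (Qpoly_mem (G := G) r).choose_spec

lemma jj_injective (ι : Type) :
    Function.Injective (Polynomial.map (MvPolynomial.map (σ := ι) (jR R G))) :=
  Polynomial.map_injective _ (MvPolynomial.map_injective _ Subtype.val_injective)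

lemma Qpoly_monic {ι : Type} [Fintype ι] (r : ι → R) : (Qpoly (G := G) r).Monic :=
  Polynomial.monic_prod_of_monic _ _ (fun σ _ => Polynomial.monic_X_sub_C _)

lemma P0_monic {ι : Type} [Fintype ι] (r : ι → R) : (P0 (G := G) r).Monic := by
  apply Polynomial.monic_of_injective (MvPolynomial.map_injective (jR R G) Subtype.val_injective)
  rw [P0_spec]
  exact Qpoly_monic r

/-- linear substitution of variables -/
noncomputable def theta (S : Type u) [CommRing S] {ι κ : Type} [Fintype κ] (c : ι → κ → S) :
    MvPolynomial ι S →ₐ[S] MvPolynomial κ S :=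
  MvPolynomial.aeval (fun i => ∑ j, MvPolynomial.C (c i j) * MvPolynomial.X j)

lemma theta_comm {ι κ : Type} [Fintype κ] (c : ι → κ → FixedPoints.subring R G) :
    (MvPolynomial.map (jR R G)).comp (theta _ c).toRingHom =
      (theta R (fun i j => (c i j : R))).toRingHom.comp (MvPolynomial.map (jR R G)) := by
  apply MvPolynomial.ringHom_ext
  · intro a
    simp [theta]
  · intro i
    simp [theta]

lemma map_theta_Qpoly {ι κ : Type} [Fintype ι] [Fintype κ] (r : ι → R)
    (c : ι → κ → FixedPoints.subring R G) :
    (Qpoly (G := G) r).map (theta R (fun i j => (c i j : R))).toRingHom =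
      Qpoly (G := G) (fun j => ∑ i, (c i j : R) * r i) := by
  simp only [Qpoly, Polynomial.map_prod, Polynomial.map_sub, Polynomial.map_X, Polynomial.map_C]
  refine Finset.prod_congr rfl fun σ _ => ?_
  congr 2
  simp only [lin, map_sum, map_mul, AlgHom.toRingHom_eq_coe, RingHom.coe_coe, theta,
    MvPolynomial.aeval_X, MvPolynomial.aeval_C, MvPolynomial.algebraMap_eq, Finset.smul_sum,
    smul_mul']
  have hfix : ∀ (i : ι) (j : κ), σ • (c i j : R) = (c i j : R) := fun i j => (c i j).2 σ
  simp only [hfix, Finset.sum_mul, Finset.mul_sum]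
  rw [Finset.sum_comm]
  refine Finset.sum_congr rfl fun j _ => Finset.sum_congr rfl fun i _ => ?_
  ring

lemma P0_theta {ι κ : Type} [Fintype ι] [Fintype κ] (r : ι → R)
    (c : ι → κ → FixedPoints.subring R G) :
    (P0 (G := G) r).map (theta _ c).toRingHom = P0 (G := G) (fun j => ∑ i, (c i j : R) * r i) := by
  apply jj_injective
  rw [Polynomial.map_map, theta_comm, ← Polynomial.map_map, P0_spec, P0_spec, map_theta_Qpoly]

variable {A : Type u} [CommRing A] [Algebra (FixedPoints.subring R G) A]

/-- evaluation -/
noncomputable def ev {ι : Type} (a : ι → A) : MvPolynomial ι (FixedPoints.subring R G) →+* A :=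
  (MvPolynomial.aeval a).toRingHom

lemma ev_comp_theta {ι κ : Type} [Fintype κ] (c : ι → κ → FixedPoints.subring R G) (y : κ → A) :
    (ev (R := R) (G := G) y).comp (theta _ c).toRingHom =
      ev (R := R) (G := G) (fun i => ∑ j, c i j • y j) := by
  apply MvPolynomial.ringHom_ext
  · intro a
    simp [theta, ev]
  · intro i
    simp [theta, ev, Algebra.smul_def]

lemma P0_ev {ι κ : Type} [Fintype ι] [Fintype κ] (r : ι → R)
    (c : ι → κ → FixedPoints.subring R G) (y : κ → A) :
    (P0 (G := G) r).map (ev (fun i => ∑ j, c i j • y j)) =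
      (P0 (G := G) (fun j => ∑ i, (c i j : R) * r i)).map (ev y) := by
  rw [← ev_comp_theta, ← Polynomial.map_map, P0_theta]

lemma P0_zero {κ : Type} [Fintype κ] :
    P0 (G := G) (fun _ : κ => (0 : R)) = X ^ Fintype.card G := by
  apply jj_injective
  rw [P0_spec, Polynomial.map_pow, Polynomial.map_X]
  simp [Qpoly, lin]

lemma P0_one :
    P0 (G := G) (fun _ : Unit => (1 : R)) = (X - C (MvPolynomial.X ())) ^ Fintype.card G := by
  apply jj_injective
  rw [P0_spec, Polynomial.map_pow, Polynomial.map_sub, Polynomial.map_X, Polynomial.map_C,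
    MvPolynomial.map_X]
  simp [Qpoly, lin]

/-- the map `R[x] → A ⊗ R` -/
noncomputable def psi {ι : Type} (a : ι → A) :
    MvPolynomial ι R →+* A ⊗[FixedPoints.subring R G] R :=
  MvPolynomial.eval₂Hom
    (Algebra.TensorProduct.includeRight : R →ₐ[FixedPoints.subring R G] A ⊗[FixedPoints.subring R G] R).toRingHom
    (fun i => a i ⊗ₜ 1)

lemma psi_comm {ι : Type} (a : ι → A) :
    (algebraMap A (A ⊗[FixedPoints.subring R G] R)).comp (ev a) =
      (psi a).comp (MvPolynomial.map (jR R G)) := by
  apply MvPolynomial.ringHom_ext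
  · intro c
    simp only [ev, psi, RingHom.comp_apply, AlgHom.toRingHom_eq_coe, RingHom.coe_coe,
      MvPolynomial.aeval_C, MvPolynomial.map_C, MvPolynomial.coe_eval₂Hom, MvPolynomial.eval₂_C,
      Algebra.TensorProduct.algebraMap_apply, Algebra.TensorProduct.includeRight_apply]
    have h1 : (algebraMap (FixedPoints.subring R G) A c) ⊗ₜ[FixedPoints.subring R G] (1 : R) =
        (c • (1 : A)) ⊗ₜ[FixedPoints.subring R G] (1 : R) := by
      rw [Algebra.algebraMap_eq_smul_one]
    rw [Algebra.algebraMap_self, RingHom.id_apply, h1, TensorProduct.smul_tmul]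
    congr 1
    rw [Subring.smul_def, smul_eq_mul, mul_one]
    rfl
  · intro i
    simp [ev, psi]

theorem part1 (b : A ⊗[FixedPoints.subring R G] R)
    (hb : ∀ σ : G, Algebra.TensorProduct.map (AlgHom.id (FixedPoints.subring R G) A)
        (MulSemiringAction.toAlgHom (FixedPoints.subring R G) R σ) b = b) :
    ∃ P : Polynomial A, P.Monic ∧
      Polynomial.map (algebraMap A (A ⊗[FixedPoints.subring R G] R)) P =
        (Polynomial.X - Polynomial.C b) ^ Fintype.card G := by
  classical
  obtain ⟨S, hS⟩ := TensorProduct.exists_finset b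
  let e := S.equivFin
  let a : Fin S.card → A := fun i => (e.symm i).1.1
  let r : Fin S.card → R := fun i => (e.symm i).1.2
  have hb' : b = ∑ i, a i ⊗ₜ[FixedPoints.subring R G] r i := by
    rw [hS, ← Finset.sum_coe_sort S]
    exact (Equiv.sum_comp e.symm (fun x : S => x.1.1 ⊗ₜ[FixedPoints.subring R G] x.1.2)).symm
  refine ⟨(P0 (G := G) r).map (ev a), (P0_monic r).map _, ?_⟩
  rw [Polynomial.map_map, psi_comm, ← Polynomial.map_map, P0_spec]
  simp only [Qpoly, Polynomial.map_prod, Polynomial.map_sub, Polynomial.map_X, Polynomial.map_C]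
  have : ∀ σ : G, psi a (lin r σ) = b := by
    intro σ
    rw [← hb σ, hb']
    simp only [lin, map_sum, map_mul, psi, MvPolynomial.coe_eval₂Hom, MvPolynomial.eval₂_X,
      MvPolynomial.eval₂_C, AlgHom.toRingHom_eq_coe, RingHom.coe_coe,
      Algebra.TensorProduct.includeRight_apply, Algebra.TensorProduct.tmul_mul_tmul, mul_one,
      one_mul, Algebra.TensorProduct.map_tmul, AlgHom.coe_id, id_eq,
      MulSemiringAction.toAlgHom_apply]
  simp only [this, Finset.prod_const, Finset.card_univ]

theorem part2 (a : A)
    (ha : algebraMap A (A ⊗[FixedPoints.subring R G] R) a = 0) :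
    (X - C a) ^ Fintype.card G = (X : Polynomial A) ^ Fintype.card G := by
  classical
  -- pass to `R ⊗ A`
  have h1 : (1 : R) ⊗ₜ[FixedPoints.subring R G] a = 0 := by
    have := congrArg (TensorProduct.comm (FixedPoints.subring R G) A R) ha
    rwa [Algebra.TensorProduct.algebraMap_apply, Algebra.algebraMap_self, RingHom.id_apply,
      TensorProduct.comm_tmul, map_zero] at this
  -- f.g. reduction
  let P : Submodule (FixedPoints.subring R G) R := Submodule.span _ {1}
  have hP : P.FG := Submodule.fg_span_singleton 1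
  have h1P : (1 : R) ∈ P := Submodule.mem_span_singleton_self 1
  have h2 : LinearMap.rTensor A P.subtype ((⟨1, h1P⟩ : P) ⊗ₜ[FixedPoints.subring R G] a) = 0 := by
    rw [LinearMap.rTensor_tmul]; exact h1
  obtain ⟨Q, hPQ, hQ, h3⟩ := TensorProduct.eq_zero_of_fg_of_subtype_eq_zero hP h2
  rw [LinearMap.rTensor_tmul] at h3
  obtain ⟨s, hs⟩ := hQ
  let e := s.equivFin
  -- the family
  let m : Option (Fin s.card) → Q := fun o =>
    match o with
    | none => ⟨1, hPQ h1P⟩
    | some i => ⟨(e.symm i).1, hs ▸ Submodule.subset_span (e.symm i).2⟩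
  let n : Option (Fin s.card) → A := fun o =>
    match o with
    | none => a
    | some _ => 0
  have hm : Submodule.span (FixedPoints.subring R G) (Set.range m) = ⊤ := by
    rw [eq_top_iff]
    rintro ⟨x, hx⟩ -
    have hx' : x ∈ Submodule.span (FixedPoints.subring R G) (s : Set R) := hs ▸ hx
    have : Submodule.span (FixedPoints.subring R G) (s : Set R) ≤
        (Submodule.span (FixedPoints.subring R G) (Set.range m)).map Q.subtype := by
      rw [Submodule.span_le]
      intro y hy
      refine ⟨m (some (e ⟨y, hy⟩)), Submodule.subset_span ⟨some (e ⟨y, hy⟩), rfl⟩, ?_⟩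
      simp [m]
    obtain ⟨z, hz, hzx⟩ := this hx'
    have : z = ⟨x, hx⟩ := Subtype.ext hzx
    rwa [this] at hz
  have hmn : ∑ i, m i ⊗ₜ[FixedPoints.subring R G] n i = 0 := by
    rw [Fintype.sum_option]
    simp only [n, TensorProduct.tmul_zero, Finset.sum_const_zero, add_zero]
    exact h3
  obtain ⟨k, c, y, hcy, hcm⟩ := TensorProduct.vanishesTrivially_of_sum_tmul_eq_zero _ hm hmn
  let r : Option (Fin s.card) → R := fun o => (m o : R)
  -- first evaluation: through `c`
  have e1 : (P0 (G := G) r).map (ev n) = X ^ Fintype.card G := by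
    have hn : n = fun i => ∑ j, c i j • y j := funext hcy
    rw [hn, P0_ev]
    have hr0 : (fun j => ∑ i, (c i j : R) * r i) = fun _ : Fin k => (0 : R) := by
      funext j
      have := congrArg (Subtype.val) (hcm j)
      simp only [Submodule.coe_sum, Submodule.coe_smul, ZeroMemClass.coe_zero] at this
      rw [← this]
      refine Finset.sum_congr rfl fun i _ => ?_
      rw [Subring.smul_def, smul_eq_mul]
    rw [hr0, P0_zero, Polynomial.map_pow, Polynomial.map_X]
  -- second evaluation: through the coordinate `none`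
  have e2 : (P0 (G := G) r).map (ev n) = (X - C a) ^ Fintype.card G := by
    let δ : Option (Fin s.card) → Unit → FixedPoints.subring R G := fun o _ =>
      match o with
      | none => 1
      | some _ => 0
    have hn : n = fun i => ∑ j, δ i j • (fun _ : Unit => a) j := by
      funext o
      cases o <;> simp [n, δ]
    have hr1 : (fun j => ∑ i, (δ i j : R) * r i) = fun _ : Unit => (1 : R) := by
      funext j
      rw [Fintype.sum_option]
      simp [δ, r, m]
    rw [hn, P0_ev, hr1, P0_one, Polynomial.map_pow, Polynomial.map_sub, Polynomial.map_X,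
      Polynomial.map_C]
    simp [ev]
  rw [← e2, e1]


theorem main (R G A : Type u) [CommRing R] [Group G] [Fintype G]
    [MulSemiringAction G R] [CommRing A] [Algebra (FixedPoints.subring R G) A] :
    (∀ b : TensorProduct (FixedPoints.subring R G) A R,
      (∀ σ : G, Algebra.TensorProduct.map (AlgHom.id (FixedPoints.subring R G) A)
        (MulSemiringAction.toAlgHom (FixedPoints.subring R G) R σ) b = b) →
      ∃ P : Polynomial A, P.Monic ∧
        Polynomial.map (algebraMap A (TensorProduct (FixedPoints.subring R G) A R)) P =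
          (Polynomial.X - Polynomial.C b) ^ Fintype.card G) ∧
    (∀ a : A, algebraMap A (TensorProduct (FixedPoints.subring R G) A R) a = 0 →
      ∀ i : ℕ, i < Fintype.card G → ((Polynomial.X - Polynomial.C a) ^ Fintype.card G).coeff i = 0) := by
  refine ⟨fun b hb => part1 b hb, fun a ha i hi => ?_⟩
  rw [part2 a ha, Polynomial.coeff_X_pow, if_neg (Nat.ne_of_lt hi)]

end Groth.Agent.Lib.Helper26.InvPol
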