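import Groth.Agent.Lib.Helper25.CauchyBinet

/-!
The ideal generated by the minors of the Jacobian matrix, modulo the ideal, does not depend on the
generators.
-/

set_option autoImplicit false

namespace Groth.Agent.Lib.Helper26.JacMinors

open Groth.Agent.Lib.Helper25.CauchyBinet Matrix

variable {k : Type*} [CommRing k] {P : Type*} [CommRing P] [Algebra k P]
  {n : ℕ} (D : Fin n → Derivation k P P)

/-- the Jacobian matrix -/
def jac {m : ℕ} (f : Fin m → P) : Matrix (Fin m) (Fin n) P :=
  Matrix.of fun (j : Fin m) (i : Fin n) => D i (f j)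

/-- the ideal of `r × r` minors with injective index maps -/
def minors {m : ℕ} (X : Matrix (Fin m) (Fin n) P) (r : ℕ) : Ideal P :=
  Ideal.span {d : P | ∃ (ρ : Fin r → Fin m) (γ : Fin r → Fin n), Function.Injective ρ ∧
    Function.Injective γ ∧ d = (X.submatrix ρ γ).det}

lemma det_mem_minors {m : ℕ} (X : Matrix (Fin m) (Fin n) P) (r : ℕ) (φ : Fin r → Fin m)
    (γ : Fin r → Fin n) (hγ : Function.Injective γ) : (X.submatrix φ γ).det ∈ minors X r := by
  by_cases hφ : Function.Injective φ
  · exact Ideal.subset_span ⟨φ, γ, hφ, hγ, rfl⟩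
  · rw [Function.Injective] at hφ
    push Not at hφ
    obtain ⟨i, j, hij, hne⟩ := hφ
    rw [Matrix.det_zero_of_row_eq hne (by ext c; simp [hij])]
    exact Ideal.zero_mem _

theorem minors_le {m l : ℕ} (f : Fin m → P) (g : Fin l → P)
    (hfg : Ideal.span (Set.range g) ≤ Ideal.span (Set.range f)) (r : ℕ) :
    minors (jac D g) r ≤ minors (jac D f) r ⊔ Ideal.span (Set.range f) := by
  classical
  have hc : ∀ s : Fin l, ∃ c : Fin m → P, ∑ j, c j * f j = g s := by
    intro s
    have : g s ∈ Ideal.span (Set.range f) := hfg (Ideal.subset_span ⟨s, rfl⟩)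
    exact (Ideal.mem_span_range_iff_exists_fun (R := P)).1 this
  choose c hc using hc
  let cm : Matrix (Fin l) (Fin m) P := Matrix.of c
  set I : Ideal P := Ideal.span (Set.range f) with hI
  have hentry : ∀ (s : Fin l) (i : Fin n),
      Ideal.Quotient.mk I (jac D g s i) = Ideal.Quotient.mk I ((cm * jac D f) s i) := by
    intro s i
    rw [Ideal.Quotient.eq]
    show D i (g s) - (cm * jac D f) s i ∈ I
    rw [← hc s, map_sum, Matrix.mul_apply, ← Finset.sum_sub_distrib]
    refine Ideal.sum_mem _ fun j _ => ?_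
    rw [Derivation.leibniz]
    show c s j • D i (f j) + f j • D i (c s j) - c s j * D i (f j) ∈ I
    rw [smul_eq_mul, smul_eq_mul, add_sub_cancel_left]
    exact Ideal.mul_mem_right _ _ (Ideal.subset_span ⟨j, rfl⟩)
  unfold minors
  rw [Ideal.span_le]
  rintro _ ⟨ρ, γ, _, hγ, rfl⟩
  have h1 : Ideal.Quotient.mk I ((jac D g).submatrix ρ γ).det
      = Ideal.Quotient.mk I ((cm * jac D f).submatrix ρ γ).det := by
    rw [RingHom.map_det, RingHom.map_det]
    congr 1
    ext a b
    exact hentry (ρ a) (γ b)
  rw [Ideal.Quotient.eq] at h1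
  have h2 : ((cm * jac D f).submatrix ρ γ).det ∈ minors (jac D f) r := by
    have : (cm * jac D f).submatrix ρ γ = cm.submatrix ρ id * (jac D f).submatrix id γ := by
      ext a b
      simp [Matrix.mul_apply]
    rw [this, det_mul_eq_sum]
    refine Ideal.sum_mem _ fun φ _ => Ideal.mul_mem_left _ _ ?_
    exact det_mem_minors (jac D f) r φ γ hγ
  have h3 : ((jac D g).submatrix ρ γ).det
      = (((jac D g).submatrix ρ γ).det - ((cm * jac D f).submatrix ρ γ).det)
        + ((cm * jac D f).submatrix ρ γ).det := by ring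
  show ((jac D g).submatrix ρ γ).det ∈ _
  rw [h3]
  exact Ideal.add_mem _ (Ideal.mem_sup_right h1) (Ideal.mem_sup_left h2)

theorem minors_sup_eq {m l : ℕ} (f : Fin m → P) (g : Fin l → P)
    (hfg : Ideal.span (Set.range f) = Ideal.span (Set.range g)) (r : ℕ) :
    minors (jac D f) r ⊔ Ideal.span (Set.range f)
      = minors (jac D g) r ⊔ Ideal.span (Set.range g) := by
  apply le_antisymm
  · refine sup_le ?_ (hfg ▸ le_sup_right)
    exact minors_le D g f hfg.le r
  · refine sup_le ?_ (hfg ▸ le_sup_right)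
    exact minors_le D f g hfg.ge r

end Groth.Agent.Lib.Helper26.JacMinors
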