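import Mathlib
import Groth.Prelude.Def_Found
import Groth.Agent.Lib.Helper26.N2Local
import Groth.Agent.Lib.Helper26.UJLocal

namespace Groth.Agent.Lib.Helper26.NagataLocal

universe u

set_option linter.unusedSectionVars false
set_option linter.style.haveILetI false

theorem noeth (R : Type u) [CommRing R] (t : Set R) (ht : Ideal.span t = ⊤)
    (h : ∀ g : t, IsNoetherianRing (Localization.Away g.1)) : IsNoetherianRing R := by
  rw [isNoetherianRing_iff_ideal_fg]
  intro I
  have : Module.Finite R I := by
    refine Module.Finite.of_localizationSpan t ht (fun g => ?_)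
    haveI := h g
    haveI : IsNoetherian (Localization.Away g.1) (LocalizedModule.Away g.1 R) :=
      isNoetherian_of_isNoetherianRing_of_finite _ _
    exact Module.Finite.of_injective
      (LocalizedModule.map (Submonoid.powers g.1) (Submodule.subtype I))
      (LocalizedModule.map_injective _ _ (Submodule.subtype_injective I))
  exact (Module.Finite.iff_fg).mp this

theorem n2_quot (R : Type u) [CommRing R]
    {ι : Type u} [Finite ι] (f : ι → R) (hf : Ideal.span (Set.range f) = ⊤)
    (h : ∀ i, CAlg.IsNagata (Localization.Away (f i))) (p : Ideal R) [hp : p.IsPrime] :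
    CAlg.IsN2 (R ⧸ p) := by
  let g : {i : ι // Ideal.Quotient.mk p (f i) ≠ 0} → R ⧸ p := fun i => Ideal.Quotient.mk p (f i.1)
  have hg : Ideal.span (Set.range g) = ⊤ := UJLocal.span_nonzero (Ideal.Quotient.mk p) f hf
  have hprime : ∀ i : {i : ι // Ideal.Quotient.mk p (f i) ≠ 0},
      (p.map (algebraMap R (Localization.Away (f i.1)))).IsPrime := fun i => by
    refine IsLocalization.isPrime_of_isPrime_disjoint (Submonoid.powers (f i.1)) _ p hp ?_
    rw [Set.disjoint_left]
    rintro _ ⟨n, rfl⟩ hn
    have : f i.1 ∈ p := hp.mem_of_pow_mem n hn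
    exact i.2 (Ideal.Quotient.eq_zero_iff_mem.mpr this)
  haveI : ∀ i : {i : ι // Ideal.Quotient.mk p (f i) ≠ 0},
      IsDomain (Localization.Away (f i.1) ⧸ p.map (algebraMap R (Localization.Away (f i.1)))) :=
    fun i => by
      haveI := hprime i
      exact Ideal.Quotient.isDomain _
  haveI : ∀ i : {i : ι // Ideal.Quotient.mk p (f i) ≠ 0},
      IsLocalization.Away (g i)
        (Localization.Away (f i.1) ⧸ p.map (algebraMap R (Localization.Away (f i.1)))) :=
    fun i => by
      have := (inferInstance : IsLocalization
        (Algebra.algebraMapSubmonoid (R ⧸ p) (Submonoid.powers (f i.1)))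
        (Localization.Away (f i.1) ⧸ p.map (algebraMap R (Localization.Away (f i.1)))))
      rwa [Algebra.algebraMapSubmonoid, Submonoid.map_powers] at this
  refine N2Local.main (R ⧸ p) g hg
    (fun i => Localization.Away (f i.1) ⧸ p.map (algebraMap R (Localization.Away (f i.1))))
    (fun i => ?_)
  haveI := hprime i
  exact (h i.1).2 (p.map (algebraMap R (Localization.Away (f i.1))))

theorem main (R : Type u) [CommRing R]
    {ι : Type u} [Finite ι] (f : ι → R) (hf : Ideal.span (Set.range f) = ⊤)
    (h : ∀ i, CAlg.IsNagata (Localization.Away (f i))) : CAlg.IsNagata R := by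
  refine ⟨noeth R (Set.range f) hf ?_, fun p _ => n2_quot R f hf h p⟩
  rintro ⟨_, i, rfl⟩
  exact (h i).1

end Groth.Agent.Lib.Helper26.NagataLocal
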