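import Mathlib
import Groth.Prelude.Def_Found
import Groth.Agent.S9392
import Groth.Agent.Lib.Helper26.N2Local
import Groth.Agent.Lib.Helper26.UJLocal
import Groth.Agent.Lib.Helper26.NagataLocal
import Groth.Agent.Lib.Helper26.UJEss

namespace Groth.Agent.Lib.Helper26.JapCover

universe u

set_option linter.unusedSectionVars false
set_option linter.style.haveILetI false

open CategoryTheory AlgebraicGeometry TopologicalSpace

/-- Localization of a Nagata ring, arbitrary model of the localization. -/
theorem nagata_loc (A : Type u) [CommRing A] (hA : CAlg.IsNagata A) (S : Submonoid A)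
    (B : Type u) [CommRing B] [Algebra A B] [IsLocalization S B] : CAlg.IsNagata B := by
  haveI := hA.1
  refine ⟨IsLocalization.isNoetherianRing S B inferInstance, ?_⟩
  intro P hP
  have hPeq := IsLocalization.map_comap S B P
  have hp : (P.comap (algebraMap A B)).IsPrime := Ideal.comap_isPrime _ P
  obtain ⟨p, hp, hPeq⟩ : ∃ p : Ideal A, p.IsPrime ∧ p.map (algebraMap A B) = P := ⟨_, hp, hPeq⟩
  subst hPeq
  exact Groth.Agent.S9392.result (A ⧸ p) (Algebra.algebraMapSubmonoid (A ⧸ p) S)
    (B ⧸ p.map (algebraMap A B)) (hA.2 p)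

/-- universally Japanese passes to any localization. -/
theorem uj_loc (A : Type u) [CommRing A] (hA : CAlg.IsUniversallyJapanese A) (S : Submonoid A)
    (B : Type u) [CommRing B] [Algebra A B] [IsLocalization S B] :
    CAlg.IsUniversallyJapanese B := by
  haveI : Algebra.EssFiniteType A B := Algebra.EssFiniteType.of_isLocalization B S
  exact UJEss.main A hA B

section

variable (R : Type u) [CommRing R] {ι : Type u} [Finite ι] (f : ι → R)
  (hf : Ideal.span (Set.range f) = ⊤)
  (Rf : ι → Type u) [∀ i, CommRing (Rf i)] [∀ i, Algebra R (Rf i)]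
  [∀ i, IsLocalization.Away (f i) (Rf i)]

include hf in
theorem uj_cover (h : ∀ i, CAlg.IsUniversallyJapanese (Rf i)) : CAlg.IsUniversallyJapanese R := by
  refine UJLocal.main R f hf (fun i => ?_)
  let e := IsLocalization.algEquiv (Submonoid.powers (f i)) (Rf i) (Localization.Away (f i))
  letI : Algebra (Rf i) (Localization.Away (f i)) := e.toRingEquiv.toRingHom.toAlgebra
  haveI : IsLocalization.Away (1 : Rf i) (Localization.Away (f i)) :=
    IsLocalization.away_of_isUnit_of_bijective _ isUnit_one e.bijective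
  exact uj_loc (Rf i) (h i) (Submonoid.powers (1 : Rf i)) (Localization.Away (f i))

include hf in
theorem nagata_cover (h : ∀ i, CAlg.IsNagata (Rf i)) : CAlg.IsNagata R := by
  refine NagataLocal.main R f hf (fun i => ?_)
  let e := IsLocalization.algEquiv (Submonoid.powers (f i)) (Rf i) (Localization.Away (f i))
  letI : Algebra (Rf i) (Localization.Away (f i)) := e.toRingEquiv.toRingHom.toAlgebra
  haveI : IsLocalization.Away (1 : Rf i) (Localization.Away (f i)) :=
    IsLocalization.away_of_isUnit_of_bijective _ isUnit_one e.bijective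
  exact nagata_loc (Rf i) (h i) (Submonoid.powers (1 : Rf i)) (Localization.Away (f i))

end

theorem nagata_affine (X : Scheme.{u}) {ι : Type u} (U : ι → X.Opens)
    (hU : iSup U = ⊤) (haff : ∀ i, IsAffineOpen (U i)) (hN : ∀ i, CAlg.IsNagata Γ(X, U i))
    (V : X.Opens) (hV : IsAffineOpen V) : CAlg.IsNagata Γ(X, V) := by
  refine of_affine_open_cover (P := fun W : X.affineOpens => CAlg.IsNagata Γ(X, W.1))
    (fun i => (⟨U i, haff i⟩ : X.affineOpens)) hU ⟨V, hV⟩ ?_ ?_ hN
  · intro W g hW
    haveI := W.2.isLocalization_basicOpen g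
    exact nagata_loc Γ(X, W.1) hW (Submonoid.powers g) Γ(X, X.basicOpen g)
  · intro W s hs hP
    haveI : ∀ g : s, IsLocalization.Away g.1 Γ(X, X.basicOpen g.1) :=
      fun g => W.2.isLocalization_basicOpen g.1
    refine nagata_cover Γ(X, W.1) (fun g : s => g.1) ?_ (fun g : s => Γ(X, X.basicOpen g.1)) hP
    rw [Subtype.range_coe_subtype]
    exact hs

theorem uj_affine (X : Scheme.{u}) {ι : Type u} (U : ι → X.Opens)
    (hU : iSup U = ⊤) (haff : ∀ i, IsAffineOpen (U i))
    (hJ : ∀ i, CAlg.IsUniversallyJapanese Γ(X, U i))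
    (V : X.Opens) (hV : IsAffineOpen V) : CAlg.IsUniversallyJapanese Γ(X, V) := by
  refine of_affine_open_cover (P := fun W : X.affineOpens => CAlg.IsUniversallyJapanese Γ(X, W.1))
    (fun i => (⟨U i, haff i⟩ : X.affineOpens)) hU ⟨V, hV⟩ ?_ ?_ hJ
  · intro W g hW
    haveI := W.2.isLocalization_basicOpen g
    exact uj_loc Γ(X, W.1) hW (Submonoid.powers g) Γ(X, X.basicOpen g)
  · intro W s hs hP
    haveI : ∀ g : s, IsLocalization.Away g.1 Γ(X, X.basicOpen g.1) :=
      fun g => W.2.isLocalization_basicOpen g.1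
    refine uj_cover Γ(X, W.1) (fun g : s => g.1) ?_ (fun g : s => Γ(X, X.basicOpen g.1)) hP
    rw [Subtype.range_coe_subtype]
    exact hs

end Groth.Agent.Lib.Helper26.JapCover
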