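import Mathlib
import Groth.Prelude.Def_K0Var

set_option maxHeartbeats 400000

universe u
open CategoryTheory CategoryTheory.Limits AlgebraicGeometry TopologicalSpace

namespace Groth.Agent.Lib.Helper26.K0Fib

variable {S : Scheme.{u}}

theorem cl_hom_congr {X : Scheme.{u}} {f g : X ⟶ S} (h : f = g)
    [LocallyOfFiniteType f] [QuasiCompact f] [LocallyOfFiniteType g] [QuasiCompact g] :
    K0Var.cl f = K0Var.cl g := by
  subst h; rfl

theorem exists_closedImmersion {T : Scheme.{u}} (Z : Closeds T) :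
    ∃ (Z' : Scheme.{u}) (i : Z' ⟶ T), IsClosedImmersion i ∧ Set.range i = (Z : Set T) :=
  ⟨_, (Scheme.IdealSheafData.vanishingIdeal Z).subschemeι, inferInstance, by
    rw [Scheme.IdealSheafData.range_subschemeι, Scheme.IdealSheafData.coe_support_vanishingIdeal]⟩

section
variable {X : Scheme.{u}} [IsLocallyNoetherian X] (p : X ⟶ S) [LocallyOfFiniteType p] [QuasiCompact p]

/-- class of an open subscheme -/
noncomputable def clO (U : X.Opens) : K0Var.K S := K0Var.cl (U.ι ≫ p)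

theorem cl_eq_clO {W : Scheme.{u}} (j : W ⟶ X) [IsOpenImmersion j] (U : X.Opens)
    (h : Set.range j = (U : Set X)) : K0Var.cl (j ≫ p) = clO p U := by
  have h' : Set.range j = Set.range U.ι := by rw [h]; simp
  refine K0Var.cl_congr _ _ (IsOpenImmersion.isoOfRangeEq j U.ι h') ?_
  rw [← Category.assoc, IsOpenImmersion.isoOfRangeEq_hom_fac]

theorem cl_eq_clO' {W : Scheme.{u}} (j : W ⟶ X) [IsOpenImmersion j] (U : X.Opens)
    (h : Set.range j = (U : Set X)) (q : W ⟶ S) [LocallyOfFiniteType q] [QuasiCompact q]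
    (hq : q = j ≫ p) : K0Var.cl q = clO p U := by
  subst hq
  exact cl_eq_clO p j U h

theorem exists_scissor (U V : X.Opens) :
    ∃ z : K0Var.K S, clO p (U ⊔ V) = z + clO p U ∧ clO p V = z + clO p (U ⊓ V) := by
  let A : (V : Scheme.{u}).Opens := V.ι ⁻¹ᵁ U
  obtain ⟨Z', i, hi, hr⟩ := exists_closedImmersion (T := (V : Scheme.{u}))
    ⟨(A : Set (V : Scheme.{u}))ᶜ, A.isOpen.isClosed_compl⟩
  replace hr : Set.range i = (A : Set (V : Scheme.{u}))ᶜ := hr
  refine ⟨K0Var.cl (i ≫ V.ι ≫ p), ?_, ?_⟩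
  · have hVW : V ≤ U ⊔ V := le_sup_right
    let W : X.Opens := U ⊔ V
    let g : (V : Scheme.{u}) ⟶ (W : Scheme.{u}) := X.homOfLE hVW
    let B : (W : Scheme.{u}).Opens := W.ι ⁻¹ᵁ U
    have hg : g ≫ W.ι = V.ι := X.homOfLE_ι hVW
    have hrange : Set.range (i ≫ g) = (B : Set (W : Scheme.{u}))ᶜ := by
      ext w
      simp only [Scheme.Hom.comp_base, TopCat.hom_comp, ContinuousMap.coe_comp, Set.mem_range,
        Function.comp_apply, Set.mem_compl_iff, SetLike.mem_coe]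
      constructor
      · rintro ⟨a, rfl⟩
        have ha : i a ∈ (A : Set (V : Scheme.{u}))ᶜ := by rw [← hr]; exact ⟨a, rfl⟩
        intro hB
        apply ha
        change V.ι (i a) ∈ U
        have : W.ι (g (i a)) ∈ U := hB
        rwa [← Scheme.Hom.comp_apply, hg] at this
      · intro hB
        have hw : (W.ι w) ∈ V := by
          have h1 : W.ι w ∈ U ⊔ V := w.2
          rcases h1 with h1 | h1
          · exact absurd h1 hB
          · exact h1
        let v : (V : Scheme.{u}) := ⟨W.ι w, hw⟩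
        have hv : v ∈ (A : Set (V : Scheme.{u}))ᶜ := fun hA => hB hA
        rw [← hr] at hv
        obtain ⟨a, ha⟩ := hv
        refine ⟨a, ?_⟩
        change g (i a) = w
        rw [ha]
        apply W.ι.isOpenEmbedding.injective
        rw [← Scheme.Hom.comp_apply, hg]
        rfl
    have : IsClosedImmersion (i ≫ g) :=
      IsClosedImmersion.of_isPreimmersion _ (by rw [hrange]; exact B.isOpen.isClosed_compl)
    have h1 := K0Var.cl_scissor (W.ι ≫ p) (i ≫ g) B.ι (by rw [hrange]; simp)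
    have h2 : K0Var.cl (B.ι ≫ W.ι ≫ p) = clO p U := by
      refine cl_eq_clO' p (B.ι ≫ W.ι) U ?_ _ (by simp)
      ext x
      simp only [Scheme.Hom.comp_base, TopCat.hom_comp, ContinuousMap.coe_comp, Set.mem_range,
        Function.comp_apply, SetLike.mem_coe]
      constructor
      · rintro ⟨a, rfl⟩
        exact a.2
      · intro hU
        exact ⟨⟨⟨x, Or.inl hU⟩, hU⟩, rfl⟩
    have h3 : K0Var.cl ((i ≫ g) ≫ W.ι ≫ p) = K0Var.cl (i ≫ V.ι ≫ p) :=
      cl_hom_congr (by rw [Category.assoc, ← Category.assoc g, hg])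
    rw [← h2, ← h3, ← h1]; rfl
  · have h1 := K0Var.cl_scissor (V.ι ≫ p) i A.ι (by rw [hr]; simp)
    have h2 : K0Var.cl (A.ι ≫ V.ι ≫ p) = clO p (U ⊓ V) := by
      refine cl_eq_clO' p (A.ι ≫ V.ι) (U ⊓ V) ?_ _ (by simp)
      ext x
      simp only [Scheme.Hom.comp_base, TopCat.hom_comp, ContinuousMap.coe_comp, Set.mem_range,
        Function.comp_apply, Opens.coe_inf, Set.mem_inter_iff, SetLike.mem_coe]
      constructor
      · rintro ⟨a, rfl⟩
        exact ⟨a.2, (A.ι a).2⟩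
      · rintro ⟨hU, hV⟩
        exact ⟨⟨⟨x, hV⟩, hU⟩, rfl⟩
    rw [← h2, ← h1]; rfl


theorem mv (U V : X.Opens) : clO p (U ⊔ V) + clO p (U ⊓ V) = clO p U + clO p V := by
  obtain ⟨z, h1, h2⟩ := exists_scissor p U V
  rw [h1, h2]; ring

theorem clO_congr {U V : X.Opens} (h : U = V) : clO p U = clO p V := by rw [h]

theorem clO_bot : clO p ⊥ = 0 := by
  unfold clO K0Var.cl
  have : IsEmpty (K0Var.Gen.mk (↑(⊥ : X.Opens)) ((⊥ : X.Opens).ι ≫ p)).X :=
    ⟨fun x => x.2⟩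
  exact K0Var.Gen.cl_eq_zero_of_isEmpty _

theorem clO_top : clO p ⊤ = K0Var.cl p := by
  refine K0Var.cl_congr _ _ (Scheme.topIso X) ?_
  simp

end

section
variable {X Y F : Scheme.{u}} [IsLocallyNoetherian X] [IsLocallyNoetherian Y]
  (f : X ⟶ Y) (pY : Y ⟶ S) (pF : F ⟶ S)
  [LocallyOfFiniteType f] [QuasiCompact f] [LocallyOfFiniteType pY] [QuasiCompact pY]
  [LocallyOfFiniteType pF] [QuasiCompact pF]

/-- the property: class of preimage = class of open times class of fibre -/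
def P (V : Y.Opens) : Prop := clO (f ≫ pY) (f ⁻¹ᵁ V) = clO pY V * K0Var.cl pF

theorem P_of_triv (U : Y.Opens) (e : (f ⁻¹ᵁ U).toScheme ≅ pullback (U.ι ≫ pY) pF)
    (he : e.hom ≫ pullback.fst (U.ι ≫ pY) pF = f ∣_ U) (V : Y.Opens) (hVU : V ≤ U) :
    P f pY pF V := by
  let m : pullback (V.ι ≫ pY) pF ⟶ pullback (U.ι ≫ pY) pF :=
    pullback.map (V.ι ≫ pY) pF (U.ι ≫ pY) pF (Y.homOfLE hVU) (𝟙 F) (𝟙 S)
      (by rw [Category.comp_id, ← Category.assoc, Y.homOfLE_ι]) (by simp)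
  let j : pullback (V.ι ≫ pY) pF ⟶ X := m ≫ e.inv ≫ (f ⁻¹ᵁ U).ι
  have he' : e.inv ≫ f ∣_ U = pullback.fst (U.ι ≫ pY) pF := by
    rw [← he, Iso.inv_hom_id_assoc]
  have hj : j ≫ f = pullback.fst (V.ι ≫ pY) pF ≫ V.ι := by
    simp only [j, Category.assoc]
    rw [← morphismRestrict_ι, ← Category.assoc e.inv, he']
    simp only [m, pullback.lift_fst_assoc, Category.assoc, Y.homOfLE_ι]
  have hrange : Set.range j = ((f ⁻¹ᵁ V : X.Opens) : Set X) := by
    ext x
    constructor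
    · rintro ⟨a, rfl⟩
      change f (j a) ∈ V
      rw [← Scheme.Hom.comp_apply, hj, Scheme.Hom.comp_apply]
      exact (pullback.fst (V.ι ≫ pY) pF a).2
    · intro hx
      have hxV : f x ∈ V := hx
      let x' : (f ⁻¹ᵁ U).toScheme := ⟨x, hVU hxV⟩
      have hb : e.hom x' ∈ Set.range m := by
        rw [Scheme.Pullback.range_map]
        refine ⟨?_, ⟨(pullback.snd (U.ι ≫ pY) pF) (e.hom x'), rfl⟩⟩
        let v : (V : Scheme.{u}) := ⟨f x, hxV⟩
        refine ⟨v, ?_⟩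
        apply U.ι.isOpenEmbedding.injective
        have h1 : U.ι ((Y.homOfLE hVU) v) = V.ι v := by
          rw [← Scheme.Hom.comp_apply, Y.homOfLE_ι]
        have h2 : U.ι ((pullback.fst (U.ι ≫ pY) pF) (e.hom x')) = f ((f ⁻¹ᵁ U).ι x') := by
          rw [← Scheme.Hom.comp_apply, ← Scheme.Hom.comp_apply, ← Scheme.Hom.comp_apply,
            ← Category.assoc, he, morphismRestrict_ι]
        rw [h1, h2]
        rfl
      obtain ⟨c, hc⟩ := hb
      refine ⟨c, ?_⟩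
      change (m ≫ e.inv ≫ (f ⁻¹ᵁ U).ι) c = x
      rw [Scheme.Hom.comp_apply, hc, ← Scheme.Hom.comp_apply, Iso.hom_inv_id_assoc]
      rfl
  unfold P
  rw [← cl_eq_clO' (f ≫ pY) j (f ⁻¹ᵁ V) hrange (pullback.fst (V.ι ≫ pY) pF ≫ (V.ι ≫ pY))
    (by rw [← Category.assoc j, hj, Category.assoc])]
  exact K0Var.cl_mul (V.ι ≫ pY) pF


theorem P_sup {A B : Y.Opens} (hA : P f pY pF A) (hB : P f pY pF B) (hAB : P f pY pF (A ⊓ B)) :
    P f pY pF (A ⊔ B) := by
  unfold P at *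
  have h1 := mv (f ≫ pY) (f ⁻¹ᵁ A) (f ⁻¹ᵁ B)
  have h2 := mv pY A B
  have e1 : f ⁻¹ᵁ (A ⊔ B) = f ⁻¹ᵁ A ⊔ f ⁻¹ᵁ B := rfl
  have e2 : f ⁻¹ᵁ (A ⊓ B) = f ⁻¹ᵁ A ⊓ f ⁻¹ᵁ B := rfl
  rw [e1]; rw [e2] at hAB
  linear_combination h1 - (K0Var.cl pF) * h2 + hA + hB - hAB

theorem P_bot : P f pY pF ⊥ := by
  unfold P
  have e1 : f ⁻¹ᵁ (⊥ : Y.Opens) = ⊥ := rfl
  rw [e1, clO_bot, clO_bot, zero_mul]

theorem P_of_finset {ι : Type*} (Uo : ι → Y.Opens) (hU : ∀ i, ∀ V : Y.Opens, V ≤ Uo i → P f pY pF V)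
    (s : Finset ι) : ∀ W : Y.Opens, P f pY pF (W ⊓ s.sup Uo) := by
  classical
  induction s using Finset.induction_on with
  | empty =>
    intro W
    rw [Finset.sup_empty, inf_bot_eq]
    exact P_bot f pY pF
  | insert a s ha ih =>
    intro W
    rw [Finset.sup_insert, inf_sup_left]
    refine P_sup f pY pF (hU a _ inf_le_right) (ih W) ?_
    have : (W ⊓ Uo a) ⊓ (W ⊓ s.sup Uo) = (W ⊓ Uo a) ⊓ s.sup Uo := by
      apply le_antisymm
      · exact le_inf inf_le_left (inf_le_right.trans inf_le_right)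
      · exact le_inf inf_le_left (le_inf (inf_le_left.trans inf_le_left) inf_le_right)
    rw [this]
    exact ih (W ⊓ Uo a)

theorem main [CompactSpace Y]
    (hf : ∀ y : Y, ∃ (U : Y.Opens) (e : (f ⁻¹ᵁ U).toScheme ≅ pullback (U.ι ≫ pY) pF),
      y ∈ U ∧ e.hom ≫ pullback.fst (U.ι ≫ pY) pF = f ∣_ U) :
    K0Var.cl (f ≫ pY) = K0Var.cl pY * K0Var.cl pF := by
  choose U e hy he using hf
  obtain ⟨t, ht⟩ := isCompact_univ.elim_finite_subcover (fun y => (U y : Set Y))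
    (fun y => (U y).isOpen) (fun y _ => Set.mem_iUnion.2 ⟨y, hy y⟩)
  have htop : t.sup U = ⊤ := by
    rw [eq_top_iff]
    intro y _
    have := ht (Set.mem_univ y)
    simp only [Set.mem_iUnion] at this
    obtain ⟨i, hi, hyi⟩ := this
    exact (Finset.le_sup (f := U) hi) hyi
  have h := P_of_finset f pY pF U (fun i V hV => P_of_triv f pY pF (U i) (e i) (he i) V hV) t ⊤
  rw [htop, inf_top_eq] at h
  unfold P at h
  have e1 : f ⁻¹ᵁ (⊤ : Y.Opens) = ⊤ := rfl
  rw [e1, clO_top, clO_top] at h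
  exact h

end
end Groth.Agent.Lib.Helper26.K0Fib
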