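import Groth.Prelude.Def_KZero
import Mathlib

/-!
`K₀` of finite modules over a PID is `ℤ`, generated by `[A]`.
-/

set_option autoImplicit false
universe u
open CategoryTheory

namespace Groth.Agent.Lib.Helper26.K0PID

variable (A : Type u) [CommRing A]

/-- the object property: finite -/
abbrev P : ObjectProperty (ModuleCat.{u} A) :=
  fun M : ModuleCat.{u} A => Module.Finite A M

variable {A}

lemma rel (S : ShortComplex (ModuleCat.{u} A)) (hS : S.ShortExact)
    (h₁ : P A S.X₁) (h₂ : P A S.X₂) (h₃ : P A S.X₃) :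
    (QuotientAddGroup.mk (FreeAbelianGroup.of ⟨S.X₂, h₂⟩) : KZero.K0sub (P A)) =
      QuotientAddGroup.mk (FreeAbelianGroup.of ⟨S.X₁, h₁⟩) +
      QuotientAddGroup.mk (FreeAbelianGroup.of ⟨S.X₃, h₃⟩) := by
  rw [← QuotientAddGroup.mk_add, QuotientAddGroup.eq]
  have : FreeAbelianGroup.of (⟨S.X₂, h₂⟩ : Subtype (P A)) - FreeAbelianGroup.of ⟨S.X₁, h₁⟩
      - FreeAbelianGroup.of ⟨S.X₃, h₃⟩ ∈ KZero.relSub (P A) :=
    AddSubgroup.subset_closure ⟨S, h₁, h₂, h₃, hS, rfl⟩
  have h2 := neg_mem this
  convert h2 using 1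
  abel

/-- class of a module given as a type -/
noncomputable def cls (M : Type u) [AddCommGroup M] [Module A M] [hM : Module.Finite A M] :
    KZero.K0sub (P A) :=
  QuotientAddGroup.mk (FreeAbelianGroup.of ⟨ModuleCat.of A M, hM⟩)

lemma cls_of_subsingleton (M : Type u) [AddCommGroup M] [Module A M] [Module.Finite A M]
    [Subsingleton M] : cls (A := A) M = 0 := by
  have hS := ModuleCat.shortComplex_shortExact
    (ModuleCat.shortComplexOfCompEqZero (0 : M →ₗ[A] M) (0 : M →ₗ[A] M) (by simp))
    (fun y => ⟨fun _ => ⟨0, Subsingleton.elim _ _⟩, fun _ => Subsingleton.elim _ _⟩)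
    (fun x y _ => Subsingleton.elim _ _) (fun y => ⟨0, Subsingleton.elim _ _⟩)
  have hM : P A (ModuleCat.of A M) := ‹Module.Finite A M›
  have h := rel _ hS hM hM hM
  exact (add_eq_left.1 h.symm)

lemma cls_ker_add {M N : Type u} [AddCommGroup M] [Module A M] [Module.Finite A M]
    [AddCommGroup N] [Module A N] [Module.Finite A N] (g : M →ₗ[A] N)
    (hg : Function.Surjective g) [Module.Finite A (LinearMap.ker g)] :
    cls (A := A) M = cls (LinearMap.ker g) + cls N := by
  have hS := LinearMap.shortExact_shortComplexKer hg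
  exact rel _ hS ‹Module.Finite A (LinearMap.ker g)› ‹Module.Finite A M› ‹Module.Finite A N›

lemma cls_congr {M N : Type u} [AddCommGroup M] [Module A M] [Module.Finite A M]
    [AddCommGroup N] [Module A N] [Module.Finite A N] (e : M ≃ₗ[A] N) :
    cls (A := A) M = cls N := by
  haveI : Subsingleton (LinearMap.ker e.toLinearMap) := by
    rw [LinearEquiv.ker]; infer_instance
  rw [cls_ker_add e.toLinearMap e.surjective, cls_of_subsingleton (LinearMap.ker e.toLinearMap), zero_add]

section pid

variable [IsDomain A] [IsPrincipalIdealRing A]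

/-- the class of `A` -/
noncomputable def clA : KZero.K0sub (P A) := cls A

lemma cls_cyclic (M : Type u) [AddCommGroup M] [Module A M] [Module.Finite A M] (x : M)
    (hx : Submodule.span A {x} = ⊤) : ∃ k : ℤ, cls (A := A) M = k • clA := by
  let g : A →ₗ[A] M := LinearMap.toSpanSingleton A M x
  have hg : Function.Surjective g := by
    rw [← LinearMap.range_eq_top, LinearMap.range_toSpanSingleton, hx]
  have h1 := cls_ker_add g hg
  obtain ⟨a, ha⟩ := IsPrincipalIdealRing.principal (LinearMap.ker g)
  by_cases ha0 : a = 0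
  · haveI : Subsingleton (LinearMap.ker g) := by
      rw [ha, ha0, Submodule.span_zero_singleton]; infer_instance
    rw [cls_of_subsingleton (LinearMap.ker g), zero_add] at h1
    exact ⟨1, by rw [one_smul]; exact h1.symm⟩
  · -- `ker g = (a) ≅ A`
    let f : A →ₗ[A] LinearMap.ker g :=
      (LinearMap.toSpanSingleton A A a).codRestrict (LinearMap.ker g) (fun r => by
        rw [ha]; exact Submodule.mem_span_singleton.2 ⟨r, by simp [LinearMap.toSpanSingleton_apply]⟩)
    have hfi : Function.Injective f := by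
      intro r s hrs
      have := congrArg Subtype.val hrs
      simp only [f, LinearMap.codRestrict_apply, LinearMap.toSpanSingleton_apply,
        smul_eq_mul] at this
      exact mul_right_cancel₀ ha0 this
    have hfs : Function.Surjective f := by
      rintro ⟨y, hy⟩
      have hy' := hy
      rw [ha, Submodule.mem_span_singleton] at hy'
      obtain ⟨r, hr⟩ := hy'
      exact ⟨r, Subtype.ext (by simpa [f, LinearMap.toSpanSingleton_apply] using hr)⟩
    have h2 := cls_congr (LinearEquiv.ofBijective f ⟨hfi, hfs⟩)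
    refine ⟨0, ?_⟩
    rw [zero_smul]
    rw [← h2] at h1
    exact (add_eq_left.1 h1.symm)

lemma cls_gen : ∀ (n : ℕ) (M : Type u) [AddCommGroup M] [Module A M] [Module.Finite A M]
    (s : Fin n → M), Submodule.span A (Set.range s) = ⊤ → ∃ k : ℤ, cls (A := A) M = k • clA := by
  intro n
  induction n with
  | zero =>
    intro M _ _ _ s hs
    haveI : Subsingleton M := by
      rw [Set.range_eq_empty, Submodule.span_empty] at hs
      exact (Submodule.subsingleton_iff A).1 (subsingleton_of_bot_eq_top hs)
    exact ⟨0, by rw [zero_smul, cls_of_subsingleton]⟩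
  | succ n ih =>
    intro M _ _ _ s hs
    set x := s 0 with hx
    set N : Submodule A M := Submodule.span A {x} with hN
    have hrange : Set.range s = insert x (Set.range (Fin.tail s)) := by
      rw [← Fin.range_cons, hx]
      congr 1
      exact (Fin.cons_self_tail s).symm
    -- the quotient is generated by `n` elements
    have hq : Submodule.span A (Set.range (N.mkQ ∘ Fin.tail s)) = ⊤ := by
      rw [Set.range_comp, ← Submodule.map_span]
      have h1 : Submodule.map N.mkQ (Submodule.span A (Set.range s)) = ⊤ := by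
        rw [hs, Submodule.map_top, Submodule.range_mkQ]
      rw [hrange, Submodule.span_insert, Submodule.map_sup, ← hN, Submodule.mkQ_map_self,
        bot_sup_eq] at h1
      exact h1
    obtain ⟨k2, hk2⟩ := ih (M ⧸ N) (N.mkQ ∘ Fin.tail s) hq
    -- the kernel is cyclic
    have hcyc : Submodule.span A {(⟨x, Submodule.mem_span_singleton_self x⟩ : N)} = ⊤ := by
      rw [eq_top_iff]
      rintro ⟨y, hy⟩ -
      obtain ⟨r, hr⟩ := Submodule.mem_span_singleton.1 hy
      exact Submodule.mem_span_singleton.2 ⟨r, Subtype.ext hr⟩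
    obtain ⟨k1, hk1⟩ := cls_cyclic N _ hcyc
    have h1 := cls_ker_add N.mkQ (Submodule.mkQ_surjective N)
    have h2 := cls_congr (LinearEquiv.ofEq _ _ (Submodule.ker_mkQ N))
    rw [h2, hk1, hk2, ← add_smul] at h1
    exact ⟨_, h1⟩

lemma cls_mem (M : Type u) [AddCommGroup M] [Module A M] [Module.Finite A M] :
    ∃ k : ℤ, cls (A := A) M = k • clA := by
  obtain ⟨n, s, hs⟩ := Module.Finite.exists_fin (R := A) (M := M)
  exact cls_gen n M s hs

lemma finrank_add {M1 M2 M3 : Type*} [AddCommGroup M1] [AddCommGroup M2] [AddCommGroup M3]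
    [Module A M1] [Module A M2] [Module A M3] {f : M1 →ₗ[A] M2} {g : M2 →ₗ[A] M3}
    (h : Function.Exact f g) (hf : Function.Injective f) (hg : Function.Surjective g)
    [Module.Finite A M2] :
    Module.finrank A M2 = Module.finrank A M1 + Module.finrank A M3 := by
  have h1 := (LinearMap.ker g).finrank_quotient_add_finrank
  have e3 : (M2 ⧸ LinearMap.ker g) ≃ₗ[A] M3 := g.quotKerEquivOfSurjective hg
  have e1 : M1 ≃ₗ[A] LinearMap.ker g :=
    (LinearEquiv.ofInjective f hf).trans (LinearEquiv.ofEq _ _ h.linearMap_ker_eq.symm)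
  rw [← h1, e3.finrank_eq, e1.finrank_eq, add_comm]

variable (A) in
/-- the rank map on generators -/
noncomputable def ψ : FreeAbelianGroup (Subtype (P A)) →+ ℤ :=
  FreeAbelianGroup.lift (fun M => (Module.finrank A M.1 : ℤ))

lemma hψ : KZero.relSub (P A) ≤ (ψ A).ker := by
  rw [KZero.relSub, AddSubgroup.closure_le]
  rintro x ⟨S, h₁, h₂, h₃, hS, rfl⟩
  rw [SetLike.mem_coe, AddMonoidHom.mem_ker, map_sub, map_sub]
  simp only [ψ, FreeAbelianGroup.lift_apply_of]
  haveI : Module.Finite A S.X₂ := h₂
  have hadd := finrank_add (A := A) (f := S.f.hom) (g := S.g.hom)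
    ((ShortComplex.ShortExact.moduleCat_exact_iff_function_exact S).mp hS.exact)
    hS.moduleCat_injective_f hS.moduleCat_surjective_g
  rw [hadd]
  push_cast
  ring

variable (A) in
/-- the rank map -/
noncomputable def φ : KZero.K0sub (P A) →+ ℤ := QuotientAddGroup.lift (KZero.relSub (P A)) (ψ A) hψ

lemma φ_clA : φ A clA = 1 := by
  show (ψ A) (FreeAbelianGroup.of ⟨ModuleCat.of A A, _⟩) = 1
  simp only [ψ, FreeAbelianGroup.lift_apply_of]
  have : Module.finrank A (ModuleCat.of A A) = 1 := Module.finrank_self A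
  rw [this]; rfl

lemma mem_span (x : KZero.K0sub (P A)) : ∃ k : ℤ, x = k • clA := by
  induction x using QuotientAddGroup.induction_on with
  | H z =>
    induction z using FreeAbelianGroup.induction_on with
    | zero => exact ⟨0, by simp⟩
    | of M =>
      haveI : Module.Finite A M.1 := M.2
      exact cls_mem (A := A) M.1
    | neg M ih =>
      obtain ⟨k, hk⟩ := ih
      exact ⟨-k, by rw [QuotientAddGroup.mk_neg, hk, neg_smul]⟩
    | add a b iha ihb =>
      obtain ⟨k1, hk1⟩ := iha
      obtain ⟨k2, hk2⟩ := ihb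
      exact ⟨k1 + k2, by rw [QuotientAddGroup.mk_add, hk1, hk2, add_smul]⟩

theorem main : Function.Bijective
    (fun k : ℤ => k • KZero.clSub (P A) (ModuleCat.of A A)) := by
  have h0 : KZero.clSub (P A) (ModuleCat.of A A) = clA :=
    dif_pos (inferInstanceAs (Module.Finite A A))
  rw [h0]
  constructor
  · intro k1 k2 h
    have := congrArg (φ A) h
    simpa [map_zsmul, φ_clA] using this
  · intro x
    obtain ⟨k, hk⟩ := mem_span x
    exact ⟨k, hk.symm⟩

end pid

end Groth.Agent.Lib.Helper26.K0PID
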