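import Mathlib
import Groth.Agent.Lib.Helper26.KInjDS
import Groth.Agent.Lib.Helper6.DerivedAdj

set_option maxHeartbeats 400000

universe w w' v v' u u'

open CategoryTheory CategoryTheory.Limits
open Groth.Agent.Lib.Helper26.KInjDS

namespace Groth.Agent.Lib.Helper26.KInjAdj

variable {A : Type u} {B : Type u'} [Category.{v} A] [Category.{v'} B] [Abelian A] [Abelian B]
  [IsGrothendieckAbelian.{v'} B] [HasDerivedCategory.{w} A] [HasDerivedCategory.{w'} B]
  (F : A ⥤ B) (G : B ⥤ A) (adj : F ⊣ G) [F.Additive] [G.Additive]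
  [PreservesFiniteLimits F] [PreservesFiniteColimits F]

include adj in
theorem derivedAdj (RG : DerivedCategory B ⥤ DerivedCategory A)
    (α : G.mapHomologicalComplex (ComplexShape.up ℤ) ⋙ DerivedCategory.Q ⟶
      DerivedCategory.Q ⋙ RG)
    [RG.IsRightDerivedFunctor α (HomologicalComplex.quasiIso B (ComplexShape.up ℤ))] :
    Nonempty (F.mapDerivedCategory ⊣ RG) := by
  let W₁ := HomologicalComplex.quasiIso A (ComplexShape.up ℤ)
  let W₂ := HomologicalComplex.quasiIso B (ComplexShape.up ℤ)
  let β : DerivedCategory.Q ⋙ F.mapDerivedCategory ⟶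
      F.mapHomologicalComplex (ComplexShape.up ℤ) ⋙ DerivedCategory.Q :=
    F.mapDerivedCategoryFactors.hom
  have hinv : W₁.IsInvertedBy (F.mapHomologicalComplex (ComplexShape.up ℤ) ⋙ DerivedCategory.Q) := by
    intro K L f hf
    have : QuasiIso f := (HomologicalComplex.mem_quasiIso_iff _).1 hf
    exact Localization.inverts DerivedCategory.Q W₂ _
      ((HomologicalComplex.mem_quasiIso_iff _).2 inferInstance)
  have hβ : IsIso β := inferInstance
  have i1 : F.mapDerivedCategory.IsLeftDerivedFunctor β W₁ :=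
    (Functor.isLeftDerivedFunctor_iff_of_inverts _ β hinv).2 hβ
  have i2 : (F.mapDerivedCategory ⋙ RG).IsLeftDerivedFunctor
      ((Functor.associator _ _ _).inv ≫ Functor.whiskerRight β RG) W₁ :=
    (Functor.isLeftDerivedFunctor_iff_of_inverts _ _
      (MorphismProperty.IsInvertedBy.of_comp _ _ hinv _)).2 inferInstance
  have hd : (Φ B).Derives (G.mapHomologicalComplex (ComplexShape.up ℤ) ⋙ DerivedCategory.Q) :=
    derives G DerivedCategory.Q (Localization.inverts DerivedCategory.Q W₁)
  have hd' : (Φ B).Derives ((G.mapHomologicalComplex (ComplexShape.up ℤ) ⋙ DerivedCategory.Q) ⋙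
      F.mapDerivedCategory) :=
    derives G (DerivedCategory.Q ⋙ F.mapDerivedCategory)
      (MorphismProperty.IsInvertedBy.of_comp _ _ (Localization.inverts DerivedCategory.Q W₁) _)
  have i3 : (RG ⋙ F.mapDerivedCategory).IsRightDerivedFunctor
      (Functor.whiskerRight α F.mapDerivedCategory ≫ (Functor.associator _ _ _).hom) W₂ :=
    hd'.isRightDerivedFunctor_of_isIso _ (fun X => by
      have := hd.isIso_of_isRightDerivedFunctor α X
      dsimp
      infer_instance)
  exact ⟨(Groth.Agent.Lib.Helper6.DerivedAdj.adjCx adj (ComplexShape.up ℤ)).derived W₁ W₂ β α⟩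

end Groth.Agent.Lib.Helper26.KInjAdj
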