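import Mathlib
set_option maxHeartbeats 400000
universe u
namespace Groth.Agent.Lib.Helper26.KaehlerInsep
open Polynomial KaehlerDifferential TensorProduct Algebra

section general
variable {k E K : Type u} [Field k] [Field E] [Field K] [Algebra k E] [Algebra E K] [Algebra k K]
  [IsScalarTower k E K]

lemma bounds [Module.Finite E (Ω[E⁄k])] (h1 : Module.finrank K (Ω[K⁄E]) = 1)
    (hH : Module.finrank K (LinearMap.ker (mapBaseChange k E K)) ≤ 1) :
    Module.finrank E (Ω[E⁄k]) ≤ Module.finrank K (Ω[K⁄k]) ∧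
      Module.finrank K (Ω[K⁄k]) ≤ Module.finrank E (Ω[E⁄k]) + 1 := by
  set φ := mapBaseChange k E K with hφ
  set ψ := map k E K K with hψ
  have hex : LinearMap.range φ = LinearMap.ker ψ := range_mapBaseChange k E K
  have hsurj : Function.Surjective ψ := map_surjective k E K
  haveI : Module.Finite K (Ω[K⁄E]) := Module.finite_of_finrank_pos (by omega)
  haveI : Module.Finite K (LinearMap.ker ψ) := by
    rw [← hex]; infer_instance
  haveI : Module.Finite K (Ω[K⁄k] ⧸ LinearMap.ker ψ) :=
    Module.Finite.equiv (ψ.quotKerEquivOfSurjective hsurj).symm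
  haveI : Module.Finite K (Ω[K⁄k]) := Module.Finite.of_submodule_quotient (LinearMap.ker ψ)
  have e1 := LinearMap.finrank_range_add_finrank_ker ψ
  rw [LinearMap.range_eq_top.mpr hsurj, finrank_top, h1, ← hex] at e1
  have e2 := LinearMap.finrank_range_add_finrank_ker φ
  rw [Module.finrank_baseChange] at e2
  omega


end general

section adjoinRoot
variable {E : Type u} [Field E] (P : E[X]) [Fact (Irreducible P)]

lemma hd (hP : Polynomial.derivative P = 0) :
    ∀ x, AdjoinRoot.mkₐ P x = 0 → AdjoinRoot.mkₐ P (Polynomial.derivative' x) = 0 := by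
  intro x hx
  rw [AdjoinRoot.coe_mkₐ, AdjoinRoot.mk_eq_zero] at hx
  obtain ⟨q, rfl⟩ := hx
  rw [AdjoinRoot.coe_mkₐ, AdjoinRoot.mk_eq_zero]
  show P ∣ Polynomial.derivative (P * q)
  rw [Polynomial.derivative_mul, hP, zero_mul, zero_add]
  exact dvd_mul_right _ _

/-- `d/dT` descends to `E[T]/(P)` when `P' = 0` -/
noncomputable def δ (hP : Polynomial.derivative P = 0) : Derivation E (AdjoinRoot P) (AdjoinRoot P) :=
  Derivation.liftOfSurjective (f := AdjoinRoot.mkₐ P) (AdjoinRoot.mk_surjective) (hd P hP)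

lemma δ_mk (hP : Polynomial.derivative P = 0) (q : E[X]) :
    δ P hP (AdjoinRoot.mk P q) = AdjoinRoot.mk P (Polynomial.derivative q) :=
  Derivation.liftOfSurjective_apply (f := AdjoinRoot.mkₐ P) (AdjoinRoot.mk_surjective) (hd P hP) q

lemma δ_root (hP : Polynomial.derivative P = 0) : δ P hP (AdjoinRoot.root P) = 1 := by
  rw [← AdjoinRoot.mk_X, δ_mk, Polynomial.derivative_X, map_one]

lemma span_D_root :
    Submodule.span (AdjoinRoot P) {D E (AdjoinRoot P) (AdjoinRoot.root P)} = ⊤ := by
  rw [_root_.eq_top_iff, ← span_range_derivation, Submodule.span_le]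
  rintro _ ⟨x, rfl⟩
  obtain ⟨q, rfl⟩ := AdjoinRoot.mk_surjective x
  rw [← AdjoinRoot.aeval_eq, Derivation.map_aeval]
  exact Submodule.smul_mem _ _ (Submodule.subset_span rfl)

lemma finrank_kaehler (hP : Polynomial.derivative P = 0) :
    Module.finrank (AdjoinRoot P) (Ω[AdjoinRoot P⁄E]) = 1 := by
  have hne : D E (AdjoinRoot P) (AdjoinRoot.root P) ≠ 0 := by
    intro h0
    have := (δ P hP).liftKaehlerDifferential_comp_D (AdjoinRoot.root P)
    rw [h0, map_zero, δ_root] at this
    exact zero_ne_one this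
  have h1 := finrank_span_singleton (K := AdjoinRoot P) hne
  rw [span_D_root] at h1
  rw [← h1]
  exact (finrank_top _ _).symm

/-- one-variable generators of `AdjoinRoot P` -/
noncomputable def G : Generators E (AdjoinRoot P) Unit :=
  Generators.ofSurjective (fun _ : Unit => AdjoinRoot.root P) (by
    intro x
    obtain ⟨q, rfl⟩ := AdjoinRoot.mk_surjective x
    refine ⟨(MvPolynomial.uniqueAlgEquiv E Unit).symm q, ?_⟩
    rw [MvPolynomial.aeval_def, MvPolynomial.eval₂_const_uniqueAlgEquiv_symm, ← Polynomial.aeval_def,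
      AdjoinRoot.aeval_eq])

lemma aeval_G (q : MvPolynomial Unit E) :
    MvPolynomial.aeval (G P).val q = AdjoinRoot.mk P (MvPolynomial.uniqueAlgEquiv E Unit q) := by
  rw [← AdjoinRoot.aeval_eq, Polynomial.aeval_def, MvPolynomial.eval₂_const_uniqueAlgEquiv,
    ← MvPolynomial.aeval_def]
  rfl

lemma ker_G : Ideal.span (Set.range fun _ : Unit => (MvPolynomial.uniqueAlgEquiv E Unit).symm P)
    = (G P).toExtension.ker := by
  rw [Set.range_const]
  ext q
  rw [Ideal.mem_span_singleton]
  show _ ↔ q ∈ (G P).ker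
  rw [Generators.ker_eq_ker_aeval_val, RingHom.mem_ker, aeval_G, AdjoinRoot.mk_eq_zero]
  constructor
  · rintro ⟨r, rfl⟩
    rw [map_mul, AlgEquiv.apply_symm_apply]
    exact dvd_mul_right _ _
  · rintro ⟨r, hr⟩
    refine ⟨(MvPolynomial.uniqueAlgEquiv E Unit).symm r, ?_⟩
    apply (MvPolynomial.uniqueAlgEquiv E Unit).injective
    rw [map_mul, AlgEquiv.apply_symm_apply, AlgEquiv.apply_symm_apply, hr]

lemma cotangent_finrank :
    Module.Finite (AdjoinRoot P) (G P).toExtension.Cotangent ∧
      Module.finrank (AdjoinRoot P) (G P).toExtension.Cotangent ≤ 1 := by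
  have hspan := Extension.Cotangent.span_eq_top_of_span_eq_ker (P := (G P).toExtension)
    (fun _ : Unit => (MvPolynomial.uniqueAlgEquiv E Unit).symm P) (ker_G P)
  constructor
  · rw [Module.finite_def, ← hspan]
    exact Submodule.fg_span (Set.finite_range _)
  · have h1 := finrank_range_le_card (R := AdjoinRoot P)
      (fun i : Unit => Extension.Cotangent.mk (P := (G P).toExtension)
        ⟨(MvPolynomial.uniqueAlgEquiv E Unit).symm P,
          (ker_G P).le (Ideal.subset_span ⟨i, rfl⟩)⟩)
    rw [Set.finrank, hspan, finrank_top] at h1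
    simpa using h1

lemma h1_finrank :
    Module.Finite (AdjoinRoot P) (Algebra.H1Cotangent E (AdjoinRoot P)) ∧
      Module.finrank (AdjoinRoot P) (Algebra.H1Cotangent E (AdjoinRoot P)) ≤ 1 := by
  obtain ⟨hf, hr⟩ := cotangent_finrank P
  have hinj : Function.Injective ((G P).toExtension.h1Cotangentι) := Subtype.val_injective
  haveI : Module.Finite (AdjoinRoot P) (G P).toExtension.H1Cotangent :=
    Module.Finite.of_injective _ hinj
  have h1 : Module.finrank (AdjoinRoot P) (G P).toExtension.H1Cotangent ≤ 1 :=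
    le_trans (LinearMap.finrank_le_finrank_of_injective hinj) hr
  refine ⟨Module.Finite.equiv (G P).equivH1Cotangent, ?_⟩
  rw [← LinearEquiv.finrank_eq (G P).equivH1Cotangent]
  exact h1


theorem main (k : Type u) [Field k] [Algebra k E] (hP : Polynomial.derivative P = 0)
    [Module.Finite E (KaehlerDifferential k E)] :
    Module.finrank (AdjoinRoot P) (KaehlerDifferential E (AdjoinRoot P)) = 1 ∧
      Module.finrank E (KaehlerDifferential k E) ≤ Module.finrank (AdjoinRoot P) (KaehlerDifferential k (AdjoinRoot P)) ∧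
      Module.finrank (AdjoinRoot P) (KaehlerDifferential k (AdjoinRoot P)) ≤ Module.finrank E (KaehlerDifferential k E) + 1 := by
  have h1 := finrank_kaehler P hP
  refine ⟨h1, ?_⟩
  apply bounds h1
  obtain ⟨hf, hr⟩ := h1_finrank P
  have hex := Algebra.H1Cotangent.exact_δ_mapBaseChange k E (AdjoinRoot P)
  rw [LinearMap.exact_iff] at hex
  rw [hex]
  exact le_trans (LinearMap.finrank_range_le _) hr

end adjoinRoot
end Groth.Agent.Lib.Helper26.KaehlerInsep
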