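import Mathlib
import Groth.Prelude.Def_Koszul
set_option maxHeartbeats 400000
set_option linter.unusedSectionVars false
open CategoryTheory Limits MonoidalCategory Category HomologicalComplex
open CochainComplex HomComplex

namespace Groth.Agent.Lib.Helper26.KoszTensor

variable {C : Type*} [Category C] [MonoidalCategory C] [Preadditive C] [HasZeroObject C]
  [(curriedTensor C).Additive] [∀ (X₁ : C), ((curriedTensor C).obj X₁).Additive]

section
variable {K M : CochainComplex C ℤ} (L : CochainComplex C ℤ)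
  [HasTensor K L] [HasTensor M L]

/-- whiskering a cochain on the right by a complex -/
noncomputable def whisker {n : ℤ} (α : Cochain K M n) :
    Cochain (tensorObj K L) (tensorObj M L) n :=
  Cochain.mk (fun i j hij => mapBifunctorDesc (fun p q hpq =>
     (α.v p (p + n) rfl) ▷ L.X q ≫ ιTensorObj M L (p + n) q j (by
        have : p + q = i := hpq
        omega)))

@[reassoc (attr := simp)]
lemma ι_whisker_v {n : ℤ} (α : Cochain K M n) (p q i j : ℤ) (hpq : p + q = i) (hij : i + n = j)
    (p' : ℤ) (hp' : p + n = p') :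
    ιTensorObj K L p q i hpq ≫ (whisker L α).v i j hij =
      (α.v p p' hp') ▷ L.X q ≫ ιTensorObj M L p' q j (by omega) := by
  subst hp'
  simp [whisker]
end

lemma whisker_ext {K N : CochainComplex C ℤ} (L : CochainComplex C ℤ) [HasTensor K L]
    {n : ℤ} {α β : Cochain (tensorObj K L) N n}
    (h : ∀ (p q i j : ℤ) (hpq : p + q = i) (hij : i + n = j),
      ιTensorObj K L p q i hpq ≫ α.v i j hij = ιTensorObj K L p q i hpq ≫ β.v i j hij) :
    α = β := by
  apply Cochain.ext
  intro i j hij
  apply mapBifunctor.hom_ext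
  intro p q hpq
  exact h p q i j hpq hij

section
variable {K M N : CochainComplex C ℤ} (L : CochainComplex C ℤ)
  [HasTensor K L] [HasTensor M L] [HasTensor N L]

lemma whisker_comp {n₁ n₂ n₁₂ : ℤ} (α : Cochain K M n₁) (β : Cochain M N n₂) (h : n₁ + n₂ = n₁₂) :
    whisker L (α.comp β h) = (whisker L α).comp (whisker L β) h := by
  apply whisker_ext
  intro p q i j hpq hij
  rw [Cochain.comp_v _ _ h i (i + n₁) j rfl (by omega)]
  rw [ι_whisker_v L _ p q i j hpq hij (p + n₁₂) rfl]
  rw [ι_whisker_v_assoc L _ p q i (i + n₁) hpq rfl (p + n₁) rfl]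
  rw [ι_whisker_v L _ (p + n₁) q (i + n₁) j (by omega) (by omega) (p + n₁₂) (by omega)]
  rw [Cochain.comp_v _ _ h p (p + n₁) (p + n₁₂) rfl (by omega)]
  rw [comp_whiskerRight, assoc]
end

section
variable {K M : CochainComplex C ℤ} (L : CochainComplex C ℤ)
  [HasTensor K L] [HasTensor M L]

lemma whisker_ofHom (f : K ⟶ M) :
    whisker L (Cochain.ofHom f) = Cochain.ofHom (HomologicalComplex.tensorHom f (𝟙 L)) := by
  apply whisker_ext
  intro p q i j hpq hij
  obtain rfl : i = j := by omega
  rw [ι_whisker_v L _ p q i i hpq hij p (add_zero p)]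
  simp [HomologicalComplex.tensorHom]

omit [HasZeroObject C] [∀ (X₁ : C), ((curriedTensor C).obj X₁).Additive] in
lemma add_whiskerRight' {X Y : C} (f g : X ⟶ Y) (Z : C) : (f + g) ▷ Z = f ▷ Z + g ▷ Z := by
  exact congr_app ((curriedTensor C).map_add (f := f) (g := g)) Z

omit [HasZeroObject C] [∀ (X₁ : C), ((curriedTensor C).obj X₁).Additive] in
lemma zero_whiskerRight' {X Y : C} (Z : C) : (0 : X ⟶ Y) ▷ Z = 0 := by
  exact congr_app ((curriedTensor C).map_zero X Y) Z

omit [HasZeroObject C] [∀ (X₁ : C), ((curriedTensor C).obj X₁).Additive] in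
lemma neg_whiskerRight' {X Y : C} (f : X ⟶ Y) (Z : C) : (-f) ▷ Z = -(f ▷ Z) := by
  exact congr_app ((curriedTensor C).map_neg (f := f)) Z

lemma whisker_add {n : ℤ} (α β : Cochain K M n) :
    whisker L (α + β) = whisker L α + whisker L β := by
  apply whisker_ext
  intro p q i j hpq hij
  rw [Cochain.add_v, Preadditive.comp_add,
    ι_whisker_v L _ p q i j hpq hij (p + n) rfl,
    ι_whisker_v L _ p q i j hpq hij (p + n) rfl,
    ι_whisker_v L _ p q i j hpq hij (p + n) rfl, Cochain.add_v]
  rw [add_whiskerRight']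
  simp

lemma whisker_zero {n : ℤ} :
    whisker L (0 : Cochain K M n) = 0 := by
  apply whisker_ext
  intro p q i j hpq hij
  rw [ι_whisker_v L _ p q i j hpq hij (p + n) rfl]
  simp [zero_whiskerRight']

lemma whisker_neg {n : ℤ} (α : Cochain K M n) :
    whisker L (-α) = -whisker L α := by
  apply whisker_ext
  intro p q i j hpq hij
  rw [Cochain.neg_v, Preadditive.comp_neg,
    ι_whisker_v L _ p q i j hpq hij (p + n) rfl,
    ι_whisker_v L _ p q i j hpq hij (p + n) rfl, Cochain.neg_v, neg_whiskerRight']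
  simp
end
section
variable (K L : CochainComplex C ℤ) [HasTensor K L]

@[reassoc]
lemma ι_tensor_d (p q i j : ℤ) (hpq : p + q = i) (hij : i + 1 = j)
    (p' q' : ℤ) (hp' : p + 1 = p') (hq' : q + 1 = q') :
    ιTensorObj K L p q i hpq ≫ (tensorObj K L).d i j =
      K.d p p' ▷ L.X q ≫ ιTensorObj K L p' q j (by omega) +
        p.negOnePow • (K.X p ◁ L.d q q' ≫ ιTensorObj K L p q' j (by omega)) := by
  rw [mapBifunctor.d_eq, Preadditive.comp_add, mapBifunctor.ι_D₁, mapBifunctor.ι_D₂,
    mapBifunctor.d₁_eq K L (curriedTensor C) (ComplexShape.up ℤ) (i₁ := p) (i₁' := p') hp' q j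
      (by simp; omega),
    mapBifunctor.d₂_eq K L (curriedTensor C) (ComplexShape.up ℤ) p (i₂ := q) (i₂' := q') hq' j
      (by simp; omega)]
  simp
end
omit [HasZeroObject C] [∀ (X₁ : C), ((curriedTensor C).obj X₁).Additive] in
lemma units_smul_whiskerRight' {X Y : C} (ε : ℤˣ) (f : X ⟶ Y) (Z : C) :
    (ε • f) ▷ Z = ε • (f ▷ Z) := by
  rcases Int.units_eq_one_or ε with rfl | rfl
  · simp
  · simp [neg_whiskerRight']

section
variable {K M : CochainComplex C ℤ} (L : CochainComplex C ℤ)
  [HasTensor K L] [HasTensor M L]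

lemma δ_whisker {n m : ℤ} (hnm : n + 1 = m) (α : Cochain K M n) :
    δ n m (whisker L α) = whisker L (δ n m α) := by
  apply whisker_ext
  intro p q i j hpq hij
  rw [δ_v n m hnm _ i j hij (i + n) (i + 1) (by omega) rfl]
  rw [ι_whisker_v L _ p q i j hpq hij (p + m) rfl]
  rw [δ_v n m hnm α p (p + m) rfl (p + n) (p + 1) (by omega) rfl]
  rw [Preadditive.comp_add, Linear.comp_units_smul]
  rw [ι_whisker_v_assoc L α p q i (i + n) hpq rfl (p + n) rfl]
  rw [ι_tensor_d M L (p + n) q (i + n) j (by omega) (by omega) (p + m) (q + 1) (by omega) rfl]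
  rw [ι_tensor_d_assoc K L p q i (i + 1) hpq rfl (p + 1) (q + 1) rfl rfl]
  rw [Preadditive.add_comp, Linear.units_smul_comp, assoc, assoc]
  rw [ι_whisker_v L α (p + 1) q (i + 1) j (by omega) (by omega) (p + m) (by omega)]
  rw [ι_whisker_v L α p (q + 1) (i + 1) j (by omega) (by omega) (p + n) rfl]
  rw [add_whiskerRight', Preadditive.add_comp, units_smul_whiskerRight', comp_whiskerRight,
    comp_whiskerRight, Preadditive.comp_add, smul_add, Linear.comp_units_smul,
    Linear.units_smul_comp, assoc, assoc]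
  rw [← whisker_exchange_assoc]
  have h1 : (p + n).negOnePow = p.negOnePow * n.negOnePow := Int.negOnePow_add p n
  have h2 : m.negOnePow = - n.negOnePow := by rw [← hnm, Int.negOnePow_succ]
  rw [h1, h2, smul_smul]
  simp only [neg_mul, mul_comm n.negOnePow p.negOnePow, Units.neg_smul]
  abel
end
section
variable {K M N : CochainComplex C ℤ} (L : CochainComplex C ℤ)
  [HasTensor K L] [HasTensor M L] [HasTensor N L]

lemma whisker_v_comp_whisker_v {n₁ n₂ n₁₂ : ℤ} (α : Cochain K M n₁) (β : Cochain M N n₂)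
    (h : n₁ + n₂ = n₁₂) (a b c : ℤ) (hab : a + n₁ = b) (hbc : b + n₂ = c) :
    (whisker L α).v a b hab ≫ (whisker L β).v b c hbc =
      (whisker L (α.comp β h)).v a c (by omega) := by
  rw [whisker_comp, Cochain.comp_v _ _ h a b c hab hbc]

lemma tensorHom_id_id : HomologicalComplex.tensorHom (𝟙 K) (𝟙 L) = 𝟙 (tensorObj K L) := by
  ext n p q hpq
  simp [HomologicalComplex.tensorHom]

lemma whisker_ofHom_id : whisker L (Cochain.ofHom (𝟙 K)) = Cochain.ofHom (𝟙 (tensorObj K L)) := by
  rw [whisker_ofHom, tensorHom_id_id]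

lemma tensorHom_comp_id (f : K ⟶ M) (g : M ⟶ N) :
    HomologicalComplex.tensorHom (f ≫ g) (𝟙 L) =
      HomologicalComplex.tensorHom f (𝟙 L) ≫ HomologicalComplex.tensorHom g (𝟙 L) := by
  apply Cochain.ofHom_injective
  rw [← whisker_ofHom, Cochain.ofHom_comp, whisker_comp, whisker_ofHom, whisker_ofHom,
    ← Cochain.ofHom_comp]
end

section
variable [HasBinaryBiproducts C] {K M : CochainComplex C ℤ} (φ : K ⟶ M) (L : CochainComplex C ℤ)
  [HasTensor K L] [HasTensor M L] [HasTensor (mappingCone φ) L]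

noncomputable def coneTensorHom :
    tensorObj (mappingCone φ) L ⟶ mappingCone (HomologicalComplex.tensorHom φ (𝟙 L)) :=
  mappingCone.lift _
    (Cocycle.mk (whisker L (mappingCone.fst φ).1) 2 (by omega)
      (by rw [δ_whisker L (by omega), Cocycle.δ_eq_zero, whisker_zero]))
    (whisker L (mappingCone.snd φ))
    (by
      rw [δ_whisker L (by omega), mappingCone.δ_snd, whisker_neg, whisker_comp, whisker_ofHom]
      simp)

noncomputable def coneTensorInv :
    mappingCone (HomologicalComplex.tensorHom φ (𝟙 L)) ⟶ tensorObj (mappingCone φ) L :=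
  mappingCone.desc _ (whisker L (mappingCone.inl φ))
    (HomologicalComplex.tensorHom (mappingCone.inr φ) (𝟙 L))
    (by
      rw [δ_whisker L (by omega), mappingCone.δ_inl, whisker_ofHom, tensorHom_comp_id])

lemma coneTensor_hom_inv : coneTensorHom φ L ≫ coneTensorInv φ L = 𝟙 _ := by
  apply Cochain.ofHom_injective
  rw [Cochain.ofHom_comp]
  dsimp only [coneTensorHom, coneTensorInv]
  rw [mappingCone.ofHom_lift, mappingCone.ofHom_desc, mappingCone.liftCochain_descCochain]
  rw [Cocycle.mk_coe]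
  rw [← whisker_ofHom, ← whisker_comp, ← whisker_comp, ← whisker_add, mappingCone.id,
    whisker_ofHom_id]

end
section
variable [HasBinaryBiproducts C] {K M : CochainComplex C ℤ} (φ : K ⟶ M) (L : CochainComplex C ℤ)
  [HasTensor K L] [HasTensor M L] [HasTensor (mappingCone φ) L]

lemma coneTensor_inv_hom : coneTensorInv φ L ≫ coneTensorHom φ L = 𝟙 _ := by
  ext n
  rw [mappingCone.ext_from_iff _ (n + 1) n rfl]
  constructor
  · rw [mappingCone.ext_to_iff _ n (n + 1) rfl]
    dsimp only [coneTensorHom, coneTensorInv, HomologicalComplex.comp_f, HomologicalComplex.id_f]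
    constructor
    · rw [mappingCone.inl_v_desc_f_assoc, assoc, mappingCone.lift_f_fst_v, Cocycle.mk_coe,
        whisker_v_comp_whisker_v L _ _ (neg_add_cancel 1), mappingCone.inl_fst, whisker_ofHom_id]
      simp
    · rw [mappingCone.inl_v_desc_f_assoc, assoc, mappingCone.lift_f_snd_v,
        whisker_v_comp_whisker_v L _ _ (add_zero (-1)), mappingCone.inl_snd, whisker_zero]
      simp
  · rw [mappingCone.ext_to_iff _ n (n + 1) rfl]
    dsimp only [coneTensorHom, coneTensorInv, HomologicalComplex.comp_f, HomologicalComplex.id_f]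
    constructor
    · rw [mappingCone.inr_f_desc_f_assoc, assoc, mappingCone.lift_f_fst_v, Cocycle.mk_coe,
        ← Cochain.ofHom_v, ← whisker_ofHom,
        whisker_v_comp_whisker_v L _ _ (zero_add 1), mappingCone.inr_fst, whisker_zero]
      simp
    · rw [mappingCone.inr_f_desc_f_assoc, assoc, mappingCone.lift_f_snd_v,
        ← Cochain.ofHom_v, ← whisker_ofHom,
        whisker_v_comp_whisker_v L _ _ (zero_add 0), mappingCone.inr_snd, whisker_ofHom_id]
      simp

/-- The tensor product of a mapping cone with a complex is the mapping cone of the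
whiskered morphism. -/
noncomputable def coneTensorIso :
    tensorObj (mappingCone φ) L ≅ mappingCone (HomologicalComplex.tensorHom φ (𝟙 L)) where
  hom := coneTensorHom φ L
  inv := coneTensorInv φ L
  hom_inv_id := coneTensor_hom_inv φ L
  inv_hom_id := coneTensor_inv_hom φ L
end
section Koszul
universe u
variable (A : Type u) [CommRing A]

open CochainComplex

lemma tensorHom_smul_id (a : A) (K L : CochainComplex (ModuleCat.{u} A) ℤ) :
    HomologicalComplex.tensorHom (a • 𝟙 K) (𝟙 L) = a • 𝟙 (HomologicalComplex.tensorObj K L) := by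
  apply HomologicalComplex.hom_ext
  intro n
  apply mapBifunctor.hom_ext
  intro p q hpq
  rw [HomologicalComplex.tensorHom, ι_mapBifunctorMap]
  simp [MonoidalLinear.smul_whiskerRight]

lemma map_congr' {K₁ L₁ K₂ L₂ : CochainComplex (ModuleCat.{u} A) ℤ} (φ₁ : K₁ ⟶ L₁) (φ₂ : K₂ ⟶ L₂)
    {a a' : K₁ ⟶ K₂} {b b' : L₁ ⟶ L₂} (ha : a = a') (hb : b = b')
    (comm : φ₁ ≫ b = a ≫ φ₂) :
    mappingCone.map φ₁ φ₂ a b comm = mappingCone.map φ₁ φ₂ a' b' (by rw [← ha, ← hb, comm]) := by
  subst ha hb
  rfl

noncomputable def coneSmulIso (a : A) {X Y : CochainComplex (ModuleCat.{u} A) ℤ} (e : X ≅ Y) :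
    mappingCone (a • 𝟙 X) ≅ mappingCone (a • 𝟙 Y) where
  hom := mappingCone.map _ _ e.hom e.hom (by simp [Linear.smul_comp, Linear.comp_smul])
  inv := mappingCone.map _ _ e.inv e.inv (by simp [Linear.smul_comp, Linear.comp_smul])
  hom_inv_id := by
    rw [← mappingCone.map_comp, map_congr' A _ _ e.hom_inv_id e.hom_inv_id, mappingCone.map_id]
  inv_hom_id := by
    rw [← mappingCone.map_comp, map_congr' A _ _ e.inv_hom_id e.inv_hom_id, mappingCone.map_id]

theorem main (f g : List A) :
    Nonempty ((MonoidalCategoryStruct.tensorObj (C := CochainComplex (ModuleCat.{u} A) ℤ)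
      (Koszul.koszul A f) (Koszul.koszul A g)) ≅ Koszul.koszul A (f ++ g)) := by
  induction f with
  | nil => exact ⟨λ_ _⟩
  | cons a f ih =>
    obtain ⟨e⟩ := ih
    refine ⟨?_⟩
    change HomologicalComplex.tensorObj (mappingCone (a • 𝟙 (Koszul.koszul A f))) (Koszul.koszul A g) ≅
      mappingCone (a • 𝟙 (Koszul.koszul A (f ++ g)))
    refine coneTensorIso _ _ ≪≫ ?_ ≪≫ coneSmulIso A a e
    exact eqToIso (by rw [tensorHom_smul_id]; rfl)
end Koszul
end Groth.Agent.Lib.Helper26.KoszTensor
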