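import Mathlib

set_option maxHeartbeats 400000

namespace Groth.Agent.Lib.Helper26.KummerAS

open Polynomial

section formal

variable {R : Type*} [CommRing R]

/-- `C(p,i)/p` -/
def cc (p i : ℕ) : ℕ := p.choose i / p

lemma cc_spec {p : ℕ} (hp : p.Prime) {i : ℕ} (h0 : 0 < i) (hi : i < p) :
    p.choose i = p * cc p i :=
  (Nat.mul_div_cancel' (hp.dvd_choose_self h0.ne' hi)).symm

lemma cc_zero {p : ℕ} (hp : p.Prime) : cc p 0 = 0 := by
  unfold cc
  rw [Nat.choose_zero_right]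
  exact Nat.div_eq_of_lt hp.one_lt

lemma cc_one {p : ℕ} (hp : p.Prime) : cc p 1 = 1 := by
  unfold cc
  rw [Nat.choose_one_right]
  exact Nat.div_self hp.pos

/-- coefficients -/
noncomputable def bb (p : ℕ) (w ε : R) (i : ℕ) : R := w ^ (i - 1) * ε * (cc p i : R)

/-- the polynomial -/
noncomputable def PP (p : ℕ) (w ε : R) : R[X] :=
  X ^ p + ∑ i ∈ Finset.Ioo 0 p, C (bb p w ε i) * X ^ i

lemma coeff_PP (p : ℕ) (w ε : R) (i : ℕ) :
    (PP p w ε).coeff i = (if i = p then 1 else 0) +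
      (if i ∈ Finset.Ioo 0 p then bb p w ε i else 0) := by
  unfold PP
  rw [coeff_add, coeff_X_pow, finset_sum_coeff]
  congr 1
  simp_rw [coeff_C_mul_X_pow]
  rw [Finset.sum_ite_eq]

lemma L1 {p : ℕ} (hp : p.Prime) (w ε : R) (hpe : (p : R) = w ^ (p - 1) * ε) :
    C (w ^ p) * PP p w ε = (1 + C w * X) ^ p - 1 := by
  have hcomp : (1 + C w * X : R[X]) ^ p = ((1 + X) ^ p).comp (C w * X) := by
    simp
  ext i
  rw [coeff_C_mul, coeff_PP, coeff_sub, hcomp, comp_C_mul_X_coeff, coeff_one_add_X_pow, coeff_one]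
  have hp2 := hp.two_le
  rcases Nat.eq_zero_or_pos i with h0 | h0
  · subst h0
    rw [if_neg (by omega), if_neg (by simp)]
    simp
  rcases lt_trichotomy i p with hlt | heq | hgt
  · rw [if_neg (by omega), if_pos (Finset.mem_Ioo.mpr ⟨h0, hlt⟩), if_neg (by omega), zero_add,
      sub_zero, cc_spec hp h0 hlt, Nat.cast_mul, hpe]
    unfold bb
    have h1 : w ^ p * w ^ (i - 1) = w ^ (p - 1) * w ^ i := by
      rw [← pow_add, ← pow_add]; congr 1; omega
    linear_combination (ε * (cc p i : R)) * h1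
  · subst heq
    rw [if_pos rfl, if_neg (by simp), if_neg (by omega), Nat.choose_self]
    simp
  · rw [if_neg (by omega), if_neg (by simp; omega), if_neg (by omega),
      Nat.choose_eq_zero_of_lt hgt]
    simp

lemma map_PP {R' : Type*} [CommRing R'] (φ : R →+* R') (p : ℕ) (w ε : R) :
    (PP p w ε).map φ = PP p (φ w) (φ ε) := by
  unfold PP bb
  simp [Polynomial.map_sum]

/-- the cofactor of `w^(p-1)` in `p` -/
noncomputable def eps (p : ℕ) (ζ : R) : R :=
  ∏ k ∈ Finset.range (p - 1), ∑ i ∈ Finset.range (k + 1), ζ ^ i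

lemma map_eps {R' : Type*} [CommRing R'] (φ : R →+* R') (p : ℕ) (ζ : R) :
    φ (eps p ζ) = eps p (φ ζ) := by
  unfold eps
  simp [map_prod, map_sum]

/-- Wilson: `ε + 1 ∈ (w)` -/
lemma eps_add_one_mem {p : ℕ} (hp : p.Prime) (ζ : R)
    (hpe : (p : R) = (1 - ζ) ^ (p - 1) * eps p ζ) :
    eps p ζ + 1 ∈ Ideal.span {1 - ζ} := by
  set I : Ideal R := Ideal.span {1 - ζ}
  set π := Ideal.Quotient.mk I
  have hw : π (1 - ζ) = 0 := Ideal.Quotient.eq_zero_iff_mem.mpr (Ideal.subset_span rfl)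
  have hζ : π ζ = 1 := by
    rw [map_sub, map_one, sub_eq_zero] at hw
    exact hw.symm
  have hε : π (eps p ζ) = ((p - 1).factorial : R ⧸ I) := by
    unfold eps
    rw [map_prod]
    simp_rw [map_sum, map_pow, hζ, one_pow, Finset.sum_const, Finset.card_range, nsmul_eq_mul,
      mul_one]
    rw [← Finset.prod_range_add_one_eq_factorial, Nat.cast_prod]
  have hp0 : ((p : ℕ) : R ⧸ I) = 0 := by
    have := congrArg π hpe
    rw [map_natCast, map_mul, map_pow, hw, zero_pow (by have := hp.two_le; omega), zero_mul] at this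
    exact this
  haveI : Fact p.Prime := ⟨hp⟩
  have hwil : p ∣ (p - 1).factorial + 1 := by
    rw [← ZMod.natCast_eq_zero_iff, Nat.cast_add, ZMod.wilsons_lemma, Nat.cast_one, neg_add_cancel]
  obtain ⟨m, hm⟩ := hwil
  rw [← Ideal.Quotient.eq_zero_iff_mem, map_add, map_one, hε]
  have : (((p - 1).factorial + 1 : ℕ) : R ⧸ I) = 0 := by
    rw [hm, Nat.cast_mul, hp0, zero_mul]
  rw [Nat.cast_add, Nat.cast_one] at this
  exact this

end formal

section universal

variable (p : ℕ) [hp : Fact p.Prime]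

/-- the universal ring `ℤ[ζ_p]` -/
abbrev A₀ : Type := AdjoinRoot (cyclotomic p ℤ)

instance : IsDomain (A₀ p) :=
  AdjoinRoot.isDomain_of_prime (cyclotomic.irreducible hp.out.pos).prime

/-- the universal root -/
noncomputable abbrev ζ₀ : A₀ p := AdjoinRoot.root (cyclotomic p ℤ)

lemma natCast_ne_zero : ((p : ℕ) : A₀ p) ≠ 0 := by
  have hdeg : (cyclotomic p ℤ).degree ≠ 0 := by
    rw [degree_cyclotomic, Nat.totient_prime hp.out]
    have := hp.out.two_le
    exact_mod_cast (by omega : p - 1 ≠ 0)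
  have hinj := AdjoinRoot.of.injective_of_degree_ne_zero hdeg
  have : ((p : ℕ) : A₀ p) = AdjoinRoot.of (cyclotomic p ℤ) (p : ℤ) := by simp
  rw [this, Ne, map_eq_zero_iff _ hinj]
  exact_mod_cast hp.out.ne_zero

lemma primitive : IsPrimitiveRoot (ζ₀ p) p := by
  haveI : NeZero ((p : ℕ) : A₀ p) := ⟨natCast_ne_zero p⟩
  rw [← isRoot_cyclotomic_iff, IsRoot.def]
  have hmap : cyclotomic p (A₀ p) = (cyclotomic p ℤ).map (Int.castRingHom (A₀ p)) :=
    (map_cyclotomic_int p (A₀ p)).symm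
  rw [hmap, eval_map]
  have := AdjoinRoot.eval₂_root (cyclotomic p ℤ)
  have hof : AdjoinRoot.of (cyclotomic p ℤ) = Int.castRingHom (A₀ p) := RingHom.ext_int _ _
  rwa [hof] at this

lemma rel₀ : ((p : ℕ) : A₀ p) = (1 - ζ₀ p) ^ (p - 1) * eps p (ζ₀ p) := by
  have hpp : p - 1 + 1 = p := Nat.succ_pred_eq_of_pos hp.out.pos
  have hμ : IsPrimitiveRoot (ζ₀ p) (p - 1 + 1) := by rw [hpp]; exact primitive p
  have h := hμ.prod_one_sub_pow_eq_order
  have hcast : (((p - 1 : ℕ) : A₀ p) + 1) = ((p : ℕ) : A₀ p) := by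
    rw [← Nat.cast_succ, Nat.succ_eq_add_one, hpp]
  rw [hcast] at h
  rw [← h]
  unfold eps
  simp_rw [← mul_neg_geom_sum]
  rw [Finset.prod_mul_distrib, Finset.prod_const, Finset.card_range]

lemma w₀_ne_zero : (1 - ζ₀ p : A₀ p) ≠ 0 := by
  have := (primitive p).ne_one hp.out.one_lt
  rw [Ne, sub_eq_zero]
  exact fun h => this h.symm

/-- the addition law in the universal case -/
lemma add_law₀ :
    aeval (MvPolynomial.X 0 + MvPolynomial.X 1 + MvPolynomial.C (1 - ζ₀ p) * MvPolynomial.X 0 * MvPolynomial.X 1 :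
        MvPolynomial (Fin 2) (A₀ p)) (PP p (1 - ζ₀ p) (eps p (ζ₀ p))) =
      aeval (MvPolynomial.X 0 : MvPolynomial (Fin 2) (A₀ p)) (PP p (1 - ζ₀ p) (eps p (ζ₀ p))) +
      aeval (MvPolynomial.X 1 : MvPolynomial (Fin 2) (A₀ p)) (PP p (1 - ζ₀ p) (eps p (ζ₀ p))) +
      MvPolynomial.C ((1 - ζ₀ p) ^ p) *
        aeval (MvPolynomial.X 0 : MvPolynomial (Fin 2) (A₀ p)) (PP p (1 - ζ₀ p) (eps p (ζ₀ p))) *
        aeval (MvPolynomial.X 1 : MvPolynomial (Fin 2) (A₀ p)) (PP p (1 - ζ₀ p) (eps p (ζ₀ p))) := by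
  set w := 1 - ζ₀ p with hw
  set P := PP p w (eps p (ζ₀ p)) with hP
  have hL1 := L1 hp.out w (eps p (ζ₀ p)) (rel₀ p)
  have key : ∀ z : MvPolynomial (Fin 2) (A₀ p),
      MvPolynomial.C (w ^ p) * aeval z P = (1 + MvPolynomial.C w * z) ^ p - 1 := by
    intro z
    have := congrArg (aeval z) hL1
    simpa [MvPolynomial.algebraMap_eq] using this
  have hWne : (MvPolynomial.C (w ^ p) : MvPolynomial (Fin 2) (A₀ p)) ≠ 0 := by
    rw [Ne, MvPolynomial.C_eq_zero]
    exact pow_ne_zero _ (w₀_ne_zero p)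
  apply mul_left_cancel₀ hWne
  have k0 := key (MvPolynomial.X 0)
  have k1 := key (MvPolynomial.X 1)
  have k3 := key (MvPolynomial.X 0 + MvPolynomial.X 1 + MvPolynomial.C w * MvPolynomial.X 0 * MvPolynomial.X 1)
  have hfac : (1 + MvPolynomial.C w * (MvPolynomial.X 0 + MvPolynomial.X 1 + MvPolynomial.C w * MvPolynomial.X 0 * MvPolynomial.X 1) :
      MvPolynomial (Fin 2) (A₀ p)) = (1 + MvPolynomial.C w * MvPolynomial.X 0) * (1 + MvPolynomial.C w * MvPolynomial.X 1) := by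
    ring
  rw [k3, hfac, mul_pow]
  have e0 : (1 + MvPolynomial.C w * MvPolynomial.X 0 : MvPolynomial (Fin 2) (A₀ p)) ^ p =
      1 + MvPolynomial.C (w ^ p) * aeval (MvPolynomial.X 0) P := by rw [k0]; ring
  have e1 : (1 + MvPolynomial.C w * MvPolynomial.X 1 : MvPolynomial (Fin 2) (A₀ p)) ^ p =
      1 + MvPolynomial.C (w ^ p) * aeval (MvPolynomial.X 1) P := by rw [k1]; ring
  rw [e0, e1]
  ring

end universal

end Groth.Agent.Lib.Helper26.KummerAS
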