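import Mathlib
import Groth.Agent.Lib.Helper26.KummerAS

set_option maxHeartbeats 400000

namespace Groth.Agent.Lib.Helper26.KummerAS2

open Polynomial Groth.Agent.Lib.Helper26.KummerAS

universe u

section claim2

variable {A : Type u} [CommRing A]

lemma a_mem {p : ℕ} (hp : p.Prime) (ζ : A)
    (rel : ((p : ℕ) : A) = (1 - ζ) ^ (p - 1) * eps p ζ) (i : ℕ) :
    bb p (1 - ζ) (eps p ζ) i + (if i = 1 then 1 else 0) ∈ Ideal.span {1 - ζ} := by
  rcases Nat.lt_or_ge i 2 with hlt | hge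
  · interval_cases i
    · simp only [bb, cc_zero hp]
      simp
    · simp only [bb, cc_one hp]
      simp only [Nat.sub_self, pow_zero, one_mul, Nat.cast_one, mul_one, if_true]
      exact eps_add_one_mem hp ζ rel
  · rw [if_neg (by omega), add_zero]
    unfold bb
    have h0 : (1 - ζ) ∈ Ideal.span {1 - ζ} := Ideal.subset_span (Set.mem_singleton _)
    have h1 : (1 - ζ) ^ (i - 1) ∈ Ideal.span {1 - ζ} :=
      Ideal.pow_mem_of_mem _ h0 (i - 1) (by omega)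
    exact Ideal.mul_mem_right _ _ (Ideal.mul_mem_right _ _ h1)

lemma P_form {p : ℕ} (hp : p.Prime) (w ε : A) :
    PP p w ε = X ^ p - X +
      (Finset.Ioo 0 p).sum (fun i => C (bb p w ε i + (if i = 1 then 1 else 0)) * X ^ i) := by
  have hp2 := hp.two_le
  simp only [map_add, add_mul, Finset.sum_add_distrib]
  have h1 : ∑ i ∈ Finset.Ioo 0 p, C (if i = 1 then (1 : A) else 0) * X ^ i = X := by
    rw [Finset.sum_eq_single 1]
    · simp
    · intro i _ hi; rw [if_neg hi]; simp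
    · intro h; exact absurd (Finset.mem_Ioo.mpr ⟨by omega, by omega⟩) h
  rw [h1]
  unfold PP
  ring

end claim2

section claim3

variable {A : Type u} [CommRing A] (p : ℕ) [hp : Fact p.Prime] (φ : A₀ p →+* A)

lemma add_law (S : Type u) [CommRing S] [Algebra A S] (z₁ z₂ : S) :
    aeval (z₁ + z₂ + algebraMap A S (φ (1 - ζ₀ p)) * z₁ * z₂)
        ((PP p (1 - ζ₀ p) (eps p (ζ₀ p))).map φ) =
      aeval z₁ ((PP p (1 - ζ₀ p) (eps p (ζ₀ p))).map φ) +
      aeval z₂ ((PP p (1 - ζ₀ p) (eps p (ζ₀ p))).map φ) +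
      algebraMap A S (φ (1 - ζ₀ p) ^ p) * aeval z₁ ((PP p (1 - ζ₀ p) (eps p (ζ₀ p))).map φ) *
        aeval z₂ ((PP p (1 - ζ₀ p) (eps p (ζ₀ p))).map φ) := by
  let Ψ : MvPolynomial (Fin 2) (A₀ p) →+* S :=
    MvPolynomial.eval₂Hom ((algebraMap A S).comp φ) ![z₁, z₂]
  have hΨC : ∀ a, Ψ (MvPolynomial.C a) = algebraMap A S (φ a) := fun a => by
    simp [Ψ]
  have hΨ0 : Ψ (MvPolynomial.X 0) = z₁ := by simp [Ψ]
  have hΨ1 : Ψ (MvPolynomial.X 1) = z₂ := by simp [Ψ]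
  have hcomp : Ψ.comp (algebraMap (A₀ p) (MvPolynomial (Fin 2) (A₀ p))) =
      (algebraMap A S).comp φ := by
    refine RingHom.ext fun a => ?_
    rw [RingHom.comp_apply, MvPolynomial.algebraMap_eq, hΨC]
    rfl
  have hΨaeval : ∀ Y : MvPolynomial (Fin 2) (A₀ p),
      Ψ (aeval Y (PP p (1 - ζ₀ p) (eps p (ζ₀ p)))) =
        aeval (Ψ Y) ((PP p (1 - ζ₀ p) (eps p (ζ₀ p))).map φ) := by
    intro Y
    rw [aeval_def, Polynomial.hom_eval₂, hcomp, aeval_def, Polynomial.eval₂_map]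
  have := congrArg Ψ (add_law₀ p)
  simp only [map_add, map_mul, hΨaeval, hΨC, hΨ0, hΨ1] at this
  rw [map_pow] at this
  exact this

end claim3

theorem main (p : ℕ) (hp : p.Prime) (A : Type u) [CommRing A] (ζ : A)
    (hζ : aeval ζ (cyclotomic p ℤ) = 0) :
    ∃ P : A[X], C ((1 - ζ) ^ p) * P = (1 + C (1 - ζ) * X) ^ p - 1 ∧
      (∃ a : ℕ → A, (∀ i, a i ∈ Ideal.span {1 - ζ}) ∧
        P = X ^ p - X + (Finset.Ioo 0 p).sum (fun i => C (a i) * X ^ i)) ∧
      ∀ (S : Type u) [CommRing S] [Algebra A S] (z₁ z₂ : S),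
        aeval (z₁ + z₂ + algebraMap A S (1 - ζ) * z₁ * z₂) P =
          aeval z₁ P + aeval z₂ P + algebraMap A S ((1 - ζ) ^ p) * aeval z₁ P * aeval z₂ P := by
  have : Fact p.Prime := ⟨hp⟩
  let φ : A₀ p →+* A := AdjoinRoot.lift (Int.castRingHom A) ζ (by
    rwa [← algebraMap_int_eq, ← aeval_def])
  have hφζ : φ (ζ₀ p) = ζ := AdjoinRoot.lift_root _
  have hφw : φ (1 - ζ₀ p) = 1 - ζ := by rw [map_sub, map_one, hφζ]
  have rel : ((p : ℕ) : A) = (1 - ζ) ^ (p - 1) * eps p ζ := by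
    have := congrArg φ (rel₀ p)
    rwa [map_natCast, map_mul, map_pow, hφw, map_eps, hφζ] at this
  have hPmap : (PP p (1 - ζ₀ p) (eps p (ζ₀ p))).map φ = PP p (1 - ζ) (eps p ζ) := by
    rw [map_PP, hφw, map_eps, hφζ]
  refine ⟨PP p (1 - ζ) (eps p ζ), L1 hp _ _ rel, ?_, ?_⟩
  · exact ⟨fun i => bb p (1 - ζ) (eps p ζ) i + (if i = 1 then 1 else 0),
      fun i => a_mem hp ζ rel i, P_form hp _ _⟩
  · intro S _ _ z₁ z₂
    have := add_law p φ S z₁ z₂
    rw [hPmap, hφw] at this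
    exact this

end Groth.Agent.Lib.Helper26.KummerAS2
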