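import Mathlib

set_option maxHeartbeats 400000
set_option linter.style.haveILetI false
set_option linter.unusedSectionVars false
set_option linter.unusedVariables false

open CategoryTheory CategoryTheory.Limits

namespace Groth.Agent.Lib.Helper26.LC20

universe v₁ v₂ u₁ u₂

variable {C : Type u₁} [Category.{v₁} C] {D : Type u₂} [Category.{v₂} D]
  (PC : ObjectProperty C) (PD : ObjectProperty D)
  {QC : C ⥤ PC.FullSubcategory} {QD : D ⥤ PD.FullSubcategory}
  (adjC : PC.ι ⊣ QC) (adjD : PD.ι ⊣ QD)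
  {L : D ⥤ C} {R : C ⥤ D} (adj : L ⊣ R)

include adjC in
lemma bijective_comp_counit (B : PC.FullSubcategory) (K : C) :
    Function.Bijective (fun θ : PC.ι.obj B ⟶ PC.ι.obj (QC.obj K) => θ ≫ adjC.counit.app K) := by
  have h : (fun θ : PC.ι.obj B ⟶ PC.ι.obj (QC.obj K) => θ ≫ adjC.counit.app K) =
      (adjC.homEquiv B K).symm ∘ (PC.fullyFaithfulι.homEquiv (X := B) (Y := QC.obj K)).symm := by
    funext θ
    simp only [Function.comp_apply, Adjunction.homEquiv_counit]
    congr 1
  rw [h]
  exact (adjC.homEquiv B K).symm.bijective.comp (Equiv.bijective _)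

include adjC adjD adj in
theorem isIso_comparison (hR : ∀ K, PC K → PD (R.obj K)) (hL : ∀ A, PD A → PC (L.obj A)) (K : C) :
    IsIso (adjD.homEquiv (⟨R.obj (PC.ι.obj (QC.obj K)), hR _ (QC.obj K).property⟩ : PD.FullSubcategory)
      (R.obj K) (R.map (adjC.counit.app K))) := by
  rw [isIso_iff_yoneda_map_bijective]
  intro A
  let B : PC.FullSubcategory := ⟨L.obj A.obj, hL _ A.property⟩
  let T : PD.FullSubcategory := ⟨R.obj (PC.ι.obj (QC.obj K)), hR _ (QC.obj K).property⟩
  have h : (fun φ : A ⟶ T => φ ≫ adjD.homEquiv T (R.obj K) (R.map (adjC.counit.app K))) =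
      (adjD.homEquiv A (R.obj K)) ∘ (adj.homEquiv A.obj K) ∘
        (fun θ : PC.ι.obj B ⟶ PC.ι.obj (QC.obj K) => θ ≫ adjC.counit.app K) ∘
        (adj.homEquiv A.obj (PC.ι.obj (QC.obj K))).symm ∘
        (PD.fullyFaithfulι.homEquiv (X := A) (Y := T)) := by
    funext φ
    simp only [Function.comp_apply]
    rw [← Adjunction.homEquiv_naturality_left]
    congr 1
    rw [Adjunction.homEquiv_naturality_right, Equiv.apply_symm_apply]
    rfl
  rw [h]
  exact (adjD.homEquiv A (R.obj K)).bijective.comp ((adj.homEquiv A.obj K).bijective.comp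
    ((bijective_comp_counit PC adjC B K).comp
      ((adj.homEquiv A.obj (PC.ι.obj (QC.obj K))).symm.bijective.comp (Equiv.bijective _))))

end Groth.Agent.Lib.Helper26.LC20
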