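import Mathlib
import Groth.Agent.Lib.Helper26.LC18
import Groth.Agent.Lib.Helper16.DerTrunc2
import Groth.Agent.Lib.Helper2.RpushQC4

set_option maxHeartbeats 400000
set_option linter.style.haveILetI false
set_option linter.unusedSectionVars false
set_option linter.unusedVariables false

universe u

open CategoryTheory CategoryTheory.Limits AlgebraicGeometry Opposite ZeroObject TopologicalSpace

namespace Groth.Agent.Lib.Helper26.LC21

open Groth.Agent.Lib.Helper26 Groth.Agent.Lib.Helper26.LC5 Groth.Agent.Lib.Helper26.MVMod4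

attribute [local instance] HasDerivedCategory.standard

variable {X Y : Scheme.{u}}

/-- `Rf_*` commutes with shifts (objectwise) -/
lemma nonempty_rpush_shift_iso (f : X ⟶ Y) [DCoh.HasRpush f] (E : DCoh.D X) (b : ℤ) :
    Nonempty ((DCoh.Rpush f).obj (E⟦b⟧) ≅ ((DCoh.Rpush f).obj E)⟦b⟧) := by
  obtain ⟨I, hI1, -, ⟨e⟩⟩ := exists_kinj E
  haveI := hI1
  let F := Scheme.Modules.pushforward f
  exact ⟨(DCoh.Rpush f).mapIso ((CategoryTheory.shiftFunctor (DCoh.D X) b).mapIso e.symm ≪≫
      (((DerivedCategory.Q (C := X.Modules)).commShiftIso b).app I).symm) ≪≫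
    (unitIso F (I⟦b⟧)).symm ≪≫
    DerivedCategory.Q.mapIso ((F.mapCochainComplexShiftIso b).app I) ≪≫
    ((DerivedCategory.Q (C := Y.Modules)).commShiftIso b).app _ ≪≫
    (CategoryTheory.shiftFunctor (DCoh.D Y) b).mapIso (unitIso F I ≪≫ (DCoh.Rpush f).mapIso e)⟩

/-- the uniform bound, for all cut-offs -/
theorem exists_bound (f : X ⟶ Y) [QuasiCompact f] [QuasiSeparated f] [CompactSpace Y]
    [DCoh.HasRpush f] :
    ∃ N₀ : ℤ, ∀ (E : DCoh.D X), DCoh.IsQCohD E → ∀ b : ℤ, E.IsLE b → ∀ m : ℤ, N₀ + b ≤ m →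
      IsZero (DCoh.HD ((DCoh.Rpush f).obj E) m) := by
  obtain ⟨N₀, hN₀⟩ := LC18.main f
  refine ⟨N₀, fun E hE b hb m hm => ?_⟩
  haveI := hb
  have h1 : (E⟦b⟧).IsLE 0 := DerivedCategory.TStructure.t.isLE_shift E b b 0 (by simp)
  have h2 := hN₀ (E⟦b⟧) (LC11.isQCohD_shift E hE b) h1 (m - b) (by omega)
  obtain ⟨e⟩ := nonempty_rpush_shift_iso f E b
  exact IsZero.of_iso h2 ((((DerivedCategory.homologyFunctor Y.Modules 0).shiftIso b (m - b) m
    (by omega)).app _).symm ≪≫ (DerivedCategory.homologyFunctor Y.Modules (m - b)).mapIso e.symm)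

/-- truncations of objects of `D_QCoh` are in `D_QCoh` -/
lemma isQCohD_truncLT (E : DCoh.D X) (hE : DCoh.IsQCohD E) (c : ℤ) :
    DCoh.IsQCohD (((DerivedCategory.TStructure.t (C := X.Modules)).truncLT c).obj E) := by
  intro j
  by_cases hj : j < c
  · haveI := Groth.Agent.Lib.Helper16.DerT.isIso_homologyMap_truncLTι E c j hj
    exact isQCoh_of_iso (asIso ((DerivedCategory.homologyFunctor X.Modules j).map
      (((DerivedCategory.TStructure.t (C := X.Modules)).truncLTι c).app E))).symm (hE j)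
  · haveI : (((DerivedCategory.TStructure.t (C := X.Modules)).truncLT c).obj E).IsLE (c - 1) :=
      inferInstance
    have hz : IsZero ((DerivedCategory.homologyFunctor X.Modules j).obj
        (((DerivedCategory.TStructure.t (C := X.Modules)).truncLT c).obj E)) :=
      DerivedCategory.isZero_of_isLE _ (c - 1) j (by omega)
    exact Groth.Agent.Lib.Helper2.RpushQC4.isQuasicoherent_of_isZero _ hz

/-- **the right adjoint of `Rf_*` on `D_QCoh` is bounded below** -/
theorem main (X Y : Scheme.{u}) [CompactSpace X] [QuasiSeparatedSpace X] [CompactSpace Y]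
    [QuasiSeparatedSpace Y] (f : X ⟶ Y) [DCoh.HasRpush f]
    (h : ∀ K : DCoh.D X, DCoh.IsQCohD K → DCoh.IsQCohD ((DCoh.Rpush f).obj K))
    (a : DCoh.DQCoh Y ⥤ DCoh.DQCoh X)
    (adj : (ObjectProperty.lift DCoh.IsQCohD (ObjectProperty.ι DCoh.IsQCohD ⋙ DCoh.Rpush f)
      (fun K => h K.obj K.property)) ⊣ a) :
    ∃ N : ℕ, ∀ (K : DCoh.DQCoh Y) (c : ℤ), (∀ i : ℤ, i ≤ c → IsZero (DCoh.HD K.obj i)) →
      ∀ i : ℤ, i ≤ c - N → IsZero (DCoh.HD (a.obj K).obj i) := by
  obtain ⟨N₀, hN₀⟩ := exists_bound f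
  refine ⟨N₀.toNat, fun K c hK i hi => ?_⟩
  have hNN : N₀ ≤ (N₀.toNat : ℤ) := Int.self_le_toNat N₀
  let t := DerivedCategory.TStructure.t (C := X.Modules)
  let A : DCoh.D X := (a.obj K).obj
  have hA : DCoh.IsQCohD A := (a.obj K).property
  let b : ℤ := c - N₀.toNat
  -- the truncation `τ_{≤ b} A`
  let T : DCoh.D X := (t.truncLT (b + 1)).obj A
  have hT : DCoh.IsQCohD T := isQCohD_truncLT A hA (b + 1)
  haveI hTle : T.IsLE b := t.isLE_truncLT_obj A (b + 1) b (by omega)
  -- `Rf_* T` is `≤ c`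
  have hRT : ((DCoh.Rpush f).obj T).IsLE c := by
    rw [DerivedCategory.isLE_iff]
    intro m hm
    exact hN₀ T hT b hTle m (by omega)
  -- `K` is `≥ c + 1`
  have hKge : K.obj.IsGE (c + 1) := by
    rw [DerivedCategory.isGE_iff]
    intro m hm
    exact hK m (by omega)
  -- the truncation map vanishes
  let T' : DCoh.DQCoh X := ⟨T, hT⟩
  let ιT : T' ⟶ a.obj K := ObjectProperty.homMk ((t.truncLTι (b + 1)).app A)
  have hall : ∀ g g' : (ObjectProperty.lift DCoh.IsQCohD
      (ObjectProperty.ι DCoh.IsQCohD ⋙ DCoh.Rpush f)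
      (fun K => h K.obj K.property)).obj T' ⟶ K, g = g' := by
    intro g g'
    apply (ObjectProperty.ι _).map_injective
    exact ((DerivedCategory.TStructure.t (C := Y.Modules)).zero_of_isLE_of_isGE _ c (c + 1)
      (by omega) hRT hKge).trans
      ((DerivedCategory.TStructure.t (C := Y.Modules)).zero_of_isLE_of_isGE _ c (c + 1)
      (by omega) hRT hKge).symm
  have hz : ιT = 0 := (adj.homEquiv T' K).symm.injective (hall _ _)
  have hz' : (t.truncLTι (b + 1)).app A = 0 := by
    have := congrArg (fun φ => (ObjectProperty.ι _).map φ) hz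
    exact this
  haveI := Groth.Agent.Lib.Helper16.DerT.isIso_homologyMap_truncLTι A (b + 1) i (by omega)
  have hzero : (DerivedCategory.homologyFunctor X.Modules i).map ((t.truncLTι (b + 1)).app A) = 0 := by
    rw [hz', Functor.map_zero]
  exact IsZero.of_epi_eq_zero _ hzero

end Groth.Agent.Lib.Helper26.LC21
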