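import Mathlib
import Groth.Agent.Lib.Helper6.DevLift
import Groth.Agent.Lib.Helper26.LC1

set_option maxHeartbeats 400000
set_option linter.style.haveILetI false
set_option linter.unusedSectionVars false
set_option linter.unusedVariables false
set_option backward.isDefEq.respectTransparency.types false

universe u

open CategoryTheory CategoryTheory.Limits AlgebraicGeometry Opposite TopologicalSpace

namespace Groth.Agent.Lib.Helper26.LC23

open Groth.Agent.Lib.Helper26.LC1 Groth.Agent.Lib.Helper6.DevLift Groth.Agent.Lib.Helper6.DevRoots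
  Groth.Agent.Lib.Helper17.StalkExact Groth.Agent.Lib.Helper6.DevStep

variable {X : Scheme.{u}}

/-- off `V(K)`, the inclusion `K · H ⟶ H` is an isomorphism -/
theorem isIso_restrict_idealMulι' (K : X.IdealSheafData) (U : X.Opens)
    (hU : ∀ x ∈ (U : Set X), x ∉ (K.support : Set X)) (H : X.Modules) :
    IsIso ((Scheme.Modules.restrictFunctor U.ι).map (Dual3.idealMulι K H)) := by
  rw [Groth.Agent.S17647.isIso_restrict_iff_support]
  have hb : ∀ x ∈ (U : Set X), Function.Bijective (stalkHom (Dual3.idealMulι K H) x) :=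
    fun x hx => stalkHom_idealMulι_bijective K H x (hU x hx)
  constructor
  · intro x hx hxU
    exact notMem_support_kernel _ x (fun h hh => (hb x hxU).1 (hh.trans (map_zero _).symm)) hx
  · intro x hx hxU
    exact notMem_support_cokernel _ x (hb x hxU).2 hx

/-- a section over `U` of an injective object of `QCoh(O_X)` (`X` Noetherian) extends to `X` -/
theorem exists_global_extension [IsNoetherian X]
    (J : ObjectProperty.FullSubcategory (fun M : X.Modules => Coh.IsQCoh M)) (hJ : Injective J)
    (U : X.Opens) (s : Γ(J.obj, U)) :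
    ∃ t : Γ(J.obj, ⊤), res J.obj (le_top : U ≤ ⊤) t = s := by
  classical
  let Z : Closeds X := ⟨(U : Set X)ᶜ, U.isOpen.isClosed_compl⟩
  let I : X.IdealSheafData := Scheme.IdealSheafData.vanishingIdeal Z
  have hIs : (I.support : Set X) = (U : Set X)ᶜ := Scheme.IdealSheafData.coe_support_vanishingIdeal Z
  have hU : (U : Set X) = (I.support : Set X)ᶜ := by rw [hIs, compl_compl]
  let OX := Coh.structureModule X
  have hOX : Coh.IsCoh OX := Groth.Agent.Lib.Helper6.DevRed.isCoh_structureModule
  let s' := (toU U J.obj).symm s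
  let g' : Coh.structureModule (U : Scheme.{u}) ⟶ (Scheme.Modules.restrictFunctor U.ι).obj J.obj :=
    (secTop _).symm s'
  let φ : (Scheme.Modules.restrictFunctor U.ι).obj OX ⟶
      (Scheme.Modules.restrictFunctor U.ι).obj J.obj :=
    (Scheme.Modules.restrictUnitIso U.ι).hom ≫ g'
  obtain ⟨n, ψ, hψ⟩ := exists_hom_restrict_compl J.obj OX J.property hOX I U hU φ
  haveI : OX.IsQuasicoherent := hOX.1
  let A : ObjectProperty.FullSubcategory (fun M : X.Modules => Coh.IsQCoh M) :=
    ⟨(Dual3.idealMul (I ^ n)).obj OX, Groth.Agent.Lib.Helper6.IdealMul.isQuasicoherent_idealMul _ _⟩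
  let B : ObjectProperty.FullSubcategory (fun M : X.Modules => Coh.IsQCoh M) := ⟨OX, hOX.1⟩
  let i : A ⟶ B := ObjectProperty.homMk (Dual3.idealMulι (I ^ n) OX)
  haveI : Mono i := by
    apply (ObjectProperty.ι (fun M : X.Modules => Coh.IsQCoh M)).mono_of_mono_map
    change Mono (Dual3.idealMulι (I ^ n) OX)
    infer_instance
  let ψ₀ : A ⟶ J := ObjectProperty.homMk ψ
  let ψ' : B ⟶ J := Injective.factorThru ψ₀ i
  have hψ' : i ≫ ψ' = ψ₀ := Injective.comp_factorThru ψ₀ i
  have h1 : Dual3.idealMulι (I ^ n) OX ≫ ψ'.hom = ψ := congrArg (fun f => f.hom) hψ'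
  have hoff : ∀ x ∈ (U : Set X), x ∉ ((I ^ n).support : Set X) := by
    intro x hx hx'
    rcases n with _ | k
    · have h0 : ((I ^ 0).support : Set X) = ∅ := rfl
      rw [h0] at hx'
      exact hx'
    · rw [Scheme.IdealSheafData.support_pow_succ, hIs] at hx'
      exact hx' hx
  haveI := isIso_restrict_idealMulι' (I ^ n) U hoff OX
  have h2 : (Scheme.Modules.restrictFunctor U.ι).map ψ'.hom = φ := by
    rw [← cancel_epi ((Scheme.Modules.restrictFunctor U.ι).map (Dual3.idealMulι (I ^ n) OX)),
      ← Functor.map_comp, h1, hψ]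
  refine ⟨secTop J.obj ψ'.hom, ?_⟩
  have hg' : g' = (Scheme.Modules.restrictUnitIso U.ι).inv ≫
      (Scheme.Modules.restrictFunctor U.ι).map ψ'.hom := by
    rw [h2, Iso.inv_hom_id_assoc]
  have hs : s = toU U J.obj (secTop _ g') := by
    rw [Equiv.apply_symm_apply, Equiv.apply_symm_apply]
  rw [hs, hg', secTop_comp, toU_nat]
  have key : toU U OX (secTop _ (Scheme.Modules.restrictUnitIso U.ι).inv) =
      res OX (le_top : U ≤ ⊤) (secTop OX (𝟙 OX)) := by
    have e2 : res OX (le_top : U ≤ ⊤) (secTop OX (𝟙 OX)) = (1 : Γ(X, U)) :=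
      map_one (X.presheaf.map (homOfLE (le_top : U ≤ ⊤)).op).hom
    rw [e2]
    have e3 : secTop _ (Scheme.Modules.restrictUnitIso U.ι).inv =
        ((U.ι.appIso ⊤).inv.hom (1 : Γ((U : Scheme.{u}), ⊤)) : Γ(X, U.ι ''ᵁ ⊤)) := rfl
    rw [e3, map_one]
    exact map_one (X.presheaf.map (homOfLE (im_eq U).ge).op).hom
  change _ = ψ'.hom.app U (toU U OX (secTop _ (Scheme.Modules.restrictUnitIso U.ι).inv))
  rw [key, app_res, ← secTop_comp, Category.id_comp]

/-- **injective objects of `QCoh(O_X)` are flasque, `X` Noetherian** -/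
theorem main (X : Scheme.{u}) [IsNoetherian X]
    (J : ObjectProperty.FullSubcategory (fun M : X.Modules => Coh.IsQCoh M)) (hJ : Injective J)
    (U V : X.Opens) (hUV : U ≤ V) :
    Function.Surjective (J.obj.val.map (homOfLE hUV).op).hom := by
  intro s
  obtain ⟨t, ht⟩ := exists_global_extension J hJ U s
  refine ⟨res J.obj (le_top : V ≤ ⊤) t, ?_⟩
  have h1 : res J.obj hUV (res J.obj (le_top : V ≤ ⊤) t) = s := by
    rw [res_res]
    exact ht
  exact h1

end Groth.Agent.Lib.Helper26.LC23
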