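import Mathlib
import Groth.Agent.Lib.Helper1.LocPC3
import Groth.Agent.Lib.Helper1.LocFree8
import Groth.Agent.Lib.Helper29.FreeIso4
import Groth.Agent.Lib.Helper26.LC21

set_option maxHeartbeats 400000
set_option linter.style.haveILetI false
set_option linter.unusedSectionVars false
set_option linter.unusedVariables false

universe u

open CategoryTheory CategoryTheory.Limits AlgebraicGeometry Opposite TopologicalSpace
  CategoryTheory.Pretriangulated

namespace Groth.Agent.Lib.Helper26.LC24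

attribute [local instance] HasDerivedCategory.standard

open Groth.Agent.Lib.Helper26 Groth.Agent.Lib.Helper1.LocPC Groth.Agent.Lib.Helper16.RS
  Groth.Agent.Lib.Helper16.PC

variable {X Y : Scheme.{u}}

/-- cohomology of the restriction of an object of `D(O_X)` to an open -/
lemma nonempty_HD_RD_iso (F : DCoh.D X) (V : X.Opens) (i : ℤ) :
    Nonempty (DCoh.HD ((RD V.ι).obj F) i ≅ (DCoh.HD F i).restrict V.ι) := by
  obtain ⟨F₀, ⟨e⟩⟩ := exists_rep F
  refine ⟨(DerivedCategory.homologyFunctor _ i).mapIso ((RD V.ι).mapIso e.symm ≪≫ RDQIso V.ι F₀) ≪≫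
    (DerivedCategory.homologyFunctorFactors _ i).app _ ≪≫
    Groth.Agent.Lib.Helper26.SuppD2.homologyMapIso (Scheme.Modules.restrictFunctor V.ι) F₀ i ≪≫
    (Scheme.Modules.restrictFunctor V.ι).mapIso
      (((DerivedCategory.homologyFunctorFactors _ i).app F₀).symm ≪≫
        (DerivedCategory.homologyFunctor _ i).mapIso e)⟩

/-- strictly perfect complexes have quasi-coherent cohomology -/
lemma isQCohD_of_isStrictlyPerfect (E : CochainComplex X.Modules ℤ) (hE : DCoh.IsStrictlyPerfect E) :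
    DCoh.IsQCohD (DerivedCategory.Q.obj E) := by
  apply LC8.isQCohD_Q
  intro n
  exact Groth.Agent.Lib.Helper29.FreeIso.isQuasicoherent_of_isFinLocFree _ (hE.2 n)

/-- **pseudo-coherent objects have quasi-coherent cohomology sheaves** -/
theorem isQCohD_of_isPseudoCoherentD (F : DCoh.D X) (hF : ∀ m : ℤ, DCoh.IsPseudoCoherentD m F) :
    DCoh.IsQCohD F := by
  intro i
  apply Groth.Agent.Lib.Helper1.LocFree.isQuasicoherent_of_locally
  intro x
  obtain ⟨V, hxV, E, α, hE, hα⟩ := (isPseudoCoherentD_iff (i - 1) F).1 (hF (i - 1)) x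
  refine ⟨V, hxV, ?_⟩
  haveI := hα.1 i (by omega)
  obtain ⟨e⟩ := nonempty_HD_RD_iso F V i
  exact LC5.isQCoh_of_iso (asIso ((DerivedCategory.homologyFunctor _ i).map α) ≪≫ e)
    (isQCohD_of_isStrictlyPerfect E hE i)

/-- on a quasi-compact scheme, pseudo-coherent objects are bounded above -/
theorem exists_isLE_of_isPseudoCoherentD [CompactSpace X] (F : DCoh.D X) (m : ℤ)
    (hF : DCoh.IsPseudoCoherentD m F) : ∃ b : ℤ, F.IsLE b := by
  have h := (isPseudoCoherentD_iff m F).1 hF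
  choose V hxV E α hE hα using h
  have hb : ∀ x, ∃ b : ℤ, ((RD (V x).ι).obj F).IsLE b := fun x => by
    obtain ⟨⟨a, b, hab⟩, -⟩ := hE x
    exact ⟨max b m, isLE_of_good (α x) (hα x) (fun i hi => hab i (Or.inr hi))⟩
  choose b hb using hb
  obtain ⟨t, ht⟩ := CompactSpace.elim_nhds_subcover (fun x => ((V x : X.Opens) : Set X))
    (fun x => (V x).isOpen.mem_nhds (hxV x))
  refine ⟨t.sum (fun x => |b x|), ?_⟩
  rw [DerivedCategory.isLE_iff]
  intro i hi
  apply LC18.isZero_of_locally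
  intro y
  have hy : y ∈ ⋃ x ∈ t, ((V x : X.Opens) : Set X) := by rw [ht]; trivial
  obtain ⟨x, hxt, hyx⟩ := Set.mem_iUnion₂.1 hy
  refine ⟨V x, hyx, ?_⟩
  have hbx : b x < i := by
    have h1 : |b x| ≤ t.sum (fun x => |b x|) :=
      Finset.single_le_sum (f := fun x => |b x|) (fun z _ => abs_nonneg _) hxt
    have h2 := le_abs_self (b x)
    omega
  obtain ⟨e⟩ := nonempty_HD_RD_iso F (V x) i
  haveI := hb x
  exact IsZero.of_iso ((DerivedCategory.isLE_iff _ _).1 (hb x) i hbx) e.symm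

open Groth.Agent.Lib.Helper26.MVMod4 in
/-- `Rf_*` sends distinguished triangles to distinguished triangles, up to isomorphism of the
vertices -/
theorem exists_triangle_Rpush (f : X ⟶ Y) [DCoh.HasRpush f] (T : Triangle (DCoh.D X))
    (hT : T ∈ distTriang (DCoh.D X)) :
    ∃ T' : Triangle (DCoh.D Y), T' ∈ distTriang (DCoh.D Y) ∧
      Nonempty (T'.obj₁ ≅ (DCoh.Rpush f).obj T.obj₁) ∧
      Nonempty (T'.obj₂ ≅ (DCoh.Rpush f).obj T.obj₂) ∧
      Nonempty (T'.obj₃ ≅ (DCoh.Rpush f).obj T.obj₃) := by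
  obtain ⟨I, hI, -, ⟨eE⟩⟩ := exists_kinj T.obj₁
  obtain ⟨J, hJ, -, ⟨eF⟩⟩ := exists_kinj T.obj₂
  let q := HomotopyCategory.quotient X.Modules (ComplexShape.up ℤ)
  obtain ⟨g', hg'⟩ := (CochainComplex.IsKInjective.Qh_map_bijective (q.obj I) J).surjective
    (eE.hom ≫ T.mor₁ ≫ eF.inv)
  obtain ⟨a, rfl⟩ := q.map_surjective g'
  have ha : DerivedCategory.Q.map a = eE.hom ≫ T.mor₁ ≫ eF.inv := hg'
  let M := CochainComplex.mappingCone a
  haveI : M.IsKInjective := LC14.isKInjective_mappingCone a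
  have hT₁ : (DerivedCategory.Qh.mapTriangle.obj (CochainComplex.mappingCone.triangleh a)) ∈
      distTriang (DCoh.D X) :=
    DerivedCategory.Qh.map_distinguished _ (HomotopyCategory.mappingCone_triangleh_distinguished a)
  have comm : (DerivedCategory.Qh.mapTriangle.obj (CochainComplex.mappingCone.triangleh a)).mor₁ ≫
      eF.hom = eE.hom ≫ T.mor₁ := by
    change DerivedCategory.Q.map a ≫ eF.hom = _
    rw [ha, Category.assoc, Category.assoc, Iso.inv_hom_id, Category.comp_id]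
  let eT := isoTriangleOfIso₁₂ _ _ hT₁ hT eE eF comm
  let e₃ : DerivedCategory.Q.obj M ≅ T.obj₃ := Triangle.π₃.mapIso eT
  let Fp := (Scheme.Modules.pushforward f).mapHomologicalComplex (ComplexShape.up ℤ)
  refine ⟨DerivedCategory.Qh.mapTriangle.obj (CochainComplex.mappingCone.triangleh (Fp.map a)),
    DerivedCategory.Qh.map_distinguished _
      (HomotopyCategory.mappingCone_triangleh_distinguished (Fp.map a)), ?_, ?_, ?_⟩
  · exact ⟨unitIso (Scheme.Modules.pushforward f) I ≪≫ (DCoh.Rpush f).mapIso eE⟩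
  · exact ⟨unitIso (Scheme.Modules.pushforward f) J ≪≫ (DCoh.Rpush f).mapIso eF⟩
  · exact ⟨DerivedCategory.Q.mapIso
      (CochainComplex.mappingCone.mapHomologicalComplexIso a (Scheme.Modules.pushforward f)).symm ≪≫
      unitIso (Scheme.Modules.pushforward f) M ≪≫ (DCoh.Rpush f).mapIso e₃⟩

/-- objects bounded above are pseudo-coherent in high degrees -/
lemma pcAt_of_isLE (K : DCoh.D X) (N : ℤ) (hK : K.IsLE N) (m : ℤ) (hm : N + 1 ≤ m) (x : X) :
    PCAt m K x :=
  ⟨⊤, trivial, (PCat.of_isLE _ N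
    (map_isLE (Scheme.Modules.restrictFunctor (⊤ : X.Opens).ι) K N hK)).of_le hm⟩

/-- **from bounded to unbounded pseudo-coherent complexes for `Rf_*`** -/
theorem main (f : X ⟶ Y) [QuasiCompact f] [QuasiSeparated f] [CompactSpace Y] [DCoh.HasRpush f]
    (k : ℤ)
    (hK : ∀ (F : DCoh.D X) (n a b : ℤ), F.IsGE a → F.IsLE b → DCoh.IsPseudoCoherentD n F →
      DCoh.IsPseudoCoherentD (n + k) ((DCoh.Rpush f).obj F))
    (F : DCoh.D X) (hF : ∀ m : ℤ, DCoh.IsPseudoCoherentD m F) (m : ℤ) :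
    DCoh.IsPseudoCoherentD m ((DCoh.Rpush f).obj F) := by
  haveI : CompactSpace X := QuasiCompact.compactSpace_of_compactSpace f
  have hQ := isQCohD_of_isPseudoCoherentD F hF
  obtain ⟨b, hb⟩ := exists_isLE_of_isPseudoCoherentD F 0 (hF 0)
  obtain ⟨N₀, hN₀⟩ := LC21.exists_bound f
  let t := DerivedCategory.TStructure.t (C := X.Modules)
  let a : ℤ := min (m - k + 1) (m - N₀ + 1)
  have ha1 : a ≤ m - k + 1 := min_le_left _ _
  have ha2 : a ≤ m - N₀ + 1 := min_le_right _ _
  let T := (t.triangleLTGE a).obj F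
  have hT : T ∈ distTriang (DCoh.D X) := t.triangleLTGE_distinguished a F
  let A : DCoh.D X := (t.truncLT a).obj F
  let B : DCoh.D X := (t.truncGE a).obj F
  have hAQ : DCoh.IsQCohD A := LC21.isQCohD_truncLT F hQ a
  haveI hAle : A.IsLE (a - 1) := t.isLE_truncLT_obj F a (a - 1) (by omega)
  haveI hBge : B.IsGE a := t.isGE_truncGE_obj F a a (le_refl a)
  haveI : t.IsLE F b := hb
  haveI hBle : B.IsLE b := (inferInstance : t.IsLE ((t.truncGE a).obj F) b)
  -- `B` is `(m - k)`-pseudo-coherent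
  have hBpc : DCoh.IsPseudoCoherentD (m - k) B := by
    rw [isPseudoCoherentD_iff]
    intro x
    exact (PCAt.two_of_three T hT (m - k) x).1
      (pcAt_of_isLE A (a - 1) hAle (m - k + 1) (by omega) x)
      ((isPseudoCoherentD_iff (m - k) F).1 (hF (m - k)) x)
  have hRB : DCoh.IsPseudoCoherentD m ((DCoh.Rpush f).obj B) := by
    have := hK B (m - k) a b hBge hBle hBpc
    rwa [sub_add_cancel] at this
  -- `Rf_* A` is bounded above by `m - 1`
  have hRA : ((DCoh.Rpush f).obj A).IsLE (m - 1) := by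
    rw [DerivedCategory.isLE_iff]
    intro i hi
    exact hN₀ A hAQ (a - 1) hAle i (by omega)
  obtain ⟨T', hT', ⟨e₁⟩, ⟨e₂⟩, ⟨e₃⟩⟩ := exists_triangle_Rpush f T hT
  rw [isPseudoCoherentD_iff]
  intro y
  have h1 : PCAt m T'.obj₁ y :=
    (pcAt_of_isLE _ (m - 1) hRA m (by omega) y).of_iso e₁.symm
  have h3 : PCAt m T'.obj₃ y :=
    (((isPseudoCoherentD_iff m _).1 hRB) y).of_iso e₃.symm
  exact ((PCAt.two_of_three T' hT' m y).2.1 h1 h3).of_iso e₂

end Groth.Agent.Lib.Helper26.LC24
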