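import Mathlib
import Groth.Prelude.Def_Koszul
import Groth.Agent.Lib.Helper8.DRing8

set_option maxHeartbeats 400000
set_option linter.style.haveILetI false
set_option linter.unusedSectionVars false
set_option linter.unusedVariables false

universe u

open CategoryTheory CategoryTheory.Limits CategoryTheory.Pretriangulated DerivedCategory

namespace Groth.Agent.Lib.Helper26.LC25

open Groth.Agent.Lib.Helper8.DRing4 Groth.Agent.Lib.Helper8.DRing8 Groth.Agent.Lib.Helper8.DTrunc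

attribute [local instance] HasDerivedCategory.standard

variable (A : Type u) [CommRing A]

/-- the derived category of `A`-modules -/
abbrev DA : Type (u + 1) := DerivedCategory (ModuleCat.{u} A)

/-- the Koszul complex as an object of `D(A)` -/
noncomputable abbrev Kq (l : List A) : DA A := DerivedCategory.Q.obj (Koszul.koszul A l)

variable {A}

/-! ### linear algebra in distinguished triangles -/

section Tri

variable (T : Triangle (DA A)) (hT : T ∈ distTriang (DA A)) (M : DA A)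

include hT in
lemma tors_of_triangle (f : A) (h₂ : ∀ φ : T.obj₂ ⟶ M, ∃ p : ℕ, f ^ p • φ = 0)
    (h₁ : ∀ ψ : T.obj₁⟦(1 : ℤ)⟧ ⟶ M, ∃ p : ℕ, f ^ p • ψ = 0) (φ : T.obj₃ ⟶ M) :
    ∃ p : ℕ, f ^ p • φ = 0 := by
  obtain ⟨p, hp⟩ := h₂ (T.mor₂ ≫ φ)
  obtain ⟨ψ, hψ⟩ := Triangle.yoneda_exact₃ T hT (f ^ p • φ) (by rw [Linear.comp_smul, hp])
  obtain ⟨q, hq⟩ := h₁ ψ
  refine ⟨q + p, ?_⟩
  rw [pow_add, mul_smul, hψ, ← Linear.comp_smul, hq, comp_zero]

include hT in
lemma zero_of_triangle (h₂ : ∀ φ : T.obj₂ ⟶ M, φ = 0)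
    (h₁ : ∀ ψ : T.obj₁⟦(1 : ℤ)⟧ ⟶ M, ψ = 0) (φ : T.obj₃ ⟶ M) : φ = 0 := by
  obtain ⟨ψ, hψ⟩ := Triangle.yoneda_exact₃ T hT φ (h₂ _)
  rw [hψ, h₁ ψ, comp_zero]

end Tri

lemma zero_of_smul_triangle {Y Z : DA A} (g : A) (v : Y ⟶ Z) (w : Z ⟶ Y⟦(1 : ℤ)⟧)
    (hT : Triangle.mk (g • 𝟙 Y) v w ∈ distTriang (DA A)) (M : DA A)
    (hZ : ∀ φ : Z ⟶ M, φ = 0) (htors : ∀ φ : Y ⟶ M, ∃ p : ℕ, g ^ p • φ = 0)
    (φ : Y ⟶ M) : φ = 0 := by
  have key : ∀ φ : Y ⟶ M, g • φ = 0 → φ = 0 := by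
    intro φ h
    obtain ⟨χ, hχ⟩ := Triangle.yoneda_exact₂ _ hT φ (by
      change (g • 𝟙 Y) ≫ φ = 0
      rw [Linear.smul_comp, Category.id_comp, h])
    have h0 : χ = 0 := hZ χ
    rw [hχ, h0]
    exact comp_zero
  have ind : ∀ (p : ℕ) (φ : Y ⟶ M), g ^ p • φ = 0 → φ = 0 := by
    intro p
    induction p with
    | zero => intro φ h; simpa using h
    | succ p ih =>
      intro φ h
      apply ih
      apply key
      rw [← mul_smul, ← pow_succ']
      exact h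
  obtain ⟨p, hp⟩ := htors φ
  exact ind p φ hp

/-- multiplication by `s` squares to zero on the cone -/
lemma sq_smul_id_eq_zero (T : Triangle (DA A)) (hT : T ∈ distTriang (DA A)) (s : A)
    (h₁ : (s • 𝟙 T.obj₂) ≫ T.mor₂ = 0) (h₂ : T.mor₃ ≫ (s • 𝟙 (T.obj₁⟦(1 : ℤ)⟧)) = 0) :
    (s ^ 2) • 𝟙 T.obj₃ = 0 := by
  obtain ⟨ψ, hψ⟩ := Triangle.yoneda_exact₃ T hT (s • 𝟙 T.obj₃) (by
    rw [Linear.comp_smul, Category.comp_id]
    rw [Linear.smul_comp, Category.id_comp] at h₁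
    exact h₁)
  rw [pow_two, mul_smul, hψ, ← Linear.comp_smul]
  have : s • ψ = (s • 𝟙 _) ≫ ψ := by rw [Linear.smul_comp, Category.id_comp]
  rw [this, ← Category.assoc, h₂, zero_comp]

/-! ### shifting maps -/

/-- the canonical isomorphism `(M⟦-1⟧)⟦1⟧ ≅ M` -/
noncomputable abbrev eM (M : DA A) : (M⟦(-1 : ℤ)⟧)⟦(1 : ℤ)⟧ ≅ M :=
  (shiftFunctorCompIsoId (DA A) (-1 : ℤ) 1 (by norm_num)).app M

lemma exists_shift_one (P M : DA A) (ψ : P⟦(1 : ℤ)⟧ ⟶ M) :
    ∃ ψ' : P ⟶ M⟦(-1 : ℤ)⟧, ψ = ψ'⟦(1 : ℤ)⟧' ≫ (eM M).hom := by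
  obtain ⟨ψ', hψ'⟩ := (shiftFunctor (DA A) (1 : ℤ)).map_surjective (ψ ≫ (eM M).inv)
  exact ⟨ψ', by rw [hψ', Category.assoc, Iso.inv_hom_id, Category.comp_id]⟩

/-! ### the Koszul triangle -/

lemma koszul_triangle (g : A) (l : List A) :
    ∃ (v : Kq A l ⟶ Kq A (g :: l)) (w : Kq A (g :: l) ⟶ (Kq A l)⟦(1 : ℤ)⟧),
      Triangle.mk (g • 𝟙 (Kq A l)) v w ∈ distTriang (DA A) := by
  have h := DerivedCategory.mappingCone_triangle_distinguished (g • 𝟙 (Koszul.koszul A l))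
  have e : DerivedCategory.Q.map (g • 𝟙 (Koszul.koszul A l)) = g • 𝟙 (Kq A l) := by
    rw [Functor.map_smul, CategoryTheory.Functor.map_id]
  refine ⟨(DerivedCategory.Q.mapTriangle.obj
      (CochainComplex.mappingCone.triangle (g • 𝟙 (Koszul.koszul A l)))).mor₂,
    (DerivedCategory.Q.mapTriangle.obj
      (CochainComplex.mappingCone.triangle (g • 𝟙 (Koszul.koszul A l)))).mor₃, ?_⟩
  rw [← e]
  exact h

/-! ### linearity of the cohomology functors -/

/-- the cohomology functors on `D(A)` -/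
noncomputable abbrev HF (n : ℤ) : DA A ⥤ ModuleCat.{u} A :=
  DerivedCategory.homologyFunctor (ModuleCat.{u} A) n

/-- their factorization through `Q` -/
noncomputable abbrev HFF (n : ℤ) :
    (DerivedCategory.Q : CochainComplex (ModuleCat.{u} A) ℤ ⥤ DA A) ⋙ HF (A := A) n ≅
      HomologicalComplex.homologyFunctor (ModuleCat.{u} A) (ComplexShape.up ℤ) n :=
  DerivedCategory.homologyFunctorFactors (ModuleCat.{u} A) n

lemma homologyMap_smul_cx {K L : CochainComplex (ModuleCat.{u} A) ℤ} (a : A) (φ : K ⟶ L)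
    (n : ℤ) :
    HomologicalComplex.homologyMap (a • φ) n = a • HomologicalComplex.homologyMap φ n := by
  have h : (HomologicalComplex.shortComplexFunctor (ModuleCat.{u} A) (ComplexShape.up ℤ) n).map
      (a • φ) = a • (HomologicalComplex.shortComplexFunctor (ModuleCat.{u} A)
        (ComplexShape.up ℤ) n).map φ := by
    ext <;> rfl
  unfold HomologicalComplex.homologyMap
  rw [h, ShortComplex.homologyMap_smul]
  rfl

lemma HF_map_smul_id (X : DA A) (a : A) (n : ℤ) :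
    (HF n).map (a • 𝟙 X) = a • 𝟙 ((HF n).obj X) := by
  let K := DerivedCategory.Q.objPreimage X
  let e : DerivedCategory.Q.obj K ≅ X := DerivedCategory.Q.objObjPreimageIso X
  have h1 : a • 𝟙 X = e.inv ≫ DerivedCategory.Q.map (a • 𝟙 K) ≫ e.hom := by
    rw [Functor.map_smul, CategoryTheory.Functor.map_id, Linear.smul_comp, Linear.comp_smul,
      Category.id_comp, e.inv_hom_id]
  have h2 := NatIso.naturality_2 (HFF (A := A) n) (a • 𝟙 K)
  simp only [Functor.comp_map, HomologicalComplex.homologyFunctor_map] at h2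
  rw [homologyMap_smul_cx, HomologicalComplex.homologyMap_id] at h2
  have h3 : (HF n).map (DerivedCategory.Q.map (a • 𝟙 K)) =
      a • 𝟙 ((HF n).obj (DerivedCategory.Q.obj K)) := by
    rw [← h2]
    have h4 : ∀ {P Q' : ModuleCat.{u} A} (i : P ≅ Q'), i.hom ≫ (a • 𝟙 Q') ≫ i.inv = a • 𝟙 P := by
      intro P Q' i
      rw [Linear.smul_comp, Linear.comp_smul, Category.id_comp, i.hom_inv_id]
    exact h4 ((HFF (A := A) n).app K)
  rw [h1, Functor.map_comp, Functor.map_comp, h3, Linear.smul_comp, Linear.comp_smul,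
    Category.id_comp, ← Functor.map_comp, e.inv_hom_id, CategoryTheory.Functor.map_id]

lemma HF_map_smul {X Y : DA A} (a : A) (φ : X ⟶ Y) (n : ℤ) :
    (HF n).map (a • φ) = a • (HF n).map φ := by
  have : a • φ = (a • 𝟙 X) ≫ φ := by rw [Linear.smul_comp, Category.id_comp]
  rw [this, Functor.map_comp, HF_map_smul_id, Linear.smul_comp, Category.id_comp]

/-! ### torsion objects -/

/-- all cohomology modules are `f`-power torsion -/
def TorsObj (f : A) (M : DA A) : Prop :=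
  ∀ (i : ℤ) (x : (HF i).obj M), ∃ p : ℕ, f ^ p • x = 0

lemma torsObj_shift (f : A) (M : DA A) (h : TorsObj f M) (n : ℤ) : TorsObj f (M⟦n⟧) := by
  intro i x
  let e : (HF i).obj (M⟦n⟧) ≅ (HF (n + i)).obj M :=
    ((DerivedCategory.homologyFunctor (ModuleCat.{u} A) 0).shiftIso n i (n + i) rfl).app M
  obtain ⟨p, hp⟩ := h (n + i) (e.hom.hom x)
  refine ⟨p, ?_⟩
  apply e.toLinearEquiv.injective
  rw [map_smul, map_zero]
  exact hp

lemma torsObj_of_smul_id_eq_zero (f : A) (M : DA A) (p : ℕ) (h : f ^ p • 𝟙 M = 0) :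
    TorsObj f M := by
  intro i x
  refine ⟨p, ?_⟩
  have h1 := HF_map_smul_id M (f ^ p) i
  rw [h] at h1
  have h3 : (HF i).map (0 : M ⟶ M) = 0 := Functor.map_zero _ _ _
  rw [h3] at h1
  have h2 : (0 : (HF i).obj M ⟶ (HF i).obj M).hom x =
      ((f ^ p) • 𝟙 ((HF i).obj M) : (HF i).obj M ⟶ (HF i).obj M).hom x := by rw [h1]
  exact h2.symm

/-! ### maps out of `A[0]` -/

variable (A) in
/-- `A[0]` -/
noncomputable abbrev S : DA A :=
  (DerivedCategory.singleFunctor (ModuleCat.{u} A) 0).obj (ModuleCat.of A A)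

lemma Kq_nil : Kq A [] = S A := rfl

instance : Projective (ModuleCat.of A A) := inferInstance

lemma hom_S_eq_zero_of_isLE (N : DA A) (b : ℤ) (hb : b < 0) (hN : N.IsLE b) (β : S A ⟶ N) :
    β = 0 :=
  hom_single_projective_eq_zero (ModuleCat.of A A) N b hb β

lemma eq_zero_of_HF_eq_zero (M : DA A) (β : S A ⟶ M) (h : (HF 0).map β = 0) : β = 0 := by
  have hT := tt.triangleLTGE_distinguished 1 M
  have h1 : β ≫ (tt.truncGEπ 1).app M = 0 := tt.zero _ 0 1
  obtain ⟨β', hβ'⟩ : ∃ β' : S A ⟶ (tt.truncLT 1).obj M, β = β' ≫ (tt.truncLTι 1).app M :=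
    Triangle.coyoneda_exact₂ _ hT β h1
  have hK : tt.IsLE ((tt.truncLT 1).obj M) (1 - 1) := inferInstance
  have hK0 : ((tt.truncLT 1).obj M).IsLE 0 := hK
  have hm := mono_homologyMap_truncLTι M 1 0 (by norm_num)
  have h2 : (HF 0).map β' = 0 := by
    rw [← cancel_mono ((HF 0).map ((tt.truncLTι 1).app M)), zero_comp, ← Functor.map_comp]
    rw [hβ'] at h
    exact h
  have h3 := comp_truncGEπ_eq_zero 0 β' h2
  obtain ⟨β'', hβ''⟩ : ∃ β'' : S A ⟶ (tt.truncLT 0).obj ((tt.truncLT 1).obj M),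
      β' = β'' ≫ (tt.truncLTι 0).app ((tt.truncLT 1).obj M) :=
    Triangle.coyoneda_exact₂ _
      (tt.triangleLTGE_distinguished 0 ((tt.truncLT 1).obj M)) β' h3
  have hK' : tt.IsLE ((tt.truncLT 0).obj ((tt.truncLT 1).obj M)) (0 - 1) := inferInstance
  have h4 : β'' = 0 := hom_S_eq_zero_of_isLE _ (0 - 1) (by norm_num) hK' β''
  rw [hβ', hβ'', h4, zero_comp, zero_comp]

variable (A) in
/-- `H^0(A[0]) ≅ A` -/
noncomputable abbrev iS : (HF 0).obj (S A) ≅ ModuleCat.of A A :=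
  (singleFunctorCompHomologyFunctorIso (ModuleCat.{u} A) 0).app (ModuleCat.of A A)

variable (A) in
/-- the generator of `H^0(A[0])` -/
noncomputable def gen : (HF 0).obj (S A) := (iS A).inv.hom (1 : A)

lemma eq_zero_of_gen {N : ModuleCat.{u} A} (ξ : (HF 0).obj (S A) ⟶ N) (h : ξ.hom (gen A) = 0) :
    ξ = 0 := by
  have h1 : (iS A).inv ≫ ξ = 0 := by
    apply ModuleCat.hom_ext
    apply LinearMap.ext_ring
    exact h
  rw [← cancel_epi (iS A).inv, h1, comp_zero]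

lemma tors_S (f : A) (M : DA A) (hM : TorsObj f M) (β : S A ⟶ M) : ∃ p : ℕ, f ^ p • β = 0 := by
  obtain ⟨p, hp⟩ := hM 0 (((HF 0).map β).hom (gen A))
  refine ⟨p, eq_zero_of_HF_eq_zero M _ ?_⟩
  rw [HF_map_smul]
  apply eq_zero_of_gen
  exact hp

lemma isZero_HF_zero_of_hom_S_eq_zero (M : DA A) (h : ∀ β : S A ⟶ M, β = 0) :
    IsZero ((HF 0).obj M) := by
  have hT := tt.triangleLTGE_distinguished 1 M
  have hK0 : ((tt.truncLT 1).obj M).IsLE 0 :=
    (inferInstance : tt.IsLE ((tt.truncLT 1).obj M) (1 - 1))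
  have hepi : Epi ((HF 0).map ((tt.truncLTι 1).app M)) :=
    (HomologySequence.epi_homologyMap_mor₁_iff _ hT 0).2
      ((isZero_of_isGE ((tt.truncGE 1).obj M) 1 0 (by norm_num)).eq_of_tgt _ _)
  have key : ∀ x : (HF 0).obj M, x = 0 := by
    intro x
    obtain ⟨y, rfl⟩ := (ModuleCat.epi_iff_surjective _).1 hepi x
    let ψ : ModuleCat.of A A ⟶ (HF 0).obj ((tt.truncLT 1).obj M) :=
      ModuleCat.ofHom (LinearMap.toSpanSingleton A _ y)
    obtain ⟨β, hβ⟩ := exists_lift_of_projective (ModuleCat.of A A) ((tt.truncLT 1).obj M) ψ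
    have h0 := h (β ≫ (tt.truncLTι 1).app M)
    have h1 : (HF 0).map β ≫ (HF 0).map ((tt.truncLTι 1).app M) = 0 := by
      rw [← Functor.map_comp, h0, Functor.map_zero]
    have h2 : ψ ≫ (HF 0).map ((tt.truncLTι 1).app M) = 0 := by
      rw [← cancel_epi (iS A).hom, comp_zero, ← Category.assoc]
      rw [← h1]
      congr 1
      exact hβ.symm
    have h3 : (ψ ≫ (HF 0).map ((tt.truncLTι 1).app M)).hom (1 : A) = 0 := by rw [h2]; rfl
    simpa [ψ] using h3
  haveI : Subsingleton ((HF 0).obj M) := ⟨fun x y => by rw [key x, key y]⟩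
  exact ModuleCat.isZero_of_subsingleton _

/-! ### the inductions over the list -/

lemma smul_eq_zero_of_shift (f : A) (p : ℕ) {P M : DA A} (ψ : P⟦(1 : ℤ)⟧ ⟶ M)
    (ψ' : P ⟶ M⟦(-1 : ℤ)⟧) (hψ : ψ = ψ'⟦(1 : ℤ)⟧' ≫ (eM M).hom) (h : f ^ p • ψ' = 0) :
    f ^ p • ψ = 0 := by
  rw [hψ, ← Linear.smul_comp, ← Functor.map_smul, h, Functor.map_zero, zero_comp]

/-- maps from the Koszul complex to an object with `f`-power torsion cohomology are
`f`-power torsion -/
theorem tors_Kq (f : A) : ∀ (l : List A) (M : DA A), TorsObj f M →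
    ∀ φ : Kq A l ⟶ M, ∃ p : ℕ, f ^ p • φ = 0 := by
  intro l
  induction l with
  | nil => intro M hM φ; exact tors_S f M hM φ
  | cons g l ih =>
    intro M hM φ
    obtain ⟨v, w, hT⟩ := koszul_triangle g l
    refine tors_of_triangle _ hT M f (ih M hM) ?_ φ
    intro ψ
    obtain ⟨ψ', hψ'⟩ := exists_shift_one _ M ψ
    obtain ⟨p, hp⟩ := ih (M⟦(-1 : ℤ)⟧) (torsObj_shift f M hM (-1)) ψ'
    exact ⟨p, smul_eq_zero_of_shift f p ψ ψ' hψ' hp⟩

/-- if all maps from the Koszul complex to `M` vanish, so do all maps from `A[0]` -/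
theorem hom_S_eq_zero_of_hom_Kq_eq_zero : ∀ (l : List A) (M : DA A),
    (∀ f ∈ l, TorsObj f M) → (∀ φ : Kq A l ⟶ M, φ = 0) → ∀ β : S A ⟶ M, β = 0 := by
  intro l
  induction l with
  | nil => intro M _ h β; exact h β
  | cons g l ih =>
    intro M hM h β
    obtain ⟨v, w, hT⟩ := koszul_triangle g l
    refine ih M (fun f hf => hM f (List.mem_cons_of_mem _ hf)) ?_ β
    exact zero_of_smul_triangle g v w hT M h
      (tors_Kq g l M (hM g List.mem_cons_self))

/-- vanishing of cohomology from Koszul orthogonality -/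
theorem isZero_HF_zero (l : List A) (M : DA A) (hM : ∀ f ∈ l, TorsObj f M)
    (h : ∀ φ : Kq A l ⟶ M, φ = 0) : IsZero ((HF 0).obj M) :=
  isZero_HF_zero_of_hom_S_eq_zero M (hom_S_eq_zero_of_hom_Kq_eq_zero l M hM h)

/-- Koszul orthogonality of objects which are sufficiently negative -/
theorem hom_Kq_eq_zero_of_isLE : ∀ (l : List A) (N : DA A) (b : ℤ), N.IsLE b →
    b + (l.length : ℤ) < 0 → ∀ φ : Kq A l ⟶ N, φ = 0 := by
  intro l
  induction l with
  | nil =>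
    intro N b hN hb φ
    exact hom_S_eq_zero_of_isLE N b (by simpa using hb) hN φ
  | cons g l ih =>
    intro N b hN hb φ
    obtain ⟨v, w, hT⟩ := koszul_triangle g l
    have hlen : ((g :: l).length : ℤ) = (l.length : ℤ) + 1 := by simp
    rw [hlen] at hb
    refine zero_of_triangle _ hT N (ih N b hN (by omega)) ?_ φ
    intro ψ
    obtain ⟨ψ', hψ'⟩ := exists_shift_one _ N ψ
    have hN' : (N⟦(-1 : ℤ)⟧).IsLE (b + 1) := tt.isLE_shift N b (-1) (b + 1) (by omega)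
    have h0 : ψ' = 0 := ih (N⟦(-1 : ℤ)⟧) (b + 1) hN' (by omega) ψ'
    rw [hψ', h0, Functor.map_zero, zero_comp]

/-! ### shifted versions -/

theorem isZero_HF_of_orthogonal (l : List A) (M : DA A) (hM : ∀ f ∈ l, TorsObj f M) (n : ℤ)
    (h : ∀ φ : Kq A l ⟶ M⟦n⟧, φ = 0) : IsZero ((HF n).obj M) := by
  have h1 := isZero_HF_zero l (M⟦n⟧) (fun f hf => torsObj_shift f M (hM f hf) n) h
  exact h1.of_iso
    (((DerivedCategory.homologyFunctor (ModuleCat.{u} A) 0).shiftIso n 0 n (by omega)).app M).symm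

theorem orthogonal_of_isLE (l : List A) (N : DA A) (b : ℤ) (hN : N.IsLE b) (n : ℤ)
    (h : b - n + (l.length : ℤ) < 0) (φ : Kq A l ⟶ N⟦n⟧) : φ = 0 :=
  hom_Kq_eq_zero_of_isLE l (N⟦n⟧) (b - n) (tt.isLE_shift N b n (b - n) (by omega)) h φ

/-! ### the Koszul complex itself -/

lemma isLE_Kq : ∀ l : List A, (Kq A l).IsLE 0 := by
  intro l
  induction l with
  | nil => exact (inferInstance : (S A).IsLE 0)
  | cons g l ih =>
    obtain ⟨v, w, hT⟩ := koszul_triangle g l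
    have h1 : tt.IsLE ((Kq A l)⟦(1 : ℤ)⟧) 0 :=
      haveI : tt.IsLE ((Kq A l)⟦(1 : ℤ)⟧) (-1) := tt.isLE_shift (Kq A l) 0 1 (-1) (by omega)
      tt.isLE_of_le _ (-1) 0 (by omega)
    exact tt.isLE₂ _ (rot_of_distTriang _ hT) 0 ih h1

lemma exists_pow_smul_id_Kq : ∀ (l : List A) (f : A), f ∈ l → ∃ p : ℕ, f ^ p • 𝟙 (Kq A l) = 0 := by
  intro l
  induction l with
  | nil => intro f hf; simp at hf
  | cons g l ih =>
    intro f hf
    obtain ⟨v, w, hT⟩ := koszul_triangle g l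
    rcases List.mem_cons.1 hf with rfl | hf'
    · refine ⟨2, sq_smul_id_eq_zero _ hT f ?_ ?_⟩
      · exact comp_distTriang_mor_zero₁₂ _ hT
      · have h := comp_distTriang_mor_zero₃₁ _ hT
        change w ≫ (f • 𝟙 (Kq A l))⟦(1 : ℤ)⟧' = 0 at h
        rw [Functor.map_smul, CategoryTheory.Functor.map_id] at h
        exact h
    · obtain ⟨p, hp⟩ := ih f hf'
      refine ⟨p * 2, ?_⟩
      rw [pow_mul]
      refine sq_smul_id_eq_zero _ hT (f ^ p) ?_ ?_
      · change (f ^ p • 𝟙 (Kq A l)) ≫ v = 0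
        rw [hp, zero_comp]
      · change w ≫ (f ^ p • 𝟙 ((Kq A l)⟦(1 : ℤ)⟧)) = 0
        have : f ^ p • 𝟙 ((Kq A l)⟦(1 : ℤ)⟧) = (f ^ p • 𝟙 (Kq A l))⟦(1 : ℤ)⟧' := by
          rw [Functor.map_smul, CategoryTheory.Functor.map_id]
        rw [this, hp, Functor.map_zero, comp_zero]

lemma torsObj_Kq (l : List A) (f : A) (hf : f ∈ l) : TorsObj f (Kq A l) := by
  obtain ⟨p, hp⟩ := exists_pow_smul_id_Kq l f hf
  exact torsObj_of_smul_id_eq_zero f _ p hp

end Groth.Agent.Lib.Helper26.LC25
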