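import Mathlib
import Groth.Prelude.Def_DCoh3
import Groth.Prelude.Def_Wider
import Groth.Agent.Lib.Helper26.LC25
import Groth.Agent.Lib.Helper26.LC21
import Groth.Agent.Lib.Helper26.LC13
import Groth.Agent.Lib.Helper26.CxA

set_option maxHeartbeats 400000
set_option linter.style.haveILetI false
set_option linter.unusedSectionVars false
set_option linter.unusedVariables false

universe u

open CategoryTheory CategoryTheory.Limits CategoryTheory.Pretriangulated AlgebraicGeometry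
  DerivedCategory

namespace Groth.Agent.Lib.Helper26.LC26

open Groth.Agent.Lib.Helper26 Groth.Agent.Lib.Helper26.LC25

attribute [local instance] HasDerivedCategory.standard

variable (R : CommRingCat.{u}) (fs : List R)

/-- the complement of `V(fs)` -/
abbrev UU : (Spec (CommRingCat.of R)).Opens :=
  LocCoh.puncturedOpen R (Ideal.span {a | a ∈ fs})

variable {R} {fs}

lemma exists_mem_basicOpen (x : PrimeSpectrum R)
    (hx : x ∉ PrimeSpectrum.zeroLocus ((Ideal.span {a | a ∈ fs} : Ideal R) : Set R)) :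
    ∃ f ∈ fs, f ∉ x.asIdeal := by
  by_contra hcon
  push Not at hcon
  apply hx
  rw [PrimeSpectrum.mem_zeroLocus]
  intro a ha
  refine Ideal.span_le.2 ?_ ha
  intro b hb
  exact hcon b hb

lemma not_mem_zeroLocus (f : R) (hf : f ∈ fs) (x : PrimeSpectrum R) (hx : f ∉ x.asIdeal) :
    x ∉ PrimeSpectrum.zeroLocus ((Ideal.span {a | a ∈ fs} : Ideal R) : Set R) := by
  intro hz
  apply hx
  have := (PrimeSpectrum.mem_zeroLocus _ _).1 hz
  exact this (Ideal.subset_span hf)

lemma isCompact_UU : IsCompact ((UU R fs : (Spec (CommRingCat.of R)).Opens) :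
    Set (Spec (CommRingCat.of R))) := by
  have h : ((UU R fs : (Spec (CommRingCat.of R)).Opens) : Set (Spec (CommRingCat.of R))) =
      ⋃ f ∈ {a : R | a ∈ fs}, ((PrimeSpectrum.basicOpen f : Set (PrimeSpectrum R))) := by
    ext x
    constructor
    · intro hx
      obtain ⟨f, hf, hfx⟩ := exists_mem_basicOpen (fs := fs) x hx
      exact Set.mem_biUnion hf hfx
    · intro hx
      obtain ⟨f, hf, hfx⟩ := Set.mem_iUnion₂.1 hx
      exact not_mem_zeroLocus f hf x hfx
  rw [h]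
  exact (List.finite_toSet fs).isCompact_biUnion (fun f _ => PrimeSpectrum.isCompact_basicOpen f)

instance quasiCompact_ι : QuasiCompact (UU R fs).ι := by
  rw [HasAffineProperty.iff_of_isAffine (P := @QuasiCompact)]
  exact isCompact_iff_compactSpace.1 isCompact_UU

/-! ### modules -/

lemma subsingleton_stalk_tilde_gen (N : ModuleCat.{u} R)
    (y : PrimeSpectrum.Top R) (h : ∀ n : N, ∃ r ∈ y.asIdeal.primeCompl, r • n = 0) :
    Subsingleton ((tilde N).presheaf.stalk y) :=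
  (IsLocalizedModule.subsingleton_iff y.asIdeal.primeCompl (tilde.toStalk N y).hom).2 h

lemma subsingleton_stalk_tilde (N : ModuleCat.{u} R)
    (h : ∀ f ∈ fs, ∀ x : N, ∃ p : ℕ, f ^ p • x = 0)
    (y : PrimeSpectrum.Top R)
    (hy : y ∉ PrimeSpectrum.zeroLocus ((Ideal.span {a | a ∈ fs} : Ideal R) : Set R)) :
    Subsingleton ((tilde N).presheaf.stalk y) := by
  obtain ⟨f, hf, hfy⟩ := exists_mem_basicOpen y hy
  refine subsingleton_stalk_tilde_gen N y ?_
  intro n
  obtain ⟨p, hp⟩ := h f hf n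
  exact ⟨f ^ p, fun hmem => hfy (y.isPrime.mem_of_pow_mem p hmem), hp⟩

lemma isZero_restrict_tilde (N : ModuleCat.{u} R)
    (h : ∀ f ∈ fs, ∀ x : N, ∃ p : ℕ, f ^ p • x = 0) :
    IsZero ((Scheme.Modules.restrictFunctor (UU R fs).ι).obj
      ((tilde.functor R).obj N)) := by
  rw [IsZero.iff_id_eq_zero]
  apply Scheme.Modules.hom_ext
  intro V
  ext s
  change s = 0
  refine TopCat.Presheaf.section_ext ⟨(tilde N).presheaf,
    (tilde N).isSheaf⟩
    ((UU R fs).ι ''ᵁ V) s 0 (fun y hy => ?_)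
  haveI : Subsingleton ((tilde N).presheaf.stalk y) := by
    apply subsingleton_stalk_tilde N h
    obtain ⟨v, hv, rfl⟩ := hy
    exact v.2
  exact Subsingleton.elim _ _

lemma tors_of_subsingleton_gen (N : ModuleCat.{u} R) (f : R)
    (h : Subsingleton ((modulesSpecToSheaf.obj (tilde N)).presheaf.obj
      (.op (PrimeSpectrum.basicOpen f)))) (n : N) : ∃ p : ℕ, f ^ p • n = 0 := by
  obtain ⟨r, ⟨p, rfl⟩, hr⟩ := (IsLocalizedModule.subsingleton_iff (Submonoid.powers f)
    (tilde.toOpen N (PrimeSpectrum.basicOpen f)).hom).1 h n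
  exact ⟨p, hr⟩

lemma image_preimage_basicOpen (f : R) (hf : f ∈ fs) :
    (UU R fs).ι ''ᵁ ((UU R fs).ι ⁻¹ᵁ
      (PrimeSpectrum.basicOpen f : (Spec (CommRingCat.of R)).Opens)) =
      (PrimeSpectrum.basicOpen f : (Spec (CommRingCat.of R)).Opens) := by
  rw [Scheme.Hom.image_preimage_eq_opensRange_inf, Scheme.Opens.opensRange_ι]
  apply inf_eq_right.2
  intro x hx
  exact not_mem_zeroLocus f hf x hx

lemma tors_of_isZero_restrict_tilde (N : ModuleCat.{u} R)
    (h : IsZero ((Scheme.Modules.restrictFunctor (UU R fs).ι).obj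
      ((tilde.functor R).obj N))) (f : R) (hf : f ∈ fs) (n : N) :
    ∃ p : ℕ, f ^ p • n = 0 := by
  refine tors_of_subsingleton_gen N f ?_ n
  have h1 : ∀ (V : ((UU R fs : (Spec (CommRingCat.of R)).Opens) : Scheme.{u}).Opens)
      (s : (tilde N).val.obj (.op ((UU R fs).ι ''ᵁ V))), s = 0 :=
    fun V s => Groth.Agent.Lib.Helper28.QCohLoc.sections_zero_of_isZero _ h V s
  have h2 := h1 ((UU R fs).ι ⁻¹ᵁ (PrimeSpectrum.basicOpen f : (Spec (CommRingCat.of R)).Opens))
  rw [image_preimage_basicOpen f hf] at h2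
  exact ⟨fun x y => (h2 x).trans (h2 y).symm⟩

/-! ### derived categories -/

section D

variable [PreservesFiniteLimits (tilde.functor R)]
  [PreservesFiniteLimits (Scheme.Modules.restrictFunctor (UU R fs).ι)]

variable (R) in
/-- `tildeD`, on `D(A)` -/
noncomputable abbrev TD : DA R ⥤ DCoh.D (Spec (CommRingCat.of R)) :=
  DCoh.tildeD R

variable (R fs) in
/-- restriction to the punctured open -/
noncomputable abbrev RU : DCoh.D (Spec (CommRingCat.of R)) ⥤
    DCoh.D ((UU R fs : (Spec (CommRingCat.of R)).Opens) : Scheme.{u}) :=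
  DCoh.restrictD (UU R fs).ι

/-- cohomology of `tildeD` -/
noncomputable def hTD (M : DA R) (i : ℤ) :
    DCoh.HD ((TD R).obj M) i ≅ (tilde.functor R).obj ((HF i).obj M) :=
  SuppD2.homologyIso (tilde.functor R) M i

lemma isZero_RU_TD (M : DA R) (h : ∀ f ∈ fs, TorsObj f M) :
    IsZero ((RU R fs).obj ((TD R).obj M)) := by
  apply SuppD2.isZero_mapDerivedCategory_obj
  intro i
  refine IsZero.of_iso (isZero_restrict_tilde (fs := fs) ((HF i).obj M) (fun f hf x => h f hf i x))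
    ((Scheme.Modules.restrictFunctor (UU R fs).ι).mapIso (hTD M i))

lemma torsObj_of_isZero_RU_TD (M : DA R) (h : IsZero ((RU R fs).obj ((TD R).obj M)))
    (f : R) (hf : f ∈ fs) : TorsObj f M := by
  intro i x
  refine tors_of_isZero_restrict_tilde (fs := fs) ((HF i).obj M) ?_ f hf x
  have h1 : IsZero (DCoh.HD ((RU R fs).obj ((TD R).obj M)) i) :=
    Functor.map_isZero _ h
  exact IsZero.of_iso h1
    ((Scheme.Modules.restrictFunctor (UU R fs).ι).mapIso (hTD M i).symm ≪≫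
      (SuppD2.homologyIso (Scheme.Modules.restrictFunctor (UU R fs).ι) ((TD R).obj M) i).symm)

lemma isZero_RU_shift (T : DCoh.D (Spec (CommRingCat.of R))) (h : IsZero ((RU R fs).obj T))
    (m : ℤ) : IsZero ((RU R fs).obj (T⟦m⟧)) :=
  IsZero.of_iso (Functor.map_isZero (shiftFunctor _ m) h) (((RU R fs).commShiftIso m).app T)

lemma isQCohD_RU (E : DCoh.D (Spec (CommRingCat.of R))) (hE : DCoh.IsQCohD E) :
    DCoh.IsQCohD ((RU R fs).obj E) := by
  intro i
  have : (DCoh.HD E i).IsQuasicoherent := hE i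
  have h1 : ((Scheme.Modules.restrictFunctor (UU R fs).ι).obj (DCoh.HD E i)).IsQuasicoherent :=
    inferInstance
  exact LC5.isQCoh_of_iso
    (SuppD2.homologyIso (Scheme.Modules.restrictFunctor (UU R fs).ι) E i).symm h1

section Adj

variable [DCoh.HasRpush (UU R fs).ι]
  (adj : DCoh.restrictD (UU R fs).ι ⊣ DCoh.Rpush (UU R fs).ι)

include adj in
lemma hom_Rpush_eq_zero (T : DCoh.D (Spec (CommRingCat.of R))) (hT : IsZero ((RU R fs).obj T))
    (F : DCoh.D ((UU R fs : (Spec (CommRingCat.of R)).Opens) : Scheme.{u}))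
    (χ : T ⟶ (DCoh.Rpush (UU R fs).ι).obj F) : χ = 0 := by
  apply (adj.homEquiv T F).symm.injective
  exact hT.eq_of_src _ _

include adj in
lemma hom_Rpush_shift_eq_zero (T : DCoh.D (Spec (CommRingCat.of R)))
    (hT : IsZero ((RU R fs).obj T))
    (F : DCoh.D ((UU R fs : (Spec (CommRingCat.of R)).Opens) : Scheme.{u})) (k : ℤ)
    (χ : T ⟶ ((DCoh.Rpush (UU R fs).ι).obj F)⟦k⟧) : χ = 0 := by
  obtain ⟨e⟩ := LC21.nonempty_rpush_shift_iso (UU R fs).ι F k
  have h := hom_Rpush_eq_zero adj T hT (F⟦k⟧) (χ ≫ e.inv)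
  rw [← cancel_mono e.inv, h, zero_comp]

end Adj

end D

/-! ### two out of three for `D_QCoh` -/

lemma isQCohD_obj₁ {X : Scheme.{u}} (T : Triangle (DCoh.D X)) (hT : T ∈ distTriang (DCoh.D X))
    (h₂ : DCoh.IsQCohD T.obj₂) (h₃ : DCoh.IsQCohD T.obj₃) : DCoh.IsQCohD T.obj₁ := by
  intro n
  exact Groth.Agent.Lib.Helper2.RpushQC3.qc_of_five
    ((DerivedCategory.homologyFunctor X.Modules (n - 1)).map T.mor₂)
    (DerivedCategory.HomologySequence.δ T (n - 1) n (by omega))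
    ((DerivedCategory.homologyFunctor X.Modules n).map T.mor₁)
    ((DerivedCategory.homologyFunctor X.Modules n).map T.mor₂) _ _ _
    (DerivedCategory.HomologySequence.exact₃ T hT (n - 1) n (by omega))
    (DerivedCategory.HomologySequence.exact₁ T hT (n - 1) n (by omega))
    (DerivedCategory.HomologySequence.exact₂ T hT n)
    (h₂ _) (h₃ _) (h₂ _) (h₃ _)

/-! ### transport along `tildeD` -/

section Main

variable [PreservesFiniteLimits (tilde.functor R)]

variable (R fs) in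
/-- the Koszul object of `D(O_X)` -/
noncomputable abbrev Kt : DCoh.D (Spec (CommRingCat.of R)) := (TD R).obj (Kq R fs)

lemma isZero_HD_TD_iff (M : DA R) (i : ℤ) :
    IsZero (DCoh.HD ((TD R).obj M) i) ↔ IsZero ((HF i).obj M) := by
  constructor
  · intro h
    have h1 : IsZero ((tilde.functor R).obj ((HF i).obj M)) := IsZero.of_iso h (hTD M i).symm
    rw [IsZero.iff_id_eq_zero] at h1 ⊢
    apply (tilde.functor R).map_injective
    rw [CategoryTheory.Functor.map_id, Functor.map_zero]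
    exact h1
  · intro h
    exact IsZero.of_iso (Functor.map_isZero _ h) (hTD M i)

lemma isLE_TD_iff (M : DA R) (b : ℤ) : ((TD R).obj M).IsLE b ↔ M.IsLE b := by
  rw [DerivedCategory.isLE_iff, DerivedCategory.isLE_iff]
  exact forall_congr' fun i => forall_congr' fun _ => isZero_HD_TD_iff M i

lemma isLE_Kt : (Kt R fs).IsLE 0 := (isLE_TD_iff _ 0).2 (isLE_Kq fs)

lemma orth_iff (M : DA R) (E : DCoh.D (Spec (CommRingCat.of R))) (e : (TD R).obj M ≅ E) (n : ℤ) :
    (∀ φ : (Kt R fs)⟦-n⟧ ⟶ E, φ = 0) ↔ (∀ φ : Kq R fs ⟶ M⟦n⟧, φ = 0) := by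
  obtain ⟨hfull, hfaith, -⟩ := LC13.main R
  haveI := hfull
  haveI := hfaith
  constructor
  · intro h φ'
    let θ : Kt R fs ⟶ E⟦n⟧ :=
      (TD R).map φ' ≫ ((TD R).commShiftIso n).hom.app M ≫ e.hom⟦n⟧'
    have h1 := h (θ⟦-n⟧' ≫ (shiftFunctorCompIsoId _ n (-n) (by omega)).hom.app E)
    have h2 : θ⟦-n⟧' = 0 := by
      rw [← cancel_mono ((shiftFunctorCompIsoId _ n (-n) (by omega)).hom.app E), h1, zero_comp]
    have h3 : θ = 0 := by
      apply (shiftFunctor _ (-n)).map_injective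
      rw [h2, Functor.map_zero]
    have h4 : (TD R).map φ' = 0 := by
      have : (TD R).map φ' = θ ≫ e.inv⟦n⟧' ≫ ((TD R).commShiftIso n).inv.app M := by
        simp only [θ, Category.assoc, ← Functor.map_comp_assoc, e.hom_inv_id,
          CategoryTheory.Functor.map_id, Category.id_comp, Iso.hom_inv_id_app]
        exact (Category.comp_id _).symm
      rw [this, h3, zero_comp]
    apply (TD R).map_injective
    rw [h4, Functor.map_zero]
  · intro h φ
    let θ : Kt R fs ⟶ (TD R).obj (M⟦n⟧) :=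
      (shiftFunctorCompIsoId _ (-n) n (by omega)).inv.app (Kt R fs) ≫ φ⟦n⟧' ≫ e.inv⟦n⟧' ≫
        ((TD R).commShiftIso n).inv.app M
    obtain ⟨φ', hφ'⟩ := (TD R).map_surjective θ
    have h1 : θ = 0 := by rw [← hφ', h φ', Functor.map_zero]
    have h2 : φ⟦n⟧' = 0 := by
      have : φ⟦n⟧' = (shiftFunctorCompIsoId _ (-n) n (by omega)).hom.app (Kt R fs) ≫ θ ≫
          ((TD R).commShiftIso n).hom.app M ≫ e.hom⟦n⟧' := by
        simp only [θ, Category.assoc, Iso.inv_hom_id_app_assoc, Iso.hom_inv_id_app_assoc,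
          ← Functor.map_comp, e.inv_hom_id, CategoryTheory.Functor.map_id, Category.comp_id]
      rw [this, h1, zero_comp, comp_zero]
    apply (shiftFunctor _ n).map_injective
    rw [h2, Functor.map_zero]

section Clauses

variable [PreservesFiniteLimits (Scheme.Modules.restrictFunctor (UU R fs).ι)]
  [DCoh.HasRpush (UU R fs).ι]
  (adj : DCoh.restrictD (UU R fs).ι ⊣ DCoh.Rpush (UU R fs).ι)
  (E : DCoh.D (Spec (CommRingCat.of R))) (hE : DCoh.IsQCohD E)

lemma isZero_RU_Kt : IsZero ((RU R fs).obj (Kt R fs)) :=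
  isZero_RU_TD (Kq R fs) (fun f hf => torsObj_Kq fs f hf)

include adj in
/-- maps from shifts of the Koszul object to `E` are killed by the unit -/
lemma comp_unit_eq_zero (n : ℤ) (φ : (Kt R fs)⟦n⟧ ⟶ E) : φ ≫ adj.unit.app E = 0 :=
  hom_Rpush_eq_zero adj _ (isZero_RU_shift _ isZero_RU_Kt n) _ _

include adj hE in
/-- the cone of the unit: it lies in `D_QCoh`, is Koszul-orthogonal wherever `E` is, and comes
from an object of `D(A)` with torsion cohomology -/
lemma exists_cocone :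
    ∃ (C : DCoh.D (Spec (CommRingCat.of R))) (c : C ⟶ E)
      (w : (DCoh.Rpush (UU R fs).ι).obj ((DCoh.restrictD (UU R fs).ι).obj E) ⟶ C⟦(1 : ℤ)⟧)
      (_ : Triangle.mk c (adj.unit.app E) w ∈ distTriang (DCoh.D (Spec (CommRingCat.of R))))
      (M : DA R) (_ : (TD R).obj M ≅ C), (∀ f ∈ fs, TorsObj f M) ∧
      ∀ n : ℤ, (∀ φ : (Kt R fs)⟦-n⟧ ⟶ E, φ = 0) → ∀ φ : (Kt R fs)⟦-n⟧ ⟶ C, φ = 0 := by
  obtain ⟨C, c, w, hT⟩ := distinguished_cocone_triangle₁ (adj.unit.app E)
  have hRq : DCoh.IsQCohD ((DCoh.Rpush (UU R fs).ι).obj ((DCoh.restrictD (UU R fs).ι).obj E)) :=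
    LC17.main (UU R fs).ι _ (isQCohD_RU E hE)
  have hCq : DCoh.IsQCohD C := isQCohD_obj₁ _ hT hE hRq
  have hC0 : IsZero ((RU R fs).obj C) := by
    have hT' := (RU R fs).map_distinguished _ hT
    haveI : IsIso ((RU R fs).map (adj.unit.app E)) := CxA.isIso_restrict_unit (UU R fs).ι adj E
    exact (Triangle.isZero₁_iff_isIso₂ _ hT').2
      (show IsIso ((RU R fs).map (adj.unit.app E)) from inferInstance)
  obtain ⟨M, ⟨e⟩⟩ := ((LC13.main R).2.2 C).1 hCq
  refine ⟨C, c, w, hT, M, e, ?_, ?_⟩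
  · intro f hf
    exact torsObj_of_isZero_RU_TD M (IsZero.of_iso hC0 ((RU R fs).mapIso e)) f hf
  · intro n h ψ
    have hT' := inv_rot_of_distTriang _ hT
    obtain ⟨χ, hχ⟩ := Triangle.coyoneda_exact₂ _ hT' ψ (h (ψ ≫ c))
    have h0 : χ = 0 := hom_Rpush_shift_eq_zero adj _ (isZero_RU_shift _ isZero_RU_Kt (-n)) _ (-1) χ
    rw [hχ, h0]
    exact zero_comp

/-- the t-structure on `D(O_X)` -/
noncomputable abbrev tX : Triangulated.TStructure (DCoh.D (Spec (CommRingCat.of R))) :=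
  DerivedCategory.TStructure.t

include adj hE in
/-- vanishing of the cohomology of the cone in the degrees where `E` is Koszul-orthogonal -/
lemma exists_cocone' :
    ∃ (C : DCoh.D (Spec (CommRingCat.of R))) (c : C ⟶ E)
      (w : (DCoh.Rpush (UU R fs).ι).obj ((DCoh.restrictD (UU R fs).ι).obj E) ⟶ C⟦(1 : ℤ)⟧)
      (_ : Triangle.mk c (adj.unit.app E) w ∈ distTriang (DCoh.D (Spec (CommRingCat.of R)))),
      ∀ n : ℤ, (∀ φ : (Kt R fs)⟦-n⟧ ⟶ E, φ = 0) → IsZero (DCoh.HD C n) := by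
  obtain ⟨C, c, w, hT, M, e, hM, h⟩ := exists_cocone adj E hE
  refine ⟨C, c, w, hT, fun n hn => ?_⟩
  have h1 := (orth_iff M C e n).1 (h n hn)
  have h2 := isZero_HF_of_orthogonal fs M hM n h1
  exact IsZero.of_iso ((isZero_HD_TD_iff M n).2 h2)
    ((DerivedCategory.homologyFunctor _ n).mapIso e.symm)

include adj hE in
theorem clause1 (a : ℤ) (h : ∀ n : ℤ, n ≤ a → ∀ φ : (Kt R fs)⟦-n⟧ ⟶ E, φ = 0) :
    IsIso ((tX.truncLE (a - 1)).map (adj.unit.app E)) := by
  obtain ⟨C, c, w, hT, hC⟩ := exists_cocone' adj E hE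
  have hGE : C.IsGE (a + 1) := (DerivedCategory.isGE_iff C (a + 1)).2
    (fun i hi => hC i (h i (by omega)))
  have hGE' : tX.IsGE (C⟦(1 : ℤ)⟧) a := tX.isGE_shift C (a + 1) 1 a (by omega)
  exact tX.isIso₁_truncLE_map_of_isGE _ (rot_of_distTriang _ hT) (a - 1) a (by omega) hGE'

include adj hE in
theorem clause3 (a : ℤ) (h : ∀ n : ℤ, a ≤ n → ∀ φ : (Kt R fs)⟦-n⟧ ⟶ E, φ = 0) :
    IsIso ((tX.truncGE a).map (adj.unit.app E)) := by
  obtain ⟨C, c, w, hT, hC⟩ := exists_cocone' adj E hE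
  have hLE : C.IsLE (a - 1) := (DerivedCategory.isLE_iff C (a - 1)).2
    (fun i hi => hC i (h i (by omega)))
  exact tX.isIso₂_truncGE_map_of_isLE _ hT (a - 1) a (by omega) hLE

include adj in
theorem clause2 (a : ℤ) (h : IsIso ((tX.truncLE (a - 1)).map (adj.unit.app E)))
    (n : ℤ) (hn : n ≤ a - 1) (φ : (Kt R fs)⟦-n⟧ ⟶ E) : φ = 0 := by
  haveI := isLE_Kt (R := R) (fs := fs)
  haveI h1 : tX.IsLE ((Kt R fs)⟦-n⟧) n := tX.isLE_shift (Kt R fs) 0 (-n) n (by omega)
  haveI h2 : tX.IsLE ((Kt R fs)⟦-n⟧) (a - 1) := tX.isLE_of_le _ n (a - 1) hn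
  have h3 : tX.liftTruncLE φ (a - 1) ≫ (tX.truncLE (a - 1)).map (adj.unit.app E) = 0 := by
    apply tX.to_truncLE_obj_ext
    rw [Category.assoc, zero_comp, (tX.truncLEι (a - 1)).naturality,
      ← Category.assoc, tX.liftTruncLE_ι]
    exact comp_unit_eq_zero adj E (-n) φ
  have h4 : tX.liftTruncLE φ (a - 1) = 0 := by
    rw [← cancel_mono ((tX.truncLE (a - 1)).map (adj.unit.app E)), h3, zero_comp]
  rw [← tX.liftTruncLE_ι φ (a - 1), h4, zero_comp]

include adj hE in
theorem clause4 (a : ℤ) (h : IsIso ((tX.truncGE a).map (adj.unit.app E)))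
    (n : ℤ) (hn : a + (fs.length : ℤ) ≤ n) (φ : (Kt R fs)⟦-n⟧ ⟶ E) : φ = 0 := by
  have h1 : (φ ≫ (tX.truncGEπ a).app E) ≫ (tX.truncGE a).map (adj.unit.app E) = 0 := by
    rw [Category.assoc, ← (tX.truncGEπ a).naturality, ← Category.assoc]
    change (φ ≫ adj.unit.app E) ≫ _ = 0
    rw [comp_unit_eq_zero adj E (-n) φ, zero_comp]
  have h2 : φ ≫ (tX.truncGEπ a).app E = 0 := by
    rw [← cancel_mono ((tX.truncGE a).map (adj.unit.app E)), h1, zero_comp]
  obtain ⟨φ', hφ'⟩ : ∃ φ' : (Kt R fs)⟦-n⟧ ⟶ (tX.truncLT a).obj E,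
      φ = φ' ≫ (tX.truncLTι a).app E :=
    Triangle.coyoneda_exact₂ _ (tX.triangleLTGE_distinguished a E) φ h2
  have hq : DCoh.IsQCohD ((tX.truncLT a).obj E) := LC21.isQCohD_truncLT E hE a
  obtain ⟨N, ⟨e⟩⟩ := ((LC13.main R).2.2 _).1 hq
  have hLE : tX.IsLE ((tX.truncLT a).obj E) (a - 1) := inferInstance
  have hN : N.IsLE (a - 1) := (isLE_TD_iff N (a - 1)).1 (tX.isLE_of_iso e.symm (a - 1))
  have h3 := (orth_iff (fs := fs) N _ e n).2
    (fun ψ => orthogonal_of_isLE fs N (a - 1) hN n (by omega) ψ)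
  rw [hφ', h3 φ', zero_comp]

end Clauses

end Main

end Groth.Agent.Lib.Helper26.LC26
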