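import Mathlib
import Groth.Agent.Lib.Helper26.LC26

set_option maxHeartbeats 400000
set_option linter.style.haveILetI false
set_option linter.unusedSectionVars false
set_option linter.unusedVariables false

universe u

open CategoryTheory CategoryTheory.Limits CategoryTheory.Pretriangulated AlgebraicGeometry
  DerivedCategory

namespace Groth.Agent.Lib.Helper26.LC27

open Groth.Agent.Lib.Helper26 Groth.Agent.Lib.Helper26.LC25 Groth.Agent.Lib.Helper26.LC26

attribute [local instance] HasDerivedCategory.standard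

variable {R : CommRingCat.{u}} {fs : List R}

/-- **`E ∈ D_QCoh(Spec A)` is of the form `Rj_*M` iff it is right orthogonal to all shifts of the
Koszul object** -/
theorem main [PreservesFiniteLimits (tilde.functor R)] [DCoh.HasRpush (UU R fs).ι]
    (E : DCoh.D (Spec (CommRingCat.of R))) (hE : DCoh.IsQCohD E) :
    (∃ M : DCoh.D ((UU R fs : (Spec (CommRingCat.of R)).Opens) : Scheme.{u}), DCoh.IsQCohD M ∧
        Nonempty (E ≅ (DCoh.Rpush (UU R fs).ι).obj M)) ↔
    ∀ (n : ℤ) (φ : (Kt R fs)⟦n⟧ ⟶ E), φ = 0 := by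
  obtain ⟨adj⟩ : Nonempty (DCoh.restrictD (UU R fs).ι ⊣ DCoh.Rpush (UU R fs).ι) :=
    Groth.Agent.Lib.Helper26.KInjAdjH.derivedAdjH
      (Scheme.Modules.restrictFunctor (UU R fs).ι) (Scheme.Modules.pushforward (UU R fs).ι)
      (Scheme.Modules.restrictAdjunction (UU R fs).ι) (DCoh.Rpush (UU R fs).ι)
      ((DCoh.pushKh (UU R fs).ι).totalRightDerivedUnit DerivedCategory.Qh
        (HomotopyCategory.quasiIso _ (ComplexShape.up ℤ)))
  constructor
  · rintro ⟨M, -, ⟨e⟩⟩ n φ
    have h := hom_Rpush_eq_zero adj _ (isZero_RU_shift _ isZero_RU_Kt n) M (φ ≫ e.hom)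
    rw [← cancel_mono e.hom, h, zero_comp]
  · intro h
    obtain ⟨C, c, w, hT, hC⟩ := exists_cocone' adj E hE
    have hC0 : IsZero C := SuppD2.isZero_of_homology C (fun n => hC n (fun φ => h (-n) φ))
    haveI : IsIso (adj.unit.app E) := (Triangle.isZero₁_iff_isIso₂ _ hT).1 hC0
    exact ⟨(DCoh.restrictD (UU R fs).ι).obj E, isQCohD_RU E hE, ⟨asIso (adj.unit.app E)⟩⟩

end Groth.Agent.Lib.Helper26.LC27
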