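import Mathlib
import Groth.Agent.Lib.Helper8.EBC4
import Groth.Agent.Lib.Helper26.LC26
import Groth.Agent.Lib.Helper26.LC14
import Groth.Agent.Lib.Helper26.CxK

set_option maxHeartbeats 400000
set_option linter.style.haveILetI false
set_option linter.unusedSectionVars false
set_option linter.unusedVariables false

universe u

open CategoryTheory CategoryTheory.Limits CategoryTheory.Pretriangulated AlgebraicGeometry
  DerivedCategory

namespace Groth.Agent.Lib.Helper26.LC28

open Groth.Agent.Lib.Helper26 Groth.Agent.Lib.Helper26.LC25 Groth.Agent.Lib.Helper26.LC26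
  Groth.Agent.Lib.Helper8.EBC Groth.Agent.Lib.Helper2.LCCech1 DerCA CochainComplex
  Groth.Agent.Lib.Helper16.FlatBC

attribute [local instance] HasDerivedCategory.standard

/-! ### generalities -/

/-- post-composition with the first map of a distinguished triangle is bijective on maps from `L`
when `L` has no maps to the third vertex and its desuspension -/
lemma bijective_comp_mor₁ {C : Type*} [Category C] [Preadditive C] [HasZeroObject C]
    [HasShift C ℤ] [∀ n : ℤ, Functor.Additive (CategoryTheory.shiftFunctor C n)] [Pretriangulated C]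
    (T : Triangle C) (hT : T ∈ distTriang C) (L : C)
    (h3 : ∀ φ : L ⟶ T.obj₃, φ = 0) (h3' : ∀ φ : L ⟶ T.obj₃⟦(-1 : ℤ)⟧, φ = 0) :
    Function.Bijective (fun ψ : L ⟶ T.obj₁ => ψ ≫ T.mor₁) := by
  constructor
  · intro ψ ψ' h
    rw [← sub_eq_zero]
    have h0 : (ψ - ψ') ≫ T.mor₁ = 0 := by
      rw [Preadditive.sub_comp]
      exact sub_eq_zero.2 h
    obtain ⟨χ, hχ⟩ := Triangle.coyoneda_exact₂ _ (inv_rot_of_distTriang _ hT) (ψ - ψ') h0
    rw [hχ, h3' χ]
    exact zero_comp
  · intro ψ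
    obtain ⟨χ, hχ⟩ := Triangle.coyoneda_exact₂ _ hT ψ (h3 _)
    exact ⟨χ, hχ.symm⟩

/-- a Yoneda argument inside a class of objects -/
lemma isIso_of_bijective_comp {C : Type*} [Category C] (P : C → Prop) {X Y : C} (f : X ⟶ Y)
    (hX : P X) (hY : P Y)
    (h : ∀ T : C, P T → Function.Bijective (fun χ : T ⟶ X => χ ≫ f)) : IsIso f := by
  obtain ⟨g, hg⟩ := (h Y hY).2 (𝟙 Y)
  refine ⟨⟨g, ?_, hg⟩⟩
  apply (h X hX).1
  change (f ≫ g) ≫ f = 𝟙 X ≫ f
  rw [Category.assoc, show g ≫ f = 𝟙 Y from hg, Category.comp_id, Category.id_comp]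

section Ring

variable {A : Type u} [CommRing A]

lemma isZero_ε_of_torD (f : A) (L : Dual.D A) (h : TorD f L) :
    IsZero ((ε (algebraMap A (Localization.Away f))).obj L) := by
  apply SuppD2.isZero_mapDerivedCategory_obj
  intro i
  haveI hs : Subsingleton (TensorProduct A (Localization.Away f) (Dual.HD A L i)) :=
    subsingleton_away_tensor f (Dual.HD A L i) (h i)
  have h1 : IsZero (ModuleCat.of (Localization.Away f)
      (TensorProduct A (Localization.Away f) (Dual.HD A L i))) :=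
    ModuleCat.isZero_of_subsingleton _
  exact h1.of_iso (extIso (B := Localization.Away f) (Dual.HD A L i)).symm

lemma noMapsToLoc_of_torD (f : A) (L : Dual.D A) (h : TorD f L) : NoMapsToLoc f L := by
  intro W φ
  have hz := isZero_ε_of_torD f L h
  have h1 : (flatAdjEquiv (algebraMap A (Localization.Away f)) _ W).symm φ = 0 :=
    hz.eq_of_src _ _
  have h2 := congrArg (flatAdjEquiv (algebraMap A (Localization.Away f)) _ W) h1
  rw [AddEquiv.apply_symm_apply, map_zero] at h2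
  exact h2

/-- the projection of the iterated Čech complex to the complex -/
noncomputable def cechProj (K : DRing.Cx A) : ∀ fs : List A, cechCx K fs ⟶ K
  | [] => 𝟙 K
  | f :: l => mappingCocone.fst (locCxUnit (Submonoid.powers f) (cechCx K l)) ≫ cechProj K l

/-- the Čech complex is the coreflection into torsion objects -/
theorem bijective_comp_cechProj (K : DRing.Cx A) (L : Dual.D A) :
    ∀ fs : List A, (∀ f ∈ fs, TorD f L) →
      Function.Bijective (fun χ : L ⟶ (Q.obj (cechCx K fs) : Dual.D A) =>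
        χ ≫ Q.map (cechProj K fs))
  | [], _ => by
    have h0 : (Q.map (cechProj K []) : (Q.obj (cechCx K []) : Dual.D A) ⟶ Q.obj K) =
        𝟙 (Q.obj K) := Q.map_id K
    have h1 : ∀ χ : L ⟶ (Q.obj (cechCx K []) : Dual.D A), χ ≫ Q.map (cechProj K []) = χ :=
      fun χ => (congrArg (fun z => χ ≫ z) h0).trans (Category.comp_id χ)
    refine ⟨fun χ χ' hχ => ?_, fun χ => ⟨χ, h1 χ⟩⟩
    exact (h1 χ).symm.trans (hχ.trans (h1 χ'))
  | f :: l, h => by
    have h1 := bijective_comp_fst f (cechCx K l) L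
      (noMapsToLoc_of_torD f L (h f List.mem_cons_self))
    have h2 := bijective_comp_cechProj K L l (fun g hg => h g (List.mem_cons_of_mem _ hg))
    have hc : (fun χ : L ⟶ (Q.obj (cechCx K (f :: l)) : Dual.D A) =>
        χ ≫ Q.map (cechProj K (f :: l))) =
        (fun χ : L ⟶ (Q.obj (cechCx K l) : Dual.D A) => χ ≫ Q.map (cechProj K l)) ∘
        (fun χ : L ⟶ (Q.obj (cechStep f (cechCx K l)) : Dual.D A) =>
          χ ≫ Q.map (mappingCocone.fst (locCxUnit (Submonoid.powers f) (cechCx K l)))) := by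
      funext χ
      change χ ≫ Q.map (mappingCocone.fst (locCxUnit (Submonoid.powers f) (cechCx K l)) ≫
        cechProj K l) = _
      rw [Functor.map_comp, ← Category.assoc]
      rfl
    rw [hc]
    exact h2.comp h1

end Ring

/-! ### the scheme side -/

section Scheme

variable {R : CommRingCat.{u}} {fs : List R} [PreservesFiniteLimits (tilde.functor R)]

section Adj

variable [DCoh.HasRpush (UU R fs).ι]
  (adj : DCoh.restrictD (UU R fs).ι ⊣ DCoh.Rpush (UU R fs).ι)
  (E : DCoh.D (Spec (CommRingCat.of R)))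

include adj in
/-- maps from objects vanishing on `U` to `E` factor uniquely through any cocone of the unit -/
lemma bijective_comp_c (C : DCoh.D (Spec (CommRingCat.of R))) (c : C ⟶ E)
    (w : (DCoh.Rpush (UU R fs).ι).obj ((DCoh.restrictD (UU R fs).ι).obj E) ⟶ C⟦(1 : ℤ)⟧)
    (hT : Triangle.mk c (adj.unit.app E) w ∈ distTriang (DCoh.D (Spec (CommRingCat.of R))))
    (T : DCoh.D (Spec (CommRingCat.of R))) (hT0 : IsZero ((RU R fs).obj T)) :
    Function.Bijective (fun χ : T ⟶ C => χ ≫ c) :=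
  bijective_comp_mor₁ _ hT T (fun φ => hom_Rpush_eq_zero adj T hT0 _ φ)
    (fun φ => hom_Rpush_shift_eq_zero adj T hT0 _ (-1) φ)

include adj in
/-- a cocone of the unit at an object of `D_QCoh` lies in `D_QCoh` and vanishes on `U` -/
lemma cocone_props (hE : DCoh.IsQCohD E) (C : DCoh.D (Spec (CommRingCat.of R))) (c : C ⟶ E)
    (w : (DCoh.Rpush (UU R fs).ι).obj ((DCoh.restrictD (UU R fs).ι).obj E) ⟶ C⟦(1 : ℤ)⟧)
    (hT : Triangle.mk c (adj.unit.app E) w ∈ distTriang (DCoh.D (Spec (CommRingCat.of R)))) :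
    DCoh.IsQCohD C ∧ IsZero ((RU R fs).obj C) := by
  have hRq : DCoh.IsQCohD ((DCoh.Rpush (UU R fs).ι).obj ((DCoh.restrictD (UU R fs).ι).obj E)) :=
    LC17.main (UU R fs).ι _ (isQCohD_RU E hE)
  refine ⟨isQCohD_obj₁ _ hT hE hRq, ?_⟩
  have hT' := (RU R fs).map_distinguished _ hT
  haveI : IsIso ((RU R fs).map (adj.unit.app E)) := CxA.isIso_restrict_unit (UU R fs).ι adj E
  exact (Triangle.isZero₁_iff_isIso₂ _ hT').2
    (show IsIso ((RU R fs).map (adj.unit.app E)) from inferInstance)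

end Adj

/-- objects of `D_QCoh` vanishing on `U` come from torsion objects of `D(R)` -/
lemma exists_tors (T : DCoh.D (Spec (CommRingCat.of R))) (hq : DCoh.IsQCohD T)
    (h0 : IsZero ((RU R fs).obj T)) :
    ∃ (L : DA R) (_ : (TD R).obj L ≅ T), ∀ f ∈ fs, TorsObj f L := by
  obtain ⟨L, ⟨e⟩⟩ := ((LC13.main R).2.2 T).1 hq
  exact ⟨L, e, fun f hf =>
    torsObj_of_isZero_RU_TD L (IsZero.of_iso h0 ((RU R fs).mapIso e)) f hf⟩

/-- the coreflection property of the Čech complex, on the scheme side -/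
lemma bijective_comp_TD_cechProj (K : DRing.Cx R) (T : DCoh.D (Spec (CommRingCat.of R)))
    (hq : DCoh.IsQCohD T) (h0 : IsZero ((RU R fs).obj T)) :
    Function.Bijective (fun χ : T ⟶ (TD R).obj (Q.obj (cechCx K fs)) =>
      χ ≫ (TD R).map (Q.map (cechProj K fs))) := by
  obtain ⟨hfull, hfaith, -⟩ := LC13.main R
  haveI := hfull
  haveI := hfaith
  obtain ⟨L, e, hL⟩ := exists_tors (fs := fs) T hq h0
  have hb := bijective_comp_cechProj K L fs hL
  constructor
  · intro χ₁ χ₂ h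
    dsimp only at h
    obtain ⟨ψ₁, hψ₁⟩ := (TD R).map_surjective (e.hom ≫ χ₁)
    obtain ⟨ψ₂, hψ₂⟩ := (TD R).map_surjective (e.hom ≫ χ₂)
    have h1 : ψ₁ ≫ Q.map (cechProj K fs) = ψ₂ ≫ Q.map (cechProj K fs) := by
      apply (TD R).map_injective
      rw [Functor.map_comp, Functor.map_comp, hψ₁, hψ₂, Category.assoc, Category.assoc, h]
    have h2 : ψ₁ = ψ₂ := hb.1 h1
    rw [← cancel_epi e.hom, ← hψ₁, ← hψ₂, h2]
  · intro φ
    obtain ⟨ψ, hψ⟩ := (TD R).map_surjective (e.hom ≫ φ)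
    obtain ⟨ψ', hψ'⟩ := hb.2 ψ
    refine ⟨e.inv ≫ (TD R).map ψ', ?_⟩
    dsimp only at hψ' ⊢
    rw [Category.assoc, ← Functor.map_comp, hψ', hψ, Iso.inv_hom_id_assoc]

variable [CxOX.HasRgammaZ (UU R fs).ι]

/-- the sheafified Čech complex represents `RΓ_Z` -/
theorem main (K : DRing.Cx R) :
    Nonempty ((TD R).obj (Q.obj (cechCx K fs)) ≅
      (CxOX.RgammaZ (UU R fs).ι).obj ((TD R).obj (Q.obj K))) := by
  haveI := SuppD3.hasRpush (UU R fs).ι
  obtain ⟨adj⟩ := CxI.nonempty_adj (UU R fs).ι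
  let E : DCoh.D (Spec (CommRingCat.of R)) := (TD R).obj (Q.obj K)
  have hE : DCoh.IsQCohD E := LC13.isQCohD_tildeD R _
  obtain ⟨δ, hT⟩ := CxH.exists_triangle_unit (UU R fs) adj E
  obtain ⟨hΓq, hΓ0⟩ := cocone_props adj E hE _ _ δ hT
  let G' : DCoh.D (Spec (CommRingCat.of R)) := (TD R).obj (Q.obj (cechCx K fs))
  have hG'q : DCoh.IsQCohD G' := LC13.isQCohD_tildeD R _
  have hG'0 : IsZero ((RU R fs).obj G') :=
    isZero_RU_TD _ (fun f hf => torD_cechCx K fs f hf)
  have h1 := bijective_comp_c adj E _ _ δ hT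
  obtain ⟨π', hπ'⟩ := (h1 G' hG'0).2 ((TD R).map (Q.map (cechProj K fs)))
  dsimp only at hπ'
  haveI : IsIso π' := by
    refine isIso_of_bijective_comp
      (fun T => DCoh.IsQCohD T ∧ IsZero ((RU R fs).obj T)) π' ⟨hG'q, hG'0⟩ ⟨hΓq, hΓ0⟩ ?_
    rintro T ⟨hTq, hT0⟩
    have h2 := bijective_comp_TD_cechProj K T hTq hT0
    have h3 := h1 T hT0
    have hc : (fun χ : T ⟶ G' => χ ≫ (TD R).map (Q.map (cechProj K fs))) =
        (fun χ : T ⟶ (CxOX.RgammaZ (UU R fs).ι).obj E => χ ≫ (CxOX.RgammaZToId (UU R fs).ι).app E) ∘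
        (fun χ : T ⟶ G' => χ ≫ π') := by
      funext χ
      change _ = (χ ≫ π') ≫ _
      rw [Category.assoc, hπ']
    rw [hc] at h2
    exact (Function.Bijective.of_comp_iff' h3 _).1 h2
  exact ⟨asIso π'⟩

end Scheme

end Groth.Agent.Lib.Helper26.LC28
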