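import Mathlib
import Groth.Agent.Lib.Helper26.LC26

set_option maxHeartbeats 400000
set_option linter.style.haveILetI false
set_option linter.unusedSectionVars false
set_option linter.unusedVariables false

universe u

open CategoryTheory CategoryTheory.Limits CategoryTheory.Pretriangulated AlgebraicGeometry
  DerivedCategory

namespace Groth.Agent.Lib.Helper26.LC29

open Groth.Agent.Lib.Helper26 Groth.Agent.Lib.Helper26.LC25 Groth.Agent.Lib.Helper26.LC26

attribute [local instance] HasDerivedCategory.standard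

section Ring

variable {A : Type u} [CommRing A]

/-- the inclusion of `K(l)` into the cone `K(g :: l)` -/
noncomputable def vK (g : A) (l : List A) : Kq A l ⟶ Kq A (g :: l) :=
  DerivedCategory.Q.map (CochainComplex.mappingCone.inr (g • 𝟙 (Koszul.koszul A l)))

lemma koszul_triangle' (g : A) (l : List A) :
    ∃ w : Kq A (g :: l) ⟶ (Kq A l)⟦(1 : ℤ)⟧,
      Triangle.mk (g • 𝟙 (Kq A l)) (vK g l) w ∈ distTriang (DA A) := by
  have h := DerivedCategory.mappingCone_triangle_distinguished (g • 𝟙 (Koszul.koszul A l))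
  have e : DerivedCategory.Q.map (g • 𝟙 (Koszul.koszul A l)) = g • 𝟙 (Kq A l) := by
    rw [Functor.map_smul, CategoryTheory.Functor.map_id]
  refine ⟨(DerivedCategory.Q.mapTriangle.obj
      (CochainComplex.mappingCone.triangle (g • 𝟙 (Koszul.koszul A l)))).mor₃, ?_⟩
  rw [← e]
  exact h

/-- the canonical map `A[0] ⟶ K(l)` -/
noncomputable def ιK : ∀ l : List A, S A ⟶ Kq A l
  | [] => 𝟙 _
  | g :: l => ιK l ≫ vK g l

/-- comparison maps between Koszul complexes on powers -/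
lemma exists_rho (e e' : ℕ) (hee' : e ≤ e') : ∀ l : List A,
    ∃ ρ : Kq A (l.map (fun a => a ^ e')) ⟶ Kq A (l.map (fun a => a ^ e)),
      ιK (l.map (fun a => a ^ e')) ≫ ρ = ιK (l.map (fun a => a ^ e)) := by
  intro l
  induction l with
  | nil => exact ⟨𝟙 _, Category.comp_id _⟩
  | cons g l ih =>
    obtain ⟨ρ₀, hρ₀⟩ := ih
    obtain ⟨w', hT'⟩ := koszul_triangle' (g ^ e') (l.map (fun a => a ^ e'))
    obtain ⟨w, hT⟩ := koszul_triangle' (g ^ e) (l.map (fun a => a ^ e))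
    have comm : (g ^ e' • 𝟙 (Kq A (l.map (fun a => a ^ e')))) ≫ ρ₀ =
        (g ^ (e' - e) • ρ₀) ≫ (g ^ e • 𝟙 (Kq A (l.map (fun a => a ^ e)))) := by
      rw [Linear.smul_comp, Category.id_comp, Linear.comp_smul, Category.comp_id,
        ← mul_smul, ← pow_add, Nat.add_sub_cancel' hee']
    obtain ⟨c, hc1, -⟩ := complete_distinguished_triangle_morphism _ _ hT' hT
      (g ^ (e' - e) • ρ₀) ρ₀ comm
    refine ⟨c, ?_⟩
    change (ιK (l.map (fun a => a ^ e')) ≫ vK (g ^ e') (l.map (fun a => a ^ e'))) ≫ c =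
      ιK (l.map (fun a => a ^ e)) ≫ vK (g ^ e) (l.map (fun a => a ^ e))
    have hc1' : vK (g ^ e') (l.map (fun a => a ^ e')) ≫ c =
        ρ₀ ≫ vK (g ^ e) (l.map (fun a => a ^ e)) := hc1
    calc (ιK (l.map (fun a => a ^ e')) ≫ vK (g ^ e') (l.map (fun a => a ^ e'))) ≫ c
        = ιK (l.map (fun a => a ^ e')) ≫ (vK (g ^ e') (l.map (fun a => a ^ e')) ≫ c) :=
          Category.assoc _ _ _
      _ = ιK (l.map (fun a => a ^ e')) ≫ (ρ₀ ≫ vK (g ^ e) (l.map (fun a => a ^ e))) :=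
          congrArg (fun x => ιK (l.map (fun a => a ^ e')) ≫ x) hc1'
      _ = (ιK (l.map (fun a => a ^ e')) ≫ ρ₀) ≫ vK (g ^ e) (l.map (fun a => a ^ e)) :=
          (Category.assoc _ _ _).symm
      _ = ιK (l.map (fun a => a ^ e)) ≫ vK (g ^ e) (l.map (fun a => a ^ e)) := by rw [hρ₀]

lemma tors_S0 (f : A) (M : DA A) (h0 : ∀ x : (HF 0).obj M, ∃ p : ℕ, f ^ p • x = 0)
    (β : S A ⟶ M) : ∃ p : ℕ, f ^ p • β = 0 := by
  obtain ⟨p, hp⟩ := h0 (((HF 0).map β).hom (gen A))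
  refine ⟨p, eq_zero_of_HF_eq_zero M _ ?_⟩
  rw [HF_map_smul]
  apply eq_zero_of_gen
  exact hp

/-- torsion of maps from the Koszul complex, with a range of degrees -/
theorem tors_Kq_range (f : A) : ∀ (l : List A) (M : DA A),
    (∀ i : ℤ, -(l.length : ℤ) ≤ i → i ≤ 0 → ∀ x : (HF i).obj M, ∃ p : ℕ, f ^ p • x = 0) →
    ∀ φ : Kq A l ⟶ M, ∃ p : ℕ, f ^ p • φ = 0 := by
  intro l
  induction l with
  | nil =>
    intro M hM φ
    exact tors_S0 f M (hM 0 (by simp) le_rfl) φ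
  | cons g l ih =>
    intro M hM φ
    have hlen : ((g :: l).length : ℤ) = (l.length : ℤ) + 1 := by simp
    obtain ⟨v, w, hT⟩ := koszul_triangle g l
    refine tors_of_triangle _ hT M f
      (ih M (fun i hi hi' x => hM i (by rw [hlen]; omega) hi' x)) ?_ φ
    intro ψ
    obtain ⟨ψ', hψ'⟩ := exists_shift_one _ M ψ
    have hM' : ∀ i : ℤ, -(l.length : ℤ) ≤ i → i ≤ 0 →
        ∀ x : (HF i).obj (M⟦(-1 : ℤ)⟧), ∃ p : ℕ, f ^ p • x = 0 := by
      intro i hi hi' x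
      let e : (HF i).obj (M⟦(-1 : ℤ)⟧) ≅ (HF (-1 + i)).obj M :=
        ((DerivedCategory.homologyFunctor (ModuleCat.{u} A) 0).shiftIso (-1) i (-1 + i) rfl).app M
      obtain ⟨p, hp⟩ := hM (-1 + i) (by rw [hlen]; omega) (by omega) (e.hom.hom x)
      refine ⟨p, ?_⟩
      apply e.toLinearEquiv.injective
      rw [map_smul, map_zero]
      exact hp
    obtain ⟨p, hp⟩ := ih (M⟦(-1 : ℤ)⟧) hM' ψ'
    exact ⟨p, smul_eq_zero_of_shift f p ψ ψ' hψ' hp⟩

/-- **maps from `A[0]` factor through the Koszul complex on powers** -/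
theorem exists_factor : ∀ (l : List A) (M : DA A),
    (∀ f ∈ l, ∀ i : ℤ, -(l.length : ℤ) < i → i ≤ 0 →
      ∀ x : (HF i).obj M, ∃ p : ℕ, f ^ p • x = 0) →
    ∀ s : S A ⟶ M, ∃ (e : ℕ) (ψ : Kq A (l.map (fun a => a ^ e)) ⟶ M),
      ιK (l.map (fun a => a ^ e)) ≫ ψ = s := by
  intro l
  induction l with
  | nil => intro M _ s; exact ⟨0, s, Category.id_comp s⟩
  | cons g l ih =>
    intro M hM s
    have hlen : ((g :: l).length : ℤ) = (l.length : ℤ) + 1 := by simp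
    obtain ⟨e₁, ψ₁, hψ₁⟩ := ih M
      (fun f hf i hi hi' x => hM f (List.mem_cons_of_mem _ hf) i (by rw [hlen]; omega) hi' x) s
    obtain ⟨p, hp⟩ := tors_Kq_range g (l.map (fun a => a ^ e₁)) M
      (fun i hi hi' x => hM g List.mem_cons_self i
        (by rw [hlen]; rw [List.length_map] at hi; omega) hi' x) ψ₁
    obtain ⟨n, hn1, hn2⟩ : ∃ n : ℕ, e₁ ≤ n ∧ p ≤ n := ⟨max e₁ p, le_max_left _ _, le_max_right _ _⟩
    obtain ⟨ρ, hρ⟩ := exists_rho e₁ n hn1 l
    obtain ⟨w, hT⟩ := koszul_triangle' (g ^ n) (l.map (fun a => a ^ n))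
    have hpow : g ^ n = g ^ (n - p) * g ^ p := by rw [← pow_add, Nat.sub_add_cancel hn2]
    have h0 : (g ^ n • 𝟙 (Kq A (l.map (fun a => a ^ n)))) ≫ (ρ ≫ ψ₁) = 0 := by
      rw [Linear.smul_comp, Category.id_comp, hpow, mul_smul, ← Linear.comp_smul, hp, comp_zero,
        smul_zero]
    obtain ⟨ψ, hψ⟩ := Triangle.yoneda_exact₂ _ hT (ρ ≫ ψ₁) h0
    refine ⟨n, ψ, ?_⟩
    have hψ' : ρ ≫ ψ₁ = vK (g ^ n) (l.map (fun a => a ^ n)) ≫ ψ := hψ
    calc (ιK (l.map (fun a => a ^ n)) ≫ vK (g ^ n) (l.map (fun a => a ^ n))) ≫ ψ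
        = ιK (l.map (fun a => a ^ n)) ≫ (vK (g ^ n) (l.map (fun a => a ^ n)) ≫ ψ) :=
          Category.assoc _ _ _
      _ = ιK (l.map (fun a => a ^ n)) ≫ (ρ ≫ ψ₁) :=
          congrArg (fun x => ιK (l.map (fun a => a ^ n)) ≫ x) hψ'.symm
      _ = (ιK (l.map (fun a => a ^ n)) ≫ ρ) ≫ ψ₁ := (Category.assoc _ _ _).symm
      _ = s := by rw [hρ, hψ₁]

end Ring

section Sch

variable {R : CommRingCat.{u}} {fs : List R} [PreservesFiniteLimits (tilde.functor R)]

variable (R) in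
/-- `tildeD(A[0]) ≅ O_X[0]` -/
noncomputable def θ : (TD R).obj (S R) ≅
    DCoh.inD (Spec (CommRingCat.of R)) (Coh.structureModule (Spec (CommRingCat.of R))) :=
  (tilde.functor R).mapDerivedCategoryFactors.app
      ((HomologicalComplex.single (ModuleCat.{u} R) (ComplexShape.up ℤ) 0).obj
        (ModuleCat.of R R)) ≪≫
    DerivedCategory.Q.mapIso
      ((HomologicalComplex.singleMapHomologicalComplex (tilde.functor R) (ComplexShape.up ℤ) 0).app
        (ModuleCat.of R R) ≪≫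
      (HomologicalComplex.single _ (ComplexShape.up ℤ) 0).mapIso (tildeSelf (R := R)))

/-- **sections of `E` factor through the Koszul complex on powers** -/
theorem main (E : DCoh.D (Spec (CommRingCat.of R))) (hE : DCoh.IsQCohD E)
    (hU : ∀ i : ℤ, -(fs.length : ℤ) < i → i ≤ 0 →
      IsZero ((DCoh.HD E i).restrict (UU R fs).ι))
    (s : DCoh.inD (Spec (CommRingCat.of R)) (Coh.structureModule (Spec (CommRingCat.of R))) ⟶ E) :
    ∃ (e : ℕ) (ψ : (TD R).obj (Kq R (fs.map (fun a => a ^ e))) ⟶ E)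
      (t : DCoh.inD (Spec (CommRingCat.of R)) (Coh.structureModule (Spec (CommRingCat.of R))) ⟶
        (TD R).obj (Kq R (fs.map (fun a => a ^ e)))), t ≫ ψ = s := by
  obtain ⟨M, ⟨eE⟩⟩ := ((LC13.main R).2.2 E).1 hE
  have hM : ∀ f ∈ fs, ∀ i : ℤ, -(fs.length : ℤ) < i → i ≤ 0 →
      ∀ x : (HF i).obj M, ∃ p : ℕ, f ^ p • x = 0 := by
    intro f hf i hi hi' x
    refine tors_of_isZero_restrict_tilde (fs := fs) ((HF i).obj M) ?_ f hf x
    exact IsZero.of_iso (hU i hi hi') ((Scheme.Modules.restrictFunctor (UU R fs).ι).mapIso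
      ((hTD M i).symm ≪≫ (DerivedCategory.homologyFunctor _ i).mapIso eE))
  obtain ⟨hfull, hfaith, -⟩ := LC13.main R
  haveI := hfull
  haveI := hfaith
  obtain ⟨s₀, hs₀⟩ := (TD R).map_surjective ((θ R).hom ≫ s ≫ eE.inv)
  obtain ⟨e, ψ₀, hψ₀⟩ := exists_factor fs M hM s₀
  refine ⟨e, (TD R).map ψ₀ ≫ eE.hom, (θ R).inv ≫ (TD R).map (ιK _), ?_⟩
  rw [Category.assoc, ← Category.assoc ((TD R).map _), ← Functor.map_comp, hψ₀, hs₀]
  simp

end Sch

end Groth.Agent.Lib.Helper26.LC29
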