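import Mathlib
import Groth.Agent.Lib.Helper2.LCQC
import Groth.Agent.Lib.Helper4.QCZero
import Groth.Agent.Lib.Helper26.LC18
import Groth.Agent.S0010
import Groth.Agent.S0032
import Groth.Agent.S11319

set_option maxHeartbeats 400000
set_option linter.style.haveILetI false
set_option linter.unusedSectionVars false
set_option linter.unusedVariables false

universe u

open CategoryTheory CategoryTheory.Limits AlgebraicGeometry Opposite TopologicalSpace

namespace Groth.Agent.Lib.Helper26.LC30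

open Groth.Agent.Lib.Helper2 Groth.Agent.Lib.Helper6 Groth.Agent.Lib.Helper2.LCQC

/-- `R^{n+1}Γ_Z M` is a quotient of `R^n j_* (M|_U)` -/
lemma isZero_rightDerived_gammaZ_succ {U Y : Scheme.{u}} (j : U ⟶ Y) [IsOpenImmersion j]
    [HasInjectiveResolutions Y.Modules] (M : Y.Modules) (n : ℕ)
    (h : IsZero ((Coh.Rpush j n).obj (M.restrict j))) :
    IsZero (((DCoh.gammaZ j).rightDerived (n + 1)).obj M) := by
  have hex := RDSes.exact_at_A (CxOX.gammaZι j) (Scheme.Modules.restrictAdjunction j).unit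
    (hw j) (hses j) n M
  obtain ⟨e⟩ := nonempty_rightDerived_Ψ_iso j n M
  have h1 : IsZero (((Ψ j).rightDerived n).obj M) := h.of_iso e
  have h3 : IsZero (((𝟭 Y.Modules).rightDerived (n + 1)).obj M) :=
    RDSes.isZero_rightDerived_id M n
  exact hex.isZero_X₂ (h1.eq_of_src _ _) (h3.eq_of_tgt _ _)

/-- on an affine base, `R^n f_*` of a quasi-coherent module vanishes when `H^n` does -/
lemma isZero_Rpush_of_subsingleton_HH {X' S : Scheme.{u}} (f : X' ⟶ S) [QuasiCompact f]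
    [QuasiSeparated f] [IsAffine S] (G : X'.Modules) [G.IsQuasicoherent] (n : ℕ)
    (h : Subsingleton (Coh.HH X' G n)) : IsZero ((Coh.Rpush f n).obj G) := by
  haveI : ((Coh.Rpush f n).obj G).IsQuasicoherent := RpushQC6.isQuasicoherent_Rpush f G n
  apply Groth.Agent.Lib.Helper4.QCZero.isZero_of_subsingleton_top
  obtain ⟨e⟩ := Groth.Agent.S11319.result f G n
  haveI : Coh.IsQCoh G := ‹G.IsQuasicoherent›
  obtain ⟨e2⟩ := Groth.Agent.S0032.result f G n
  let e3 : (Coh.toAb ((Coh.Rpush f n).obj G)).obj.obj (op ⊤) ≅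
      ((Coh.RpushAb f n).obj (Coh.toAb G)).obj.obj (op ⊤) :=
    ((sheafSections _ _).obj (op ⊤)).mapIso e
  have hs : Subsingleton ↑(((Coh.RpushAb f n).obj (Coh.toAb G)).obj.obj (op ⊤)) :=
    e2.symm.toEquiv.subsingleton
  have hs2 : Subsingleton ↑((Coh.toAb ((Coh.Rpush f n).obj G)).obj.obj (op ⊤)) :=
    (e3.addCommGroupIsoToAddEquiv).toEquiv.subsingleton
  exact hs2

/-- vanishing of `R^n j_*` above the number of local equations of the complement -/
lemma isZero_Rpush_of_equations {X : Scheme.{u}} (U : X.Opens) (c : ℕ)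
    (hT : ∀ x : X, ∃ (V : X.Opens) (fs : Finset Γ(X, V)), x ∈ V ∧ fs.card ≤ c ∧
      X.zeroLocus (U := V) (↑fs : Set Γ(X, V)) ∩ (V : Set ↥X) = (U : Set ↥X)ᶜ ∩ (V : Set ↥X))
    (G : (U : Scheme.{u}).Modules) [G.IsQuasicoherent] (n : ℕ) (hn : c ≤ n) :
    IsZero ((Coh.Rpush U.ι n).obj G) := by
  apply Groth.Agent.Lib.Helper26.LC18.isZero_of_locally
  intro x
  obtain ⟨V, fs, hxV, hcard, hZ⟩ := hT x
  obtain ⟨_, ⟨W, hW, rfl⟩, hxW, hWV⟩ :=
    (X.isBasis_affineOpens).exists_subset_of_mem_open (show x ∈ (V : Set X) from hxV) V.2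
  have hWaff : IsAffineOpen W := hW
  have hWV' : W ≤ V := hWV
  refine ⟨W, hxW, ?_⟩
  obtain ⟨e⟩ := RpushQC6.nonempty_restrict_Rpush_iso U.ι W G n
  refine IsZero.of_iso ?_ e
  haveI : IsAffine (W : Scheme.{u}) := hWaff
  -- the cover
  let Y : (U : Scheme.{u}).Opens := U.ι ⁻¹ᵁ W
  let g : (Y : Scheme.{u}) ⟶ X := Y.ι ≫ U.ι
  let t := fs.card
  let fi : Fin t → Γ(X, V) := fun i => (fs.equivFin.symm i).1
  have hfi : ∀ i, fi i ∈ fs := fun i => (fs.equivFin.symm i).2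
  let D : Fin t → X.Opens := fun i => X.basicOpen (X.presheaf.map (homOfLE hWV').op (fi i))
  have hD : ∀ i, IsAffineOpen (D i) := fun i => hWaff.basicOpen _
  have hDeq : ∀ i, D i = W ⊓ X.basicOpen (fi i) := fun i => Scheme.basicOpen_res _ _ _
  -- points of basic opens of the equations lie in `U`
  have hbU : ∀ f ∈ fs, X.basicOpen f ≤ U := by
    intro f hf p hp
    by_contra hpU
    have hpV : p ∈ V := X.basicOpen_le f hp
    have h1 : p ∈ (U : Set X)ᶜ ∩ (V : Set X) := ⟨hpU, hpV⟩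
    rw [← hZ] at h1
    exact (X.mem_zeroLocus_iff _ p).1 h1.1 f hf hp
  have hUb : ∀ p : X, p ∈ U → p ∈ V → ∃ f ∈ fs, p ∈ X.basicOpen f := by
    intro p hpU hpV
    by_contra hcon
    push Not at hcon
    have h1 : p ∈ X.zeroLocus (U := V) (↑fs : Set Γ(X, V)) ∩ (V : Set X) :=
      ⟨(X.mem_zeroLocus_iff _ p).2 (fun f hf => hcon f hf), hpV⟩
    rw [hZ] at h1
    exact h1.1 hpU
  have hDrange : ∀ i, D i ≤ g.opensRange := by
    intro i p hp
    rw [hDeq] at hp
    have hpU : p ∈ U := hbU _ (hfi i) hp.2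
    exact ⟨⟨⟨p, hpU⟩, hp.1⟩, rfl⟩
  let O : Fin t → (Y : Scheme.{u}).Opens := fun i => g ⁻¹ᵁ (D i)
  have hO : ∀ i, IsAffineOpen (O i) := fun i => (hD i).preimage_of_isOpenImmersion g (hDrange i)
  have hcov : ⨆ i, O i = ⊤ := by
    rw [eq_top_iff]
    intro y _
    have hyU : g y ∈ U := (Y.ι y).2
    have hyW : g y ∈ W := y.2
    obtain ⟨f, hf, hyf⟩ := hUb (g y) hyU (hWV' hyW)
    refine Opens.mem_iSup.2 ⟨fs.equivFin ⟨f, hf⟩, ?_⟩
    change g y ∈ D _
    rw [hDeq]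
    refine ⟨hyW, ?_⟩
    simpa [fi] using hyf
  haveI : CompactSpace (Y : Scheme.{u}) := by
    rw [← isCompact_univ_iff]
    have h1 : (Set.univ : Set (Y : Scheme.{u})) = ⋃ i, (O i : Set (Y : Scheme.{u})) := by
      rw [← Opens.coe_iSup, hcov]
      rfl
    rw [h1]
    exact isCompact_iUnion (fun i => (hO i).isCompact)
  haveI : QuasiCompact (U.ι ∣_ W) :=
    (HasAffineProperty.iff_of_isAffine (P := @QuasiCompact)).2 this
  have hdiag : IsAffineHom (pullback.diagonal (U.ι ∣_ W)) := inferInstance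
  have hd : ∀ V₁ V₂ : (Y : Scheme.{u}).Opens, IsAffineOpen V₁ → IsAffineOpen V₂ →
      IsAffineOpen (V₁ ⊓ V₂) := fun V₁ V₂ h1 h2 =>
    isAffineHom_diagonal_iff.mp hdiag ⊤ (isAffineOpen_top _) V₁ (by simp) V₂ (by simp) h1 h2
  haveI : (G.restrict (U.ι ⁻¹ᵁ W).ι).IsQuasicoherent := inferInstance
  apply isZero_Rpush_of_subsingleton_HH
  exact Groth.Agent.S0010.result _ t O hO hcov hd _ n (hcard.trans hn)

/-- **local cohomology sheaves vanish above the number of local equations** -/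
theorem main {X : Scheme.{u}} (U : X.Opens) [HasInjectiveResolutions X.Modules] (c : ℕ)
    (hT : ∀ x : X, ∃ (V : X.Opens) (fs : Finset Γ(X, V)), x ∈ V ∧ fs.card ≤ c ∧
      X.zeroLocus (U := V) (↑fs : Set Γ(X, V)) ∩ (V : Set ↥X) = (U : Set ↥X)ᶜ ∩ (V : Set ↥X))
    (F : X.Modules) (hF : Coh.IsQCoh F) (i : ℕ) (hi : c < i) :
    IsZero (((DCoh.gammaZ U.ι).rightDerived i).obj F) := by
  obtain ⟨n, rfl⟩ : ∃ n, i = n + 1 := ⟨i - 1, by omega⟩
  haveI : F.IsQuasicoherent := hF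
  apply isZero_rightDerived_gammaZ_succ
  exact isZero_Rpush_of_equations U c hT _ n (by omega)

end Groth.Agent.Lib.Helper26.LC30
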