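import Mathlib
import Groth.Prelude.Def_PerfAux
import Groth.Agent.Lib.Helper28.FinType
import Groth.Agent.Lib.Helper28.ModIsoCover
import Groth.Agent.Lib.Helper28.QCohPush
import Groth.Agent.Lib.Helper16.RS6
import Groth.Agent.Lib.Helper16.RS12
import Groth.Agent.Lib.Helper17.AffineSurj
import Groth.Agent.Lib.Helper17.CohKer
import Groth.Agent.Lib.Helper29.FreeIso4
import Groth.Agent.S9819

set_option maxHeartbeats 400000
set_option linter.style.haveILetI false
set_option linter.unusedSectionVars false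
set_option linter.unusedVariables false

universe u

open CategoryTheory CategoryTheory.Limits AlgebraicGeometry Opposite TopologicalSpace ZeroObject

namespace Groth.Agent.Lib.Helper26.LC31

open Groth.Agent.Lib.Helper28.QCohLoc

variable {X Y : Scheme.{u}} (f : X ⟶ Y)

/-- an epimorphism of quasi-coherent modules is surjective on sections over affine opens -/
lemma surjective_app_of_epi {Z : Scheme.{u}} {E G : Z.Modules} (π : E ⟶ G) [Epi π]
    [E.IsQuasicoherent] [G.IsQuasicoherent] {U : Z.Opens} (hU : IsAffineOpen U) :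
    Function.Surjective (π.app U) := by
  let S : ShortComplex Z.Modules := ShortComplex.mk (kernel.ι π) π (kernel.condition π)
  have hS : S.ShortExact :=
    { exact := ShortComplex.exact_of_f_is_kernel _ (kernelIsKernel π)
      mono_f := inferInstanceAs (Mono (kernel.ι π))
      epi_g := inferInstanceAs (Epi π) }
  haveI : S.X₁.IsQuasicoherent := Groth.Agent.Lib.Helper17.CohKer.isQuasicoherent_kernel π
  exact Groth.Agent.Lib.Helper17.AffineSurj.surjective_app_of_shortExact S hS hU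

/-- one section over the preimage of an affine open is hit by a map from the pullback of a
finite locally free module -/
lemma exists_hit [IsAffineHom f] [CompactSpace Y] [QuasiSeparatedSpace Y]
    (hY : PerfAux.HasResolutionProperty Y) (M : X.Modules) [M.IsQuasicoherent]
    (V : Y.affineOpens) (m : Γ(M, f ⁻¹ᵁ V.1)) :
    ∃ (E : X.Modules) (Φ : E ⟶ M), FlatMod.IsFinLocFree E ∧
      ∃ y : Γ(E, f ⁻¹ᵁ V.1), Φ.app (f ⁻¹ᵁ V.1) y = m := by
  let N : Y.Modules := (Scheme.Modules.pushforward f).obj M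
  haveI : N.IsQuasicoherent := isQuasicoherent_pushforward f M
  haveI : Coh.IsQCoh N := ‹N.IsQuasicoherent›
  obtain ⟨G, i, hmono, hGq, hGft, g, hg⟩ := Groth.Agent.S9819.result N V m
  obtain ⟨E', π, hE', hπ⟩ := hY G hGq hGft
  haveI : G.IsQuasicoherent := hGq
  haveI : E'.IsQuasicoherent :=
    Groth.Agent.Lib.Helper29.FreeIso.isQuasicoherent_of_isFinLocFree _ hE'
  obtain ⟨e, he⟩ := surjective_app_of_epi π V.2 g
  let adj := Scheme.Modules.pullbackPushforwardAdjunction f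
  let φ : E' ⟶ N := π ≫ i
  let φs : (Scheme.Modules.pullback f).obj E' ⟶ M := (adj.homEquiv E' M).symm φ
  refine ⟨(Scheme.Modules.pullback f).obj E', φs,
    Groth.Agent.Lib.Helper16.RS.isFinLocFree_pullback f E' hE', ?_⟩
  have h1 : φ = adj.unit.app E' ≫ (Scheme.Modules.pushforward f).map φs := by
    have := adj.homEquiv_unit (X := E') (Y := M) (f := φs)
    rw [← this]
    simp [φs]
  refine ⟨(adj.unit.app E').app V.1 e, ?_⟩
  have h2 : φ.app V.1 e = m := by
    change i.app V.1 (π.app V.1 e) = m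
    rw [he]
    exact hg
  rw [h1] at h2
  exact h2

/-- finitely many sections are hit simultaneously -/
lemma exists_hit_finset [IsAffineHom f] [CompactSpace Y] [QuasiSeparatedSpace Y]
    (hY : PerfAux.HasResolutionProperty Y) (M : X.Modules) [M.IsQuasicoherent]
    (S : Finset (Σ V : Y.affineOpens, Γ(M, f ⁻¹ᵁ V.1))) :
    ∃ (E : X.Modules) (Φ : E ⟶ M), FlatMod.IsFinLocFree E ∧
      ∀ p ∈ S, ∃ y : Γ(E, f ⁻¹ᵁ p.1.1), Φ.app (f ⁻¹ᵁ p.1.1) y = p.2 := by
  classical
  induction S using Finset.induction_on with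
  | empty =>
    refine ⟨(0 : X.Modules), 0, ?_, fun p hp => absurd hp (Finset.notMem_empty p)⟩
    intro y
    exact ⟨⊤, 0, trivial, ⟨((Scheme.Modules.restrictFunctor (⊤ : X.Opens).ι).map_isZero
      (isZero_zero _)).iso Groth.Agent.Lib.Helper16.RS.isZero_freeMod_zero⟩⟩
  | insert p S hp ih =>
    obtain ⟨E₁, Φ₁, hE₁, h₁⟩ := ih
    obtain ⟨E₂, Φ₂, hE₂, y₂, hy₂⟩ := exists_hit f hY M p.1 p.2
    refine ⟨E₁ ⊞ E₂, biprod.desc Φ₁ Φ₂,
      Groth.Agent.Lib.Helper16.RS.isFinLocFree_biprod E₁ E₂ hE₁ hE₂, ?_⟩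
    intro q hq
    rcases Finset.mem_insert.1 hq with rfl | hq
    · refine ⟨(biprod.inr : E₂ ⟶ E₁ ⊞ E₂).app _ y₂, ?_⟩
      have : ((biprod.inr : E₂ ⟶ E₁ ⊞ E₂) ≫ biprod.desc Φ₁ Φ₂).app (f ⁻¹ᵁ q.1.1) y₂ = q.2 := by
        rw [biprod.inr_desc]
        exact hy₂
      exact this
    · obtain ⟨y₁, hy₁⟩ := h₁ q hq
      refine ⟨(biprod.inl : E₁ ⟶ E₁ ⊞ E₂).app _ y₁, ?_⟩
      have : ((biprod.inl : E₁ ⟶ E₁ ⊞ E₂) ≫ biprod.desc Φ₁ Φ₂).app (f ⁻¹ᵁ q.1.1) y₁ = q.2 := by
        rw [biprod.inl_desc]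
        exact hy₁
      exact this

/-- **the resolution property passes up along affine morphisms** -/
theorem main [IsAffineHom f] [CompactSpace Y] [QuasiSeparatedSpace Y]
    (hY : PerfAux.HasResolutionProperty Y) : PerfAux.HasResolutionProperty X := by
  classical
  intro M hMq hMft
  haveI : M.IsQuasicoherent := hMq
  haveI : SheafOfModules.IsFiniteType (R := X.ringCatSheaf) M := hMft
  obtain ⟨t, ht⟩ := isCompact_univ.elim_finite_subcover
    (fun W : Y.affineOpens => ((W.1 : Y.Opens) : Set Y)) (fun W => W.1.2) (by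
      intro q _
      obtain ⟨_, ⟨W, hW, rfl⟩, hqW, -⟩ := (Y.isBasis_affineOpens).exists_subset_of_mem_open
        (Set.mem_univ q) isOpen_univ
      exact Set.mem_iUnion.2 ⟨⟨W, hW⟩, hqW⟩)
  have hfin : ∀ W : Y.affineOpens, Module.Finite Γ(X, f ⁻¹ᵁ W.1) Γ(M, f ⁻¹ᵁ W.1) := fun W =>
    Groth.Agent.Lib.Helper28.FinType.finite_of_isAffineOpen M (W.2.preimage f)
  choose G hG using fun W => (hfin W).fg_top
  let S : Finset (Σ V : Y.affineOpens, Γ(M, f ⁻¹ᵁ V.1)) := t.sigma G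
  obtain ⟨E, Φ, hE, hΦ⟩ := exists_hit_finset f hY M S
  refine ⟨E, Φ, hE, ?_⟩
  refine epi_of_affine_cover Φ (fun W : t => f ⁻¹ᵁ W.1.1) (fun W => W.1.2.preimage f) ?_
    (fun W => isLocOn_of_isQuasicoherent M (W.1.2.preimage f)) ?_
  · intro q
    have h1 := ht (Set.mem_univ (f q))
    obtain ⟨W, hW⟩ := Set.mem_iUnion.1 h1
    obtain ⟨hWt, hqW⟩ := Set.mem_iUnion.1 hW
    exact ⟨⟨W, hWt⟩, hqW⟩
  · intro W z
    have hz : z ∈ Submodule.span Γ(X, f ⁻¹ᵁ W.1.1) (G W.1 : Set Γ(M, f ⁻¹ᵁ W.1.1)) := by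
      rw [hG]
      trivial
    induction hz using Submodule.span_induction with
    | mem x hx => exact hΦ ⟨W.1, x⟩ (Finset.mem_sigma.2 ⟨W.2, hx⟩)
    | zero => exact ⟨0, map_zero _⟩
    | add x y _ _ hx hy =>
      obtain ⟨a, ha⟩ := hx
      obtain ⟨b, hb⟩ := hy
      exact ⟨a + b, by rw [map_add, ha, hb]⟩
    | smul r x _ hx =>
      obtain ⟨a, ha⟩ := hx
      exact ⟨r • a, by rw [Scheme.Modules.Hom.app_smul, ha]⟩

end Groth.Agent.Lib.Helper26.LC31
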