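import Mathlib
import Groth.Prelude.Def_PerfAux
import Groth.Prelude.Def_LCI2
import Groth.Agent.Lib.Helper28.RelSerre2
import Groth.Agent.Lib.Helper28.AmpleExtTensor2
import Groth.Agent.Lib.Helper28.TensorPowGen
import Groth.Agent.Lib.Helper28.DualInv
import Groth.Agent.Lib.Helper6.InvDual
import Groth.Agent.Lib.Helper16.RS6
import Groth.Agent.Lib.Helper29.FreeIso6

set_option maxHeartbeats 400000
set_option linter.style.haveILetI false
set_option linter.unusedSectionVars false
set_option linter.unusedVariables false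

universe u

open CategoryTheory CategoryTheory.Limits AlgebraicGeometry Opposite TopologicalSpace

namespace Groth.Agent.Lib.Helper26.LC33

open Groth.Agent.Lib.Helper28 Groth.Agent.Lib.Helper28.QCohLoc Groth.Agent.Lib.Helper28.HomMod
  Groth.Agent.Lib.Helper28.GenLocus Groth.Agent.Lib.Helper28.TensorGen
  Groth.Agent.Lib.Helper29.FreeIso

variable {X : Scheme.{u}}

/-- a basis of `E` and a generator of `K` give a basis of `E ⊗ K` -/
theorem isBasisOn_tmulSec {E K : X.Modules} {U : X.Opens} {r : ℕ} {τ : Fin r → Γ(E, U)}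
    (h : IsBasisOn E U τ) {g : Γ(K, U)} (hg : IsGen K U g) :
    IsBasisOn (CohB1.tensorMod E K) U (fun j => tmulSec E K (τ j) g) := by
  have hsum : ∀ (T : X.Opens) (hT : T ≤ U) (c : Fin r → Γ(X, T)),
      (∑ j, c j • res (CohB1.tensorMod E K) hT (tmulSec E K (τ j) g) : Γ(CohB1.tensorMod E K, T)) =
        tmulLin E (res K hT g) (∑ j, c j • res E hT (τ j)) := by
    intro T hT c
    rw [map_sum]
    refine Finset.sum_congr rfl fun j _ => ?_
    rw [map_smul, tmulSec_res]
    rfl
  refine ⟨?_, ?_⟩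
  · intro T hT c hc
    rw [hsum] at hc
    have h0 : (∑ j, c j • res E hT (τ j) : Γ(E, T)) = 0 := by
      have := (tmulEquiv E (hg.res hT)).injective (a₁ := ∑ j, c j • res E hT (τ j)) (a₂ := 0)
        (by rw [map_zero]; exact hc)
      exact this
    exact h.1 T hT c h0
  · intro T hT t pt hpt
    let m := untw E (hg.res hT) t
    have hm : tmulSec E K m (res K hT g) = t := tmulSec_untw E (hg.res hT) t
    obtain ⟨T₁, h1, hpt₁, c, hc⟩ := h.2 T hT m pt hpt
    refine ⟨T₁, h1, hpt₁, c, ?_⟩
    rw [hsum, ← hm, tmulSec_res, hc, res_res]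
    rfl

/-- the tensor product of a finite locally free module with an invertible module is finite locally
free -/
theorem isFinLocFree_tensor_invertible (E K : X.Modules) (hE : FlatMod.IsFinLocFree E)
    (hK : PicF.IsInvertible K) : FlatMod.IsFinLocFree (CohB1.tensorMod E K) := by
  intro x
  obtain ⟨U, n, hxU, ⟨e⟩⟩ := hE x
  obtain ⟨τ, hτ⟩ := exists_isBasisOn_of_iso E U n e
  obtain ⟨V, g, hxV, hg⟩ := exists_isGen K hK x
  have hτ' := hτ.mono (inf_le_left : U ⊓ V ≤ U)
  have hg' := hg.res (inf_le_right : U ⊓ V ≤ V)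
  exact ⟨U ⊓ V, n, ⟨hxU, hxV⟩, (isBasisOn_tmulSec hτ' hg').nonempty_iso⟩

variable {Y : Scheme.{u}} (f : X ⟶ Y)

/-- **a scheme carrying a relatively ample module over a quasi-compact quasi-separated base with the
resolution property has the resolution property** -/
theorem main [CompactSpace Y] [QuasiSeparatedSpace Y]
    (hY : PerfAux.HasResolutionProperty Y) (L : X.Modules) (hL : RelAmple.IsRelAmple f L) :
    PerfAux.HasResolutionProperty X := by
  intro M hMq hMft
  haveI : M.IsQuasicoherent := hMq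
  haveI : SheafOfModules.IsFiniteType (R := X.ringCatSheaf) M := hMft
  haveI : QuasiCompact f := hL.1
  have hLinv : PicF.IsInvertible L := AmpleLocal.isInvertible_of_isRelAmple f L hL
  obtain ⟨m₀, hm⟩ := RelSerre.exists_forall_epi_of_isRelAmple f L hLinv hL M
  obtain ⟨F, φ, hFq, hFft, hφ⟩ := hm m₀ le_rfl
  obtain ⟨E', π', hE', hπ'⟩ := hY F hFq hFft
  have hK : PicF.IsInvertible (CohB1.tensorPow L m₀) := isInvertible_tensorPow hLinv m₀
  have hK' : PicF.IsInvertible (dual (CohB1.tensorPow L m₀)) := isInvertible_dual hK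
  obtain ⟨e⟩ := Groth.Agent.Lib.Helper6.InvDual.nonempty_tensor_dual_iso (CohB1.tensorPow L m₀) hK
  obtain ⟨c⟩ := RelSerre.nonempty_tensor_cancel_iso M (CohB1.tensorPow L m₀)
    (dual (CohB1.tensorPow L m₀)) e
  haveI : (Scheme.Modules.pullback f).PreservesEpimorphisms :=
    Functor.preservesEpimorphisms_of_adjunction (Scheme.Modules.pullbackPushforwardAdjunction f)
  haveI := hπ'
  haveI := hφ
  haveI : Epi ((Scheme.Modules.pullback f).map π') := inferInstance
  let ρ : (Scheme.Modules.pullback f).obj E' ⟶ CohB1.tensorMod M (CohB1.tensorPow L m₀) :=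
    (Scheme.Modules.pullback f).map π' ≫ φ
  haveI : Epi ρ := epi_comp _ _
  haveI : Epi (LimSh.tensorModMap ρ (dual (CohB1.tensorPow L m₀))) :=
    RelSerre.epi_tensorModMap ρ _
  refine ⟨CohB1.tensorMod ((Scheme.Modules.pullback f).obj E') (dual (CohB1.tensorPow L m₀)),
    LimSh.tensorModMap ρ (dual (CohB1.tensorPow L m₀)) ≫ c.hom,
    isFinLocFree_tensor_invertible _ _
      (Groth.Agent.Lib.Helper16.RS.isFinLocFree_pullback f E' hE') hK', ?_⟩
  exact epi_comp _ _

end Groth.Agent.Lib.Helper26.LC33
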