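import Mathlib
import Groth.Agent.Lib.Helper28.DualInv
import Groth.Agent.Lib.Helper29.FreeIso6

set_option maxHeartbeats 400000
set_option linter.style.haveILetI false
set_option linter.unusedSectionVars false
set_option linter.unusedVariables false

universe u

open CategoryTheory CategoryTheory.Limits AlgebraicGeometry Opposite TopologicalSpace

namespace Groth.Agent.Lib.Helper26.RPD1

open Groth.Agent.Lib.Helper28 Groth.Agent.Lib.Helper28.QCohLoc Groth.Agent.Lib.Helper28.HomMod
  Groth.Agent.Lib.Helper29.FreeIso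

variable {X : Scheme.{u}} {L : X.Modules} {U : X.Opens} {r : ℕ} {τ : Fin r → Γ(L, U)}

/-- uniqueness of the coefficients with respect to a basis of sections -/
theorem coef_unique (h : IsBasisOn L U τ) {T : X.Opens} (hT : T ≤ U) (c c' : Fin r → Γ(X, T))
    (hc : (∑ j, c j • res L hT (τ j) : Γ(L, T)) = ∑ j, c' j • res L hT (τ j)) : c = c' := by
  funext j
  have h0 : (∑ j, (c j - c' j) • res L hT (τ j) : Γ(L, T)) = 0 := by
    simp only [sub_smul, Finset.sum_sub_distrib]
    rw [hc, sub_self]
  exact sub_eq_zero.1 (h.1 T hT (fun j => c j - c' j) h0 j)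

/-- existence of global coefficients -/
theorem exists_coef (h : IsBasisOn L U τ) {T : X.Opens} (hT : T ≤ U) (t : Γ(L, T)) :
    ∃ c : Fin r → Γ(X, T), t = ∑ j, c j • res L hT (τ j) := by
  choose T₁ h1 hpt c hc using fun pt : T => h.2 T hT t pt.1 pt.2
  have hcover : T ≤ iSup T₁ := fun q hq => Opens.mem_iSup.2 ⟨⟨q, hq⟩, hpt ⟨q, hq⟩⟩
  have hcompat : ∀ (p q : T) (j : Fin r),
      resO (inf_le_left : T₁ p ⊓ T₁ q ≤ T₁ p) (c p j) =
        resO (inf_le_right : T₁ p ⊓ T₁ q ≤ T₁ q) (c q j) := by
    intro p q
    have hle : T₁ p ⊓ T₁ q ≤ U := (inf_le_left.trans (h1 p)).trans hT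
    have key := coef_unique h hle
      (fun j => resO (inf_le_left : T₁ p ⊓ T₁ q ≤ T₁ p) (c p j))
      (fun j => resO (inf_le_right : T₁ p ⊓ T₁ q ≤ T₁ q) (c q j)) ?_
    · intro j
      exact congrFun key j
    · have e1 := congrArg (res L (inf_le_left : T₁ p ⊓ T₁ q ≤ T₁ p)) (hc p)
      have e2 := congrArg (res L (inf_le_right : T₁ p ⊓ T₁ q ≤ T₁ q)) (hc q)
      rw [res_res, res_sum_smul] at e1 e2
      simp only [res_res] at e1 e2
      exact e1.symm.trans e2
  have hglue : ∀ j : Fin r, ∃ C : Γ(X, T), ∀ p : T, resO (h1 p) C = c p j := by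
    intro j
    obtain ⟨C, hC⟩ := exists_gluing (Coh.structureModule X) T₁ T h1 hcover (fun p => c p j)
      (fun p q => hcompat p q j)
    exact ⟨C, hC⟩
  choose C hC using hglue
  refine ⟨C, ?_⟩
  refine eq_of_locally_eq L T₁ T h1 hcover _ _ (fun p => ?_)
  rw [hc p, res_sum_smul]
  refine Finset.sum_congr rfl fun j _ => ?_
  rw [hC j p, res_res]

/-- the coefficient functions of a basis of sections -/
noncomputable def coef (h : IsBasisOn L U τ) {T : X.Opens} (hT : T ≤ U) (t : Γ(L, T)) : Fin r → Γ(X, T) :=
  (exists_coef h hT t).choose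

theorem coef_spec (h : IsBasisOn L U τ) {T : X.Opens} (hT : T ≤ U) (t : Γ(L, T)) :
    t = ∑ j, coef h hT t j • res L hT (τ j) := (exists_coef h hT t).choose_spec

theorem coef_eq (h : IsBasisOn L U τ) {T : X.Opens} (hT : T ≤ U) (t : Γ(L, T)) (c : Fin r → Γ(X, T))
    (hc : t = ∑ j, c j • res L hT (τ j)) : coef h hT t = c :=
  coef_unique h hT _ _ ((coef_spec h hT t).symm.trans hc)

theorem coef_add (h : IsBasisOn L U τ) {T : X.Opens} (hT : T ≤ U) (t t' : Γ(L, T)) :
    coef h hT (t + t') = coef h hT t + coef h hT t' := by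
  apply coef_eq
  conv_lhs => rw [coef_spec h hT t, coef_spec h hT t']
  rw [← Finset.sum_add_distrib]
  refine Finset.sum_congr rfl fun j _ => ?_
  rw [Pi.add_apply, add_smul]

theorem coef_smul (h : IsBasisOn L U τ) {T : X.Opens} (hT : T ≤ U) (a : Γ(X, T)) (t : Γ(L, T)) :
    coef h hT (a • t) = fun j => a * coef h hT t j := by
  apply coef_eq
  conv_lhs => rw [coef_spec h hT t]
  rw [Finset.smul_sum]
  refine Finset.sum_congr rfl fun j _ => ?_
  rw [smul_smul]

theorem coef_res (h : IsBasisOn L U τ) {T T' : X.Opens} (hT : T ≤ U) (h' : T' ≤ T) (t : Γ(L, T)) :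
    coef h (h'.trans hT) (res L h' t) = fun j => resO h' (coef h hT t j) := by
  apply coef_eq
  conv_lhs => rw [coef_spec h hT t]
  rw [res_sum_smul]
  refine Finset.sum_congr rfl fun j _ => ?_
  rw [res_res]

theorem coef_basis (h : IsBasisOn L U τ) {T : X.Opens} (hT : T ≤ U) (i : Fin r) :
    coef h hT (res L hT (τ i)) = fun j => if j = i then 1 else 0 := by
  classical
  apply coef_eq
  rw [Finset.sum_eq_single i]
  · rw [if_pos rfl, one_smul]
  · intro j _ hj
    rw [if_neg hj, zero_smul]
  · intro hi
    exact absurd (Finset.mem_univ i) hi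

/-- the dual basis -/
noncomputable def dualSec (h : IsBasisOn L U τ) (j : Fin r) : Γ(dual L, U) :=
  mkSec (fun W hW x => (coef h hW x j : Γ(X, W)))
    (fun W hW x y => by
      show coef h hW (x + y) j = coef h hW x j + coef h hW y j
      rw [coef_add]; rfl)
    (fun W hW a x => by
      show coef h hW (a • x) j = a * coef h hW x j
      rw [coef_smul])
    (fun W W' hW h' x => by
      show coef h (h'.trans hW) (res L h' x) j = resO h' (coef h hW x j)
      rw [coef_res])

theorem evO_dualSec (h : IsBasisOn L U τ) (j : Fin r) {W : X.Opens} (hW : W ≤ U) (x : Γ(L, W)) :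
    evO (dualSec h j) hW x = coef h hW x j := rfl

/-- the dual basis is a basis of the dual -/
theorem isBasisOn_dualSec (h : IsBasisOn L U τ) : IsBasisOn (dual L) U (dualSec h) := by
  classical
  refine ⟨?_, ?_⟩
  · intro T hT c hc i
    have h1 : evO (∑ j, c j • res (dual L) hT (dualSec h j) : Γ(dual L, T)) (le_refl T)
        (res L hT (τ i)) = c i := by
      have hsum : ∀ (s : Finset (Fin r)),
          evO (∑ j ∈ s, c j • res (dual L) hT (dualSec h j) : Γ(dual L, T)) (le_refl T)
            (res L hT (τ i)) = ∑ j ∈ s, c j * (if j = i then 1 else 0) := by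
        intro s
        induction s using Finset.induction_on with
        | empty => simp only [Finset.sum_empty]; rfl
        | insert a s ha ih =>
          rw [Finset.sum_insert ha, Finset.sum_insert ha, add_evO, ih, smul_evO, res_evO, resO_self,
            evO_dualSec, coef_basis]
      rw [hsum, Finset.sum_eq_single i]
      · rw [if_pos rfl, mul_one]
      · intro j _ hj
        rw [if_neg hj, mul_zero]
      · intro hi
        exact absurd (Finset.mem_univ i) hi
    rw [hc] at h1
    exact h1.symm.trans rfl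
  · intro T hT φ pt hpt
    refine ⟨T, le_refl T, hpt, fun j => evO φ (le_refl T) (res L hT (τ j)), ?_⟩
    rw [res_self]
    apply ext_evO
    intro W hW x
    have hsum : ∀ (s : Finset (Fin r)),
        evO (∑ j ∈ s, evO φ (le_refl T) (res L hT (τ j)) •
          res (dual L) ((le_refl T).trans hT) (dualSec h j) : Γ(dual L, T)) hW x =
          ∑ j ∈ s, resO hW (evO φ (le_refl T) (res L hT (τ j))) * coef h (hW.trans hT) x j := by
      intro s
      induction s using Finset.induction_on with
      | empty => simp only [Finset.sum_empty]; rfl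
      | insert a s ha ih =>
        rw [Finset.sum_insert ha, Finset.sum_insert ha, add_evO, ih, smul_evO, res_evO, evO_dualSec]
    rw [hsum]
    conv_lhs => rw [coef_spec h (hW.trans hT) x]
    have hsum2 : ∀ (s : Finset (Fin r)),
        evO φ hW (∑ j ∈ s, coef h (hW.trans hT) x j • res L (hW.trans hT) (τ j) : Γ(L, W)) =
          ∑ j ∈ s, coef h (hW.trans hT) x j * evO φ hW (res L (hW.trans hT) (τ j)) := by
      intro s
      induction s using Finset.induction_on with
      | empty =>
        simp only [Finset.sum_empty]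
        exact ev_zero φ hW
      | insert a s ha ih =>
        rw [Finset.sum_insert ha, Finset.sum_insert ha, evO_add, ih, evO_smul]
    rw [hsum2]
    refine Finset.sum_congr rfl fun j _ => ?_
    rw [mul_comm]
    congr 1
    have := evO_res φ (le_refl T) hW (res L hT (τ j))
    rw [res_res] at this
    exact this

/-- **the dual of a finite locally free module is finite locally free** -/
theorem isFinLocFree_dual (L : X.Modules) (hL : FlatMod.IsFinLocFree L) : FlatMod.IsFinLocFree (dual L) := by
  intro x
  obtain ⟨U, n, hxU, ⟨e⟩⟩ := hL x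
  obtain ⟨τ, hτ⟩ := exists_isBasisOn_of_iso L U n e
  exact ⟨U, n, hxU, (isBasisOn_dualSec hτ).nonempty_iso⟩

end Groth.Agent.Lib.Helper26.RPD1
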