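import Mathlib
import Groth.Agent.Lib.Helper28.DualInv
import Groth.Agent.Lib.Helper28.TensorIso
import Groth.Agent.Lib.Helper28.AmpleH1A
import Groth.Agent.Lib.Helper28.QCohGen

set_option maxHeartbeats 400000
set_option linter.style.haveILetI false
set_option linter.unusedSectionVars false
set_option linter.unusedVariables false

universe u

open CategoryTheory CategoryTheory.Limits AlgebraicGeometry Opposite TopologicalSpace

namespace Groth.Agent.Lib.Helper26.RPD2

open Groth.Agent.Lib.Helper28 Groth.Agent.Lib.Helper28.QCohLoc Groth.Agent.Lib.Helper28.HomMod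
  Groth.Agent.Lib.Helper28.TensorGen Groth.Agent.Lib.Helper28.TensorIso

variable {Y : Scheme.{u}} (M A : Y.Modules)

/-- `(m, λ) ↦ (x ↦ λ(x) • m)` -/
noncomputable def θβ (W : Y.Opens) (m : Γ(M, W)) (l : Γ(dual A, W)) : Γ(homMod A M, W) :=
  mkSec (fun W' h x => ((evO l h x : Γ(Y, W')) • res M h m : Γ(M, W')))
    (fun W' h x y => by
      show (evO l h (x + y) : Γ(Y, W')) • res M h m = _
      rw [evO_add, add_smul])
    (fun W' h a x => by
      show (evO l h (a • x : Γ(A, W')) : Γ(Y, W')) • res M h m = _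
      rw [evO_smul, mul_smul])
    (fun W' W'' h h' x => by
      show (evO l (h'.trans h) (res A h' x) : Γ(Y, W'')) • res M (h'.trans h) m =
        res M h' ((evO l h x : Γ(Y, W')) • res M h m)
      rw [evO_res, res_smul, res_res])

theorem ev_θβ (W : Y.Opens) (m : Γ(M, W)) (l : Γ(dual A, W)) {W' : Y.Opens} (h : W' ≤ W) (x : Γ(A, W')) :
    ev (θβ M A W m l) h x = (evO l h x : Γ(Y, W')) • res M h m := rfl

/-- the presheaf-level morphism `M ⊗ A^∨ ⟶ Hom(A, M)` -/
noncomputable def ΘPre : (show Y.PresheafOfModules from CohB1.tensorPre M (dual A)) ⟶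
    (PresheafOfModules.restrictScalars (𝟙 Y.ringCatSheaf.obj)).obj (homMod A M).val :=
  tensorDesc M (dual A) (homMod A M) (θβ M A)
    (fun W m m' l => by
      apply ext_ev
      intro W' h x
      rw [add_ev, ev_θβ, ev_θβ, ev_θβ, res_add, smul_add])
    (fun W m l l' => by
      apply ext_ev
      intro W' h x
      rw [add_ev, ev_θβ, ev_θβ, ev_θβ, add_evO, add_smul])
    (fun W a m l => by
      apply ext_ev
      intro W' h x
      rw [smul_ev, ev_θβ, ev_θβ, res_smul, smul_comm])
    (fun W a m l => by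
      apply ext_ev
      intro W' h x
      rw [smul_ev, ev_θβ, ev_θβ, smul_evO, mul_smul])
    (fun W W' h m l => by
      apply ext_ev
      intro W'' h'' x
      rw [res_ev, ev_θβ, ev_θβ, res_evO, res_res])

/-- the morphism `M ⊗ A^∨ ⟶ Hom(A, M)` -/
noncomputable def Θ : CohB1.tensorMod M (dual A) ⟶ homMod A M :=
  TensorIso.lift _ _ (ΘPre M A)

theorem Θ_tmulSec {W : Y.Opens} (m : Γ(M, W)) (l : Γ(dual A, W)) :
    (Θ M A).app W (tmulSec M (dual A) m l) = θβ M A W m l := by
  unfold Θ tmulSec ηT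
  exact AmpleH1.lift_app_unit _ _ _ W (ptmul M (dual A) m l)

/-- `(t, a) ↦ Θ(t)(a)` -/
noncomputable def πβ (W : Y.Opens) (t : Γ(CohB1.tensorMod M (dual A), W)) (a : Γ(A, W)) : Γ(M, W) :=
  ev ((Θ M A).app W t) (le_refl W) a

/-- the presheaf-level contraction `(M ⊗ A^∨) ⊗ A ⟶ M` -/
noncomputable def ctrPre : (show Y.PresheafOfModules from
      CohB1.tensorPre (CohB1.tensorMod M (dual A)) A) ⟶
    (PresheafOfModules.restrictScalars (𝟙 Y.ringCatSheaf.obj)).obj M.val :=
  tensorDesc (CohB1.tensorMod M (dual A)) A M (πβ M A)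
    (fun W t t' a => by
      unfold πβ
      rw [map_add, add_ev])
    (fun W t a a' => by
      unfold πβ
      rw [ev_add])
    (fun W c t a => by
      unfold πβ
      rw [Scheme.Modules.Hom.app_smul, smul_ev, resO_self])
    (fun W c t a => by
      unfold πβ
      rw [ev_smul])
    (fun W W' h t a => by
      unfold πβ
      rw [app_res, res_ev]
      exact ev_res ((Θ M A).app W t) (le_refl W) h a)

/-- the contraction `(M ⊗ A^∨) ⊗ A ⟶ M` -/
noncomputable def ctr : CohB1.tensorMod (CohB1.tensorMod M (dual A)) A ⟶ M :=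
  TensorIso.lift _ _ (ctrPre M A)

theorem ctr_tmulSec {W : Y.Opens} (t : Γ(CohB1.tensorMod M (dual A), W)) (a : Γ(A, W)) :
    (ctr M A).app W (tmulSec (CohB1.tensorMod M (dual A)) A t a) = πβ M A W t a := by
  unfold ctr tmulSec ηT
  exact AmpleH1.lift_app_unit _ _ _ W (ptmul (CohB1.tensorMod M (dual A)) A t a)

/-- the contraction is an epimorphism as soon as, locally, some functional takes the value `1` -/
theorem epi_ctr (hit : ∀ y : Y, ∃ (V : Y.Opens) (l : Γ(dual A, V)) (o : Γ(A, V)),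
    y ∈ V ∧ evO l (le_refl V) o = 1) : Epi (ctr M A) := by
  refine epi_of_locally_in_range (ctr M A) ?_
  intro U x pt hpt
  obtain ⟨V, l, o, hptV, hlo⟩ := hit pt
  refine ⟨U ⊓ V, inf_le_left, ⟨hpt, hptV⟩,
    tmulSec (CohB1.tensorMod M (dual A)) A
      (tmulSec M (dual A) (res M inf_le_left x) (res (dual A) (inf_le_right : U ⊓ V ≤ V) l))
      (res A (inf_le_right : U ⊓ V ≤ V) o), ?_⟩
  rw [ctr_tmulSec]
  unfold πβ
  rw [Θ_tmulSec, ev_θβ, res_self, res_evO]
  have h1 := evO_res l (le_refl V) (inf_le_right : U ⊓ V ≤ V) o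
  have h2 : evO l ((le_refl (U ⊓ V)).trans inf_le_right) (res A (inf_le_right : U ⊓ V ≤ V) o) =
      (1 : Γ(Y, U ⊓ V)) := by
    refine h1.trans ?_
    rw [hlo]
    exact map_one _
  rw [h2, one_smul]

end Groth.Agent.Lib.Helper26.RPD2
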