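import Mathlib
import Groth.Agent.S9716
import Groth.Agent.Lib.Helper26.RPD1

set_option maxHeartbeats 400000
set_option linter.style.haveILetI false
set_option linter.unusedSectionVars false
set_option linter.unusedVariables false

universe u

open CategoryTheory CategoryTheory.Limits AlgebraicGeometry Opposite TopologicalSpace

namespace Groth.Agent.Lib.Helper26.RPD3

open Groth.Agent.Lib.Helper28 Groth.Agent.Lib.Helper28.QCohLoc Groth.Agent.Lib.Helper28.HomMod
  Groth.Agent.Lib.Helper29.FreeIso Groth.Agent.Lib.Helper29.QCohStalk Groth.Agent.S9716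
  Groth.Agent.Lib.Helper26.RPD1

variable {X Y : Scheme.{u}} (f : X ⟶ Y)

/-- over a surjective morphism with `f_* O_X` finite locally free, locally some functional on `f_* O_X`
takes the value `1` at the unit section -/
theorem exists_retraction (hA : FlatMod.IsFinLocFree (PO f)) [Surjective f] (y : Y) :
    ∃ (V : Y.Opens) (l : Γ(dual (PO f), V)) (o : Γ(PO f, V)), y ∈ V ∧ evO l (le_refl V) o = 1 := by
  classical
  obtain ⟨U, n, hyU, ⟨e⟩⟩ := hA y
  obtain ⟨τ, hτ⟩ := exists_isBasisOn_of_iso (PO f) U n e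
  let one : Γ(PO f, U) := (toSM (1 : Γ(X, f ⁻¹ᵁ U)) : Γ(Coh.structureModule X, f ⁻¹ᵁ U))
  let c := coef hτ (le_refl U) one
  have hone : one = ∑ j, c j • res (PO f) (le_refl U) (τ j) := coef_spec hτ (le_refl U) one
  have hone' : (1 : Γ(X, f ⁻¹ᵁ U)) =
      ∑ j, f.app U (c j) * ofSM (show Γ(Coh.structureModule X, f ⁻¹ᵁ U) from τ j) := by
    have h1 := sum_PO f U c τ
    have h2 : (∑ j, c j • τ j : Γ(PO f, U)) = one := by
      rw [hone]
      refine Finset.sum_congr rfl fun j _ => ?_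
      rw [res_self]
    rw [h2] at h1
    exact h1
  obtain ⟨x, rfl⟩ := f.surjective y
  have hx : x ∈ f ⁻¹ᵁ U := hyU
  have hex : ∃ i, f x ∈ Y.basicOpen (c i) := by
    by_contra hno
    push Not at hno
    have hnu : ∀ j, X.presheaf.germ (f ⁻¹ᵁ U) x hx (f.app U (c j)) ∈
        IsLocalRing.maximalIdeal (X.presheaf.stalk x) := by
      intro j
      rw [IsLocalRing.mem_maximalIdeal, mem_nonunits_iff, ← Scheme.mem_basicOpen X _ x hx,
        ← Scheme.preimage_basicOpen]
      exact hno j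
    have h1 : X.presheaf.germ (f ⁻¹ᵁ U) x hx (1 : Γ(X, f ⁻¹ᵁ U)) ∈
        IsLocalRing.maximalIdeal (X.presheaf.stalk x) := by
      rw [hone', map_sum]
      refine Ideal.sum_mem _ fun j _ => ?_
      rw [map_mul]
      exact Ideal.mul_mem_right _ _ (hnu j)
    rw [map_one] at h1
    exact (Ideal.ne_top_iff_one _).1 (IsLocalRing.maximalIdeal.isMaximal _).ne_top h1
  obtain ⟨i, hi⟩ := hex
  let V : Y.Opens := Y.basicOpen (c i)
  have hV : V ≤ U := Y.basicOpen_le (c i)
  have hu : IsUnit (resO hV (c i)) := Y.toRingedSpace.isUnit_res_basicOpen (c i)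
  obtain ⟨u, hu'⟩ := hu
  refine ⟨V, ((↑u⁻¹ : Γ(Y, V)) • res (dual (PO f)) hV (dualSec hτ i) : Γ(dual (PO f), V)),
    res (PO f) hV one, hi, ?_⟩
  rw [smul_evO, resO_self, res_evO, evO_dualSec]
  have h3 := congrFun (coef_res hτ (le_refl U) hV one) i
  have h4 : coef hτ ((le_refl V).trans hV) (res (PO f) hV one) i = resO hV (c i) := h3
  rw [h4, ← hu']
  exact Units.inv_mul u

end Groth.Agent.Lib.Helper26.RPD3
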