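import Mathlib
import Groth.Prelude.Def_StMod
import Groth.Agent.S9716
import Groth.Agent.Lib.Helper28.TensorIso
import Groth.Agent.Lib.Helper28.AmpleH1A
import Groth.Agent.Lib.Helper28.ModIsoCover
import Groth.Agent.Lib.Helper28.QCohPush
import Groth.Agent.Lib.Helper17.TensorQC
import Groth.Agent.Lib.Helper17.PullbackBC
import Groth.Agent.Lib.Helper17.ModPullback

set_option maxHeartbeats 400000
set_option linter.style.haveILetI false
set_option linter.unusedSectionVars false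
set_option linter.unusedVariables false

universe u

open CategoryTheory CategoryTheory.Limits AlgebraicGeometry Opposite TopologicalSpace TensorProduct

namespace Groth.Agent.Lib.Helper26.RPD4

open Groth.Agent.Lib.Helper28 Groth.Agent.Lib.Helper28.QCohLoc
  Groth.Agent.Lib.Helper28.TensorGen Groth.Agent.Lib.Helper28.TensorIso
  Groth.Agent.Lib.Helper28.PullbackInv
  Groth.Agent.Lib.Helper29.QCohStalk Groth.Agent.S9716
  Groth.Agent.Lib.Helper17.TensorQC Groth.Agent.Lib.Helper17.PullbackBC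

variable {X Y : Scheme.{u}} (f : X ⟶ Y) (N : Y.Modules)

/-- the target `f_* f^* N` -/
noncomputable abbrev FF : Y.Modules :=
  (Scheme.Modules.pushforward f).obj ((Scheme.Modules.pullback f).obj N)

/-- `(n, a) ↦ a • f^* n` -/
noncomputable def ψβ (W : Y.Opens) (n : Γ(N, W)) (a : Γ(PO f, W)) : Γ(FF f N, W) :=
  ((ofSM (show Γ(Coh.structureModule X, f ⁻¹ᵁ W) from a) : Γ(X, f ⁻¹ᵁ W)) • pbs f N W n :
    Γ((Scheme.Modules.pullback f).obj N, f ⁻¹ᵁ W))

theorem ψβ_add₁ (W : Y.Opens) (n n' : Γ(N, W)) (a : Γ(PO f, W)) :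
    ψβ f N W (n + n') a = ψβ f N W n a + ψβ f N W n' a := by
  unfold ψβ
  rw [pbs_add]
  exact smul_add (M := Γ(X, f ⁻¹ᵁ W)) (A := Γ((Scheme.Modules.pullback f).obj N, f ⁻¹ᵁ W)) _ _ _

theorem ψβ_add₂ (W : Y.Opens) (n : Γ(N, W)) (a a' : Γ(PO f, W)) :
    ψβ f N W n (a + a') = ψβ f N W n a + ψβ f N W n a' := by
  unfold ψβ
  exact add_smul (R := Γ(X, f ⁻¹ᵁ W)) (M := Γ((Scheme.Modules.pullback f).obj N, f ⁻¹ᵁ W)) _ _ _

theorem ψβ_smul₁ (W : Y.Opens) (c : Γ(Y, W)) (n : Γ(N, W)) (a : Γ(PO f, W)) :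
    ψβ f N W (c • n) a = c • ψβ f N W n a := by
  unfold ψβ
  rw [pbs_smul]
  exact smul_comm (M := Γ(X, f ⁻¹ᵁ W)) (N := Γ(X, f ⁻¹ᵁ W))
    (α := Γ((Scheme.Modules.pullback f).obj N, f ⁻¹ᵁ W)) _ (f.app W c) _

theorem ψβ_smul₂ (W : Y.Opens) (c : Γ(Y, W)) (n : Γ(N, W)) (a : Γ(PO f, W)) :
    ψβ f N W n (c • a) = c • ψβ f N W n a := by
  unfold ψβ
  exact mul_smul (α := Γ(X, f ⁻¹ᵁ W)) (β := Γ((Scheme.Modules.pullback f).obj N, f ⁻¹ᵁ W))
    (f.app W c) _ _

theorem ψβ_res (W W' : Y.Opens) (h : W' ≤ W) (n : Γ(N, W)) (a : Γ(PO f, W)) :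
    ψβ f N W' (res N h n) (res (PO f) h a) = res (FF f N) h (ψβ f N W n a) := by
  unfold ψβ
  rw [pbs_res]
  exact (res_smul ((Scheme.Modules.pullback f).obj N) (f.preimage_mono h) _ _).symm

/-- the presheaf-level morphism -/
noncomputable def ψPre : (show Y.PresheafOfModules from CohB1.tensorPre N (PO f)) ⟶
    (PresheafOfModules.restrictScalars (𝟙 Y.ringCatSheaf.obj)).obj (FF f N).val :=
  tensorDesc N (PO f) (FF f N) (ψβ f N) (ψβ_add₁ f N) (ψβ_add₂ f N) (ψβ_smul₁ f N) (ψβ_smul₂ f N)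
    (ψβ_res f N)

/-- **the projection morphism** `N ⊗ f_* O_X ⟶ f_* f^* N` -/
noncomputable def ψ : CohB1.tensorMod N (PO f) ⟶ FF f N :=
  TensorIso.lift _ _ (ψPre f N)

theorem ψ_tmulSec {W : Y.Opens} (n : Γ(N, W)) (a : Γ(PO f, W)) :
    (ψ f N).app W (tmulSec N (PO f) n a) = ψβ f N W n a := by
  unfold ψ tmulSec ηT
  exact AmpleH1.lift_app_unit _ _ _ W (ptmul N (PO f) n a)

section iso

variable [IsAffineHom f] [N.IsQuasicoherent]

instance isQuasicoherent_PO : (PO f).IsQuasicoherent := by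
  haveI : (Coh.structureModule X).IsQuasicoherent := StMod.isQCoh_structureModule X
  exact isQuasicoherent_pushforward f (Coh.structureModule X)

instance isQuasicoherent_FF : (FF f N).IsQuasicoherent :=
  isQuasicoherent_pushforward f ((Scheme.Modules.pullback f).obj N)

theorem bijective_ψ_app {W : Y.Opens} (hW : IsAffineOpen W) :
    Function.Bijective ((ψ f N).app W) := by
  have hW' : IsAffineOpen (f ⁻¹ᵁ W) := hW.preimage f
  have hbc := isBC_pullback f hW hW' (le_refl _) N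
  let φ : Γ(Y, W) →+* Γ(X, f ⁻¹ᵁ W) := (f.appLE W (f ⁻¹ᵁ W) (le_refl _)).hom
  letI algφ : Algebra Γ(Y, W) Γ(X, f ⁻¹ᵁ W) := φ.toAlgebra
  obtain ⟨e, he⟩ := (isBC_iff φ _).mp hbc
  have hφ : ∀ c : Γ(Y, W), φ c = f.app W c := fun c => by
    show (f.appLE W (f ⁻¹ᵁ W) (le_refl _)).hom c = (f.app W).hom c
    rw [Scheme.Hom.app_eq_appLE]
  have hsm : ∀ (c : Γ(Y, W)) (s : Γ(X, f ⁻¹ᵁ W)), c • s = f.app W c * s := fun c s => by
    rw [Algebra.smul_def, ← hφ]
    rfl
  -- the swap map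
  let w : (Γ(N, W) ⊗[Γ(Y, W)] Γ(PO f, W)) →+ (Γ(X, f ⁻¹ᵁ W) ⊗[Γ(Y, W)] Γ(N, W)) :=
    TensorProduct.liftAddHom
      { toFun := fun n =>
          { toFun := fun a => (ofSM (show Γ(Coh.structureModule X, f ⁻¹ᵁ W) from a) : Γ(X, f ⁻¹ᵁ W)) ⊗ₜ[Γ(Y, W)] n
            map_zero' := TensorProduct.zero_tmul _ _
            map_add' := fun a a' => TensorProduct.add_tmul _ _ _ }
        map_zero' := by
          ext a
          exact TensorProduct.tmul_zero _ _
        map_add' := fun n n' => by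
          ext a
          exact TensorProduct.tmul_add _ _ _ }
      (fun c n a => by
        show (ofSM (show Γ(Coh.structureModule X, f ⁻¹ᵁ W) from a) : Γ(X, f ⁻¹ᵁ W)) ⊗ₜ[Γ(Y, W)] (c • n) =
          (f.app W c * ofSM (show Γ(Coh.structureModule X, f ⁻¹ᵁ W) from a) : Γ(X, f ⁻¹ᵁ W)) ⊗ₜ[Γ(Y, W)] n
        rw [← hsm, TensorProduct.smul_tmul])
  let w' : (Γ(X, f ⁻¹ᵁ W) ⊗[Γ(Y, W)] Γ(N, W)) →+ (Γ(N, W) ⊗[Γ(Y, W)] Γ(PO f, W)) :=
    TensorProduct.liftAddHom
      { toFun := fun s =>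
          { toFun := fun n => n ⊗ₜ[Γ(Y, W)] (show Γ(PO f, W) from (toSM s : Γ(Coh.structureModule X, f ⁻¹ᵁ W)))
            map_zero' := TensorProduct.zero_tmul _ _
            map_add' := fun n n' => TensorProduct.add_tmul _ _ _ }
        map_zero' := by
          ext n
          exact TensorProduct.tmul_zero _ _
        map_add' := fun s s' => by
          ext n
          exact TensorProduct.tmul_add _ _ _ }
      (fun c s n => by
        show n ⊗ₜ[Γ(Y, W)] (show Γ(PO f, W) from (toSM (c • s) : Γ(Coh.structureModule X, f ⁻¹ᵁ W))) =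
          (c • n) ⊗ₜ[Γ(Y, W)] (show Γ(PO f, W) from (toSM s : Γ(Coh.structureModule X, f ⁻¹ᵁ W)))
        rw [hsm, TensorProduct.smul_tmul]
        rfl)
  have hww' : ∀ z, w (w' z) = z := by
    intro z
    induction z using TensorProduct.induction_on with
    | zero => rw [map_zero, map_zero]
    | tmul s n => rfl
    | add x y hx hy => rw [map_add, map_add, hx, hy]
  have hw'w : ∀ z, w' (w z) = z := by
    intro z
    induction z using TensorProduct.induction_on with
    | zero => rw [map_zero, map_zero]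
    | tmul n a => rfl
    | add x y hx hy => rw [map_add, map_add, hx, hy]
  have hwbij : Function.Bijective w :=
    ⟨fun a b hab => by rw [← hw'w a, ← hw'w b, hab], fun z => ⟨w' z, hww' z⟩⟩
  -- the composite
  let u : PT N (PO f) W → Γ((Scheme.Modules.pullback f).obj N, f ⁻¹ᵁ W) :=
    fun ξ => (ψ f N).app W (η N (PO f) ξ)
  have hu_add : ∀ ξ ξ', u (ξ + ξ') = u ξ + u ξ' := fun ξ ξ' => by
    show (ψ f N).app W (η N (PO f) (ξ + ξ')) = _
    rw [η_add, map_add]
    rfl
  have hu_zero : u 0 = 0 := by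
    show (ψ f N).app W (η N (PO f) 0) = _
    rw [η_zero, map_zero]
    rfl
  have hkey : ∀ ξ : Γ(N, W) ⊗[Γ(Y, W)] Γ(PO f, W), e (u ξ) = w ξ := by
    intro ξ
    induction ξ using TensorProduct.induction_on with
    | zero =>
      rw [map_zero]
      exact (congrArg e hu_zero).trans (map_zero e)
    | tmul n a =>
      have h1 : u (n ⊗ₜ[Γ(Y, W)] a) = ψβ f N W n a := ψ_tmulSec f N n a
      have h2 := he n
      rw [res_self] at h2
      have h3 : e (ψβ f N W n a) =
          (ofSM (show Γ(Coh.structureModule X, f ⁻¹ᵁ W) from a) : Γ(X, f ⁻¹ᵁ W)) ⊗ₜ[Γ(Y, W)] n := by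
        unfold ψβ
        rw [map_smul, h2, TensorProduct.smul_tmul', smul_eq_mul, mul_one]
      exact (congrArg e h1).trans h3
    | add x y hx hy =>
      rw [map_add, ← hx, ← hy]
      exact (congrArg e (hu_add x y)).trans (map_add e _ _)
  have hubij : Function.Bijective u := by
    have : u = fun ξ => e.symm (w ξ) := by
      funext ξ
      rw [← hkey ξ, LinearEquiv.symm_apply_apply]
    rw [this]
    exact e.symm.bijective.comp hwbij
  have hηbij : Function.Bijective (η N (PO f) : PT N (PO f) W → _) := by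
    refine ⟨fun a b hab => ?_, fun t => η_surjective N (PO f) hW t⟩
    have h0 : η N (PO f) (a - b) = 0 := by rw [η_sub, hab, sub_self]
    exact sub_eq_zero.1 (η_injective N (PO f) hW (a - b) h0)
  exact (Function.Bijective.of_comp_iff _ hηbij).1 hubij

/-- **the projection formula for an affine morphism and a quasi-coherent module**:
`N ⊗ f_* O_X ≅ f_* f^* N`. -/
theorem isIso_ψ : IsIso (ψ f N) := by
  refine isIso_of_affine_cover (ψ f N) (fun W : Y.affineOpens => W.1) (fun W => W.2) ?_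
    (fun W => isLocOn_of_isQuasicoherent _ W.2) (fun W => isLocOn_of_isQuasicoherent _ W.2)
    (fun W => bijective_ψ_app f N W.2)
  intro y
  obtain ⟨_, ⟨W, hW, rfl⟩, hyW, -⟩ := (Y.isBasis_affineOpens).exists_subset_of_mem_open
    (Set.mem_univ y) isOpen_univ
  exact ⟨⟨W, hW⟩, hyW⟩

end iso

end Groth.Agent.Lib.Helper26.RPD4
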