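import Mathlib
import Groth.Prelude.Def_Mor2
import Groth.Agent.S9716
import Groth.Agent.Lib.Helper7.ModHartogsFlat
import Groth.Agent.Lib.Helper29.FPFree
import Groth.Agent.Lib.Helper29.FPDict
import Groth.Agent.Lib.Helper29.FreeIso6
import Groth.Agent.Lib.Helper28.QCohPush

set_option maxHeartbeats 400000
set_option linter.style.haveILetI false
set_option linter.unusedSectionVars false
set_option linter.unusedVariables false

universe u

open CategoryTheory CategoryTheory.Limits AlgebraicGeometry Opposite TopologicalSpace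

namespace Groth.Agent.Lib.Helper26.RPD5

open Groth.Agent.Lib.Helper28 Groth.Agent.Lib.Helper28.QCohLoc
  Groth.Agent.Lib.Helper29.FreeIso Groth.Agent.Lib.Helper29.QCohStalk
  Groth.Agent.Lib.Helper29.FPDict Groth.Agent.Lib.Helper7.StalkLoc

section flat

variable {X : Scheme.{u}} (F : X.Modules) [F.IsQuasicoherent]
  (hflat : ∀ x : X, Module.Flat (X.presheaf.stalk x) (F.presheaf.stalk x))

include hflat in
/-- sections over an affine open of a stalkwise flat quasi-coherent module are flat
(after helper7's `ModHartogs.flat_sections`, without the Noetherian hypothesis) -/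
theorem flat_sections {W : X.Opens} (hW : IsAffineOpen W) : Module.Flat Γ(X, W) Γ(F, W) := by
  apply Module.flat_of_localized_maximal
  intro P hP
  haveI hPp : P.IsPrime := hP.isPrime
  let PP : PrimeSpectrum Γ(X, W) := ⟨P, hPp⟩
  have hxW : hW.fromSpec PP ∈ W := by
    have : hW.fromSpec PP ∈ Set.range hW.fromSpec := ⟨PP, rfl⟩
    rw [hW.range_fromSpec] at this
    exact this
  have hPP : hW.primeIdealOf ⟨hW.fromSpec PP, hxW⟩ = PP := by
    apply hW.fromSpec.isOpenEmbedding.injective
    exact hW.fromSpec_primeIdealOf ⟨hW.fromSpec PP, hxW⟩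
  generalize hx : hW.fromSpec PP = x at hxW hPP
  letI algA : Algebra Γ(X, W) (X.presheaf.stalk x) := X.presheaf.algebra_section_stalk ⟨x, hxW⟩
  haveI hlocR : IsLocalization.AtPrime (X.presheaf.stalk x) P := by
    have := hW.isLocalization_stalk ⟨x, hxW⟩
    rw [hPP] at this
    exact this
  letI modF : Module Γ(X, W) (F.presheaf.stalk x) := stalkModule F x hxW
  haveI stF : IsScalarTower Γ(X, W) (X.presheaf.stalk x) (F.presheaf.stalk x) :=
    ⟨fun a r t => mul_smul _ _ _⟩
  haveI locF : IsLocalizedModule P.primeCompl (gmLin F x hxW) := by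
    have := isLocalizedModule_gmLin F hW (isLocOn_of_isQuasicoherent F hW) x hxW
    rw [hPP] at this
    exact this
  haveI : Module.Flat Γ(X, W) (X.presheaf.stalk x) :=
    IsLocalization.flat (X.presheaf.stalk x) P.primeCompl
  haveI := hflat x
  haveI : Module.Flat Γ(X, W) (F.presheaf.stalk x) :=
    Module.Flat.trans Γ(X, W) (X.presheaf.stalk x) (F.presheaf.stalk x)
  exact Module.Flat.of_linearEquiv (IsLocalizedModule.iso P.primeCompl (gmLin F x hxW))

end flat

variable {X Y : Scheme.{u}} (f : X ⟶ Y)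

/-- **the direct image of a finite locally free module along a finite locally free morphism is finite
locally free** -/
theorem isFinLocFree_pushforward (hf : Mor2.IsFinLocFree f) (E : X.Modules)
    (hE : FlatMod.IsFinLocFree E) :
    FlatMod.IsFinLocFree ((Scheme.Modules.pushforward f).obj E) := by
  obtain ⟨hfin, hflat, hfp⟩ := hf
  haveI : IsAffineHom f := inferInstance
  haveI : E.IsQuasicoherent := isQuasicoherent_of_isFinLocFree E hE
  haveI : SheafOfModules.IsFinitePresentation.{u} (R := X.ringCatSheaf) E :=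
    Groth.Agent.Lib.Helper29.FPFree.isFinitePresentation_of_isFinLocFree E hE
  let G : Y.Modules := (Scheme.Modules.pushforward f).obj E
  haveI : G.IsQuasicoherent := isQuasicoherent_pushforward f E
  intro s
  obtain ⟨V, hV, hsV, -⟩ := (TopologicalSpace.Opens.isBasis_iff_nbhd.1 Y.isBasis_affineOpens)
    (show s ∈ (⊤ : Y.Opens) from trivial)
  have hU : IsAffineOpen (f ⁻¹ᵁ V) := hV.preimage f
  letI algAB : Algebra Γ(Y, V) Γ(X, f ⁻¹ᵁ V) := (f.app V).hom.toAlgebra
  haveI hfinV : Module.Finite Γ(Y, V) Γ(X, f ⁻¹ᵁ V) := IsFinite.finite_app f V hV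
  haveI hflatV : Module.Flat Γ(Y, V) Γ(X, f ⁻¹ᵁ V) := by
    have h1 := Flat.flat_appLE f hV (hV.preimage f) le_rfl
    rw [← Scheme.Hom.app_eq_appLE] at h1
    exact h1
  haveI hfpV : Algebra.FinitePresentation Γ(Y, V) Γ(X, f ⁻¹ᵁ V) := by
    have h1 := LocallyOfFinitePresentation.finitePresentation_appLE f hV (hV.preimage f) le_rfl
    rw [← Scheme.Hom.app_eq_appLE] at h1
    exact h1
  haveI : Module.FinitePresentation Γ(Y, V) Γ(X, f ⁻¹ᵁ V) :=
    Module.FinitePresentation.of_finite_of_finitePresentation _ _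
  -- the sections of `E` as a module over the base
  letI modR : Module Γ(Y, V) Γ(E, f ⁻¹ᵁ V) := Module.compHom _ (f.app V).hom
  haveI tower : IsScalarTower Γ(Y, V) Γ(X, f ⁻¹ᵁ V) Γ(E, f ⁻¹ᵁ V) :=
    IsScalarTower.of_algebraMap_smul fun _ _ => rfl
  haveI : Module.FinitePresentation Γ(X, f ⁻¹ᵁ V) Γ(E, f ⁻¹ᵁ V) := fp_of_isAffineOpen E hU
  haveI : Module.Flat Γ(X, f ⁻¹ᵁ V) Γ(E, f ⁻¹ᵁ V) :=
    flat_sections E (fun x => by
      haveI := Groth.Agent.Lib.Helper29.FPFree.free_stalk_of_isFinLocFree E hE x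
      infer_instance) hU
  haveI : Module.FinitePresentation Γ(Y, V) Γ(E, f ⁻¹ᵁ V) :=
    Module.FinitePresentation.trans Γ(Y, V) Γ(E, f ⁻¹ᵁ V) Γ(X, f ⁻¹ᵁ V)
  haveI : Module.Flat Γ(Y, V) Γ(E, f ⁻¹ᵁ V) :=
    Module.Flat.trans Γ(Y, V) Γ(X, f ⁻¹ᵁ V) Γ(E, f ⁻¹ᵁ V)
  let eq : Γ(E, f ⁻¹ᵁ V) ≃ₗ[Γ(Y, V)] Γ(G, V) :=
    { toFun := fun m => m
      invFun := fun m => m
      map_add' := fun _ _ => rfl
      map_smul' := fun _ _ => rfl
      left_inv := fun _ => rfl
      right_inv := fun _ => rfl }
  haveI : Module.FinitePresentation Γ(Y, V) Γ(G, V) := Module.FinitePresentation.of_equiv eq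
  haveI : Module.Flat Γ(Y, V) Γ(G, V) := Module.Flat.of_linearEquiv eq.symm
  haveI : Module.Finite Γ(Y, V) Γ(G, V) := inferInstance
  let p := germPrime V s hsV
  haveI : Module.Free (Localization.AtPrime p) (LocalizedModule p.primeCompl Γ(G, V)) :=
    Module.free_of_flat_of_isLocalRing
  obtain ⟨g, hg, hfree, -⟩ := Module.FinitePresentation.exists_free_localizedModule_powers
    p.primeCompl (LocalizedModule.mkLinearMap p.primeCompl Γ(G, V)) (Localization.AtPrime p)
  have hsW : s ∈ Y.basicOpen g := by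
    by_contra hcon
    exact hg ((mem_germPrime_iff_notMem_basicOpen V s hsV g).2 hcon)
  have hloc : IsLocOn G V := isLocOn_of_isQuasicoherent G hV
  letI := modBasicOpen G g
  haveI := isScalarTower_basicOpen G g
  haveI := isLocalizedModule_resLin hloc g
  haveI locA : IsLocalization (Submonoid.powers g) Γ(Y, Y.basicOpen g) := hV.isLocalization_basicOpen g
  haveI := hfree
  haveI hfreeW : Module.Free Γ(Y, Y.basicOpen g) Γ(G, Y.basicOpen g) :=
    Groth.Agent.S12451.free_of_isLocalizedModule_of_free (Submonoid.powers g)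
      (R₁ := Localization (Submonoid.powers g))
      (LocalizedModule.mkLinearMap (Submonoid.powers g) Γ(G, V)) (resLin G g)
  haveI hfinW : Module.Finite Γ(Y, Y.basicOpen g) Γ(G, Y.basicOpen g) :=
    Module.Finite.of_isLocalizedModule (Submonoid.powers g) (Rₚ := Γ(Y, Y.basicOpen g)) (resLin G g)
  haveI : Nonempty (Y.basicOpen g) := ⟨⟨s, hsW⟩⟩
  haveI : Nontrivial Γ(Y, Y.basicOpen g) := Scheme.component_nontrivial _ _
  let b := Module.finBasis Γ(Y, Y.basicOpen g) Γ(G, Y.basicOpen g)
  have hW : IsAffineOpen (Y.basicOpen g) := hV.basicOpen g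
  have hB : IsBasisOn G (Y.basicOpen g) (fun j => b j) :=
    isBasisOn_of_basis G hW (isLocOn_of_isQuasicoherent G hW) (fun j => b j) b.linearIndependent
      b.span_eq
  exact ⟨Y.basicOpen g, _, hsW, hB.nonempty_iso⟩

end Groth.Agent.Lib.Helper26.RPD5
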