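import Mathlib
import Groth.Prelude.Def_PerfAux
import Groth.Prelude.Def_Mor2
import Groth.Agent.Lib.Helper26.RPD1
import Groth.Agent.Lib.Helper26.RPD2
import Groth.Agent.Lib.Helper26.RPD3
import Groth.Agent.Lib.Helper26.RPD4
import Groth.Agent.Lib.Helper26.RPD5
import Groth.Agent.Lib.Helper26.LC31
import Groth.Agent.Lib.Helper17.FinTypePushPull

set_option maxHeartbeats 400000
set_option linter.style.haveILetI false
set_option linter.unusedSectionVars false
set_option linter.unusedVariables false

universe u

open CategoryTheory CategoryTheory.Limits AlgebraicGeometry Opposite TopologicalSpace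

namespace Groth.Agent.Lib.Helper26.RPD6

open Groth.Agent.Lib.Helper28 Groth.Agent.Lib.Helper28.QCohLoc Groth.Agent.Lib.Helper28.HomMod
  Groth.Agent.Lib.Helper29.FreeIso Groth.Agent.S9716 Groth.Agent.Lib.Helper26

variable {X Y : Scheme.{u}} (f : X ⟶ Y)

/-- the direct image along an affine morphism preserves epimorphisms of quasi-coherent modules -/
theorem epi_pushforward_map [IsAffineHom f] {E G : X.Modules} (π : E ⟶ G) [Epi π]
    [E.IsQuasicoherent] [G.IsQuasicoherent] : Epi ((Scheme.Modules.pushforward f).map π) := by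
  haveI : ((Scheme.Modules.pushforward f).obj G).IsQuasicoherent := isQuasicoherent_pushforward f G
  refine epi_of_affine_cover ((Scheme.Modules.pushforward f).map π) (fun W : Y.affineOpens => W.1)
    (fun W => W.2) ?_ (fun W => isLocOn_of_isQuasicoherent _ W.2) ?_
  · intro y
    obtain ⟨_, ⟨W, hW, rfl⟩, hyW, -⟩ := (Y.isBasis_affineOpens).exists_subset_of_mem_open
      (Set.mem_univ y) isOpen_univ
    exact ⟨⟨W, hW⟩, hyW⟩
  · intro W z
    exact LC31.surjective_app_of_epi π (W.2.preimage f) z

/-- **the resolution property descends along surjective finite locally free morphisms** -/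
theorem main (hf : Mor2.IsFinLocFree f) [Surjective f]
    (hX : PerfAux.HasResolutionProperty X) : PerfAux.HasResolutionProperty Y := by
  intro M hMq hMft
  haveI : M.IsQuasicoherent := hMq
  haveI : SheafOfModules.IsFiniteType (R := Y.ringCatSheaf) M := hMft
  obtain ⟨haff, hA⟩ := (Groth.Agent.S9716.result f).2 hf
  haveI := haff
  have hD : FlatMod.IsFinLocFree (dual (PO f)) := RPD1.isFinLocFree_dual (PO f) hA
  haveI : (dual (PO f)).IsQuasicoherent := isQuasicoherent_of_isFinLocFree _ hD
  haveI : SheafOfModules.IsFiniteType (R := Y.ringCatSheaf) (dual (PO f)) :=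
    isFiniteType_of_isFinLocFree _ hD
  let N : Y.Modules := CohB1.tensorMod M (dual (PO f))
  haveI : N.IsQuasicoherent := Groth.Agent.Lib.Helper17.TensorQC.isQuasicoherent_tensorMod M (dual (PO f))
  haveI : SheafOfModules.IsFiniteType (R := Y.ringCatSheaf) N :=
    Groth.Agent.Lib.Helper17.TensorQC.isFiniteType_tensorMod M (dual (PO f))
  let N' : X.Modules := (Scheme.Modules.pullback f).obj N
  haveI : N'.IsQuasicoherent := Groth.Agent.Lib.Helper17.ModPullback.isQuasicoherent_pullback f N
  have hN'ft : SheafOfModules.IsFiniteType (R := X.ringCatSheaf) N' :=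
    Groth.Agent.Lib.Helper17.FinTypePushPull.isFiniteType_pullback f N
  obtain ⟨E, π, hE, hπ⟩ := hX N' ‹N'.IsQuasicoherent› hN'ft
  haveI := hπ
  haveI : E.IsQuasicoherent := isQuasicoherent_of_isFinLocFree E hE
  haveI h1 : Epi ((Scheme.Modules.pushforward f).map π) := epi_pushforward_map f π
  haveI h2 : IsIso (RPD4.ψ f N) := RPD4.isIso_ψ f N
  haveI h3 : Epi (RPD2.ctr M (PO f)) := RPD2.epi_ctr M (PO f) (RPD3.exists_retraction f hA)
  refine ⟨(Scheme.Modules.pushforward f).obj E,
    (Scheme.Modules.pushforward f).map π ≫ inv (RPD4.ψ f N) ≫ RPD2.ctr M (PO f),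
    RPD5.isFinLocFree_pushforward f hf E hE, ?_⟩
  exact epi_comp _ _

end Groth.Agent.Lib.Helper26.RPD6
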