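import Mathlib
import Groth.Prelude.Def_PerfAux
import Groth.Prelude.Def_Mor2
import Groth.Agent.Lib.Helper26.RPD1
import Groth.Agent.Lib.Helper26.RPD2
import Groth.Agent.Lib.Helper26.RPD3
import Groth.Agent.Lib.Helper26.RPD4
import Groth.Agent.Lib.Helper26.RPD5
import Groth.Agent.Lib.Helper26.RPD6
import Groth.Agent.Lib.Helper26.LC31
import Groth.Agent.Lib.Helper16.QCohSigma
import Groth.Agent.Lib.Helper17.SigmaHH

set_option maxHeartbeats 400000
set_option linter.style.haveILetI false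
set_option linter.unusedSectionVars false
set_option linter.unusedVariables false

universe u

open CategoryTheory CategoryTheory.Limits AlgebraicGeometry Opposite TopologicalSpace

namespace Groth.Agent.Lib.Helper26.LC34

open Groth.Agent.Lib.Helper28 Groth.Agent.Lib.Helper28.QCohLoc Groth.Agent.Lib.Helper28.HomMod
  Groth.Agent.Lib.Helper29.FreeIso Groth.Agent.S9716 Groth.Agent.Lib.Helper26

variable {X Y : Scheme.{u}} (f : X ⟶ Y)

/-- for an affine morphism, the direct images of the components of an epimorphism from a coproduct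
of quasi-coherent modules are jointly epimorphic -/
theorem epi_sigma_desc_pushforward [IsAffineHom f] {κ : Type u} (E : κ → X.Modules)
    [∀ k, (E k).IsQuasicoherent] {M : X.Modules} [M.IsQuasicoherent] (π : (∐ E) ⟶ M) [Epi π] :
    Epi (Sigma.desc (fun k => (Scheme.Modules.pushforward f).map (Sigma.ι E k ≫ π)) :
      (∐ fun k => (Scheme.Modules.pushforward f).obj (E k)) ⟶ (Scheme.Modules.pushforward f).obj M) := by
  haveI : (∐ E).IsQuasicoherent := Groth.Agent.Lib.Helper16.QCohSigma.isQuasicoherent_sigma E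
  haveI : ((Scheme.Modules.pushforward f).obj M).IsQuasicoherent := isQuasicoherent_pushforward f M
  refine epi_of_affine_cover _ (fun W : Y.affineOpens => W.1)
    (fun W => W.2) ?_ (fun W => isLocOn_of_isQuasicoherent _ W.2) ?_
  · intro y
    obtain ⟨_, ⟨W, hW, rfl⟩, hyW, -⟩ := (Y.isBasis_affineOpens).exists_subset_of_mem_open
      (Set.mem_univ y) isOpen_univ
    exact ⟨⟨W, hW⟩, hyW⟩
  · intro W z
    have hU : IsAffineOpen (f ⁻¹ᵁ W.1) := W.2.preimage f
    obtain ⟨w, hw⟩ := LC31.surjective_app_of_epi π hU z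
    obtain ⟨s, y, hy⟩ := Groth.Agent.Lib.Helper17.SigmaHH.exists_finset_sum_sections X
      hU.isCompact hU.isQuasiSeparated E w
    let Φ : (∐ fun k => (Scheme.Modules.pushforward f).obj (E k)) ⟶
        (Scheme.Modules.pushforward f).obj M :=
      Sigma.desc (fun k => (Scheme.Modules.pushforward f).map (Sigma.ι E k ≫ π))
    let ι' := fun a => Sigma.ι (fun k => (Scheme.Modules.pushforward f).obj (E k)) a
    have key : ∀ a (e : Γ(E a, f ⁻¹ᵁ W.1)),
        Φ.app W.1 ((ι' a).app W.1 e) = π.app (f ⁻¹ᵁ W.1) ((Sigma.ι E a).app (f ⁻¹ᵁ W.1) e) := by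
      intro a e
      have h1 : ι' a ≫ Φ = (Scheme.Modules.pushforward f).map (Sigma.ι E a ≫ π) :=
        Sigma.ι_desc _ _
      have h2 := congrArg (fun ψ => ψ.app W.1 e) h1
      exact h2
    let y' : ∀ a, Γ(E a, f ⁻¹ᵁ W.1) := y
    refine ⟨∑ a ∈ s, (ι' a).app W.1 (y' a), ?_⟩
    have e1 : Φ.app W.1 (∑ a ∈ s, (ι' a).app W.1 (y' a)) =
        ∑ a ∈ s, Φ.app W.1 ((ι' a).app W.1 (y' a)) := map_sum _ _ _
    have e2 : π.app (f ⁻¹ᵁ W.1) (∑ a ∈ s, (Sigma.ι E a).app (f ⁻¹ᵁ W.1) (y' a)) =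
        ∑ a ∈ s, π.app (f ⁻¹ᵁ W.1) ((Sigma.ι E a).app (f ⁻¹ᵁ W.1) (y' a)) := map_sum _ _ _
    have e3 : w = ∑ a ∈ s, (Sigma.ι E a).app (f ⁻¹ᵁ W.1) (y' a) := hy
    refine e1.trans ?_
    rw [← hw, e3, e2]
    exact Finset.sum_congr rfl (fun a _ => key a (y' a))

/-- **a generating family of quasi-coherent modules pushes forward to a generating family along a
surjective finite locally free morphism** -/
theorem main (hf : Mor2.IsFinLocFree f) [Surjective f]
    {ι : Type u} (E : ι → X.Modules) (hE : ∀ i, (E i).IsQuasicoherent)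
    (hgen : ∀ M : X.Modules, M.IsQuasicoherent →
      ∃ (κ : Type u) (j : κ → ι) (π : (∐ fun k : κ => E (j k)) ⟶ M), Epi π)
    (M : Y.Modules) (hMq : M.IsQuasicoherent) :
    ∃ (κ : Type u) (j : κ → ι)
      (π : (∐ fun k : κ => (Scheme.Modules.pushforward f).obj (E (j k))) ⟶ M), Epi π := by
  haveI : M.IsQuasicoherent := hMq
  obtain ⟨haff, hA⟩ := (Groth.Agent.S9716.result f).2 hf
  haveI := haff
  have hD : FlatMod.IsFinLocFree (dual (PO f)) := RPD1.isFinLocFree_dual (PO f) hA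
  haveI : (dual (PO f)).IsQuasicoherent := isQuasicoherent_of_isFinLocFree _ hD
  let N : Y.Modules := CohB1.tensorMod M (dual (PO f))
  haveI : N.IsQuasicoherent :=
    Groth.Agent.Lib.Helper17.TensorQC.isQuasicoherent_tensorMod M (dual (PO f))
  let N' : X.Modules := (Scheme.Modules.pullback f).obj N
  haveI : N'.IsQuasicoherent := Groth.Agent.Lib.Helper17.ModPullback.isQuasicoherent_pullback f N
  obtain ⟨κ, j, π, hπ⟩ := hgen N' ‹N'.IsQuasicoherent›
  haveI := hπ
  haveI : ∀ k, (E (j k)).IsQuasicoherent := fun k => hE (j k)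
  haveI h1 := epi_sigma_desc_pushforward f (fun k => E (j k)) π
  haveI h2 : IsIso (RPD4.ψ f N) := RPD4.isIso_ψ f N
  haveI h3 : Epi (RPD2.ctr M (PO f)) := RPD2.epi_ctr M (PO f) (RPD3.exists_retraction f hA)
  refine ⟨κ, j,
    Sigma.desc (fun k => (Scheme.Modules.pushforward f).map (Sigma.ι (fun k => E (j k)) k ≫ π)) ≫
      inv (RPD4.ψ f N) ≫ RPD2.ctr M (PO f), ?_⟩
  exact epi_comp _ _

end Groth.Agent.Lib.Helper26.LC34
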