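import Mathlib
import Groth.Agent.Lib.Helper26.RPD1
import Groth.Agent.Lib.Helper17.TensorQC
import Groth.Agent.Lib.Helper29.FreeIso6

set_option maxHeartbeats 400000
set_option linter.style.haveILetI false
set_option linter.unusedSectionVars false
set_option linter.unusedVariables false

universe u

open CategoryTheory CategoryTheory.Limits AlgebraicGeometry Opposite TopologicalSpace TensorProduct

namespace Groth.Agent.Lib.Helper26.LC35

open Groth.Agent.Lib.Helper28 Groth.Agent.Lib.Helper28.QCohLoc Groth.Agent.Lib.Helper28.HomMod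
  Groth.Agent.Lib.Helper29.FreeIso Groth.Agent.Lib.Helper26.RPD1

variable {X : Scheme.{u}}

/-- the sections of a module with a basis of sections over `U` are free of finite rank over every
open of `U` -/
theorem free_finite_sections {L : X.Modules} {U : X.Opens} {r : ℕ} {τ : Fin r → Γ(L, U)}
    (h : IsBasisOn L U τ) {T : X.Opens} (hT : T ≤ U) :
    Module.Free Γ(X, T) Γ(L, T) ∧ Module.Finite Γ(X, T) Γ(L, T) := by
  have hli : LinearIndependent Γ(X, T) (fun j => res L hT (τ j)) :=
    Fintype.linearIndependent_iff.2 (fun c hc j => h.1 T hT c hc j)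
  have hspan : ⊤ ≤ Submodule.span Γ(X, T) (Set.range fun j => res L hT (τ j)) := by
    intro t _
    rw [coef_spec h hT t]
    exact Submodule.sum_mem _ (fun j _ => Submodule.smul_mem _ _ (Submodule.subset_span ⟨j, rfl⟩))
  let b := Module.Basis.mk hli hspan
  exact ⟨Module.Free.of_basis b, Module.Finite.of_basis b⟩

/-- **the tensor product of two finite locally free modules is finite locally free** -/
theorem isFinLocFree_tensor (E K : X.Modules) (hE : FlatMod.IsFinLocFree E)
    (hK : FlatMod.IsFinLocFree K) : FlatMod.IsFinLocFree (CohB1.tensorMod E K) := by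
  haveI : E.IsQuasicoherent := isQuasicoherent_of_isFinLocFree E hE
  haveI : K.IsQuasicoherent := isQuasicoherent_of_isFinLocFree K hK
  let G : X.Modules := CohB1.tensorMod E K
  haveI : G.IsQuasicoherent := Groth.Agent.Lib.Helper17.TensorQC.isQuasicoherent_tensorMod E K
  intro x
  obtain ⟨U₁, n, hx1, ⟨e₁⟩⟩ := hE x
  obtain ⟨τ, hτ⟩ := exists_isBasisOn_of_iso E U₁ n e₁
  obtain ⟨U₂, m, hx2, ⟨e₂⟩⟩ := hK x
  obtain ⟨σ, hσ⟩ := exists_isBasisOn_of_iso K U₂ m e₂
  obtain ⟨W, hW, hxW, hle⟩ := (TopologicalSpace.Opens.isBasis_iff_nbhd.1 X.isBasis_affineOpens)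
    (show x ∈ U₁ ⊓ U₂ from ⟨hx1, hx2⟩)
  obtain ⟨hfE, hnE⟩ := free_finite_sections hτ (hle.trans inf_le_left)
  obtain ⟨hfK, hnK⟩ := free_finite_sections hσ (hle.trans inf_le_right)
  let eq : (Γ(E, W) ⊗[Γ(X, W)] Γ(K, W)) ≃ₗ[Γ(X, W)] Γ(G, W) :=
    LinearEquiv.ofBijective (Groth.Agent.Lib.Helper17.TensorQC.ηL E K W)
      ⟨fun a b hab => by
        have h0 : Groth.Agent.Lib.Helper17.TensorQC.η E K (a - b) = 0 := by
          rw [Groth.Agent.Lib.Helper17.TensorQC.η_sub]
          exact sub_eq_zero.2 hab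
        exact sub_eq_zero.1 (Groth.Agent.Lib.Helper17.TensorQC.η_injective E K hW (a - b) h0),
       Groth.Agent.Lib.Helper17.TensorQC.η_surjective E K hW⟩
  haveI : Module.Free Γ(X, W) Γ(G, W) := Module.Free.of_equiv eq
  haveI : Module.Finite Γ(X, W) Γ(G, W) := Module.Finite.equiv eq
  haveI : Nonempty W := ⟨⟨x, hxW⟩⟩
  haveI : Nontrivial Γ(X, W) := Scheme.component_nontrivial _ _
  let b := Module.finBasis Γ(X, W) Γ(G, W)
  have hB : IsBasisOn G W (fun j => b j) :=
    isBasisOn_of_basis G hW (isLocOn_of_isQuasicoherent G hW) (fun j => b j) b.linearIndependent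
      b.span_eq
  exact ⟨W, _, hxW, hB.nonempty_iso⟩

end Groth.Agent.Lib.Helper26.LC35
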