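import Mathlib
import Groth.Prelude.Def_DCoh4
import Groth.Agent.Lib.Helper1.ModFlat
import Groth.Agent.Lib.Helper6.DCohSheafHom
import Groth.Agent.Lib.Helper16.RS6
import Groth.Agent.Lib.Helper26.LC35

set_option maxHeartbeats 400000
set_option linter.style.haveILetI false
set_option linter.unusedSectionVars false
set_option linter.unusedVariables false

universe u

open CategoryTheory CategoryTheory.Limits AlgebraicGeometry Opposite TopologicalSpace

namespace Groth.Agent.Lib.Helper26.LC36

/-- if `G` preserves the coproduct of the `V l` and `G.map p` is an epimorphism, then the images under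
`G` of the components of `p : ∐ V ⟶ N` are jointly epimorphic -/
theorem eq_of_preserves {C D : Type*} [Category C] [Category D] (G : C ⥤ D) {κ : Type*}
    (V : κ → C) [HasCoproduct V] [HasCoproduct fun l => G.obj (V l)]
    [PreservesColimit (Discrete.functor V) G] {N : C} (p : ∐ V ⟶ N)
    [Epi (G.map p)] {T : D} (u v : G.obj N ⟶ T)
    (h : ∀ l, G.map (Sigma.ι V l ≫ p) ≫ u = G.map (Sigma.ι V l ≫ p) ≫ v) : u = v := by
  rw [← cancel_epi (G.map p), ← cancel_epi (sigmaComparison G V)]
  apply Sigma.hom_ext
  intro l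
  have := h l
  rw [G.map_comp, Category.assoc, Category.assoc] at this
  rw [ι_comp_sigmaComparison_assoc, ι_comp_sigmaComparison_assoc]
  exact this

variable {X Y : Scheme.{u}} (f : X ⟶ Y)

/-- the functor `N ↦ A ⊗ f^* N` -/
noncomputable abbrev G (A : X.Modules) : Y.Modules ⥤ X.Modules :=
  Scheme.Modules.pullback f ⋙ (DCoh.tensorBi (X := X)).obj A

instance (A : X.Modules) : PreservesColimitsOfSize.{u, u} (G f A) := by
  haveI : PreservesColimitsOfSize.{u, u} (Scheme.Modules.pullback f) :=
    (Scheme.Modules.pullbackPushforwardAdjunction f).leftAdjoint_preservesColimits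
  haveI : PreservesColimitsOfSize.{u, u} ((DCoh.tensorBi (X := X)).obj A) :=
    inferInstanceAs (PreservesColimitsOfSize.{u, u} (Groth.Agent.Lib.Helper1.ModFlat.tensL X.sheaf A))
  infer_instance

theorem G_obj (A : X.Modules) (N : Y.Modules) :
    (G f A).obj N = CohB1.tensorMod A ((Scheme.Modules.pullback f).obj N) := rfl

/-- **the resolution property (in the direct-sum form) passes from the base to the source of a
morphism admitting a relatively generating family of finite locally free modules** -/
theorem main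
    (hY : ∀ N : Y.Modules, N.IsQuasicoherent →
      ∃ (κ : Type u) (V : κ → Y.Modules) (π : (∐ V) ⟶ N), (∀ k, FlatMod.IsFinLocFree (V k)) ∧ Epi π)
    {ι : Type u} (W : ι → X.Modules) (hW : ∀ i, FlatMod.IsFinLocFree (W i))
    (hf : ∀ M : X.Modules, M.IsQuasicoherent →
      ∃ (κ : Type u) (j : κ → ι) (N : κ → Y.Modules)
        (π : (∐ fun k => CohB1.tensorMod (W (j k)) ((Scheme.Modules.pullback f).obj (N k))) ⟶ M),
        (∀ k, (N k).IsQuasicoherent) ∧ Epi π)
    (M : X.Modules) (hM : M.IsQuasicoherent) :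
    ∃ (κ : Type u) (E : κ → X.Modules) (π : (∐ E) ⟶ M), (∀ k, FlatMod.IsFinLocFree (E k)) ∧ Epi π := by
  obtain ⟨κ, j, N, π, hN, hπ⟩ := hf M hM
  haveI := hπ
  choose κ' V p hV hp using fun k => hY (N k) (hN k)
  let K : Type u := Σ k, κ' k
  let E : K → X.Modules := fun q =>
    CohB1.tensorMod (W (j q.1)) ((Scheme.Modules.pullback f).obj (V q.1 q.2))
  let T : κ → X.Modules := fun k => CohB1.tensorMod (W (j k)) ((Scheme.Modules.pullback f).obj (N k))
  let comp : ∀ q : K, E q ⟶ M := fun q =>
    (G f (W (j q.1))).map (Sigma.ι (V q.1) q.2 ≫ p q.1) ≫ Sigma.ι T q.1 ≫ π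
  refine ⟨K, E, Sigma.desc comp, fun q => Groth.Agent.Lib.Helper26.LC35.isFinLocFree_tensor _ _ (hW _)
    (Groth.Agent.Lib.Helper16.RS.isFinLocFree_pullback f _ (hV q.1 q.2)), ?_⟩
  constructor
  intro Z u v huv
  have hq : ∀ q : K, comp q ≫ u = comp q ≫ v := by
    intro q
    have := congrArg (fun φ => Sigma.ι E q ≫ φ) huv
    simpa using this
  rw [← cancel_epi π]
  apply Sigma.hom_ext
  intro k
  haveI : Epi (p k) := hp k
  haveI : Epi ((G f (W (j k))).map (p k)) := inferInstance
  apply eq_of_preserves (G f (W (j k))) (V k) (p k)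
  intro l
  have := hq ⟨k, l⟩
  simp only [comp, Category.assoc] at this
  exact this

end Groth.Agent.Lib.Helper26.LC36
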