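import Groth.Agent.Lib.Helper28.ResProp
import Groth.Agent.Lib.Helper16.QCohSigma
import Groth.Agent.Lib.Helper17.SigmaHH
import Groth.Agent.Lib.Helper26.LC31

set_option autoImplicit false
set_option maxHeartbeats 400000
set_option linter.style.haveILetI false
set_option linter.unusedSectionVars false
set_option linter.unusedVariables false
universe u
open CategoryTheory CategoryTheory.Limits AlgebraicGeometry Opposite TopologicalSpace
noncomputable section

namespace Groth.Agent.Lib.Helper26.LC37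

open Groth.Agent.Lib.Helper28 Groth.Agent.Lib.Helper28.QCohLoc Groth.Agent.Lib.Helper28.TraceAlg
open Groth.Agent.Lib.Helper28.SymAlg Groth.Agent.Lib.Helper4.QCAlgPushout
open Groth.Agent.Lib.Helper28.ResProp

attribute [local instance] algAt
attribute [local instance] TrivExt.modOp

variable {S : Scheme.{u}}

/-- **(⇐)**: from a closed embedding of the vector bundle `V(M)` into `V(E)` to an epimorphism `E ⟶ M` -/
theorem exists_epi_of_closedImmersion (M : S.Modules) [M.IsQuasicoherent]
    (E : S.Modules) [E.IsQuasicoherent] (A : RelSpec.QCAlg S) (j : E ⟶ A.toModule)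
    (hA : RelSpec.IsSymAlg E A j)
    (i : (symAlg M (isQC_symPre_of_isQuasicoherent M)).spec ⟶ A.spec) [IsClosedImmersion i]
    (hiπ : i ≫ A.π = (symAlg M (isQC_symPre_of_isQuasicoherent M)).π) :
    ∃ q : E ⟶ M, Epi q := by
  have hQC := isQC_symPre_of_isQuasicoherent M
  let B := symAlg M hQC
  have hB : RelSpec.IsSymAlg M B (jHom M hQC) := isSymAlg hQC
  let θ : A ⟶ B := theta A B i hiπ
  obtain ⟨D, hD, -⟩ := hB (TrivExt.alg M) (TrivExt.inrHom M)
  have hD' : jHom M hQC ≫ RelSpec.QCAlg.Hom.toModuleMap D = TrivExt.inrHom M := hD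
  let q : E ⟶ M := j ≫ RelSpec.QCAlg.Hom.toModuleMap θ ≫ RelSpec.QCAlg.Hom.toModuleMap D ≫ TrivExt.sndHom M
  refine ⟨q, ?_⟩
  refine epi_of_affine_cover q (fun V : S.affineOpens => V.1) (fun V => V.2) (fun x => ?_)
    (fun V => isLocOn_of_isQuasicoherent M V.2) (fun V => ?_)
  · obtain ⟨_, ⟨U, hU, rfl⟩, hxU, -⟩ := S.isBasis_affineOpens.exists_subset_of_mem_open (Set.mem_univ x) isOpen_univ
    exact ⟨⟨U, hU⟩, hxU⟩
  · obtain ⟨U, hU⟩ := V
    let ρ : A.presheaf.obj (op U) →+* TrivExt.TS M U := (D.hom.app (op U)).hom.comp (θ.hom.app (op U)).hom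
    have hq : ∀ e : Γ(E, U), q.app U e = (ρ (asR A (j.app U e))).snd := fun e => rfl
    have hstr : ∀ a : Γ(S, U), ρ ((A.str.app (op U)).hom a) = (TrivSqZeroExt.inl a : TrivExt.TS M U) := by
      intro a
      have h1 : (θ.hom.app (op U)).hom ((A.str.app (op U)).hom a) = (B.str.app (op U)).hom a :=
        congrArg (fun χ => (χ.app (op U)).hom a) θ.comm
      have h2 : (D.hom.app (op U)).hom ((B.str.app (op U)).hom a) = ((TrivExt.alg M).str.app (op U)).hom a :=
        congrArg (fun χ => (χ.app (op U)).hom a) D.comm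
      show (D.hom.app (op U)).hom ((θ.hom.app (op U)).hom ((A.str.app (op U)).hom a)) = _
      rw [h1, h2]
      rfl
    have key : ∀ z : SymmetricAlgebra Γ(S, U) Γ(E, U), ∃ e : Γ(E, U), q.app U e = (ρ (liftU A j U z)).snd := by
      intro z
      induction z using SymmetricAlgebra.induction with
      | algebraMap a =>
        refine ⟨0, ?_⟩
        rw [liftU_algebraMap, hstr, TrivSqZeroExt.snd_inl]
        exact map_zero _
      | ι e =>
        refine ⟨e, ?_⟩
        rw [liftU_ι]
        exact hq e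
      | add x y hx hy =>
        obtain ⟨e1, h1⟩ := hx
        obtain ⟨e2, h2⟩ := hy
        refine ⟨e1 + e2, ?_⟩
        have h3 : (ρ (liftU A j U (x + y))).snd = (ρ (liftU A j U x)).snd + (ρ (liftU A j U y)).snd := by
          rw [map_add (liftU A j U), map_add ρ, TrivSqZeroExt.snd_add]
        rw [h3, ← h1, ← h2]
        exact map_add _ _ _
      | mul x y hx hy =>
        obtain ⟨e1, h1⟩ := hx
        obtain ⟨e2, h2⟩ := hy
        refine ⟨(ρ (liftU A j U x)).fst • e2 + (ρ (liftU A j U y)).fst • e1, ?_⟩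
        have h3 : (ρ (liftU A j U (x * y))).snd = (ρ (liftU A j U x)).fst • (ρ (liftU A j U y)).snd +
            (ρ (liftU A j U y)).fst • (ρ (liftU A j U x)).snd := by
          rw [map_mul (liftU A j U), map_mul ρ, TrivExt.snd_mul']
        rw [h3, ← h1, ← h2]
        refine (map_add _ _ _).trans ?_
        rw [Scheme.Modules.Hom.app_smul, Scheme.Modules.Hom.app_smul]
    intro m
    obtain ⟨x, hx⟩ := surjective_theta A B i hiπ U hU (asR B ((jHom M hQC).app U m))
    obtain ⟨z, rfl⟩ := (liftU_bijective hA U hU).2 x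
    obtain ⟨e, he⟩ := key z
    refine ⟨e, he.trans ?_⟩
    show ((D.hom.app (op U)).hom ((θ.hom.app (op U)).hom (liftU A j U z))).snd = m
    have h3 : (D.hom.app (op U)).hom (asR B ((jHom M hQC).app U m)) = (TrivSqZeroExt.inr m : TrivExt.TS M U) :=
      congrArg (fun χ => asR (TrivExt.alg M) (χ.app U m)) hD'
    have hx' : (θ.hom.app (op U)).hom (liftU A j U z) = asR B ((jHom M hQC).app U m) := hx
    rw [hx', h3, TrivSqZeroExt.snd_inr]

open Groth.Agent.Lib.Helper17.QCAlgGen in
/-- **(⇒)**: a quasi-coherent module generating the direct image algebra of an affine morphism gives a closed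
immersion into its vector bundle -/
theorem exists_closedImmersion_of_gen {Y : Scheme.{u}} (f : Y ⟶ S) [IsAffineHom f]
    (E : S.Modules) [E.IsQuasicoherent] (φ : E ⟶ (RelSpec.QCAlg.directImage f).toModule)
    (hgen : ∀ U : S.affineOpens, Gen φ U.1) :
    ∃ i : Y ⟶ (symAlg E (isQC_symPre_of_isQuasicoherent E)).spec,
      IsClosedImmersion i ∧ i ≫ (symAlg E (isQC_symPre_of_isQuasicoherent E)).π = f := by
  let B := RelSpec.QCAlg.directImage f
  have hQC := isQC_symPre_of_isQuasicoherent E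
  obtain ⟨ψ, hψ, -⟩ := isSymAlg hQC B φ
  have hψ' : jHom E hQC ≫ RelSpec.QCAlg.Hom.toModuleMap ψ = φ := hψ
  obtain ⟨c, hc, hcπ⟩ := AffSpec.exists_iso_spec_directImage f
  have hsurj : ∀ U : S.affineOpens, Function.Surjective (ψ.hom.app (op U.1)).hom := by
    intro U
    have h1 : Subring.closure (genSet φ U.1) ≤ (ψ.hom.app (op U.1)).hom.range := by
      refine Subring.closure_le.2 ?_
      rintro x (⟨a, rfl⟩ | ⟨e, rfl⟩)
      · exact ⟨((symAlg E hQC).str.app (op U.1)).hom a, congrArg (fun χ => (χ.app (op U.1)).hom a) ψ.comm⟩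
      · refine ⟨asR (symAlg E hQC) ((jHom E hQC).app U.1 e), ?_⟩
        have := congrArg (fun χ : E ⟶ B.toModule => χ.app U.1 e) hψ'
        exact this
    intro y
    have hy : y ∈ Subring.closure (genSet φ U.1) := by
      rw [hgen U]
      trivial
    exact h1 hy
  have hci : IsClosedImmersion (RelSpec.QCAlg.specMap ψ) := by
    refine RelSpecCover.prop_specMap_of_charts ψ @IsClosedImmersion (fun x => ?_)
    obtain ⟨_, ⟨U, hU, rfl⟩, hxU, -⟩ := S.isBasis_affineOpens.exists_subset_of_mem_open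
      (Set.mem_univ x) isOpen_univ
    exact ⟨U, hU, hxU, IsClosedImmersion.spec_of_surjective _ (hsurj ⟨U, hU⟩)⟩
  refine ⟨c ≫ RelSpec.QCAlg.specMap ψ, ?_, ?_⟩
  · infer_instance
  · rw [Category.assoc, RelSpec.QCAlg.specMap_π]
    exact hcπ

open Groth.Agent.Lib.Helper17.QCAlgGen in
/-- an epimorphism onto the underlying module of a quasi-coherent algebra generates it -/
theorem gen_of_epi (B : RelSpec.QCAlg S) (E : S.Modules) [E.IsQuasicoherent] (φ : E ⟶ B.toModule)
    [Epi φ] (U : S.affineOpens) : Gen φ U.1 := by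
  unfold Gen
  rw [eq_top_iff]
  intro y _
  obtain ⟨e, he⟩ := Groth.Agent.Lib.Helper26.LC31.surjective_app_of_epi φ U.2
    (show Γ(B.toModule, U.1) from y)
  have h1 := jB_mem φ U.1 e
  have h2 : jB φ U.1 e = y := he
  rw [h2] at h1
  exact h1

open Groth.Agent.Lib.Helper17.QCAlgGen in
/-- generation is preserved by precomposition with an epimorphism of quasi-coherent modules -/
theorem gen_comp (B : RelSpec.QCAlg S) {E E₀ : S.Modules} [E.IsQuasicoherent] [E₀.IsQuasicoherent]
    (π : E ⟶ E₀) [Epi π] (φ : E₀ ⟶ B.toModule) (U : S.affineOpens) (h : Gen φ U.1) :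
    Gen (π ≫ φ) U.1 := by
  unfold Gen at h ⊢
  rw [eq_top_iff, ← h]
  refine Subring.closure_le.2 ?_
  rintro x (⟨a, rfl⟩ | ⟨e, rfl⟩)
  · exact Subring.subset_closure (Or.inl ⟨a, rfl⟩)
  · obtain ⟨e', rfl⟩ := Groth.Agent.Lib.Helper26.LC31.surjective_app_of_epi π U.2 e
    exact Subring.subset_closure (Or.inr ⟨e', rfl⟩)

/-- the restriction of a morphism out of a coproduct to a finite sub-coproduct -/
abbrev subDesc {κ : Type u} (F : κ → S.Modules) {M : S.Modules} (π : (∐ F) ⟶ M) (s : Finset κ) :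
    (∐ fun k : {k // k ∈ s} => F k.1) ⟶ M :=
  Sigma.desc (fun k => Sigma.ι F k.1 ≫ π)

/-- **an epimorphism from a coproduct of quasi-coherent modules onto a quasi-coherent module of finite type
on a quasi-compact scheme is already an epimorphism on a finite sub-coproduct** -/
theorem exists_finset_epi [CompactSpace S] {κ : Type u} (F : κ → S.Modules)
    [∀ k, (F k).IsQuasicoherent] (M : S.Modules) [M.IsQuasicoherent]
    [SheafOfModules.IsFiniteType.{u} (R := S.ringCatSheaf) M] (π : (∐ F) ⟶ M) [Epi π] :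
    ∃ s : Finset κ, Epi (subDesc F π s) := by
  classical
  haveI : (∐ F).IsQuasicoherent := Groth.Agent.Lib.Helper16.QCohSigma.isQuasicoherent_sigma F
  -- a finite affine cover
  have hcov : ∀ x : S, ∃ V : S.affineOpens, x ∈ V.1 := by
    intro x
    obtain ⟨_, ⟨V, hV, rfl⟩, hxV, -⟩ := S.isBasis_affineOpens.exists_subset_of_mem_open
      (Set.mem_univ x) isOpen_univ
    exact ⟨⟨V, hV⟩, hxV⟩
  obtain ⟨t, ht⟩ := isCompact_univ.elim_finite_subcover
    (fun V : S.affineOpens => ((V.1 : S.Opens) : Set S))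
    (fun V => V.1.isOpen) (fun x _ => Set.mem_iUnion.2 (hcov x))
  have htmem : ∀ x : S, ∃ V ∈ t, x ∈ V.1 := by
    intro x
    have := ht (Set.mem_univ x)
    simp only [Set.mem_iUnion] at this
    obtain ⟨V, hVt, hxV⟩ := this
    exact ⟨V, hVt, hxV⟩
  -- every section over an affine open is a finite combination
  have hsec : ∀ (V : S.affineOpens) (g : Γ(M, V.1)), ∃ (T : Finset κ) (y : ∀ k, Γ(F k, V.1)),
      g = ∑ k ∈ T, (Sigma.ι F k ≫ π).app V.1 (y k) := by
    intro V g
    obtain ⟨w, hw⟩ := Groth.Agent.Lib.Helper26.LC31.surjective_app_of_epi π V.2 g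
    obtain ⟨T, y, hy⟩ := Groth.Agent.Lib.Helper17.SigmaHH.exists_finset_sum_sections S
      V.2.isCompact V.2.isQuasiSeparated F w
    refine ⟨T, y, ?_⟩
    have e3 : w = ∑ k ∈ T, (Sigma.ι F k).app V.1 (y k) := hy
    rw [← hw, e3]
    exact map_sum _ _ _
  choose T y hTy using hsec
  have hfin : ∀ V : S.affineOpens, ∃ G : Finset Γ(M, V.1),
      Submodule.span Γ(S, V.1) (G : Set Γ(M, V.1)) = ⊤ := by
    intro V
    haveI := Groth.Agent.Lib.Helper28.FinType.finite_of_isAffineOpen M V.2
    exact (Module.finite_def.1 inferInstance)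
  choose G hG using hfin
  let s : Finset κ := t.biUnion fun V => (G V).biUnion fun g => T V g
  refine ⟨s, ?_⟩
  refine epi_of_affine_cover (subDesc F π s) (fun V : {V : S.affineOpens // V ∈ t} => V.1.1)
    (fun V => V.1.2) (fun x => ?_) (fun V => isLocOn_of_isQuasicoherent M V.1.2) (fun V => ?_)
  · obtain ⟨V, hVt, hxV⟩ := htmem x
    exact ⟨⟨V, hVt⟩, hxV⟩
  · obtain ⟨V, hVt⟩ := V
    let R : Submodule Γ(S, V.1) Γ(M, V.1) :=
      { carrier := Set.range ((subDesc F π s).app V.1)
        add_mem' := by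
          rintro _ _ ⟨a, rfl⟩ ⟨b, rfl⟩
          exact ⟨a + b, map_add _ _ _⟩
        zero_mem' := ⟨0, map_zero _⟩
        smul_mem' := by
          rintro c _ ⟨a, rfl⟩
          exact ⟨c • a, Scheme.Modules.Hom.app_smul _ _ _⟩ }
    have hR : ∀ g ∈ G V, g ∈ R := by
      intro g hg
      rw [hTy V g]
      refine Submodule.sum_mem _ (fun k hk => ?_)
      have hks : k ∈ s := Finset.mem_biUnion.2 ⟨V, hVt, Finset.mem_biUnion.2 ⟨g, hg, hk⟩⟩
      refine ⟨(Sigma.ι (fun k : {k // k ∈ s} => F k.1) ⟨k, hks⟩).app V.1 (y V g k), ?_⟩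
      have h1 : Sigma.ι (fun k : {k // k ∈ s} => F k.1) ⟨k, hks⟩ ≫ subDesc F π s =
          Sigma.ι F k ≫ π := Sigma.ι_desc _ _
      exact congrArg (fun ψ => ψ.app V.1 (y V g k)) h1
    have htop : R = ⊤ := by
      rw [eq_top_iff, ← hG V]
      exact Submodule.span_le.2 hR
    intro m
    have : m ∈ R := by rw [htop]; trivial
    exact this

open Groth.Agent.Lib.Helper17.QCAlgGen in
/-- **a family of quasi-coherent modules on a quasi-compact quasi-separated scheme is generating if and only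
if every affine morphism embeds into the vector bundle of a direct sum of copies of members** -/
theorem main [CompactSpace S] [QuasiSeparatedSpace S] {ι : Type u} (E : ι → S.Modules)
    (hE : ∀ i, (E i).IsQuasicoherent) :
    (∀ M : S.Modules, M.IsQuasicoherent →
      ∃ (κ : Type u) (j : κ → ι) (π : (∐ fun k : κ => E (j k)) ⟶ M), Epi π) ↔
    (∀ (Y : Scheme.{u}) (f : Y ⟶ S) [IsAffineHom f],
      ∃ (κ : Type u) (j : κ → ι) (B : RelSpec.QCAlg S) (φ : (∐ fun k : κ => E (j k)) ⟶ B.toModule)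
        (c : Y ⟶ B.spec),
        RelSpec.IsSymAlg (∐ fun k : κ => E (j k)) B φ ∧ IsClosedImmersion c ∧ c ≫ B.π = f ∧
        (LocallyOfFiniteType f → Finite κ)) := by
  haveI := hE
  constructor
  · intro hgen Y f _
    let B := RelSpec.QCAlg.directImage f
    by_cases hft : LocallyOfFiniteType f
    · have hB : ∀ U : S.affineOpens, (B.str.app (op (U : S.Opens))).hom.FiniteType := by
        intro U
        have h := LocallyOfFiniteType.finiteType_appLE f U.2 (U.2.preimage f) le_rfl
        have e : f.appLE U.1 (f ⁻¹ᵁ U.1) le_rfl = f.app U.1 := Scheme.Hom.appLE_eq_app f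
        rw [e] at h
        exact h
      obtain ⟨E₀, φ₀, -, hq, hft₀, hgen₀⟩ := exists_gen B hB
      haveI : E₀.IsQuasicoherent := hq
      haveI : SheafOfModules.IsFiniteType.{u} (R := S.ringCatSheaf) E₀ := hft₀
      obtain ⟨κ₀, j₀, π₀, hπ₀⟩ := hgen E₀ hq
      haveI := hπ₀
      haveI : ∀ k, (E (j₀ k)).IsQuasicoherent := fun k => hE _
      obtain ⟨s, hs⟩ := exists_finset_epi (fun k => E (j₀ k)) E₀ π₀
      haveI := hs
      let κ : Type u := {k // k ∈ s}
      let E' : S.Modules := ∐ fun k : κ => E (j₀ k.1)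
      haveI : ∀ k : κ, (E (j₀ k.1)).IsQuasicoherent := fun k => hE _
      haveI : E'.IsQuasicoherent :=
        Groth.Agent.Lib.Helper16.QCohSigma.isQuasicoherent_sigma (fun k : κ => E (j₀ k.1))
      let φ : E' ⟶ B.toModule := subDesc (fun k => E (j₀ k)) π₀ s ≫ φ₀
      have hφ : ∀ U : S.affineOpens, Gen φ U.1 := fun U =>
        gen_comp B (subDesc (fun k => E (j₀ k)) π₀ s) φ₀ U (hgen₀ U)
      obtain ⟨i, hi, hiπ⟩ := exists_closedImmersion_of_gen f E' φ hφ
      exact ⟨κ, fun k => j₀ k.1, symAlg E' (isQC_symPre_of_isQuasicoherent E'),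
        jHom E' (isQC_symPre_of_isQuasicoherent E'), i, isSymAlg _, hi, hiπ,
        fun _ => inferInstanceAs (Finite {k // k ∈ s})⟩
    · obtain ⟨κ, j, π, hπ⟩ := hgen B.toModule inferInstance
      haveI := hπ
      let E' : S.Modules := ∐ fun k : κ => E (j k)
      haveI : ∀ k : κ, (E (j k)).IsQuasicoherent := fun k => hE _
      haveI : E'.IsQuasicoherent :=
        Groth.Agent.Lib.Helper16.QCohSigma.isQuasicoherent_sigma (fun k : κ => E (j k))
      have hφ : ∀ U : S.affineOpens, Gen π U.1 := fun U => gen_of_epi B E' π U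
      obtain ⟨i, hi, hiπ⟩ := exists_closedImmersion_of_gen f E' π hφ
      exact ⟨κ, j, symAlg E' (isQC_symPre_of_isQuasicoherent E'),
        jHom E' (isQC_symPre_of_isQuasicoherent E'), i, isSymAlg _, hi, hiπ,
        fun h => absurd h hft⟩
  · intro H M hM
    haveI : M.IsQuasicoherent := hM
    let B := symAlg M (isQC_symPre_of_isQuasicoherent M)
    obtain ⟨κ, j, A, φ, c, hA, hc, hcπ, -⟩ := H B.spec B.π
    haveI := hc
    haveI : ∀ k : κ, (E (j k)).IsQuasicoherent := fun k => hE _
    haveI : (∐ fun k : κ => E (j k)).IsQuasicoherent :=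
      Groth.Agent.Lib.Helper16.QCohSigma.isQuasicoherent_sigma (fun k : κ => E (j k))
    obtain ⟨q, hq⟩ := exists_epi_of_closedImmersion M (∐ fun k : κ => E (j k)) A φ hA c hcπ
    exact ⟨κ, j, q, hq⟩

end Groth.Agent.Lib.Helper26.LC37
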