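import Mathlib

/-!
# Idempotents of Laurent series rings are constant

Reduction to power series: if `f * f = X ^ N * f` in `R⟦X⟧` then `f = C r * X ^ N` with `r`
idempotent; induction on `N` over all rings, killing the (square-zero) constant coefficient.
-/

namespace Groth.Agent.Lib.Helper26.LaurentIdem

set_option maxHeartbeats 400000

universe u

open PowerSeries

/-- an idempotent power series is constant -/
lemma idem_const {R : Type u} [CommRing R] (f : R⟦X⟧) (hf : f * f = f) :
    f = C (constantCoeff f) := by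
  have hcc : constantCoeff f * constantCoeff f = constantCoeff f := by
    have := congrArg constantCoeff hf
    rwa [map_mul] at this
  generalize hc : constantCoeff f = c at hcc ⊢
  have hg0 : constantCoeff (f - C c) = 0 := by
    rw [map_sub, constantCoeff_C, hc, sub_self]
  have hu : IsUnit (1 - 2 * C c - (f - C c)) := by
    rw [isUnit_iff_constantCoeff, map_sub, hg0, sub_zero, map_sub, map_one, map_mul,
      constantCoeff_C]
    have h2 : constantCoeff (2 : R⟦X⟧) = 2 := by
      rw [show (2 : R⟦X⟧) = C (2 : R) by rw [map_ofNat], constantCoeff_C]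
    rw [h2]
    refine IsUnit.of_mul_eq_one (1 - 2 * c) ?_
    linear_combination 4 * hcc
  have hCC : (C c : R⟦X⟧) * C c = C c := by rw [← map_mul, hcc]
  have hzero : (f - C c) * (1 - 2 * C c - (f - C c)) = 0 := by
    linear_combination hCC - hf
  have : f - C c = 0 := (hu.mul_left_eq_zero).1 hzero
  exact sub_eq_zero.1 this

theorem key : ∀ (N : ℕ) (R : Type u) [CommRing R] (f : R⟦X⟧), f * f = X ^ N * f →
    ∃ r : R, IsIdempotentElem r ∧ f = C r * X ^ N := by
  intro N
  induction N with
  | zero =>
    intro R _ f hf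
    rw [pow_zero, one_mul] at hf
    refine ⟨constantCoeff f, ?_, ?_⟩
    · have := congrArg constantCoeff hf
      rwa [map_mul] at this
    · rw [pow_zero, mul_one]; exact idem_const f hf
  | succ N ih =>
    intro R _ f hf
    have haa : constantCoeff f * constantCoeff f = 0 := by
      have := congrArg constantCoeff hf
      rw [map_mul, map_mul, map_pow, constantCoeff_X, zero_pow (Nat.succ_ne_zero N),
        zero_mul] at this
      exact this
    generalize ha : constantCoeff f = a at haa
    let I : Ideal R := Ideal.span {a}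
    let π : R⟦X⟧ →+* (R ⧸ I)⟦X⟧ := PowerSeries.map (Ideal.Quotient.mk I)
    have hπ0 : constantCoeff (π f) = 0 := by
      have : constantCoeff (π f) = Ideal.Quotient.mk I (constantCoeff f) := by
        rw [← coeff_zero_eq_constantCoeff_apply, ← coeff_zero_eq_constantCoeff_apply]
        exact coeff_map _ _ _
      rw [this, ha, Ideal.Quotient.eq_zero_iff_mem]
      exact Ideal.subset_span rfl
    obtain ⟨g', hg'⟩ := X_dvd_iff.2 hπ0
    have hπf : π f * π f = X ^ (N + 1) * π f := by
      rw [← map_mul, hf, map_mul, map_pow]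
      congr 2
      exact map_X _
    have hg2 : g' * g' = X ^ N * g' := by
      apply X_pow_mul_cancel (k := 2)
      rw [hg'] at hπf
      linear_combination hπf
    obtain ⟨rbar, hrbar, hg'eq⟩ := ih (R ⧸ I) g' hg2
    have hker : ∀ x ∈ RingHom.ker (Ideal.Quotient.mk I), IsNilpotent x := by
      intro x hx
      rw [Ideal.mk_ker] at hx
      obtain ⟨c, rfl⟩ := Ideal.mem_span_singleton'.1 hx
      exact ⟨2, by rw [pow_two]; linear_combination c * c * haa⟩
    obtain ⟨r, hr, hrmap⟩ := exists_isIdempotentElem_eq_of_ker_isNilpotent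
      (Ideal.Quotient.mk I) hker rbar
      (RingHom.mem_range.2 (Ideal.Quotient.mk_surjective rbar)) hrbar
    have hπd : π (f - C r * X ^ (N + 1)) = 0 := by
      have h1 : π (C r) = C rbar := by
        rw [← hrmap]; exact map_C _ _
      have h2 : π X = X := map_X _
      rw [map_sub, hg', hg'eq, map_mul, map_pow, h1, h2]
      ring
    have hcoef : ∀ n, ∃ c, c * a = coeff n (f - C r * X ^ (N + 1)) := by
      intro n
      have : (Ideal.Quotient.mk I) (coeff n (f - C r * X ^ (N + 1))) = 0 := by
        have := congrArg (coeff n) hπd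
        rwa [coeff_map, map_zero] at this
      rw [Ideal.Quotient.eq_zero_iff_mem] at this
      exact Ideal.mem_span_singleton'.1 this
    choose c hc using hcoef
    have hdh : f - C r * X ^ (N + 1) = C a * PowerSeries.mk c := by
      ext n
      rw [coeff_C_mul, coeff_mk, ← hc n, mul_comm]
    have hCa : (C a : R⟦X⟧) * C a = 0 := by rw [← map_mul, haa, map_zero]
    have hCr : (C r : R⟦X⟧) * C r = C r := by rw [← map_mul, hr.eq]
    generalize hd : f - C r * X ^ (N + 1) = d at hdh
    have hdd : d * d = 0 := by
      rw [hdh]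
      linear_combination (PowerSeries.mk c * PowerSeries.mk c) * hCa
    have hfu : f = C r * X ^ (N + 1) + d := by rw [← hd]; ring
    have h1 : X ^ (N + 1) * ((2 * C r - 1) * d) = X ^ (N + 1) * 0 := by
      rw [hfu] at hf
      linear_combination hf - hdd - X ^ (N + 1) * X ^ (N + 1) * hCr
    have h2 : (2 * C r - 1) * d = 0 := X_pow_mul_cancel h1
    have h3 : d = (2 * C r - 1) * ((2 * C r - 1) * d) := by
      linear_combination (-4 * d) * hCr
    rw [h2, mul_zero] at h3
    refine ⟨r, hr, ?_⟩
    rw [hfu, h3, add_zero]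

theorem main (R : Type u) [CommRing R] (e : LaurentSeries R) (he : IsIdempotentElem e) :
    ∃! r : R, IsIdempotentElem r ∧ HahnSeries.C r = e := by
  obtain ⟨⟨f, s⟩, hfs⟩ := IsLocalization.surj (Submonoid.powers (PowerSeries.X : R⟦X⟧)) e
  obtain ⟨N, hN⟩ := s.2
  have hs : (s : R⟦X⟧) = X ^ N := hN.symm
  simp only at hfs
  rw [hs] at hfs
  have hff : f * f = X ^ N * f := by
    apply HahnSeries.ofPowerSeries_injective (Γ := ℤ)
    have : algebraMap R⟦X⟧ (LaurentSeries R) (f * f) = algebraMap _ _ (X ^ N * f) := by
      rw [map_mul, map_mul, ← hfs]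
      have := he.eq
      linear_combination (algebraMap R⟦X⟧ (LaurentSeries R) (X ^ N)) ^ 2 * this
    exact this
  obtain ⟨r, hr, hfr⟩ := key N R f hff
  have hunit : IsUnit (algebraMap R⟦X⟧ (LaurentSeries R) (X ^ N)) :=
    IsLocalization.map_units _ (⟨X ^ N, N, rfl⟩ : Submonoid.powers (PowerSeries.X : R⟦X⟧))
  have hCe : HahnSeries.C r = e := by
    apply hunit.mul_right_cancel
    rw [hfs, hfr, map_mul]
    congr 1
    exact (HahnSeries.ofPowerSeries_C (Γ := ℤ) r).symm
  refine ⟨r, ⟨hr, hCe⟩, ?_⟩
  rintro r' ⟨_, hr'⟩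
  apply HahnSeries.C_injective (Γ := ℤ)
  rw [hr', hCe]

end Groth.Agent.Lib.Helper26.LaurentIdem
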