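import Mathlib

/-!
Squares in `k((t))`, `k` algebraically closed of characteristic `≠ 2`.
-/

set_option autoImplicit false
universe u

namespace Groth.Agent.Lib.Helper26.LaurentSq

open Polynomial in
lemma ps_sqrt (k : Type u) [Field k] (h2 : (2 : k) ≠ 0) (u : PowerSeries k)
    (hu : PowerSeries.constantCoeff u = 1) : ∃ a : PowerSeries k, a * a = u := by
  have hmonic : (X ^ 2 - C u : (PowerSeries k)[X]).Monic := by
    apply monic_X_pow_sub_C; norm_num
  have h₁ : (X ^ 2 - C u : (PowerSeries k)[X]).eval 1 ∈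
      (Ideal.span {(PowerSeries.X : PowerSeries k)}) := by
    rw [Ideal.mem_span_singleton, PowerSeries.X_dvd_iff]
    simp [hu]
  have h₂ : IsUnit (Ideal.Quotient.mk (Ideal.span {(PowerSeries.X : PowerSeries k)})
      ((derivative (X ^ 2 - C u : (PowerSeries k)[X])).eval 1)) := by
    apply IsUnit.map
    have : (derivative (X ^ 2 - C u : (PowerSeries k)[X])).eval 1 = 2 := by
      simp; norm_num
    rw [this, PowerSeries.isUnit_iff_constantCoeff]
    have : PowerSeries.constantCoeff (2 : PowerSeries k) = 2 := map_ofNat _ 2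
    rw [this]
    exact isUnit_iff_ne_zero.2 h2
  obtain ⟨a, ha, -⟩ := HenselianRing.is_henselian (R := PowerSeries k)
    (I := Ideal.span {(PowerSeries.X : PowerSeries k)}) _ hmonic 1 h₁ h₂
  refine ⟨a, ?_⟩
  have : a ^ 2 - u = 0 := by simpa [IsRoot] using ha
  rw [← sq]
  exact sub_eq_zero.1 this

open HahnSeries in
theorem main (k : Type u) [Field k] [IsAlgClosed k] (h2 : (2 : k) ≠ 0)
    (f : LaurentSeries k) (hf : f ≠ 0) : IsSquare f ↔ Even f.order := by
  constructor
  · rintro ⟨g, rfl⟩
    have hg : g ≠ 0 := by rintro rfl; simp at hf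
    rw [HahnSeries.order_mul hg hg]
    exact ⟨g.order, rfl⟩
  · rintro ⟨m, hm⟩
    set F := f.powerSeriesPart with hF
    set c := PowerSeries.constantCoeff F with hc
    have hc0 : c ≠ 0 := by
      rw [hc, ← PowerSeries.coeff_zero_eq_constantCoeff_apply, LaurentSeries.powerSeriesPart_coeff]
      simpa using (not_congr HahnSeries.coeff_order_eq_zero).2 hf
    obtain ⟨d, hd⟩ := IsAlgClosed.exists_pow_nat_eq c (n := 2) (by norm_num)
    set u := PowerSeries.C c⁻¹ * F with hu
    have hu1 : PowerSeries.constantCoeff u = 1 := by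
      rw [hu, map_mul, PowerSeries.constantCoeff_C, ← hc, inv_mul_cancel₀ hc0]
    obtain ⟨a, ha⟩ := ps_sqrt k h2 u hu1
    have hFa : F = (PowerSeries.C d * a) * (PowerSeries.C d * a) := by
      have : (PowerSeries.C d * a) * (PowerSeries.C d * a)
          = PowerSeries.C (d ^ 2) * (a * a) := by
        rw [map_pow]; ring
      rw [this, ha, hd, hu, ← mul_assoc, ← map_mul, mul_inv_cancel₀ hc0, map_one, one_mul]
    refine ⟨single m 1 * ofPowerSeries ℤ k (PowerSeries.C d * a), ?_⟩
    have h1 := LaurentSeries.single_order_mul_powerSeriesPart f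
    rw [← hF, hm, hFa, map_mul] at h1
    have h3 : (single (m + m) (1 : k)) = single m 1 * single m 1 := by
      rw [single_mul_single, one_mul]
    rw [← h1, h3]
    ring

end Groth.Agent.Lib.Helper26.LaurentSq
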