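import Groth.Prelude.Def_HopfRep
import Mathlib.LinearAlgebra.TensorProduct.Basis
import Mathlib.LinearAlgebra.Basis.VectorSpace
import Mathlib.LinearAlgebra.Dual.Lemmas
import Mathlib.RingTheory.Bialgebra.Hom

/-!
# Left slices of a coaction: matrix coefficients (helper26)
-/

universe u v w w'
open TensorProduct

namespace Groth.Agent.Lib.Helper26.LeftSlice

open HopfRep

section Basic

variable {k : Type u} [CommRing k] {W : Type w} [AddCommGroup W] [Module k W]

/-- `(ψ ⊗ id) : W ⊗ M → M` -/
noncomputable def L (ψ : W →ₗ[k] k) (M : Type w') [AddCommGroup M] [Module k M] :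
    W ⊗[k] M →ₗ[k] M :=
  (TensorProduct.lid k M).toLinearMap ∘ₗ ψ.rTensor M

@[simp] theorem L_tmul (ψ : W →ₗ[k] k) {M : Type w'} [AddCommGroup M] [Module k M] (w : W) (m : M) :
    L ψ M (w ⊗ₜ[k] m) = ψ w • m := by
  simp [L]

theorem L_lTensor (ψ : W →ₗ[k] k) {M : Type w'} [AddCommGroup M] [Module k M]
    {N : Type*} [AddCommGroup N] [Module k N] (f : M →ₗ[k] N) (x : W ⊗[k] M) :
    L ψ N (f.lTensor W x) = f (L ψ M x) := by
  induction x using TensorProduct.induction_on with
  | zero => simp
  | tmul w m => simp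
  | add x y hx hy => simp only [map_add, hx, hy]

theorem L_assoc (ψ : W →ₗ[k] k) {M : Type w'} [AddCommGroup M] [Module k M]
    {N : Type*} [AddCommGroup N] [Module k N] (z : (W ⊗[k] M) ⊗[k] N) :
    L ψ (M ⊗[k] N) (TensorProduct.assoc k W M N z) = (L ψ M).rTensor N z := by
  induction z using TensorProduct.induction_on with
  | zero => simp
  | tmul x n =>
    induction x using TensorProduct.induction_on with
    | zero => simp
    | tmul w m => simp [TensorProduct.smul_tmul']
    | add x y hx hy => simp only [TensorProduct.add_tmul, map_add, hx, hy]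
  | add x y hx hy => simp only [map_add, hx, hy]

end Basic

section Main

variable {k : Type u} [Field k] {A B : Type v} [CommRing A] [CommRing B] [Bialgebra k A]
  [Bialgebra k B] (π : A →ₐc[k] B)
  {W : Type w} [AddCommGroup W] [Module k W] [Comod k A W]

/-- comultiplication of a matrix coefficient -/
theorem comul_L_coact (ψ : W →ₗ[k] k) (v : W) :
    Coalgebra.comul (R := k) (L ψ A (Comod.coact (k := k) (A := A) v)) =
      (L ψ A ∘ₗ Comod.coact (k := k) (A := A)).rTensor A (Comod.coact (k := k) (A := A) v) := by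
  rw [← L_lTensor]
  have h := congrArg (fun f => f v) (Comod.coassoc (k := k) (A := A) (V := W))
  simp only [LinearMap.comp_apply] at h
  rw [← h]
  change L ψ (A ⊗[k] A) (TensorProduct.assoc k W A A _) = _
  rw [L_assoc, LinearMap.rTensor_comp_apply]

theorem coinvariant_L_coact (V : Submodule k W) (hV : IsSubcomod (k := k) (A := A) V)
    (hfix : ∀ v ∈ V, (π.toLinearMap.lTensor W) (Comod.coact (k := k) (A := A) v) =
      v ⊗ₜ[k] (1 : B))
    (ψ : W →ₗ[k] k) (v : W) (hv : v ∈ V) :
    (π.toLinearMap.rTensor A) (Coalgebra.comul (R := k)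
      (L ψ A (Comod.coact (k := k) (A := A) v))) =
      (1 : B) ⊗ₜ[k] (L ψ A (Comod.coact (k := k) (A := A) v)) := by
  rw [comul_L_coact, ← LinearMap.rTensor_comp_apply]
  obtain ⟨y, hy⟩ := hV v hv
  rw [← hy, ← LinearMap.rTensor_comp_apply]
  have hmap : (π.toLinearMap ∘ₗ L ψ A ∘ₗ Comod.coact (k := k) (A := A)) ∘ₗ V.subtype =
      (LinearMap.toSpanSingleton k B 1) ∘ₗ ψ ∘ₗ V.subtype := by
    ext w
    simp only [LinearMap.comp_apply, Submodule.subtype_apply]
    rw [← L_lTensor, hfix w w.2, L_tmul]
    simp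
  rw [hmap]
  clear hy
  induction y using TensorProduct.induction_on with
  | zero => simp
  | tmul w a => simp [TensorProduct.smul_tmul]
  | add x y hx hy => simp only [map_add, TensorProduct.tmul_add, hx, hy]

theorem coact_mem_span (V : Submodule k W) (hV : IsSubcomod (k := k) (A := A) V)
    (hfix : ∀ v ∈ V, (π.toLinearMap.lTensor W) (Comod.coact (k := k) (A := A) v) =
      v ⊗ₜ[k] (1 : B))
    (v : W) (hv : v ∈ V) :
    Comod.coact (k := k) (A := A) v ∈
      Submodule.span k {x : W ⊗[k] A | ∃ w ∈ V, ∃ a : A,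
        (π.toLinearMap.rTensor A) (Coalgebra.comul (R := k) a) = (1 : B) ⊗ₜ[k] a ∧
          x = w ⊗ₜ[k] a} := by
  classical
  obtain ⟨y, hy⟩ := hV v hv
  let b := Module.Free.chooseBasis k V
  let e := TensorProduct.equivFinsuppOfBasisLeft (N := A) b
  have hy2 : y = (e y).sum fun i a => b i ⊗ₜ[k] a := by
    rw [← TensorProduct.equivFinsuppOfBasisLeft_symm_apply, LinearEquiv.symm_apply_apply]
  rw [← hy, hy2, Finsupp.sum, map_sum]
  apply Submodule.sum_mem
  intro i _
  rw [LinearMap.rTensor_tmul]
  apply Submodule.subset_span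
  refine ⟨(b i : W), (b i).2, e y i, ?_, rfl⟩
  -- e y i is a matrix coefficient
  obtain ⟨ψ, hψ⟩ := LinearMap.exists_extend (b.coord i)
  have h1 : e y i = L ψ A (Comod.coact (k := k) (A := A) v) := by
    rw [← hy, TensorProduct.equivFinsuppOfBasisLeft_apply]
    have : ∀ z : V ⊗[k] A, TensorProduct.lid k A ((b.coord i).rTensor A z) =
        L ψ A (V.subtype.rTensor A z) := by
      intro z
      induction z using TensorProduct.induction_on with
      | zero => simp
      | tmul w a =>
        have := congrArg (fun f => f w) hψ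
        simp only [LinearMap.comp_apply, Submodule.subtype_apply] at this
        simp [this]
      | add x y hx hy => simp only [map_add, hx, hy]
    exact this y
  rw [h1]
  exact coinvariant_L_coact π V hV hfix ψ v hv

end Main

end Groth.Agent.Lib.Helper26.LeftSlice
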