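import Mathlib

set_option maxHeartbeats 400000

namespace Groth.Agent.Lib.Helper26.LexHilb

open Polynomial

/-- `α_i(R) = i! · coeff_i R` -/
noncomputable def A (R : ℚ[X]) (i : ℕ) : ℚ := R.coeff i * (i.factorial : ℚ)

lemma coeff_comp_sub (a : ℚ) (R : ℚ[X]) (d : ℕ) (hd : R.natDegree ≤ d) (n : ℕ) :
    (R.comp (X - C a)).coeff n =
      ∑ i ∈ Finset.range (d + 1), (i.choose n : ℚ) * R.coeff i * (-a) ^ (i - n) := by
  have h1 : R.comp (X - C a) = taylor (-a) R := by
    rw [taylor_apply, map_neg, sub_eq_add_neg]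
  rw [h1, taylor_coeff, hasseDeriv_apply,
    Polynomial.sum_over_range' R (f := fun i r => monomial (i - n) (↑(i.choose n) * r))
      (by intro m; simp) (d + 1) (by omega),
    Polynomial.eval_finset_sum]
  refine Finset.sum_congr rfl fun i _ => ?_
  rw [Polynomial.eval_monomial]

lemma A_delta (a : ℚ) (R : ℚ[X]) (d : ℕ) (hd : R.natDegree ≤ d) (n : ℕ) (hn : n ≤ d) :
    A (R - R.comp (X - C a)) n =
      - ∑ i ∈ Finset.range (d + 1),
          if n < i then A R i * (-a) ^ (i - n) / ((i - n).factorial : ℚ) else 0 := by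
  unfold A
  rw [Polynomial.coeff_sub, coeff_comp_sub a R d hd n]
  have hterm : ∀ i ∈ Finset.range (d + 1),
      (i.choose n : ℚ) * R.coeff i * (-a) ^ (i - n) * (n.factorial : ℚ) =
        (if i = n then R.coeff n * (n.factorial : ℚ) else 0) +
        (if n < i then R.coeff i * (i.factorial : ℚ) * (-a) ^ (i - n) / ((i - n).factorial : ℚ)
          else 0) := by
    intro i _
    rcases lt_trichotomy i n with h | h | h
    · rw [Nat.choose_eq_zero_of_lt h, if_neg (by omega), if_neg (by omega)]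
      simp
    · subst h
      simp
    · rw [if_neg (by omega), if_pos h, zero_add]
      have hfac : (i.choose n : ℚ) * (n.factorial : ℚ) * ((i - n).factorial : ℚ) = (i.factorial : ℚ) := by
        exact_mod_cast Nat.choose_mul_factorial_mul_factorial h.le
      have hne : ((i - n).factorial : ℚ) ≠ 0 := by positivity
      rw [← hfac]
      field_simp
  have hsum : (∑ i ∈ Finset.range (d + 1), (i.choose n : ℚ) * R.coeff i * (-a) ^ (i - n)) *
      (n.factorial : ℚ) = R.coeff n * (n.factorial : ℚ) +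
      ∑ i ∈ Finset.range (d + 1),
        if n < i then R.coeff i * (i.factorial : ℚ) * (-a) ^ (i - n) / ((i - n).factorial : ℚ)
          else 0 := by
    rw [Finset.sum_mul, Finset.sum_congr rfl hterm, Finset.sum_add_distrib, Finset.sum_ite_eq']
    rw [if_pos (Finset.mem_range.mpr (by omega))]
  rw [sub_mul, hsum]
  ring

/-- normalized coefficient -/
noncomputable def ν (d : ℕ) (R : ℚ[X]) (i : ℕ) : ℚ := A R i / A R d

/-- normalized coefficient of the difference -/
noncomputable def ν' (d : ℕ) (a : ℚ) (R : ℚ[X]) (n : ℕ) : ℚ :=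
  A (R - R.comp (X - C a)) n / A (R - R.comp (X - C a)) (d - 1)

lemma A_ne (d : ℕ) (R : ℚ[X]) (hR : R.natDegree = d) (hR0 : R ≠ 0) : A R d ≠ 0 := by
  unfold A
  have : R.coeff d ≠ 0 := by
    rw [← hR]; exact Polynomial.leadingCoeff_ne_zero.mpr hR0
  have h2 : ((d.factorial : ℕ) : ℚ) ≠ 0 := by positivity
  exact mul_ne_zero this h2

lemma A_delta_top (a : ℚ) (R : ℚ[X]) (d : ℕ) (hd1 : 1 ≤ d) (hR : R.natDegree = d) :
    A (R - R.comp (X - C a)) (d - 1) = a * A R d := by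
  rw [A_delta a R d hR.le (d - 1) (by omega), Finset.sum_eq_single d]
  · rw [if_pos (by omega)]
    have : d - (d - 1) = 1 := by omega
    rw [this, pow_one, Nat.factorial_one, Nat.cast_one, div_one]
    ring
  · intro i hi hne
    rw [if_neg]
    have := Finset.mem_range.mp hi
    omega
  · intro h
    exact absurd (Finset.mem_range.mpr (by omega)) h

lemma ν'_formula (a : ℚ) (ha : a ≠ 0) (R : ℚ[X]) (d : ℕ) (hd1 : 1 ≤ d) (hR : R.natDegree = d)
    (hR0 : R ≠ 0) (n : ℕ) (hn : n ≤ d - 1) :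
    ν' d a R n = - ∑ i ∈ Finset.range (d + 1),
      if n < i then ν d R i * ((-a) ^ (i - n) / (((i - n).factorial : ℚ) * a)) else 0 := by
  unfold ν' ν
  rw [A_delta_top a R d hd1 hR, A_delta a R d hR.le n (by omega), neg_div, Finset.sum_div]
  congr 1
  refine Finset.sum_congr rfl fun i _ => ?_
  split_ifs with h
  · have h1 := A_ne d R hR hR0
    have h2 : ((i - n).factorial : ℚ) ≠ 0 := by positivity
    field_simp
  · simp

/-- if normalized coefficients agree above `m`, so do those of the differences from `m` on, and the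
difference at `m - 1` is the difference at `m` -/
lemma conv (a : ℚ) (ha : a ≠ 0) (P Q : ℚ[X]) (d : ℕ) (hd1 : 1 ≤ d)
    (hP : P.natDegree = d) (hQ : Q.natDegree = d) (hP0 : P ≠ 0) (hQ0 : Q ≠ 0)
    (m : ℕ) (hm : ∀ i, m < i → i ≤ d → ν d P i = ν d Q i) :
    (∀ n, m ≤ n → n ≤ d - 1 → ν' d a P n = ν' d a Q n) ∧
    (1 ≤ m → m ≤ d → ν' d a P (m - 1) - ν' d a Q (m - 1) = ν d P m - ν d Q m) := by
  constructor
  · intro n hmn hn
    rw [ν'_formula a ha P d hd1 hP hP0 n hn, ν'_formula a ha Q d hd1 hQ hQ0 n hn]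
    congr 1
    refine Finset.sum_congr rfl fun i hi => ?_
    split_ifs with h
    · rw [hm i (by omega) (by have := Finset.mem_range.mp hi; omega)]
    · rfl
  · intro hm1 hmd
    rw [ν'_formula a ha P d hd1 hP hP0 (m - 1) (by omega),
      ν'_formula a ha Q d hd1 hQ hQ0 (m - 1) (by omega), neg_sub_neg, ← Finset.sum_sub_distrib,
      Finset.sum_eq_single m]
    · rw [if_pos (by omega), if_pos (by omega)]
      have : m - (m - 1) = 1 := by omega
      rw [this, pow_one, Nat.factorial_one, Nat.cast_one, one_mul]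
      field_simp
      ring
    · intro i hi hne
      split_ifs with h
      · rw [hm i (by omega) (by have := Finset.mem_range.mp hi; omega), sub_self]
      · simp
    · intro h
      exact absurd (Finset.mem_range.mpr (by omega)) h

lemma ν_top (d : ℕ) (R : ℚ[X]) (hR : R.natDegree = d) (hR0 : R ≠ 0) : ν d R d = 1 := by
  unfold ν; exact div_self (A_ne d R hR hR0)

/-- strict monotonicity -/
lemma mono (d ℓ : ℕ) (hℓ : ℓ + 1 ≤ d) (a : ℚ) (ha : a ≠ 0) (P Q : ℚ[X])
    (hP : P.natDegree = d) (hQ : Q.natDegree = d) (hP0 : P ≠ 0) (hQ0 : Q ≠ 0)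
    (h : toLex (fun j : Fin ℓ => ν d P (d - 1 - (j : ℕ))) <
      toLex (fun j : Fin ℓ => ν d Q (d - 1 - (j : ℕ)))) :
    toLex (fun j : Fin ℓ => ν' d a P ((d - 1) - 1 - (j : ℕ))) <
      toLex (fun j : Fin ℓ => ν' d a Q ((d - 1) - 1 - (j : ℕ))) := by
  obtain ⟨i₀, heq, hlt⟩ := h
  have hi₀ := i₀.2
  set m := d - 1 - (i₀ : ℕ) with hm
  have hagree : ∀ i, m < i → i ≤ d → ν d P i = ν d Q i := by
    intro i hmi hid
    rcases Nat.lt_or_ge i d with hlt' | hge
    · have hj : d - 1 - i < ℓ := by omega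
      have := heq ⟨d - 1 - i, hj⟩ (by
        show (⟨d - 1 - i, hj⟩ : Fin ℓ) < i₀
        rw [Fin.lt_def]; simp only; omega)
      simp only [Pi.toLex_apply] at this
      have hidx : d - 1 - (d - 1 - i) = i := by omega
      rwa [hidx] at this
    · have : i = d := by omega
      rw [this, ν_top d P hP hP0, ν_top d Q hQ hQ0]
  obtain ⟨c1, c2⟩ := conv a ha P Q d (by omega) hP hQ hP0 hQ0 m hagree
  refine ⟨i₀, ?_, ?_⟩
  · intro j hj
    have hj' : (j : ℕ) < (i₀ : ℕ) := hj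
    simp only [Pi.toLex_apply]
    exact c1 _ (by omega) (by omega)
  · simp only [Pi.toLex_apply] at hlt ⊢
    have hidx : d - 1 - 1 - (i₀ : ℕ) = m - 1 := by omega
    rw [hidx]
    have := c2 (by omega) (by omega)
    linarith

/-- equality case -/
lemma eq_case (d ℓ : ℕ) (hℓ : ℓ + 1 ≤ d) (a : ℚ) (ha : a ≠ 0) (P Q : ℚ[X])
    (hP : P.natDegree = d) (hQ : Q.natDegree = d) (hP0 : P ≠ 0) (hQ0 : Q ≠ 0)
    (h : (fun j : Fin ℓ => ν d P (d - 1 - (j : ℕ))) = (fun j : Fin ℓ => ν d Q (d - 1 - (j : ℕ)))) :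
    (fun j : Fin ℓ => ν' d a P ((d - 1) - 1 - (j : ℕ))) =
      (fun j : Fin ℓ => ν' d a Q ((d - 1) - 1 - (j : ℕ))) := by
  have hagree : ∀ i, d - 1 - ℓ < i → i ≤ d → ν d P i = ν d Q i := by
    intro i hmi hid
    rcases Nat.lt_or_ge i d with hlt' | hge
    · have hj : d - 1 - i < ℓ := by omega
      have := congrFun h ⟨d - 1 - i, hj⟩
      simp only at this
      have hidx : d - 1 - (d - 1 - i) = i := by omega
      rwa [hidx] at this
    · have : i = d := by omega
      rw [this, ν_top d P hP hP0, ν_top d Q hQ hQ0]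
  obtain ⟨c1, -⟩ := conv a ha P Q d (by omega) hP hQ hP0 hQ0 (d - 1 - ℓ) hagree
  funext j
  have := j.2
  exact c1 _ (by omega) (by omega)

theorem main (d ℓ : ℕ) (hℓ : ℓ + 1 ≤ d) (a : ℚ) (ha : a ≠ 0)
    (P Q : ℚ[X]) (hP : P.natDegree = d) (hQ : Q.natDegree = d) (hP0 : P ≠ 0) (hQ0 : Q ≠ 0) :
    toLex (fun j : Fin ℓ => ((P).coeff (d - 1 - (j : ℕ)) * (Nat.factorial (d - 1 - (j : ℕ)) : ℚ)) / ((P).coeff (d) * (Nat.factorial (d) : ℚ))) ≤ toLex (fun j : Fin ℓ => ((Q).coeff (d - 1 - (j : ℕ)) * (Nat.factorial (d - 1 - (j : ℕ)) : ℚ)) / ((Q).coeff (d) * (Nat.factorial (d) : ℚ))) ↔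
      toLex (fun j : Fin ℓ => ((P - P.comp (X - C a)).coeff ((d - 1) - 1 - (j : ℕ)) * (Nat.factorial ((d - 1) - 1 - (j : ℕ)) : ℚ)) / ((P - P.comp (X - C a)).coeff ((d - 1)) * (Nat.factorial ((d - 1)) : ℚ))) ≤
        toLex (fun j : Fin ℓ => ((Q - Q.comp (X - C a)).coeff ((d - 1) - 1 - (j : ℕ)) * (Nat.factorial ((d - 1) - 1 - (j : ℕ)) : ℚ)) / ((Q - Q.comp (X - C a)).coeff ((d - 1)) * (Nat.factorial ((d - 1)) : ℚ))) := by
  change toLex (fun j : Fin ℓ => ν d P (d - 1 - (j : ℕ))) ≤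
      toLex (fun j : Fin ℓ => ν d Q (d - 1 - (j : ℕ))) ↔
    toLex (fun j : Fin ℓ => ν' d a P ((d - 1) - 1 - (j : ℕ))) ≤
      toLex (fun j : Fin ℓ => ν' d a Q ((d - 1) - 1 - (j : ℕ)))
  constructor
  · intro h
    rcases lt_or_eq_of_le h with h | h
    · exact (mono d ℓ hℓ a ha P Q hP hQ hP0 hQ0 h).le
    · have := eq_case d ℓ hℓ a ha P Q hP hQ hP0 hQ0 (toLex.injective h)
      rw [this]
  · intro h
    by_contra hcon
    have hlt := not_le.mp hcon
    have := mono d ℓ hℓ a ha Q P hQ hP hQ0 hP0 hlt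
    exact absurd h (not_le.mpr this)

end Groth.Agent.Lib.Helper26.LexHilb
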