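import Mathlib

set_option maxHeartbeats 400000
set_option autoImplicit false

namespace Groth.Agent.Lib.Helper26.Lie3

universe u v

variable {A : Type u} [CommRing A] {L : Type v} [LieRing L] [LieAlgebra A L]
  (bs : Module.Basis (Fin 3) A L)

/-- coordinates -/
noncomputable def co (w : L) (i : Fin 3) : A := bs.repr w i

theorem expand (w : L) : w = co bs w 0 • bs 0 + co bs w 1 • bs 1 + co bs w 2 • bs 2 := by
  conv_lhs => rw [← bs.sum_repr w, Fin.sum_univ_three]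
  rfl

theorem co_lin (a b c : A) (i : Fin 3) :
    co bs (a • bs 0 + b • bs 1 + c • bs 2) i = if i = 0 then a else if i = 1 then b else c := by
  unfold co
  simp only [map_add, map_smul, Module.Basis.repr_self, Finsupp.coe_add, Finsupp.coe_smul,
    Pi.add_apply, Pi.smul_apply, smul_eq_mul]
  fin_cases i <;> simp [Finsupp.single_apply]

theorem lie_expand (p q : L) :
    ⁅p, q⁆ = (co bs p 0 * co bs q 1 - co bs p 1 * co bs q 0) • ⁅bs 0, bs 1⁆ +
      (co bs p 0 * co bs q 2 - co bs p 2 * co bs q 0) • ⁅bs 0, bs 2⁆ +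
      (co bs p 1 * co bs q 2 - co bs p 2 * co bs q 1) • ⁅bs 1, bs 2⁆ := by
  conv_lhs => rw [expand bs p, expand bs q]
  simp only [add_lie, lie_add, smul_lie, lie_smul, lie_self, smul_zero, add_zero, zero_add]
  rw [← lie_skew (bs 1) (bs 0), ← lie_skew (bs 2) (bs 0), ← lie_skew (bs 2) (bs 1)]
  module

theorem co_add (p q : L) (i : Fin 3) : co bs (p + q) i = co bs p i + co bs q i := by
  unfold co; simp

theorem co_bs (j i : Fin 3) : co bs (bs j) i = if i = j then 1 else 0 := by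
  unfold co
  rw [Module.Basis.repr_self, Finsupp.single_apply]
  by_cases h : j = i
  · subst h; simp
  · rw [if_neg h, if_neg (Ne.symm h)]

/-! ### The algebra `r3`: `[x,y] = y`, `[x,z] = y + z`, `[y,z] = 0` -/

section R3

variable (hxy : ⁅bs 0, bs 1⁆ = bs 1) (hxz : ⁅bs 0, bs 2⁆ = bs 1 + bs 2) (hyz : ⁅bs 1, bs 2⁆ = 0)

include hxy hxz hyz in
theorem r3_br (p q : L) :
    ⁅p, q⁆ = (0 : A) • bs 0 +
      ((co bs p 0 * co bs q 1 - co bs p 1 * co bs q 0) +
        (co bs p 0 * co bs q 2 - co bs p 2 * co bs q 0)) • bs 1 +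
      (co bs p 0 * co bs q 2 - co bs p 2 * co bs q 0) • bs 2 := by
  rw [lie_expand bs p q, hxy, hxz, hyz]
  module

include hxy hxz hyz in
theorem r3_shape (θ : L ≃ₗ⁅A⁆ L) :
    co bs (θ (bs 1)) 0 = 0 ∧ co bs (θ (bs 2)) 0 = 0 ∧
    co bs (θ (bs 1)) 1 = co bs (θ (bs 0)) 0 * co bs (θ (bs 1)) 1 +
      co bs (θ (bs 0)) 0 * co bs (θ (bs 1)) 2 ∧
    co bs (θ (bs 1)) 2 = co bs (θ (bs 0)) 0 * co bs (θ (bs 1)) 2 ∧
    co bs (θ (bs 1)) 1 + co bs (θ (bs 2)) 1 = co bs (θ (bs 0)) 0 * co bs (θ (bs 2)) 1 +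
      co bs (θ (bs 0)) 0 * co bs (θ (bs 2)) 2 ∧
    co bs (θ (bs 1)) 2 + co bs (θ (bs 2)) 2 = co bs (θ (bs 0)) 0 * co bs (θ (bs 2)) 2 := by
  have e1 : θ (bs 1) = ⁅θ (bs 0), θ (bs 1)⁆ := by
    rw [← LieEquiv.map_lie, hxy]
  have e2 : θ (bs 1) + θ (bs 2) = ⁅θ (bs 0), θ (bs 2)⁆ := by
    rw [← LieEquiv.map_lie, hxz, map_add]
  rw [r3_br bs hxy hxz hyz] at e1 e2
  have a0 := congrArg (fun w => co bs w 0) e1
  have a1 := congrArg (fun w => co bs w 1) e1
  have a2 := congrArg (fun w => co bs w 2) e1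
  have b0 := congrArg (fun w => co bs w 0) e2
  have b1 := congrArg (fun w => co bs w 1) e2
  have b2 := congrArg (fun w => co bs w 2) e2
  simp only [co_lin] at a0 a1 a2 b0 b1 b2
  simp only [co_add] at b0 b1 b2
  simp only [Fin.isValue, ↓reduceIte, one_ne_zero, Fin.reduceEq] at a0 a1 a2 b0 b1 b2
  have hr0 : co bs (θ (bs 2)) 0 = 0 := by rw [a0, zero_add] at b0; exact b0
  rw [a0] at a1 a2
  rw [hr0] at b1 b2
  refine ⟨a0, hr0, ?_, ?_, ?_, ?_⟩
  · linear_combination a1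
  · linear_combination a2
  · linear_combination b1
  · linear_combination b2

theorem r3_alg (a0 p1 p2 r1 r2 s1 s2 : A) (h2 : IsUnit (2 : A))
    (e1 : p1 = a0 * p1 + a0 * p2) (e2 : p2 = a0 * p2) (e3 : p1 + r1 = a0 * r1 + a0 * r2)
    (e4 : p2 + r2 = a0 * r2) (e5 : s1 * p2 + s2 * r2 = 1) : a0 = 1 ∧ p2 = 0 ∧ p1 = r2 := by
  have hu_p2 : (1 - a0) * p2 = 0 := by linear_combination e2
  have hu_p1 : (1 - a0) * p1 = p2 := by linear_combination e1 - e2
  have hu_r2 : (1 - a0) * r2 = -p2 := by linear_combination e4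
  have hu_r1 : (1 - a0) * r1 = a0 * r2 - p1 := by linear_combination e3
  have hu2 : (1 - a0) * (1 - a0) = 0 := by
    linear_combination (-((1 - a0) * (1 - a0))) * e5 + ((1 - a0) * s1 - s2) * hu_p2 +
      ((1 - a0) * s2) * hu_r2
  have h2p : 2 * p2 = 0 := by
    have h1 : (1 - a0) * ((1 - a0) * r1) = 0 := by rw [← mul_assoc, hu2, zero_mul]
    rw [hu_r1] at h1
    have h2' : a0 * ((1 - a0) * r2) - (1 - a0) * p1 = 0 := by linear_combination h1
    rw [hu_r2, hu_p1] at h2'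
    linear_combination (-1 : A) * h2' + e2
  have hp2 : p2 = 0 := by
    obtain ⟨w, hw⟩ := h2.exists_left_inv
    calc p2 = w * (2 * p2) := by rw [← mul_assoc, hw, one_mul]
      _ = 0 := by rw [h2p, mul_zero]
  have hu : 1 - a0 = 0 := by
    have : (1 - a0) = (1 - a0) * (s1 * p2 + s2 * r2) := by rw [e5, mul_one]
    rw [this]
    linear_combination ((1 - a0) * s1) * hp2 + s2 * hu_r2 - s2 * hp2
  have ha0 : a0 = 1 := by linear_combination -hu
  refine ⟨ha0, hp2, ?_⟩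
  rw [ha0] at e3
  linear_combination e3

include hxy hxz hyz in
theorem r3_main (h2 : IsUnit (2 : A)) (φ : L ≃ₗ⁅A⁆ L) :
    ∃ b c h i : A, IsUnit i ∧ φ (bs 0) = bs 0 + b • bs 1 + c • bs 2 ∧ φ (bs 1) = i • bs 1 ∧
      φ (bs 2) = h • bs 1 + i • bs 2 := by
  obtain ⟨p0, r0, e1, e2, e3, e4⟩ := r3_shape bs hxy hxz hyz φ
  obtain ⟨p0', r0', -, -, -, -⟩ := r3_shape bs hxy hxz hyz φ.symm
  -- φ (φ.symm z) = z
  have hz : φ (φ.symm (bs 2)) = bs 2 := φ.apply_symm_apply _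
  rw [expand bs (φ.symm (bs 2)), r0', zero_smul, zero_add, map_add, map_smul, map_smul] at hz
  have e5 := congrArg (fun w => co bs w 2) hz
  simp only [co_add, co_bs] at e5
  have hsm : ∀ (c : A) (w : L) (i : Fin 3), co bs (c • w) i = c * co bs w i := by
    intro c w i; unfold co; simp
  rw [hsm, hsm] at e5
  simp only [↓reduceIte] at e5
  obtain ⟨ha0, hp2, hp1⟩ := r3_alg _ _ _ _ _ _ _ h2 e1 e2 e3 e4 e5
  have hunit : IsUnit (co bs (φ (bs 2)) 2) := by
    rw [hp2, mul_zero, zero_add] at e5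
    exact IsUnit.of_mul_eq_one _ (by rw [mul_comm]; exact e5)
  refine ⟨co bs (φ (bs 0)) 1, co bs (φ (bs 0)) 2, co bs (φ (bs 2)) 1, co bs (φ (bs 2)) 2,
    hunit, ?_, ?_, ?_⟩
  · conv_lhs => rw [expand bs (φ (bs 0)), ha0, one_smul]
  · conv_lhs => rw [expand bs (φ (bs 1)), p0, hp2, hp1, zero_smul, zero_smul, zero_add, add_zero]
  · conv_lhs => rw [expand bs (φ (bs 2)), r0, zero_smul, zero_add]

end R3

end Groth.Agent.Lib.Helper26.Lie3
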