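import Mathlib
import Groth.Agent.Lib.Helper26.Lie3

set_option maxHeartbeats 400000
set_option autoImplicit false

namespace Groth.Agent.Lib.Helper26.Lie3Alpha

open Groth.Agent.Lib.Helper26.Lie3

universe u v

variable {A : Type u} [CommRing A] {L : Type v} [LieRing L] [LieAlgebra A L]
  (bs : Module.Basis (Fin 3) A L) (a : A)
  (hxy : ⁅bs 0, bs 1⁆ = bs 1) (hxz : ⁅bs 0, bs 2⁆ = a • bs 2) (hyz : ⁅bs 1, bs 2⁆ = 0)

theorem co_smul (c : A) (w : L) (i : Fin 3) : co bs (c • w) i = c * co bs w i := by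
  unfold co; simp

include hxy hxz hyz in
theorem br (p q : L) :
    ⁅p, q⁆ = (0 : A) • bs 0 +
      (co bs p 0 * co bs q 1 - co bs p 1 * co bs q 0) • bs 1 +
      (a * (co bs p 0 * co bs q 2 - co bs p 2 * co bs q 0)) • bs 2 := by
  rw [lie_expand bs p q, hxy, hxz, hyz]
  module

include hxy hxz hyz in
theorem shape (θ : L ≃ₗ⁅A⁆ L) :
    co bs (θ (bs 1)) 0 = 0 ∧
    co bs (θ (bs 1)) 1 = co bs (θ (bs 0)) 0 * co bs (θ (bs 1)) 1 ∧
    co bs (θ (bs 1)) 2 = a * (co bs (θ (bs 0)) 0 * co bs (θ (bs 1)) 2) ∧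
    a * co bs (θ (bs 2)) 0 = 0 ∧
    a * co bs (θ (bs 2)) 1 = co bs (θ (bs 0)) 0 * co bs (θ (bs 2)) 1 -
      co bs (θ (bs 0)) 1 * co bs (θ (bs 2)) 0 ∧
    a * co bs (θ (bs 2)) 2 = a * (co bs (θ (bs 0)) 0 * co bs (θ (bs 2)) 2 -
      co bs (θ (bs 0)) 2 * co bs (θ (bs 2)) 0) := by
  have e1 : θ (bs 1) = ⁅θ (bs 0), θ (bs 1)⁆ := by
    rw [← LieEquiv.map_lie, hxy]
  have e2 : a • θ (bs 2) = ⁅θ (bs 0), θ (bs 2)⁆ := by
    rw [← LieEquiv.map_lie, hxz, map_smul]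
  rw [br bs a hxy hxz hyz] at e1 e2
  have a0 := congrArg (fun w => co bs w 0) e1
  have a1 := congrArg (fun w => co bs w 1) e1
  have a2 := congrArg (fun w => co bs w 2) e1
  have b0 := congrArg (fun w => co bs w 0) e2
  have b1 := congrArg (fun w => co bs w 1) e2
  have b2 := congrArg (fun w => co bs w 2) e2
  simp only [co_lin] at a0 a1 a2 b0 b1 b2
  simp only [co_smul] at b0 b1 b2
  simp only [Fin.isValue, ↓reduceIte, one_ne_zero, Fin.reduceEq] at a0 a1 a2 b0 b1 b2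
  rw [a0] at a1 a2
  refine ⟨a0, ?_, ?_, b0, b1, b2⟩
  · linear_combination a1
  · linear_combination a2

/-- coordinates of `φ w` for `w` in the span of `y, z` -/
theorem co_apply_of_co_zero (φ : L ≃ₗ⁅A⁆ L) (w : L) (hw : co bs w 0 = 0) (i : Fin 3) :
    co bs (φ w) i = co bs w 1 * co bs (φ (bs 1)) i + co bs w 2 * co bs (φ (bs 2)) i := by
  conv_lhs => rw [expand bs w, hw, zero_smul, zero_add, map_add, map_smul, map_smul]
  rw [co_add, co_smul, co_smul]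

theorem alg_unit (a a0 p1 p2 r1 r2 s1 s2 t1 t2 : A) (hU : IsUnit (a * a - 1))
    (h1 : p1 = a0 * p1) (h2 : p2 = a * (a0 * p2)) (h3 : a * r1 = a0 * r1) (h4 : r2 = a0 * r2)
    (i1 : s1 * p1 + s2 * r1 = 1) (i4 : t1 * p2 + t2 * r2 = 1) :
    a0 = 1 ∧ p2 = 0 ∧ r1 = 0 := by
  obtain ⟨w, hw⟩ := hU.exists_left_inv
  have kill : ∀ c : A, (a * a - 1) * c = 0 → c = 0 := by
    intro c hc
    calc c = w * ((a * a - 1) * c) := by rw [← mul_assoc, hw, one_mul]
      _ = 0 := by rw [hc, mul_zero]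
  have e1 : (a - a0) * (1 - a0) = 0 := by
    have : (1 - a0) = (1 - a0) * (s1 * p1 + s2 * r1) := by rw [i1, mul_one]
    rw [this]
    linear_combination ((a - a0) * s1) * h1 + ((1 - a0) * s2) * h3
  have e2 : (1 - a * a0) * (1 - a0) = 0 := by
    have : (1 - a0) = (1 - a0) * (t1 * p2 + t2 * r2) := by rw [i4, mul_one]
    rw [this]
    linear_combination ((1 - a0) * t1) * h2 + ((1 - a * a0) * t2) * h4
  have hu : 1 - a0 = 0 := by
    apply kill
    linear_combination a * e1 - e2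
  have ha0 : a0 = 1 := by linear_combination -hu
  rw [ha0] at h2 h3
  refine ⟨ha0, kill _ ?_, kill _ ?_⟩
  · linear_combination (-(a + 1)) * h2
  · linear_combination (a + 1) * h3

include hxy hxz hyz in
/-- case `a` a unit with `a² - 1` a unit -/
theorem part1_unit (ha : IsUnit a) (hU : IsUnit (a * a - 1)) (φ : L ≃ₗ⁅A⁆ L) :
    ∃ b c e i : A, IsUnit e ∧ IsUnit i ∧ φ (bs 0) = bs 0 + b • bs 1 + c • bs 2 ∧
        φ (bs 1) = e • bs 1 ∧ φ (bs 2) = i • bs 2 := by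
  obtain ⟨p0, h1, h2, hr0a, h3', h4'⟩ := shape bs a hxy hxz hyz φ
  obtain ⟨p0', -, -, hr0a', -, -⟩ := shape bs a hxy hxz hyz φ.symm
  obtain ⟨w, hw⟩ := ha.exists_left_inv
  have cancel : ∀ c : A, a * c = 0 → c = 0 := by
    intro c hc
    calc c = w * (a * c) := by rw [← mul_assoc, hw, one_mul]
      _ = 0 := by rw [hc, mul_zero]
  have r0 := cancel _ hr0a
  have r0' := cancel _ hr0a'
  rw [r0, mul_zero, sub_zero] at h3' h4'
  have h4 : co bs (φ (bs 2)) 2 = co bs (φ (bs 0)) 0 * co bs (φ (bs 2)) 2 := by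
    have := cancel (co bs (φ (bs 2)) 2 - co bs (φ (bs 0)) 0 * co bs (φ (bs 2)) 2) (by
      linear_combination h4')
    linear_combination this
  have iy1 := co_apply_of_co_zero bs φ (φ.symm (bs 1)) p0' 1
  have iz2 := co_apply_of_co_zero bs φ (φ.symm (bs 2)) r0' 2
  rw [φ.apply_symm_apply, co_bs] at iy1 iz2
  simp only [↓reduceIte] at iy1 iz2
  obtain ⟨ha0, hp2, hr1⟩ := alg_unit a _ _ _ _ _ _ _ _ _ hU h1 h2 h3' h4 iy1.symm iz2.symm
  have hunit1 : IsUnit (co bs (φ (bs 1)) 1) := by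
    rw [hr1, mul_zero, add_zero] at iy1
    exact IsUnit.of_mul_eq_one _ (by rw [mul_comm]; exact iy1.symm)
  have hunit2 : IsUnit (co bs (φ (bs 2)) 2) := by
    rw [hp2, mul_zero, zero_add] at iz2
    exact IsUnit.of_mul_eq_one _ (by rw [mul_comm]; exact iz2.symm)
  refine ⟨co bs (φ (bs 0)) 1, co bs (φ (bs 0)) 2, co bs (φ (bs 1)) 1, co bs (φ (bs 2)) 2,
    hunit1, hunit2, ?_, ?_, ?_⟩
  · conv_lhs => rw [expand bs (φ (bs 0)), ha0, one_smul]
  · conv_lhs => rw [expand bs (φ (bs 1)), p0, hp2, zero_smul, zero_smul, zero_add, add_zero]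
  · conv_lhs => rw [expand bs (φ (bs 2)), r0, hr1, zero_smul, zero_smul, zero_add, zero_add]

include hxy hxz hyz in
/-- if `a = 0` then `z` is central, hence so is its image -/
theorem central_zero (ha : a = 0) (θ : L ≃ₗ⁅A⁆ L) :
    co bs (θ (bs 2)) 0 = 0 ∧ co bs (θ (bs 2)) 1 = 0 := by
  have hcen : ∀ w : L, ⁅θ (bs 2), w⁆ = 0 := by
    intro w
    have : w = θ (θ.symm w) := (θ.apply_symm_apply w).symm
    rw [this, ← LieEquiv.map_lie, br bs a hxy hxz hyz, ha]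
    simp only [co_bs]
    simp
  have c0 := hcen (bs 0)
  have c1 := hcen (bs 1)
  rw [br bs a hxy hxz hyz, ha] at c0 c1
  have d0 := congrArg (fun w => co bs w 1) c0
  have d1 := congrArg (fun w => co bs w 1) c1
  simp only [co_lin, co_bs] at d0 d1
  simp only [Fin.isValue, ↓reduceIte, one_ne_zero, Fin.reduceEq, zero_ne_one] at d0 d1
  have hz : co bs (0 : L) 1 = 0 := by unfold co; simp
  rw [hz] at d0 d1
  constructor
  · linear_combination d1
  · linear_combination -d0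

include hxy hxz hyz in
/-- case `a = 0` -/
theorem part1_zero (ha : a = 0) (φ : L ≃ₗ⁅A⁆ L) :
    ∃ b c e i : A, IsUnit e ∧ IsUnit i ∧ φ (bs 0) = bs 0 + b • bs 1 + c • bs 2 ∧
        φ (bs 1) = e • bs 1 ∧ φ (bs 2) = i • bs 2 := by
  obtain ⟨p0, h1, h2, -, -, -⟩ := shape bs a hxy hxz hyz φ
  obtain ⟨p0', -, h2', -, -, -⟩ := shape bs a hxy hxz hyz φ.symm
  obtain ⟨r0, r1⟩ := central_zero bs a hxy hxz hyz ha φ
  obtain ⟨r0', r1'⟩ := central_zero bs a hxy hxz hyz ha φ.symm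
  rw [ha, zero_mul] at h2 h2'
  have iy1 := co_apply_of_co_zero bs φ (φ.symm (bs 1)) p0' 1
  have iz2 := co_apply_of_co_zero bs φ (φ.symm (bs 2)) r0' 2
  rw [φ.apply_symm_apply, co_bs] at iy1 iz2
  simp only [↓reduceIte] at iy1 iz2
  rw [h2', zero_mul, add_zero] at iy1
  rw [r1', zero_mul, zero_add] at iz2
  have hunit1 : IsUnit (co bs (φ (bs 1)) 1) :=
    IsUnit.of_mul_eq_one _ (by rw [mul_comm]; exact iy1.symm)
  have hunit2 : IsUnit (co bs (φ (bs 2)) 2) :=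
    IsUnit.of_mul_eq_one _ (by rw [mul_comm]; exact iz2.symm)
  have ha0 : co bs (φ (bs 0)) 0 = 1 := by
    have : (1 - co bs (φ (bs 0)) 0) * co bs (φ (bs 1)) 1 = 0 := by linear_combination h1
    have h' := hunit1.mul_left_eq_zero.mp this
    linear_combination -h'
  refine ⟨co bs (φ (bs 0)) 1, co bs (φ (bs 0)) 2, co bs (φ (bs 1)) 1, co bs (φ (bs 2)) 2,
    hunit1, hunit2, ?_, ?_, ?_⟩
  · conv_lhs => rw [expand bs (φ (bs 0)), ha0, one_smul]
  · conv_lhs => rw [expand bs (φ (bs 1)), p0, h2, zero_smul, zero_smul, zero_add, add_zero]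
  · conv_lhs => rw [expand bs (φ (bs 2)), r0, r1, zero_smul, zero_smul, zero_add, zero_add]

include hxy hxz hyz in
/-- case `a = 1` -/
theorem part2 (ha : a = 1) (φ : L ≃ₗ⁅A⁆ L) :
    ∃ b c e f h i : A, IsUnit (e * i - f * h) ∧ φ (bs 0) = bs 0 + b • bs 1 + c • bs 2 ∧
        φ (bs 1) = e • bs 1 + f • bs 2 ∧ φ (bs 2) = h • bs 1 + i • bs 2 := by
  obtain ⟨p0, h1, h2, hr0, h3, h4⟩ := shape bs a hxy hxz hyz φ
  obtain ⟨p0', -, -, hr0', -, -⟩ := shape bs a hxy hxz hyz φ.symm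
  rw [ha, one_mul] at hr0 hr0' h2 h3 h4
  rw [hr0, mul_zero, sub_zero] at h3 h4
  rw [one_mul] at h4
  have iy1 := co_apply_of_co_zero bs φ (φ.symm (bs 1)) p0' 1
  have iy2 := co_apply_of_co_zero bs φ (φ.symm (bs 1)) p0' 2
  have iz1 := co_apply_of_co_zero bs φ (φ.symm (bs 2)) hr0' 1
  have iz2 := co_apply_of_co_zero bs φ (φ.symm (bs 2)) hr0' 2
  rw [φ.apply_symm_apply, co_bs] at iy1 iy2 iz1 iz2
  simp only [Fin.isValue, ↓reduceIte, one_ne_zero, Fin.reduceEq] at iy1 iy2 iz1 iz2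
  have ha0 : co bs (φ (bs 0)) 0 = 1 := by
    have : (1 - co bs (φ (bs 0)) 0) = (1 - co bs (φ (bs 0)) 0) *
        (co bs (φ.symm (bs 1)) 1 * co bs (φ (bs 1)) 1 +
          co bs (φ.symm (bs 1)) 2 * co bs (φ (bs 2)) 1) := by rw [← iy1, mul_one]
    have h0 : 1 - co bs (φ (bs 0)) 0 = 0 := by
      rw [this]
      linear_combination (co bs (φ.symm (bs 1)) 1) * h1 + (co bs (φ.symm (bs 1)) 2) * h3
    linear_combination -h0
  have hdet : (co bs (φ.symm (bs 1)) 1 * co bs (φ.symm (bs 2)) 2 -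
      co bs (φ.symm (bs 1)) 2 * co bs (φ.symm (bs 2)) 1) *
      (co bs (φ (bs 1)) 1 * co bs (φ (bs 2)) 2 - co bs (φ (bs 1)) 2 * co bs (φ (bs 2)) 1) = 1 := by
    linear_combination (-(co bs (φ.symm (bs 2)) 1 * co bs (φ (bs 1)) 2 +
      co bs (φ.symm (bs 2)) 2 * co bs (φ (bs 2)) 2)) * iy1 - iz2 +
      (co bs (φ.symm (bs 2)) 1 * co bs (φ (bs 1)) 1 +
        co bs (φ.symm (bs 2)) 2 * co bs (φ (bs 2)) 1) * iy2
  refine ⟨co bs (φ (bs 0)) 1, co bs (φ (bs 0)) 2, co bs (φ (bs 1)) 1, co bs (φ (bs 1)) 2,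
    co bs (φ (bs 2)) 1, co bs (φ (bs 2)) 2, ?_, ?_, ?_, ?_⟩
  · exact IsUnit.of_mul_eq_one _ (by rw [mul_comm]; exact hdet)
  · conv_lhs => rw [expand bs (φ (bs 0)), ha0, one_smul]
  · conv_lhs => rw [expand bs (φ (bs 1)), p0, zero_smul, zero_add]
  · conv_lhs => rw [expand bs (φ (bs 2)), hr0, zero_smul, zero_add]

theorem main13102 {K : Type*} [Field K] (α : K) {A : Type u} [CommRing A] [Algebra K A]
    {L : Type v} [LieRing L] [LieAlgebra A L] (bs : Module.Basis (Fin 3) A L)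
    (hxy : ⁅bs 0, bs 1⁆ = bs 1) (hxz : ⁅bs 0, bs 2⁆ = algebraMap K A α • bs 2)
    (hyz : ⁅bs 1, bs 2⁆ = 0) (φ : L ≃ₗ⁅A⁆ L) :
    (α ^ 2 ≠ 1 → ∃ b c e i : A, IsUnit e ∧ IsUnit i ∧ φ (bs 0) = bs 0 + b • bs 1 + c • bs 2 ∧
        φ (bs 1) = e • bs 1 ∧ φ (bs 2) = i • bs 2) ∧
    (α = 1 → ∃ b c e f h i : A, IsUnit (e * i - f * h) ∧ φ (bs 0) = bs 0 + b • bs 1 + c • bs 2 ∧
        φ (bs 1) = e • bs 1 + f • bs 2 ∧ φ (bs 2) = h • bs 1 + i • bs 2) := by
  constructor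
  · intro hα
    by_cases h0 : α = 0
    · exact part1_zero bs _ hxy hxz hyz (by rw [h0, map_zero]) φ
    · have hu : IsUnit (algebraMap K A α) := (isUnit_iff_ne_zero.mpr h0).map _
      have hU : IsUnit (algebraMap K A α * algebraMap K A α - 1) := by
        have : IsUnit (α * α - 1) := by
          rw [isUnit_iff_ne_zero]
          intro h
          apply hα
          linear_combination h
        have := this.map (algebraMap K A)
        simpa using this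
      exact part1_unit bs _ hxy hxz hyz hu hU φ
  · intro hα
    exact part2 bs _ hxy hxz hyz (by rw [hα, map_one]) φ

end Groth.Agent.Lib.Helper26.Lie3Alpha
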