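import Mathlib
import Groth.Agent.Lib.Helper26.Lie3
import Groth.Agent.Lib.Helper26.Lie3Alpha

set_option maxHeartbeats 400000
set_option autoImplicit false

namespace Groth.Agent.Lib.Helper26.Lie3Fam

open Groth.Agent.Lib.Helper26.Lie3 Groth.Agent.Lib.Helper26.Lie3Alpha

universe u v w

variable {A : Type u} [CommRing A] {L : Type v} [LieRing L] [LieAlgebra A L]
  {L' : Type w} [LieRing L'] [LieAlgebra A L']

theorem lie_lin3 (c0 c1 c2 : L') (p0 p1 p2 q0 q1 q2 : A) :
    ⁅p0 • c0 + p1 • c1 + p2 • c2, q0 • c0 + q1 • c1 + q2 • c2⁆ =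
      (p0 * q1 - p1 * q0) • ⁅c0, c1⁆ + (p0 * q2 - p2 * q0) • ⁅c0, c2⁆ +
        (p1 * q2 - p2 * q1) • ⁅c1, c2⁆ := by
  simp only [add_lie, lie_add, smul_lie, lie_smul, lie_self, smul_zero, add_zero, zero_add]
  rw [← lie_skew c1 c0, ← lie_skew c2 c0, ← lie_skew c2 c1]
  module

/-- a linear equivalence compatible with the brackets of basis vectors is a Lie equivalence -/
noncomputable def lieEquivOfBasis (bs : Module.Basis (Fin 3) A L) (e : L ≃ₗ[A] L')
    (h01 : e ⁅bs 0, bs 1⁆ = ⁅e (bs 0), e (bs 1)⁆) (h02 : e ⁅bs 0, bs 2⁆ = ⁅e (bs 0), e (bs 2)⁆)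
    (h12 : e ⁅bs 1, bs 2⁆ = ⁅e (bs 1), e (bs 2)⁆) : L ≃ₗ⁅A⁆ L' :=
  { e with
    map_lie' := by
      intro p q
      have hp : e p = co bs p 0 • e (bs 0) + co bs p 1 • e (bs 1) + co bs p 2 • e (bs 2) := by
        conv_lhs => rw [expand bs p, map_add, map_add, map_smul, map_smul, map_smul]
      have hq : e q = co bs q 0 • e (bs 0) + co bs q 1 • e (bs 1) + co bs q 2 • e (bs 2) := by
        conv_lhs => rw [expand bs q, map_add, map_add, map_smul, map_smul, map_smul]
      show e ⁅p, q⁆ = ⁅e p, e q⁆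
      rw [hp, hq, lie_lin3, lie_expand bs p q, map_add, map_add, map_smul, map_smul, map_smul,
        h01, h02, h12] }

section TwoAlg

variable (bs : Module.Basis (Fin 3) A L) (a : A)
  (hxy : ⁅bs 0, bs 1⁆ = bs 1) (hxz : ⁅bs 0, bs 2⁆ = a • bs 2) (hyz : ⁅bs 1, bs 2⁆ = 0)
  (bs' : Module.Basis (Fin 3) A L') (a' : A)
  (hxy' : ⁅bs' 0, bs' 1⁆ = bs' 1) (hxz' : ⁅bs' 0, bs' 2⁆ = a' • bs' 2) (hyz' : ⁅bs' 1, bs' 2⁆ = 0)

include hxy hxz hxy' hxz' hyz' in
theorem shape2 (θ : L ≃ₗ⁅A⁆ L') :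
    co bs' (θ (bs 1)) 0 = 0 ∧
    co bs' (θ (bs 1)) 1 = co bs' (θ (bs 0)) 0 * co bs' (θ (bs 1)) 1 ∧
    co bs' (θ (bs 1)) 2 = a' * (co bs' (θ (bs 0)) 0 * co bs' (θ (bs 1)) 2) ∧
    a * co bs' (θ (bs 2)) 0 = 0 ∧
    a * co bs' (θ (bs 2)) 1 = co bs' (θ (bs 0)) 0 * co bs' (θ (bs 2)) 1 -
      co bs' (θ (bs 0)) 1 * co bs' (θ (bs 2)) 0 ∧
    a * co bs' (θ (bs 2)) 2 = a' * (co bs' (θ (bs 0)) 0 * co bs' (θ (bs 2)) 2 -
      co bs' (θ (bs 0)) 2 * co bs' (θ (bs 2)) 0) := by
  have e1 : θ (bs 1) = ⁅θ (bs 0), θ (bs 1)⁆ := by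
    rw [← LieEquiv.map_lie, hxy]
  have e2 : a • θ (bs 2) = ⁅θ (bs 0), θ (bs 2)⁆ := by
    rw [← LieEquiv.map_lie, hxz, map_smul]
  rw [br bs' a' hxy' hxz' hyz'] at e1 e2
  have a0 := congrArg (fun w => co bs' w 0) e1
  have a1 := congrArg (fun w => co bs' w 1) e1
  have a2 := congrArg (fun w => co bs' w 2) e1
  have b0 := congrArg (fun w => co bs' w 0) e2
  have b1 := congrArg (fun w => co bs' w 1) e2
  have b2 := congrArg (fun w => co bs' w 2) e2
  simp only [co_lin] at a0 a1 a2 b0 b1 b2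
  simp only [co_smul] at b0 b1 b2
  simp only [Fin.isValue, ↓reduceIte, one_ne_zero, Fin.reduceEq] at a0 a1 a2 b0 b1 b2
  rw [a0] at a1 a2
  refine ⟨a0, ?_, ?_, b0, b1, b2⟩
  · linear_combination a1
  · linear_combination a2

theorem co_apply_of_co_zero2 (φ : L ≃ₗ⁅A⁆ L') (w : L) (hw : co bs w 0 = 0) (i : Fin 3) :
    co bs' (φ w) i = co bs w 1 * co bs' (φ (bs 1)) i + co bs w 2 * co bs' (φ (bs 2)) i := by
  conv_lhs => rw [expand bs w, hw, zero_smul, zero_add, map_add, map_smul, map_smul]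
  rw [co_add, co_smul, co_smul]

end TwoAlg

theorem fam_alg {k : Type u} [Field k] (t t' a0 p1 p2 r1 r2 : k)
    (E1 : p1 = a0 * p1) (E2 : p2 = t' * (a0 * p2)) (E3 : t * r1 = a0 * r1)
    (E4 : t * r2 = t' * (a0 * r2)) (hD : p1 * r2 - p2 * r1 ≠ 0) (ht : t ≠ 0) :
    t' = t ∨ t' = t⁻¹ := by
  by_cases hp1 : p1 = 0
  · right
    rw [hp1, zero_mul, zero_sub, neg_ne_zero] at hD
    have hp2 : p2 ≠ 0 := left_ne_zero_of_mul hD
    have hr1 : r1 ≠ 0 := right_ne_zero_of_mul hD
    have h1 : t' * a0 = 1 := by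
      have : p2 * (1 - t' * a0) = 0 := by linear_combination E2
      rcases mul_eq_zero.mp this with h | h
      · exact absurd h hp2
      · linear_combination -h
    have h2 : a0 = t := by
      have : r1 * (t - a0) = 0 := by linear_combination E3
      rcases mul_eq_zero.mp this with h | h
      · exact absurd h hr1
      · linear_combination -h
    rw [h2] at h1
    exact eq_inv_of_mul_eq_one_left h1
  · left
    have ha0 : a0 = 1 := by
      have : p1 * (1 - a0) = 0 := by linear_combination E1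
      rcases mul_eq_zero.mp this with h | h
      · exact absurd h hp1
      · linear_combination -h
    rw [ha0, one_mul] at E2 E3 E4
    by_cases hr2 : r2 = 0
    · rw [hr2, mul_zero, zero_sub, neg_ne_zero] at hD
      have hp2 : p2 ≠ 0 := left_ne_zero_of_mul hD
      have hr1 : r1 ≠ 0 := right_ne_zero_of_mul hD
      have h1 : t' = 1 := by
        have : p2 * (1 - t') = 0 := by linear_combination E2
        rcases mul_eq_zero.mp this with h | h
        · exact absurd h hp2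
        · linear_combination -h
      have h2 : t = 1 := by
        have : r1 * (t - 1) = 0 := by linear_combination E3
        rcases mul_eq_zero.mp this with h | h
        · exact absurd h hr1
        · linear_combination h
      rw [h1, h2]
    · have : r2 * (t - t') = 0 := by linear_combination E4
      rcases mul_eq_zero.mp this with h | h
      · exact absurd h hr2
      · linear_combination -h

theorem main13108 (k : Type u) [Field k] (t t' : k) (ht : t ≠ 0) (ht' : t' ≠ 0)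
    (L : Type v) [LieRing L] [LieAlgebra k L] (b : Module.Basis (Fin 3) k L)
    (h01 : ⁅b 0, b 1⁆ = b 1) (h02 : ⁅b 0, b 2⁆ = t • b 2) (h12 : ⁅b 1, b 2⁆ = 0)
    (L' : Type w) [LieRing L'] [LieAlgebra k L'] (b' : Module.Basis (Fin 3) k L')
    (h01' : ⁅b' 0, b' 1⁆ = b' 1) (h02' : ⁅b' 0, b' 2⁆ = t' • b' 2) (h12' : ⁅b' 1, b' 2⁆ = 0) :
    Nonempty (L ≃ₗ⁅k⁆ L') ↔ (t' = t ∨ t' = t⁻¹) := by
  constructor
  · rintro ⟨f⟩
    obtain ⟨p0, E1, E2, hr0, E3, E4⟩ := shape2 b t h01 h02 b' t' h01' h02' h12' f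
    obtain ⟨p0', -, -, hr0', -, -⟩ := shape2 b' t' h01' h02' b t h01 h02 h12 f.symm
    have r0 : co b' (f (b 2)) 0 = 0 := by
      rcases mul_eq_zero.mp hr0 with h | h
      · exact absurd h ht
      · exact h
    have r0' : co b (f.symm (b' 2)) 0 = 0 := by
      rcases mul_eq_zero.mp hr0' with h | h
      · exact absurd h ht'
      · exact h
    rw [r0, mul_zero, sub_zero] at E3 E4
    have iy1 := co_apply_of_co_zero2 b b' f (f.symm (b' 1)) p0' 1
    have iy2 := co_apply_of_co_zero2 b b' f (f.symm (b' 1)) p0' 2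
    have iz2 := co_apply_of_co_zero2 b b' f (f.symm (b' 2)) r0' 2
    rw [f.apply_symm_apply, co_bs] at iy1 iy2 iz2
    simp only [Fin.isValue, ↓reduceIte, one_ne_zero, Fin.reduceEq] at iy1 iy2 iz2
    have hdet : (co b (f.symm (b' 1)) 1 * co b (f.symm (b' 2)) 2 -
        co b (f.symm (b' 1)) 2 * co b (f.symm (b' 2)) 1) *
        (co b' (f (b 1)) 1 * co b' (f (b 2)) 2 - co b' (f (b 1)) 2 * co b' (f (b 2)) 1) = 1 := by
      linear_combination (-(co b (f.symm (b' 2)) 1 * co b' (f (b 1)) 2 +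
        co b (f.symm (b' 2)) 2 * co b' (f (b 2)) 2)) * iy1 - iz2 +
        (co b (f.symm (b' 2)) 1 * co b' (f (b 1)) 1 +
          co b (f.symm (b' 2)) 2 * co b' (f (b 2)) 1) * iy2
    have hD : co b' (f (b 1)) 1 * co b' (f (b 2)) 2 - co b' (f (b 1)) 2 * co b' (f (b 2)) 1 ≠ 0 :=
      right_ne_zero_of_mul_eq_one hdet
    exact fam_alg t t' _ _ _ _ _ E1 E2 E3 E4 hD ht
  · rintro (h | h)
    · -- `t' = t`
      refine ⟨lieEquivOfBasis b (b.equiv b' (Equiv.refl _)) ?_ ?_ ?_⟩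
      · rw [h01]
        simp only [Module.Basis.equiv_apply, Equiv.refl_apply]
        rw [h01']
      · rw [h02, map_smul]
        simp only [Module.Basis.equiv_apply, Equiv.refl_apply]
        rw [h02', h]
      · rw [h12, map_zero]
        simp only [Module.Basis.equiv_apply, Equiv.refl_apply]
        rw [h12']
    · -- `t' = t⁻¹`
      let w : Fin 3 → kˣ := ![Units.mk0 t ht, 1, 1]
      let c : Module.Basis (Fin 3) k L' := (b'.unitsSMul w).reindex (Equiv.swap 1 2)
      have hc0 : c 0 = t • b' 0 := by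
        simp [c, w, Module.Basis.reindex_apply, Module.Basis.unitsSMul_apply,
          Equiv.swap_apply_of_ne_of_ne, Units.smul_def]
      have hc1 : c 1 = b' 2 := by
        simp [c, w, Module.Basis.reindex_apply, Module.Basis.unitsSMul_apply]
      have hc2 : c 2 = b' 1 := by
        simp [c, w, Module.Basis.reindex_apply, Module.Basis.unitsSMul_apply]
      refine ⟨lieEquivOfBasis b (b.equiv c (Equiv.refl _)) ?_ ?_ ?_⟩
      · rw [h01]
        simp only [Module.Basis.equiv_apply, Equiv.refl_apply]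
        rw [hc0, hc1, smul_lie, h02', smul_smul, h, mul_inv_cancel₀ ht, one_smul]
      · rw [h02, map_smul]
        simp only [Module.Basis.equiv_apply, Equiv.refl_apply]
        rw [hc0, hc2, smul_lie, h01']
      · rw [h12, map_zero]
        simp only [Module.Basis.equiv_apply, Equiv.refl_apply]
        rw [hc1, hc2, ← lie_skew, h12', neg_zero]

end Groth.Agent.Lib.Helper26.Lie3Fam
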