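import Mathlib
import Groth.Agent.Lib.Helper26.Lie3

set_option maxHeartbeats 400000
set_option autoImplicit false

namespace Groth.Agent.Lib.Helper26.Lie3Form

open Groth.Agent.Lib.Helper26.Lie3

universe u v w

theorem not_sq_single (k : Type u) [Field k] (c : LaurentSeries k) :
    (HahnSeries.single 1 (1 : k) : LaurentSeries k) * (c * c) ≠ 1 := by
  intro h
  by_cases hc : c = 0
  · rw [hc, mul_zero, mul_zero] at h
    exact zero_ne_one h
  · have hs : (HahnSeries.single 1 (1 : k) : LaurentSeries k) ≠ 0 :=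
      HahnSeries.single_ne_zero one_ne_zero
    have := congrArg HahnSeries.order h
    rw [HahnSeries.order_mul hs (mul_ne_zero hc hc), HahnSeries.order_mul hc hc,
      HahnSeries.order_single one_ne_zero, HahnSeries.order_one] at this
    omega

theorem co_smul' {A : Type u} [CommRing A] {L : Type v} [LieRing L] [LieAlgebra A L]
    (bs : Module.Basis (Fin 3) A L) (c : A) (w : L) (i : Fin 3) :
    co bs (c • w) i = c * co bs w i := by
  unfold co; simp

theorem main13107 (k : Type u) [Field k]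
    (F : Type v) [LieRing F] [LieAlgebra (LaurentSeries k) F]
    (bF : Module.Basis (Fin 3) (LaurentSeries k) F)
    (hF01 : ⁅bF 0, bF 1⁆ = bF 2)
    (hF02 : ⁅bF 0, bF 2⁆ = (HahnSeries.single 1 (1 : k) : LaurentSeries k) • bF 1)
    (hF12 : ⁅bF 1, bF 2⁆ = 0)
    (L : Type w) [LieRing L] [LieAlgebra (LaurentSeries k) L]
    (bL : Module.Basis (Fin 3) (LaurentSeries k) L)
    (hL01 : ⁅bL 0, bL 1⁆ = bL 1) :
    IsEmpty (L ≃ₗ⁅LaurentSeries k⁆ F) := by
  refine ⟨fun f => ?_⟩
  have brF : ∀ p q : F, ⁅p, q⁆ = (0 : LaurentSeries k) • bF 0 +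
      ((HahnSeries.single 1 (1 : k) : LaurentSeries k) *
        (co bF p 0 * co bF q 2 - co bF p 2 * co bF q 0)) • bF 1 +
      (co bF p 0 * co bF q 1 - co bF p 1 * co bF q 0) • bF 2 := by
    intro p q
    rw [lie_expand bF p q, hF01, hF02, hF12, smul_zero, add_zero, zero_smul, zero_add, smul_smul,
      add_comm, mul_comm]
  have e1 : f (bL 1) = ⁅f (bL 0), f (bL 1)⁆ := by
    rw [← LieEquiv.map_lie, hL01]
  rw [brF] at e1
  have a0 := congrArg (fun w => co bF w 0) e1
  have a1 := congrArg (fun w => co bF w 1) e1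
  have a2 := congrArg (fun w => co bF w 2) e1
  simp only [co_lin] at a0 a1 a2
  simp only [Fin.isValue, ↓reduceIte, one_ne_zero, Fin.reduceEq] at a0 a1 a2
  rw [a0] at a1 a2
  have hne : f (bL 1) ≠ 0 := by
    intro h
    have : bL 1 = 0 := by
      have := congrArg f.symm h
      rwa [f.symm_apply_apply, map_zero] at this
    exact bL.ne_zero 1 this
  set T : LaurentSeries k := HahnSeries.single 1 (1 : k) with hT
  have k1 : co bF (f (bL 1)) 1 * (1 - T * (co bF (f (bL 0)) 0 * co bF (f (bL 0)) 0)) = 0 := by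
    linear_combination a1 + (T * co bF (f (bL 0)) 0) * a2
  have k2 : co bF (f (bL 1)) 2 * (1 - T * (co bF (f (bL 0)) 0 * co bF (f (bL 0)) 0)) = 0 := by
    linear_combination a2 + (co bF (f (bL 0)) 0) * a1
  have hsq : (1 - T * (co bF (f (bL 0)) 0 * co bF (f (bL 0)) 0)) ≠ 0 := by
    intro h
    exact not_sq_single k (co bF (f (bL 0)) 0) (by linear_combination -h)
  have p1 : co bF (f (bL 1)) 1 = 0 := by
    rcases mul_eq_zero.mp k1 with h | h
    · exact h
    · exact absurd h hsq
  have p2 : co bF (f (bL 1)) 2 = 0 := by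
    rcases mul_eq_zero.mp k2 with h | h
    · exact h
    · exact absurd h hsq
  apply hne
  rw [expand bF (f (bL 1)), a0, p1, p2]
  simp

end Groth.Agent.Lib.Helper26.Lie3Form
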