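import Groth.Agent.Lib.Helper26.HilbertFin3
import Groth.Agent.Lib.Helper26.GLinClosure

/-!
# Linear coactions on polynomial rings preserve the grading (helper26)

For an algebra map `ρ : P → P ⊗ H`, `P = MvPolynomial σ A`, sending constants into `P_0 ⊗ H` and
variables into `P_1 ⊗ H`, the homogeneous-component maps commute with `ρ`.  Applied to a linear
coaction on `MvPolynomial ι k`: homogeneous components of invariants are invariant.
Also: the value of a point on the Reynolds operator.
-/

open TensorProduct

universe u v w w'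

namespace Groth.Agent.Lib.Helper26.LinGrade

open HopfRep MvPolynomial Groth.Agent.Lib.Helper26.PolyCoact Groth.Agent.Lib.Helper26.Comod

section Generic

variable {k : Type u} [Field k] {H : Type v} [CommRing H] [Bialgebra k H]
variable {A : Type w} [CommRing A] [Algebra k A] {σ : Type*}

theorem tmul_mem {d : ℕ} {p : MvPolynomial σ A} (hp : p.IsHomogeneous d) (h : H) :
    p ⊗ₜ[k] h ∈ Nd k H A σ d :=
  ⟨(⟨p, hp⟩ : Pd k A σ d) ⊗ₜ[k] h, rfl⟩

theorem mul_mem {d e : ℕ} {x y : MvPolynomial σ A ⊗[k] H} (hx : x ∈ Nd k H A σ d)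
    (hy : y ∈ Nd k H A σ e) : x * y ∈ Nd k H A σ (d + e) := by
  obtain ⟨x', rfl⟩ := hx
  obtain ⟨y', rfl⟩ := hy
  induction x' using TensorProduct.induction_on with
  | zero => simp
  | tmul p h =>
    induction y' using TensorProduct.induction_on with
    | zero => simp
    | tmul q h' =>
      rw [LinearMap.rTensor_tmul, LinearMap.rTensor_tmul, Algebra.TensorProduct.tmul_mul_tmul]
      exact tmul_mem (p.2.mul q.2) _
    | add y₁ y₂ h₁ h₂ =>
      rw [map_add, mul_add]
      exact Submodule.add_mem _ h₁ h₂
  | add x₁ x₂ h₁ h₂ =>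
    rw [map_add, add_mul]
    exact Submodule.add_mem _ h₁ h₂

theorem one_mem : (1 : MvPolynomial σ A ⊗[k] H) ∈ Nd k H A σ 0 := by
  rw [Algebra.TensorProduct.one_def]
  exact tmul_mem (isHomogeneous_one σ A) _

theorem pow_mem {x : MvPolynomial σ A ⊗[k] H} (hx : x ∈ Nd k H A σ 1) (n : ℕ) :
    x ^ n ∈ Nd k H A σ n := by
  induction n with
  | zero => rw [pow_zero]; exact one_mem
  | succ n ih => rw [pow_succ]; exact mul_mem ih hx

variable (ρ : MvPolynomial σ A →ₐ[k] MvPolynomial σ A ⊗[k] H)
  (hC : ∀ a : A, ρ (C a) ∈ Nd k H A σ 0) (hX : ∀ j : σ, ρ (X j) ∈ Nd k H A σ 1)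

include hC hX

theorem rho_monomial_mem (e : σ →₀ ℕ) (a : A) :
    ρ (monomial e a) ∈ Nd k H A σ e.degree := by
  induction e using Finsupp.induction_linear generalizing a with
  | zero =>
    rw [map_zero]
    exact hC a
  | add f g hf hg =>
    have : monomial (f + g) a = monomial f a * monomial g (1 : A) := by
      rw [monomial_mul, mul_one]
    rw [this, map_mul, map_add]
    exact mul_mem (hf a) (hg 1)
  | single j n =>
    rw [← C_mul_X_pow_eq_monomial, map_mul, map_pow, Finsupp.degree_single]
    have := mul_mem (hC a) (pow_mem (hX j) n)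
    rwa [zero_add] at this

theorem rho_mem_Nd {d : ℕ} {p : MvPolynomial σ A} (hp : p.IsHomogeneous d) :
    ρ p ∈ Nd k H A σ d := by
  rw [p.as_sum, map_sum]
  apply Submodule.sum_mem
  intro e he
  have hd : e.degree = d := by
    have := hp (mem_support_iff.mp he)
    rwa [Finsupp.degree_eq_weight_one] at *
  rw [← hd]
  exact rho_monomial_mem ρ hC hX e _

theorem rho_hck_of_mem {e : ℕ} (d : ℕ) {p : MvPolynomial σ A} (hp : p.IsHomogeneous e) :
    ρ (hck k A σ d p) = (hck k A σ d).rTensor H (ρ p) := by
  obtain ⟨y, hy⟩ := rho_mem_Nd ρ hC hX hp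
  rw [← hy, ← LinearMap.rTensor_comp_apply, hck_apply, homogeneousComponent_of_mem hp]
  have hcomp : hck k A σ d ∘ₗ (Pd k A σ e).subtype =
      if d = e then (Pd k A σ e).subtype else 0 := by
    apply LinearMap.ext
    intro q
    rw [LinearMap.comp_apply, hck_apply, Submodule.subtype_apply, homogeneousComponent_of_mem q.2]
    split_ifs <;> simp
  rw [hcomp]
  split_ifs with h
  · rw [hy]
  · rw [map_zero, LinearMap.rTensor_zero, LinearMap.zero_apply]

theorem rho_hck (d : ℕ) (p : MvPolynomial σ A) :
    ρ (hck k A σ d p) = (hck k A σ d).rTensor H (ρ p) := by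
  conv_lhs => rw [← sum_homogeneousComponent p]
  conv_rhs => rw [← sum_homogeneousComponent p]
  simp only [map_sum]
  apply Finset.sum_congr rfl
  intro i _
  exact rho_hck_of_mem ρ hC hX d (homogeneousComponent_isHomogeneous i p)

end Generic

section Linear

variable {k : Type u} [Field k] {A : Type v} [CommRing A] [Bialgebra k A]
variable {ι : Type w} [Fintype ι] [Comod k A (MvPolynomial ι k)]
  [GLin.IsCoactAlg k A (MvPolynomial ι k)]

/-- For a linear coaction on a polynomial ring the homogeneous-component maps are comodule maps. -/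
theorem isComodHom_hck_of_isLinear (hlin : GLin.IsLinear k A ι) (d : ℕ) :
    Hoch.IsComodHom A (hck k k ι d) := by
  apply LinearMap.ext
  intro p
  have hC : ∀ a : k, GLin.coactAlgHom k A (MvPolynomial ι k) (C a) ∈ Nd k A k ι 0 := by
    intro a
    have : (C a : MvPolynomial ι k) = algebraMap k (MvPolynomial ι k) a := rfl
    rw [this, AlgHom.commutes, Algebra.TensorProduct.algebraMap_apply]
    exact tmul_mem (isHomogeneous_C ι a) _
  have hX : ∀ j : ι, GLin.coactAlgHom k A (MvPolynomial ι k) (X j) ∈ Nd k A k ι 1 := by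
    intro j
    obtain ⟨m, hm⟩ := hlin j
    rw [GLin.coactAlgHom_apply, hm]
    apply Submodule.sum_mem
    intro i _
    exact tmul_mem (isHomogeneous_X k i) _
  exact rho_hck (GLin.coactAlgHom k A (MvPolynomial ι k)) hC hX d p

/-- Homogeneous components of invariants of a linear coaction are invariant. -/
theorem homogeneousComponent_mem_invariants (hlin : GLin.IsLinear k A ι) (d : ℕ)
    {F : MvPolynomial ι k} (hF : F ∈ GLin.invariants k A (MvPolynomial ι k)) :
    homogeneousComponent d F ∈ GLin.invariants k A (MvPolynomial ι k) := by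
  have h := LinearMap.congr_fun (isComodHom_hck_of_isLinear (A := A) hlin d) F
  have hF' : Comod.coact (k := k) (A := A) F = F ⊗ₜ[k] (1 : A) := hF
  rw [LinearMap.comp_apply, LinearMap.comp_apply, hF', LinearMap.rTensor_tmul, hck_apply] at h
  exact h

end Linear

section PointReyn

variable {k : Type u} [Field k] {A : Type v} [CommRing A] [HopfAlgebra k A]
variable {R : Type w} [CommRing R] [Algebra k R] [Comod k A R] [GLin.IsCoactAlg k A R]

/-- The value of a rational point on the Reynolds operator. -/
theorem point_reyn (y : R →ₐ[k] k) (I : A →ₗ[k] k) (f : R) :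
    y (reyn R I f) = I (HopfAlgebraStruct.antipode (R := k) (GLin.orbitHom k A y f)) := by
  rw [orbitHom_apply]
  change y (TameAct.reynolds k A k R I f) = _
  unfold TameAct.reynolds
  rw [LinearMap.comp_apply]
  generalize Comod.coact (k := k) (A := A) f = z
  induction z using TensorProduct.induction_on with
  | zero => simp
  | tmul r a =>
    simp only [TensorProduct.lift.tmul, LinearMap.flip_apply, LinearMap.comp_apply,
      LinearMap.rTensor_tmul, TensorProduct.lid_tmul, AlgHom.toLinearMap_apply, map_smul,
      Algebra.lsmul_coe, smul_eq_mul]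
    ring
  | add x y hx hy => simp only [map_add, hx, hy]

end PointReyn

end Groth.Agent.Lib.Helper26.LinGrade
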