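import Mathlib
import Groth.Agent.Lib.Helper26.BijNil
set_option maxHeartbeats 400000
universe u
namespace Groth.Agent.Lib.Helper26.LocIsoCrit
open TensorProduct

/-- Step A: the kernel is locally contained in `I` times itself. -/
theorem stepA (R S S' : Type u) [CommRing R] [CommRing S]
    [CommRing S'] [Algebra R S] [Algebra R S']
    (I : Ideal R) (f : S →ₐ[R] S') (hf : Function.Surjective f) (q : Ideal S) [q.IsPrime]
    (hker : ∀ j : S, f j = 0 →
      algebraMap S (Localization.AtPrime q) j ∈ I.map (algebraMap R (Localization.AtPrime q)))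
    (hflat : letI : Module S S' := f.toRingHom.toModule
      Module.Flat R (LocalizedModule q.primeCompl S'))
    (k : S) (hk : f k = 0) :
    ∃ t : S, t ∉ q ∧ t * k ∈ I.map (algebraMap R S) * RingHom.ker f.toRingHom := by
  letI : Module S S' := f.toRingHom.toModule
  have hsm : ∀ (a : S) (y : S'), a • y = f a * y := fun a y => rfl
  -- A1
  have h1 : ∃ t : S, t ∉ q ∧ t * k ∈ I.map (algebraMap R S) := by
    have := hker k hk
    rw [IsScalarTower.algebraMap_eq R S (Localization.AtPrime q), ← Ideal.map_map,
      IsLocalization.mem_map_algebraMap_iff q.primeCompl] at this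
    obtain ⟨⟨a, t⟩, hat⟩ := this
    rw [← map_mul, IsLocalization.eq_iff_exists q.primeCompl] at hat
    obtain ⟨t₂, ht₂⟩ := hat
    refine ⟨t₂ * t, q.primeCompl.mul_mem t₂.2 t.2, ?_⟩
    have : (t₂ : S) * t * k = t₂ * a := by rw [← ht₂]; ring
    rw [this]
    exact Ideal.mul_mem_left _ _ a.2
  obtain ⟨t, htq, htk⟩ := h1
  rw [Ideal.map, Ideal.span, Submodule.mem_span_set'] at htk
  obtain ⟨n, c, g, hcg⟩ := htk
  choose i hiI hig using fun l => (g l).2
  -- A2
  have h2 : ∑ l, i l • LocalizedModule.mkLinearMap q.primeCompl S' (f (c l)) = 0 := by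
    have : ∑ l, i l • f (c l) = 0 := by
      have hh := congrArg f hcg
      rw [map_mul, hk, mul_zero, map_sum] at hh
      rw [← hh]
      refine Finset.sum_congr rfl fun l _ => ?_
      rw [smul_eq_mul, map_mul, ← hig l, AlgHom.commutes, Algebra.smul_def, mul_comm]
    have e : ∑ l, i l • LocalizedModule.mkLinearMap q.primeCompl S' (f (c l)) =
        LocalizedModule.mkLinearMap q.primeCompl S' (∑ l, i l • f (c l)) := by
      rw [map_sum]
      refine Finset.sum_congr rfl fun l _ => ?_
      rw [LinearMap.map_smul_of_tower]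
    rw [e, this, map_zero]
  -- A3
  obtain ⟨m, a, y, hxy, hia⟩ := Module.Flat.isTrivialRelation_of_sum_smul_eq_zero (R := R)
    (M := LocalizedModule q.primeCompl S') h2
  -- A4
  obtain ⟨t', ht'⟩ := IsLocalizedModule.exist_integer_multiples_of_finite q.primeCompl
    (LocalizedModule.mkLinearMap q.primeCompl S') y
  choose w hw using ht'
  choose u hu using fun j => hf (w j)
  -- for each l, the element e_l := t' * c l - ∑ j, a l j • u j has f e_l killed by some t''
  have h4 : ∀ l, ∃ t'' : q.primeCompl, t'' • f ((t' : S) * c l - ∑ j, a l j • u j) = 0 := by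
    intro l
    rw [← IsLocalizedModule.eq_zero_iff q.primeCompl (LocalizedModule.mkLinearMap q.primeCompl S')]
    rw [map_sub, map_sub, map_mul, ← hsm, map_smul, map_sum, map_sum]
    have hxy' : LocalizedModule.mkLinearMap q.primeCompl S' (f (c l)) = ∑ j, a l j • y j := hxy l
    rw [hxy', Finset.smul_sum, sub_eq_zero]
    refine Finset.sum_congr rfl fun j _ => ?_
    rw [smul_comm, ← hw j, map_smul, hu j, LinearMap.map_smul_of_tower]
  choose t'' ht'' using h4
  classical
  let T : S := ∏ l, (t'' l : S)
  have hTq : T ∉ q := by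
    have : T ∈ q.primeCompl := by
      change (∏ l, (t'' l : S)) ∈ q.primeCompl
      exact Submonoid.prod_mem _ (fun l _ => (t'' l).2)
    exact this
  let e : Fin n → S := fun l => (t' : S) * c l - ∑ j, a l j • u j
  have hκ : ∀ l, T * e l ∈ RingHom.ker f.toRingHom := by
    intro l
    change f (T * e l) = 0
    have hT : T = (∏ x ∈ Finset.univ.erase l, (t'' x : S)) * t'' l := by
      rw [mul_comm]; exact (Finset.mul_prod_erase Finset.univ (fun x => (t'' x : S)) (Finset.mem_univ l)).symm
    have h0 : f (t'' l : S) * f (e l) = 0 := ht'' l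
    rw [hT, map_mul, map_mul, mul_assoc, h0, mul_zero]
  have hzero : ∑ l, algebraMap R S (i l) * ∑ j, a l j • u j = 0 := by
    have : ∀ l, algebraMap R S (i l) * ∑ j, a l j • u j = ∑ j, (i l * a l j) • u j := by
      intro l
      rw [Finset.mul_sum]
      refine Finset.sum_congr rfl fun j _ => ?_
      rw [mul_smul, Algebra.smul_def (i l)]
    rw [Finset.sum_congr rfl (fun l _ => this l), Finset.sum_comm]
    refine Finset.sum_eq_zero fun j _ => ?_
    rw [← Finset.sum_smul, hia j, zero_smul]
  refine ⟨T * t' * t, ?_, ?_⟩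
  · exact q.primeCompl.mul_mem (q.primeCompl.mul_mem hTq t'.2) htq
  · have key : T * t' * t * k = ∑ l, algebraMap R S (i l) * (T * e l) := by
      have h5 : ∑ l, algebraMap R S (i l) * (T * e l) =
          T * (t' * ∑ l, c l * algebraMap R S (i l)) - T * ∑ l, algebraMap R S (i l) * ∑ j, a l j • u j := by
        simp only [e, Finset.mul_sum, mul_sub, Finset.sum_sub_distrib]
        congr 1
        · refine Finset.sum_congr rfl fun l _ => ?_
          ring
        · refine Finset.sum_congr rfl fun l _ => ?_
          refine Finset.sum_congr rfl fun j _ => ?_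
          ring
      rw [h5, hzero, mul_zero, sub_zero]
      have h6 : ∑ l, c l * algebraMap R S (i l) = t * k := by
        rw [← hcg]
        refine Finset.sum_congr rfl fun l _ => ?_
        rw [hig l, smul_eq_mul]
      rw [h6]; ring
    rw [key]
    refine Ideal.sum_mem _ fun l _ => ?_
    exact Ideal.mul_mem_mul (Ideal.mem_map_of_mem (algebraMap R S) (hiI l)) (hκ l)


theorem main (R S S' : Type u) [CommRing R] [CommRing S]
    [CommRing S'] [Algebra R S] [Algebra R S'] [Algebra.FiniteType R S] [Algebra.FinitePresentation R S']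
    (I : Ideal R) (f : S →ₐ[R] S') (hf : Function.Surjective f) (q : Ideal S) [q.IsPrime]
    (hq : I.map (algebraMap R S) ≤ q)
    (hker : ∀ j : S, f j = 0 →
      algebraMap S (Localization.AtPrime q) j ∈ I.map (algebraMap R (Localization.AtPrime q)))
    (hflat : letI : Module S S' := f.toRingHom.toModule
      Module.Flat R (LocalizedModule q.primeCompl S')) :
    ∃ g : S, g ∉ q ∧ Function.Bijective (Localization.awayMap f.toRingHom g) := by
  have hA := stepA R S S' I f hf q hker hflat
  set K := RingHom.ker f.toRingHom with hKdef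
  have hKfg : K.FG := Groth.Agent.Lib.Helper26.BijNil.ker_fg f hf
  -- Nakayama in the local ring
  let Sq := Localization.AtPrime q
  let K' : Ideal Sq := K.map (algebraMap S Sq)
  let J' : Ideal Sq := (I.map (algebraMap R S)).map (algebraMap S Sq)
  have hK'fg : K'.FG := hKfg.map _
  have hJ' : J' ≤ Ideal.jacobson ⊥ := by
    rw [IsLocalRing.jacobson_eq_maximalIdeal ⊥ bot_ne_top,
      ← Localization.AtPrime.map_eq_maximalIdeal (I := q)]
    exact Ideal.map_mono hq
  have hK'le : K' ≤ J' • K' := by
    rw [Ideal.map_le_iff_le_comap]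
    intro k hk
    obtain ⟨t, htq, htk⟩ := hA k hk
    rw [Ideal.mem_comap, smul_eq_mul, ← Ideal.map_mul]
    have h1 : algebraMap S Sq (t * k) ∈ Ideal.map (algebraMap S Sq) (I.map (algebraMap R S) * K) :=
      Ideal.mem_map_of_mem _ htk
    have hu : IsUnit (algebraMap S Sq t) := IsLocalization.map_units Sq (⟨t, htq⟩ : q.primeCompl)
    rw [map_mul] at h1
    exact (Ideal.unit_mul_mem_iff_mem _ hu).mp h1
  have hK'bot : K' = ⊥ := Submodule.eq_bot_of_le_smul_of_le_jacobson_bot J' K' hK'fg hK'le hJ'
  have hann : ∀ k ∈ K, ∃ t : q.primeCompl, (t : S) * k = 0 := by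
    intro k hk
    have : algebraMap S Sq k ∈ K' := Ideal.mem_map_of_mem _ hk
    rw [hK'bot, Ideal.mem_bot] at this
    exact (IsLocalization.map_eq_zero_iff q.primeCompl Sq k).mp this
  -- common annihilator
  obtain ⟨G, hG⟩ := hKfg
  classical
  choose! τ hτ using hann
  let g : S := ∏ γ ∈ G, (τ γ : S)
  have hgq : g ∉ q := by
    have : g ∈ q.primeCompl := Submonoid.prod_mem _ (fun γ _ => (τ γ).2)
    exact this
  have hgK : ∀ k ∈ K, g * k = 0 := by
    intro k hk
    rw [← hG] at hk
    refine Submodule.span_induction ?_ ?_ ?_ ?_ hk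
    · intro γ hγ
      have hγK : γ ∈ K := by rw [← hG]; exact Ideal.subset_span hγ
      have : g = (∏ x ∈ G.erase γ, (τ x : S)) * τ γ := by
        rw [mul_comm]; exact (Finset.mul_prod_erase G (fun x => (τ x : S)) hγ).symm
      rw [this, mul_assoc, hτ γ hγK, mul_zero]
    · exact mul_zero g
    · intro x y _ _ hx hy; rw [mul_add, hx, hy, add_zero]
    · intro a x _ hx; rw [smul_eq_mul, mul_left_comm, hx, mul_zero]
  refine ⟨g, hgq, ?_, ?_⟩
  · rw [Localization.awayMap_injective_iff]
    intro a ha
    exact ⟨1, by rw [pow_one]; exact hgK a ha⟩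
  · rw [Localization.awayMap_surjective_iff]
    intro a
    obtain ⟨b, hb⟩ := hf a
    exact ⟨b, 0, by rw [pow_zero, one_mul]; exact hb⟩

end Groth.Agent.Lib.Helper26.LocIsoCrit
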