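import Mathlib
import Groth.Agent.Lib.Helper26.MLSections

namespace Groth.Agent.Lib.Helper26.MLExact

open CategoryTheory Opposite Limits

universe u

variable {A B C D : ℕᵒᵖ ⥤ AddCommGrpCat.{u}}

lemma nat_apply (b : B ⟶ C) {i j : ℕᵒᵖ} (f : i ⟶ j) (y : B.obj i) :
    (b.app j).hom ((B.map f).hom y) = (C.map f).hom ((b.app i).hom y) := by
  have := b.naturality f
  exact congrArg (fun φ => φ.hom y) this

lemma limit_w_apply (F : ℕᵒᵖ ⥤ AddCommGrpCat.{u}) {i j : ℕᵒᵖ} (f : i ⟶ j)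
    (z : (limit F : AddCommGrpCat.{u})) :
    (F.map f).hom ((limit.π F i).hom z) = (limit.π F j).hom z := by
  have := limit.w F f
  exact congrArg (fun φ => φ.hom z) this

lemma limMap_π_apply (b : B ⟶ C) (i : ℕᵒᵖ) (y : (limit B : AddCommGrpCat.{u})) :
    (limit.π C i).hom ((limMap b).hom y) = (b.app i).hom ((limit.π B i).hom y) := by
  have := limMap_π b i
  exact congrArg (fun φ => φ.hom y) this

lemma limit_ext_apply (F : ℕᵒᵖ ⥤ AddCommGrpCat.{u}) (x y : (limit F : AddCommGrpCat.{u}))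
    (h : ∀ i, (limit.π F i).hom x = (limit.π F i).hom y) : x = y :=
  Concrete.limit_ext F x y h

/-- The functor of fibres of `b` over a point `z` of `lim C`. -/
def fib (b : B ⟶ C) (z : (limit C : AddCommGrpCat.{u})) : ℕᵒᵖ ⥤ Type u where
  obj i := {y : B.obj i // (b.app i).hom y = (limit.π C i).hom z}
  map {i j} f := ↾(fun y => ⟨(B.map f).hom y.1, by
    rw [nat_apply, y.2, limit_w_apply]⟩)
  map_id i := by
    ext y
    simp
  map_comp f g := by
    ext y
    simp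

lemma map_comp_apply (F : ℕᵒᵖ ⥤ AddCommGrpCat.{u}) {i j k : ℕᵒᵖ} (f : i ⟶ j) (g : j ⟶ k)
    (y : F.obj i) : (F.map g).hom ((F.map f).hom y) = (F.map (f ≫ g)).hom y := by
  rw [F.map_comp]
  rfl

lemma fib_nonempty (b : B ⟶ C) (c : C ⟶ D)
    (hC : ∀ i, (c.app i).hom.ker = (b.app i).hom.range) (z : (limit C : AddCommGrpCat.{u}))
    (hz : (limMap c).hom z = 0) (i : ℕᵒᵖ) : Nonempty ((fib b z).obj i) := by
  have : (limit.π C i).hom z ∈ (c.app i).hom.ker := by
    rw [AddMonoidHom.mem_ker, ← limMap_π_apply, hz, map_zero]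
  rw [hC] at this
  obtain ⟨y, hy⟩ := this
  exact ⟨⟨y, hy⟩⟩

lemma fib_ml (a : A ⟶ B) (b : B ⟶ C)
    (hB : ∀ i, (b.app i).hom.ker = (a.app i).hom.range)
    (hA : (A ⋙ forget AddCommGrpCat).IsMittagLeffler) (z : (limit C : AddCommGrpCat.{u}))
    (hne : ∀ i, Nonempty ((fib b z).obj i)) : (fib b z).IsMittagLeffler := by
  intro j
  obtain ⟨i, f, hf⟩ := hA j
  refine ⟨i, f, ?_⟩
  intro k g
  rintro _ ⟨yN, rfl⟩
  obtain ⟨m, fi, fk, _⟩ : ∃ m : ℕᵒᵖ, ∃ (_ : m ⟶ i) (_ : m ⟶ k), True :=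
    ⟨op (max i.unop k.unop), (homOfLE (le_max_left _ _)).op, (homOfLE (le_max_right _ _)).op,
      trivial⟩
  obtain ⟨yM⟩ := hne m
  have h1 : yN.1 - (B.map fi).hom yM.1 ∈ (b.app i).hom.ker := by
    rw [AddMonoidHom.mem_ker, map_sub, yN.2, nat_apply, yM.2, limit_w_apply, sub_self]
  rw [hB] at h1
  obtain ⟨α, hα⟩ := h1
  have h2 : (A.map f).hom α ∈ Set.range ((A ⋙ forget AddCommGrpCat).map (fi ≫ f)) :=
    hf (fi ≫ f) ⟨α, rfl⟩
  obtain ⟨α', hα'⟩ := h2
  have hα'' : (A.map (fi ≫ f)).hom α' = (A.map f).hom α := hα'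
  have hker : (b.app m).hom (yM.1 + (a.app m).hom α') = (limit.π C m).hom z := by
    rw [map_add, yM.2]
    have : (a.app m).hom α' ∈ (b.app m).hom.ker := by rw [hB]; exact ⟨α', rfl⟩
    rw [AddMonoidHom.mem_ker.mp this, add_zero]
  refine ⟨(fib b z).map fk ⟨yM.1 + (a.app m).hom α', hker⟩, ?_⟩
  apply Subtype.ext
  show (B.map g).hom ((B.map fk).hom (yM.1 + (a.app m).hom α')) = (B.map f).hom yN.1
  have hthin : fk ≫ g = fi ≫ f := Subsingleton.elim _ _
  rw [map_comp_apply, hthin, ← map_comp_apply, map_add, map_add]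
  have e1 : (B.map f).hom ((B.map fi).hom ((a.app m).hom α')) =
      (B.map f).hom ((a.app i).hom α) := by
    rw [← nat_apply a fi, ← nat_apply a f, ← nat_apply a f, map_comp_apply, hα'']
  rw [e1, hα, map_sub]
  abel

theorem main (a : A ⟶ B) (b : B ⟶ C) (c : C ⟶ D)
    (hB : ∀ i, (b.app i).hom.ker = (a.app i).hom.range)
    (hC : ∀ i, (c.app i).hom.ker = (b.app i).hom.range)
    (hA : (A ⋙ forget AddCommGrpCat).IsMittagLeffler) :
    (limMap c).hom.ker = (limMap b).hom.range := by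
  apply le_antisymm
  · intro z hz
    rw [AddMonoidHom.mem_ker] at hz
    have hne := fib_nonempty b c hC z hz
    have hml := fib_ml a b hB hA z hne
    obtain ⟨e0⟩ := Functor.toEventualRanges_nonempty (fib b z) hml (op 0)
    obtain ⟨s, -⟩ := MLSections.exists_section (fib b z).toEventualRanges
      (fun n => Functor.surjective_toEventualRanges _ hml _) 0 e0
    let s' := (fib b z).toEventualRangesSectionsEquiv s
    have hsec : (fun i => (s'.1 i).1) ∈ (B ⋙ forget AddCommGrpCat).sections := by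
      intro i j f
      exact congrArg Subtype.val (s'.2 f)
    obtain ⟨y, hy⟩ := MLSections.exists_limit_elt B ⟨_, hsec⟩
    refine ⟨y, ?_⟩
    apply limit_ext_apply
    intro i
    rw [limMap_π_apply, hy i]
    exact (s'.1 i).2
  · rintro _ ⟨y, rfl⟩
    rw [AddMonoidHom.mem_ker]
    apply limit_ext_apply
    intro i
    rw [limMap_π_apply, limMap_π_apply, map_zero]
    have : (b.app i).hom ((limit.π B i).hom y) ∈ (c.app i).hom.ker := by
      rw [hC]; exact ⟨_, rfl⟩
    exact AddMonoidHom.mem_ker.mp this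

end Groth.Agent.Lib.Helper26.MLExact
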