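import Mathlib
import Groth.Prelude.Def_DCoh3

set_option linter.unusedSimpArgs false

universe u
open CategoryTheory CategoryTheory.Limits AlgebraicGeometry Opposite

namespace Groth.Agent.Lib.Helper26.MVMod6

/-- global sections of a pushforward along an open immersion -/
noncomputable def gammaIso {X : Scheme.{u}} (O : X.Opens) :
    Scheme.Modules.pushforward O.ι ⋙ DCoh.gammaAb X ≅ DCoh.gammaAb (O : Scheme.{u}) :=
  NatIso.ofComponents (fun M => Iso.refl _) (fun f => by
    simp only [Iso.refl_hom, Category.comp_id, Category.id_comp]
    rfl)

end Groth.Agent.Lib.Helper26.MVMod6
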