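import Groth.Agent.Lib.Helper26.MinorIdeal
import Mathlib

/-!
Over a local ring: the image of a matrix is a direct summand of rank `r` iff the `(r+1)`-minors
vanish and the `r`-minors generate the unit ideal.
-/

set_option autoImplicit false
universe u

namespace Groth.Agent.Lib.Helper26.MinorRank

open Groth.Agent.Lib.Helper25.CauchyBinet Matrix CAlgX Groth.Agent.Lib.Helper26.MinorIdeal

variable {R : Type u} [CommRing R]

section Backward

variable {n m r : ℕ} (A : Matrix (Fin n) (Fin m) R) (f : Fin r → Fin n) (g : Fin r → Fin m)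

/-- Schur complement entry vanishes when the bordered minor does -/
lemma schur_entry (hU : IsUnit (A.submatrix f g).det) (h0 : minorIdeal A (r + 1) = ⊥)
    (t : Fin n) (k : Fin m) :
    A t k - (A.submatrix (fun _ : Fin 1 => t) g * (A.submatrix f g)⁻¹
      * A.submatrix f (fun _ : Fin 1 => k)) 0 0 = 0 := by
  classical
  let U := A.submatrix f g
  haveI : Invertible U := Matrix.invertibleOfIsUnitDet U hU
  let B := A.submatrix f (fun _ : Fin 1 => k)
  let C := A.submatrix (fun _ : Fin 1 => t) g
  let D := A.submatrix (fun _ : Fin 1 => t) (fun _ : Fin 1 => k)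
  let fe : Fin r ⊕ Fin 1 → Fin n := Sum.elim f (fun _ => t)
  let ge : Fin r ⊕ Fin 1 → Fin m := Sum.elim g (fun _ => k)
  have hblocks : A.submatrix fe ge = Matrix.fromBlocks U B C D := by
    ext i j
    rcases i with i | i <;> rcases j with j | j <;> rfl
  let e : Fin (r + 1) ≃ Fin r ⊕ Fin 1 := finSumFinEquiv.symm
  have hdet0 : (A.submatrix fe ge).det = 0 := by
    have h1 : ((A.submatrix fe ge).submatrix e e).det = (A.submatrix fe ge).det :=
      Matrix.det_submatrix_equiv_self e _
    have h2 : ((A.submatrix fe ge).submatrix e e).det ∈ minorIdeal A (r + 1) :=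
      Ideal.subset_span ⟨(fe ∘ e, ge ∘ e), rfl⟩
    rw [h0, Ideal.mem_bot] at h2
    rw [← h1, h2]
  rw [hblocks, Matrix.det_fromBlocks₁₁] at hdet0
  have h3 : (D - C * ⅟U * B).det = 0 := (hU.mul_right_eq_zero).1 hdet0
  rw [Matrix.det_unique] at h3
  have h4 : (⅟U : Matrix (Fin r) (Fin r) R) = U⁻¹ := Matrix.invOf_eq_nonsing_inv U
  rw [h4] at h3
  exact h3

lemma range_eq (hU : IsUnit (A.submatrix f g).det) (h0 : minorIdeal A (r + 1) = ⊥) :
    LinearMap.range (Matrix.mulVecLin A) = LinearMap.range (Matrix.mulVecLin (A.submatrix id g)) := by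
  classical
  apply le_antisymm
  · -- A = Ag * (U⁻¹ * A_f)
    have hA : A = A.submatrix id g * ((A.submatrix f g)⁻¹ * A.submatrix f id) := by
      ext t k
      have := schur_entry A f g hU h0 t k
      rw [sub_eq_zero] at this
      rw [this, Matrix.mul_assoc]
      simp [Matrix.mul_apply]
    rintro _ ⟨x, rfl⟩
    refine ⟨((A.submatrix f g)⁻¹ * A.submatrix f id).mulVec x, ?_⟩
    rw [Matrix.mulVecLin_apply, Matrix.mulVecLin_apply, Matrix.mulVec_mulVec, ← hA]
  · have hAg : A.submatrix id g = A * (1 : Matrix (Fin m) (Fin m) R).submatrix id g := by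
      ext t j
      simp [Matrix.mul_apply, Matrix.one_apply]
    rintro _ ⟨w, rfl⟩
    refine ⟨((1 : Matrix (Fin m) (Fin m) R).submatrix id g).mulVec w, ?_⟩
    rw [Matrix.mulVecLin_apply, Matrix.mulVecLin_apply, Matrix.mulVec_mulVec, ← hAg]

lemma funLeft_mulVec (w : Fin r → R) :
    LinearMap.funLeft R R f ((A.submatrix id g).mulVec w) = (A.submatrix f g).mulVec w := by
  ext i
  simp [LinearMap.funLeft_apply, Matrix.mulVec, dotProduct]

lemma mulVec_injective (hU : IsUnit (A.submatrix f g).det) :
    Function.Injective (Matrix.mulVecLin (A.submatrix id g)) := by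
  intro w w' h
  have h1 : (A.submatrix f g).mulVec w = (A.submatrix f g).mulVec w' := by
    rw [← funLeft_mulVec, ← funLeft_mulVec]
    exact congrArg _ h
  exact Matrix.mulVec_injective_of_isUnit ((Matrix.isUnit_iff_isUnit_det _).2 hU) h1

lemma isCompl (hU : IsUnit (A.submatrix f g).det) :
    IsCompl (LinearMap.range (Matrix.mulVecLin (A.submatrix id g)))
      (LinearMap.ker (LinearMap.funLeft R R f)) := by
  classical
  haveI : Invertible (A.submatrix f g) := Matrix.invertibleOfIsUnitDet _ hU
  apply IsCompl.of_eq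
  · rw [Submodule.eq_bot_iff]
    intro x hx0
    obtain ⟨⟨w, rfl⟩, hx⟩ := Submodule.mem_inf.1 hx0
    rw [LinearMap.mem_ker, Matrix.mulVecLin_apply, funLeft_mulVec] at hx
    have hw : w = 0 := by
      apply Matrix.mulVec_injective_of_isUnit ((Matrix.isUnit_iff_isUnit_det _).2 hU)
      rw [hx, Matrix.mulVec_zero]
    rw [hw, map_zero]
  · rw [Submodule.eq_top_iff']
    intro v
    rw [Submodule.mem_sup]
    let w := (A.submatrix f g)⁻¹.mulVec (LinearMap.funLeft R R f v)
    refine ⟨(A.submatrix id g).mulVec w, ⟨w, rfl⟩, v - (A.submatrix id g).mulVec w, ?_, by abel⟩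
    rw [LinearMap.mem_ker, map_sub, funLeft_mulVec]
    show _ - (A.submatrix f g).mulVec ((A.submatrix f g)⁻¹.mulVec _) = 0
    rw [Matrix.mulVec_mulVec, Matrix.mul_nonsing_inv _ hU, Matrix.one_mulVec, sub_self]

theorem backward [Nontrivial R] (hU : IsUnit (A.submatrix f g).det) (h0 : minorIdeal A (r + 1) = ⊥) :
    ∃ N' : Submodule R (Fin n → R), IsCompl (LinearMap.range (Matrix.mulVecLin A)) N' ∧
        Module.finrank R (LinearMap.range (Matrix.mulVecLin A)) = r := by
  rw [range_eq A f g hU h0]
  refine ⟨_, isCompl A f g hU, ?_⟩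
  rw [← LinearEquiv.finrank_eq (LinearEquiv.ofInjective _ (mulVec_injective A f g hU)),
    Module.finrank_fin_fun]

end Backward

section Forward

variable [IsLocalRing R] {n m r : ℕ} (A : Matrix (Fin n) (Fin m) R)

theorem forward (N' : Submodule R (Fin n → R))
    (hc : IsCompl (LinearMap.range (Matrix.mulVecLin A)) N')
    (hr : Module.finrank R (LinearMap.range (Matrix.mulVecLin A)) = r) :
    minorIdeal A (r + 1) = ⊥ ∧ minorIdeal A r = ⊤ := by
  classical
  set F := LinearMap.range (Matrix.mulVecLin A) with hF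
  let proj : (Fin n → R) →ₗ[R] F := Submodule.projectionOnto F N' hc
  have hproj : ∀ x : F, proj (x : Fin n → R) = x := fun x =>
    Submodule.projectionOnto_apply_left hc x
  haveI : Module.Projective R F :=
    Module.Projective.of_split F.subtype proj (LinearMap.ext fun x => hproj x)
  haveI : Module.Finite R F := Module.Finite.range _
  haveI : Module.Free R F := Module.free_of_flat_of_isLocalRing
  let b : Module.Basis (Fin r) R F := Module.finBasisOfFinrankEq R F hr
  have hcex : ∀ i, ∃ c : Fin m → R, A.mulVec c = (b i : Fin n → R) := by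
    intro i
    obtain ⟨c, hc⟩ := (b i).2
    exact ⟨c, hc⟩
  choose c hc' using hcex
  let Cm : Matrix (Fin m) (Fin r) R := Matrix.of fun k i => c i k
  let Bm : Matrix (Fin n) (Fin r) R := Matrix.of fun t i => (b i : Fin n → R) t
  have hAC : A * Cm = Bm := by
    ext t i
    have := congrFun (hc' i) t
    show (A * Cm) t i = (b i : Fin n → R) t
    rw [← this]
    simp [Matrix.mul_apply, Matrix.mulVec, dotProduct, Cm]
  let p : (Fin n → R) →ₗ[R] (Fin r → R) := (b.equivFun : F →ₗ[R] (Fin r → R)) ∘ₗ proj
  let Pm : Matrix (Fin r) (Fin n) R := LinearMap.toMatrix' p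
  have hPm : ∀ v, Pm.mulVec v = p v := fun v => LinearMap.toMatrix'_mulVec p v
  have hBcol : ∀ j : Fin r, (fun t => Bm t j) = (b j : Fin n → R) := fun j => rfl
  have hPB : Pm * Bm = 1 := by
    ext i j
    have h1 : (Pm * Bm) i j = (Pm.mulVec (fun t => Bm t j)) i := by
      simp [Matrix.mul_apply, Matrix.mulVec, dotProduct]
    rw [h1, hBcol, hPm]
    show b.equivFun (proj (b j : Fin n → R)) i = _
    rw [hproj, Module.Basis.equivFun_apply, Module.Basis.repr_self, Matrix.one_apply]
    simp [Finsupp.single_apply, eq_comm]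
  constructor
  · have hA : A = Bm * (Pm * A) := by
      apply Matrix.toLin'.injective
      apply LinearMap.ext
      intro x
      rw [Matrix.toLin'_apply, Matrix.toLin'_apply, ← Matrix.mulVec_mulVec, ← Matrix.mulVec_mulVec,
        hPm]
      have hx : A.mulVec x ∈ F := ⟨x, rfl⟩
      show A.mulVec x = Bm.mulVec (b.equivFun (proj (A.mulVec x)))
      have h2 := hproj ⟨A.mulVec x, hx⟩
      simp only at h2
      rw [h2]
      have key : ∀ y : F, (y : Fin n → R) = Bm.mulVec (b.equivFun y) := by
        intro y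
        have h3 := b.sum_equivFun y
        have h4 := congrArg (fun y : F => (y : Fin n → R)) h3
        simp only [Submodule.coe_sum, Submodule.coe_smul] at h4
        rw [← h4]
        ext t
        simp [Matrix.mulVec, dotProduct, Bm, mul_comm]
      exact key ⟨_, hx⟩
    rw [hA]
    exact minorIdeal_eq_bot_of_factor Bm (Pm * A) (r + 1) (Nat.lt_succ_self r)
  · rw [Ideal.eq_top_iff_one]
    have h1 : ((Pm * Bm).submatrix id id).det ∈ minorIdeal Bm r :=
      det_submatrix_mul_mem Pm Bm r id id
    rw [Matrix.submatrix_id_id, hPB, Matrix.det_one] at h1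
    rw [← hAC] at h1
    exact minorIdeal_mul_le_left A Cm r h1

end Forward

end Groth.Agent.Lib.Helper26.MinorRank
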