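import Mathlib

/-!
# Modifications of a module along the minimal primes over `(π)`

`Van π 𝔓 X T x` says that the class of `x` in `X / πX` vanishes in the localisation at `𝔓 i` for
all `i ∈ T`.
-/

namespace Groth.Agent.Lib.Helper26.Modif

set_option maxHeartbeats 400000

universe u

variable {A : Type u} [CommRing A]

/-- for a minimal prime `𝔓` over `I` and `t ∈ 𝔓`, some `u ∉ 𝔓` and power `e` give `u t^e ∈ I` -/
lemma exists_mul_pow_mem (I 𝔓 : Ideal A) [𝔓.IsPrime] (h : 𝔓 ∈ I.minimalPrimes) {t : A}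
    (ht : t ∈ 𝔓) : ∃ (e : ℕ) (u : A), u ∉ 𝔓 ∧ u * t ^ e ∈ I := by
  have hrad := IsLocalization.AtPrime.radical_map_of_mem_minimalPrimes
    (A := Localization.AtPrime 𝔓) 𝔓 I h
  have h1 : algebraMap A (Localization.AtPrime 𝔓) t ∈
      (I.map (algebraMap A (Localization.AtPrime 𝔓))).radical := by
    rw [hrad]; exact Ideal.mem_map_of_mem _ ht
  obtain ⟨e, he⟩ := h1
  rw [← map_pow, IsLocalization.mem_map_algebraMap_iff 𝔓.primeCompl] at he
  obtain ⟨⟨a, s⟩, hs⟩ := he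
  rw [← map_mul, IsLocalization.eq_iff_exists 𝔓.primeCompl] at hs
  obtain ⟨c, hc⟩ := hs
  refine ⟨e, c * s, (c * s).2, ?_⟩
  have : (c : A) * s * t ^ e = c * (t ^ e * s) := by ring
  rw [this, hc]
  exact I.mul_mem_left _ a.2

lemma exists_sep {ι : Type} [Finite ι] (𝔓 : ι → Ideal A) [∀ i, (𝔓 i).IsPrime] (I : Ideal A)
    (h𝔓 : ∀ i, 𝔓 i ∈ I.minimalPrimes) (h𝔓inj : Function.Injective 𝔓) (i : ι) :
    ∃ s ∉ 𝔓 i, ∀ j ≠ i, ∃ u ∉ 𝔓 j, u * s ∈ I := by
  classical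
  haveI := Fintype.ofFinite ι
  have hex : ∀ j : ι, ∃ (t : A) (e : ℕ) (u : A),
      j ≠ i → (t ∉ 𝔓 i ∧ u ∉ 𝔓 j ∧ u * t ^ e ∈ I) := by
    intro j
    by_cases hji : j = i
    · exact ⟨0, 0, 0, fun h => absurd hji h⟩
    · have hnle : ¬ 𝔓 j ≤ 𝔓 i := by
        intro hle
        have := (h𝔓 i).2 (h𝔓 j).1 hle
        exact hji (h𝔓inj (le_antisymm hle this))
      obtain ⟨t, htj, hti⟩ := Set.not_subset.1 hnle
      obtain ⟨e, u, hu, hut⟩ := exists_mul_pow_mem I (𝔓 j) (h𝔓 j) htj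
      exact ⟨t, e, u, fun _ => ⟨hti, hu, hut⟩⟩
  choose t e u h using hex
  refine ⟨∏ j ∈ Finset.univ.erase i, t j ^ e j, ?_, ?_⟩
  · rw [Ideal.IsPrime.prod_mem_iff]
    rintro ⟨j, hj, hmem⟩
    have hji := (Finset.mem_erase.1 hj).1
    exact (h j hji).1 (Ideal.IsPrime.mem_of_pow_mem inferInstance _ hmem)
  · intro j hji
    refine ⟨u j, (h j hji).2.1, ?_⟩
    rw [← Finset.mul_prod_erase _ _ (Finset.mem_erase.2 ⟨hji, Finset.mem_univ j⟩), ← mul_assoc]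
    exact I.mul_mem_right _ (h j hji).2.2

variable (π : A) {ι : Type} (𝔓 : ι → Ideal A)

/-- the class of `x` in `X / πX` vanishes at the primes `𝔓 i`, `i ∈ T` -/
def Van (X : Type*) [AddCommGroup X] [Module A X] (T : Set ι) (x : X) : Prop :=
  ∀ i ∈ T, ∃ s ∉ 𝔓 i, s • x ∈ Ideal.span {π} • (⊤ : Submodule A X)

lemma mem_pi_smul_top {X : Type*} [AddCommGroup X] [Module A X] (x : X) :
    x ∈ Ideal.span {π} • (⊤ : Submodule A X) ↔ ∃ x', π • x' = x := by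
  rw [Submodule.ideal_span_singleton_smul, Submodule.mem_smul_pointwise_iff_exists]
  simp

lemma mkQ_mem_iInf_ker [∀ i, (𝔓 i).IsPrime] {X : Type*} [AddCommGroup X] [Module A X]
    (T : Set ι) (x : X) :
    (Submodule.mkQ (Ideal.span {π} • (⊤ : Submodule A X)) x ∈
      ⨅ i ∈ T, LinearMap.ker (LocalizedModule.mkLinearMap (𝔓 i).primeCompl
        (X ⧸ Ideal.span {π} • (⊤ : Submodule A X)))) ↔ Van π 𝔓 X T x := by
  simp only [Submodule.mem_iInf, LocalizedModule.mem_ker_mkLinearMap_iff, Van]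
  refine forall₂_congr fun i _ => ?_
  constructor
  · rintro ⟨s, hs, h⟩
    refine ⟨s, hs, ?_⟩
    rwa [← map_smul, Submodule.mkQ_apply, Submodule.Quotient.mk_eq_zero] at h
  · rintro ⟨s, hs, h⟩
    refine ⟨s, hs, ?_⟩
    rw [← map_smul, Submodule.mkQ_apply, Submodule.Quotient.mk_eq_zero]
    exact h

lemma van_of_mem {X : Type*} [AddCommGroup X] [Module A X] [∀ i, (𝔓 i).IsPrime] (T : Set ι)
    {x : X} (hx : x ∈ Ideal.span {π} • (⊤ : Submodule A X)) : Van π 𝔓 X T x := by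
  intro i _
  refine ⟨1, ?_, by rwa [one_smul]⟩
  exact fun h => (inferInstance : (𝔓 i).IsPrime).ne_top ((Ideal.eq_top_iff_one _).2 h)

lemma van_union {X : Type*} [AddCommGroup X] [Module A X] (T T' : Set ι) {x : X}
    (h : Van π 𝔓 X T x) (h' : Van π 𝔓 X T' x) : Van π 𝔓 X (T ∪ T') x := by
  rintro i (hi | hi)
  · exact h i hi
  · exact h' i hi

lemma van_add {X : Type*} [AddCommGroup X] [Module A X] [∀ i, (𝔓 i).IsPrime] (T : Set ι)
    {x y : X} (hx : Van π 𝔓 X T x) (hy : Van π 𝔓 X T y) : Van π 𝔓 X T (x + y) := by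
  intro i hi
  obtain ⟨s, hs, hsx⟩ := hx i hi
  obtain ⟨s', hs', hsy⟩ := hy i hi
  refine ⟨s * s', fun h => ?_, ?_⟩
  · rcases (inferInstance : (𝔓 i).IsPrime).mem_or_mem h with h | h
    · exact hs h
    · exact hs' h
  · rw [smul_add]
    refine Submodule.add_mem _ ?_ ?_
    · rw [mul_comm, mul_smul]; exact Submodule.smul_mem _ _ hsx
    · rw [mul_smul]; exact Submodule.smul_mem _ _ hsy

lemma van_neg {X : Type*} [AddCommGroup X] [Module A X] (T : Set ι)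
    {x : X} (hx : Van π 𝔓 X T x) : Van π 𝔓 X T (-x) := by
  intro i hi
  obtain ⟨s, hs, hsx⟩ := hx i hi
  exact ⟨s, hs, by rw [smul_neg]; exact Submodule.neg_mem _ hsx⟩

lemma van_sub {X : Type*} [AddCommGroup X] [Module A X] [∀ i, (𝔓 i).IsPrime] (T : Set ι)
    {x y : X} (hx : Van π 𝔓 X T x) (hy : Van π 𝔓 X T y) : Van π 𝔓 X T (x - y) := by
  rw [sub_eq_add_neg]
  exact van_add π 𝔓 T hx (van_neg π 𝔓 T hy)

lemma van_smul {X : Type*} [AddCommGroup X] [Module A X] (T : Set ι) (a : A)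
    {x : X} (hx : Van π 𝔓 X T x) : Van π 𝔓 X T (a • x) := by
  intro i hi
  obtain ⟨s, hs, hsx⟩ := hx i hi
  exact ⟨s, hs, by rw [smul_comm]; exact Submodule.smul_mem _ _ hsx⟩

/-- (a): vanishing in `P / πP` for a submodule `P` implies vanishing in `M / πM` -/
lemma van_of_sub {M : Type*} [AddCommGroup M] [Module A M] (P : Submodule A M) (T : Set ι)
    (n : P) (h : Van π 𝔓 P T n) : Van π 𝔓 M T (n : M) := by
  intro i hi
  obtain ⟨s, hs, hsn⟩ := h i hi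
  refine ⟨s, hs, ?_⟩
  obtain ⟨n', hn'⟩ := (mem_pi_smul_top π _).1 hsn
  rw [mem_pi_smul_top]
  refine ⟨(n' : M), ?_⟩
  have := congrArg (Subtype.val) hn'
  simpa using this

/-- (b): an element `π m'` vanishes in `P / πP` on the complement of `Y` when
`P = {m | Van M Y m}` -/
lemma van_sub_of_mem [Finite ι] [∀ i, (𝔓 i).IsPrime]
    (h𝔓 : ∀ i, 𝔓 i ∈ (Ideal.span {π}).minimalPrimes) (h𝔓inj : Function.Injective 𝔓)
    {M : Type*} [AddCommGroup M] [Module A M] (P : Submodule A M) (Y : Set ι)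
    (hP : ∀ m, m ∈ P ↔ Van π 𝔓 M Y m)
    (n : P) (hn : (n : M) ∈ Ideal.span {π} • (⊤ : Submodule A M)) : Van π 𝔓 P Yᶜ n := by
  intro i hi
  obtain ⟨m', hm'⟩ := (mem_pi_smul_top π _).1 hn
  obtain ⟨s, hs, hsep⟩ := exists_sep 𝔓 (Ideal.span {π}) h𝔓 h𝔓inj i
  refine ⟨s, hs, ?_⟩
  have hmem : s • m' ∈ P := by
    rw [hP]
    intro j hj
    have hji : j ≠ i := fun h => hi (h ▸ hj)
    obtain ⟨u, hu, hus⟩ := hsep j hji
    refine ⟨u, hu, ?_⟩
    obtain ⟨c, hc⟩ := Ideal.mem_span_singleton'.1 hus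
    rw [mem_pi_smul_top]
    refine ⟨c • m', ?_⟩
    rw [smul_smul, smul_smul, mul_comm π c, hc]
  rw [mem_pi_smul_top]
  refine ⟨⟨s • m', hmem⟩, ?_⟩
  apply Subtype.ext
  show π • s • m' = s • (n : M)
  rw [← hm', smul_comm]

end Groth.Agent.Lib.Helper26.Modif
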