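import Mathlib
import Groth.Agent.Lib.Helper26.Modif

namespace Groth.Agent.Lib.Helper26.ModifMain

set_option maxHeartbeats 400000

universe u

open Groth.Agent.Lib.Helper26.Modif

section

variable (A : Type u) [CommRing A] (π : A)
    (ι : Type) [Finite ι] (𝔓 : ι → Ideal A) [∀ i, (𝔓 i).IsPrime]
    (M : Type u) [AddCommGroup M] [Module A M]
    (K : Set ι → Submodule A (M ⧸ Ideal.span {π} • (⊤ : Submodule A M)))
    (hK : ∀ T : Set ι, K T = ⨅ i ∈ T, LinearMap.ker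
      (LocalizedModule.mkLinearMap (𝔓 i).primeCompl (M ⧸ Ideal.span {π} • (⊤ : Submodule A M))))
    (htf : K Set.univ = ⊥)
    (N : Set ι → Submodule A M)
    (hN : ∀ T : Set ι, N T = (K T).comap (Submodule.mkQ (Ideal.span {π} • (⊤ : Submodule A M))))

include hK hN in
omit [Finite ι] in
lemma mem_N (T : Set ι) (m : M) : m ∈ N T ↔ Van π 𝔓 M T m := by
  rw [hN, Submodule.mem_comap, hK]
  exact mkQ_mem_iInf_ker π 𝔓 T m

include hK htf in
omit [Finite ι] in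
lemma tf (m : M) (h : Van π 𝔓 M Set.univ m) : m ∈ Ideal.span {π} • (⊤ : Submodule A M) := by
  have h1 : Submodule.mkQ (Ideal.span {π} • (⊤ : Submodule A M)) m ∈ K Set.univ := by
    rw [hK]; exact (mkQ_mem_iInf_ker π 𝔓 Set.univ m).2 h
  rw [htf, Submodule.mem_bot, Submodule.mkQ_apply, Submodule.Quotient.mk_eq_zero] at h1
  exact h1

include hK htf hN in
omit [Finite ι] in
lemma N_inf (Y : Set ι) : N Y ⊓ N Yᶜ = Ideal.span {π} • (⊤ : Submodule A M) := by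
  ext m
  rw [Submodule.mem_inf, mem_N A π ι 𝔓 M K hK N hN, mem_N A π ι 𝔓 M K hK N hN]
  constructor
  · rintro ⟨h1, h2⟩
    apply tf A π ι 𝔓 M K hK htf
    have := van_union π 𝔓 Y Yᶜ h1 h2
    rwa [Set.union_compl_self] at this
  · intro h
    exact ⟨van_of_mem π 𝔓 Y h, van_of_mem π 𝔓 Yᶜ h⟩

include hK htf hN in
theorem main18364
    (h𝔓 : ∀ i, 𝔓 i ∈ (Ideal.span {π}).minimalPrimes) (h𝔓inj : Function.Injective 𝔓)
    (Y : Set ι) :
    N Y ⊓ N Yᶜ = Ideal.span {π} • (⊤ : Submodule A M) ∧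
    Submodule.map (N Y).subtype
      ((⨅ i ∈ Yᶜ, LinearMap.ker (LocalizedModule.mkLinearMap (𝔓 i).primeCompl
          (↥(N Y) ⧸ Ideal.span {π} • (⊤ : Submodule A ↥(N Y))))).comap
        (Submodule.mkQ (Ideal.span {π} • (⊤ : Submodule A ↥(N Y)))))
      = N Y ⊓ N Yᶜ := by
  have hinf := N_inf A π ι 𝔓 M K hK htf N hN Y
  refine ⟨hinf, ?_⟩
  ext m
  constructor
  · rintro ⟨n, hn, rfl⟩
    rw [SetLike.mem_coe, Submodule.mem_comap, mkQ_mem_iInf_ker] at hn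
    refine ⟨n.2, ?_⟩
    show (n : M) ∈ N Yᶜ
    rw [mem_N A π ι 𝔓 M K hK N hN]
    exact van_of_sub π 𝔓 (N Y) Yᶜ n hn
  · intro hm
    have hm' : m ∈ Ideal.span {π} • (⊤ : Submodule A M) := by rw [← hinf]; exact hm
    refine ⟨⟨m, hm.1⟩, ?_, rfl⟩
    rw [SetLike.mem_coe, Submodule.mem_comap, mkQ_mem_iInf_ker]
    exact van_sub_of_mem π 𝔓 h𝔓 h𝔓inj (N Y) Y (mem_N A π ι 𝔓 M K hK N hN Y) ⟨m, hm.1⟩ hm'

end

end Groth.Agent.Lib.Helper26.ModifMain
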