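import Mathlib
import Groth.Agent.Lib.Helper26.Modif
import Groth.Agent.Lib.Helper26.ModifMain

namespace Groth.Agent.Lib.Helper26.ModifMain2

set_option maxHeartbeats 400000

universe u

open Groth.Agent.Lib.Helper26.Modif Groth.Agent.Lib.Helper26.ModifMain

section general

variable {A : Type u} [CommRing A] (π : A) {ι : Type} (𝔓 : ι → Ideal A) [∀ i, (𝔓 i).IsPrime]

omit [∀ i, (𝔓 i).IsPrime] in
lemma van_mono {X : Type*} [AddCommGroup X] [Module A X] {T T' : Set ι} (h : T' ⊆ T) {x : X}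
    (hx : Van π 𝔓 X T x) : Van π 𝔓 X T' x := fun i hi => hx i (h hi)

/-- decomposition of the quotient at `T`, `T'` in terms of lifts -/
lemma decomp_iff {X : Type*} [AddCommGroup X] [Module A X] (T T' : Set ι) :
    ((⨅ i ∈ T, LinearMap.ker (LocalizedModule.mkLinearMap (𝔓 i).primeCompl
        (X ⧸ Ideal.span {π} • (⊤ : Submodule A X)))) ⊔
      (⨅ i ∈ T', LinearMap.ker (LocalizedModule.mkLinearMap (𝔓 i).primeCompl
        (X ⧸ Ideal.span {π} • (⊤ : Submodule A X)))) = ⊤) ↔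
    ∀ x : X, ∃ a b : X, Van π 𝔓 X T a ∧ Van π 𝔓 X T' b ∧ x = a + b := by
  constructor
  · intro h x
    have hx : Submodule.mkQ (Ideal.span {π} • (⊤ : Submodule A X)) x ∈
        (⊤ : Submodule A (X ⧸ Ideal.span {π} • (⊤ : Submodule A X))) := Submodule.mem_top
    rw [← h, Submodule.mem_sup] at hx
    obtain ⟨y, hy, z, hz, hyz⟩ := hx
    obtain ⟨a₀, rfl⟩ := Submodule.mkQ_surjective _ y
    obtain ⟨b₀, rfl⟩ := Submodule.mkQ_surjective _ z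
    rw [mkQ_mem_iInf_ker] at hy hz
    have hdiff : x - (a₀ + b₀) ∈ Ideal.span {π} • (⊤ : Submodule A X) := by
      rw [← map_add, Submodule.mkQ_apply, Submodule.mkQ_apply, eq_comm,
        Submodule.Quotient.eq] at hyz
      exact hyz
    refine ⟨a₀ + (x - (a₀ + b₀)), b₀, van_add π 𝔓 T hy (van_of_mem π 𝔓 T hdiff), hz, by abel⟩
  · intro h
    rw [eq_top_iff]
    intro xbar _
    obtain ⟨x, rfl⟩ := Submodule.mkQ_surjective _ xbar
    obtain ⟨a, b, ha, hb, rfl⟩ := h x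
    rw [map_add]
    exact Submodule.add_mem_sup ((mkQ_mem_iInf_ker π 𝔓 T a).2 ha)
      ((mkQ_mem_iInf_ker π 𝔓 T' b).2 hb)

end general

section

variable (A : Type u) [CommRing A] (π : A)
    (ι : Type) [Finite ι] (𝔓 : ι → Ideal A) [∀ i, (𝔓 i).IsPrime]
    (M : Type u) [AddCommGroup M] [Module A M]
    (hπ : ∀ m : M, π • m = 0 → m = 0)
    (K : Set ι → Submodule A (M ⧸ Ideal.span {π} • (⊤ : Submodule A M)))
    (hK : ∀ T : Set ι, K T = ⨅ i ∈ T, LinearMap.ker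
      (LocalizedModule.mkLinearMap (𝔓 i).primeCompl (M ⧸ Ideal.span {π} • (⊤ : Submodule A M))))
    (htf : K Set.univ = ⊥)
    (N : Set ι → Submodule A M)
    (hN : ∀ T : Set ι, N T = (K T).comap (Submodule.mkQ (Ideal.span {π} • (⊤ : Submodule A M))))

include hK htf in
omit [Finite ι] in
/-- vanishing at `Y` and at its complement forces membership in `πM` -/
lemma mem_of_van_both (Y : Set ι) (m : M) (h1 : Van π 𝔓 M Y m) (h2 : Van π 𝔓 M Yᶜ m) :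
    m ∈ Ideal.span {π} • (⊤ : Submodule A M) := by
  apply tf A π ι 𝔓 M K hK htf
  have := van_union π 𝔓 Y Yᶜ h1 h2
  rwa [Set.union_compl_self] at this

include hπ hK htf hN in
omit [Finite ι] in
lemma claimB (Y W : Set ι) (n : N Y) (a b b' : M) (hn : (n : M) = π • a) (hab : a = b + b')
    (hb : Van π 𝔓 M Y b) (hb' : Van π 𝔓 M Yᶜ b') (hW : Van π 𝔓 (N Y) W n) :
    Van π 𝔓 M W b' := by
  intro i hi
  obtain ⟨s, hs, hsn⟩ := hW i hi
  refine ⟨s, hs, ?_⟩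
  obtain ⟨n'', hn''⟩ := (mem_pi_smul_top π _).1 hsn
  have h1 : π • (n'' : M) = s • π • a := by
    have := congrArg Subtype.val hn''
    simp only [Submodule.coe_smul] at this
    rw [this, hn]
  have h2 : (n'' : M) = s • a := by
    have : π • ((n'' : M) - s • a) = 0 := by
      rw [smul_sub, h1, smul_comm, sub_self]
    exact sub_eq_zero.1 (hπ _ this)
  have h3 : Van π 𝔓 M Y (s • a) := by
    rw [← h2, ← mem_N A π ι 𝔓 M K hK N hN]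
    exact n''.2
  have h4 : s • b' = s • a - s • b := by rw [hab, smul_add]; abel
  apply mem_of_van_both A π ι 𝔓 M K hK htf Y
  · rw [h4]
    exact van_sub π 𝔓 Y h3 (van_smul π 𝔓 Y s hb)
  · exact van_smul π 𝔓 Yᶜ s hb'

include hπ hK htf hN in
theorem main18365
    (h𝔓 : ∀ i, 𝔓 i ∈ (Ideal.span {π}).minimalPrimes) (h𝔓inj : Function.Injective 𝔓)
    (Y Z : Set ι) (hY : K Y ⊔ K Yᶜ = ⊤)
    (K' : Set ι → Submodule A (↥(N Y) ⧸ Ideal.span {π} • (⊤ : Submodule A ↥(N Y))))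
    (hK' : ∀ T : Set ι, K' T = ⨅ i ∈ T, LinearMap.ker
      (LocalizedModule.mkLinearMap (𝔓 i).primeCompl
        (↥(N Y) ⧸ Ideal.span {π} • (⊤ : Submodule A ↥(N Y)))))
    (hZ : K' Z ⊔ K' Zᶜ = ⊤) :
    K Z ⊔ K Zᶜ = ⊤ := by
  rw [hK, hK, decomp_iff] at hY
  rw [hK', hK', decomp_iff] at hZ
  rw [hK, hK, decomp_iff]
  have memN := mem_N A π ι 𝔓 M K hK N hN
  -- decomposability is additive
  have hadd : ∀ m m' : M,
      (∃ a b : M, Van π 𝔓 M Z a ∧ Van π 𝔓 M Zᶜ b ∧ m = a + b) →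
      (∃ a b : M, Van π 𝔓 M Z a ∧ Van π 𝔓 M Zᶜ b ∧ m' = a + b) →
      ∃ a b : M, Van π 𝔓 M Z a ∧ Van π 𝔓 M Zᶜ b ∧ m + m' = a + b := by
    rintro m m' ⟨a, b, ha, hb, rfl⟩ ⟨a', b', ha', hb', rfl⟩
    exact ⟨a + a', b + b', van_add π 𝔓 Z ha ha', van_add π 𝔓 Zᶜ hb hb', by abel⟩
  -- Step 1
  have step1 : ∀ n : N Y, ∃ a b : M, Van π 𝔓 M Z a ∧ Van π 𝔓 M Zᶜ b ∧ (n : M) = a + b := by
    intro n
    obtain ⟨a, b, ha, hb, rfl⟩ := hZ n
    exact ⟨a, b, van_of_sub π 𝔓 (N Y) Z a ha, van_of_sub π 𝔓 (N Y) Zᶜ b hb, rfl⟩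
  -- Step 2
  have step2 : ∀ y' : M, Van π 𝔓 M Yᶜ y' →
      ∃ a b : M, Van π 𝔓 M Z a ∧ Van π 𝔓 M Zᶜ b ∧ y' = a + b := by
    intro y' hy'
    have hπy' : π • y' ∈ Ideal.span {π} • (⊤ : Submodule A M) :=
      (mem_pi_smul_top π _).2 ⟨y', rfl⟩
    have hmem : π • y' ∈ N Y := (memN Y _).2 (van_of_mem π 𝔓 Y hπy')
    obtain ⟨n₁, n₂, hn₁, hn₂, hsum⟩ := hZ ⟨π • y', hmem⟩
    have hn₀ : Van π 𝔓 (N Y) Yᶜ (⟨π • y', hmem⟩ : N Y) :=
      van_sub_of_mem π 𝔓 h𝔓 h𝔓inj (N Y) Y (memN Y) ⟨π • y', hmem⟩ hπy'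
    -- n₁ and n₂ vanish on Yᶜ
    have hn₁Y : Van π 𝔓 (N Y) Yᶜ n₁ := by
      have e1 : n₁ = (⟨π • y', hmem⟩ : N Y) - n₂ := by rw [hsum]; abel
      have h1 : Van π 𝔓 (N Y) (Yᶜ ∩ Zᶜ) n₁ := by
        rw [e1]
        exact van_sub π 𝔓 _ (van_mono π 𝔓 Set.inter_subset_left hn₀)
          (van_mono π 𝔓 Set.inter_subset_right hn₂)
      have h2 : Van π 𝔓 (N Y) (Yᶜ ∩ Z) n₁ := van_mono π 𝔓 Set.inter_subset_right hn₁
      have := van_union π 𝔓 _ _ h2 h1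
      rwa [← Set.inter_union_distrib_left, Set.union_compl_self, Set.inter_univ] at this
    have hn₂Y : Van π 𝔓 (N Y) Yᶜ n₂ := by
      have e1 : n₂ = (⟨π • y', hmem⟩ : N Y) - n₁ := by rw [hsum]; abel
      have h1 : Van π 𝔓 (N Y) (Yᶜ ∩ Z) n₂ := by
        rw [e1]
        exact van_sub π 𝔓 _ (van_mono π 𝔓 Set.inter_subset_left hn₀)
          (van_mono π 𝔓 Set.inter_subset_right hn₁)
      have h2 : Van π 𝔓 (N Y) (Yᶜ ∩ Zᶜ) n₂ := van_mono π 𝔓 Set.inter_subset_right hn₂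
      have := van_union π 𝔓 _ _ h1 h2
      rwa [← Set.inter_union_distrib_left, Set.union_compl_self, Set.inter_univ] at this
    -- hence they lie in πM
    have hn₁π : (n₁ : M) ∈ Ideal.span {π} • (⊤ : Submodule A M) :=
      mem_of_van_both A π ι 𝔓 M K hK htf Y _ ((memN Y _).1 n₁.2)
        (van_of_sub π 𝔓 (N Y) Yᶜ n₁ hn₁Y)
    have hn₂π : (n₂ : M) ∈ Ideal.span {π} • (⊤ : Submodule A M) :=
      mem_of_van_both A π ι 𝔓 M K hK htf Y _ ((memN Y _).1 n₂.2)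
        (van_of_sub π 𝔓 (N Y) Yᶜ n₂ hn₂Y)
    obtain ⟨a₁, ha₁⟩ := (mem_pi_smul_top π _).1 hn₁π
    obtain ⟨a₂, ha₂⟩ := (mem_pi_smul_top π _).1 hn₂π
    have hy'eq : y' = a₁ + a₂ := by
      have h1 : π • y' = (n₁ : M) + (n₂ : M) := by
        have := congrArg Subtype.val hsum
        simpa using this
      have : π • (y' - (a₁ + a₂)) = 0 := by
        rw [smul_sub, smul_add, ha₁, ha₂, h1, sub_self]
      exact sub_eq_zero.1 (hπ _ this)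
    obtain ⟨b₁, b₁', hb₁, hb₁', hab₁⟩ := hY a₁
    obtain ⟨b₂, b₂', hb₂, hb₂', hab₂⟩ := hY a₂
    have hZ1 : Van π 𝔓 M Z b₁' :=
      claimB A π ι 𝔓 M hπ K hK htf N hN Y Z n₁ a₁ b₁ b₁' ha₁.symm hab₁ hb₁ hb₁' hn₁
    have hZ2 : Van π 𝔓 M Zᶜ b₂' :=
      claimB A π ι 𝔓 M hπ K hK htf N hN Y Zᶜ n₂ a₂ b₂ b₂' ha₂.symm hab₂ hb₂ hb₂' hn₂
    -- the remainder b₁ + b₂ lies in πM
    have hr : b₁ + b₂ ∈ Ideal.span {π} • (⊤ : Submodule A M) := by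
      apply mem_of_van_both A π ι 𝔓 M K hK htf Y
      · exact van_add π 𝔓 Y hb₁ hb₂
      · have e : b₁ + b₂ = y' - b₁' - b₂' := by rw [hy'eq, hab₁, hab₂]; abel
        rw [e]
        exact van_sub π 𝔓 Yᶜ (van_sub π 𝔓 Yᶜ hy' hb₁') hb₂'
    refine ⟨b₁' + (b₁ + b₂), b₂', van_add π 𝔓 Z hZ1 (van_of_mem π 𝔓 Z hr), hZ2, ?_⟩
    rw [hy'eq, hab₁, hab₂]; abel
  intro m
  obtain ⟨y, y', hy, hy', rfl⟩ := hY m
  exact hadd y y' (step1 ⟨y, (memN Y y).2 hy⟩) (step2 y' hy')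

end

end Groth.Agent.Lib.Helper26.ModifMain2
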