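import Mathlib

set_option maxHeartbeats 400000
set_option autoImplicit false

namespace Groth.Agent.Lib.Helper26.MonoCount

open Polynomial

/-- counting exponent vectors via a product of polynomials over `ℕ` -/
lemma coeff_prod_eq_card {m q : ℕ} (T : Fin m → Finset (Fin q)) (j : ℕ) :
    (∏ i : Fin m, ∑ t ∈ T i, (X : ℕ[X]) ^ (t : ℕ)).coeff j =
      ((Fintype.piFinset T).filter fun e => ∑ i, (e i : ℕ) = j).card := by
  rw [Finset.prod_univ_sum, finset_sum_coeff]
  simp only [Finset.prod_pow_eq_pow_sum, coeff_X_pow]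
  rw [Finset.card_filter]
  refine Finset.sum_congr rfl fun e _ => ?_
  by_cases h : ∑ i, (e i : ℕ) = j
  · rw [if_pos h.symm, if_pos h]
  · rw [if_neg (Ne.symm h), if_neg h]

/-- the polynomial `X + X^2 + ⋯ + X^h` -/
noncomputable def P (h : ℕ) : ℕ[X] := ∑ t ∈ Finset.Ico 1 (h + 1), X ^ t

lemma sum_fin_filter (q : ℕ) (p : ℕ → Prop) [DecidablePred p] :
    ∑ t ∈ (Finset.univ : Finset (Fin q)).filter (fun t : Fin q => p t.1), (X : ℕ[X]) ^ t.1 =
      ∑ t ∈ (Finset.range q).filter p, X ^ t := by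
  rw [Finset.sum_filter, Finset.sum_filter]
  exact Fin.sum_univ_eq_sum_range (fun t => if p t then (X : ℕ[X]) ^ t else 0) q

lemma P_eq_fin (h : ℕ) :
    ∑ t ∈ (Finset.univ : Finset (Fin (h + 1))).filter (fun t : Fin (h + 1) => 1 ≤ t.1),
      (X : ℕ[X]) ^ t.1 = P h := by
  rw [sum_fin_filter (h + 1) (fun t => 1 ≤ t), P]
  congr 1
  ext t
  simp only [Finset.mem_filter, Finset.mem_range, Finset.mem_Ico]
  omega

lemma P_small (h : ℕ) :
    ∑ t ∈ (Finset.univ : Finset (Fin (2 * h + 1))).filter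
      (fun t : Fin (2 * h + 1) => 1 ≤ t.1 ∧ 2 * t.1 < 2 * h + 1), (X : ℕ[X]) ^ t.1 = P h := by
  rw [sum_fin_filter (2 * h + 1) (fun t => 1 ≤ t ∧ 2 * t < 2 * h + 1), P]
  congr 1
  ext t
  simp only [Finset.mem_filter, Finset.mem_range, Finset.mem_Ico]
  omega

lemma P_big (h : ℕ) :
    ∑ t ∈ (Finset.univ : Finset (Fin (2 * h + 1))).filter
      (fun t : Fin (2 * h + 1) => 1 ≤ t.1 ∧ ¬ 2 * t.1 < 2 * h + 1), (X : ℕ[X]) ^ t.1 =
      X ^ h * P h := by
  rw [sum_fin_filter (2 * h + 1) (fun t => 1 ≤ t ∧ ¬ 2 * t < 2 * h + 1), P, Finset.mul_sum]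
  have : ∀ t ∈ Finset.Ico 1 (h + 1), (X : ℕ[X]) ^ h * X ^ t = X ^ (t + h) := by
    intro t _
    rw [← pow_add, add_comm]
  rw [Finset.sum_congr rfl this, Finset.sum_Ico_add' (fun t => (X : ℕ[X]) ^ t) 1 (h + 1) h]
  congr 1
  ext t
  simp only [Finset.mem_filter, Finset.mem_range, Finset.mem_Ico]
  omega

lemma coeff_zero_P (h : ℕ) : (P h).coeff 0 = 0 := by
  rw [P, finset_sum_coeff]
  apply Finset.sum_eq_zero
  intro t ht
  rw [Finset.mem_Ico] at ht
  rw [coeff_X_pow, if_neg (by omega)]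

lemma coeff_zero_P_pow (h m : ℕ) (hm : 0 < m) : ((P h) ^ m).coeff 0 = 0 := by
  rw [coeff_zero_eq_eval_zero, eval_pow, ← coeff_zero_eq_eval_zero, coeff_zero_P,
    zero_pow hm.ne']

/-- `N_q(m, j)` as a coefficient -/
lemma card_eq_coeff (h m j : ℕ) :
    Fintype.card {e : Fin m → Fin (h + 1) // (∀ i, 1 ≤ (e i : ℕ)) ∧ ∑ i, (e i : ℕ) = j} =
      ((P h) ^ m).coeff j := by
  classical
  rw [Fintype.card_subtype]
  have hprod : (P h) ^ m = ∏ _i : Fin m,
      ∑ t ∈ (Finset.univ : Finset (Fin (h + 1))).filter (fun t : Fin (h + 1) => 1 ≤ t.1),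
        (X : ℕ[X]) ^ t.1 := by
    rw [Finset.prod_const, Finset.card_univ, Fintype.card_fin, P_eq_fin]
  rw [hprod, coeff_prod_eq_card]
  congr 1
  ext e
  simp only [Finset.mem_filter, Finset.mem_univ, true_and, Fintype.mem_piFinset]

/-- the small exponents -/
def Ssmall (h : ℕ) : Finset (Fin (2 * h + 1)) :=
  Finset.univ.filter (fun t : Fin (2 * h + 1) => 1 ≤ t.1 ∧ 2 * t.1 < 2 * h + 1)

/-- the big exponents -/
def Sbig (h : ℕ) : Finset (Fin (2 * h + 1)) :=
  Finset.univ.filter (fun t : Fin (2 * h + 1) => 1 ≤ t.1 ∧ ¬ 2 * t.1 < 2 * h + 1)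

lemma count_fixed (h n s : ℕ) (A : Finset (Fin n)) :
    ((Finset.univ : Finset (Fin n → Fin (2 * h + 1))).filter fun e =>
      ((∀ i, 1 ≤ (e i : ℕ)) ∧ ∑ i, (e i : ℕ) = s) ∧
        (Finset.univ.filter fun i => 2 * (e i : ℕ) < 2 * h + 1) = A).card =
      ((P h) ^ A.card * (X ^ h * P h) ^ (n - A.card)).coeff s := by
  classical
  have hprod : (P h) ^ A.card * (X ^ h * P h) ^ (n - A.card) =
      ∏ i : Fin n, ∑ t ∈ (if i ∈ A then Ssmall h else Sbig h), (X : ℕ[X]) ^ t.1 := by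
    have h1 : ∀ i : Fin n, ∑ t ∈ (if i ∈ A then Ssmall h else Sbig h), (X : ℕ[X]) ^ t.1 =
        if i ∈ A then P h else X ^ h * P h := by
      intro i
      split_ifs
      · exact P_small h
      · exact P_big h
    rw [Finset.prod_congr rfl fun i _ => h1 i, Finset.prod_ite, Finset.prod_const,
      Finset.prod_const]
    congr 2
    · congr 1
      ext i
      simp
    · have : (Finset.univ.filter fun i : Fin n => i ∉ A) = Aᶜ := by
        ext i
        simp
      rw [this, Finset.card_compl, Fintype.card_fin]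
  rw [hprod, coeff_prod_eq_card]
  congr 1
  ext e
  simp only [Finset.mem_filter, Finset.mem_univ, true_and, Fintype.mem_piFinset]
  constructor
  · rintro ⟨⟨h1, h2⟩, h3⟩
    refine ⟨fun i => ?_, h2⟩
    by_cases hi : i ∈ A
    · rw [if_pos hi, Ssmall, Finset.mem_filter]
      rw [← h3, Finset.mem_filter] at hi
      exact ⟨Finset.mem_univ _, h1 i, hi.2⟩
    · rw [if_neg hi, Sbig, Finset.mem_filter]
      rw [← h3, Finset.mem_filter] at hi
      exact ⟨Finset.mem_univ _, h1 i, fun hh => hi ⟨Finset.mem_univ _, hh⟩⟩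
  · rintro ⟨h1, h2⟩
    refine ⟨⟨fun i => ?_, h2⟩, ?_⟩
    · have := h1 i
      split_ifs at this with hi
      · rw [Ssmall, Finset.mem_filter] at this; exact this.2.1
      · rw [Sbig, Finset.mem_filter] at this; exact this.2.1
    · ext i
      rw [Finset.mem_filter]
      have := h1 i
      split_ifs at this with hi
      · rw [Ssmall, Finset.mem_filter] at this
        exact ⟨fun _ => hi, fun _ => ⟨Finset.mem_univ _, this.2.2⟩⟩
      · rw [Sbig, Finset.mem_filter] at this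
        exact ⟨fun hh => absurd hh.2 this.2.2, fun hh => absurd hh hi⟩

lemma cardD_eq (h n s D : ℕ) :
    Fintype.card {e : Fin n → Fin (2 * h + 1) // (∀ i, 1 ≤ (e i : ℕ)) ∧ ∑ i, (e i : ℕ) = s ∧
        (Finset.univ.filter fun i => 2 * (e i : ℕ) < 2 * h + 1).card = D} =
      n.choose D * ((P h) ^ D * (X ^ h * P h) ^ (n - D)).coeff s := by
  classical
  rw [Fintype.card_subtype]
  have hmaps : ((Finset.univ.filter fun e : Fin n → Fin (2 * h + 1) =>
      (∀ i, 1 ≤ (e i : ℕ)) ∧ ∑ i, (e i : ℕ) = s ∧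
        (Finset.univ.filter fun i => 2 * (e i : ℕ) < 2 * h + 1).card = D : Finset _) :
          Set (Fin n → Fin (2 * h + 1))).MapsTo
      (fun e => Finset.univ.filter fun i => 2 * (e i : ℕ) < 2 * h + 1)
      (Finset.powersetCard D (Finset.univ : Finset (Fin n))) := by
    intro e he
    rw [Finset.mem_coe, Finset.mem_filter] at he
    rw [Finset.mem_coe, Finset.mem_powersetCard]
    exact ⟨Finset.subset_univ _, he.2.2.2⟩
  rw [Finset.card_eq_sum_card_fiberwise hmaps]
  have hterm : ∀ A ∈ Finset.powersetCard D (Finset.univ : Finset (Fin n)),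
      ((Finset.univ.filter fun e : Fin n → Fin (2 * h + 1) =>
        (∀ i, 1 ≤ (e i : ℕ)) ∧ ∑ i, (e i : ℕ) = s ∧
          (Finset.univ.filter fun i => 2 * (e i : ℕ) < 2 * h + 1).card = D).filter
        fun e => (Finset.univ.filter fun i => 2 * (e i : ℕ) < 2 * h + 1) = A).card =
      ((P h) ^ D * (X ^ h * P h) ^ (n - D)).coeff s := by
    intro A hA
    rw [Finset.mem_powersetCard] at hA
    rw [← hA.2, ← count_fixed h n s A]
    congr 1
    ext e
    simp only [Finset.mem_filter, Finset.mem_univ, true_and]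
    constructor
    · rintro ⟨⟨h1, h2, _⟩, h4⟩
      exact ⟨⟨h1, h2⟩, h4⟩
    · rintro ⟨⟨h1, h2⟩, h4⟩
      exact ⟨⟨h1, h2, by rw [h4]⟩, h4⟩
  rw [Finset.sum_congr rfl hterm, Finset.sum_const, Finset.card_powersetCard, Finset.card_univ,
    Fintype.card_fin, smul_eq_mul]

theorem main' (h q c n s D : ℕ) (hq : q = h + 1) (hc : c = h) :
    Fintype.card {e : Fin n → Fin (2 * h + 1) // (∀ i, 1 ≤ (e i : ℕ)) ∧ ∑ i, (e i : ℕ) = s ∧
        (Finset.univ.filter fun i => 2 * (e i : ℕ) < 2 * h + 1).card = D} =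
      n.choose D * ∑ j ∈ Finset.range (s + 1),
        Fintype.card {e : Fin D → Fin q // (∀ i, 1 ≤ (e i : ℕ)) ∧ ∑ i, (e i : ℕ) = j} *
          Fintype.card {e : Fin (n - D) → Fin q //
            (∀ i, 1 ≤ (e i : ℕ)) ∧ ∑ i, (e i : ℕ) = (s - j - (n - D) * c)} := by
  subst hq hc
  rw [cardD_eq]
  congr 1
  rw [mul_pow, ← pow_mul, coeff_mul, Finset.Nat.sum_antidiagonal_eq_sum_range_succ_mk]
  refine Finset.sum_congr rfl fun j hj => ?_
  rw [Finset.mem_range] at hj
  rw [card_eq_coeff, card_eq_coeff]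
  congr 1
  simp only
  rw [coeff_X_pow_mul']
  split_ifs with hle
  · rw [mul_comm c (n - D)]
  · rw [mul_comm c (n - D)] at hle
    have h0 : s - j - (n - D) * c = 0 := by omega
    have hpos : 0 < n - D := by
      by_contra hcon
      have : n - D = 0 := by omega
      rw [this, zero_mul] at hle
      omega
    rw [h0, coeff_zero_P_pow _ _ hpos]

end Groth.Agent.Lib.Helper26.MonoCount
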