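import Mathlib

set_option maxHeartbeats 400000

namespace Groth.Agent.Lib.Helper26.MonoDecomp

open MvPolynomial Finsupp

universe u

variable {N : ℕ}

lemma le1 (p : Fin N) (μ : Fin N →₀ ℕ) : single p 1 ≤ μ ↔ 1 ≤ μ p := Finsupp.single_le_iff

lemma le2 (p : Fin N) (μ : Fin N →₀ ℕ) : single p 2 ≤ μ ↔ 2 ≤ μ p := Finsupp.single_le_iff

lemma le11 (p q : Fin N) (hpq : p ≠ q) (μ : Fin N →₀ ℕ) :
    single p 1 + single q 1 ≤ μ ↔ 1 ≤ μ p ∧ 1 ≤ μ q := by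
  constructor
  · intro h
    have hp := h p
    have hq := h q
    simp [Finsupp.single_apply, hpq, hpq.symm] at hp hq
    exact ⟨hp, hq⟩
  · rintro ⟨hp, hq⟩ i
    simp only [Finsupp.add_apply, Finsupp.single_apply]
    by_cases h1 : p = i
    · subst h1
      rw [if_pos rfl, if_neg (fun h => hpq h.symm)]
      omega
    · rw [if_neg h1]
      by_cases h2 : q = i
      · subst h2; rw [if_pos rfl]; omega
      · rw [if_neg h2]; omega

lemma le11' (p : Fin N) (μ : Fin N →₀ ℕ) : single p 1 + single p 1 ≤ μ ↔ 2 ≤ μ p := by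
  rw [← Finsupp.single_add]
  exact Finsupp.single_le_iff

variable (n k0 e1 e2 : ℕ)

/-- exponents of the generators of the left-hand side -/
def EI : Set (Fin (n + 1) →₀ ℕ) :=
  {s | (∃ p q : Fin (n + 1), e1 ≤ p.val ∧ p.val ≤ e2 ∧ e1 ≤ q.val ∧ q.val ≤ e2 ∧
        s = single p 1 + single q 1) ∨
      (∃ p q m : Fin (n + 1), e1 ≤ p.val ∧ p.val < q.val ∧ q.val ≤ e2 ∧
        m.val + k0 = n + 1 + q.val ∧ s = single p 1 + single m 1)}

/-- exponents of the generators of the `j`-th component -/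
def EJ (j : Fin (n + 1)) : Set (Fin (n + 1) →₀ ℕ) :=
  {s | (∃ i : Fin (n + 1), e1 ≤ i.val ∧ i.val ≤ e2 ∧ i ≠ j ∧ s = single i 1) ∨
      s = single j 2 ∨
      (∃ q m : Fin (n + 1), j.val < q.val ∧ q.val ≤ e2 ∧ m.val + k0 = n + 1 + q.val ∧
        s = single m 1)}

variable (k : Type u) [Field k]

lemma XX (p q : Fin (n + 1)) :
    (X p * X q : MvPolynomial (Fin (n + 1)) k) = monomial (single p 1 + single q 1) 1 := by
  rw [X, X, monomial_mul, one_mul]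

lemma Xsq (j : Fin (n + 1)) :
    (X j ^ 2 : MvPolynomial (Fin (n + 1)) k) = monomial (single j 2) 1 := by
  rw [X_pow_eq_monomial]

lemma setI :
    ({f : MvPolynomial (Fin (n + 1)) k | ∃ p q : Fin (n + 1), e1 ≤ p.val ∧ p.val ≤ e2 ∧ e1 ≤ q.val ∧ q.val ≤ e2 ∧
        f = MvPolynomial.X p * MvPolynomial.X q} ∪
      {f : MvPolynomial (Fin (n + 1)) k | ∃ p q m : Fin (n + 1), e1 ≤ p.val ∧ p.val < q.val ∧ q.val ≤ e2 ∧
        m.val + k0 = n + 1 + q.val ∧ f = MvPolynomial.X p * MvPolynomial.X m}) =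
    (fun s => monomial s (1 : k)) '' EI n k0 e1 e2 := by
  ext f
  simp only [Set.mem_union, Set.mem_setOf_eq, Set.mem_image, EI]
  constructor
  · rintro (⟨p, q, h1, h2, h3, h4, rfl⟩ | ⟨p, q, m, h1, h2, h3, h4, rfl⟩)
    · exact ⟨_, Or.inl ⟨p, q, h1, h2, h3, h4, rfl⟩, (XX n k p q).symm⟩
    · exact ⟨_, Or.inr ⟨p, q, m, h1, h2, h3, h4, rfl⟩, (XX n k p m).symm⟩
  · rintro ⟨s, (⟨p, q, h1, h2, h3, h4, rfl⟩ | ⟨p, q, m, h1, h2, h3, h4, rfl⟩), rfl⟩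
    · exact Or.inl ⟨p, q, h1, h2, h3, h4, (XX n k p q).symm⟩
    · exact Or.inr ⟨p, q, m, h1, h2, h3, h4, (XX n k p m).symm⟩

lemma setJ (j : Fin (n + 1)) :
    ({f : MvPolynomial (Fin (n + 1)) k | ∃ i : Fin (n + 1), e1 ≤ i.val ∧ i.val ≤ e2 ∧ i ≠ j ∧ f = MvPolynomial.X i} ∪
        {MvPolynomial.X j ^ 2} ∪
        {f : MvPolynomial (Fin (n + 1)) k | ∃ q m : Fin (n + 1), j.val < q.val ∧ q.val ≤ e2 ∧ m.val + k0 = n + 1 + q.val ∧
          f = MvPolynomial.X m}) =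
    (fun s => monomial s (1 : k)) '' EJ n k0 e1 e2 j := by
  ext f
  simp only [Set.mem_union, Set.mem_setOf_eq, Set.mem_image, EJ, Set.mem_singleton_iff]
  constructor
  · rintro ((⟨i, h1, h2, h3, rfl⟩ | rfl) | ⟨q, m, h1, h2, h3, rfl⟩)
    · exact ⟨_, Or.inl ⟨i, h1, h2, h3, rfl⟩, rfl⟩
    · exact ⟨_, Or.inr (Or.inl rfl), (Xsq n k j).symm⟩
    · exact ⟨_, Or.inr (Or.inr ⟨q, m, h1, h2, h3, rfl⟩), rfl⟩
  · rintro ⟨s, (⟨i, h1, h2, h3, rfl⟩ | rfl | ⟨q, m, h1, h2, h3, rfl⟩), rfl⟩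
    · exact Or.inl (Or.inl ⟨i, h1, h2, h3, rfl⟩)
    · exact Or.inl (Or.inr (Xsq n k j).symm)
    · exact Or.inr ⟨q, m, h1, h2, h3, rfl⟩

/-- the combinatorial core -/
lemma comb (hk : 1 ≤ k0) (hn : 2 * k0 ≤ n + 1) (he : e1 ≤ e2) (he2 : e2 + 1 ≤ k0)
    (μ : Fin (n + 1) →₀ ℕ) :
    (∃ s ∈ EI n k0 e1 e2, s ≤ μ) ↔
      ∀ j : Fin (n + 1), e1 ≤ j.val ∧ j.val ≤ e2 → ∃ s ∈ EJ n k0 e1 e2 j, s ≤ μ := by
  constructor
  · rintro ⟨s, hs, hle⟩ j ⟨hj1, hj2⟩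
    rcases hs with ⟨p, q, h1, h2, h3, h4, rfl⟩ | ⟨p, q, m, h1, h2, h3, h4, rfl⟩
    · by_cases hpq : p = q
      · subst hpq
        rw [le11'] at hle
        by_cases hpj : p = j
        · subst hpj
          exact ⟨single p 2, Or.inr (Or.inl rfl), (le2 _ _).mpr hle⟩
        · exact ⟨single p 1, Or.inl ⟨p, h1, h2, hpj, rfl⟩, (le1 _ _).mpr (by omega)⟩
      · rw [le11 p q hpq] at hle
        by_cases hpj : p = j
        · subst hpj
          exact ⟨single q 1, Or.inl ⟨q, h3, h4, fun h => hpq h.symm, rfl⟩, (le1 _ _).mpr hle.2⟩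
        · exact ⟨single p 1, Or.inl ⟨p, h1, h2, hpj, rfl⟩, (le1 _ _).mpr hle.1⟩
    · have hpm : p ≠ m := by
        intro h
        have := congrArg Fin.val h
        omega
      rw [le11 p m hpm] at hle
      by_cases hpj : p = j
      · subst hpj
        exact ⟨single m 1, Or.inr (Or.inr ⟨q, m, h2, h3, h4, rfl⟩), (le1 _ _).mpr hle.2⟩
      · exact ⟨single p 1, Or.inl ⟨p, h1, by omega, hpj, rfl⟩, (le1 _ _).mpr hle.1⟩
  · intro h
    by_cases hex : ∃ p : Fin (n + 1), e1 ≤ p.val ∧ p.val ≤ e2 ∧ 1 ≤ μ p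
    · obtain ⟨p, hp1, hp2, hμp⟩ := hex
      obtain ⟨s, hs, hle⟩ := h p ⟨hp1, hp2⟩
      rcases hs with ⟨i, h1, h2, h3, rfl⟩ | rfl | ⟨q, m, h1, h2, h3, rfl⟩
      · rw [le1] at hle
        exact ⟨single p 1 + single i 1, Or.inl ⟨p, i, hp1, hp2, h1, h2, rfl⟩,
          (le11 p i (fun h => h3 h.symm) μ).mpr ⟨hμp, hle⟩⟩
      · rw [le2] at hle
        exact ⟨single p 1 + single p 1, Or.inl ⟨p, p, hp1, hp2, hp1, hp2, rfl⟩,
          (le11' p μ).mpr hle⟩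
      · rw [le1] at hle
        have hpm : p ≠ m := by
          intro h
          have := congrArg Fin.val h
          omega
        exact ⟨single p 1 + single m 1, Or.inr ⟨p, q, m, hp1, h1, h2, h3, rfl⟩,
          (le11 p m hpm μ).mpr ⟨hμp, hle⟩⟩
    · exfalso
      have hnone : ∀ p : Fin (n + 1), e1 ≤ p.val → p.val ≤ e2 → μ p = 0 := by
        intro p h1 h2
        by_contra hne
        exact hex ⟨p, h1, h2, Nat.one_le_iff_ne_zero.mpr hne⟩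
      have he2lt : e2 < n + 1 := by omega
      obtain ⟨s, hs, hle⟩ := h ⟨e2, he2lt⟩ ⟨he, le_rfl⟩
      rcases hs with ⟨i, h1, h2, h3, rfl⟩ | rfl | ⟨q, m, h1, h2, h3, rfl⟩
      · rw [le1] at hle
        have := hnone i h1 h2
        omega
      · rw [le2] at hle
        have := hnone ⟨e2, he2lt⟩ he le_rfl
        omega
      · simp only at h1
        omega

theorem main (k : Type u) [Field k]
    (n k0 e1 e2 : ℕ) (hk : 1 ≤ k0) (hn : 2 * k0 ≤ n + 1) (he : e1 ≤ e2) (he2 : e2 + 1 ≤ k0) :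
    Ideal.span ({f : MvPolynomial (Fin (n + 1)) k | ∃ p q : Fin (n + 1), e1 ≤ p.val ∧ p.val ≤ e2 ∧ e1 ≤ q.val ∧ q.val ≤ e2 ∧
        f = MvPolynomial.X p * MvPolynomial.X q} ∪
      {f : MvPolynomial (Fin (n + 1)) k | ∃ p q m : Fin (n + 1), e1 ≤ p.val ∧ p.val < q.val ∧ q.val ≤ e2 ∧
        m.val + k0 = n + 1 + q.val ∧ f = MvPolynomial.X p * MvPolynomial.X m}) =
    ⨅ j : Fin (n + 1), ⨅ (_ : e1 ≤ j.val ∧ j.val ≤ e2),
      Ideal.span ({f : MvPolynomial (Fin (n + 1)) k | ∃ i : Fin (n + 1), e1 ≤ i.val ∧ i.val ≤ e2 ∧ i ≠ j ∧ f = MvPolynomial.X i} ∪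
        {MvPolynomial.X j ^ 2} ∪
        {f : MvPolynomial (Fin (n + 1)) k | ∃ q m : Fin (n + 1), j.val < q.val ∧ q.val ≤ e2 ∧ m.val + k0 = n + 1 + q.val ∧
          f = MvPolynomial.X m}) := by
  rw [setI]
  simp_rw [setJ]
  ext f
  rw [mem_ideal_span_monomial_image]
  simp only [Ideal.mem_iInf, mem_ideal_span_monomial_image]
  constructor
  · intro h j hj μ hμ
    exact (comb n k0 e1 e2 hk hn he he2 μ).mp (h μ hμ) j hj
  · intro h μ hμ
    exact (comb n k0 e1 e2 hk hn he he2 μ).mpr (fun j hj => h j hj μ hμ)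

end Groth.Agent.Lib.Helper26.MonoDecomp
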