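import Mathlib
import Groth.Prelude.Def_Flatn

set_option maxHeartbeats 400000

open CategoryTheory AlgebraicGeometry Limits Opposite

namespace Groth.Agent.Lib.Helper26.MorSchSigma

universe u

variable {S Y : Scheme.{u}} {ι : Type u} [Finite ι] (X : ι → Scheme.{u}) (g : ∀ i, X i ⟶ S)
  (T : Over S)

/-- The comparison maps `T ×_S X_i ⟶ T ×_S ∐ X_i`. -/
noncomputable def m (i : ι) : pullback T.hom (g i) ⟶ pullback T.hom (Sigma.desc g) :=
  pullback.map T.hom (g i) T.hom (Sigma.desc g) (𝟙 T.left) (Sigma.ι X i) (𝟙 S)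
          ((Category.comp_id _).trans (Category.id_comp _).symm)
          ((Category.comp_id _).trans (Sigma.ι_desc g i).symm)

@[reassoc]
lemma m_fst (i : ι) : m X g T i ≫ pullback.fst T.hom (Sigma.desc g) = pullback.fst T.hom (g i) :=
  (pullback.lift_fst _ _ _).trans (Category.comp_id _)

@[reassoc]
lemma m_snd (i : ι) : m X g T i ≫ pullback.snd T.hom (Sigma.desc g) =
    pullback.snd T.hom (g i) ≫ Sigma.ι X i :=
  pullback.lift_snd _ _ _

lemma isColimit_m : Nonempty (IsColimit (Cofan.mk (pullback T.hom (Sigma.desc g)) (m X g T))) := by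
  have hau : IsUniversalColimit (Cofan.mk (∐ X) (Sigma.ι X)) :=
    FinitaryPreExtensive.isUniversal_finiteCoproducts (coproductIsCoproduct X)
  refine hau.nonempty_isColimit_of_isPullback_left g (Sigma.desc g) T.hom
    (fun i => pullback.fst T.hom (g i)) (fun i => pullback.snd T.hom (g i))
    (fun i => IsPullback.of_hasPullback _ _) (IsPullback.of_hasPullback T.hom (Sigma.desc g))
    _ (Iso.refl _) ?_ ?_ ?_
  · intro i; simp [Cofan.inj]
  · intro i
    simpa [Cofan.inj] using m_fst X g T i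
  · intro i
    simpa [Cofan.inj] using m_snd X g T i

theorem main (gY : Y ⟶ S) (a : ∀ i, (Flatn.morS (g i) gY).obj (Opposite.op T)) :
    ∃! b : (Flatn.morS (Sigma.desc g) gY).obj (Opposite.op T),
      ∀ i, pullback.map T.hom (g i) T.hom (Sigma.desc g) (𝟙 T.left) (Sigma.ι X i) (𝟙 S)
          ((Category.comp_id _).trans (Category.id_comp _).symm)
          ((Category.comp_id _).trans (Sigma.ι_desc g i).symm) ≫ b.left = (a i).left := by
  obtain ⟨hd⟩ := isColimit_m X g T
  have ha : ∀ i, (a i).left ≫ gY = pullback.snd T.hom (g i) ≫ g i := fun i => Over.w (a i)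
  let bl : pullback T.hom (Sigma.desc g) ⟶ Y := Cofan.IsColimit.desc hd (fun i => (a i).left)
  have hbl : ∀ i, m X g T i ≫ bl = (a i).left := fun i => Cofan.IsColimit.fac hd _ i
  have hw : bl ≫ gY = pullback.snd T.hom (Sigma.desc g) ≫ Sigma.desc g := by
    refine Cofan.IsColimit.hom_ext hd _ _ (fun i => ?_)
    show m X g T i ≫ bl ≫ gY = m X g T i ≫ _
    rw [← Category.assoc, hbl, ha]
    rw [m_snd_assoc, Sigma.ι_desc]
  refine ⟨Over.homMk bl hw, fun i => hbl i, ?_⟩
  intro b' hb'
  apply Over.OverMorphism.ext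
  refine Cofan.IsColimit.hom_ext hd _ _ (fun i => ?_)
  show m X g T i ≫ b'.left = m X g T i ≫ bl
  rw [hbl]
  exact hb' i

end Groth.Agent.Lib.Helper26.MorSchSigma
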