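import Mathlib
set_option maxHeartbeats 400000
namespace Groth.Agent.Lib.Helper26.MovChart

universe u

lemma ring_id {A : Type*} [CommRing A] {d n : ℕ} (t : A) (a c : Fin d → A) (b : Fin n → A)
    (mi : Fin d → ℕ) (mj : Fin n → ℕ) (N : ℕ) (hm : ∑ i, mi i ≤ N) :
    (t ^ (N - ∑ i, mi i) * ∏ x, (t * a x + 0 * c x) ^ mi x) * ∏ x, b x ^ mj x
      = t ^ N * ((∏ x, a x ^ mi x) * ∏ x, b x ^ mj x) := by
  simp only [zero_mul, add_zero, mul_pow]
  rw [Finset.prod_mul_distrib, Finset.prod_pow_eq_pow_sum]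
  conv_rhs => rw [← Nat.sub_add_cancel hm, pow_add]
  ring

lemma final_id {A : Type*} [CommRing A] (X ζ U b : A) (c : ℕ → A) (N s : ℕ) (hs : N ≤ s)
    (hN : 0 < N) :
    (X * ζ) ^ N + ∑ i ∈ Finset.Icc 1 N,
        (c i * X ^ i - (if i = N then b * U ^ (s - N) else 0)) * (X * ζ) ^ (N - i) * U ^ i
      = X ^ N * (ζ ^ N + ∑ i ∈ Finset.Icc 1 N, c i * ζ ^ (N - i) * U ^ i) - b * U ^ s := by
  have key : X ^ N * (ζ ^ N + ∑ i ∈ Finset.Icc 1 N, c i * ζ ^ (N - i) * U ^ i)
      = (X * ζ) ^ N + ∑ i ∈ Finset.Icc 1 N, c i * X ^ i * (X * ζ) ^ (N - i) * U ^ i := by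
    have hsum : ∀ i ∈ Finset.Icc 1 N, X ^ N * (c i * ζ ^ (N - i) * U ^ i)
        = c i * X ^ i * (X * ζ) ^ (N - i) * U ^ i := by
      intro i hi
      have hiN : i ≤ N := (Finset.mem_Icc.mp hi).2
      have e : X ^ N = X ^ (N - i) * X ^ i := by rw [← pow_add, Nat.sub_add_cancel hiN]
      rw [e, mul_pow]
      ring
    rw [mul_add, Finset.mul_sum, Finset.sum_congr rfl hsum, mul_pow]
  rw [key]
  simp only [sub_mul, Finset.sum_sub_distrib, ite_mul, zero_mul]
  rw [Finset.sum_ite_eq' (Finset.Icc 1 N) N, if_pos (Finset.mem_Icc.mpr ⟨hN, le_refl _⟩)]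
  rw [Nat.sub_self, pow_zero, mul_one, mul_assoc, ← pow_add, Nat.sub_add_cancel hs]
  ring

variable {k : Type u} [CommRing k] {d n : ℕ}

/-- per-monomial congruence -/
lemma mono_congr (W : MvPolynomial (Fin d ⊕ Fin n) k) (v : Fin d → k) (N : ℕ)
    (m : (Fin d ⊕ Fin n) →₀ ℕ) (hm : ∑ i : Fin d, m (Sum.inl i) ≤ N) :
    (Polynomial.X : Polynomial (MvPolynomial (Fin d ⊕ Fin n) k)) ^ (N - ∑ i : Fin d, m (Sum.inl i)) *
      (∏ i : Fin d, (Polynomial.X * Polynomial.C (MvPolynomial.X (Sum.inl i)) +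
                Polynomial.C (W * MvPolynomial.C (v i))) ^ m (Sum.inl i)) *
      ∏ j : Fin n, Polynomial.C (MvPolynomial.X (Sum.inr j)) ^ m (Sum.inr j)
    - Polynomial.X ^ N * Polynomial.C ((∏ i : Fin d, MvPolynomial.X (Sum.inl i) ^ m (Sum.inl i)) *
        ∏ j : Fin n, MvPolynomial.X (Sum.inr j) ^ m (Sum.inr j))
    ∈ Ideal.span {(Polynomial.C W : Polynomial (MvPolynomial (Fin d ⊕ Fin n) k))} := by
  rw [← Ideal.Quotient.eq]
  have hW : Ideal.Quotient.mk (Ideal.span {(Polynomial.C W :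
      Polynomial (MvPolynomial (Fin d ⊕ Fin n) k))}) (Polynomial.C W) = 0 :=
    Ideal.Quotient.eq_zero_iff_mem.mpr (Ideal.subset_span (Set.mem_singleton _))
  simp only [map_mul, map_pow]
  simp only [map_prod]
  simp only [map_mul, map_pow, map_add]
  rw [hW]
  exact ring_id (A := Polynomial (MvPolynomial (Fin d ⊕ Fin n) k) ⧸
    Ideal.span {(Polynomial.C W : Polynomial (MvPolynomial (Fin d ⊕ Fin n) k))}) _ _ _ _ (fun i => m (Sum.inl i)) (fun j => m (Sum.inr j)) N hm


lemma monomial_split (m : (Fin d ⊕ Fin n) →₀ ℕ) (a : k) :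
    MvPolynomial.monomial m a = MvPolynomial.C a *
      ((∏ i : Fin d, MvPolynomial.X (Sum.inl i) ^ m (Sum.inl i)) *
        ∏ j : Fin n, MvPolynomial.X (Sum.inr j) ^ m (Sum.inr j)) := by
  rw [MvPolynomial.monomial_eq, Finsupp.prod_fintype _ _ (fun i => pow_zero _),
    Fintype.prod_sum_type]

lemma CXN_eq (N : ℕ) (f : MvPolynomial (Fin d ⊕ Fin n) k) :
    (Polynomial.X : Polynomial (MvPolynomial (Fin d ⊕ Fin n) k)) ^ N * Polynomial.C f
      = ∑ m ∈ f.support, Polynomial.C (MvPolynomial.C (MvPolynomial.coeff m f)) *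
        (Polynomial.X ^ N * Polynomial.C
          ((∏ i : Fin d, MvPolynomial.X (Sum.inl i) ^ m (Sum.inl i)) *
            ∏ j : Fin n, MvPolynomial.X (Sum.inr j) ^ m (Sum.inr j))) := by
  conv_lhs => rw [f.as_sum]
  rw [map_sum, Finset.mul_sum]
  refine Finset.sum_congr rfl fun m _ => ?_
  rw [monomial_split, map_mul]
  ring

lemma phi_congr (W : MvPolynomial (Fin d ⊕ Fin n) k) (v : Fin d → k) (N : ℕ)
    (f : MvPolynomial (Fin d ⊕ Fin n) k)
    (hdeg : ∀ m ∈ f.support, ∑ i : Fin d, m (Sum.inl i) ≤ N) :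
    (∑ m ∈ f.support,
          Polynomial.C (MvPolynomial.C (MvPolynomial.coeff m f)) *
            Polynomial.X ^ (N - ∑ i : Fin d, m (Sum.inl i)) *
            (∏ i : Fin d, (Polynomial.X * Polynomial.C (MvPolynomial.X (Sum.inl i)) +
                Polynomial.C (W * MvPolynomial.C (v i))) ^ m (Sum.inl i)) *
            ∏ j : Fin n, Polynomial.C (MvPolynomial.X (Sum.inr j)) ^ m (Sum.inr j))
      - Polynomial.X ^ N * Polynomial.C f
      ∈ Ideal.span {(Polynomial.C W : Polynomial (MvPolynomial (Fin d ⊕ Fin n) k))} := by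
  rw [CXN_eq, ← Finset.sum_sub_distrib]
  refine Ideal.sum_mem _ fun m hm => ?_
  have := Ideal.mul_mem_left _ (Polynomial.C (MvPolynomial.C (MvPolynomial.coeff m f)))
    (mono_congr W v N m (hdeg m hm))
  convert this using 1
  ring

/-- when `N = 0` the translate is exactly `C f`. -/
lemma phi_zero (W : MvPolynomial (Fin d ⊕ Fin n) k) (v : Fin d → k)
    (f : MvPolynomial (Fin d ⊕ Fin n) k)
    (hdeg : ∀ m ∈ f.support, ∑ i : Fin d, m (Sum.inl i) ≤ 0) :
    (∑ m ∈ f.support,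
          Polynomial.C (MvPolynomial.C (MvPolynomial.coeff m f)) *
            Polynomial.X ^ (0 - ∑ i : Fin d, m (Sum.inl i)) *
            (∏ i : Fin d, (Polynomial.X * Polynomial.C (MvPolynomial.X (Sum.inl i)) +
                Polynomial.C (W * MvPolynomial.C (v i))) ^ m (Sum.inl i)) *
            ∏ j : Fin n, Polynomial.C (MvPolynomial.X (Sum.inr j)) ^ m (Sum.inr j))
      = Polynomial.C f := by
  have h := CXN_eq 0 f
  rw [pow_zero, one_mul] at h
  rw [h]
  refine Finset.sum_congr rfl fun m hm => ?_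
  have h0 : ∀ i : Fin d, m (Sum.inl i) = 0 := by
    intro i
    have := hdeg m hm
    have h2 : m (Sum.inl i) ≤ ∑ i : Fin d, m (Sum.inl i) :=
      Finset.single_le_sum (f := fun i : Fin d => m (Sum.inl i)) (fun _ _ => Nat.zero_le _)
        (Finset.mem_univ i)
    omega
  simp only [h0, pow_zero, Finset.prod_const_one, Finset.sum_const_zero, Nat.sub_zero, mul_one,
    one_mul, map_prod, map_pow]


theorem main
    {k : Type u} [CommRing k] (d n : ℕ) (u : MvPolynomial (Fin d) k) (v : Fin d → k)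
    (J : Finset (Fin n)) (N s : ℕ) (hs : N ≤ s)
    {Λ : Type u} [Fintype Λ] (f : Λ → MvPolynomial (Fin d ⊕ Fin n) k)
    (hdeg : ∀ l, ∀ m ∈ (f l).support, ∑ i : Fin d, m (Sum.inl i) ≤ N)
    (c : ℕ → MvPolynomial (Fin d ⊕ Fin n) k)
    (hE : (∏ j ∈ J, MvPolynomial.X (Sum.inr j)) ^ N +
        ∑ i ∈ Finset.Icc 1 N, c i * (∏ j ∈ J, MvPolynomial.X (Sum.inr j)) ^ (N - i) *
          MvPolynomial.rename Sum.inl u ^ i ∈ Ideal.span (Set.range f)) :
    ∃ c' : ℕ → Polynomial (MvPolynomial (Fin d ⊕ Fin n) k),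
      (Polynomial.X * Polynomial.C (∏ j ∈ J, MvPolynomial.X (Sum.inr j))) ^ N +
        ∑ i ∈ Finset.Icc 1 N, c' i *
          (Polynomial.X * Polynomial.C (∏ j ∈ J, MvPolynomial.X (Sum.inr j))) ^ (N - i) *
            Polynomial.C (MvPolynomial.rename Sum.inl u) ^ i ∈
      Ideal.span (Set.range fun l : Λ =>
        ∑ m ∈ (f l).support,
          Polynomial.C (MvPolynomial.C (MvPolynomial.coeff m (f l))) *
            Polynomial.X ^ (N - ∑ i : Fin d, m (Sum.inl i)) *
            (∏ i : Fin d, (Polynomial.X * Polynomial.C (MvPolynomial.X (Sum.inl i)) +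
                Polynomial.C (MvPolynomial.rename Sum.inl u ^ s * MvPolynomial.C (v i))) ^ m (Sum.inl i)) *
            ∏ j : Fin n, Polynomial.C (MvPolynomial.X (Sum.inr j)) ^ m (Sum.inr j)) := by
  obtain ⟨U, hU⟩ : ∃ U, U = MvPolynomial.rename (Sum.inl : Fin d → Fin d ⊕ Fin n) u := ⟨_, rfl⟩
  obtain ⟨ζ, hζ⟩ : ∃ ζ : MvPolynomial (Fin d ⊕ Fin n) k,
    ζ = ∏ j ∈ J, MvPolynomial.X (Sum.inr j) := ⟨_, rfl⟩
  rw [← hU, ← hζ] at hE
  simp only [← hU, ← hζ]
  obtain ⟨φ, hφ⟩ : ∃ φ : Λ → Polynomial (MvPolynomial (Fin d ⊕ Fin n) k), φ = fun l : Λ =>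
        ∑ m ∈ (f l).support,
          Polynomial.C (MvPolynomial.C (MvPolynomial.coeff m (f l))) *
            Polynomial.X ^ (N - ∑ i : Fin d, m (Sum.inl i)) *
            (∏ i : Fin d, (Polynomial.X * Polynomial.C (MvPolynomial.X (Sum.inl i)) +
                Polynomial.C (U ^ s * MvPolynomial.C (v i))) ^ m (Sum.inl i)) *
            ∏ j : Fin n, Polynomial.C (MvPolynomial.X (Sum.inr j)) ^ m (Sum.inr j) := ⟨_, rfl⟩
  rw [← hφ]
  rcases Nat.eq_zero_or_pos N with hN0 | hNpos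
  · -- N = 0
    subst hN0
    refine ⟨fun _ => 0, ?_⟩
    have hφ0 : ∀ l, φ l = Polynomial.C (f l) := by
      intro l
      rw [hφ]
      exact phi_zero (U ^ s) v (f l) (hdeg l)
    have h3 : ∀ p ∈ Ideal.span (Set.range f),
        (Polynomial.C p : Polynomial (MvPolynomial (Fin d ⊕ Fin n) k)) ∈
          Ideal.span (Set.range φ) := by
      intro p hp
      refine Submodule.span_induction ?_ ?_ ?_ ?_ hp
      · rintro _ ⟨l, rfl⟩
        rw [← hφ0 l]
        exact Ideal.subset_span ⟨l, rfl⟩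
      · simp
      · intro x y _ _ hx hy
        rw [map_add]
        exact Ideal.add_mem _ hx hy
      · intro a x _ hx
        rw [smul_eq_mul, map_mul]
        exact Ideal.mul_mem_left _ _ hx
    have h4 := h3 _ hE
    simpa using h4
  · -- N ≥ 1
    set K : Ideal (Polynomial (MvPolynomial (Fin d ⊕ Fin n) k)) :=
      Ideal.span (Set.range φ) ⊔ Ideal.span {Polynomial.C (U ^ s)} with hK
    have h1 : ∀ l, Polynomial.X ^ N * Polynomial.C (f l) ∈ K := by
      intro l
      have h2 := phi_congr (U ^ s) v N (f l) (hdeg l)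
      have h2' : φ l - Polynomial.X ^ N * Polynomial.C (f l) ∈
          Ideal.span {(Polynomial.C (U ^ s) : Polynomial (MvPolynomial (Fin d ⊕ Fin n) k))} := by
        rw [hφ]; exact h2
      have h5 : φ l ∈ Ideal.span (Set.range φ) := Ideal.subset_span ⟨l, rfl⟩
      have h6 : Polynomial.X ^ N * Polynomial.C (f l)
          = φ l - (φ l - Polynomial.X ^ N * Polynomial.C (f l)) := by ring
      rw [h6]
      exact Ideal.sub_mem _ (Ideal.mem_sup_left h5) (Ideal.mem_sup_right h2')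
    have h3 : ∀ p ∈ Ideal.span (Set.range f),
        (Polynomial.X ^ N * Polynomial.C p : Polynomial (MvPolynomial (Fin d ⊕ Fin n) k)) ∈ K := by
      intro p hp
      refine Submodule.span_induction ?_ ?_ ?_ ?_ hp
      · rintro _ ⟨l, rfl⟩
        exact h1 l
      · simp
      · intro x y _ _ hx hy
        rw [map_add, mul_add]
        exact Ideal.add_mem _ hx hy
      · intro a x _ hx
        rw [smul_eq_mul, map_mul, mul_left_comm]
        exact Ideal.mul_mem_left _ _ hx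
    have h4 := h3 _ hE
    obtain ⟨y, hy, z, hz, hyz⟩ := Submodule.mem_sup.mp h4
    obtain ⟨b, rfl⟩ := Ideal.mem_span_singleton'.mp hz
    refine ⟨fun i => Polynomial.C (c i) * Polynomial.X ^ i -
      (if i = N then b * Polynomial.C U ^ (s - N) else 0), ?_⟩
    have hy' : y = Polynomial.X ^ N * (Polynomial.C ζ ^ N + ∑ i ∈ Finset.Icc 1 N,
        Polynomial.C (c i) * Polynomial.C ζ ^ (N - i) * Polynomial.C U ^ i)
          - b * Polynomial.C U ^ s := by
      have e : (Polynomial.C (ζ ^ N + ∑ i ∈ Finset.Icc 1 N, c i * ζ ^ (N - i) * U ^ i) :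
          Polynomial (MvPolynomial (Fin d ⊕ Fin n) k))
          = Polynomial.C ζ ^ N + ∑ i ∈ Finset.Icc 1 N,
            Polynomial.C (c i) * Polynomial.C ζ ^ (N - i) * Polynomial.C U ^ i := by
        rw [map_add, map_sum, map_pow]
        refine congrArg₂ (· + ·) rfl (Finset.sum_congr rfl fun i _ => ?_)
        rw [map_mul, map_mul, map_pow, map_pow]
      rw [← e, ← hyz, map_pow]
      ring
    have hfin := final_id (Polynomial.X : Polynomial (MvPolynomial (Fin d ⊕ Fin n) k))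
      (Polynomial.C ζ) (Polynomial.C U) b (fun i => Polynomial.C (c i)) N s hs hNpos
    rw [← hy'] at hfin
    rw [hfin]
    exact hy

end Groth.Agent.Lib.Helper26.MovChart
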