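import Mathlib
import Groth.Prelude.Def_Found

set_option maxHeartbeats 800000
set_option autoImplicit false

namespace Groth.Agent.Lib.Helper26.N1Laurent

open Polynomial Function

universe u

theorem main (R : Type u) [CommRing R] [IsDomain R] [IsNoetherianRing R]
    (S : Type u) [CommRing S] [IsDomain S] [Algebra (Polynomial R) S]
    [IsLocalization.Away (Polynomial.X : Polynomial R) S] (h : CAlg.IsN1 S) : CAlg.IsN1 R := by
  classical
  unfold CAlg.IsN1 at h ⊢
  -- maps
  have hXS : Submonoid.powers (X : R[X]) ≤ nonZeroDivisors R[X] :=
    powers_le_nonZeroDivisors_of_noZeroDivisors X_ne_zero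
  have inj1 : Injective (algebraMap R[X] S) := IsLocalization.injective S hXS
  have inj2 : Injective (algebraMap S (FractionRing S)) := IsFractionRing.injective S _
  let g : R[X] →+* FractionRing S := (algebraMap S (FractionRing S)).comp (algebraMap R[X] S)
  have hg : Injective g := inj2.comp inj1
  let j : R →+* FractionRing S := g.comp C
  have hj : Injective j := hg.comp C_injective
  let ι : FractionRing R →+* FractionRing S := IsFractionRing.lift hj
  have hι : ∀ r, ι (algebraMap R (FractionRing R) r) = j r := IsFractionRing.lift_algebraMap hj
  have hιinj : Injective ι := ι.injective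
  -- Noetherian
  haveI : IsNoetherianRing S :=
    IsLocalization.isNoetherianRing (Submonoid.powers (X : R[X])) S inferInstance
  haveI := h
  have hNoeth : IsNoetherian S (Subalgebra.toSubmodule (integralClosure S (FractionRing S))) :=
    isNoetherian_of_isNoetherianRing_of_finite S (integralClosure S (FractionRing S))
  -- the S-span of ι(R')
  have hN : Submodule.span S (ι '' (integralClosure R (FractionRing R) : Set (FractionRing R))) ≤
      Subalgebra.toSubmodule (integralClosure S (FractionRing S)) := by
    rw [Submodule.span_le]
    rintro _ ⟨r', hr', rfl⟩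
    refine IsIntegral.map_of_comp_eq ((algebraMap R[X] S).comp C) ι ?_ hr'
    ext r
    simp only [RingHom.comp_apply, hι]
    rfl
  have hNfg := (isNoetherian_submodule.mp hNoeth) _ hN
  obtain ⟨T, hTsub, hT⟩ := (Submodule.fg_span_iff_fg_span_finset_subset _).mp hNfg
  obtain ⟨G, hGsub, rfl⟩ := Finset.subset_set_image_iff.mp hTsub
  -- main claim
  have key : Subalgebra.toSubmodule (integralClosure R (FractionRing R)) ≤
      Submodule.span R (G : Set (FractionRing R)) := by
    intro r' hr'
    have h1 : ι r' ∈ Submodule.span S ((G.image ι : Finset (FractionRing S)) : Set (FractionRing S)) := by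
      rw [← hT]
      exact Submodule.subset_span ⟨r', hr', rfl⟩
    obtain ⟨c, -, hc⟩ := Submodule.mem_span_finset.mp h1
    rw [Finset.sum_image (fun a _ b _ hab => hιinj hab)] at hc
    -- denominators in S
    obtain ⟨b, hb⟩ := IsLocalization.exist_integer_multiples (Submonoid.powers (X : R[X])) G
      (fun k => c (ι k))
    choose! p hp using hb
    obtain ⟨e, he⟩ := b.2
    have he' : (b : R[X]) = X ^ e := he.symm
    -- denominators in K
    obtain ⟨d, hd⟩ := IsLocalization.exist_integer_multiples (nonZeroDivisors R) (insert r' G)
      (id : FractionRing R → FractionRing R)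
    choose! a ha using hd
    have hd0 : (d : R) ≠ 0 := nonZeroDivisors.ne_zero d.2
    -- the polynomial identity
    have hpoly : (X : R[X]) ^ e * C (a r') = ∑ k ∈ G, p k * C (a k) := by
      apply hg
      rw [map_mul, map_sum]
      have e1 : g (C (a r')) = j (d : R) * ι r' := by
        change j (a r') = _
        rw [← hι (a r'), ha r' (Finset.mem_insert_self _ _), id, Algebra.smul_def, map_mul, hι]
      have e2 : ∀ k ∈ G, g (p k * C (a k)) = g (X ^ e) * (j (d : R) * (c (ι k) • ι k)) := by
        intro k hk
        rw [map_mul]
        have e3 : g (C (a k)) = j (d : R) * ι k := by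
          change j (a k) = _
          rw [← hι (a k), ha k (Finset.mem_insert_of_mem hk), id, Algebra.smul_def, map_mul, hι]
        have e4 : g (p k) = g (X ^ e) * algebraMap S (FractionRing S) (c (ι k)) := by
          change algebraMap S (FractionRing S) (algebraMap R[X] S (p k)) = _
          rw [hp k hk, he', Algebra.smul_def, map_mul]
          rfl
        rw [e3, e4, Algebra.smul_def]
        ring
      rw [Finset.sum_congr rfl e2, ← Finset.mul_sum, ← Finset.mul_sum, hc, e1]
    -- compare coefficients of X^e
    have hcoeff : a r' = ∑ k ∈ G, (p k).coeff e * a k := by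
      have := congrArg (fun q : R[X] => q.coeff e) hpoly
      simp only [Polynomial.finset_sum_coeff, Polynomial.coeff_mul_C] at this
      rw [Polynomial.coeff_X_pow_self, one_mul] at this
      exact this
    -- divide by d
    have hfinal : r' = ∑ k ∈ G, (p k).coeff e • k := by
      have hdK : algebraMap R (FractionRing R) (d : R) ≠ 0 := by
        rw [Ne, map_eq_zero_iff _ (IsFractionRing.injective R (FractionRing R))]
        exact hd0
      apply mul_left_cancel₀ hdK
      have e5 := congrArg (algebraMap R (FractionRing R)) hcoeff
      rw [ha r' (Finset.mem_insert_self _ _), id, Algebra.smul_def, map_sum] at e5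
      rw [e5, Finset.mul_sum]
      refine Finset.sum_congr rfl (fun k hk => ?_)
      rw [map_mul, ha k (Finset.mem_insert_of_mem hk), id, Algebra.smul_def, Algebra.smul_def]
      ring
    rw [hfinal]
    exact Submodule.sum_mem _ (fun k hk => Submodule.smul_mem _ _ (Submodule.subset_span hk))
  have hle : Submodule.span R (G : Set (FractionRing R)) ≤
      Subalgebra.toSubmodule (integralClosure R (FractionRing R)) :=
    Submodule.span_le.mpr hGsub
  have heq := le_antisymm key hle
  have hfg : (Subalgebra.toSubmodule (integralClosure R (FractionRing R))).FG := by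
    rw [heq]; exact Submodule.fg_span (Finset.finite_toSet G)
  exact (Module.Finite.iff_fg (N := Subalgebra.toSubmodule (integralClosure R (FractionRing R)))).mpr hfg

end Groth.Agent.Lib.Helper26.N1Laurent
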