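import Mathlib
import Groth.Prelude.Def_CInt
import Groth.Agent.Lib.Helper7.SchDense

set_option maxHeartbeats 400000
set_option autoImplicit false
set_option linter.unusedVariables false
set_option linter.style.longLine false
set_option linter.unusedSectionVars false
set_option linter.style.haveILetI false

universe u
open CategoryTheory AlgebraicGeometry Limits KaehlerDifferential

namespace Groth.Agent.Lib.Helper26.NE1

/-- ring-level: a free module whose localization away from a non-nilpotent `g` vanishes is zero -/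
theorem subsingleton_of_localization {B : Type*} [CommRing B] {M M' : Type*} [AddCommGroup M]
    [Module B M] [Module.Free B M] [AddCommGroup M'] [Module B M'] (g : B) (hg : ¬ IsNilpotent g)
    (l : M →ₗ[B] M') [IsLocalizedModule (Submonoid.powers g) l] [Subsingleton M'] :
    Subsingleton M := by
  classical
  let b := Module.Free.chooseBasis B M
  by_contra hns
  rw [not_subsingleton_iff_nontrivial] at hns
  have hne : Nonempty (Module.Free.ChooseBasisIndex B M) := by
    by_contra hemp
    rw [not_nonempty_iff] at hemp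
    haveI : Subsingleton M := b.repr.toEquiv.subsingleton
    exact false_of_nontrivial_of_subsingleton M
  obtain ⟨i⟩ := hne
  have h0 : l (b i) = 0 := Subsingleton.elim _ _
  obtain ⟨⟨c, k, rfl⟩, hc⟩ := (IsLocalizedModule.eq_zero_iff (Submonoid.powers g) l).mp h0
  have hc' : g ^ k • b i = 0 := hc
  have h1 : b.repr (g ^ k • b i) i = g ^ k := by
    rw [map_smul, b.repr_self]
    simp
  rw [hc', map_zero] at h1
  exact hg ⟨k, by simpa using h1.symm⟩

set_option backward.isDefEq.respectTransparency false in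
/-- A smooth morphism to a locally Noetherian scheme which is étale over a schematically dense
open is étale. -/
theorem etale_of_smooth_of_etale_on_dense {S N : Scheme.{u}} [IsLocallyNoetherian S] (f : N ⟶ S)
    [Smooth f] (S₀ : S.Opens) (hS₀ : CInt.IsSchematicallyDense S₀)
    (h₀ : Etale (pullback.snd f S₀.ι)) : Etale f := by
  -- `f` is étale over `S₀`
  have hres : Etale (f ∣_ S₀) := by
    delta morphismRestrict
    infer_instance
  have hι : Etale ((f ⁻¹ᵁ S₀).ι ≫ f) := by
    rw [← morphismRestrict_ι]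
    infer_instance
  have hdense : CInt.IsSchematicallyDense (f ⁻¹ᵁ S₀) :=
    Groth.Agent.Lib.Helper7.SchDense.isSchematicallyDense_preimage_of_flat f S₀ hS₀
  rw [Etale.iff_smoothOfRelativeDimension_zero]
  constructor
  intro x
  obtain ⟨U, hU, V, hV, hxV, e, hstd⟩ := Smooth.exists_isStandardSmooth f x
  refine ⟨U, hU, V, hV, hxV, e, ?_⟩
  letI algAB : Algebra Γ(S, U) Γ(N, V) := (f.appLE U V e).hom.toAlgebra
  haveI hstd' : Algebra.IsStandardSmooth Γ(S, U) Γ(N, V) := hstd
  haveI : Nonempty V := ⟨⟨x, hxV⟩⟩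
  haveI : Nontrivial Γ(N, V) := Scheme.component_nontrivial N V
  -- a point of `V` over `S₀`
  have hne : ∃ y, y ∈ V ⊓ f ⁻¹ᵁ S₀ := by
    by_contra hcon
    push Not at hcon
    have hbot : V ⊓ f ⁻¹ᵁ S₀ = ⊥ := by
      ext y
      simp only [TopologicalSpace.Opens.coe_bot, Set.mem_empty_iff_false, iff_false]
      exact hcon y
    have hinj := hdense V
    have : (1 : Γ(N, V)) = 0 := by
      apply hinj
      haveI : Subsingleton Γ(N, V ⊓ f ⁻¹ᵁ S₀) := by
        rw [hbot]
        infer_instance
      exact Subsingleton.elim _ _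
    exact one_ne_zero this
  obtain ⟨y, hyV, hyS⟩ := hne
  obtain ⟨g, hgle, hyg⟩ := hV.exists_basicOpen_le (V := V ⊓ f ⁻¹ᵁ S₀) ⟨y, ⟨hyV, hyS⟩⟩ hyV
  have hWV : N.basicOpen g ≤ V := N.basicOpen_le g
  have hWS : N.basicOpen g ≤ f ⁻¹ᵁ S₀ := hgle.trans inf_le_right
  have hW : IsAffineOpen (N.basicOpen g) := hV.basicOpen g
  have e' : N.basicOpen g ≤ f ⁻¹ᵁ U := hWV.trans e
  -- `f` is étale on `W`
  have hWι : Etale ((N.basicOpen g).ι ≫ f) := by
    rw [← Scheme.homOfLE_ι N hWS, Category.assoc]
    infer_instance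
  have hresW : Etale (f.resLE U (N.basicOpen g) e') := by
    haveI : Etale (f.resLE U (N.basicOpen g) e' ≫ U.ι) := by
      rw [Scheme.Hom.resLE_comp_ι]
      exact hWι
    exact Etale.of_comp (f.resLE U (N.basicOpen g) e') U.ι
  have hWet : (f.appLE U (N.basicOpen g) e').hom.Etale := by
    haveI : IsAffine (N.basicOpen g).toScheme := hW
    haveI : IsAffine U.toScheme := hU
    have h1 := (HasRingHomProperty.iff_of_isAffine (P := @Etale)).mp hresW
    exact (RingHom.Etale.propertyIsLocal.respectsIso.arrow_mk_iso_iff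
      (arrowResLEAppIso f U (N.basicOpen g) e')).mp h1
  letI algAC : Algebra Γ(S, U) Γ(N, N.basicOpen g) := (f.appLE U (N.basicOpen g) e').hom.toAlgebra
  haveI : IsLocalization.Away g Γ(N, N.basicOpen g) := hV.isLocalization_basicOpen g
  haveI : IsScalarTower Γ(S, U) Γ(N, V) Γ(N, N.basicOpen g) := by
    apply IsScalarTower.of_algebraMap_eq'
    have := f.appLE_map e (homOfLE hWV).op
    exact congrArg (fun t => t.hom) this.symm
  haveI : Algebra.Etale Γ(S, U) Γ(N, N.basicOpen g) := RingHom.etale_algebraMap.mp hWet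
  haveI : Subsingleton Ω[Γ(N, N.basicOpen g)⁄Γ(S, U)] := inferInstance
  have hgn : ¬ IsNilpotent g := by
    rintro ⟨k, hk⟩
    have h1 : N.basicOpen (g ^ k) = N.basicOpen g ∨ k = 0 := by
      rcases Nat.eq_zero_or_pos k with h | h
      · exact Or.inr h
      · exact Or.inl (N.basicOpen_pow g h)
    rcases h1 with h1 | h1
    · rw [hk, Scheme.basicOpen_zero] at h1
      rw [← h1] at hyg
      exact hyg
    · subst h1
      rw [pow_zero] at hk
      exact one_ne_zero hk
  haveI : Subsingleton Ω[Γ(N, V)⁄Γ(S, U)] :=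
    subsingleton_of_localization g hgn
      (KaehlerDifferential.map Γ(S, U) Γ(S, U) Γ(N, V) Γ(N, N.basicOpen g))
  have hrank : Module.rank Γ(N, V) Ω[Γ(N, V)⁄Γ(S, U)] = ((0 : ℕ) : Cardinal) := by
    rw [Nat.cast_zero]
    exact rank_subsingleton' _ _
  exact (Algebra.IsStandardSmoothOfRelativeDimension.iff_of_isStandardSmooth 0).mpr hrank

end Groth.Agent.Lib.Helper26.NE1
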