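import Mathlib
import Groth.Prelude.Def_CInt
import Groth.Agent.Lib.Helper26.NE1

set_option maxHeartbeats 400000
set_option autoImplicit false
set_option linter.unusedVariables false
set_option linter.style.longLine false
set_option linter.unusedSectionVars false
set_option linter.style.haveILetI false

universe u
open CategoryTheory AlgebraicGeometry Limits

namespace Groth.Agent.Lib.Helper26.NE2

open Groth.Agent.Lib.Helper26

/-- a flat scheme over a locally Noetherian base with empty preimage of a schematically dense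
open is empty -/
theorem isEmpty_of_flat_of_preimage_eq_bot {S C : Scheme.{u}} [IsLocallyNoetherian S] (S₀ : S.Opens)
    (hS₀ : CInt.IsSchematicallyDense S₀) (p : C ⟶ S) [Flat p] (h : p ⁻¹ᵁ S₀ = ⊥) : IsEmpty C := by
  have hdense : CInt.IsSchematicallyDense (p ⁻¹ᵁ S₀) :=
    Groth.Agent.Lib.Helper7.SchDense.isSchematicallyDense_preimage_of_flat p S₀ hS₀
  by_contra hne
  rw [not_isEmpty_iff] at hne
  obtain ⟨c⟩ := hne
  haveI : Nonempty (⊤ : C.Opens) := ⟨⟨c, trivial⟩⟩
  haveI : Nontrivial Γ(C, ⊤) := Scheme.component_nontrivial C ⊤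
  have hinj := hdense ⊤
  have : (1 : Γ(C, ⊤)) = 0 := by
    apply hinj
    haveI : Subsingleton Γ(C, ⊤ ⊓ p ⁻¹ᵁ S₀) := by
      rw [h, inf_bot_eq]
      infer_instance
    exact Subsingleton.elim _ _
  exact one_ne_zero this

set_option backward.isDefEq.respectTransparency false in
/-- An étale `S`-morphism from a separated étale `S`-scheme which is "injective on points over
`S₀`" (in the functorial sense) is a monomorphism, when `S₀` is schematically dense. -/
theorem mono_of_etale {S : Scheme.{u}} [IsLocallyNoetherian S] (S₀ : S.Opens)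
    (hS₀ : CInt.IsSchematicallyDense S₀) {M N : Scheme.{u}} (m : M ⟶ S) [Etale m] [IsSeparated m]
    (n : N ⟶ S) (φ : M ⟶ N) (hφ : φ ≫ n = m) [Etale φ]
    (hmono₀ : ∀ (K : Scheme.{u}) (x₁ x₂ : K ⟶ M), Set.range (x₁ ≫ m) ⊆ (S₀ : Set S) →
      x₁ ≫ φ = x₂ ≫ φ → x₁ = x₂) : Mono φ := by
  haveI : IsSeparated φ := by
    haveI : IsSeparated (φ ≫ n) := by rw [hφ]; infer_instance
    exact IsSeparated.of_comp φ n
  rw [← pullback.isIso_diagonal_iff]
  haveI : IsOpenImmersion (pullback.diagonal φ) := inferInstance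
  haveI : IsClosedImmersion (pullback.diagonal φ) := inferInstance
  rw [isIso_iff_isOpenImmersion_and_surjective]
  refine ⟨inferInstance, ⟨fun c => ?_⟩⟩
  by_contra hc
  let C : (pullback φ φ).Opens :=
    ⟨(Set.range (pullback.diagonal φ))ᶜ,
      (pullback.diagonal φ).isClosedEmbedding.isClosed_range.isOpen_compl⟩
  let p : C.toScheme ⟶ S := C.ι ≫ pullback.fst φ φ ≫ m
  haveI : Flat p := inferInstance
  have hbot : p ⁻¹ᵁ S₀ = ⊥ := by
    ext c'
    simp only [TopologicalSpace.Opens.coe_bot, Set.mem_empty_iff_false, iff_false]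
    intro hc'
    have hc'S : p c' ∈ S₀ := hc'
    let x : Spec (C.toScheme.residueField c') ⟶ pullback φ φ :=
      C.toScheme.fromSpecResidueField c' ≫ C.ι
    have hx12 : x ≫ pullback.fst φ φ = x ≫ pullback.snd φ φ := by
      apply hmono₀
      · rintro _ ⟨pt, rfl⟩
        have h1 : (x ≫ pullback.fst φ φ) ≫ m = C.toScheme.fromSpecResidueField c' ≫ p := by
          simp only [x, p, Category.assoc]
        rw [h1]
        have h2 : (C.toScheme.fromSpecResidueField c') pt = c' := by
          have := Set.mem_range_self (f := (C.toScheme.fromSpecResidueField c')) pt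
          rw [Scheme.range_fromSpecResidueField] at this
          exact this
        rw [Scheme.Hom.comp_apply, h2]
        exact hc'S
      · simp only [Category.assoc, pullback.condition]
    have hxΔ : x = (x ≫ pullback.fst φ φ) ≫ pullback.diagonal φ := by
      apply pullback.hom_ext
      · simp
      · simp [hx12]
    obtain ⟨pt, hpt⟩ : ∃ pt, (C.toScheme.fromSpecResidueField c') pt = c' := by
      have : c' ∈ Set.range (C.toScheme.fromSpecResidueField c') := by
        rw [Scheme.range_fromSpecResidueField]; rfl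
      exact this
    have hmem : C.ι c' ∈ Set.range (pullback.diagonal φ) := by
      refine ⟨(x ≫ pullback.fst φ φ) pt, ?_⟩
      rw [← Scheme.Hom.comp_apply, ← hxΔ]
      show (C.toScheme.fromSpecResidueField c' ≫ C.ι) pt = _
      rw [Scheme.Hom.comp_apply, hpt]
    exact c'.2 hmem
  have hemp := isEmpty_of_flat_of_preimage_eq_bot S₀ hS₀ p hbot
  exact hemp.false ⟨c, hc⟩

set_option backward.isDefEq.respectTransparency false in
theorem main {S : Scheme.{u}} [IsLocallyNoetherian S] (S₀ : S.Opens)
    (hS₀ : CInt.IsSchematicallyDense S₀)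
    (N : Over S) [Smooth N.hom]
    [Etale ((Over.pullback S₀.ι).obj N).hom]
    (M : Over S) [Etale M.hom] [IsSeparated M.hom]
    (φ : M ⟶ N) [IsIso ((Over.pullback S₀.ι).map φ)] :
    IsOpenImmersion φ.left := by
  have h₀ : Etale (pullback.snd N.hom S₀.ι) := ‹Etale ((Over.pullback S₀.ι).obj N).hom›
  haveI hNet : Etale N.hom := NE1.etale_of_smooth_of_etale_on_dense N.hom S₀ hS₀ h₀
  have hw : φ.left ≫ N.hom = M.hom := Over.w φ
  haveI hφet : Etale φ.left :=
    MorphismProperty.of_postcomp (W := @Etale) (W' := @Etale) φ.left N.hom hNet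
      (by rw [hw]; infer_instance)
  haveI hiso : IsIso ((Over.pullback S₀.ι).map φ).left := inferInstance
  haveI : Mono φ.left := by
    refine mono_of_etale S₀ hS₀ M.hom N.hom φ.left hw ?_
    intro K x₁ x₂ hr h12
    have hr' : Set.range (x₁ ≫ M.hom) ⊆ Set.range S₀.ι := by
      rw [Scheme.Opens.range_ι]; exact hr
    let s : K ⟶ S₀.toScheme := IsOpenImmersion.lift S₀.ι (x₁ ≫ M.hom) hr'
    have hs : s ≫ S₀.ι = x₁ ≫ M.hom := IsOpenImmersion.lift_fac _ _ _
    have hx2 : x₂ ≫ M.hom = x₁ ≫ M.hom := by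
      rw [← hw, ← Category.assoc, ← h12, Category.assoc]
    let y₁ : K ⟶ pullback M.hom S₀.ι := pullback.lift x₁ s hs.symm
    let y₂ : K ⟶ pullback M.hom S₀.ι := pullback.lift x₂ s (by rw [hx2, hs])
    have hy : y₁ ≫ ((Over.pullback S₀.ι).map φ).left = y₂ ≫ ((Over.pullback S₀.ι).map φ).left := by
      apply pullback.hom_ext
      · simp [y₁, y₂, h12]
      · simp [y₁, y₂]
    have hy' : y₁ = y₂ := (cancel_mono _).1 hy
    have := congrArg (fun t => t ≫ pullback.fst M.hom S₀.ι) hy'
    simpa [y₁, y₂] using this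
  exact IsOpenImmersion.of_flat_of_mono φ.left

end Groth.Agent.Lib.Helper26.NE2
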