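import Mathlib
import Groth.Prelude.Def_SheafNL
set_option maxHeartbeats 400000
universe u
namespace Groth.Agent.Lib.Helper26.NLLoc
open TensorProduct MvPolynomial Algebra

variable (A A' B : Type u) [CommRing A] [CommRing A'] [CommRing B]
    [Algebra A A'] (M : Submonoid A) [IsLocalization M A'] [Algebra A' B] [Algebra A B] [IsScalarTower A A' B]
    {ι : Type u} (G : Algebra.Generators A B ι) (G' : Algebra.Generators A' B ι) (h : ∀ i, G'.val i = algebraMap B B (G.val i))

attribute [local instance] MvPolynomial.algebraMvPolynomial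

theorem toRingHom_eq : (NLCx.sameVarsHom (S' := B) G G' h).toExtensionHom.toRingHom =
    algebraMap (MvPolynomial ι A) (MvPolynomial ι A') := by
  rw [MvPolynomial.algebraMap_def]
  apply MvPolynomial.ringHom_ext
  · intro a
    have := (NLCx.sameVarsHom (S' := B) G G' h).toExtensionHom.toRingHom_algebraMap a
    exact this.trans (MvPolynomial.map_C _ _).symm
  · intro i
    exact ((NLCx.sameVarsHom (S' := B) G G' h).toAlgHom_X i).trans (MvPolynomial.map_X _ _).symm

/-- generic: cotangent map bijective for an extension hom that is a localization at elements of the base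
acting invertibly on `S`. -/
theorem cotangent_bij {P : Algebra.Extension.{u} A B} {P' : Algebra.Extension.{u} A' B}
    (f : P.Hom P') (N : Submonoid P.Ring) [Algebra P.Ring P'.Ring]
    (hφ : ∀ x, algebraMap P.Ring P'.Ring x = f.toRingHom x)
    [IsLocalization N P'.Ring]
    (hunit : ∀ n ∈ N, IsUnit (algebraMap P.Ring B n)) :
    Function.Bijective (Algebra.Extension.Cotangent.map f) := by
  have hB : ∀ x : P.Ring, algebraMap P'.Ring B (f.toRingHom x) = algebraMap P.Ring B x := by
    intro x
    have := f.algebraMap_toRingHom x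
    simpa using this
  -- kernel of P' is the extension of kernel of P
  have hker : P'.ker ≤ Ideal.map (algebraMap P.Ring P'.Ring) P.ker := by
    intro y hy
    rw [IsLocalization.mem_map_algebraMap_iff N]
    obtain ⟨⟨a, m⟩, hy'⟩ := IsLocalization.surj N y
    refine ⟨⟨⟨a, ?_⟩, m⟩, hy'⟩
    change algebraMap P.Ring B a = 0
    rw [← hB a, ← hφ, ← hy', map_mul]
    have : algebraMap P'.Ring B y = 0 := hy
    rw [this, zero_mul]
  constructor
  · rw [injective_iff_map_eq_zero]
    intro z hz
    obtain ⟨x, rfl⟩ := Algebra.Extension.Cotangent.mk_surjective z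
    rw [Algebra.Extension.Cotangent.map_mk, Algebra.Extension.Cotangent.mk_eq_zero_iff] at hz
    have hz' : algebraMap P.Ring P'.Ring x.1 ∈ Ideal.map (algebraMap P.Ring P'.Ring) (P.ker ^ 2) := by
      rw [Ideal.map_pow, hφ]
      exact Ideal.pow_right_mono hker 2 hz
    rw [IsLocalization.mem_map_algebraMap_iff N] at hz'
    obtain ⟨⟨a, m⟩, ham⟩ := hz'
    rw [← map_mul, IsLocalization.eq_iff_exists N] at ham
    obtain ⟨c, hc⟩ := ham
    -- (c * m) • mk x = 0
    have h1 : ((c : P.Ring) * m) • Algebra.Extension.Cotangent.mk x = 0 := by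
      rw [← map_smul, Algebra.Extension.Cotangent.mk_eq_zero_iff]
      have : (((c : P.Ring) * m) • x : P.ker).1 = c * a := by
        change (c : P.Ring) * m * x.1 = c * a
        rw [← hc]; ring
      rw [this]
      exact Ideal.mul_mem_left _ _ a.2
    have hu : IsUnit (algebraMap P.Ring B ((c : P.Ring) * m)) := hunit _ (N.mul_mem c.2 m.2)
    rw [← algebraMap_smul B] at h1
    exact (hu.smul_left_cancel).mp (h1.trans (smul_zero _).symm)
  · intro z
    obtain ⟨y, rfl⟩ := Algebra.Extension.Cotangent.mk_surjective z
    obtain ⟨⟨a, m⟩, hy'⟩ := (IsLocalization.mem_map_algebraMap_iff N _).mp (hker y.2)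
    have hu : IsUnit (algebraMap P.Ring B m) := hunit _ m.2
    obtain ⟨u, hu'⟩ := hu
    refine ⟨(↑u⁻¹ : B) • Algebra.Extension.Cotangent.mk a, ?_⟩
    rw [map_smul, Algebra.Extension.Cotangent.map_mk]
    have h2 : ∀ (hp : f.toAlgHom a.1 ∈ P'.ker),
        (Algebra.Extension.Cotangent.mk ⟨f.toAlgHom a.1, hp⟩ : P'.Cotangent) =
          (u : B) • Algebra.Extension.Cotangent.mk y := by
      intro hp
      rw [hu', show algebraMap P.Ring B m = algebraMap P'.Ring B (f.toRingHom m) from (hB _).symm,
        algebraMap_smul, ← map_smul]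
      congr 1
      ext
      change f.toRingHom a.1 = f.toRingHom m * y.1
      rw [← hφ, ← hφ, ← hy', mul_comm]
    rw [h2, smul_smul, Units.inv_mul, one_smul]


set_option backward.isDefEq.respectTransparency false in
include M in
theorem cot_bij : Function.Bijective
    (Algebra.Extension.Cotangent.map (NLCx.sameVarsHom (S' := B) G G' h).toExtensionHom) := by
  have hl : @IsLocalization G.toExtension.Ring _ (M.map (C (σ := ι))) G'.toExtension.Ring _
      (MvPolynomial.algebraMvPolynomial) :=
    MvPolynomial.isLocalization (σ := ι) M A'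
  refine @cotangent_bij A A' B _ _ _ _ _ _ _ _ _ (NLCx.sameVarsHom (S' := B) G G' h).toExtensionHom
    (M.map (C (σ := ι))) (MvPolynomial.algebraMvPolynomial) ?_ hl ?_
  · intro r
    exact (RingHom.congr_fun (toRingHom_eq A A' B G G' h) r).symm
  · rintro _ ⟨μ, hμ, rfl⟩
    have h1 : algebraMap G.toExtension.Ring B (C μ) = algebraMap A' B (algebraMap A A' μ) := by
      rw [← IsScalarTower.algebraMap_apply]
      exact (IsScalarTower.algebraMap_apply A G.toExtension.Ring B μ).symm
    exact (congrArg IsUnit h1).mpr ((IsLocalization.map_units A' ⟨μ, hμ⟩).map _)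

set_option backward.isDefEq.respectTransparency false in
theorem cotSpace_bij : Function.Bijective
    (Algebra.Extension.CotangentSpace.map (NLCx.sameVarsHom (S' := B) G G' h).toExtensionHom) := by
  have key : Algebra.Extension.CotangentSpace.map (NLCx.sameVarsHom (S' := B) G G' h).toExtensionHom =
      (G.cotangentSpaceBasis.equiv G'.cotangentSpaceBasis (Equiv.refl ι)).toLinearMap := by
    refine G.cotangentSpaceBasis.ext (fun i => ?_)
    rw [LinearEquiv.coe_coe, Module.Basis.equiv_apply, Equiv.refl_apply,
      Algebra.Generators.cotangentSpaceBasis_apply, Algebra.Generators.cotangentSpaceBasis_apply]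
    simp only [Algebra.Generators.toExtension]
    rw [Algebra.Extension.CotangentSpace.map_tmul, map_one]
    congr 2
    exact (NLCx.sameVarsHom (S' := B) G G' h).toAlgHom_X i
  rw [key]
  exact (G.cotangentSpaceBasis.equiv G'.cotangentSpaceBasis (Equiv.refl ι)).bijective


open CategoryTheory in
include M in
theorem main : IsIso (NLCx.map (NLCx.sameVarsHom (S' := B) G G' h).toExtensionHom) := by
  haveI : ∀ n, IsIso ((NLCx.map (NLCx.sameVarsHom (S' := B) G G' h).toExtensionHom).f n) := by
    intro n
    by_cases h0 : n = -1
    · subst h0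
      unfold NLCx.map
      erw [HomologicalComplex.mkHomFromDouble_f₀]
      haveI : IsIso (ModuleCat.ofHom (Algebra.Extension.Cotangent.map
          (NLCx.sameVarsHom (S' := B) G G' h).toExtensionHom)) := by
        rw [ConcreteCategory.isIso_iff_bijective]
        exact cot_bij A A' B M G G' h
      exact IsIso.comp_isIso' (Iso.isIso_hom _) (IsIso.comp_isIso' this (Iso.isIso_inv _))
    · by_cases h1 : n = 0
      · subst h1
        unfold NLCx.map
        erw [HomologicalComplex.mkHomFromDouble_f₁]
        haveI : IsIso (ModuleCat.ofHom (Algebra.Extension.CotangentSpace.map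
            (NLCx.sameVarsHom (S' := B) G G' h).toExtensionHom)) := by
          rw [ConcreteCategory.isIso_iff_bijective]
          exact cotSpace_bij A A' B G G' h
        exact IsIso.comp_isIso' (Iso.isIso_hom _) (IsIso.comp_isIso' this (Iso.isIso_inv _))
      · exact (HomologicalComplex.isZero_double_X _ _ n h0 h1).isIso
          (HomologicalComplex.isZero_double_X _ _ n h0 h1) _
  exact HomologicalComplex.Hom.isIso_of_components _

end Groth.Agent.Lib.Helper26.NLLoc
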