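import Mathlib

set_option maxHeartbeats 400000
set_option autoImplicit false
set_option linter.unusedVariables false
set_option linter.style.longLine false
set_option linter.unusedSectionVars false
set_option linter.style.haveILetI false

universe u
open CategoryTheory MonoidalCategory CartesianMonoidalCategory Limits

namespace Groth.Agent.Lib.Helper26.NT3

variable {C D : Type*} [Category C] [Category D] [CartesianMonoidalCategory C]
  (F : C ⥤ D) [PreservesLimitsOfShape (Discrete WalkingPair) F]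

/-- joint monicity of the images of the projections under a product-preserving functor -/
theorem map_hom_ext {A B : C} {T : D}
    (f g : T ⟶ F.obj (A ⊗ B)) (h1 : f ≫ F.map (fst A B) = g ≫ F.map (fst A B))
    (h2 : f ≫ F.map (snd A B) = g ≫ F.map (snd A B)) : f = g := by
  have hl : IsLimit (F.mapCone (BinaryFan.mk (fst A B) (snd A B))) :=
    isLimitOfPreserves F (tensorProductIsBinaryProduct A B)
  apply hl.hom_ext
  rintro ⟨⟨⟩⟩
  · exact h1
  · exact h2

/-- pairing into the image of a product -/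
theorem exists_pair {A B : C} {T : D} (f : T ⟶ F.obj A) (g : T ⟶ F.obj B) :
    ∃ m : T ⟶ F.obj (A ⊗ B), m ≫ F.map (fst A B) = f ∧ m ≫ F.map (snd A B) = g := by
  have hl : IsLimit (BinaryFan.mk (F.map (fst A B)) (F.map (snd A B))) :=
    mapIsLimitOfPreservesOfIsLimit F _ _ (tensorProductIsBinaryProduct A B)
  refine ⟨hl.lift (BinaryFan.mk f g), ?_, ?_⟩
  · exact hl.fac (BinaryFan.mk f g) ⟨WalkingPair.left⟩
  · exact hl.fac (BinaryFan.mk f g) ⟨WalkingPair.right⟩

variable (Sm : C → Prop) {G N : C} (act : G ⊗ N ⟶ N) [hθ : IsIso (lift act (snd G N))]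

/-- The covering datum used in the torsor argument. -/
def HasCov (N : C) : Prop :=
  ∀ Z, Sm Z → ∃ (Z' Z'' : C) (q : Z' ⟶ Z) (p₁ p₂ : Z'' ⟶ Z') (n' : Z' ⟶ N), Sm Z' ∧ Sm Z'' ∧
    p₁ ≫ q = p₂ ≫ q ∧ Epi q ∧ Epi (F.map q) ∧
    ∀ (X : C) (h' : Z' ⟶ X), p₁ ≫ h' = p₂ ≫ h' → ∃ h : Z ⟶ X, q ≫ h = h'

include hθ in
/-- injectivity for `N` from injectivity for `G` -/
theorem inj_N (hG : ∀ Z, Sm Z → Function.Injective (fun g : Z ⟶ G => F.map g))
    (Z : C) (hZ : Sm Z) : Function.Injective (fun g : Z ⟶ N => F.map g) := by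
  intro h h' hh
  have hh' : F.map h = F.map h' := hh
  set θ := lift act (snd G N) with hθdef
  have hθ2 : θ ≫ snd N N = snd G N := lift_snd _ _
  have hinv2 : inv θ ≫ snd G N = snd N N := by rw [IsIso.inv_comp_eq, hθ2]
  let u := lift h h' ≫ inv θ
  let u' := lift h' h' ≫ inv θ
  have hF : F.map (lift h h') = F.map (lift h' h') := by
    apply map_hom_ext F
    · rw [← F.map_comp, ← F.map_comp, lift_fst, lift_fst, hh']
    · rw [← F.map_comp, ← F.map_comp, lift_snd, lift_snd]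
  have h1 : u ≫ fst G N = u' ≫ fst G N := by
    apply hG Z hZ
    show F.map (u ≫ fst G N) = F.map (u' ≫ fst G N)
    simp only [u, u', F.map_comp, hF]
  have h2 : u ≫ snd G N = u' ≫ snd G N := by
    simp only [u, u', Category.assoc, hinv2, lift_snd]
  have huu : u = u' := CartesianMonoidalCategory.hom_ext _ _ h1 h2
  have : lift h h' = lift h' h' := by
    have := congrArg (fun t => t ≫ θ) huu
    simpa [u, u'] using this
  have := congrArg (fun t => t ≫ fst N N) this
  simpa using this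

include hθ in
/-- surjectivity for `N` from bijectivity for `G`, given the covering datum -/
theorem surj_N (hcov : HasCov F Sm N)
    (hG : ∀ Z, Sm Z → Function.Bijective (fun g : Z ⟶ G => F.map g))
    (Z : C) (hZ : Sm Z) : Function.Surjective (fun g : Z ⟶ N => F.map g) := by
  intro k₀
  obtain ⟨Z', Z'', q, p₁, p₂, n', hZ', hZ'', hpq, hq, hFq, hdesc⟩ := hcov Z hZ
  set θ := lift act (snd G N) with hθdef
  have hθ1 : θ ≫ fst N N = act := lift_fst _ _
  have hθ2 : θ ≫ snd N N = snd G N := lift_snd _ _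
  obtain ⟨m, hm1, hm2⟩ := exists_pair F (A := N) (B := N) (F.map q ≫ k₀) (F.map n')
  obtain ⟨d, hd⟩ := (hG Z' hZ').2 (m ≫ inv (F.map θ) ≫ F.map (fst G N))
  have hd' : F.map d = m ≫ inv (F.map θ) ≫ F.map (fst G N) := hd
  obtain ⟨h', hh'def⟩ : ∃ h' : Z' ⟶ N, h' = lift d n' ≫ act := ⟨_, rfl⟩
  have hFl : F.map (lift d n') = m ≫ inv (F.map θ) := by
    apply map_hom_ext F
    · rw [← F.map_comp, lift_fst, hd', Category.assoc]
    · rw [← F.map_comp, lift_snd, Category.assoc, ← hθ2, F.map_comp, IsIso.inv_hom_id_assoc, hm2]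
  have hFh' : F.map h' = F.map q ≫ k₀ := by
    rw [hh'def, F.map_comp, hFl, ← hθ1, F.map_comp, Category.assoc, IsIso.inv_hom_id_assoc, hm1]
  have hinj := inj_N F Sm act (fun Z hZ => (hG Z hZ).1) Z'' hZ''
  have hp : p₁ ≫ h' = p₂ ≫ h' := by
    apply hinj
    show F.map (p₁ ≫ h') = F.map (p₂ ≫ h')
    rw [F.map_comp, F.map_comp, hFh', ← Category.assoc, ← Category.assoc, ← F.map_comp,
      ← F.map_comp, hpq]
  obtain ⟨h, hh⟩ := hdesc N h' hp
  refine ⟨h, ?_⟩
  show F.map h = k₀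
  rw [← cancel_epi (F.map q), ← F.map_comp, hh, hFh']

include hθ in
/-- injectivity for `G` from injectivity for `N`, given the covering datum -/
theorem inj_G (hcov : HasCov F Sm N)
    (hN : ∀ Z, Sm Z → Function.Injective (fun g : Z ⟶ N => F.map g))
    (Z : C) (hZ : Sm Z) : Function.Injective (fun g : Z ⟶ G => F.map g) := by
  intro γ γ' hγ
  have hγ' : F.map γ = F.map γ' := hγ
  obtain ⟨Z', Z'', q, p₁, p₂, n', hZ', hZ'', hpq, hq, hFq, hdesc⟩ := hcov Z hZ
  set θ := lift act (snd G N) with hθdef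
  have hF : F.map (lift (q ≫ γ) n') = F.map (lift (q ≫ γ') n') := by
    apply map_hom_ext F
    · rw [← F.map_comp, ← F.map_comp, lift_fst, lift_fst, F.map_comp, F.map_comp, hγ']
    · rw [← F.map_comp, ← F.map_comp, lift_snd, lift_snd]
  have h1 : lift (q ≫ γ) n' ≫ act = lift (q ≫ γ') n' ≫ act := by
    apply hN Z' hZ'
    show F.map (lift (q ≫ γ) n' ≫ act) = F.map (lift (q ≫ γ') n' ≫ act)
    rw [F.map_comp, F.map_comp, hF]
  have h2 : lift (q ≫ γ) n' ≫ θ = lift (q ≫ γ') n' ≫ θ := by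
    apply CartesianMonoidalCategory.hom_ext
    · simp only [θ, Category.assoc, lift_fst, h1]
    · simp only [θ, Category.assoc, lift_snd]
  have h3 : lift (q ≫ γ) n' = lift (q ≫ γ') n' := by
    have := congrArg (fun t => t ≫ inv θ) h2
    simpa using this
  have h4 : q ≫ γ = q ≫ γ' := by
    have := congrArg (fun t => t ≫ fst G N) h3
    simpa using this
  exact (cancel_epi q).1 h4

include hθ in
/-- surjectivity for `G` from bijectivity for `N`, given the covering datum -/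
theorem surj_G (hcov : HasCov F Sm N)
    (hN : ∀ Z, Sm Z → Function.Bijective (fun g : Z ⟶ N => F.map g))
    (Z : C) (hZ : Sm Z) : Function.Surjective (fun g : Z ⟶ G => F.map g) := by
  intro γ₀
  obtain ⟨Z', Z'', q, p₁, p₂, n', hZ', hZ'', hpq, hq, hFq, hdesc⟩ := hcov Z hZ
  set θ := lift act (snd G N) with hθdef
  have hθ1 : θ ≫ fst N N = act := lift_fst _ _
  have hθ2 : θ ≫ snd N N = snd G N := lift_snd _ _
  obtain ⟨m, hm1, hm2⟩ := exists_pair F (A := G) (B := N) (F.map q ≫ γ₀) (F.map n')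
  obtain ⟨ν, hν⟩ := (hN Z' hZ').2 (m ≫ F.map act)
  have hν' : F.map ν = m ≫ F.map act := hν
  obtain ⟨γ', hγ'def⟩ : ∃ γ' : Z' ⟶ G, γ' = lift ν n' ≫ inv θ ≫ fst G N := ⟨_, rfl⟩
  have hFl : F.map (lift ν n') = m ≫ F.map θ := by
    apply map_hom_ext F
    · rw [← F.map_comp, lift_fst, hν', Category.assoc, ← F.map_comp, hθ1]
    · rw [← F.map_comp, lift_snd, Category.assoc, ← F.map_comp, hθ2, hm2]
  have hFγ' : F.map γ' = F.map q ≫ γ₀ := by
    rw [hγ'def, F.map_comp, hFl, F.map_comp, Category.assoc, Functor.map_inv,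
      IsIso.hom_inv_id_assoc, hm1]
  have hinj := inj_G F Sm act hcov (fun Z hZ => (hN Z hZ).1) Z'' hZ''
  have hp : p₁ ≫ γ' = p₂ ≫ γ' := by
    apply hinj
    show F.map (p₁ ≫ γ') = F.map (p₂ ≫ γ')
    rw [F.map_comp, F.map_comp, hFγ', ← Category.assoc, ← Category.assoc, ← F.map_comp,
      ← F.map_comp, hpq]
  obtain ⟨γ, hγ⟩ := hdesc G γ' hp
  refine ⟨γ, ?_⟩
  show F.map γ = γ₀
  rw [← cancel_epi (F.map q), ← F.map_comp, hγ, hFγ']

include hθ in
theorem main_iff (hcov : HasCov F Sm N) :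
    (∀ Z, Sm Z → Function.Bijective (fun g : Z ⟶ G => F.map g)) ↔
      (∀ Z, Sm Z → Function.Bijective (fun g : Z ⟶ N => F.map g)) := by
  constructor
  · intro hG Z hZ
    exact ⟨inj_N F Sm act (fun Z hZ => (hG Z hZ).1) Z hZ, surj_N F Sm act hcov hG Z hZ⟩
  · intro hN Z hZ
    exact ⟨inj_G F Sm act hcov (fun Z hZ => (hN Z hZ).1) Z hZ, surj_G F Sm act hcov hN Z hZ⟩

end Groth.Agent.Lib.Helper26.NT3
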