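import Mathlib
import Groth.Prelude.Def_CInt
import Groth.Prelude.Def_AlgGrp
import Groth.Prelude.Def_NonAbH2
import Groth.Agent.Lib.Helper26.NT3
import Groth.Agent.Lib.helper19.SmChart5

set_option maxHeartbeats 400000
set_option autoImplicit false
set_option linter.unusedVariables false
set_option linter.style.longLine false
set_option linter.unusedSectionVars false
set_option linter.style.haveILetI false

universe u
open CategoryTheory MonoidalCategory CartesianMonoidalCategory AlgebraicGeometry Limits

namespace Groth.Agent.Lib.Helper26.NT4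

open Groth.Agent.Lib.Helper26

/-- A smooth surjective morphism has a section after an étale surjective base change. -/
theorem exists_etale_cover_section {S N : Scheme.{u}} (f : N ⟶ S) [Smooth f] [Surjective f] :
    ∃ (S' : Scheme.{u}) (c : S' ⟶ S) (n : S' ⟶ N), Etale c ∧ Surjective c ∧ n ≫ f = c := by
  have h := fun s : S => Groth.Agent.Lib.Helper19.SmChart5.main f s (f.surjective s)
  choose S' g s' hg hgs hh using h
  choose n hn using hh
  have : IsZariskiLocalAtSource @Etale.{u} := HasRingHomProperty.instIsZariskiLocalAtSource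
  refine ⟨∐ S', Sigma.desc g, Sigma.desc n, ?_, ?_, ?_⟩
  · exact IsZariskiLocalAtSource.sigmaDesc hg
  · constructor
    intro s
    refine ⟨Sigma.ι S' s (s' s), ?_⟩
    rw [← Scheme.Hom.comp_apply, Sigma.ι_desc]
    exact hgs s
  · apply Sigma.hom_ext
    intro s
    rw [Sigma.ι_desc_assoc, Sigma.ι_desc, hn]

/-- an étale surjective morphism is an epimorphism of schemes -/
theorem epi_of_etale_surjective {X Y : Scheme.{u}} (f : X ⟶ Y) [Etale f] [Surjective f] : Epi f := by
  haveI : EffectiveEpi f := inferInstance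
  infer_instance

set_option backward.isDefEq.respectTransparency false in
/-- restriction of an étale surjective morphism of `S`-schemes stays an epimorphism -/
theorem epi_pullback_map {S T : Scheme.{u}} (j : T ⟶ S) {Z' Z : Over S} (q : Z' ⟶ Z)
    [Etale q.left] [Surjective q.left] : Epi ((Over.pullback j).map q) := by
  have hw : q.left ≫ Z.hom = Z'.hom := Over.w q
  have h1 : ((Over.pullback j).map q).left ≫ pullback.snd Z.hom j = pullback.snd Z'.hom j := by
    simp
  have h2 : ((Over.pullback j).map q).left ≫ pullback.fst Z.hom j = pullback.fst Z'.hom j ≫ q.left := by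
    simp
  have big : IsPullback (((Over.pullback j).map q).left ≫ pullback.snd Z.hom j)
      (pullback.fst Z'.hom j) j (q.left ≫ Z.hom) := by
    rw [h1, hw]
    exact (IsPullback.of_hasPullback Z'.hom j).flip
  have sq : IsPullback ((Over.pullback j).map q).left (pullback.fst Z'.hom j)
      (pullback.fst Z.hom j) q.left :=
    IsPullback.of_right big h2 (IsPullback.of_hasPullback Z.hom j).flip
  haveI : Etale ((Over.pullback j).map q).left :=
    MorphismProperty.of_isPullback sq.flip inferInstance
  haveI : Surjective ((Over.pullback j).map q).left :=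
    MorphismProperty.of_isPullback sq.flip inferInstance
  haveI : Epi ((Over.pullback j).map q).left := epi_of_etale_surjective _
  exact Over.epi_of_epi_left _

set_option backward.isDefEq.respectTransparency false in
theorem hasCov {S : Scheme.{u}} {T : Scheme.{u}} (j : T ⟶ S) (N : Over S) [Smooth N.hom] [Surjective N.hom] :
    NT3.HasCov (Over.pullback j) (fun Z : Over S => Smooth Z.hom) N := by
  obtain ⟨S', c, n, hc, hcs, hn⟩ := exists_etale_cover_section N.hom
  intro Z hZ
  haveI : Smooth Z.hom := hZ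
  haveI := hc
  haveI := hcs
  let q₀ : pullback Z.hom c ⟶ Z.left := pullback.fst Z.hom c
  haveI hq₀e : Etale q₀ := MorphismProperty.pullback_fst _ _ hc
  haveI hq₀s : Surjective q₀ := MorphismProperty.pullback_fst _ _ hcs
  let Z' : Over S := Over.mk (q₀ ≫ Z.hom)
  let q : Z' ⟶ Z := Over.homMk q₀ rfl
  let r₁ : pullback q₀ q₀ ⟶ pullback Z.hom c := pullback.fst q₀ q₀
  let r₂ : pullback q₀ q₀ ⟶ pullback Z.hom c := pullback.snd q₀ q₀
  haveI hr₁ : Etale r₁ := MorphismProperty.pullback_fst _ _ hq₀e
  let Z'' : Over S := Over.mk (r₁ ≫ Z'.hom)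
  let p₁ : Z'' ⟶ Z' := Over.homMk r₁ rfl
  have hr : r₁ ≫ q₀ = r₂ ≫ q₀ := pullback.condition
  let p₂ : Z'' ⟶ Z' := Over.homMk r₂ (by
    show r₂ ≫ q₀ ≫ Z.hom = r₁ ≫ q₀ ≫ Z.hom
    rw [← Category.assoc, ← hr, Category.assoc])
  let n' : Z' ⟶ N := Over.homMk (pullback.snd Z.hom c ≫ n) (by
    show (pullback.snd Z.hom c ≫ n) ≫ N.hom = q₀ ≫ Z.hom
    rw [Category.assoc, hn, ← pullback.condition])
  have hZ' : Smooth Z'.hom := by
    show Smooth (q₀ ≫ Z.hom)
    infer_instance
  have hZ'' : Smooth Z''.hom := by
    show Smooth (r₁ ≫ q₀ ≫ Z.hom)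
    infer_instance
  refine ⟨Z', Z'', q, p₁, p₂, n', hZ', hZ'', ?_, ?_, ?_, ?_⟩
  · apply Over.OverMorphism.ext
    exact hr
  · haveI : Epi q.left := epi_of_etale_surjective q₀
    exact Over.epi_of_epi_left q
  · haveI : Etale q.left := hq₀e
    haveI : Surjective q.left := hq₀s
    exact epi_pullback_map j q
  · intro X h' hh'
    have hh'l : r₁ ≫ h'.left = r₂ ≫ h'.left := congrArg (fun t => t.left) hh'
    haveI : EffectiveEpi q₀ := inferInstance
    let d : Z.left ⟶ X.left := EffectiveEpi.desc q₀ h'.left (by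
      intro W g₁ g₂ hg
      have e1 : pullback.lift g₁ g₂ hg ≫ r₁ = g₁ := pullback.lift_fst _ _ _
      have e2 : pullback.lift g₁ g₂ hg ≫ r₂ = g₂ := pullback.lift_snd _ _ _
      calc g₁ ≫ h'.left = (pullback.lift g₁ g₂ hg ≫ r₁) ≫ h'.left := by rw [e1]
        _ = (pullback.lift g₁ g₂ hg ≫ r₂) ≫ h'.left := by
            rw [Category.assoc, Category.assoc, hh'l]
        _ = g₂ ≫ h'.left := by rw [e2])
    have hd : q₀ ≫ d = h'.left := EffectiveEpi.fac q₀ h'.left _
    haveI : Epi q₀ := epi_of_etale_surjective q₀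
    have hdw : d ≫ X.hom = Z.hom := by
      rw [← cancel_epi q₀, ← Category.assoc, hd]
      exact Over.w h'
    refine ⟨Over.homMk d hdw, ?_⟩
    apply Over.OverMorphism.ext
    exact hd

theorem main {S : Scheme.{u}} {T : Scheme.{u}} (j : T ⟶ S)
    (G : Over S) [GrpObj G] (N : Over S) [Smooth N.hom] [Surjective N.hom]
    (a : AlgGrp.Action G N) (ha : NonAbH1.IsPseudoTorsorSch a) :
    (∀ Z : Over S, Smooth Z.hom →
        Function.Bijective (fun g : Z ⟶ G => (Over.pullback j).map g)) ↔
      (∀ Z : Over S, Smooth Z.hom →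
        Function.Bijective (fun g : Z ⟶ N => (Over.pullback j).map g)) := by
  haveI : IsIso (lift a.act (snd G N)) := ha
  exact NT3.main_iff (Over.pullback j) (fun Z : Over S => Smooth Z.hom) a.act (hasCov j N)

end Groth.Agent.Lib.Helper26.NT4
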