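import Mathlib
import Groth.Prelude.Def_CInt

set_option maxHeartbeats 400000

open CategoryTheory AlgebraicGeometry Limits

namespace Groth.Agent.Lib.Helper26.NeronT

universe u v u' v'

section general
variable {C : Type u} [Category.{v} C] {D : Type u'} [Category.{v'} D]
  {E : Type*} [Category E]

/-- `F.map` is bijective on `Hom(X, Y)`. -/
def BijOn (F : C ⥤ D) (X Y : C) : Prop :=
  Function.Bijective (fun g : X ⟶ Y => F.map g)

lemma bijOn_of_iso {F G : C ⥤ D} (α : F ≅ G) {X Y : C} (h : BijOn F X Y) : BijOn G X Y := by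
  have hG : (fun g : X ⟶ Y => G.map g) =
      (fun k : F.obj X ⟶ F.obj Y => α.inv.app X ≫ k ≫ α.hom.app Y) ∘ (fun g : X ⟶ Y => F.map g) := by
    funext g
    simp
  unfold BijOn
  rw [hG]
  refine Function.Bijective.comp ?_ h
  refine ⟨fun a b hab => ?_, fun k => ⟨α.hom.app X ≫ k ≫ α.inv.app Y, by simp⟩⟩
  simpa using hab

lemma bijOn_comp {F : C ⥤ D} {G : D ⥤ E} {X Y : C} (h1 : BijOn F X Y)
    (h2 : BijOn G (F.obj X) (F.obj Y)) : BijOn (F ⋙ G) X Y :=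
  Function.Bijective.comp (f := fun g : X ⟶ Y => F.map g) h2 h1

lemma bijOn_of_comp {F : C ⥤ D} {G : D ⥤ E} {X Y : C} (h12 : BijOn (F ⋙ G) X Y)
    (h2 : BijOn G (F.obj X) (F.obj Y)) : BijOn F X Y := by
  have : (fun g : X ⟶ Y => (F ⋙ G).map g) =
      (fun k : F.obj X ⟶ F.obj Y => G.map k) ∘ (fun g : X ⟶ Y => F.map g) := rfl
  unfold BijOn at h12
  rw [this] at h12
  exact (Function.Bijective.of_comp_iff' h2 _).mp h12

lemma bijOn_of_fullyFaithful (G : C ⥤ D) [G.Full] [G.Faithful] (X Y : C) : BijOn G X Y :=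
  ⟨fun _ _ h => G.map_injective h, fun k => ⟨G.preimage k, G.map_preimage k⟩⟩

end general

section scheme

lemma pullbackCongr {X Y : Scheme.{u}} {f g : X ⟶ Y} (h : f = g) :
    Nonempty (Over.pullback f ≅ Over.pullback g) := by
  subst h; exact ⟨Iso.refl _⟩

variable {S : Scheme.{u}} (S₀ S₁ : S.Opens) (h01 : S₀ ≤ S₁)

include h01 in
lemma range_comp : Set.range ((S₁.ι ⁻¹ᵁ S₀).ι ≫ S₁.ι) = Set.range S₀.ι := by
  ext x
  simp only [Scheme.Hom.comp_base, TopCat.hom_comp, ContinuousMap.coe_comp, Set.mem_range,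
    Function.comp_apply, Scheme.Opens.range_ι]
  constructor
  · rintro ⟨y, rfl⟩
    exact y.2
  · intro hx
    exact ⟨⟨⟨x, h01 hx⟩, hx⟩, rfl⟩

/-- The iso `S₁.ι⁻¹ S₀ ≅ S₀`. -/
noncomputable def e : ((S₁.ι ⁻¹ᵁ S₀ : S₁.toScheme.Opens) : Scheme.{u}) ≅ (S₀ : Scheme.{u}) :=
  IsOpenImmersion.isoOfRangeEq ((S₁.ι ⁻¹ᵁ S₀).ι ≫ S₁.ι) S₀.ι (range_comp S₀ S₁ h01)

lemma e_fac : (e S₀ S₁ h01).hom ≫ S₀.ι = (S₁.ι ⁻¹ᵁ S₀).ι ≫ S₁.ι :=
  IsOpenImmersion.isoOfRangeEq_hom_fac _ _ _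

/-- The key natural isomorphism. -/
lemma key : Nonempty (Over.pullback S₁.ι ⋙ Over.pullback (S₁.ι ⁻¹ᵁ S₀).ι ≅
    Over.pullback S₀.ι ⋙ Over.pullback (e S₀ S₁ h01).hom) := by
  obtain ⟨α⟩ := pullbackCongr (e_fac S₀ S₁ h01)
  exact ⟨(Over.pullbackComp _ _).symm ≪≫ α.symm ≪≫ Over.pullbackComp _ _⟩

include h01 in
lemma isEquivalence_e : (Over.pullback (e S₀ S₁ h01).hom).IsEquivalence :=
  (Over.mapPullbackAdj (e S₀ S₁ h01).hom).isEquivalence_right_of_isEquivalence_left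

include h01 in
lemma bijOn_comp_iff (Z N : Over S) :
    BijOn (Over.pullback S₁.ι ⋙ Over.pullback (S₁.ι ⁻¹ᵁ S₀).ι) Z N ↔
      BijOn (Over.pullback S₀.ι) Z N := by
  obtain ⟨α⟩ := key S₀ S₁ h01
  have := isEquivalence_e S₀ S₁ h01
  constructor
  · intro h
    exact bijOn_of_comp (bijOn_of_iso α h) (bijOn_of_fullyFaithful _ _ _)
  · intro h
    exact bijOn_of_iso α.symm (bijOn_comp h (bijOn_of_fullyFaithful _ _ _))

include h01 in
theorem s13419 (N : Over S)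
    (hN1 : ∀ Z : Over S, Smooth Z.hom → Function.Bijective (fun g : Z ⟶ N => (Over.pullback S₁.ι).map g))
    (hN10 : ∀ Z : Over (S₁ : Scheme.{u}), Smooth Z.hom → Function.Bijective (fun g : Z ⟶ (Over.pullback S₁.ι).obj N => (Over.pullback (S₁.ι ⁻¹ᵁ S₀).ι).map g)) :
    ∀ Z : Over S, Smooth Z.hom → Function.Bijective (fun g : Z ⟶ N => (Over.pullback S₀.ι).map g) := by
  intro Z hZ
  have hZ1 : Smooth ((Over.pullback S₁.ι).obj Z).hom := by
    simp only [Over.pullback_obj_hom]; infer_instance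
  exact (bijOn_comp_iff S₀ S₁ h01 Z N).mp (bijOn_comp (hN1 Z hZ) (hN10 _ hZ1))

include h01 in
theorem s13420 (N : Over S)
    (hN0 : ∀ Z : Over S, Smooth Z.hom → Function.Bijective (fun g : Z ⟶ N => (Over.pullback S₀.ι).map g))
    (hN10 : ∀ Z : Over (S₁ : Scheme.{u}), Smooth Z.hom → Function.Bijective (fun g : Z ⟶ (Over.pullback S₁.ι).obj N => (Over.pullback (S₁.ι ⁻¹ᵁ S₀).ι).map g)) :
    ∀ Z : Over S, Smooth Z.hom → Function.Bijective (fun g : Z ⟶ N => (Over.pullback S₁.ι).map g) := by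
  intro Z hZ
  have hZ1 : Smooth ((Over.pullback S₁.ι).obj Z).hom := by
    simp only [Over.pullback_obj_hom]; infer_instance
  exact bijOn_of_comp ((bijOn_comp_iff S₀ S₁ h01 Z N).mpr (hN0 Z hZ)) (hN10 _ hZ1)

end scheme

end Groth.Agent.Lib.Helper26.NeronT
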