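import Mathlib
import Groth.Prelude.Def_CInt

set_option maxHeartbeats 400000

open CategoryTheory AlgebraicGeometry Limits

namespace Groth.Agent.Lib.Helper26.NeronT2

universe u

instance : MorphismProperty.IsMultiplicative @Smooth where
  id_mem _ := inferInstance

set_option backward.isDefEq.respectTransparency.types false in
instance : MorphismProperty.HasOfPostcompProperty @Smooth @Etale := by
  rw [MorphismProperty.hasOfPostcompProperty_iff_le_diagonal]
  intro X Y f hf
  have : Etale f := hf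
  have : Etale (pullback.diagonal f) := inferInstance
  exact inferInstanceAs <| Smooth (pullback.diagonal f)

lemma smooth_of_comp_etale {X Y Z : Scheme.{u}} (z : X ⟶ Y) (f : Y ⟶ Z) [Etale f]
    (h : Smooth (z ≫ f)) : Smooth z :=
  MorphismProperty.of_postcomp (W := @Smooth) (W' := @Etale) z f ‹_› h

set_option backward.isDefEq.respectTransparency false in
/-- Concrete reformulation of bijectivity of restriction. -/
lemma bij_pullback_iff {X U : Scheme.{u}} (j : U ⟶ X) (Z N : Over X) :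
    Function.Bijective (fun g : Z ⟶ N => (Over.pullback j).map g) ↔
      ∀ h : pullback Z.hom j ⟶ N.left, h ≫ N.hom = pullback.fst Z.hom j ≫ Z.hom →
        ∃! g : Z.left ⟶ N.left, g ≫ N.hom = Z.hom ∧ pullback.fst Z.hom j ≫ g = h := by
  constructor
  · rintro ⟨hinj, hsurj⟩ h hh
    let k : (Over.pullback j).obj Z ⟶ (Over.pullback j).obj N :=
      Over.homMk (pullback.lift h (pullback.snd Z.hom j) (by rw [hh, pullback.condition]))
        (by simp)
    obtain ⟨g, hg⟩ := hsurj k
    have hg' : (((Over.pullback j).map g).left) = k.left := by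
      have := congrArg (fun t => t.left) hg
      exact this
    refine ⟨g.left, ⟨Over.w g, ?_⟩, ?_⟩
    · have := congrArg (fun t => t ≫ pullback.fst N.hom j) hg'
      simpa [k] using this
    · rintro g' ⟨hg'1, hg'2⟩
      have : Over.homMk g' hg'1 = g := by
        apply hinj
        apply Over.OverMorphism.ext
        simp only [hg]
        apply pullback.hom_ext
        · simp [k, hg'2]
        · simp [k]
      rw [← this]
      rfl
  · intro H
    constructor
    · intro g₁ g₂ h12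
      have h12' : ((Over.pullback j).map g₁).left = ((Over.pullback j).map g₂).left :=
        congrArg (fun t => t.left) h12
      have e1 : pullback.fst Z.hom j ≫ g₁.left = pullback.fst Z.hom j ≫ g₂.left := by
        have := congrArg (fun t => t ≫ pullback.fst N.hom j) h12'
        simpa using this
      obtain ⟨g, -, hu⟩ := H (pullback.fst Z.hom j ≫ g₁.left) (by simp)
      apply Over.OverMorphism.ext
      rw [hu g₁.left ⟨Over.w g₁, rfl⟩, hu g₂.left ⟨Over.w g₂, e1.symm⟩]
    · intro k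
      have hk : k.left ≫ pullback.snd N.hom j = pullback.snd Z.hom j := by
        simpa using Over.w k
      obtain ⟨g, ⟨hg1, hg2⟩, -⟩ := H (k.left ≫ pullback.fst N.hom j) (by
        rw [Category.assoc, pullback.condition, ← Category.assoc, hk, pullback.condition])
      refine ⟨Over.homMk g hg1, ?_⟩
      apply Over.OverMorphism.ext
      apply pullback.hom_ext
      · simp [hg2]
      · simp [hk]


theorem s13421 {T : Scheme.{u}} (T₀ : T.Opens)
    {S N : Scheme.{u}} (f : S ⟶ T) [Etale f] (g : N ⟶ S) [Smooth g]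
    (hS : ∀ Z : Over T, Smooth Z.hom → Function.Bijective (fun g : Z ⟶ Over.mk f => (Over.pullback T₀.ι).map g))
    (hN : ∀ Z : Over S, Smooth Z.hom → Function.Bijective (fun g : Z ⟶ Over.mk g => (Over.pullback (f ⁻¹ᵁ T₀).ι).map g)) :
    ∀ Z : Over T, Smooth Z.hom → Function.Bijective (fun g : Z ⟶ Over.mk (g ≫ f) => (Over.pullback T₀.ι).map g) := by
  intro Z hZ
  rw [bij_pullback_iff]
  intro h hh
  have hh' : h ≫ g ≫ f = pullback.fst Z.hom T₀.ι ≫ Z.hom := hh
  -- Step 1
  obtain ⟨z, ⟨hz1, hz2⟩, hzu⟩ := (bij_pullback_iff T₀.ι Z (Over.mk f)).mp (hS Z hZ) (h ≫ g)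
    (by simpa using hh')
  have hz1' : z ≫ f = Z.hom := hz1
  have hzs : Smooth z := smooth_of_comp_etale z f (by rw [hz1']; exact hZ)
  -- Step 2
  have hrange : Set.range (pullback.fst z (f ⁻¹ᵁ T₀).ι) = Set.range (pullback.fst Z.hom T₀.ι) := by
    rw [Scheme.Pullback.range_fst, Scheme.Pullback.range_fst, ← hz1']
    simp only [Scheme.Opens.range_ι, Scheme.Hom.comp_base, TopCat.hom_comp, ContinuousMap.coe_comp]
    rfl
  let φ := IsOpenImmersion.isoOfRangeEq (pullback.fst z (f ⁻¹ᵁ T₀).ι) (pullback.fst Z.hom T₀.ι) hrange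
  have hφ : φ.hom ≫ pullback.fst Z.hom T₀.ι = pullback.fst z (f ⁻¹ᵁ T₀).ι :=
    IsOpenImmersion.isoOfRangeEq_hom_fac _ _ _
  -- Step 3
  obtain ⟨γ, ⟨hγ1, hγ2⟩, hγu⟩ := (bij_pullback_iff (f ⁻¹ᵁ T₀).ι (Over.mk z) (Over.mk g)).mp
    (hN (Over.mk z) hzs) (φ.hom ≫ h) (by
      simp only [Over.mk_left, Over.mk_hom, Category.assoc, Functor.id_obj, Functor.const_obj_obj]
      rw [← hz2, ← Category.assoc, hφ])
  have hγ1' : γ ≫ g = z := hγ1
  have hγ2' : pullback.fst z (f ⁻¹ᵁ T₀).ι ≫ γ = φ.hom ≫ h := hγ2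
  refine ⟨γ, ⟨?_, ?_⟩, ?_⟩
  · show γ ≫ g ≫ f = Z.hom
    rw [← Category.assoc, hγ1', hz1']
  · rw [← cancel_epi φ.hom, ← Category.assoc, hφ, hγ2']
  · rintro γ' ⟨hγ'1, hγ'2⟩
    have hγ'1' : γ' ≫ g ≫ f = Z.hom := hγ'1
    have hz' : γ' ≫ g = z := by
      apply hzu
      refine ⟨?_, ?_⟩
      · show (γ' ≫ g) ≫ f = Z.hom
        rw [Category.assoc, hγ'1']
      · rw [← Category.assoc, hγ'2]
    apply hγu
    refine ⟨hz', ?_⟩
    show pullback.fst z (f ⁻¹ᵁ T₀).ι ≫ γ' = φ.hom ≫ h
    rw [← hφ, Category.assoc, hγ'2]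

end Groth.Agent.Lib.Helper26.NeronT2
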