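import Mathlib

/-!
Successive approximation of a node equation `u v = ε`.
-/

set_option autoImplicit false
universe u

namespace Groth.Agent.Lib.Helper26.NodeApprox

open IsLocalRing

variable {A B : Type u} [CommRing A] [IsLocalRing A] [CommRing B] [IsLocalRing B] [Algebra A B]
  [IsLocalHom (algebraMap A B)]

variable (A B) in
/-- `m_A^k B` -/
abbrev J (k : ℕ) : Ideal B := (maximalIdeal A ^ k).map (algebraMap A B)

lemma J_mul (k l : ℕ) {x y : B} (hx : x ∈ J A B k) (hy : y ∈ J A B l) : x * y ∈ J A B (k + l) := by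
  have : J A B (k + l) = J A B k * J A B l := by
    rw [J, J, J, pow_add, Ideal.map_mul]
  rw [this]
  exact Ideal.mul_mem_mul hx hy

lemma J_one_le : J A B 1 ≤ maximalIdeal B := by
  rw [J, pow_one, Ideal.map_le_iff_le_comap]
  intro a ha
  rw [Ideal.mem_comap, mem_maximalIdeal, mem_nonunits_iff]
  intro h
  exact ha (isUnit_of_map_unit (algebraMap A B) a h)

lemma J_anti {k l : ℕ} (h : k ≤ l) : J A B l ≤ J A B k :=
  Ideal.map_mono (Ideal.pow_le_pow_right h)

lemma exists_lift (hres : Function.Surjective (ResidueField.map (algebraMap A B))) (b : B) :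
    ∃ α : A, b - algebraMap A B α ∈ maximalIdeal B := by
  obtain ⟨a', ha'⟩ := hres (residue B b)
  obtain ⟨α, rfl⟩ := residue_surjective a'
  refine ⟨α, ?_⟩
  rw [← residue_eq_zero_iff, map_sub, ← ha', ResidueField.map_residue, sub_self]

/-- key decomposition -/
lemma decomp (hres : Function.Surjective (ResidueField.map (algebraMap A B))) (u' v' : B)
    (hgen : ∀ x ∈ maximalIdeal B, ∃ s t : B, x - (s * u' + t * v') ∈ J A B 1) (k : ℕ)
    (z : B) (hz : z ∈ J A B k) :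
    ∃ δ ∈ maximalIdeal A ^ k, ∃ X ∈ J A B k, ∃ Y ∈ J A B k,
      z - (algebraMap A B δ + X * u' + Y * v') ∈ J A B (k + 1) := by
  suffices h : ∀ b : B, ∃ δ ∈ maximalIdeal A ^ k, ∃ X ∈ J A B k, ∃ Y ∈ J A B k,
      b * z - (algebraMap A B δ + X * u' + Y * v') ∈ J A B (k + 1) by
    simpa using h 1
  refine Submodule.span_induction (p := fun z _ => ∀ b : B, ∃ δ ∈ maximalIdeal A ^ k,
    ∃ X ∈ J A B k, ∃ Y ∈ J A B k,
      b * z - (algebraMap A B δ + X * u' + Y * v') ∈ J A B (k + 1)) ?_ ?_ ?_ ?_ hz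
  · rintro _ ⟨a, ha, rfl⟩ b
    obtain ⟨α, hα⟩ := exists_lift hres b
    obtain ⟨s, t, hst⟩ := hgen _ hα
    have hfa : algebraMap A B a ∈ J A B k := Ideal.mem_map_of_mem _ ha
    refine ⟨α * a, Ideal.mul_mem_left _ _ ha, algebraMap A B a * s, Ideal.mul_mem_right _ _ hfa,
      algebraMap A B a * t, Ideal.mul_mem_right _ _ hfa, ?_⟩
    have : b * algebraMap A B a - (algebraMap A B (α * a) + algebraMap A B a * s * u'
        + algebraMap A B a * t * v')
        = algebraMap A B a * (b - algebraMap A B α - (s * u' + t * v')) := by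
      rw [map_mul]; ring
    rw [this]
    exact J_mul k 1 hfa hst
  · intro b
    exact ⟨0, zero_mem _, 0, zero_mem _, 0, zero_mem _, by simp⟩
  · intro z1 z2 _ _ h1 h2 b
    obtain ⟨δ1, hδ1, X1, hX1, Y1, hY1, h1'⟩ := h1 b
    obtain ⟨δ2, hδ2, X2, hX2, Y2, hY2, h2'⟩ := h2 b
    refine ⟨δ1 + δ2, add_mem hδ1 hδ2, X1 + X2, add_mem hX1 hX2, Y1 + Y2, add_mem hY1 hY2, ?_⟩
    have : b * (z1 + z2) - (algebraMap A B (δ1 + δ2) + (X1 + X2) * u' + (Y1 + Y2) * v')
        = (b * z1 - (algebraMap A B δ1 + X1 * u' + Y1 * v'))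
          + (b * z2 - (algebraMap A B δ2 + X2 * u' + Y2 * v')) := by
      rw [map_add]; ring
    rw [this]
    exact add_mem h1' h2'
  · intro c z1 _ h1 b
    obtain ⟨δ1, hδ1, X1, hX1, Y1, hY1, h1'⟩ := h1 (b * c)
    refine ⟨δ1, hδ1, X1, hX1, Y1, hY1, ?_⟩
    rw [smul_eq_mul, ← mul_assoc]
    exact h1'

section seq

variable (hres : Function.Surjective (ResidueField.map (algebraMap A B))) (u v : B)
  (hgen : maximalIdeal B = Ideal.span {u, v} ⊔ J A B 1)

/-- invariant at level `n` -/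
def Inv (u v : B) (n : ℕ) (p : B × B × A) : Prop :=
  p.1 - u ∈ J A B 1 ∧ p.2.1 - v ∈ J A B 1 ∧ p.2.2 ∈ maximalIdeal A ∧
    p.1 * p.2.1 - algebraMap A B p.2.2 ∈ J A B (n + 1)

/-- relation between consecutive terms -/
def Rel (n : ℕ) (p p' : B × B × A) : Prop :=
  p'.1 - p.1 ∈ J A B (n + 1) ∧ p'.2.1 - p.2.1 ∈ J A B (n + 1) ∧
    p'.2.2 - p.2.2 ∈ maximalIdeal A ^ (n + 1)

include hres hgen in
lemma step (n : ℕ) (p : B × B × A) (hp : Inv u v n p) :
    ∃ p' : B × B × A, Inv u v (n + 1) p' ∧ Rel n p p' := by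
  obtain ⟨u', v', e'⟩ := p
  obtain ⟨hu', hv', he', hrel⟩ := hp
  simp only at hu' hv' he' hrel
  have hgen' : ∀ x ∈ maximalIdeal B, ∃ s t : B, x - (s * u' + t * v') ∈ J A B 1 := by
    intro x hx
    rw [hgen, Submodule.mem_sup] at hx
    obtain ⟨y, hy, w, hw, rfl⟩ := hx
    obtain ⟨s, t, rfl⟩ := Ideal.mem_span_pair.1 hy
    refine ⟨s, t, ?_⟩
    have : s * u + t * v + w - (s * u' + t * v') = w - s * (u' - u) - t * (v' - v) := by ring
    rw [this]
    exact sub_mem (sub_mem hw (Ideal.mul_mem_left _ _ hu')) (Ideal.mul_mem_left _ _ hv')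
  obtain ⟨δ, hδ, X, hX, Y, hY, hw⟩ := decomp hres u' v' hgen' (n + 1) _ hrel
  have hle : J A B (n + 1) ≤ J A B 1 := J_anti (by omega)
  have hδm : δ ∈ maximalIdeal A := Ideal.pow_le_self (by omega) hδ
  refine ⟨(u' - Y, v' - X, e' + δ), ⟨?_, ?_, ?_, ?_⟩, ⟨?_, ?_, ?_⟩⟩
  · show u' - Y - u ∈ J A B 1
    have : u' - Y - u = (u' - u) - Y := by ring
    rw [this]; exact sub_mem hu' (hle hY)
  · show v' - X - v ∈ J A B 1
    have : v' - X - v = (v' - v) - X := by ring
    rw [this]; exact sub_mem hv' (hle hX)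
  · exact add_mem he' hδm
  · show (u' - Y) * (v' - X) - algebraMap A B (e' + δ) ∈ J A B (n + 1 + 1)
    have : (u' - Y) * (v' - X) - algebraMap A B (e' + δ)
        = (u' * v' - algebraMap A B e' - (algebraMap A B δ + X * u' + Y * v')) + X * Y := by
      rw [map_add]; ring
    rw [this]
    exact add_mem hw (J_mul (n + 1) 1 hX (hle hY))
  · show u' - Y - u' ∈ J A B (n + 1)
    have : u' - Y - u' = -Y := by ring
    rw [this]; exact neg_mem hY
  · show v' - X - v' ∈ J A B (n + 1)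
    have : v' - X - v' = -X := by ring
    rw [this]; exact neg_mem hX
  · show e' + δ - e' ∈ maximalIdeal A ^ (n + 1)
    have : e' + δ - e' = δ := by ring
    rw [this]; exact hδ

include hres hgen in
theorem main (hu : u ∈ maximalIdeal B) (hv : v ∈ maximalIdeal B) (huv : u * v ∈ J A B 1) :
    ∃ (us vs : ℕ → B) (ε : ℕ → A), us 0 = u ∧ vs 0 = v ∧
      ∀ n : ℕ, us n ∈ maximalIdeal B ∧ vs n ∈ maximalIdeal B ∧
        ε n ∈ maximalIdeal A ∧
        us (n + 1) - us n ∈ J A B (n + 1) ∧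
        vs (n + 1) - vs n ∈ J A B (n + 1) ∧
        ε (n + 1) - ε n ∈ maximalIdeal A ^ (n + 1) ∧
        us n * vs n - algebraMap A B (ε n) ∈ J A B (n + 1) := by
  classical
  have h0 : Inv u v 0 (u, v, (0 : A)) := by
    refine ⟨by simp, by simp, zero_mem _, ?_⟩
    simpa using huv
  let seq : ∀ n : ℕ, {p : B × B × A // Inv u v n p} := fun n =>
    Nat.rec (motive := fun n => {p : B × B × A // Inv u v n p}) ⟨(u, v, (0 : A)), h0⟩
      (fun n p => ⟨(step hres u v hgen n p.1 p.2).choose,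
        (step hres u v hgen n p.1 p.2).choose_spec.1⟩) n
  have hseq : ∀ n, Rel n (seq n).1 (seq (n + 1)).1 := fun n =>
    (step hres u v hgen n (seq n).1 (seq n).2).choose_spec.2
  refine ⟨fun n => (seq n).1.1, fun n => (seq n).1.2.1, fun n => (seq n).1.2.2, rfl, rfl, ?_⟩
  intro n
  obtain ⟨h1, h2, h3, h4⟩ := (seq n).2
  obtain ⟨r1, r2, r3⟩ := hseq n
  refine ⟨?_, ?_, h3, r1, r2, r3, h4⟩
  · show (seq n).1.1 ∈ maximalIdeal B
    have : (seq n).1.1 = u + ((seq n).1.1 - u) := by ring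
    rw [this]; exact add_mem hu (J_one_le h1)
  · show (seq n).1.2.1 ∈ maximalIdeal B
    have : (seq n).1.2.1 = v + ((seq n).1.2.1 - v) := by ring
    rw [this]; exact add_mem hv (J_one_le h2)

end seq

end Groth.Agent.Lib.Helper26.NodeApprox
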