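import Mathlib

set_option maxHeartbeats 400000
set_option autoImplicit false

namespace Groth.Agent.Lib.Helper26.NodeQuot

open MvPowerSeries

universe u

variable {k : Type u} [Field k]

lemma le11 (m : Fin 2 →₀ ℕ) :
    (Finsupp.single 0 1 + Finsupp.single 1 1 : Fin 2 →₀ ℕ) ≤ m ↔ 1 ≤ m 0 ∧ 1 ≤ m 1 := by
  rw [Finsupp.le_def, Fin.forall_fin_two]
  simp

lemma eq_single0 (m : Fin 2 →₀ ℕ) (h : m 1 = 0) : m = Finsupp.single 0 (m 0) := by
  ext i
  fin_cases i
  · simp
  · simp [h]

lemma eq_single1 (m : Fin 2 →₀ ℕ) (h : m 0 = 0) : m = Finsupp.single 1 (m 1) := by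
  ext i
  fin_cases i
  · simp [h]
  · simp

/-- the `xy`-part -/
noncomputable def gS (f : MvPowerSeries (Fin 2) k) : MvPowerSeries (Fin 2) k :=
  fun m => coeff (m + (Finsupp.single 0 1 + Finsupp.single 1 1)) f

/-- the `x^u`-part -/
noncomputable def aS (u : ℕ) (f : MvPowerSeries (Fin 2) k) : MvPowerSeries (Fin 2) k :=
  fun m => if m 1 = 0 then coeff (m + Finsupp.single 0 u) f else 0

/-- the `y^v`-part -/
noncomputable def bS (v : ℕ) (f : MvPowerSeries (Fin 2) k) : MvPowerSeries (Fin 2) k :=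
  fun m => if m 0 = 0 then coeff (m + Finsupp.single 1 v) f else 0

lemma coeff_gS (f : MvPowerSeries (Fin 2) k) (m : Fin 2 →₀ ℕ) :
    coeff m (gS f) = coeff (m + (Finsupp.single 0 1 + Finsupp.single 1 1)) f := rfl

lemma coeff_aS (u : ℕ) (f : MvPowerSeries (Fin 2) k) (m : Fin 2 →₀ ℕ) :
    coeff m (aS u f) = if m 1 = 0 then coeff (m + Finsupp.single 0 u) f else 0 := rfl

lemma coeff_bS (v : ℕ) (f : MvPowerSeries (Fin 2) k) (m : Fin 2 →₀ ℕ) :
    coeff m (bS v f) = if m 0 = 0 then coeff (m + Finsupp.single 1 v) f else 0 := rfl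

/-- coefficientwise decomposition -/
lemma decomp (u v : ℕ) (hu : 1 ≤ u) (hv : 1 ≤ v) (f : MvPowerSeries (Fin 2) k)
    (h0 : ∀ i < u, coeff (Finsupp.single 0 i) f = 0)
    (h1 : ∀ j < v, coeff (Finsupp.single 1 j) f = 0) :
    f = X 0 * X 1 * gS f + X 0 ^ u * aS u f + X 1 ^ v * bS v f := by
  classical
  ext m
  rw [map_add, map_add, X_pow_eq, X_pow_eq, X_def, X_def, monomial_mul_monomial, mul_one,
    coeff_monomial_mul, coeff_monomial_mul, coeff_monomial_mul, coeff_gS, coeff_aS, coeff_bS]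
  simp only [one_mul, le11, Finsupp.single_le_iff]
  have e1 : (m - (Finsupp.single 0 u : Fin 2 →₀ ℕ)) 1 = m 1 := by simp [Finsupp.tsub_apply]
  have e2 : (m - (Finsupp.single 1 v : Fin 2 →₀ ℕ)) 0 = m 0 := by simp [Finsupp.tsub_apply]
  rw [e1, e2]
  by_cases hm0 : 1 ≤ m 0
  · by_cases hm1 : 1 ≤ m 1
    · rw [if_pos ⟨hm0, hm1⟩, tsub_add_cancel_of_le ((le11 m).mpr ⟨hm0, hm1⟩)]
      rw [if_neg (by omega : ¬ m 1 = 0), if_neg (by omega : ¬ m 0 = 0)]
      simp
    · have hm1' : m 1 = 0 := by omega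
      rw [if_neg (by omega), if_neg (by omega : ¬ v ≤ m 1), if_pos hm1']
      by_cases hu' : u ≤ m 0
      · rw [if_pos hu', tsub_add_cancel_of_le (Finsupp.single_le_iff.mpr hu')]
        simp
      · rw [if_neg hu', eq_single0 m hm1', h0 _ (by omega)]
        simp
  · have hm0' : m 0 = 0 := by omega
    rw [if_neg (by omega), if_neg (by omega : ¬ u ≤ m 0), if_pos hm0']
    by_cases hv' : v ≤ m 1
    · rw [if_pos hv', tsub_add_cancel_of_le (Finsupp.single_le_iff.mpr hv')]
      simp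
    · rw [if_neg hv', eq_single1 m hm0', h1 _ (by omega)]
      simp

/-- the coefficient map -/
noncomputable def Φ (u v : ℕ) : MvPowerSeries (Fin 2) k →ₗ[k] (Fin u → k) × (Fin (v - 1) → k) :=
  LinearMap.prod (LinearMap.pi fun i : Fin u => coeff (Finsupp.single 0 i.1))
    (LinearMap.pi fun j : Fin (v - 1) => coeff (Finsupp.single 1 (j.1 + 1)))

lemma Φ_fst (u v : ℕ) (f : MvPowerSeries (Fin 2) k) (i : Fin u) :
    (Φ u v f).1 i = coeff (Finsupp.single 0 i.1) f := rfl

lemma Φ_snd (u v : ℕ) (f : MvPowerSeries (Fin 2) k) (j : Fin (v - 1)) :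
    (Φ u v f).2 j = coeff (Finsupp.single 1 (j.1 + 1)) f := rfl

lemma Φ_xy (u v : ℕ) (g : MvPowerSeries (Fin 2) k) : Φ u v (X 0 * X 1 * g) = 0 := by
  classical
  ext i
  · rw [Φ_fst, X_def, X_def, monomial_mul_monomial, coeff_monomial_mul, if_neg]
    · rfl
    · rw [le11]; simp
  · rw [Φ_snd, X_def, X_def, monomial_mul_monomial, coeff_monomial_mul, if_neg]
    · rfl
    · rw [le11]; simp

lemma Φ_xu (u v : ℕ) (hu : 1 ≤ u) (a : MvPowerSeries (Fin 2) k) : Φ u v (X 0 ^ u * a) = 0 := by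
  classical
  ext i
  · rw [Φ_fst, X_pow_eq, coeff_monomial_mul, if_neg]
    · rfl
    · rw [Finsupp.single_le_iff]; simp
  · rw [Φ_snd, X_pow_eq, coeff_monomial_mul, if_neg]
    · rfl
    · rw [Finsupp.single_le_iff]; simp; omega

lemma Φ_yv (u v : ℕ) (hv : 1 ≤ v) (b : MvPowerSeries (Fin 2) k) : Φ u v (X 1 ^ v * b) = 0 := by
  classical
  ext i
  · rw [Φ_fst, X_pow_eq, coeff_monomial_mul, if_neg]
    · rfl
    · rw [Finsupp.single_le_iff]; simp; omega
  · rw [Φ_snd, X_pow_eq, coeff_monomial_mul, if_neg]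
    · rfl
    · rw [Finsupp.single_le_iff]; simp; omega

lemma Φ_surj (u v : ℕ) : Function.Surjective (Φ (k := k) u v) := by
  classical
  rintro ⟨α, β⟩
  refine ⟨∑ i : Fin u, monomial (Finsupp.single 0 i.1) (α i) +
    ∑ j : Fin (v - 1), monomial (Finsupp.single 1 (j.1 + 1)) (β j), ?_⟩
  ext i
  · rw [Φ_fst, map_add, map_sum, map_sum]
    simp only [coeff_monomial]
    rw [Finset.sum_eq_single i, if_pos rfl, Finset.sum_eq_zero, add_zero]
    · intro j _
      rw [if_neg]
      intro h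
      have := DFunLike.congr_fun h 1
      simp at this
    · intro i' _ hi'
      rw [if_neg]
      intro h
      have := DFunLike.congr_fun h 0
      simp at this
      exact hi' (Fin.ext this.symm)
    · intro h; exact absurd (Finset.mem_univ _) h
  · rw [Φ_snd, map_add, map_sum, map_sum]
    simp only [coeff_monomial]
    rw [Finset.sum_eq_zero, zero_add, Finset.sum_eq_single i, if_pos rfl]
    · intro i' _ hi'
      rw [if_neg]
      intro h
      have := DFunLike.congr_fun h 1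
      simp at this
      exact hi' (Fin.ext this.symm)
    · intro h; exact absurd (Finset.mem_univ _) h
    · intro j _
      rw [if_neg]
      intro h
      have := DFunLike.congr_fun h 1
      simp at this

theorem main (u v : ℕ) (hu : 1 ≤ u) (hv : 1 ≤ v) (w : k) (hw : w ≠ 0) :
    Module.finrank k
      ((MvPowerSeries (Fin 2) k ⧸ Ideal.span
          {(X 0 * X 1 - C (0 : k) : MvPowerSeries (Fin 2) k)}) ⧸
        Ideal.span {(Ideal.Quotient.mk (Ideal.span
            {(X 0 * X 1 - C (0 : k) : MvPowerSeries (Fin 2) k)}) (X 0)) ^ u,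
          algebraMap k (MvPowerSeries (Fin 2) k ⧸ Ideal.span
            {(X 0 * X 1 - C (0 : k) : MvPowerSeries (Fin 2) k)}) w *
          (Ideal.Quotient.mk (Ideal.span
            {(X 0 * X 1 - C (0 : k) : MvPowerSeries (Fin 2) k)}) (X 1)) ^ v}) = u + v - 1 := by
  obtain ⟨I, hI⟩ : ∃ I, I = Ideal.span {(X 0 * X 1 - C (0 : k) : MvPowerSeries (Fin 2) k)} :=
    ⟨_, rfl⟩
  rw [← hI]
  obtain ⟨L, hL⟩ : ∃ L, L = Ideal.span {(Ideal.Quotient.mk I (X 0)) ^ u,
      algebraMap k (MvPowerSeries (Fin 2) k ⧸ I) w * (Ideal.Quotient.mk I (X 1)) ^ v} := ⟨_, rfl⟩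
  rw [← hL]
  have hxy : Ideal.Quotient.mk I (X 0 * X 1 : MvPowerSeries (Fin 2) k) = 0 := by
    rw [Ideal.Quotient.eq_zero_iff_mem, hI, Ideal.mem_span_singleton']
    exact ⟨1, by rw [map_zero, sub_zero, one_mul]⟩
  have hw' : algebraMap k (MvPowerSeries (Fin 2) k ⧸ I) w = Ideal.Quotient.mk I (C w) := rfl
  let Ψ : MvPowerSeries (Fin 2) k →ₗ[k] ((MvPowerSeries (Fin 2) k ⧸ I) ⧸ L) :=
    (Ideal.Quotient.mkₐ k L).toLinearMap ∘ₗ (Ideal.Quotient.mkₐ k I).toLinearMap
  have hΨ : ∀ f, Ψ f = Ideal.Quotient.mk L (Ideal.Quotient.mk I f) := fun f => rfl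
  have hΨsurj : Function.Surjective Ψ := by
    intro y
    obtain ⟨y', rfl⟩ := Ideal.Quotient.mk_surjective y
    obtain ⟨y'', rfl⟩ := Ideal.Quotient.mk_surjective y'
    exact ⟨y'', rfl⟩
  have hker : LinearMap.ker Ψ = LinearMap.ker (Φ (k := k) u v) := by
    ext f
    rw [LinearMap.mem_ker, LinearMap.mem_ker, hΨ, Ideal.Quotient.eq_zero_iff_mem]
    constructor
    · intro hf
      rw [hL, Ideal.mem_span_pair] at hf
      obtain ⟨a, b, hab⟩ := hf
      obtain ⟨a', rfl⟩ := Ideal.Quotient.mk_surjective a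
      obtain ⟨b', rfl⟩ := Ideal.Quotient.mk_surjective b
      rw [hw', ← map_pow, ← map_pow, ← map_mul, ← map_mul, ← map_mul, ← map_add,
        Ideal.Quotient.eq, hI, Ideal.mem_span_singleton'] at hab
      obtain ⟨c, hc⟩ := hab
      have hf' : f = X 0 ^ u * a' + X 1 ^ v * (b' * C w) - X 0 * X 1 * c := by
        rw [map_zero, sub_zero] at hc
        linear_combination hc
      rw [hf', map_sub, map_add, Φ_xy, Φ_xu u v hu, Φ_yv u v hv]
      simp
    · intro hf
      have h0 : ∀ i < u, coeff (Finsupp.single 0 i) f = 0 := by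
        intro i hi
        have := congrArg (fun z => z.1 ⟨i, hi⟩) hf
        simpa [Φ_fst] using this
      have h1 : ∀ j < v, coeff (Finsupp.single 1 j) f = 0 := by
        intro j hj
        rcases Nat.eq_zero_or_pos j with rfl | hj0
        · have := h0 0 (by omega)
          simpa using this
        · have := congrArg (fun z => z.2 ⟨j - 1, by omega⟩) hf
          simp only [Φ_snd, Prod.snd_zero, Pi.zero_apply] at this
          rwa [show j - 1 + 1 = j by omega] at this
      have hd := decomp u v hu hv f h0 h1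
      rw [hd, map_add, map_add, map_mul, hxy, zero_mul, zero_add, map_mul, map_mul, map_pow,
        map_pow, hL]
      refine Submodule.add_mem _ ?_ ?_
      · exact Ideal.mul_mem_right _ _ (Ideal.subset_span (by simp))
      · have : (Ideal.Quotient.mk I (X 1)) ^ v * Ideal.Quotient.mk I (bS v f) =
            (algebraMap k (MvPowerSeries (Fin 2) k ⧸ I) w * (Ideal.Quotient.mk I (X 1)) ^ v) *
              (Ideal.Quotient.mk I (C w⁻¹ * bS v f)) := by
          rw [hw', map_mul]
          have hcw : Ideal.Quotient.mk I (C w) * Ideal.Quotient.mk I (C w⁻¹) = 1 := by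
            rw [← map_mul, ← map_mul, mul_inv_cancel₀ hw, map_one, map_one]
          linear_combination (-(Ideal.Quotient.mk I (X 1)) ^ v * Ideal.Quotient.mk I (bS v f)) * hcw
        rw [this]
        exact Ideal.mul_mem_right _ _ (Ideal.subset_span (by simp))
  have e1 := Ψ.quotKerEquivOfSurjective hΨsurj
  have e2 := (Φ (k := k) u v).quotKerEquivOfSurjective (Φ_surj u v)
  rw [← e1.finrank_eq, hker, e2.finrank_eq, Module.finrank_prod, Module.finrank_fin_fun,
    Module.finrank_fin_fun]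
  omega

end Groth.Agent.Lib.Helper26.NodeQuot
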