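import Mathlib
set_option maxHeartbeats 400000
set_option autoImplicit false
universe u v w

/-! S13117: for a finite algebra over an algebraically closed field, the norm of `f` is the product
over the points `φ` of `φ f ^ dim (A localized at ker φ)`. -/
namespace Groth.Agent.Lib.Helper26.NormPoints

/-- determinant of a dependent diagonal endomorphism of a finite product -/
theorem det_pi_dep (R : Type w) [CommRing R] (ι : Type u) [Finite ι] :
    ∀ (_ : Fintype ι) (M : ι → Type v) [∀ i, AddCommGroup (M i)] [∀ i, Module R (M i)]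
      [∀ i, Module.Free R (M i)] [∀ i, Module.Finite R (M i)] (f : ∀ i, M i →ₗ[R] M i),
      LinearMap.det (LinearMap.pi (fun i => (f i).comp (LinearMap.proj i))) =
        ∏ i, LinearMap.det (f i) := by
  refine Finite.induction_empty_option
    (P := fun ι => ∀ (_ : Fintype ι) (M : ι → Type v) [∀ i, AddCommGroup (M i)]
      [∀ i, Module R (M i)] [∀ i, Module.Free R (M i)] [∀ i, Module.Finite R (M i)]
      (f : ∀ i, M i →ₗ[R] M i),
      LinearMap.det (LinearMap.pi (fun i => (f i).comp (LinearMap.proj i))) =
        ∏ i, LinearMap.det (f i)) ?_ ?_ ?_ ι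
  · intro α β e hα instβ M _ _ _ _ f
    letI : Fintype α := Fintype.ofEquiv β e.symm
    have h1 := hα inferInstance (fun a => M (e a)) (fun a => f (e a))
    let E := LinearEquiv.piCongrLeft' R M e.symm
    have h2 : LinearMap.pi (fun i => (f i).comp (LinearMap.proj i)) =
        E.symm.toLinearMap.comp
          ((LinearMap.pi (fun a => (f (e a)).comp (LinearMap.proj a))).comp
            E.symm.symm.toLinearMap) := by
      apply LinearMap.ext
      intro y
      apply E.injective
      simp only [LinearMap.comp_apply, LinearEquiv.coe_coe, LinearEquiv.apply_symm_apply, LinearEquiv.symm_symm]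
      rfl
    rw [h2, LinearMap.det_conj _ E.symm, h1]
    exact Fintype.prod_equiv e _ _ (fun a => rfl)
  · intro inst M _ _ _ _ f
    rw [LinearMap.det_eq_one_of_subsingleton]
    simp
  · intro α _ hα inst M _ _ _ _ f
    have h1 := hα inferInstance (fun a => M (some a)) (fun a => f (some a))
    let E := LinearEquiv.piOptionEquivProd R (M := M)
    have h2 : LinearMap.pi (fun i => (f i).comp (LinearMap.proj i)) =
        E.symm.toLinearMap.comp
          ((LinearMap.prodMap (f none)
            (LinearMap.pi (fun a => (f (some a)).comp (LinearMap.proj a)))).comp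
              E.symm.symm.toLinearMap) := by
      apply LinearMap.ext
      intro y
      apply E.injective
      simp only [LinearMap.comp_apply, LinearEquiv.coe_coe, LinearEquiv.apply_symm_apply, LinearEquiv.symm_symm]
      rfl
    rw [h2, LinearMap.det_conj _ E.symm, LinearMap.det_prodMap, h1]
    have : inst = (instFintypeOption : Fintype (Option α)) := Subsingleton.elim _ _
    subst this
    rw [Fintype.prod_option]

theorem norm_pi (R : Type w) [CommRing R] (ι : Type u) [Fintype ι] (B : ι → Type v)
    [∀ i, CommRing (B i)] [∀ i, Algebra R (B i)] [∀ i, Module.Free R (B i)]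
    [∀ i, Module.Finite R (B i)] (x : ∀ i, B i) :
    Algebra.norm R x = ∏ i, Algebra.norm R (x i) := by
  rw [Algebra.norm_apply]
  have h : Algebra.lmul R (∀ i, B i) x =
      LinearMap.pi (fun i => (Algebra.lmul R (B i) (x i)).comp (LinearMap.proj i)) := by
    apply LinearMap.ext
    intro y
    ext i
    simp
  rw [h, det_pi_dep R ι inferInstance B]
  rfl

theorem norm_local (k : Type w) [Field k] (B : Type v) [CommRing B] [Algebra k B]
    [Module.Finite k B] (ψ : B →ₐ[k] k) (hψ : ∀ b, ψ b = 0 → IsNilpotent b) (b : B) :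
    Algebra.norm k b = ψ b ^ Module.finrank k B := by
  have hν : IsNilpotent (algebraMap k B (ψ b) - b) := by
    apply hψ
    rw [map_sub, AlgHom.commutes, Algebra.algebraMap_self_apply, sub_self]
  have hN : IsNilpotent (Algebra.lmul k B (algebraMap k B (ψ b) - b)) := hν.map _
  have h1 := LinearMap.eval_charpoly (Algebra.lmul k B (algebraMap k B (ψ b) - b)) (ψ b)
  rw [IsNilpotent.charpoly_eq_X_pow_finrank hN, Polynomial.eval_pow, Polynomial.eval_X] at h1
  rw [h1, Algebra.norm_apply]
  congr 1
  apply LinearMap.ext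
  intro y
  simp [Algebra.smul_def, sub_mul]

section
variable (k A : Type u) [Field k] [IsAlgClosed k] [CommRing A] [Algebra k A] [Module.Finite k A]

theorem comap_bot_isMaximal (φ : A →ₐ[k] k) : (Ideal.comap φ ⊥).IsMaximal :=
  RingHom.ker_isMaximal_of_surjective φ.toRingHom (fun c => ⟨algebraMap k A c, by simp⟩)

noncomputable def locHom (φ : A →ₐ[k] k) : Localization.AtPrime (Ideal.comap φ ⊥) →ₐ[k] k :=
  { IsLocalization.lift (M := (Ideal.comap φ ⊥).primeCompl) (g := φ.toRingHom) (fun y => by
      rw [isUnit_iff_ne_zero]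
      intro h
      exact y.2 (by simpa [Ideal.mem_comap] using h)) with
    commutes' := fun c => by
      simp [IsScalarTower.algebraMap_apply k A (Localization.AtPrime (Ideal.comap φ ⊥)),
        IsLocalization.lift_eq] }

theorem locHom_algebraMap (φ : A →ₐ[k] k) (x : A) :
    locHom k A φ (algebraMap A (Localization.AtPrime (Ideal.comap φ ⊥)) x) = φ x := by
  simp [locHom, IsLocalization.lift_eq]

theorem isNilpotent_of_locHom_eq_zero (φ : A →ₐ[k] k)
    (b : Localization.AtPrime (Ideal.comap φ ⊥)) (hb : locHom k A φ b = 0) : IsNilpotent b := by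
  haveI : IsArtinianRing A := IsArtinianRing.of_finite k A
  haveI : IsArtinianRing (Localization.AtPrime (Ideal.comap φ ⊥)) := inferInstance
  have hmem : b ∈ IsLocalRing.maximalIdeal (Localization.AtPrime (Ideal.comap φ ⊥)) := by
    rw [IsLocalRing.mem_maximalIdeal, mem_nonunits_iff]
    intro hu
    have := hu.map (locHom k A φ)
    rw [hb] at this
    exact not_isUnit_zero this
  have hnil := IsArtinianRing.isNilpotent_jacobson_bot (R := Localization.AtPrime (Ideal.comap φ ⊥))
  rw [IsLocalRing.jacobson_eq_maximalIdeal _ bot_ne_top] at hnil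
  obtain ⟨n, hn⟩ := hnil
  refine ⟨n, ?_⟩
  have := Ideal.pow_mem_pow hmem n
  rw [hn] at this
  exact this

/-- points ↦ maximal ideals -/
noncomputable def toMax (φ : A →ₐ[k] k) : MaximalSpectrum A :=
  ⟨Ideal.comap φ ⊥, comap_bot_isMaximal k A φ⟩

theorem toMax_injective : Function.Injective (toMax k A) := by
  intro φ ψ h
  have hker : Ideal.comap φ ⊥ = Ideal.comap ψ ⊥ := congrArg MaximalSpectrum.asIdeal h
  apply AlgHom.ext
  intro x
  have hx : x - algebraMap k A (φ x) ∈ Ideal.comap φ ⊥ := by
    rw [Ideal.mem_comap, Ideal.mem_bot, map_sub, AlgHom.commutes, Algebra.algebraMap_self_apply, sub_self]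
  rw [hker, Ideal.mem_comap, Ideal.mem_bot, map_sub, AlgHom.commutes, Algebra.algebraMap_self_apply,
    sub_eq_zero] at hx
  exact hx.symm

theorem toMax_surjective : Function.Surjective (toMax k A) := by
  intro I
  haveI := I.isMaximal
  letI : Field (A ⧸ I.asIdeal) := Ideal.Quotient.field _
  haveI : Algebra.IsIntegral k (A ⧸ I.asIdeal) := inferInstance
  have hbij : Function.Bijective (Algebra.ofId k (A ⧸ I.asIdeal)) :=
    IsAlgClosed.algebraMap_bijective_of_isIntegral (k := k) (K := A ⧸ I.asIdeal)
  let e : k ≃ₐ[k] (A ⧸ I.asIdeal) := AlgEquiv.ofBijective _ hbij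
  refine ⟨e.symm.toAlgHom.comp (Ideal.Quotient.mkₐ k I.asIdeal), ?_⟩
  apply MaximalSpectrum.ext
  ext x
  simp only [toMax, Ideal.mem_comap, Ideal.mem_bot, AlgHom.comp_apply, Ideal.Quotient.mkₐ_eq_mk]
  change e.symm (Ideal.Quotient.mk I.asIdeal x) = 0 ↔ _
  rw [map_eq_zero_iff _ e.symm.injective, Ideal.Quotient.eq_zero_iff_mem]

theorem finite_loc (I : MaximalSpectrum A) : Module.Finite k (Localization.AtPrime I.asIdeal) := by
  haveI : IsArtinianRing A := IsArtinianRing.of_finite k A
  have hs := IsArtinianRing.localization_surjective I.asIdeal.primeCompl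
    (Localization.AtPrime I.asIdeal)
  exact Module.Finite.of_surjective
    (IsScalarTower.toAlgHom k A (Localization.AtPrime I.asIdeal)).toLinearMap hs

theorem main (f : A) :
    Algebra.norm k f =
      ∏ᶠ φ : A →ₐ[k] k, φ f ^ Module.finrank k (Localization.AtPrime (Ideal.comap φ ⊥)) := by
  haveI : IsArtinianRing A := IsArtinianRing.of_finite k A
  haveI : Fintype (MaximalSpectrum A) := Fintype.ofFinite _
  haveI := fun I : MaximalSpectrum A => finite_loc k A I
  let E : A ≃ₐ[k] (∀ I : MaximalSpectrum A, Localization.AtPrime I.asIdeal) :=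
    (MaximalSpectrum.toPiLocalizationEquiv A).restrictScalars k
  rw [← Algebra.norm_eq_of_algEquiv E f, norm_pi k (MaximalSpectrum A)
    (fun I => Localization.AtPrime I.asIdeal)]
  rw [← finprod_eq_prod_of_fintype]
  symm
  apply finprod_eq_of_bijective (toMax k A) ⟨toMax_injective k A, toMax_surjective k A⟩
  intro φ
  haveI : Module.Finite k (Localization.AtPrime (Ideal.comap φ ⊥)) := finite_loc k A (toMax k A φ)
  have h1 := norm_local k (Localization.AtPrime (Ideal.comap φ ⊥)) (locHom k A φ)
    (isNilpotent_of_locHom_eq_zero k A φ)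
    (algebraMap A (Localization.AtPrime (Ideal.comap φ ⊥)) f)
  rw [locHom_algebraMap] at h1
  rw [← h1]
  rfl

end
end Groth.Agent.Lib.Helper26.NormPoints
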