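import Mathlib
set_option maxHeartbeats 400000
namespace Groth.Agent.Lib.Helper26.NormSurj

universe u

theorem main
    (A B K L : Type u) [CommRing A] [IsDomain A] [IsNoetherianRing A] [IsIntegrallyClosed A]
    [CommRing B] [IsDomain B] [Field K] [Field L]
    [Algebra A B] [Algebra A K] [IsFractionRing A K] [Algebra B L] [IsFractionRing B L]
    [Algebra K L] [Algebra A L] [IsScalarTower A K L] [IsScalarTower A B L]
    (hinj : Function.Injective (algebraMap A B))
    (hsurj : ∀ p : Ideal A, p.IsPrime → ∃ q : Ideal B, q.IsPrime ∧ q.comap (algebraMap A B) = p)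
    (a : K) (ha : algebraMap K L a ∈ (algebraMap B L).range) :
    a ∈ (algebraMap A K).range := by
  by_contra hna
  -- the conductor ideal of `a`
  let I : Ideal A :=
    { carrier := {c | c • a ∈ (algebraMap A K).range}
      zero_mem' := by simp
      add_mem' := by
        intro x y hx hy
        simp only [Set.mem_setOf_eq] at *
        rw [add_smul]; exact add_mem hx hy
      smul_mem' := by
        intro c x hx
        simp only [Set.mem_setOf_eq, smul_eq_mul] at *
        obtain ⟨z, hz⟩ := hx
        refine ⟨c * z, ?_⟩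
        rw [map_mul, hz, mul_smul, Algebra.smul_def c] }
  have hI : I ≠ ⊤ := by
    intro h
    have : (1 : A) ∈ I := by rw [h]; trivial
    have this : (1 : A) • a ∈ (algebraMap A K).range := this
    rw [one_smul] at this
    exact hna this
  haveI : Nontrivial (A ⧸ I) := Ideal.Quotient.nontrivial_iff.mpr hI
  obtain ⟨P, hP⟩ := associatedPrimes.nonempty A (A ⧸ I)
  rw [AssociatedPrimes.mem_iff, isAssociatedPrime_iff] at hP
  obtain ⟨hPprime, x, hPx⟩ := hP
  obtain ⟨c, rfl⟩ := Ideal.Quotient.mk_surjective x
  -- `P = (A : c a)`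
  have hPmem : ∀ d : A, d ∈ P ↔ (d * c) • a ∈ (algebraMap A K).range := by
    intro d
    rw [hPx, Submodule.mem_colon_singleton, Submodule.mem_bot, ← Ideal.Quotient.mk_eq_mk,
      ← Submodule.Quotient.mk_smul, Ideal.Quotient.mk_eq_mk, Ideal.Quotient.eq_zero_iff_mem,
      smul_eq_mul]
    rfl
  set a' : K := c • a with ha'
  have hPmem' : ∀ d : A, d ∈ P ↔ d • a' ∈ (algebraMap A K).range := by
    intro d; rw [hPmem, ha', mul_smul]
  have ha'B : algebraMap K L a' ∈ (algebraMap B L).range := by
    obtain ⟨b, hb⟩ := ha
    refine ⟨algebraMap A B c * b, ?_⟩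
    rw [map_mul, hb, ha', Algebra.smul_def, map_mul, ← IsScalarTower.algebraMap_apply,
      ← IsScalarTower.algebraMap_apply, IsScalarTower.algebraMap_apply A K L]
  obtain ⟨b, hb⟩ := ha'B
  by_cases hcase : ∀ u ∈ P, ∀ z : A, algebraMap A K z = u • a' → z ∈ P
  · -- `a' P ⊆ P`: `a'` integral
    have hP0 : P ≠ ⊥ := by
      intro h0
      obtain ⟨⟨x, y⟩, hxy⟩ := IsLocalization.surj (nonZeroDivisors A) a'
      have : (y : A) ∈ P := by
        rw [hPmem']
        refine ⟨x, ?_⟩
        rw [← hxy, Algebra.smul_def, mul_comm]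
      rw [h0, Ideal.mem_bot] at this
      exact nonZeroDivisors.coe_ne_zero y this
    -- N = image of P in K
    let N : Submodule A K := Submodule.map (Algebra.linearMap A K) P
    have hN0 : N ≠ ⊥ := by
      intro h0
      apply hP0
      rw [eq_bot_iff]
      intro u hu
      have : algebraMap A K u ∈ N := ⟨u, hu, rfl⟩
      rw [h0, Submodule.mem_bot] at this
      rw [Ideal.mem_bot]
      exact (IsFractionRing.injective A K) (by rw [this, map_zero])
    have hNfg : N.FG := (IsNoetherian.noetherian P).map _
    have hint : IsIntegral A a' := by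
      refine isIntegral_of_smul_mem_submodule N hN0 hNfg a' ?_
      rintro _ ⟨u, hu, rfl⟩
      have h1 : u • a' ∈ (algebraMap A K).range := (hPmem' u).mp hu
      obtain ⟨z, hz⟩ := h1
      refine ⟨z, hcase u hu z hz, ?_⟩
      change algebraMap A K z = a' • algebraMap A K u
      rw [hz, Algebra.smul_def, smul_eq_mul, mul_comm]
    obtain ⟨z, hz⟩ := (IsIntegrallyClosed.isIntegral_iff (R := A) (K := K)).mp hint
    have : (1 : A) ∈ P := by
      rw [hPmem', one_smul]; exact ⟨z, hz⟩
    exact hPprime.ne_top ((Ideal.eq_top_iff_one P).mpr this)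
  · push Not at hcase
    obtain ⟨u, hu, z, hz, hzP⟩ := hcase
    obtain ⟨q, hq, hqP⟩ := hsurj P hPprime
    have hinjL : Function.Injective (algebraMap B L) := IsFractionRing.injective B L
    have : algebraMap A B z = algebraMap A B u * b := by
      apply hinjL
      rw [map_mul, hb, ← IsScalarTower.algebraMap_apply, ← IsScalarTower.algebraMap_apply,
        IsScalarTower.algebraMap_apply A K L, hz, Algebra.smul_def, map_mul,
        ← IsScalarTower.algebraMap_apply]
    have huq : algebraMap A B u ∈ q := by
      have : u ∈ q.comap (algebraMap A B) := by rw [hqP]; exact hu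
      exact this
    have : z ∈ q.comap (algebraMap A B) := by
      rw [Ideal.mem_comap, this]
      exact Ideal.mul_mem_right _ _ huq
    rw [hqP] at this
    exact hzP this

end Groth.Agent.Lib.Helper26.NormSurj
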