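import Groth.Prelude.Def_EGA4b
import Mathlib

/-!
Polynomial ring over a normal ring is normal.
-/

set_option autoImplicit false
universe u

namespace Groth.Agent.Lib.Helper26.NormalPoly

open IsLocalRing Polynomial Ideal

set_option backward.isDefEq.respectTransparency false in
theorem main (R : Type u) [CommRing R] (hR : EGA4.IsNormalRing R) :
    EGA4.IsNormalRing (Polynomial R) := by
  intro p hp
  let q := p.comap C
  let S := (Localization.AtPrime q)[X]
  let pc := Submonoid.map Polynomial.C.toMonoidHom q.primeCompl
  let : Algebra R[X] S := algebra R (Localization.AtPrime q)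
  have : IsLocalization pc S := Polynomial.isLocalization _ _
  let pS := p.map (algebraMap R[X] S)
  have disj : Disjoint (pc : Set R[X]) (p : Set R[X]) := by
    simpa [pc, q] using! Set.disjoint_image_left.mpr
      (Set.disjoint_compl_left_iff_subset.mpr (fun _ a ↦ a))
  have : pS.IsPrime := IsLocalization.isPrime_of_isPrime_disjoint pc _ _ ‹_› disj
  have : IsLocalization.AtPrime (Localization.AtPrime pS) p := by
    convert IsLocalization.isLocalization_isLocalization_atPrime_isLocalization pc
      (Localization.AtPrime pS) pS
    exact (IsLocalization.under_map_of_isPrime_disjoint pc _ ‹_› disj).symm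
  obtain ⟨hdom, hic⟩ := hR q
  haveI : IsDomain (Localization.AtPrime q) := hdom
  haveI : IsIntegrallyClosed (Localization.AtPrime q) := hic
  haveI : IsDomain S := inferInstance
  haveI : IsIntegrallyClosed S := inferInstance
  have h1 : IsIntegrallyClosed (Localization.AtPrime pS) :=
    isIntegrallyClosed_of_isLocalization _ pS.primeCompl pS.primeCompl_le_nonZeroDivisors
  have h2 : IsDomain (Localization.AtPrime pS) :=
    IsLocalization.isDomain_localization pS.primeCompl_le_nonZeroDivisors
  let e : Localization.AtPrime pS ≃+* Localization.AtPrime p :=
    (IsLocalization.algEquiv p.primeCompl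
      (Localization.AtPrime pS) (Localization.AtPrime p)).toRingEquiv
  exact ⟨e.toMulEquiv.isDomain_iff.1 h2, IsIntegrallyClosed.of_equiv (R := Localization.AtPrime pS) (h := h1) e⟩

end Groth.Agent.Lib.Helper26.NormalPoly
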