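import Groth.Prelude.Def_CartDual
import Groth.Prelude.Def_SGA3b
import Mathlib.RingTheory.Bialgebra.Convolution

/-!
The power maps of the dual Hopf algebra are the transposes of the power maps.
-/

set_option autoImplicit false
universe u

namespace Groth.Agent.Lib.Helper26.PowConvDual

open WithConv TensorProduct CartDual

variable (R : Type u) [CommRing R] (A : Type u) [CommRing A] [HopfAlgebra R A]
  [Coalgebra.IsCocomm R A] [Module.Finite R A] [Module.Projective R A]

/-- transpose of a linear endomorphism, on the dual Hopf algebra -/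
noncomputable def T (g : A →ₗ[R] A) : D R A →ₗ[R] D R A :=
  (toDual R A).symm.toLinearMap ∘ₗ g.dualMap ∘ₗ (toDual R A).toLinearMap

variable {R A}

lemma T_apply (g : A →ₗ[R] A) (x : D R A) (a : A) : T R A g x a = x (g a) := rfl

lemma ofConv_T (g : A →ₗ[R] A) (x : D R A) : (T R A g x).ofConv = x.ofConv ∘ₗ g := rfl

lemma ofConv_mul'_map_T (g h : A →ₗ[R] A) (y : D R A ⊗[R] D R A) :
    (LinearMap.mul' R (D R A) (TensorProduct.map (T R A g) (T R A h) y)).ofConv =
      ev₂ R A y ∘ₗ TensorProduct.map g h ∘ₗ Coalgebra.comul := by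
  induction y using TensorProduct.induction_on with
  | zero => simp
  | add y₁ y₂ h₁ h₂ => simp only [map_add, WithConv.ofConv_add, h₁, h₂, LinearMap.add_comp]
  | tmul x z =>
    rw [TensorProduct.map_tmul, LinearMap.mul'_apply, LinearMap.convMul_def,
      WithConv.ofConv_toConv, ofConv_T, ofConv_T, ev₂_tmul_eq', LinearMap.comp_assoc]
    congr 1
    apply LinearMap.ext; intro a
    simp only [LinearMap.coe_comp, Function.comp_apply]
    generalize Coalgebra.comul (R := R) a = t
    induction t using TensorProduct.induction_on with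
    | zero => simp only [map_zero]
    | tmul b c => rfl
    | add t t' ht ht' => simp only [map_add, ht, ht']

lemma T_mul (g h : WithConv (A →ₗ[R] A)) :
    toConv (T R A (g * h).ofConv) = toConv (T R A g.ofConv) * toConv (T R A h.ofConv) := by
  apply WithConv.ofConv_injective
  apply LinearMap.ext; intro x
  apply WithConv.ext
  show (T R A (g * h).ofConv x).ofConv
    = (LinearMap.mul' R (D R A) (TensorProduct.map (T R A g.ofConv) (T R A h.ofConv)
        (Coalgebra.comul x))).ofConv
  rw [ofConv_mul'_map_T, comul_def, ev₂_comul, ofConv_T, LinearMap.convMul_def,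
    WithConv.ofConv_toConv]
  rfl

lemma T_one : toConv (T R A (1 : WithConv (A →ₗ[R] A)).ofConv) = 1 := by
  apply WithConv.ofConv_injective
  apply LinearMap.ext; intro x
  apply WithConv.ext
  apply LinearMap.ext; intro a
  show x ((1 : WithConv (A →ₗ[R] A)) a)
    = ((1 : WithConv (D R A →ₗ[R] D R A)) x) a
  rw [LinearMap.convOne_apply, LinearMap.convOne_apply]
  simp [Algebra.algebraMap_eq_smul_one, LinearMap.convOne_def, mul_comm]

lemma T_pow (g : WithConv (A →ₗ[R] A)) (n : ℕ) :
    toConv (T R A (g ^ n).ofConv) = (toConv (T R A g.ofConv)) ^ n := by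
  induction n with
  | zero => rw [pow_zero, pow_zero, T_one]
  | succ n ih => rw [pow_succ, pow_succ, T_mul, ih]

lemma T_id : T R A (LinearMap.id) = LinearMap.id := rfl

theorem powConv_dual (n : ℕ) :
    (SGA3b.powConv R (D R A) n).toLinearMap = T R A (SGA3b.powConv R A n).toLinearMap := by
  have h1 : WithConv.toConv (SGA3b.powConv R A n).toLinearMap
      = (WithConv.toConv (LinearMap.id : A →ₗ[R] A)) ^ n :=
    AlgHom.toLinearMap_convPow (WithConv.toConv (AlgHom.id R A)) n
  have h2 : WithConv.toConv (SGA3b.powConv R (D R A) n).toLinearMap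
      = (WithConv.toConv (LinearMap.id : D R A →ₗ[R] D R A)) ^ n :=
    AlgHom.toLinearMap_convPow (WithConv.toConv (AlgHom.id R (D R A))) n
  have h3 := T_pow (R := R) (A := A) (WithConv.toConv (LinearMap.id : A →ₗ[R] A)) n
  rw [← h1] at h3
  rw [WithConv.ofConv_toConv, WithConv.ofConv_toConv, T_id, ← h2] at h3
  exact (WithConv.toConv_injective h3).symm

theorem powConv_dual_apply (n : ℕ) (x : D R A) (a : A) :
    (SGA3b.powConv R (D R A) n x) a = x (SGA3b.powConv R A n a) := by
  have := LinearMap.congr_fun (powConv_dual (R := R) (A := A) n) x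
  exact congrArg (fun y : D R A => y a) this

end Groth.Agent.Lib.Helper26.PowConvDual
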