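import Groth.Agent.Lib.Helper26.OTEigen
import Groth.Agent.Lib.Helper26.PowConvDual

/-!
Duality between the eigen-submodules of the augmentation ideals of `A` and of its Cartier dual.
-/

set_option autoImplicit false
universe u

namespace Groth.Agent.Lib.Helper26.OTDual

open WithConv CartDual Groth.Agent.Lib.Helper26 Groth.Agent.Lib.Helper26.OTEigen

section A

variable {R : Type u} [CommRing R] {A : Type u} [CommRing A] [HopfAlgebra R A]
  {p : ℕ} [Fact p.Prime]

lemma proj_mem_ker (u : R) (χ : (ZMod p)ˣ →* Rˣ) (i : ℕ) (x : A)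
    (hx : x ∈ LinearMap.ker (Bialgebra.counitAlgHom R A).toLinearMap) :
    OortTate.proj R A p u χ i x ∈ LinearMap.ker (Bialgebra.counitAlgHom R A).toLinearMap := by
  rw [LinearMap.mem_ker] at hx ⊢
  unfold OortTate.proj
  rw [LinearMap.smul_apply, LinearMap.sum_apply, map_smul, map_sum]
  have : ∀ m : (ZMod p)ˣ, (Bialgebra.counitAlgHom R A).toLinearMap
      (((((χ m⁻¹ : Rˣ) : R) ^ i) • (SGA3b.powConv R A (m : ZMod p).val).toLinearMap) x) = 0 := by
    intro m
    rw [LinearMap.smul_apply, map_smul]
    have : (Bialgebra.counitAlgHom R A).toLinearMap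
        ((SGA3b.powConv R A (m : ZMod p).val).toLinearMap x) = 0 := by
      show Coalgebra.counit (R := R) (SGA3b.powConv R A (m : ZMod p).val x) = 0
      rw [counit_powConv]
      exact hx
    rw [this, smul_zero]
  rw [Finset.sum_congr rfl fun m _ => this m, Finset.sum_const_zero, smul_zero]

lemma proj_mem_eigenAug (hp : (WithConv.toConv (AlgHom.id R A)) ^ p = 1) (u : R)
    (χ : (ZMod p)ˣ →* Rˣ) (i : ℕ) (x : A)
    (hx : x ∈ LinearMap.ker (Bialgebra.counitAlgHom R A).toLinearMap) :
    OortTate.proj R A p u χ i x ∈ OortTate.eigenAug R A p χ i := by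
  unfold OortTate.eigenAug
  rw [Submodule.mem_inf, Submodule.mem_iInf]
  refine ⟨proj_mem_ker u χ i x hx, fun m => ?_⟩
  rw [Module.End.mem_eigenspace_iff]
  exact powConv_proj hp u χ i m x

lemma proj_powConv (hp : (WithConv.toConv (AlgHom.id R A)) ^ p = 1) (u : R)
    (χ : (ZMod p)ˣ →* Rˣ) (i : ℕ) (t : (ZMod p)ˣ) (a : A) :
    OortTate.proj R A p u χ i (SGA3b.powConv R A (t : ZMod p).val a)
      = ((χ t : Rˣ) : R) ^ i • OortTate.proj R A p u χ i a := by
  have h1 : (u • CharIdem.E χ i) * MonoidAlgebra.of R (ZMod p)ˣ t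
      = ((χ t : Rˣ) : R) ^ i • (u • CharIdem.E χ i) := by
    rw [mul_comm, mul_smul_comm, CharIdem.of_mul_E, smul_comm]
  have h2 : rho hp (u • CharIdem.E χ i) * rho hp (MonoidAlgebra.of R (ZMod p)ˣ t)
      = ((χ t : Rˣ) : R) ^ i • rho hp (u • CharIdem.E χ i) := by
    rw [← map_mul, h1, map_smul]
  rw [rho_E, rho_of] at h2
  exact LinearMap.congr_fun h2 a

/-- projection to the augmentation ideal -/
noncomputable def piA : A →ₗ[R] A :=
  LinearMap.id - (Algebra.linearMap R A) ∘ₗ (Bialgebra.counitAlgHom R A).toLinearMap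

lemma piA_apply (a : A) :
    piA (R := R) a = a - algebraMap R A (Coalgebra.counit (R := R) a) := rfl

lemma piA_mem (a : A) :
    piA (R := R) a ∈ LinearMap.ker (Bialgebra.counitAlgHom R A).toLinearMap := by
  rw [LinearMap.mem_ker, piA_apply]
  show Coalgebra.counit (R := R) (a - algebraMap R A (Coalgebra.counit (R := R) a)) = 0
  rw [map_sub, Bialgebra.counit_algebraMap, sub_self]

lemma piA_of_mem (a : A) (ha : a ∈ LinearMap.ker (Bialgebra.counitAlgHom R A).toLinearMap) :
    piA (R := R) a = a := by
  rw [LinearMap.mem_ker] at ha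
  have ha' : Coalgebra.counit (R := R) a = 0 := ha
  rw [piA_apply, ha', map_zero, sub_zero]

lemma piA_one : piA (R := R) (1 : A) = 0 := by
  rw [piA_apply, Bialgebra.counit_one, map_one, sub_self]

lemma piA_powConv (n : ℕ) (a : A) :
    piA (R := R) (SGA3b.powConv R A n a) = SGA3b.powConv R A n (piA (R := R) a) := by
  rw [piA_apply, piA_apply, counit_powConv, map_sub, AlgHom.commutes]

end A

variable {R : Type u} [CommRing R] {A : Type u} [CommRing A] [HopfAlgebra R A]
  [Coalgebra.IsCocomm R A] [Module.Finite R A] [Module.Projective R A]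
  {p : ℕ} [Fact p.Prime]

lemma proj_dual (u : R) (χ : (ZMod p)ˣ →* Rˣ) (i : ℕ) (f : D R A) (a : A) :
    (OortTate.proj R (D R A) p u χ i f) a = f (OortTate.proj R A p u χ i a) := by
  unfold OortTate.proj
  rw [LinearMap.smul_apply, LinearMap.sum_apply, LinearMap.smul_apply, LinearMap.sum_apply,
    map_smul, map_sum]
  show (u • ∑ m : (ZMod p)ˣ, (((χ m⁻¹ : Rˣ) : R) ^ i •
      (SGA3b.powConv R (D R A) (m : ZMod p).val).toLinearMap) f).ofConv a = _
  rw [WithConv.ofConv_smul, LinearMap.smul_apply, WithConv.ofConv_sum, LinearMap.sum_apply]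
  congr 1
  refine Finset.sum_congr rfl fun m _ => ?_
  rw [LinearMap.smul_apply, LinearMap.smul_apply, WithConv.ofConv_smul, LinearMap.smul_apply,
    map_smul]
  congr 1
  exact PowConvDual.powConv_dual_apply _ f a

theorem bijective (hp : (WithConv.toConv (AlgHom.id R A)) ^ p = 1) (u : R)
    (hu : u * ((p - 1 : ℕ) : R) = 1)
    (χ : (ZMod p)ˣ →* Rˣ) (i : ℕ) :
    Function.Bijective (fun f : OortTate.eigenAug R (CartDual.D R A) p χ i =>
      ((CartDual.toDual R A) (f : CartDual.D R A)).comp
        (OortTate.eigenAug R A p χ i).subtype) := by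
  have hres : ∀ (f : OortTate.eigenAug R (CartDual.D R A) p χ i) (a : A),
      (f : D R A) a = (f : D R A) (OortTate.proj R A p u χ i (piA (R := R) a)) := by
    intro f a
    have hf := proj_eq_self u hu χ i (f : D R A) f.2
    have hfa : ∀ b : A, (f : D R A) b = (f : D R A) (OortTate.proj R A p u χ i b) := by
      intro b
      rw [← proj_dual, hf]
    have hf1 : (f : D R A) (1 : A) = 0 := by
      have := f.2
      unfold OortTate.eigenAug at this
      have h := (Submodule.mem_inf.1 this).1
      rw [LinearMap.mem_ker] at h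
      exact h
    rw [← hfa]
    rw [piA_apply, map_sub, Algebra.algebraMap_eq_smul_one, map_smul, hf1, smul_zero, sub_zero]
  constructor
  · intro f g hfg
    apply Subtype.ext
    apply WithConv.ext; apply LinearMap.ext; intro a
    show (f : D R A) a = (g : D R A) a
    rw [hres f a, hres g a]
    have := LinearMap.congr_fun hfg
      ⟨OortTate.proj R A p u χ i (piA (R := R) a), proj_mem_eigenAug hp u χ i _ (piA_mem a)⟩
    exact this
  · intro φ
    let g : A →ₗ[R] OortTate.eigenAug R A p χ i :=
      LinearMap.codRestrict (OortTate.eigenAug R A p χ i)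
        ((OortTate.proj R A p u χ i) ∘ₗ piA (R := R))
        (fun a => proj_mem_eigenAug hp u χ i _ (piA_mem a))
    have hg : ∀ a, ((g a : OortTate.eigenAug R A p χ i) : A)
        = OortTate.proj R A p u χ i (piA (R := R) a) := fun a => rfl
    let f : D R A := WithConv.toConv (φ ∘ₗ g)
    have hfa : ∀ a : A, f a = φ (g a) := fun a => rfl
    have hfmem : f ∈ OortTate.eigenAug R (CartDual.D R A) p χ i := by
      unfold OortTate.eigenAug
      rw [Submodule.mem_inf, Submodule.mem_iInf]
      constructor
      · rw [LinearMap.mem_ker]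
        show f (1 : A) = 0
        rw [hfa]
        have : g 1 = 0 := by
          apply Subtype.ext
          rw [hg, piA_one, map_zero]
          rfl
        rw [this, map_zero]
      · intro m
        rw [Module.End.mem_eigenspace_iff]
        apply WithConv.ext; apply LinearMap.ext; intro a
        show (SGA3b.powConv R (D R A) (m : ZMod p).val f) a = (((χ m : Rˣ) : R) ^ i • f).ofConv a
        rw [PowConvDual.powConv_dual_apply, WithConv.ofConv_smul, LinearMap.smul_apply]
        show f (SGA3b.powConv R A (m : ZMod p).val a) = ((χ m : Rˣ) : R) ^ i • f a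
        rw [hfa, hfa, ← map_smul]
        congr 1
        apply Subtype.ext
        rw [Submodule.coe_smul, hg, hg, piA_powConv, proj_powConv hp]
    refine ⟨⟨f, hfmem⟩, ?_⟩
    apply LinearMap.ext
    intro b
    show f (b : A) = φ b
    rw [hfa]
    congr 1
    apply Subtype.ext
    have hb := b.2
    unfold OortTate.eigenAug at hb
    rw [hg, piA_of_mem _ (Submodule.mem_inf.1 hb).1]
    exact proj_eq_self u hu χ i (b : A) b.2

end Groth.Agent.Lib.Helper26.OTDual
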