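import Groth.Prelude.Def_SGA3b
import Mathlib.RingTheory.Bialgebra.Convolution

/-!
Multiplicativity of the convolution powers of the identity.
-/

set_option autoImplicit false
universe u

namespace Groth.Agent.Lib.Helper26.PowConv

open WithConv

variable (R : Type u) [CommRing R] (A : Type u) [CommRing A] [HopfAlgebra R A]

lemma comp_pow (h : A →ₐ[R] A) (f : WithConv (A →ₐ[R] A)) (m : ℕ) :
    h.comp (f ^ m).ofConv = ofConv ((toConv (h.comp f.ofConv)) ^ m) := by
  induction m with
  | zero =>
    rw [pow_zero, pow_zero]
    apply AlgHom.ext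
    intro a
    show h (algebraMap R A (Coalgebra.counit a)) = algebraMap R A (Coalgebra.counit a)
    rw [AlgHom.commutes]
  | succ m ih =>
    rw [pow_succ, pow_succ, AlgHom.comp_convMul_distrib, ih]

theorem powConv_mul (m n : ℕ) :
    SGA3b.powConv R A (n * m) = (SGA3b.powConv R A n).comp (SGA3b.powConv R A m) := by
  unfold SGA3b.powConv
  rw [comp_pow, AlgHom.comp_id, toConv_ofConv, ← pow_mul]

theorem powConv_one : SGA3b.powConv R A 1 = AlgHom.id R A := by
  unfold SGA3b.powConv
  rw [pow_one]

end Groth.Agent.Lib.Helper26.PowConv
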