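import Groth.Prelude.Def_W4c5ffgsreadingcourseOT
import Groth.Agent.Lib.Helper26.PowConv
import Groth.Agent.Lib.Helper26.CharIdem

/-!
Eigenspace decomposition of the augmentation ideal under the power maps.
-/

set_option autoImplicit false
universe u

namespace Groth.Agent.Lib.Helper26.OTEigen

open WithConv Groth.Agent.Lib.Helper26

section general

variable {R : Type*} [CommRing R] {M : Type*} [AddCommGroup M] [Module R M]
  {ι : Type*} [Fintype ι]

lemma decomp (P : ι → Module.End R M) (hP : CompleteOrthogonalIdempotents P)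
    (K : Submodule R M) (hK : ∀ i, ∀ x ∈ K, P i x ∈ K) :
    iSupIndep (fun i => K.map (P i)) ∧ ⨆ i, K.map (P i) = K := by
  classical
  refine ⟨?_, le_antisymm ?_ ?_⟩
  · intro i
    rw [Submodule.disjoint_def]
    intro x hx hx'
    have h1 : P i x = x := by
      obtain ⟨y, -, rfl⟩ := hx
      have := hP.idem i
      exact LinearMap.congr_fun this y
    have h2 : (⨆ j, ⨆ (_ : j ≠ i), K.map (P j)) ≤ LinearMap.ker (P i) := by
      refine iSup₂_le fun j hj => ?_
      rintro _ ⟨y, -, rfl⟩
      have := hP.ortho hj.symm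
      exact LinearMap.congr_fun this y
    rw [← h1]
    exact h2 hx'
  · refine iSup_le fun i => ?_
    rintro _ ⟨y, hy, rfl⟩
    exact hK i y hy
  · intro x hx
    have : x = ∑ i, P i x := by
      have := LinearMap.congr_fun hP.complete x
      rw [LinearMap.sum_apply] at this
      exact this.symm
    rw [this]
    exact Submodule.sum_mem _ fun i _ =>
      Submodule.mem_iSup_of_mem i ⟨x, hx, rfl⟩

end general

variable (R : Type u) [CommRing R] (A : Type u) [CommRing A] [HopfAlgebra R A]

lemma comp_pow' {B : Type*} [CommRing B] [Algebra R B] (h : A →ₐ[R] B)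
    (f : WithConv (A →ₐ[R] A)) (m : ℕ) :
    h.comp (f ^ m).ofConv = ofConv ((toConv (h.comp f.ofConv)) ^ m) := by
  induction m with
  | zero =>
    rw [pow_zero, pow_zero]
    apply AlgHom.ext
    intro a
    show h (algebraMap R A (Coalgebra.counit a)) = algebraMap R B (Coalgebra.counit a)
    rw [AlgHom.commutes]
  | succ m ih =>
    rw [pow_succ, pow_succ, AlgHom.comp_convMul_distrib, ih]

lemma counit_comp_powConv (n : ℕ) :
    (Bialgebra.counitAlgHom R A).comp (SGA3b.powConv R A n) = Bialgebra.counitAlgHom R A := by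
  unfold SGA3b.powConv
  rw [comp_pow', toConv_ofConv, AlgHom.comp_id]
  have h1 : toConv (Bialgebra.counitAlgHom R A) = (1 : WithConv (A →ₐ[R] R)) := by
    apply ofConv_injective
    exact AlgHom.ext fun c => rfl
  rw [h1, one_pow, ← h1]

lemma counit_powConv (n : ℕ) (a : A) :
    Coalgebra.counit (R := R) (SGA3b.powConv R A n a) = Coalgebra.counit (R := R) a :=
  AlgHom.congr_fun (counit_comp_powConv R A n) a

variable {R A}

lemma powConv_mod {p : ℕ} (hp : (WithConv.toConv (AlgHom.id R A)) ^ p = 1) (n : ℕ) :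
    SGA3b.powConv R A n = SGA3b.powConv R A (n % p) := by
  unfold SGA3b.powConv
  congr 1
  conv_lhs => rw [← Nat.mod_add_div n p, pow_add, pow_mul, hp, one_pow, mul_one]

variable {p : ℕ} [Fact p.Prime]

/-- The action of the units of `ZMod p` on `A` through power maps. -/
noncomputable def rho0 (hp : (WithConv.toConv (AlgHom.id R A)) ^ p = 1) :
    (ZMod p)ˣ →* Module.End R A where
  toFun m := (SGA3b.powConv R A (m : ZMod p).val).toLinearMap
  map_one' := by
    rw [Units.val_one, ZMod.val_one, PowConv.powConv_one]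
    rfl
  map_mul' m₁ m₂ := by
    rw [Units.val_mul, ZMod.val_mul, ← powConv_mod hp, PowConv.powConv_mul]
    rfl

noncomputable def rho (hp : (WithConv.toConv (AlgHom.id R A)) ^ p = 1) :
    MonoidAlgebra R (ZMod p)ˣ →ₐ[R] Module.End R A :=
  MonoidAlgebra.lift R (Module.End R A) (ZMod p)ˣ (rho0 hp)

lemma rho_of (hp : (WithConv.toConv (AlgHom.id R A)) ^ p = 1) (m : (ZMod p)ˣ) :
    rho hp (MonoidAlgebra.of R (ZMod p)ˣ m)
      = (SGA3b.powConv R A (m : ZMod p).val).toLinearMap := by
  unfold rho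
  rw [MonoidAlgebra.lift_of]
  rfl

lemma rho_E (hp : (WithConv.toConv (AlgHom.id R A)) ^ p = 1) (u : R) (χ : (ZMod p)ˣ →* Rˣ)
    (i : ℕ) :
    rho hp (u • CharIdem.E χ i) = OortTate.proj R A p u χ i := by
  unfold CharIdem.E OortTate.proj
  rw [map_smul, map_sum]
  congr 1
  refine Finset.sum_congr rfl fun m _ => ?_
  rw [map_smul, rho_of]

lemma projCOI (hp : (WithConv.toConv (AlgHom.id R A)) ^ p = 1) (u : R)
    (hu : u * ((p - 1 : ℕ) : R) = 1)
    (χ : (ZMod p)ˣ →* Rˣ) (hχ : ∀ m : (ZMod p)ˣ, m ≠ 1 → IsUnit ((χ m : R) - 1)) :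
    CompleteOrthogonalIdempotents (fun i : Fin (p - 1) => OortTate.proj R A p u χ (i : ℕ)) := by
  have hcard : Fintype.card (ZMod p)ˣ = p - 1 := ZMod.card_units p
  have key : ∀ n : ℕ, Fintype.card (ZMod p)ˣ = n → u * ((n : ℕ) : R) = 1 →
      CompleteOrthogonalIdempotents (fun i : Fin n => OortTate.proj R A p u χ (i : ℕ)) := by
    intro n hn hu'
    subst hn
    have := (CharIdem.complete χ hχ u hu').map (rho (R := R) (A := A) hp).toRingHom
    convert this using 1
    funext i
    exact (rho_E hp u χ i).symm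
  exact key _ hcard hu

lemma powConv_proj (hp : (WithConv.toConv (AlgHom.id R A)) ^ p = 1) (u : R)
    (χ : (ZMod p)ˣ →* Rˣ) (i : ℕ) (t : (ZMod p)ˣ) (a : A) :
    SGA3b.powConv R A (t : ZMod p).val (OortTate.proj R A p u χ i a)
      = ((χ t : Rˣ) : R) ^ i • OortTate.proj R A p u χ i a := by
  have h1 : MonoidAlgebra.of R (ZMod p)ˣ t * (u • CharIdem.E χ i)
      = ((χ t : Rˣ) : R) ^ i • (u • CharIdem.E χ i) := by
    rw [mul_smul_comm, CharIdem.of_mul_E, smul_comm]
  have h2 : rho hp (MonoidAlgebra.of R (ZMod p)ˣ t) * rho hp (u • CharIdem.E χ i)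
      = ((χ t : Rˣ) : R) ^ i • rho hp (u • CharIdem.E χ i) := by
    rw [← map_mul, h1, map_smul]
  rw [rho_E, rho_of] at h2
  exact LinearMap.congr_fun h2 a

lemma proj_eq_self (u : R) (hu : u * ((p - 1 : ℕ) : R) = 1)
    (χ : (ZMod p)ˣ →* Rˣ) (i : ℕ) (a : A) (ha : a ∈ OortTate.eigenAug R A p χ i) :
    OortTate.proj R A p u χ i a = a := by
  have hcard : Fintype.card (ZMod p)ˣ = p - 1 := ZMod.card_units p
  unfold OortTate.eigenAug at ha
  rw [Submodule.mem_inf, Submodule.mem_iInf] at ha
  unfold OortTate.proj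
  rw [LinearMap.smul_apply, LinearMap.sum_apply]
  have : ∀ m : (ZMod p)ˣ, ((((χ m⁻¹ : Rˣ) : R) ^ i) •
      (SGA3b.powConv R A (m : ZMod p).val).toLinearMap) a = a := by
    intro m
    have := Module.End.mem_eigenspace_iff.1 (ha.2 m)
    rw [LinearMap.smul_apply, this, smul_smul, ← mul_pow, CharIdem.inv_mul_self, one_pow,
      one_smul]
  rw [Finset.sum_congr rfl fun m _ => this m, Finset.sum_const, Finset.card_univ, hcard,
    ← Nat.cast_smul_eq_nsmul R, smul_smul, hu, one_smul]

theorem main (hp : (WithConv.toConv (AlgHom.id R A)) ^ p = 1) (u : R)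
    (hu : u * ((p - 1 : ℕ) : R) = 1)
    (χ : (ZMod p)ˣ →* Rˣ) (hχ : ∀ m : (ZMod p)ˣ, m ≠ 1 → IsUnit ((χ m : R) - 1)) :
    iSupIndep (fun i : Fin (p - 1) => OortTate.eigenAug R A p χ (i : ℕ)) ∧
      (⨆ i : Fin (p - 1), OortTate.eigenAug R A p χ (i : ℕ)) =
        LinearMap.ker (Bialgebra.counitAlgHom R A).toLinearMap ∧
      ∀ i : Fin (p - 1), OortTate.eigenAug R A p χ (i : ℕ) =
        Submodule.map (OortTate.proj R A p u χ (i : ℕ))
          (LinearMap.ker (Bialgebra.counitAlgHom R A).toLinearMap) := by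
  have hK : ∀ (i : ℕ), ∀ x ∈ LinearMap.ker (Bialgebra.counitAlgHom R A).toLinearMap,
      OortTate.proj R A p u χ i x ∈ LinearMap.ker (Bialgebra.counitAlgHom R A).toLinearMap := by
    intro i x hx
    rw [LinearMap.mem_ker] at hx ⊢
    unfold OortTate.proj
    rw [LinearMap.smul_apply, LinearMap.sum_apply, map_smul, map_sum]
    have : ∀ m : (ZMod p)ˣ, (Bialgebra.counitAlgHom R A).toLinearMap
        (((((χ m⁻¹ : Rˣ) : R) ^ i) • (SGA3b.powConv R A (m : ZMod p).val).toLinearMap) x) = 0 := by
      intro m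
      rw [LinearMap.smul_apply, map_smul]
      have : (Bialgebra.counitAlgHom R A).toLinearMap
          ((SGA3b.powConv R A (m : ZMod p).val).toLinearMap x) = 0 := by
        show Coalgebra.counit (R := R) (SGA3b.powConv R A (m : ZMod p).val x) = 0
        rw [counit_powConv]
        exact hx
      rw [this, smul_zero]
    rw [Finset.sum_congr rfl fun m _ => this m, Finset.sum_const_zero, smul_zero]
  have heq : ∀ i : Fin (p - 1), OortTate.eigenAug R A p χ (i : ℕ) =
        Submodule.map (OortTate.proj R A p u χ (i : ℕ))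
          (LinearMap.ker (Bialgebra.counitAlgHom R A).toLinearMap) := by
    intro i
    apply le_antisymm
    · intro a ha
      refine ⟨a, ?_, proj_eq_self u hu χ i a ha⟩
      unfold OortTate.eigenAug at ha
      exact (Submodule.mem_inf.1 ha).1
    · rintro _ ⟨x, hx, rfl⟩
      unfold OortTate.eigenAug
      rw [Submodule.mem_inf, Submodule.mem_iInf]
      refine ⟨hK i x hx, fun m => ?_⟩
      rw [Module.End.mem_eigenspace_iff]
      exact powConv_proj hp u χ i m x
  have hd := decomp (fun i : Fin (p - 1) => OortTate.proj R A p u χ (i : ℕ))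
    (projCOI hp u hu χ hχ) (LinearMap.ker (Bialgebra.counitAlgHom R A).toLinearMap)
    (fun i => hK i)
  have hfun : (fun i : Fin (p - 1) => OortTate.eigenAug R A p χ (i : ℕ))
      = fun i : Fin (p - 1) => Submodule.map (OortTate.proj R A p u χ (i : ℕ))
          (LinearMap.ker (Bialgebra.counitAlgHom R A).toLinearMap) := funext heq
  refine ⟨?_, ?_, heq⟩
  · rw [hfun]; exact hd.1
  · rw [hfun]; exact hd.2

end Groth.Agent.Lib.Helper26.OTEigen
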