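import Mathlib
import Groth.Prelude.Def_QFDual
set_option maxHeartbeats 400000
universe u
namespace Groth.Agent.Lib.Helper26.OmegaBC
open TensorProduct

variable {A B' A₁ B'₁ : Type u} [CommRing A] [CommRing B'] [CommRing A₁] [CommRing B'₁]
  [Algebra A B'] [Algebra A A₁] [Algebra B' B'₁] [Algebra A₁ B'₁] [Algebra A B'₁]
  [IsScalarTower A A₁ B'₁] [IsScalarTower A B' B'₁]

/-- Step 2: the dual base change is a base change for f.p. modules along flat maps. -/
theorem isBaseChange_toDual [Module.Flat A A₁] [Module.FinitePresentation A B']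
    (h : Algebra.IsPushout A A₁ B' B'₁) :
    IsBaseChange A₁ (h.out.toDual) := by
  have H := Module.FinitePresentation.isBaseChange_map A B' A A₁
  let E : ((A₁ ⊗[A] B') →ₗ[A₁] (A₁ ⊗[A] A)) ≃ₗ[A₁] (B'₁ →ₗ[A₁] A₁) :=
    LinearEquiv.arrowCongr h.out.equiv (AlgebraTensorModule.rid A A₁ A₁)
  refine (IsBaseChange.iff_of_equiv_comm (LinearEquiv.refl A _) E ?_).mp H
  ext f : 1
  refine h.out.algHom_ext _ _ fun x => ?_
  simp only [LinearMap.comp_apply, LinearEquiv.coe_coe, LinearEquiv.refl_apply,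
    LinearEquiv.restrictScalars_apply, E, LinearEquiv.arrowCongr_apply,
    h.out.equiv_symm_apply, LinearMap.baseChangeHom_apply, LinearMap.baseChange_tmul,
    AlgebraTensorModule.rid_tmul, h.out.toDual_comp_apply, Algebra.algebraMap_eq_smul_one]


theorem main (A B' A₁ B'₁ B₁ : Type u) [CommRing A] [CommRing B'] [CommRing A₁] [CommRing B'₁]
    [CommRing B₁] [IsNoetherianRing A] [IsNoetherianRing A₁] [Algebra A B'] [Module.Finite A B']
    [Algebra A A₁] [Module.Flat A A₁] [Algebra B' B'₁] [Algebra A₁ B'₁] [Algebra A B'₁]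
    [IsScalarTower A A₁ B'₁] [IsScalarTower A B' B'₁] (h : Algebra.IsPushout A A₁ B' B'₁)
    [Algebra B'₁ B₁] [Algebra B' B₁] [IsScalarTower B' B'₁ B₁] :
    Function.Bijective (QFDual.omegaBC (B₁ := B₁) h) := by
  haveI : Module.FinitePresentation A B' := Module.finitePresentation_of_finite A B'
  -- module structures
  letI mA : Module A (Disc.Omega A B') := Module.compHom _ (algebraMap A B')
  haveI tA : IsScalarTower A B' (Disc.Omega A B') :=
    IsScalarTower.of_algebraMap_smul (fun r x => rfl)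
  letI mA₁ : Module A₁ (Disc.Omega A₁ B'₁) := Module.compHom _ (algebraMap A₁ B'₁)
  haveI tA₁ : IsScalarTower A₁ B'₁ (Disc.Omega A₁ B'₁) :=
    IsScalarTower.of_algebraMap_smul (fun r x => rfl)
  letI mB : Module B' (Disc.Omega A₁ B'₁) := Module.compHom _ (algebraMap B' B'₁)
  haveI tB : IsScalarTower B' B'₁ (Disc.Omega A₁ B'₁) :=
    IsScalarTower.of_algebraMap_smul (fun r x => rfl)
  -- τ
  let τ : Disc.Omega A B' ≃ₗ[A] (B' →ₗ[A] A) :=
    { toFun := fun φ => φ.toLinearMap
      invFun := fun f => ⟨f⟩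
      left_inv := fun φ => rfl
      right_inv := fun f => rfl
      map_add' := fun φ ψ => rfl
      map_smul' := fun a φ => by
        ext x
        change φ.toLinearMap (algebraMap A B' a * x) = a • φ.toLinearMap x
        rw [← Algebra.smul_def, map_smul] }
  -- j'
  let j' : Disc.Omega A B' →ₗ[B'] Disc.Omega A₁ B'₁ :=
    { toFun := fun φ => QFDual.bcFin h φ
      map_add' := fun φ ψ => map_add _ φ ψ
      map_smul' := fun b φ => (QFDual.bcFin h).map_smulₛₗ b φ }
  let T : B'₁ ⊗[B'] Disc.Omega A B' →ₗ[B'₁] Disc.Omega A₁ B'₁ := LinearMap.liftBaseChange B'₁ j'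
  let c := Algebra.IsPushout.cancelBaseChange A A₁ B' B'₁ (Disc.Omega A B')
  have H := isBaseChange_toDual h
  -- the A₁-smul on Omega vs on linear maps
  have hsm : ∀ (a₁ : A₁) (g : B'₁ →ₗ[A₁] A₁),
      (⟨a₁ • g⟩ : Disc.Omega A₁ B'₁) = algebraMap A₁ B'₁ a₁ • (⟨g⟩ : Disc.Omega A₁ B'₁) := by
    intro a₁ g
    apply Disc.Omega.ext
    ext x
    change a₁ • g x = g (algebraMap A₁ B'₁ a₁ * x)
    rw [← Algebra.smul_def, map_smul]
  have hT : ∀ z : A₁ ⊗[A] Disc.Omega A B',
      T (c.symm z) = (⟨H.equiv ((LinearEquiv.lTensor A₁ τ) z)⟩ : Disc.Omega A₁ B'₁) := by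
    intro z
    induction z using TensorProduct.induction_on with
    | zero => simp only [map_zero]; rfl
    | tmul a₁ φ =>
      rw [Algebra.IsPushout.cancelBaseChange_symm_tmul, LinearMap.liftBaseChange_tmul,
        LinearEquiv.lTensor_tmul, IsBaseChange.equiv_tmul, hsm]
      rfl
    | add x y hx hy =>
      rw [map_add, map_add, hx, hy, map_add, map_add]
      rfl
  have hTbij : Function.Bijective T := by
    have hβ : Function.Bijective (fun z : A₁ ⊗[A] Disc.Omega A B' =>
        (⟨H.equiv ((LinearEquiv.lTensor A₁ τ) z)⟩ : Disc.Omega A₁ B'₁)) := by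
      have h1 : Function.Bijective (fun g : B'₁ →ₗ[A₁] A₁ => (⟨g⟩ : Disc.Omega A₁ B'₁)) :=
        ⟨fun g g' hg => congrArg Disc.Omega.toLinearMap hg, fun φ => ⟨φ.toLinearMap, rfl⟩⟩
      exact h1.comp (H.equiv.bijective.comp (LinearEquiv.lTensor A₁ τ).bijective)
    have : (T : _ → _) = (fun z : A₁ ⊗[A] Disc.Omega A B' =>
        (⟨H.equiv ((LinearEquiv.lTensor A₁ τ) z)⟩ : Disc.Omega A₁ B'₁)) ∘ c := by
      funext w
      have := hT (c w)
      rw [LinearEquiv.symm_apply_apply] at this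
      exact this
    rw [this]
    exact hβ.comp c.bijective
  let e : B'₁ ⊗[B'] Disc.Omega A B' ≃ₗ[B'₁] Disc.Omega A₁ B'₁ := LinearEquiv.ofBijective T hTbij
  let c2 := TensorProduct.AlgebraTensorModule.cancelBaseChange B' B'₁ B₁ B₁ (Disc.Omega A B')
  have hΦ : ∀ z : B₁ ⊗[B'] Disc.Omega A B',
      QFDual.omegaBC (B₁ := B₁) h z = (LinearEquiv.lTensor B₁ e) (c2.symm z) := by
    intro z
    induction z using TensorProduct.induction_on with
    | zero => simp only [map_zero]
    | tmul b₁ φ =>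
      rw [QFDual.omegaBC_tmul, TensorProduct.AlgebraTensorModule.cancelBaseChange_symm_tmul,
        LinearEquiv.lTensor_tmul]
      congr 1
      change _ = T (1 ⊗ₜ φ)
      rw [LinearMap.liftBaseChange_tmul, one_smul]
      rfl
    | add x y hx hy => rw [map_add, map_add, map_add, hx, hy]
  have : (QFDual.omegaBC (B₁ := B₁) h : _ → _) = (LinearEquiv.lTensor B₁ e) ∘ c2.symm := by
    funext z; exact hΦ z
  rw [this]
  exact (LinearEquiv.lTensor B₁ e).bijective.comp c2.symm.bijective

end Groth.Agent.Lib.Helper26.OmegaBC
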