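import Mathlib
import Groth.Prelude.Def_QFDual
set_option maxHeartbeats 400000
universe u
namespace Groth.Agent.Lib.Helper26.OmegaProd
open TensorProduct

variable (A B' B C' C : Type u) [CommRing A] [CommRing B'] [CommRing B] [CommRing C'] [CommRing C]
  [Algebra A B'] [Algebra B' B] [Algebra A B] [IsScalarTower A B' B] [Algebra A C'] [Algebra C' C]
  [Algebra A C] [IsScalarTower A C' C] [Algebra (B' × C') (B × C)] [IsScalarTower A (B' × C') (B × C)]

variable {A B' C'} in
def pB (φ : Disc.Omega A (B' × C')) : Disc.Omega A B' := ⟨φ.toLinearMap ∘ₗ LinearMap.inl A B' C'⟩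
variable {A B' C'} in
def pC (φ : Disc.Omega A (B' × C')) : Disc.Omega A C' := ⟨φ.toLinearMap ∘ₗ LinearMap.inr A B' C'⟩
variable {A B' C'} in
def qB (φ : Disc.Omega A B') : Disc.Omega A (B' × C') := ⟨φ.toLinearMap ∘ₗ LinearMap.fst A B' C'⟩
variable {A B' C'} in
def qC (φ : Disc.Omega A C') : Disc.Omega A (B' × C') := ⟨φ.toLinearMap ∘ₗ LinearMap.snd A B' C'⟩

variable {A B' C'}

@[simp] lemma pB_add (φ ψ : Disc.Omega A (B' × C')) : pB (φ + ψ) = pB φ + pB ψ := by
  apply Disc.Omega.ext; ext x; simp [pB]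
@[simp] lemma pC_add (φ ψ : Disc.Omega A (B' × C')) : pC (φ + ψ) = pC φ + pC ψ := by
  apply Disc.Omega.ext; ext x; simp [pC]
@[simp] lemma qB_add (φ ψ : Disc.Omega A B') : (qB (φ + ψ) : Disc.Omega A (B' × C')) = qB φ + qB ψ := by
  apply Disc.Omega.ext; ext x <;> simp [qB]
@[simp] lemma qC_add (φ ψ : Disc.Omega A C') : (qC (φ + ψ) : Disc.Omega A (B' × C')) = qC φ + qC ψ := by
  apply Disc.Omega.ext; ext x <;> simp [qC]
lemma pB_smul (r : B' × C') (φ : Disc.Omega A (B' × C')) : pB (r • φ) = r.1 • pB φ := by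
  apply Disc.Omega.ext; ext x; simp [pB]; congr 1; ext <;> simp
lemma pC_smul (r : B' × C') (φ : Disc.Omega A (B' × C')) : pC (r • φ) = r.2 • pC φ := by
  apply Disc.Omega.ext; ext x; simp [pC]; congr 1; ext <;> simp
lemma qB_smul (b : B') (φ : Disc.Omega A B') :
    (qB (b • φ) : Disc.Omega A (B' × C')) = ((b, 0) : B' × C') • qB φ := by
  apply Disc.Omega.ext; ext x <;> simp [qB]
lemma qC_smul (c : C') (φ : Disc.Omega A C') :
    (qC (c • φ) : Disc.Omega A (B' × C')) = ((0, c) : B' × C') • qC φ := by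
  apply Disc.Omega.ext; ext x <;> simp [qC]
@[simp] lemma pB_qB (φ : Disc.Omega A B') : pB (qB φ : Disc.Omega A (B' × C')) = φ := by
  apply Disc.Omega.ext; ext x; simp [pB, qB]
@[simp] lemma pC_qC (φ : Disc.Omega A C') : pC (qC φ : Disc.Omega A (B' × C')) = φ := by
  apply Disc.Omega.ext; ext x; simp [pC, qC]
@[simp] lemma pB_qC (φ : Disc.Omega A C') : pB (qC φ : Disc.Omega A (B' × C')) = 0 := by
  apply Disc.Omega.ext; ext x; simp [pB, qC]
@[simp] lemma pC_qB (φ : Disc.Omega A B') : pC (qB φ : Disc.Omega A (B' × C')) = 0 := by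
  apply Disc.Omega.ext; ext x; simp [pC, qB]
lemma qB_pB (φ : Disc.Omega A (B' × C')) : qB (pB φ) = ((1, 0) : B' × C') • φ := by
  apply Disc.Omega.ext; ext x <;> simp [pB, qB]
lemma qC_pC (φ : Disc.Omega A (B' × C')) : qC (pC φ) = ((0, 1) : B' × C') • φ := by
  apply Disc.Omega.ext; ext x <;> simp [pC, qC]


variable (A B' C')

/-- forward additive map -/
noncomputable def fwdAux : (B × C) →+ Disc.Omega A (B' × C') →+
    (QFDual.omega A B' B × QFDual.omega A C' C) :=
  AddMonoidHom.mk' (fun bc => AddMonoidHom.mk' (fun φ => (bc.1 ⊗ₜ[B'] pB φ, bc.2 ⊗ₜ[C'] pC φ))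
    (by intro φ ψ; simp [tmul_add]))
    (by intro x y; ext φ <;> simp [add_tmul])

omit [Algebra A B'] [Algebra A B] [IsScalarTower A B' B] [Algebra A C'] [Algebra A C] [IsScalarTower A C' C] [IsScalarTower A (B' × C') (B × C)] in
theorem smul_prod (halg : algebraMap (B' × C') (B × C) = (algebraMap B' B).prodMap (algebraMap C' C))
    (r : B' × C') (m : B × C) : r • m = (r.1 • m.1, r.2 • m.2) := by
  rw [Algebra.smul_def, halg]
  ext <;> simp [Algebra.smul_def]

noncomputable def fwd (halg : algebraMap (B' × C') (B × C) = (algebraMap B' B).prodMap (algebraMap C' C)) :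
    QFDual.omega A (B' × C') (B × C) →+ (QFDual.omega A B' B × QFDual.omega A C' C) :=
  TensorProduct.liftAddHom (fwdAux A B' B C' C) (by
    intro r m n
    simp only [fwdAux, AddMonoidHom.mk'_apply]
    rw [smul_prod B' B C' C halg, pB_smul, pC_smul]
    ext
    · simp [smul_tmul]
    · simp [smul_tmul])

theorem fwd_tmul (halg) (bc : B × C) (φ : Disc.Omega A (B' × C')) :
    fwd A B' B C' C halg (bc ⊗ₜ φ) = (bc.1 ⊗ₜ[B'] pB φ, bc.2 ⊗ₜ[C'] pC φ) := rfl


/-- inverse, first component -/
noncomputable def invB (halg : algebraMap (B' × C') (B × C) = (algebraMap B' B).prodMap (algebraMap C' C)) :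
    QFDual.omega A B' B →+ QFDual.omega A (B' × C') (B × C) :=
  TensorProduct.liftAddHom
    (AddMonoidHom.mk' (fun b => AddMonoidHom.mk' (fun φ => ((b, 0) : B × C) ⊗ₜ[B' × C'] (qB φ : Disc.Omega A (B' × C')))
      (by intro φ ψ; simp [tmul_add]))
      (by intro x y; ext φ; simp only [AddMonoidHom.mk'_apply, AddMonoidHom.add_apply, ← add_tmul]; congr 1; ext <;> simp))
    (by
      intro r b φ
      simp only [AddMonoidHom.mk'_apply]
      rw [qB_smul, ← smul_tmul, smul_prod B' B C' C halg]
      congr 1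
      ext <;> simp)

noncomputable def invC (halg : algebraMap (B' × C') (B × C) = (algebraMap B' B).prodMap (algebraMap C' C)) :
    QFDual.omega A C' C →+ QFDual.omega A (B' × C') (B × C) :=
  TensorProduct.liftAddHom
    (AddMonoidHom.mk' (fun c => AddMonoidHom.mk' (fun φ => ((0, c) : B × C) ⊗ₜ[B' × C'] (qC φ : Disc.Omega A (B' × C')))
      (by intro φ ψ; simp [tmul_add]))
      (by intro x y; ext φ; simp only [AddMonoidHom.mk'_apply, AddMonoidHom.add_apply, ← add_tmul]; congr 1; ext <;> simp))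
    (by
      intro r c φ
      simp only [AddMonoidHom.mk'_apply]
      rw [qC_smul, ← smul_tmul, smul_prod B' B C' C halg]
      congr 1
      ext <;> simp)

theorem invB_tmul (halg) (b : B) (φ : Disc.Omega A B') :
    invB A B' B C' C halg (b ⊗ₜ φ) = ((b, 0) : B × C) ⊗ₜ[B' × C'] (qB φ : Disc.Omega A (B' × C')) := rfl
theorem invC_tmul (halg) (c : C) (φ : Disc.Omega A C') :
    invC A B' B C' C halg (c ⊗ₜ φ) = ((0, c) : B × C) ⊗ₜ[B' × C'] (qC φ : Disc.Omega A (B' × C')) := rfl

theorem fwd_invB (halg) (x : QFDual.omega A B' B) :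
    fwd A B' B C' C halg (invB A B' B C' C halg x) = (x, 0) := by
  induction x using TensorProduct.induction_on with
  | zero => simp; rfl
  | tmul b φ => rw [invB_tmul, fwd_tmul]; simp
  | add x y hx hy => rw [map_add, map_add, hx, hy]; simp

theorem fwd_invC (halg) (y : QFDual.omega A C' C) :
    fwd A B' B C' C halg (invC A B' B C' C halg y) = (0, y) := by
  induction y using TensorProduct.induction_on with
  | zero => simp; rfl
  | tmul c φ => rw [invC_tmul, fwd_tmul]; simp
  | add x y hx hy => rw [map_add, map_add, hx, hy]; simp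

theorem inv_fwd (halg) (z : QFDual.omega A (B' × C') (B × C)) :
    invB A B' B C' C halg (fwd A B' B C' C halg z).1 + invC A B' B C' C halg (fwd A B' B C' C halg z).2 = z := by
  induction z using TensorProduct.induction_on with
  | zero => simp
  | tmul bc φ =>
    rw [fwd_tmul]
    simp only
    rw [invB_tmul, invC_tmul, qB_pB, qC_pC, ← smul_tmul, ← smul_tmul, smul_prod B' B C' C halg,
      smul_prod B' B C' C halg, ← add_tmul]
    congr 1
    ext <;> simp
  | add x y hx hy =>
    rw [map_add, Prod.fst_add, Prod.snd_add, map_add, map_add]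
    rw [add_add_add_comm, hx, hy]


theorem fwd_smul (halg) (a : A) (z : QFDual.omega A (B' × C') (B × C)) :
    fwd A B' B C' C halg (a • z) = a • fwd A B' B C' C halg z := by
  induction z using TensorProduct.induction_on with
  | zero => simp
  | tmul bc φ =>
    rw [smul_tmul', fwd_tmul, fwd_tmul]
    ext
    · simp [smul_tmul']
    · simp [smul_tmul']
  | add x y hx hy => rw [smul_add, map_add, hx, hy, map_add, smul_add]

theorem main (halg : algebraMap (B' × C') (B × C) = (algebraMap B' B).prodMap (algebraMap C' C)) :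
    ∃ e : QFDual.omega A (B' × C') (B × C) ≃ₗ[A] QFDual.omega A B' B × QFDual.omega A C' C,
      ∀ (b : B) (c : C) (φ : Disc.Omega A (B' × C')), e ((b, c) ⊗ₜ[B' × C'] φ) =
        (b ⊗ₜ[B'] Disc.Omega.mk (φ.toLinearMap ∘ₗ LinearMap.inl A B' C'),
          c ⊗ₜ[C'] Disc.Omega.mk (φ.toLinearMap ∘ₗ LinearMap.inr A B' C')) := by
  refine ⟨{ toFun := fwd A B' B C' C halg
            map_add' := map_add _
            map_smul' := fun a z => fwd_smul A B' B C' C halg a z
            invFun := fun xy => invB A B' B C' C halg xy.1 + invC A B' B C' C halg xy.2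
            left_inv := fun z => inv_fwd A B' B C' C halg z
            right_inv := fun xy => by
              rw [map_add, fwd_invB, fwd_invC]
              ext <;> simp }, ?_⟩
  intro b c φ
  rfl

end Groth.Agent.Lib.Helper26.OmegaProd
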