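import Mathlib

/-!
# Open mapping dichotomy for complete first countable nonarchimedean groups
-/

namespace Groth.Agent.Lib.Helper26.OpenMapXor

set_option maxHeartbeats 400000

universe u

open Filter Topology

variable {N M : Type u} [AddCommGroup N] [AddCommGroup M] [UniformSpace N] [IsUniformAddGroup N]
  [TopologicalSpace M] [IsTopologicalAddGroup M] [T2Space M] [T2Space N] [CompleteSpace N]
  [NonarchimedeanAddGroup N] [FirstCountableTopology N]

omit [UniformSpace N] [IsUniformAddGroup N] [T2Space M] [T2Space N] [CompleteSpace N]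
  [NonarchimedeanAddGroup N] [FirstCountableTopology N] in
/-- the closure of the image of a subgroup is open when it is not nowhere dense -/
lemma closure_open (u : N →+ M) (V : AddSubgroup N) (h : ¬ IsNowhereDense (u '' (V : Set N))) :
    IsOpen (closure (u '' (V : Set N))) := by
  have hne : (interior (closure (u '' (V : Set N)))).Nonempty := by
    rw [Set.nonempty_iff_ne_empty]; exact h
  obtain ⟨g, hg⟩ := hne
  have hcl : ((V.map u).topologicalClosure : Set M) = closure (u '' (V : Set N)) := by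
    rw [AddSubgroup.topologicalClosure_coe, AddSubgroup.coe_map]
  rw [← hcl]
  apply AddSubgroup.isOpen_of_mem_nhds _ (g := g)
  rw [hcl]
  exact mem_interior_iff_mem_nhds.1 hg

lemma closure_image_subset (u : N →+ M) (hu : Continuous u)
    (hnd : ∀ V : OpenAddSubgroup N, ¬ IsNowhereDense (u '' (V : Set N)))
    (V : OpenAddSubgroup N) : closure (u '' (V : Set N)) ⊆ u '' (V : Set N) := by
  intro y hy
  obtain ⟨B, hB⟩ := (𝓝 (0 : N)).exists_antitone_basis
  have hV' : ∀ k, ∃ W : OpenAddSubgroup N, (W : Set N) ⊆ B k := fun k =>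
    NonarchimedeanAddGroup.is_nonarchimedean (B k) (hB.mem k)
  choose V' hV' using hV'
  let Vk : ℕ → OpenAddSubgroup N := fun k => V ⊓ V' k
  have hVk_le : ∀ k, (Vk k : Set N) ⊆ V := fun k x hx => hx.1
  have hVk_B : ∀ k, (Vk k : Set N) ⊆ B k := fun k x hx => hV' k hx.2
  have hWopen : ∀ k, IsOpen (closure (u '' (Vk k : Set N))) := fun k =>
    closure_open u (Vk k : AddSubgroup N) (hnd (Vk k))
  have hW0 : ∀ k, (0 : M) ∈ closure (u '' (Vk k : Set N)) := fun k =>
    subset_closure ⟨0, (Vk k).zero_mem, map_zero u⟩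
  have approx : ∀ (S : Set N) (k : ℕ) (r : M), r ∈ closure (u '' S) →
      ∃ x ∈ S, r - u x ∈ closure (u '' (Vk k : Set N)) := by
    intro S k r hr
    have hopen : IsOpen {z : M | r - z ∈ closure (u '' (Vk k : Set N))} :=
      (hWopen k).preimage (continuous_const.sub continuous_id)
    have hr' : r ∈ {z : M | r - z ∈ closure (u '' (Vk k : Set N))} := by
      show r - r ∈ closure (u '' (Vk k : Set N))
      rw [sub_self]; exact hW0 k
    obtain ⟨z, hz1, hz2⟩ := mem_closure_iff.1 hr _ hopen hr'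
    obtain ⟨x, hx, rfl⟩ := hz2
    exact ⟨x, hx, hz1⟩
  let P : ℕ → N → Prop := fun k s =>
    s ∈ (V : Set N) ∧ y - u s ∈ closure (u '' (Vk k : Set N))
  have h0 : ∃ s, P 0 s := by
    obtain ⟨x, hx, hx'⟩ := approx V 0 y hy
    exact ⟨x, hx, hx'⟩
  have step : ∀ k (s : {s : N // P k s}), ∃ s' : {s : N // P (k + 1) s},
      s'.1 - s.1 ∈ (Vk k : Set N) := by
    rintro k ⟨s, hs1, hs2⟩
    obtain ⟨x, hx, hx'⟩ := approx (Vk k) (k + 1) _ hs2
    refine ⟨⟨s + x, V.add_mem hs1 (hVk_le k hx), ?_⟩, ?_⟩
    · have : y - u (s + x) = y - u s - u x := by rw [map_add]; abel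
      rw [this]; exact hx'
    · simpa using hx
  choose next hnext using step
  obtain ⟨s0, hs0⟩ := h0
  let seq : (k : ℕ) → {s : N // P k s} := fun k => Nat.rec ⟨s0, hs0⟩ (fun k s => next k s) k
  let s : ℕ → N := fun k => (seq k).1
  have hs_succ : ∀ k, s (k + 1) - s k ∈ (Vk k : Set N) := fun k => hnext k (seq k)
  have hsV : ∀ k, s k ∈ (V : Set N) := fun k => (seq k).2.1
  have hsW : ∀ k, y - u (s k) ∈ closure (u '' (Vk k : Set N)) := fun k => (seq k).2.2
  have htend : Tendsto (fun k => s (k + 1) - s k) atTop (𝓝 0) := by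
    rw [hB.toHasBasis.tendsto_right_iff]
    intro j _
    filter_upwards [eventually_ge_atTop j] with k hk
    exact hB.antitone hk (hVk_B k (hs_succ k))
  have hcauchy : CauchySeq s := NonarchimedeanAddGroup.cauchySeq_of_tendsto_sub_nhds_zero htend
  obtain ⟨x, hx⟩ := cauchySeq_tendsto_of_complete hcauchy
  have hxV : x ∈ (V : Set N) := V.isClosed.mem_of_tendsto hx (Eventually.of_forall hsV)
  refine ⟨x, hxV, ?_⟩
  have h1 : Tendsto (fun k => u (s k)) atTop (𝓝 (u x)) := (hu.tendsto x).comp hx
  have h2 : Tendsto (fun k => y - u (s k)) atTop (𝓝 0) := by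
    rw [tendsto_def]
    intro W hW
    obtain ⟨W', hW', hW'c, hW'W⟩ := exists_mem_nhds_isClosed_subset hW
    have hpre : u ⁻¹' W' ∈ 𝓝 (0 : N) :=
      hu.continuousAt.preimage_mem_nhds (by rwa [map_zero])
    obtain ⟨j, _, hj⟩ := hB.toHasBasis.mem_iff.1 hpre
    rw [mem_atTop_sets]
    refine ⟨j, fun k hk => ?_⟩
    apply hW'W
    have hsub : closure (u '' (Vk k : Set N)) ⊆ W' := by
      apply closure_minimal _ hW'c
      rintro _ ⟨z, hz, rfl⟩
      exact hj (hB.antitone hk (hVk_B k hz))
    exact hsub (hsW k)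
  have h3 : Tendsto (fun k => u (s k)) atTop (𝓝 y) := by
    have := (tendsto_const_nhds (x := y)).sub h2
    simpa using this
  exact tendsto_nhds_unique h1 h3

theorem main (u : N →+ M) (hu : Continuous u) :
    Xor (IsOpenMap u) (∃ V : OpenAddSubgroup N, IsNowhereDense (u '' (V : Set N))) := by
  by_cases h : ∃ V : OpenAddSubgroup N, IsNowhereDense (u '' (V : Set N))
  · right
    refine ⟨h, ?_⟩
    intro hopen
    obtain ⟨V, hV⟩ := h
    have h1 : IsOpen (u '' (V : Set N)) := hopen _ V.isOpen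
    have hint : interior (closure (u '' (V : Set N))) = ∅ := hV
    have h0 : (0 : M) ∈ interior (closure (u '' (V : Set N))) :=
      interior_mono subset_closure (by
        rw [h1.interior_eq]; exact ⟨0, V.zero_mem, map_zero u⟩)
    rw [hint] at h0
    exact h0
  · left
    refine ⟨?_, h⟩
    push_neg at h
    rw [IsTopologicalAddGroup.isOpenMap_iff_nhds_zero]
    intro S hS
    have hS' : u ⁻¹' S ∈ 𝓝 (0 : N) := hS
    obtain ⟨V, hV⟩ := NonarchimedeanAddGroup.is_nonarchimedean _ hS'
    have hopen : IsOpen (u '' (V : Set N)) := by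
      have heq : u '' (V : Set N) = closure (u '' (V : Set N)) :=
        Set.Subset.antisymm subset_closure (closure_image_subset u hu h V)
      rw [heq]
      exact closure_open u (V : AddSubgroup N) (h V)
    have hmem : u '' (V : Set N) ∈ 𝓝 (0 : M) :=
      hopen.mem_nhds ⟨0, V.zero_mem, map_zero u⟩
    refine mem_of_superset hmem ?_
    rintro _ ⟨z, hz, rfl⟩
    exact hV hz

end Groth.Agent.Lib.Helper26.OpenMapXor
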