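import Mathlib
import Groth.Agent.Lib.Helper26.RFSerre

set_option maxHeartbeats 400000
set_option linter.style.haveILetI false
set_option linter.unusedSectionVars false

namespace Groth.Agent.Lib.Helper26.RFSerreLe

open CategoryTheory Limits Pretriangulated Groth.Agent.Lib.Helper8 DerivedCategory
open Groth.Agent.Lib.Helper26.RFSerre

universe w w' v v' u u'

variable {A : Type u} [Category.{v} A] [Abelian A] [HasDerivedCategory.{w} A]
  {B : Type u'} [Category.{v'} B] [Abelian B] [HasDerivedCategory.{w'} B]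
  (hK : ∀ X : HomotopyCategory A (ComplexShape.up ℤ),
    ∃ (J : HomotopyCategory A (ComplexShape.up ℤ)) (_ : KInjDer.kinj J) (s : X ⟶ J),
      HomotopyCategory.quasiIso A (ComplexShape.up ℤ) s)
  [HasInjectiveResolutions A]
  (F : A ⥤ B) [F.Additive]
  (RF : DerivedCategory A ⥤ DerivedCategory B)
  (β : F.mapHomotopyCategory (ComplexShape.up ℤ) ⋙ Qh ⟶ Qh ⋙ RF)
  [RF.IsRightDerivedFunctor β (HomotopyCategory.quasiIso A (ComplexShape.up ℤ))]

variable (P : B → Prop) (hPiso : ∀ M N : B, (M ≅ N) → P M → P N)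
    (hPzero : ∀ M : B, IsZero M → P M)
    (hPfive : ∀ (M₁ M₂ M₃ M₄ M₅ : B) (f₁ : M₁ ⟶ M₂) (f₂ : M₂ ⟶ M₃) (f₃ : M₃ ⟶ M₄) (f₄ : M₄ ⟶ M₅)
      (w₁ : f₁ ≫ f₂ = 0) (w₂ : f₂ ≫ f₃ = 0) (w₃ : f₃ ≫ f₄ = 0),
      (ShortComplex.mk f₁ f₂ w₁).Exact → (ShortComplex.mk f₂ f₃ w₂).Exact →
      (ShortComplex.mk f₃ f₄ w₃).Exact → P M₁ → P M₂ → P M₄ → P M₅ → P M₃)

variable (Qp : A → Prop) (hQiso : ∀ M N : A, (M ≅ N) → Qp M → Qp N)
    (hQ : ∀ G : A, Qp G → ∀ p : ℕ, P ((F.rightDerived p).obj G))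

include hK β hPiso hPzero hPfive hQiso hQ in
/-- **weak Serre dévissage in low degrees**: if the cohomology objects of the bounded below
object `Y` are in `Qp` in degrees `≤ n`, then the cohomology objects of `RF Y` are in `P` in
degrees `≤ n`. -/
theorem serre_le (Y : DerivedCategory A) (a : ℤ) [Y.IsGE a] (n : ℤ)
    (hY : ∀ j, j ≤ n → Qp ((homologyFunctor A j).obj Y)) (i : ℤ) (hi : i ≤ n) :
    P ((homologyFunctor B i).obj (RF.obj Y)) := by
  have hT := (TStructure.t (C := A)).triangleLTGE_distinguished (n + 1) Y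
  have hGE : (((TStructure.t (C := A)).truncLT (n + 1)).obj Y).IsGE a := by
    show (TStructure.t (C := A)).IsGE _ a
    infer_instance
  have hLE : (((TStructure.t (C := A)).truncLT (n + 1)).obj Y).IsLE (n + 1 - 1) := by
    show (TStructure.t (C := A)).IsLE _ (n + 1 - 1)
    infer_instance
  have hGE3 : (((TStructure.t (C := A)).truncGE (n + 1)).obj Y).IsGE (n + 1) := by
    show (TStructure.t (C := A)).IsGE _ (n + 1)
    infer_instance
  haveI := RF_isGE hK F RF β (((TStructure.t (C := A)).truncGE (n + 1)).obj Y) (n + 1)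
  have h1 : ∀ i', P ((homologyFunctor B i').obj
      (RF.obj (((TStructure.t (C := A)).truncLT (n + 1)).obj Y))) := by
    intro i'
    refine bdd hK F RF β P hPiso hPzero hPfive Qp hQiso hQ _ a (n + 1 - 1) ?_ i'
    intro j _ hj2
    have := Groth.Agent.Lib.Helper16.DerT.isIso_homologyMap_truncLTι Y (n + 1) j (by omega)
    exact hQiso _ _ (asIso ((homologyFunctor A j).map
      (((TStructure.t (C := A)).truncLTι (n + 1)).app Y))).symm (hY j (by omega))
  have hz : ∀ i', i' < n + 1 → IsZero ((homologyFunctor B i').obj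
      (RF.obj (((TStructure.t (C := A)).truncGE (n + 1)).obj Y))) :=
    fun i' hi' => isZero_of_isGE _ (n + 1) i' hi'
  exact ext_step hK F RF β P hPfive _ hT i (h1 i) (h1 (i + 1))
    (hPzero _ (hz (i - 1) (by omega))) (hPzero _ (hz i (by omega)))

end Groth.Agent.Lib.Helper26.RFSerreLe
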