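import Mathlib
import Groth.Prelude.Def_Coh
import Groth.Prelude.Def_DCoh2
import Groth.Agent.Lib.Helper26.PushComp
import Groth.Agent.Lib.Helper26.CohFive
import Groth.Agent.Lib.Helper26.RFSerreLe
import Groth.Agent.S0036

set_option autoImplicit false
set_option maxHeartbeats 400000
set_option linter.style.haveILetI false
set_option linter.unusedSectionVars false
universe u
open CategoryTheory CategoryTheory.Limits AlgebraicGeometry Opposite TopologicalSpace

attribute [local instance] HasDerivedCategory.standard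

namespace Groth.Agent.Lib.Helper26.OpenProper

open Groth.Agent.Lib.Helper26 DerivedCategory

theorem main {X S : Scheme.{u}} (f : X ⟶ S) [IsProper f] [IsLocallyNoetherian S] (U : X.Opens)
    [HasInjectiveResolutions (U : Scheme.{u}).Modules] [HasInjectiveResolutions X.Modules]
    (F : (U : Scheme.{u}).Modules) (n : ℕ)
    (hg : ∀ i : ℕ, i ≤ n → Coh.IsCoh ((Coh.Rpush U.ι i).obj F)) (i : ℕ) (hi : i ≤ n) :
    Coh.IsCoh ((Coh.Rpush (U.ι ≫ f) i).obj F) := by
  haveI := SuppD3.hasRpush U.ι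
  haveI := SuppD3.hasRpush f
  haveI := SuppD3.hasRpush (U.ι ≫ f)
  let E : DCoh.D (U : Scheme.{u}) := DCoh.inD (U : Scheme.{u}) F
  haveI : E.IsGE 0 := by dsimp [E]; infer_instance
  haveI : E.IsLE 0 := by dsimp [E]; infer_instance
  let Y : DCoh.D X := (DCoh.Rpush U.ι).obj E
  haveI : Y.IsGE 0 := RpushGE.Rpush_isGE U.ι E 0
  have hq : ∀ q : ℕ, Nonempty (DCoh.HD Y (q : ℤ) ≅ (Coh.Rpush U.ι q).obj F) := fun q => by
    obtain ⟨e⟩ := PushComp.HD_Rpush_of_single U.ι E 0 q (q : ℤ) (by simp)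
    exact ⟨e ≪≫ (Coh.Rpush U.ι q).mapIso (PushComp.HDinD F)⟩
  have hY : ∀ j : ℤ, j ≤ (n : ℤ) → Coh.IsCoh ((homologyFunctor X.Modules j).obj Y) := by
    intro j hj
    by_cases hj0 : j < 0
    · exact CohFive.isCoh_of_isZero _ (isZero_of_isGE Y 0 j hj0)
    · obtain ⟨q, rfl⟩ := Int.eq_ofNat_of_zero_le (not_lt.1 hj0)
      obtain ⟨e⟩ := hq q
      exact CohFive.isCoh_of_iso e.symm (hg q (by exact_mod_cast hj))
  have key := RFSerreLe.serre_le (KInjAdjH.hK (B := X.Modules)) (Scheme.Modules.pushforward f)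
    (DCoh.Rpush f)
    ((DCoh.pushKh f).totalRightDerivedUnit Qh
      (HomotopyCategory.quasiIso X.Modules (ComplexShape.up ℤ)))
    (fun M : S.Modules => Coh.IsCoh M) (fun M N e h => CohFive.isCoh_of_iso e h)
    (fun M h => CohFive.isCoh_of_isZero M h) CohFive.coh_five
    (fun M : X.Modules => Coh.IsCoh M) (fun M N e h => CohFive.isCoh_of_iso e h)
    (fun G hG p => Groth.Agent.S0036.result f G hG p)
    Y 0 (n : ℤ) hY (i : ℤ) (by exact_mod_cast hi)
  obtain ⟨c⟩ := RpushAdjCor.rpush_comp U.ι f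
  obtain ⟨e2⟩ := PushComp.HD_Rpush_of_single (U.ι ≫ f) E 0 i (i : ℤ) (by simp)
  exact CohFive.isCoh_of_iso ((DerivedCategory.homologyFunctor _ (i : ℤ)).mapIso (c.app E) ≪≫ e2 ≪≫
    (Coh.Rpush (U.ι ≫ f) i).mapIso (PushComp.HDinD F)) key

end Groth.Agent.Lib.Helper26.OpenProper
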