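import Mathlib
import Groth.Prelude.Def_AlgGrp
import Groth.Prelude.Def_W4bk4git07Quot
import Groth.Agent.Lib.Helper26.PB1

set_option autoImplicit false
set_option maxHeartbeats 400000
set_option linter.unusedVariables false
set_option linter.unusedSectionVars false
set_option linter.style.haveILetI false
set_option linter.unusedSimpArgs false
set_option linter.unnecessarySimpa false

universe u
open CategoryTheory MonoidalCategory CartesianMonoidalCategory MonObj GrpObj AlgebraicGeometry Limits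

namespace Groth.Agent.Lib.Helper26.PB2

open Groth.Agent.Lib.Helper26

variable {S : Scheme.{u}} {G H : Over S} [GrpObj G] [GrpObj H] (j : H ⟶ G)
  (r : AlgGrp.Action H G)
  (hr : ∀ (T : Over S) (h : T ⟶ H) (g : T ⟶ G), lift h g ≫ r.act = g * (h ≫ j)⁻¹)
  {X : Over S} (aX : AlgGrp.Action H X) (b : AlgGrp.Action H (G ⊗ X))
  (hb : ∀ (T : Over S) (h : T ⟶ H) (g : T ⟶ G) (x : T ⟶ X),
      lift h (lift g x) ≫ b.act = lift (g * (h ≫ j)⁻¹) (lift h x ≫ aX.act))

theorem lift_univ : lift (fst H (G ⊗ X)) (lift (snd H (G ⊗ X) ≫ fst G X) (snd H (G ⊗ X) ≫ snd G X)) =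
    𝟙 (H ⊗ (G ⊗ X)) := by
  apply CartesianMonoidalCategory.hom_ext
  · simp
  · apply CartesianMonoidalCategory.hom_ext <;> simp

include hr hb in
/-- the first projection `G × X → G` is `H`-equivariant -/
theorem equivariant_fst : b.act ≫ fst G X = (H ◁ fst G X) ≫ r.act := by
  have e := hb (H ⊗ (G ⊗ X)) (fst _ _) (snd _ _ ≫ fst _ _) (snd _ _ ≫ snd _ _)
  rw [lift_univ, Category.id_comp] at e
  rw [e, lift_fst, ← hr]
  congr 1

variable {Y : Over S} (aY : AlgGrp.Action H Y) (c : AlgGrp.Action H (G ⊗ Y))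
  (hc : ∀ (T : Over S) (h : T ⟶ H) (g : T ⟶ G) (x : T ⟶ Y),
      lift h (lift g x) ≫ c.act = lift (g * (h ≫ j)⁻¹) (lift h x ≫ aY.act))
  (i : X ⟶ Y) (hi : aX.act ≫ i = (H ◁ i) ≫ aY.act)

include hb hc hi in
/-- `G × X → G × Y` induced by an equivariant map is `H`-equivariant -/
theorem equivariant_whiskerLeft : b.act ≫ (G ◁ i) = (H ◁ (G ◁ i)) ≫ c.act := by
  have e := hb (H ⊗ (G ⊗ X)) (fst _ _) (snd _ _ ≫ fst _ _) (snd _ _ ≫ snd _ _)
  rw [lift_univ, Category.id_comp] at e
  have e' := hc (H ⊗ (G ⊗ X)) (fst _ _) (snd _ _ ≫ fst _ _) (snd _ _ ≫ snd _ _ ≫ i)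
  have e3 : (H ◁ (G ◁ i)) = lift (fst H (G ⊗ X))
      (lift (snd H (G ⊗ X) ≫ fst G X) (snd H (G ⊗ X) ≫ snd G X ≫ i)) := by
    apply CartesianMonoidalCategory.hom_ext
    · simp
    · apply CartesianMonoidalCategory.hom_ext <;> simp
  rw [e3, e', e]
  apply CartesianMonoidalCategory.hom_ext
  · simp
  · simp only [Category.assoc, whiskerLeft_snd, lift_snd_assoc, lift_snd]
    rw [hi, ← Category.assoc]
    congr 1
    apply CartesianMonoidalCategory.hom_ext <;> simp

/-- quasi-compactness of a quotient map -/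
theorem quasiCompact_left {P Q : Over S} (q : P ⟶ Q) [QuasiCompact P.hom] [QuasiSeparated Q.hom] :
    QuasiCompact q.left := by
  have : QuasiCompact (q.left ≫ Q.hom) := by rw [Over.w]; infer_instance
  exact QuasiCompact.of_comp q.left Q.hom

instance quasiCompact_tensor_hom (A B : Over S) [QuasiCompact A.hom] [QuasiCompact B.hom] :
    QuasiCompact (A ⊗ B).hom := by
  have : (A ⊗ B).hom = pullback.fst A.hom B.hom ≫ A.hom := rfl
  rw [this]
  infer_instance

end Groth.Agent.Lib.Helper26.PB2
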