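import Mathlib
import Groth.Prelude.Def_AlgGrp
import Groth.Prelude.Def_W4bk4git07Quot
import Groth.Agent.Lib.Helper26.PB2

set_option autoImplicit false
set_option maxHeartbeats 400000
set_option linter.unusedVariables false
set_option linter.unusedSectionVars false
set_option linter.style.haveILetI false
set_option linter.unusedSimpArgs false
set_option linter.unnecessarySimpa false

universe u
open CategoryTheory MonoidalCategory CartesianMonoidalCategory MonObj GrpObj AlgebraicGeometry Limits

namespace Groth.Agent.Lib.Helper26.PB3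

section cube

variable {A' B' C' D' A B C D : Scheme.{u}}
  {tB : A' ⟶ B'} {tC : A' ⟶ C'} {uB : B' ⟶ D'} {uC : C' ⟶ D'}
  {sB : A ⟶ B} {sC : A ⟶ C} {vB : B ⟶ D} {vC : C ⟶ D}
  {a : A' ⟶ A} {b : B' ⟶ B} {c : C' ⟶ C} {d : D' ⟶ D}

/-- fpqc descent of cartesian squares: if the top face of a cube is cartesian, the relevant vertical
faces are cartesian and the vertical map is an fpqc cover, then the bottom face is cartesian. -/
theorem isPullback_of_cube (htop : IsPullback tB tC uB uC) (hbot : sB ≫ vB = sC ≫ vC)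
    (hb : IsPullback b uB vB d) (hc : IsPullback c uC vC d) (hab : IsPullback a tB sB b)
    (hac : a ≫ sC = tC ≫ c) [Flat d] [Surjective d] [QuasiCompact d] :
    IsPullback sB sC vB vC := by
  let wmap : pullback uB uC ⟶ pullback vB vC :=
    pullback.map uB uC vB vC b c d hb.w.symm hc.w.symm
  have hw1 : wmap ≫ pullback.fst vB vC = pullback.fst uB uC ≫ b := pullback.lift_fst _ _ _
  have hw2 : wmap ≫ pullback.snd vB vC = pullback.snd uB uC ≫ c := pullback.lift_snd _ _ _
  -- Step 1
  have S1' : IsPullback (pullback.snd uB uC) (pullback.fst uB uC) uC uB :=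
    (IsPullback.of_hasPullback uB uC).flip
  have hout : IsPullback (pullback.snd uB uC ≫ c) (pullback.fst uB uC) vC (uB ≫ d) :=
    S1'.paste_horiz hc
  have hout' : IsPullback (wmap ≫ pullback.snd vB vC) (pullback.fst uB uC) vC (b ≫ vB) := by
    rw [hw2, hb.w]
    exact hout
  have S2' : IsPullback (pullback.snd vB vC) (pullback.fst vB vC) vC vB :=
    (IsPullback.of_hasPullback vB vC).flip
  have step1 : IsPullback wmap (pullback.fst uB uC) (pullback.fst vB vC) b :=
    IsPullback.of_right hout' hw1 S2'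
  -- Step 2
  have hQd : (@Surjective ⊓ @Flat ⊓ @QuasiCompact : MorphismProperty Scheme.{u}) d :=
    ⟨⟨inferInstance, inferInstance⟩, inferInstance⟩
  have hstab : (@Surjective ⊓ @Flat ⊓ @QuasiCompact :
      MorphismProperty Scheme.{u}).IsStableUnderBaseChange := by
    have i1 : MorphismProperty.IsStableUnderBaseChange (C := Scheme.{u}) (@Surjective ⊓ @Flat) :=
      MorphismProperty.IsStableUnderBaseChange.inf
    exact MorphismProperty.IsStableUnderBaseChange.inf
  have hQb : (@Surjective ⊓ @Flat ⊓ @QuasiCompact : MorphismProperty Scheme.{u}) b :=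
    MorphismProperty.of_isPullback hb.flip hQd
  have hQw : (@Surjective ⊓ @Flat ⊓ @QuasiCompact : MorphismProperty Scheme.{u}) wmap :=
    MorphismProperty.of_isPullback step1.flip hQb
  -- Step 3
  let κ : A ⟶ pullback vB vC := pullback.lift sB sC hbot
  let κ' : A' ⟶ pullback uB uC := pullback.lift tB tC htop.w
  have hκ' : IsIso κ' := by
    have : κ' = htop.isoPullback.hom := by
      apply pullback.hom_ext
      · rw [pullback.lift_fst, IsPullback.isoPullback_hom_fst]
      · rw [pullback.lift_snd, IsPullback.isoPullback_hom_snd]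
    rw [this]
    infer_instance
  have hcomm : κ' ≫ wmap = a ≫ κ := by
    apply pullback.hom_ext
    · rw [Category.assoc, hw1, ← Category.assoc, pullback.lift_fst, Category.assoc,
        pullback.lift_fst, hab.w]
    · rw [Category.assoc, hw2, ← Category.assoc, pullback.lift_snd, Category.assoc,
        pullback.lift_snd, hac]
  have hout2 : IsPullback (κ' ≫ pullback.fst uB uC) a b (κ ≫ pullback.fst vB vC) := by
    rw [pullback.lift_fst, pullback.lift_fst]
    exact hab.flip
  have step3 : IsPullback κ' a wmap κ := IsPullback.of_right hout2 hcomm step1.flip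
  -- Step 4
  have hκ : IsIso κ :=
    MorphismProperty.of_isPullback_of_descendsAlong
      (P := MorphismProperty.isomorphisms Scheme.{u})
      (Q := @Surjective ⊓ @Flat ⊓ @QuasiCompact) step3 hQw hκ'
  exact IsPullback.of_iso_pullback ⟨hbot⟩ (asIso κ) (pullback.lift_fst _ _ _)
    (pullback.lift_snd _ _ _)

end cube

section top

variable {C : Type*} [Category C] [CartesianMonoidalCategory C] (G X Y : C)

/-- `G ⊗ (X ⊗ Y)` is the fibre product of `G ⊗ X` and `G ⊗ Y` over `G`. -/
theorem isPullback_whiskerLeft_fst_snd :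
    IsPullback (G ◁ fst X Y) (G ◁ snd X Y) (fst G X) (fst G Y) := by
  refine ⟨⟨by simp⟩, ⟨PullbackCone.IsLimit.mk _
    (fun s => lift (s.fst ≫ fst G X) (lift (s.fst ≫ snd G X) (s.snd ≫ snd G Y))) ?_ ?_ ?_⟩⟩
  · intro s
    apply CartesianMonoidalCategory.hom_ext <;> simp
  · intro s
    apply CartesianMonoidalCategory.hom_ext
    · simp [s.condition]
    · simp
  · intro s m h1 h2
    apply CartesianMonoidalCategory.hom_ext
    · rw [lift_fst, ← h1]
      simp
    · apply CartesianMonoidalCategory.hom_ext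
      · rw [lift_snd, lift_fst, ← h1]
        simp
      · rw [lift_snd, lift_snd, ← h2]
        simp

end top

section equiv

open Groth.Agent.Lib.Helper26

variable {S : Scheme.{u}} {G H : Over S} [GrpObj G] [GrpObj H] (j : H ⟶ G)
  {Z X : Over S} (aX : AlgGrp.Action H X) (b : AlgGrp.Action H (G ⊗ X))
  (hb : ∀ (T : Over S) (h : T ⟶ H) (g : T ⟶ G) (x : T ⟶ X),
      lift h (lift g x) ≫ b.act = lift (g * (h ≫ j)⁻¹) (lift h x ≫ aX.act))
  (dZ : AlgGrp.Action H (G ⊗ Z)) (φ : H ⊗ (G ⊗ Z) ⟶ Z)
  (hd : dZ.act = lift ((snd H (G ⊗ Z) ≫ fst G Z) * (fst H (G ⊗ Z) ≫ j)⁻¹) φ)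
  (i : Z ⟶ X)
  (hφ : φ ≫ i = lift (fst H (G ⊗ Z)) (snd H (G ⊗ Z) ≫ snd G Z ≫ i) ≫ aX.act)

include hb hd hφ in
/-- general equivariance of `G ◁ i` -/
theorem equivariant_whiskerLeft' : dZ.act ≫ (G ◁ i) = (H ◁ (G ◁ i)) ≫ b.act := by
  have e' := hb (H ⊗ (G ⊗ Z)) (fst _ _) (snd _ _ ≫ fst _ _) (snd _ _ ≫ snd _ _ ≫ i)
  have e3 : (H ◁ (G ◁ i)) = lift (fst H (G ⊗ Z))
      (lift (snd H (G ⊗ Z) ≫ fst G Z) (snd H (G ⊗ Z) ≫ snd G Z ≫ i)) := by
    apply CartesianMonoidalCategory.hom_ext
    · simp
    · apply CartesianMonoidalCategory.hom_ext <;> simp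
  rw [e3, e', hd]
  apply CartesianMonoidalCategory.hom_ext
  · simp
  · simp only [Category.assoc, whiskerLeft_snd, lift_snd_assoc, lift_snd]
    exact hφ

end equiv

end Groth.Agent.Lib.Helper26.PB3
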