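import Mathlib
import Groth.Prelude.Def_AlgGrp
import Groth.Prelude.Def_ChGrp
import Groth.Prelude.Def_W4bk4git07Quot
import Groth.Agent.Lib.Helper26.PB3

set_option autoImplicit false
set_option maxHeartbeats 400000
set_option linter.unusedVariables false
set_option linter.unusedSectionVars false
set_option linter.style.haveILetI false
set_option linter.unusedSimpArgs false
set_option linter.unnecessarySimpa false

universe u
open CategoryTheory MonoidalCategory CartesianMonoidalCategory MonObj GrpObj AlgebraicGeometry Limits

namespace Groth.Agent.Lib.Helper26.PB4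

section top

variable {C : Type*} [Category C] [CartesianMonoidalCategory C] {X Y : C} (f : X ⟶ Y) (U : C)

/-- `X ⊗ U` is the base change of `Y ⊗ U → Y` along `f`. -/
theorem isPullback_whiskerRight_fst :
    IsPullback (f ▷ U) (fst X U) (fst Y U) f := by
  refine ⟨⟨by simp⟩, ⟨PullbackCone.IsLimit.mk _
    (fun s => lift s.snd (s.fst ≫ snd Y U)) ?_ ?_ ?_⟩⟩
  · intro s
    apply CartesianMonoidalCategory.hom_ext
    · simp [s.condition]
    · simp
  · intro s
    simp
  · intro s m h1 h2
    apply CartesianMonoidalCategory.hom_ext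
    · rw [lift_fst, ← h2]
    · rw [lift_snd, ← h1]
      simp

end top

section equiv

variable {S : Scheme.{u}} {G X Y U : Over S} [GrpObj G]
  (a : AlgGrp.Action G X) (aY : AlgGrp.Action G Y) (b : AlgGrp.Action G U)
  (f : X ⟶ Y) (hf : AlgGrp.Action.IsEquivariant a aY f)

include hf in
theorem equivariant_whiskerRight :
    (a.prod b).act ≫ (f ▷ U) = (G ◁ (f ▷ U)) ≫ (aY.prod b).act := by
  unfold AlgGrp.Action.IsEquivariant at hf
  apply CartesianMonoidalCategory.hom_ext
  · simp only [AlgGrp.Action.prod_act, Category.assoc, whiskerRight_fst, lift_fst_assoc, lift_fst]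
    rw [hf, ← MonoidalCategory.whiskerLeft_comp_assoc, ← MonoidalCategory.whiskerLeft_comp_assoc,
      whiskerRight_fst]
  · simp only [AlgGrp.Action.prod_act, Category.assoc, whiskerRight_snd, lift_snd]
    rw [← MonoidalCategory.whiskerLeft_comp_assoc, whiskerRight_snd]

end equiv

end Groth.Agent.Lib.Helper26.PB4
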