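import Mathlib
import Groth.Prelude.Def_AlgGrp
import Groth.Prelude.Def_W4bk4git07Quot
import Groth.Agent.Lib.Helper26.PB1

set_option autoImplicit false
set_option maxHeartbeats 400000
set_option linter.unusedVariables false
set_option linter.unusedSectionVars false
set_option linter.style.haveILetI false
set_option linter.unusedSimpArgs false
set_option linter.unnecessarySimpa false

universe u
open CategoryTheory MonoidalCategory CartesianMonoidalCategory MonObj GrpObj AlgebraicGeometry Limits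

namespace Groth.Agent.Lib.Helper26.PB5

open Groth.Agent.Lib.Helper4.ActShear
open Groth.Agent.Lib.Helper26

section general

variable {C : Type*} [Category C] {Z W W' : C} (Ψ : Z ⟶ W) (c : W' ⟶ W) [HasPullback Ψ c]

/-- if every point of `W'` lifts uniquely through `Ψ`, the base change of `Ψ` to `W'` is an iso -/
theorem isIso_snd_of_existsUnique
    (h : ∀ (T : C) (w : T ⟶ W'), ∃! z : T ⟶ Z, z ≫ Ψ = w ≫ c) :
    IsIso (pullback.snd Ψ c) := by
  obtain ⟨z0, hz0, -⟩ := h W' (𝟙 W')
  let σ : W' ⟶ pullback Ψ c := pullback.lift z0 (𝟙 W') hz0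
  have h1 : σ ≫ pullback.snd Ψ c = 𝟙 _ := pullback.lift_snd _ _ _
  have h2 : pullback.snd Ψ c ≫ σ = 𝟙 _ := by
    apply pullback.hom_ext
    · rw [Category.assoc, pullback.lift_fst, Category.id_comp]
      obtain ⟨z1, -, huniq⟩ := h (pullback Ψ c) (pullback.snd Ψ c)
      have e1 : pullback.snd Ψ c ≫ z0 = z1 := huniq _ (by
        show (pullback.snd Ψ c ≫ z0) ≫ Ψ = pullback.snd Ψ c ≫ c
        rw [Category.assoc, hz0, Category.id_comp])
      have e2 : pullback.fst Ψ c = z1 := huniq _ pullback.condition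
      rw [e1, e2]
    · rw [Category.assoc, pullback.lift_snd, Category.id_comp, Category.comp_id]
  exact ⟨σ, h2, h1⟩

end general

variable {S : Scheme.{u}} {G P X : Over S} [GrpObj G] (a : AlgGrp.Action G P) (π : P ⟶ X)
  (hinv : GIT.IsInvariant a π)
  (Vo : Over S) (ψ : Vo.left ⟶ X.left) (hψ : ψ ≫ X.hom = Vo.hom) (s : Vo ⟶ P)
  (sq : IsPullback (fst Vo G).left (lift (snd Vo G) (fst Vo G ≫ s) ≫ a.act).left ψ π.left)

include sq in
/-- the trivialisation on points -/
theorem triv_exists {T : Over S} (uo : T ⟶ Vo) (p : T ⟶ P)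
    (hp : p.left ≫ π.left = uo.left ≫ ψ) : ∃ g : T ⟶ G, smul a g (uo ≫ s) = p := by
  let w0 : T.left ⟶ (Vo ⊗ G).left := sq.lift uo.left p.left hp.symm
  have hw1 : w0 ≫ (fst Vo G).left = uo.left := sq.lift_fst _ _ _
  have hw2 : w0 ≫ (lift (snd Vo G) (fst Vo G ≫ s) ≫ a.act).left = p.left := sq.lift_snd _ _ _
  have hw3 : w0 ≫ (Vo ⊗ G).hom = T.hom := by
    rw [← Over.w (fst Vo G), ← Category.assoc, hw1, Over.w]
  let w : T ⟶ Vo ⊗ G := Over.homMk w0 hw3
  have hwfst : w ≫ fst Vo G = uo := by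
    apply Over.OverMorphism.ext
    rw [Over.comp_left]
    exact hw1
  refine ⟨w ≫ snd Vo G, ?_⟩
  apply Over.OverMorphism.ext
  rw [← hw2]
  have : smul a (w ≫ snd Vo G) (uo ≫ s) = w ≫ (lift (snd Vo G) (fst Vo G ≫ s) ≫ a.act) := by
    unfold smul
    rw [← Category.assoc, comp_lift, ← Category.assoc, hwfst]
  rw [this, Over.comp_left]
  rfl

include sq in
theorem triv_unique {T : Over S} (uo : T ⟶ Vo) (g g' : T ⟶ G)
    (e : smul a g (uo ≫ s) = smul a g' (uo ≫ s)) : g = g' := by
  have key : ∀ g : T ⟶ G, (lift uo g) ≫ (lift (snd Vo G) (fst Vo G ≫ s) ≫ a.act) =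
      smul a g (uo ≫ s) := by
    intro g
    unfold smul
    rw [← Category.assoc, comp_lift, lift_snd, ← Category.assoc, lift_fst]
  have h1 : (lift uo g).left = (lift uo g').left := by
    apply sq.hom_ext
    · rw [← Over.comp_left, ← Over.comp_left, lift_fst, lift_fst]
    · rw [← Over.comp_left, ← Over.comp_left, key, key, e]
  have h2 : lift uo g = lift uo g' := Over.OverMorphism.ext h1
  have := congrArg (· ≫ snd Vo G) h2
  simpa using this

/-- the map `P ×_X P → X` -/
noncomputable abbrev ρ : pullback π.left π.left ⟶ X.left := pullback.fst π.left π.left ≫ π.left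

include hψ sq in
/-- unique lifting of points of the chart through `PsiY` -/
theorem existsUnique_lift (T : Scheme.{u}) (w : T ⟶ pullback (ρ π) ψ) :
    ∃! z : T ⟶ (G ⊗ P).left, z ≫ GIT.PsiY a π hinv = w ≫ pullback.fst (ρ π) ψ := by
  let c := pullback.fst (ρ π) ψ
  let u : T ⟶ Vo.left := w ≫ pullback.snd (ρ π) ψ
  let p1 : T ⟶ P.left := w ≫ c ≫ pullback.fst π.left π.left
  let p2 : T ⟶ P.left := w ≫ c ≫ pullback.snd π.left π.left
  have hc : c ≫ ρ π = pullback.snd (ρ π) ψ ≫ ψ := pullback.condition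
  have hp1 : p1 ≫ π.left = u ≫ ψ := by
    simp only [p1, u, Category.assoc]
    rw [← hc]
  have hp2 : p2 ≫ π.left = u ≫ ψ := by
    have h12 : p2 ≫ π.left = p1 ≫ π.left := by
      simp only [p1, p2, Category.assoc]
      rw [(pullback.condition : pullback.fst π.left π.left ≫ π.left =
        pullback.snd π.left π.left ≫ π.left)]
    exact h12.trans hp1
  let To : Over S := Over.mk (u ≫ Vo.hom)
  let uo : To ⟶ Vo := Over.homMk u rfl
  have hP : ∀ p : T ⟶ P.left, p ≫ π.left = u ≫ ψ → p ≫ P.hom = u ≫ Vo.hom := by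
    intro p hp
    rw [← Over.w π, ← Category.assoc, hp, Category.assoc, hψ]
  let p1o : To ⟶ P := Over.homMk p1 (hP p1 hp1)
  let p2o : To ⟶ P := Over.homMk p2 (hP p2 hp2)
  obtain ⟨g1, hg1⟩ := triv_exists a π Vo ψ s sq uo p1o hp1
  obtain ⟨g2, hg2⟩ := triv_exists a π Vo ψ s sq uo p2o hp2
  have hΨ1 : ∀ z : T ⟶ (G ⊗ P).left, z ≫ GIT.PsiY a π hinv = w ≫ c ↔
      (z ≫ a.act.left = p1 ∧ z ≫ (snd G P).left = p2) := by
    intro z
    constructor
    · intro hz
      constructor
      · rw [← PB1.psiY_fst a π hinv, ← Category.assoc, hz, Category.assoc]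
      · rw [← PB1.psiY_snd a π hinv, ← Category.assoc, hz, Category.assoc]
    · rintro ⟨h1, h2⟩
      apply pullback.hom_ext
      · rw [Category.assoc, PB1.psiY_fst, h1, Category.assoc]
      · rw [Category.assoc, PB1.psiY_snd, h2, Category.assoc]
  refine ⟨(lift (g1 * g2⁻¹) p2o).left, (hΨ1 _).mpr ⟨?_, ?_⟩, ?_⟩
  · · have : smul a (g1 * g2⁻¹) p2o = p1o := by
        rw [← hg2, ← hg1]
        have := mul_smul' a (g1 * g2⁻¹) g2 (uo ≫ s)
        rw [← Hom.mul_def, inv_mul_cancel_right] at this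
        exact this.symm
      have h := congrArg (fun m => Over.Hom.left m) this
      exact h
  · rw [← Over.comp_left, lift_snd]
    rfl
  · intro z hz
    obtain ⟨h1, h2⟩ := (hΨ1 z).mp hz
    have hz3 : z ≫ (G ⊗ P).hom = To.hom := by
      rw [← Over.w (snd G P), ← Category.assoc, h2]
      exact hP p2 hp2
    let zo : To ⟶ G ⊗ P := Over.homMk z hz3
    have hzsnd : zo ≫ snd G P = p2o := Over.OverMorphism.ext (by rw [Over.comp_left]; exact h2)
    have hzact : zo ≫ a.act = p1o := Over.OverMorphism.ext (by rw [Over.comp_left]; exact h1)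
    have hzo : zo = lift (zo ≫ fst G P) p2o := by
      apply CartesianMonoidalCategory.hom_ext
      · rw [lift_fst]
      · rw [lift_snd, hzsnd]
    have e1 : smul a (zo ≫ fst G P) p2o = p1o := by
      unfold smul
      rw [← hzo, hzact]
    have e2 : smul a ((zo ≫ fst G P) * g2) (uo ≫ s) = smul a g1 (uo ≫ s) := by
      rw [Hom.mul_def, mul_smul', hg2, e1, hg1]
    have e3 : (zo ≫ fst G P) * g2 = g1 := triv_unique a π Vo ψ s sq uo _ _ e2
    have e4 : zo ≫ fst G P = g1 * g2⁻¹ := by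
      rw [← e3, mul_inv_cancel_right]
    change zo.left = _
    rw [hzo, e4]

include hψ sq in
theorem isIso_snd_psiY :
    IsIso (pullback.snd (GIT.PsiY a π hinv) (pullback.fst (ρ π) ψ)) :=
  isIso_snd_of_existsUnique _ _ (existsUnique_lift a π hinv Vo ψ hψ s sq)

end Groth.Agent.Lib.Helper26.PB5
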