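import Mathlib

set_option maxHeartbeats 400000

namespace Groth.Agent.Lib.Helper26.PSChain

open PowerSeries

variable {R : Type*} [CommRing R] {σ : Type*}

/-- chain rule, polynomial case -/
theorem pderiv_subst_coe (i : σ) (p : Polynomial R) {g : MvPowerSeries σ R} (hg : HasSubst g) :
    MvPowerSeries.pderiv R i ((p : PowerSeries R).subst g) =
      (PowerSeries.derivative R (p : PowerSeries R)).subst g * MvPowerSeries.pderiv R i g := by
  simp [subst_coe hg, derivative_coe,
    Derivation.comp_aeval_eq (a := g) (MvPowerSeries.pderiv R i) p, smul_eq_mul]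

/-- chain rule for substitution of a multivariate series without constant term into a univariate
power series -/
theorem pderiv_subst (i : σ) (f : PowerSeries R) {g : MvPowerSeries σ R}
    (hg0 : MvPowerSeries.constantCoeff g = 0) :
    MvPowerSeries.pderiv R i (f.subst g) =
      (PowerSeries.derivative R f).subst g * MvPowerSeries.pderiv R i g := by
  classical
  have hg : HasSubst g := HasSubst.of_constantCoeff_zero hg0
  ext n
  set m : ℕ := Finsupp.degree (n + Finsupp.single i 1) + 1 with hm
  have hzero : ∀ d, m ≤ d → ∀ n' : σ →₀ ℕ, Finsupp.degree n' ≤ Finsupp.degree (n + Finsupp.single i 1) →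
      MvPowerSeries.coeff n' (g ^ d) = 0 := by
    intro d hd n' hn'
    apply MvPowerSeries.coeff_of_lt_order
    have h1 := MvPowerSeries.le_order_pow_of_constantCoeff_eq_zero d hg0
    refine lt_of_lt_of_le ?_ h1
    exact_mod_cast (by omega : Finsupp.degree n' < d)
  have key : MvPowerSeries.coeff (n + Finsupp.single i 1) (f.subst g) =
      MvPowerSeries.coeff (n + Finsupp.single i 1)
        ((↑(trunc (m + 1) f) : PowerSeries R).subst g) := by
    rw [coeff_subst hg, coeff_subst hg]
    refine finsum_congr fun d ↦ ?_
    obtain hd | hd := lt_or_ge d m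
    · rw [coeff_coe_trunc_of_lt (by omega)]
    · rw [hzero d hd _ le_rfl]; simp
  rw [MvPowerSeries.coeff_pderiv, key, ← MvPowerSeries.coeff_pderiv, pderiv_subst_coe _ _ hg,
    MvPowerSeries.coeff_mul, MvPowerSeries.coeff_mul]
  refine Finset.sum_congr rfl fun ⟨a, b⟩ hab ↦ ?_
  congr 1
  have ha : Finsupp.degree a ≤ Finsupp.degree (n + Finsupp.single i 1) := by
    have hab' : a + b = n := by simpa using hab
    rw [← hab']
    simp only [map_add]
    omega
  simp only [coeff_subst hg, coeff_derivative, Polynomial.coeff_coe, coeff_trunc]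
  refine finsum_congr fun d ↦ ?_
  split_ifs with h
  · rfl
  · rw [hzero d (by omega) a ha]; simp

end Groth.Agent.Lib.Helper26.PSChain
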