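import Mathlib
import Groth.Agent.Lib.Helper26.PSChain

set_option maxHeartbeats 400000

namespace Groth.Agent.Lib.Helper26.PSFunEq

open PowerSeries Groth.Agent.Lib.Helper26.PSChain

variable {R : Type} [CommRing R]

/-- composition: multivariate substitution after a univariate-into-multivariate substitution -/
lemma subst_subst {σ τ : Type*} (b : σ → MvPowerSeries τ R) (hb : MvPowerSeries.HasSubst b)
    (g : MvPowerSeries σ R) (hg : HasSubst g) (F : PowerSeries R) :
    MvPowerSeries.subst b (PowerSeries.subst g F) =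
      PowerSeries.subst (MvPowerSeries.subst b g) F := by
  rw [PowerSeries.subst_def, MvPowerSeries.subst_comp_subst_apply hg.const hb]
  rfl

lemma hasSubst_b1 : MvPowerSeries.HasSubst (![PowerSeries.X, 0] : Fin 2 → PowerSeries R) := by
  apply MvPowerSeries.hasSubst_of_constantCoeff_zero
  intro s
  fin_cases s
  · exact PowerSeries.constantCoeff_X
  · exact map_zero _

lemma hasSubst_b2 : MvPowerSeries.HasSubst (![0, PowerSeries.X] : Fin 2 → PowerSeries R) := by
  apply MvPowerSeries.hasSubst_of_constantCoeff_zero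
  intro s
  fin_cases s
  · exact map_zero _
  · exact PowerSeries.constantCoeff_X

theorem main (F : PowerSeries R)
    (h0 : PowerSeries.constantCoeff F = 1) (ha : IsUnit (PowerSeries.coeff 1 F))
    (hFE : PowerSeries.subst
        (MvPowerSeries.X (0 : Fin 2) + MvPowerSeries.X 1 * PowerSeries.subst (MvPowerSeries.X (0 : Fin 2)) F :
          MvPowerSeries (Fin 2) R) F =
      PowerSeries.subst (MvPowerSeries.X (0 : Fin 2)) F * PowerSeries.subst (MvPowerSeries.X (1 : Fin 2)) F) :
    F = 1 + PowerSeries.C (PowerSeries.coeff 1 F) * PowerSeries.X := by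
  set X₀ : MvPowerSeries (Fin 2) R := MvPowerSeries.X 0 with hX₀
  set X₁ : MvPowerSeries (Fin 2) R := MvPowerSeries.X 1 with hX₁
  set G : MvPowerSeries (Fin 2) R := PowerSeries.subst X₀ F with hG
  set a : MvPowerSeries (Fin 2) R := X₀ + X₁ * G with ha_def
  set F' : PowerSeries R := PowerSeries.derivative R F with hF'
  set c : R := PowerSeries.coeff 1 F with hc
  have hX₀0 : MvPowerSeries.constantCoeff X₀ = 0 := MvPowerSeries.constantCoeff_X 0
  have hX₁0 : MvPowerSeries.constantCoeff X₁ = 0 := MvPowerSeries.constantCoeff_X 1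
  have ha0 : MvPowerSeries.constantCoeff a = 0 := by
    rw [ha_def, map_add, map_mul, hX₀0, hX₁0, zero_mul, add_zero]
  have hsX₀ : HasSubst X₀ := HasSubst.of_constantCoeff_zero hX₀0
  have hsX₁ : HasSubst X₁ := HasSubst.of_constantCoeff_zero hX₁0
  have hsa : HasSubst a := HasSubst.of_constantCoeff_zero ha0
  -- partial derivatives of the basic pieces
  have d1X0 : MvPowerSeries.pderiv R 1 X₀ = 0 := MvPowerSeries.pderiv_X_of_ne (by decide)
  have d1X1 : MvPowerSeries.pderiv R 1 X₁ = 1 := MvPowerSeries.pderiv_X_self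
  have d0X0 : MvPowerSeries.pderiv R 0 X₀ = 1 := MvPowerSeries.pderiv_X_self
  have d0X1 : MvPowerSeries.pderiv R 0 X₁ = 0 := MvPowerSeries.pderiv_X_of_ne (by decide)
  have d1G : MvPowerSeries.pderiv R 1 G = 0 := by
    rw [hG, pderiv_subst 1 F hX₀0, d1X0, mul_zero]
  have d0G : MvPowerSeries.pderiv R 0 G = PowerSeries.subst X₀ F' := by
    rw [hG, pderiv_subst 0 F hX₀0, d0X0, mul_one]
  have d1a : MvPowerSeries.pderiv R 1 a = G := by
    rw [ha_def, map_add, Derivation.leibniz, d1X0, d1X1, d1G]
    simp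
  have d0a : MvPowerSeries.pderiv R 0 a = 1 + X₁ * PowerSeries.subst X₀ F' := by
    rw [ha_def, map_add, Derivation.leibniz, d0X0, d0X1, d0G]
    simp
  -- (E1)
  have E1 : PowerSeries.subst a F' * G = G * PowerSeries.subst X₁ F' := by
    have := congrArg (MvPowerSeries.pderiv R 1) hFE
    rw [pderiv_subst 1 F ha0, d1a, Derivation.leibniz, d1G, pderiv_subst 1 F hX₁0, d1X1] at this
    simpa using this
  -- (E2)
  have E2 : PowerSeries.subst a F' * (1 + X₁ * PowerSeries.subst X₀ F') =
      PowerSeries.subst X₁ F * PowerSeries.subst X₀ F' := by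
    have := congrArg (MvPowerSeries.pderiv R 0) hFE
    rw [pderiv_subst 0 F ha0, d0a, Derivation.leibniz, d0G, pderiv_subst 0 F hX₁0, d0X1] at this
    simpa using this
  -- evaluate E1 at X₁ = 0
  have hb1 := hasSubst_b1 (R := R)
  have ev1X0 : MvPowerSeries.subst (![PowerSeries.X, 0] : Fin 2 → PowerSeries R) X₀ = PowerSeries.X := by
    rw [hX₀, MvPowerSeries.subst_X hb1]; rfl
  have ev1X1 : MvPowerSeries.subst (![PowerSeries.X, 0] : Fin 2 → PowerSeries R) X₁ = 0 := by
    rw [hX₁, MvPowerSeries.subst_X hb1]; rfl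
  have ev1G : MvPowerSeries.subst (![PowerSeries.X, 0] : Fin 2 → PowerSeries R) G = F := by
    rw [hG, subst_subst _ hb1 _ hsX₀, ev1X0]
    exact PowerSeries.X_subst F
  have ev1a : MvPowerSeries.subst (![PowerSeries.X, 0] : Fin 2 → PowerSeries R) a = PowerSeries.X := by
    rw [ha_def, MvPowerSeries.subst_add hb1, MvPowerSeries.subst_mul hb1, ev1X0, ev1X1, zero_mul,
      add_zero]
  have hF'0 : PowerSeries.constantCoeff F' = c := by
    rw [hF', ← PowerSeries.coeff_zero_eq_constantCoeff_apply, PowerSeries.coeff_derivative]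
    simp [hc]
  have hFc : F' * F = F * PowerSeries.C c := by
    have := congrArg (MvPowerSeries.subst (![PowerSeries.X, 0] : Fin 2 → PowerSeries R)) E1
    rw [MvPowerSeries.subst_mul hb1, MvPowerSeries.subst_mul hb1, ev1G, subst_subst _ hb1 _ hsa,
      subst_subst _ hb1 _ hsX₁, ev1a, ev1X1, PowerSeries.X_subst,
      PowerSeries.subst_zero_eq_C_constantCoeff, hF'0] at this
    simp at this
    exact this
  have hFunit : IsUnit F := by
    rw [PowerSeries.isUnit_iff_constantCoeff, h0]; exact isUnit_one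
  have hF'c : F' = PowerSeries.C c := by
    have h := hFunit.mul_left_inj.mp (show F' * F = PowerSeries.C c * F by rw [hFc, mul_comm])
    exact h
  -- plug into E2
  rw [hF'c, PowerSeries.subst_C, PowerSeries.subst_C] at E2
  have hcunit : IsUnit (MvPowerSeries.C c : MvPowerSeries (Fin 2) R) := ha.map _
  have E3 : 1 + X₁ * MvPowerSeries.C c = PowerSeries.subst X₁ F := by
    apply hcunit.mul_left_cancel
    rw [E2, mul_comm]
  -- evaluate at X₀ = 0, X₁ = X
  have hb2 := hasSubst_b2 (R := R)
  have ev2X1 : MvPowerSeries.subst (![0, PowerSeries.X] : Fin 2 → PowerSeries R) X₁ = PowerSeries.X := by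
    rw [hX₁, MvPowerSeries.subst_X hb2]; rfl
  have := congrArg (MvPowerSeries.subst (![0, PowerSeries.X] : Fin 2 → PowerSeries R)) E3
  rw [subst_subst _ hb2 _ hsX₁, ev2X1, PowerSeries.X_subst, MvPowerSeries.subst_add hb2,
    MvPowerSeries.subst_mul hb2, ev2X1, MvPowerSeries.subst_C] at this
  rw [← this, mul_comm]
  congr 1
  rw [← MvPowerSeries.coe_substAlgHom hb2, map_one]

end Groth.Agent.Lib.Helper26.PSFunEq
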