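import Mathlib

set_option maxHeartbeats 400000
set_option autoImplicit false

namespace Groth.Agent.Lib.Helper26.PSNormal

open PowerSeries

section cic

variable {R K : Type*} [CommRing R] [IsDomain R] [IsNoetherianRing R] [IsIntegrallyClosed R]
  [Field K] [Algebra R K] [IsFractionRing R K]

/-- a Noetherian integrally closed domain is completely integrally closed -/
lemma cic (a : K) (c : R) (hc : c ≠ 0)
    (h : ∀ m : ℕ, ∃ r : R, algebraMap R K r = algebraMap R K c * a ^ m) :
    ∃ r : R, algebraMap R K r = a := by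
  have hc' : algebraMap R K c ≠ 0 := by
    rwa [Ne, IsFractionRing.to_map_eq_zero_iff]
  have hint : IsIntegral R a := by
    refine IsIntegral.of_mem_of_fg (Algebra.adjoin R {a}) ?_ a
      (Algebra.subset_adjoin (Set.mem_singleton a))
    let μ : K →ₗ[R] K := LinearMap.mulLeft R (algebraMap R K c)
    have hμ : Function.Injective μ := mul_right_injective₀ hc'
    apply Submodule.fg_of_fg_map_injective μ hμ
    have hle : (Subalgebra.toSubmodule (Algebra.adjoin R {a})).map μ ≤
        LinearMap.range (Algebra.linearMap R K) := by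
      rw [Submodule.map_le_iff_le_comap]
      intro z hz
      rw [Subalgebra.mem_toSubmodule, Algebra.adjoin_singleton_eq_range_aeval] at hz
      obtain ⟨p, rfl⟩ := hz
      rw [Submodule.mem_comap]
      change μ (Polynomial.aeval a p) ∈ _
      rw [Polynomial.aeval_eq_sum_range, map_sum]
      refine Submodule.sum_mem _ fun m _ => ?_
      rw [map_smul]
      refine Submodule.smul_mem _ _ ?_
      obtain ⟨r, hr⟩ := h m
      exact ⟨r, by rw [Algebra.linearMap_apply, hr]; rfl⟩
    exact isNoetherian_submodule.mp inferInstance _ hle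
  exact IsIntegrallyClosed.isIntegral_iff.mp hint

end cic

section low

variable {S : Type*} [CommRing S]

lemma low_mul (f h : S⟦X⟧) (a b : ℕ) (hf : ∀ j < a, coeff j f = 0)
    (hh : ∀ j < b, coeff j h = 0) :
    (∀ j < a + b, coeff j (f * h) = 0) ∧ coeff (a + b) (f * h) = coeff a f * coeff b h := by
  constructor
  · intro j hj
    rw [coeff_mul]
    apply Finset.sum_eq_zero
    rintro ⟨p, q⟩ hpq
    rw [Finset.HasAntidiagonal.mem_antidiagonal] at hpq
    simp only at hpq ⊢
    by_cases hp : p < a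
    · rw [hf p hp, zero_mul]
    · rw [hh q (by omega), mul_zero]
  · rw [coeff_mul, Finset.sum_eq_single (a, b)]
    · rintro ⟨p, q⟩ hpq hne
      rw [Finset.HasAntidiagonal.mem_antidiagonal] at hpq
      simp only at hpq ⊢
      by_cases hp : p < a
      · rw [hf p hp, zero_mul]
      · by_cases hq : q < b
        · rw [hh q hq, mul_zero]
        · exfalso
          apply hne
          have : p = a ∧ q = b := by omega
          rw [this.1, this.2]
    · intro hn
      exact absurd (Finset.HasAntidiagonal.mem_antidiagonal.mpr (rfl : (a, b).1 + (a, b).2 = a + b)) hn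

lemma low_pow (h : S⟦X⟧) (b : ℕ) (hh : ∀ j < b, coeff j h = 0) (m : ℕ) :
    (∀ j < m * b, coeff j (h ^ m) = 0) ∧ coeff (m * b) (h ^ m) = (coeff b h) ^ m := by
  induction m with
  | zero =>
    constructor
    · intro j hj; omega
    · simp
  | succ m ih =>
    have := low_mul (h ^ m) h (m * b) b ih.1 hh
    rw [pow_succ, show (m + 1) * b = m * b + b by ring]
    refine ⟨this.1, ?_⟩
    rw [this.2, ih.2, pow_succ]

end low

section key

variable {R K : Type*} [CommRing R] [IsDomain R] [IsNoetherianRing R] [IsIntegrallyClosed R]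
  [Field K] [Algebra R K] [IsFractionRing R K]

/-- the subring of series with coefficients in `R` -/
noncomputable def Rg (R K : Type*) [CommRing R] [Field K] [Algebra R K] : Subring K⟦X⟧ :=
  (PowerSeries.map (algebraMap R K)).range

lemma coeff_mem_of_mem_Rg {f : K⟦X⟧} (hf : f ∈ Rg R K) (n : ℕ) :
    ∃ r : R, algebraMap R K r = coeff n f := by
  obtain ⟨y, rfl⟩ := hf
  exact ⟨coeff n y, by rw [coeff_map]⟩

lemma key (g δ : K⟦X⟧) (hδ : δ ∈ Rg R K) (hδ0 : δ ≠ 0)
    (H : ∀ m : ℕ, δ * g ^ m ∈ Rg R K) : g ∈ Rg R K := by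
  -- the order of δ
  have hex : ∃ e, coeff e δ ≠ 0 := by
    by_contra hcon
    push Not at hcon
    exact hδ0 (PowerSeries.ext fun n => by rw [hcon n, map_zero])
  classical
  let e := Nat.find hex
  have he : coeff e δ ≠ 0 := Nat.find_spec hex
  have hlt : ∀ j < e, coeff j δ = 0 := fun j hj => not_not.mp (Nat.find_min hex hj)
  obtain ⟨c, hc⟩ := coeff_mem_of_mem_Rg hδ e
  have hc0 : c ≠ 0 := by
    rintro rfl
    rw [map_zero] at hc
    exact he hc.symm
  have hcoeff : ∀ i : ℕ, ∃ r : R, algebraMap R K r = coeff i g := by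
    intro i
    induction i using Nat.strong_induction_on with
    | _ i ih =>
      choose r hr using ih
      let r' : ℕ → R := fun j => if hj : j < i then r j hj else 0
      let g₁ : K⟦X⟧ := PowerSeries.map (algebraMap R K) (PowerSeries.mk r')
      have hg₁ : g₁ ∈ Rg R K := ⟨_, rfl⟩
      have hh0 : ∀ j < i, coeff j (g - g₁) = 0 := by
        intro j hj
        rw [map_sub, coeff_map, coeff_mk]
        simp only [r', dif_pos hj]
        rw [hr j hj, sub_self]
      have hhi : coeff i (g - g₁) = coeff i g := by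
        rw [map_sub, coeff_map, coeff_mk]
        simp only [r', dif_neg (lt_irrefl i)]
        rw [map_zero, sub_zero]
      have hmem : ∀ m : ℕ, δ * (g - g₁) ^ m ∈ Rg R K := by
        intro m
        rw [sub_eq_add_neg, add_pow, Finset.mul_sum]
        refine Subring.sum_mem _ fun t _ => ?_
        have : δ * (g ^ t * (-g₁) ^ (m - t) * (m.choose t : K⟦X⟧)) =
            (δ * g ^ t) * ((-g₁) ^ (m - t) * (m.choose t : K⟦X⟧)) := by ring
        rw [this]
        exact Subring.mul_mem _ (H t) (Subring.mul_mem _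
          (Subring.pow_mem _ (Subring.neg_mem _ hg₁) _) (natCast_mem _ _))
      apply cic (coeff i g) c hc0
      intro m
      have h1 := low_pow (g - g₁) i hh0 m
      have h2 := low_mul δ ((g - g₁) ^ m) e (m * i) hlt h1.1
      obtain ⟨r₀, hr₀⟩ := coeff_mem_of_mem_Rg (hmem m) (e + m * i)
      refine ⟨r₀, ?_⟩
      rw [hr₀, h2.2, h1.2, hhi, hc]
  choose r hr using hcoeff
  refine ⟨PowerSeries.mk r, ?_⟩
  ext n
  change coeff n (PowerSeries.map (algebraMap R K) (PowerSeries.mk r)) = _
  rw [coeff_map, coeff_mk, hr]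

end key

section main

variable {R : Type*} [CommRing R] [IsDomain R] [IsNoetherianRing R] [IsIntegrallyClosed R]

lemma dvd_of_pow_dvd (u v d : R⟦X⟧) (hv : v ≠ 0) (hd : d ≠ 0)
    (H : ∀ m : ℕ, v ^ m ∣ d * u ^ m) : v ∣ u := by
  let K := FractionRing R
  let ι : R⟦X⟧ →+* K⟦X⟧ := PowerSeries.map (algebraMap R K)
  have hι : Function.Injective ι :=
    PowerSeries.map_injective _ (IsFractionRing.injective R K)
  have hV : ι v ≠ 0 := fun h => hv (hι (by rw [h, map_zero]))
  have hΔ : ι d ≠ 0 := fun h => hd (hι (by rw [h, map_zero]))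
  -- divisibility in K⟦X⟧
  have hdvd : ι v ∣ ι u := by
    rcases ValuationRing.dvd_total (ι v) (ι u) with h | h
    · exact h
    · obtain ⟨t, ht⟩ := h
      by_cases htu : IsUnit t
      · obtain ⟨t', rfl⟩ := htu
        exact ⟨(↑t'⁻¹ : K⟦X⟧), by rw [ht, mul_assoc, Units.mul_inv, mul_one]⟩
      · exfalso
        have hU : ι u ≠ 0 := by
          intro h0
          rw [h0, zero_mul] at ht
          exact hV ht
        have hX : (X : K⟦X⟧) ∣ t := by
          rw [PowerSeries.X_dvd_iff]
          by_contra hc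
          exact htu (PowerSeries.isUnit_iff_constantCoeff.mpr (isUnit_iff_ne_zero.mpr hc))
        have hXm : ∀ m : ℕ, (X : K⟦X⟧) ^ m ∣ ι d := by
          intro m
          obtain ⟨c, hc⟩ := H m
          have h1 : (ι u) ^ m * t ^ m ∣ (ι u) ^ m * ι d := by
            refine ⟨ι c, ?_⟩
            have := congrArg ι hc
            rw [map_mul, map_mul, map_pow, map_pow, ht] at this
            rw [mul_comm ((ι u) ^ m) (ι d), this]
            ring
          have h2 : t ^ m ∣ ι d := (mul_dvd_mul_iff_left (pow_ne_zero m hU)).mp h1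
          exact (pow_dvd_pow_of_dvd hX m).trans h2
        apply hΔ
        ext n
        have := hXm (n + 1)
        rw [PowerSeries.X_pow_dvd_iff] at this
        rw [this n (Nat.lt_succ_self n), map_zero]
  obtain ⟨g, hg⟩ := hdvd
  have hgmem : g ∈ Rg R K := by
    apply key g (ι d) ⟨d, rfl⟩ hΔ
    intro m
    obtain ⟨c, hc⟩ := H m
    refine ⟨c, ?_⟩
    have := congrArg ι hc
    rw [map_mul, map_mul, map_pow, map_pow, hg, mul_pow] at this
    apply mul_left_cancel₀ (pow_ne_zero m hV)
    change (ι v) ^ m * ι c = _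
    linear_combination -this
  obtain ⟨g₀, hg₀⟩ := hgmem
  refine ⟨g₀, hι ?_⟩
  rw [map_mul, hg]
  congr 1
  exact hg₀.symm

theorem main : IsIntegrallyClosed (PowerSeries R) ∧ IsNoetherianRing (PowerSeries R) := by
  refine ⟨?_, inferInstance⟩
  rw [isIntegrallyClosed_iff (FractionRing R⟦X⟧)]
  intro x hx
  obtain ⟨u, v, hv, rfl⟩ := IsFractionRing.div_surjective (A := R⟦X⟧) x
  have hv0 : v ≠ 0 := nonZeroDivisors.ne_zero hv
  have hv' : algebraMap R⟦X⟧ (FractionRing R⟦X⟧) v ≠ 0 := by
    rwa [Ne, IsFractionRing.to_map_eq_zero_iff]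
  set x := algebraMap R⟦X⟧ (FractionRing R⟦X⟧) u / algebraMap R⟦X⟧ (FractionRing R⟦X⟧) v with hxdef
  obtain ⟨s, hs⟩ := hx.fg_adjoin_singleton
  obtain ⟨b, hb⟩ := IsLocalization.exist_integer_multiples_of_finset (nonZeroDivisors R⟦X⟧) s
  have hall : ∀ z ∈ Subalgebra.toSubmodule (Algebra.adjoin R⟦X⟧ {x}),
      IsLocalization.IsInteger R⟦X⟧ ((b : R⟦X⟧) • z) := by
    intro z hz
    rw [← hs] at hz
    induction hz using Submodule.span_induction with
    | mem z hz => exact hb z hz
    | zero => rw [smul_zero]; exact IsLocalization.isInteger_zero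
    | add z w _ _ hz hw => rw [smul_add]; exact IsLocalization.isInteger_add hz hw
    | smul a z _ hz =>
      rw [smul_comm]
      exact IsLocalization.isInteger_smul hz
  have hb0 : (b : R⟦X⟧) ≠ 0 := nonZeroDivisors.ne_zero b.2
  have H : ∀ m : ℕ, v ^ m ∣ (b : R⟦X⟧) * u ^ m := by
    intro m
    have hxm : x ^ m ∈ Subalgebra.toSubmodule (Algebra.adjoin R⟦X⟧ {x}) :=
      Subalgebra.pow_mem _ (Algebra.subset_adjoin (Set.mem_singleton x)) m
    obtain ⟨c, hc⟩ := hall _ hxm
    refine ⟨c, ?_⟩
    apply IsFractionRing.injective R⟦X⟧ (FractionRing R⟦X⟧)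
    rw [map_mul, map_mul, map_pow, map_pow, hc, Algebra.smul_def, hxdef, div_pow]
    field_simp
  obtain ⟨y, hy⟩ := dvd_of_pow_dvd u v b hv0 hb0 H
  refine ⟨y, ?_⟩
  rw [hxdef, hy, map_mul]
  field_simp

end main

end Groth.Agent.Lib.Helper26.PSNormal
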