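import Mathlib

namespace Groth.Agent.Lib.Helper26.PSemilin

universe u v

set_option linter.unusedSectionVars false
set_option linter.style.haveILetI false

open Polynomial

section Poly

variable {k : Type u} [Field k] (p : ℕ)

/-- auxiliary polynomials. -/
noncomputable def Rp (c : ℕ → k) : ℕ → Polynomial k
  | 0 => C (c 0)
  | (i + 1) => X ^ (p * (p - 1)) * (Rp c i) ^ p + C (c (i + 1))

lemma Rp_ne_zero (hp : 2 ≤ p) (c : ℕ → k) (i : ℕ) (h : ∃ j ≤ i, c j ≠ 0) : Rp p c i ≠ 0 := by
  induction i with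
  | zero =>
    obtain ⟨j, hj, hc⟩ := h
    have : j = 0 := by omega
    subst this
    simpa [Rp] using hc
  | succ i ih =>
    by_cases hR : Rp p c i = 0
    · have hall : ∀ j ≤ i, c j = 0 := by
        intro j hj
        by_contra hne
        exact ih ⟨j, hj, hne⟩ hR
      obtain ⟨j, hj, hc⟩ := h
      have hji : j = i + 1 := by
        by_contra hne
        exact hc (hall j (by omega))
      subst hji
      simp only [Rp, hR]
      rw [zero_pow (by omega), mul_zero, zero_add]
      simpa using hc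
    · intro h0
      simp only [Rp] at h0
      have h1 : X ^ (p * (p - 1)) * (Rp p c i) ^ p = - C (c (i + 1)) := eq_neg_of_add_eq_zero_left h0
      have h2 := congrArg natDegree h1
      rw [natDegree_neg, natDegree_C, natDegree_mul (pow_ne_zero _ X_ne_zero) (pow_ne_zero _ hR),
        natDegree_X_pow] at h2
      have : 2 ≤ p * (p - 1) := by
        have : 1 ≤ p - 1 := by omega
        nlinarith
      omega

/-- the values `x_i(y) = y^p R_i(y)`. -/
noncomputable def xv (c : ℕ → k) (y : k) (i : ℕ) : k := y ^ p * (Rp p c i).eval y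

lemma xv_zero (c : ℕ → k) (y : k) : xv p c y 0 = c 0 * y ^ p := by
  simp [xv, Rp, mul_comm]

lemma xv_succ (hp : 1 ≤ p) (c : ℕ → k) (y : k) (i : ℕ) :
    xv p c y (i + 1) = (xv p c y i) ^ p + c (i + 1) * y ^ p := by
  simp only [xv, Rp, eval_add, eval_mul, eval_pow, eval_X, eval_C]
  have : p * (p - 1) + p = p * p := by
    obtain ⟨q, rfl⟩ : ∃ q, p = q + 1 := ⟨p - 1, by omega⟩
    simp
    ring
  rw [mul_pow, ← pow_mul, mul_add, ← mul_assoc, ← pow_add, add_comm p, this]
  ring

lemma exists_root [IsAlgClosed k] (hp : 2 ≤ p) (c : ℕ → k) (n : ℕ) (h : ∃ j ≤ n, c j ≠ 0) :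
    ∃ y : k, y ≠ 0 ∧ xv p c y n = y := by
  have hR := Rp_ne_zero p hp c n h
  let T : Polynomial k := X ^ (p - 1) * Rp p c n - 1
  have hdeg : T.degree ≠ 0 := by
    have h1 : (1 : Polynomial k).degree < (X ^ (p - 1) * Rp p c n).degree := by
      rw [degree_one, degree_mul, degree_X_pow]
      have : (0 : WithBot ℕ) ≤ (Rp p c n).degree := zero_le_degree_iff.mpr hR
      have h3 : ((1 : ℕ) : WithBot ℕ) ≤ ((p - 1 : ℕ) : WithBot ℕ) := by
        exact_mod_cast (by omega : 1 ≤ p - 1)
      calc (0 : WithBot ℕ) < ((1 : ℕ) : WithBot ℕ) := by exact_mod_cast Nat.zero_lt_one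
        _ ≤ ((p - 1 : ℕ) : WithBot ℕ) := h3
        _ = ((p - 1 : ℕ) : WithBot ℕ) + 0 := (add_zero _).symm
        _ ≤ ((p - 1 : ℕ) : WithBot ℕ) + (Rp p c n).degree := by gcongr
    rw [degree_sub_eq_left_of_degree_lt h1]
    intro h0
    rw [h0] at h1
    rw [degree_one] at h1
    exact lt_irrefl _ h1
  obtain ⟨y, hy⟩ := IsAlgClosed.exists_root T hdeg
  simp only [T, IsRoot.def, eval_sub, eval_mul, eval_pow, eval_X, eval_one, sub_eq_zero] at hy
  have hy0 : y ≠ 0 := by
    rintro rfl
    rw [zero_pow (by omega), zero_mul] at hy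
    exact zero_ne_one hy
  refine ⟨y, hy0, ?_⟩
  have : y ^ p = y * y ^ (p - 1) := by
    rw [← pow_succ']
    congr 1
    omega
  rw [xv, this, mul_assoc, hy, mul_one]

end Poly

section Core

variable {k : Type u} [Field k] [IsAlgClosed k] (p : ℕ) [Fact p.Prime]
  {E : Type v} [CommRing E] [Algebra k E] [CharP E p]

/-- the key computation. -/
lemma pow_sum (n : ℕ) (v : ℕ → E) (hv : ∀ i, v (i + 1) = v i ^ p) (c : ℕ → k)
    (hdep : v (n + 1) = ∑ i ∈ Finset.range (n + 1), c i • v i) (y : k)
    (hy : xv p c y n = y) :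
    (∑ i ∈ Finset.range (n + 1), xv p c y i • v i) ^ p =
      ∑ i ∈ Finset.range (n + 1), xv p c y i • v i := by
  have hp1 : 1 ≤ p := (Fact.out : p.Prime).one_lt.le
  rw [sum_pow_char]
  have h1 : ∀ i, (xv p c y i • v i) ^ p = (xv p c y i) ^ p • v (i + 1) := by
    intro i
    rw [_root_.smul_pow, hv]
  simp only [h1]
  rw [Finset.sum_range_succ, hdep, hy]
  rw [Finset.sum_range_succ' (fun i => xv p c y i • v i)]
  rw [Finset.sum_range_succ' (fun i => c i • v i)]
  rw [smul_add, Finset.smul_sum, ← add_assoc, ← Finset.sum_add_distrib]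
  congr 1
  · refine Finset.sum_congr rfl (fun i _ => ?_)
    rw [xv_succ p hp1, smul_smul, ← add_smul, mul_comm (y ^ p)]
  · rw [xv_zero, smul_smul, mul_comm]

theorem core [Module.Finite k E] (G : Submodule k E) (hG : ∀ w ∈ G, w ^ p ∈ G) (u : E)
    (hu : u ∈ G) (hu0 : u ≠ 0) : ∃ w ∈ G, w ≠ 0 ∧ (w ^ p = w ∨ w ^ p = 0) := by
  classical
  have hp2 : 2 ≤ p := (Fact.out : p.Prime).two_le
  let v : ℕ → E := fun i => u ^ (p ^ i)
  have hv : ∀ i, v (i + 1) = v i ^ p := fun i => by
    simp only [v]
    rw [pow_succ, pow_mul]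
  have hvG : ∀ i, v i ∈ G := by
    intro i
    induction i with
    | zero => simpa [v] using hu
    | succ i ih => rw [hv]; exact hG _ ih
  -- minimal dependency
  have hex : ∃ n : ℕ, ¬ LinearIndependent k (fun i : Fin (n + 1) => v i) := by
    refine ⟨Module.finrank k E, fun hli => ?_⟩
    have := hli.fintype_card_le_finrank
    simp at this
  let m := Nat.find hex
  have hm : ¬ LinearIndependent k (fun i : Fin (m + 1) => v i) := Nat.find_spec hex
  have hm0 : m ≠ 0 := by
    intro h0
    have h1 : LinearIndependent k (fun i : Fin 1 => v i) := by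
      have : (fun i : Fin 1 => v i) = fun _ => u := by
        funext i
        have : (i : ℕ) = 0 := by omega
        simp [v, this]
      rw [this]
      exact linearIndependent_unique_iff.mpr hu0
    revert hm
    rw [h0]
    exact fun hm => hm h1
  obtain ⟨n, hn⟩ : ∃ n, m = n + 1 := ⟨m - 1, by omega⟩
  have hli : LinearIndependent k (fun i : Fin (n + 1) => v i) := by
    by_contra hcon
    have := Nat.find_min' hex hcon
    omega
  have hdep' : v (n + 1) ∈ Submodule.span k (Set.range (fun i : Fin (n + 1) => v i)) := by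
    by_contra hcon
    have hinit : Fin.init (fun i : Fin (n + 1 + 1) => v i) = fun i : Fin (n + 1) => v i := by
      funext i
      simp [Fin.init]
    have key : LinearIndependent k (fun i : Fin (n + 1 + 1) => v i) := by
      rw [linearIndependent_finSucc', hinit]
      exact ⟨hli, by simpa using hcon⟩
    have hmn : m = n + 1 := hn
    revert hm
    rw [hmn]
    intro hm
    exact absurd key hm
  obtain ⟨c', hc'⟩ := (Submodule.mem_span_range_iff_exists_fun k).mp hdep'
  let c : ℕ → k := fun i => if h : i < n + 1 then c' ⟨i, h⟩ else 0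
  have hdep : v (n + 1) = ∑ i ∈ Finset.range (n + 1), c i • v i := by
    rw [← hc', Finset.sum_range]
    refine Finset.sum_congr rfl (fun i _ => ?_)
    have : c (i : ℕ) = c' i := by
      simp only [c]
      rw [dif_pos i.isLt]
    rw [this]
  by_cases hall : ∀ j ≤ n, c j = 0
  · -- `v (n+1) = 0`
    refine ⟨v n, hvG n, ?_, Or.inr ?_⟩
    · exact hli.ne_zero (Fin.last n)
    · rw [← hv, hdep]
      refine Finset.sum_eq_zero (fun i hi => ?_)
      rw [hall i (by simpa [Nat.lt_succ_iff] using hi), zero_smul]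
  · push Not at hall
    obtain ⟨y, hy0, hy⟩ := exists_root p hp2 c n hall
    refine ⟨∑ i ∈ Finset.range (n + 1), xv p c y i • v i, ?_, ?_, Or.inl ?_⟩
    · exact Submodule.sum_mem _ (fun i _ => Submodule.smul_mem _ _ (hvG i))
    · intro h0
      rw [Finset.sum_range] at h0
      have := (Fintype.linearIndependent_iff.mp hli) (fun i : Fin (n + 1) => xv p c y i) h0
        (Fin.last n)
      simp only [Fin.val_last] at this
      rw [hy] at this
      exact hy0 this
    · exact pow_sum p n v hv c hdep y hy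

end Core

end Groth.Agent.Lib.Helper26.PSemilin
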