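import Mathlib
import Groth.Agent.Lib.Helper26.PSemilin

namespace Groth.Agent.Lib.Helper26.PSemilinEnd

universe u v

set_option linter.unusedSectionVars false
set_option linter.style.haveILetI false

theorem main (k : Type u) [Field k] [IsAlgClosed k]
    (p : ℕ) [Fact p.Prime] [CharP k p] (V : Type v) [AddCommGroup V] [Module k V]
    [FiniteDimensional k V]
    (g : Submodule k (Module.End k V)) (hg : ∀ u ∈ g, u ^ p ∈ g) (hne : g ≠ ⊥) :
    ∃ u ∈ g, u ≠ 0 ∧ ∃ c : k, u ^ p = c • u := by
  obtain ⟨u0, hu0g, hu0⟩ := Submodule.exists_mem_ne_zero_of_ne_bot hne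
  haveI : Nontrivial (Module.End k V) := ⟨u0, 0, hu0⟩
  let E := Algebra.adjoin k ({u0} : Set (Module.End k V))
  letI : CommRing E := Algebra.adjoinCommRingOfComm k (fun a ha b hb => by
    rw [Set.mem_singleton_iff] at ha hb
    rw [ha, hb])
  haveI : CharP E p := charP_of_injective_algebraMap (algebraMap k E).injective p
  let G : Submodule k E := g.comap E.val.toLinearMap
  have hG : ∀ w ∈ G, w ^ p ∈ G := by
    intro w hw
    have := hg _ hw
    exact this
  obtain ⟨w, hwG, hw0, hw⟩ := PSemilin.core p G hG ⟨u0, Algebra.subset_adjoin rfl⟩ hu0g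
    (by intro h; exact hu0 (congrArg Subtype.val h))
  refine ⟨w.1, hwG, fun h => hw0 (Subtype.ext h), ?_⟩
  rcases hw with h | h
  · exact ⟨1, by rw [one_smul]; exact congrArg Subtype.val h⟩
  · exact ⟨0, by rw [zero_smul]; exact congrArg Subtype.val h⟩

end Groth.Agent.Lib.Helper26.PSemilinEnd
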