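import Mathlib

set_option maxHeartbeats 400000

namespace Groth.Agent.Lib.Helper26.PinchChart

open Polynomial

universe u

variable (B : Type u) [CommRing B] (b : B)

/-- the quadratic polynomial -/
noncomputable abbrev g : B[X] := X ^ 2 - C b

/-- the rank-two algebra -/
abbrev B' : Type u := AdjoinRoot (g B b)

/-- the root -/
noncomputable abbrev z : B' B b := AdjoinRoot.root (g B b)

/-- the chart map -/
noncomputable abbrev Ψ : MvPolynomial (Fin 2) B →ₐ[B] Polynomial (B' B b) :=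
  MvPolynomial.aeval ![Polynomial.C (z B b) * Polynomial.X, Polynomial.X]

lemma z_sq : z B b * z B b = algebraMap B (B' B b) b := by
  have h : AdjoinRoot.mk (g B b) (g B b) = 0 := AdjoinRoot.mk_self
  simp only [g, map_sub, map_pow, AdjoinRoot.mk_X, AdjoinRoot.mk_C] at h
  rw [AdjoinRoot.algebraMap_eq, ← pow_two]
  exact sub_eq_zero.mp h

lemma Ψ_u : Ψ B b (MvPolynomial.X 0) = Polynomial.C (z B b) * Polynomial.X := by
  simp [Ψ]

lemma Ψ_v : Ψ B b (MvPolynomial.X 1) = Polynomial.X := by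
  simp [Ψ]

lemma Ψ_C (a : B) : Ψ B b (MvPolynomial.C a) = Polynomial.C (algebraMap B (B' B b) a) := by
  rw [MvPolynomial.aeval_C, Polynomial.algebraMap_apply]

/-- the relation -/
noncomputable abbrev rel : MvPolynomial (Fin 2) B :=
  MvPolynomial.X 0 ^ 2 - MvPolynomial.C b * MvPolynomial.X 1 ^ 2

lemma Ψ_rel : Ψ B b (rel B b) = 0 := by
  rw [rel, map_sub, map_mul, map_pow, map_pow, Ψ_u, Ψ_v, Ψ_C, mul_pow, ← map_pow, pow_two (z B b),
    z_sq]
  ring

/-- embedding of `B[v]` -/
noncomputable abbrev ι : B[X] →ₐ[B] MvPolynomial (Fin 2) B := Polynomial.aeval (MvPolynomial.X 1)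

lemma reduce (f : MvPolynomial (Fin 2) B) :
    ∃ f₀ f₁ : B[X], f - (ι B f₀ + MvPolynomial.X 0 * ι B f₁) ∈ Ideal.span {rel B b} := by
  induction f using MvPolynomial.induction_on with
  | C a =>
    refine ⟨Polynomial.C a, 0, ?_⟩
    have : MvPolynomial.C a - (ι B (Polynomial.C a) + MvPolynomial.X 0 * ι B 0) = 0 := by
      simp [ι, MvPolynomial.algebraMap_eq]
    rw [this]; exact Ideal.zero_mem _
  | add p q hp hq =>
    obtain ⟨p₀, p₁, hp⟩ := hp
    obtain ⟨q₀, q₁, hq⟩ := hq
    refine ⟨p₀ + q₀, p₁ + q₁, ?_⟩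
    have : p + q - (ι B (p₀ + q₀) + MvPolynomial.X 0 * ι B (p₁ + q₁)) =
        (p - (ι B p₀ + MvPolynomial.X 0 * ι B p₁)) + (q - (ι B q₀ + MvPolynomial.X 0 * ι B q₁)) := by
      rw [map_add, map_add]; ring
    rw [this]; exact Ideal.add_mem _ hp hq
  | mul_X p i hp =>
    obtain ⟨p₀, p₁, hp⟩ := hp
    fin_cases i
    · refine ⟨Polynomial.C b * Polynomial.X ^ 2 * p₁, p₀, ?_⟩
      have : p * MvPolynomial.X (0 : Fin 2) -
          (ι B (Polynomial.C b * Polynomial.X ^ 2 * p₁) + MvPolynomial.X 0 * ι B p₀) =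
          (p - (ι B p₀ + MvPolynomial.X 0 * ι B p₁)) * MvPolynomial.X 0 + rel B b * ι B p₁ := by
        rw [map_mul, map_mul, map_pow, Polynomial.aeval_C, Polynomial.aeval_X,
          MvPolynomial.algebraMap_eq]
        ring
      show p * MvPolynomial.X (0 : Fin 2) - _ ∈ _
      rw [this]
      exact Ideal.add_mem _ (Ideal.mul_mem_right _ _ hp)
        (Ideal.mul_mem_right _ _ (Ideal.subset_span rfl))
    · refine ⟨p₀ * Polynomial.X, p₁ * Polynomial.X, ?_⟩
      have : p * MvPolynomial.X (1 : Fin 2) -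
          (ι B (p₀ * Polynomial.X) + MvPolynomial.X 0 * ι B (p₁ * Polynomial.X)) =
          (p - (ι B p₀ + MvPolynomial.X 0 * ι B p₁)) * MvPolynomial.X 1 := by
        rw [map_mul, map_mul, Polynomial.aeval_X]
        ring
      show p * MvPolynomial.X (1 : Fin 2) - _ ∈ _
      rw [this]
      exact Ideal.mul_mem_right _ _ hp

lemma Ψ_ι (p : B[X]) : Ψ B b (ι B p) = p.map (algebraMap B (B' B b)) := by
  rw [ι, ← Polynomial.aeval_algHom_apply, Ψ_v, Polynomial.aeval_X_left_eq_map]

lemma indep (α β : B) (h : algebraMap B (B' B b) α + z B b * algebraMap B (B' B b) β = 0) :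
    α = 0 ∧ β = 0 := by
  rcases subsingleton_or_nontrivial B with hB | hB
  · exact ⟨Subsingleton.elim _ _, Subsingleton.elim _ _⟩
  have hmk : AdjoinRoot.mk (g B b) (Polynomial.C α + Polynomial.X * Polynomial.C β) = 0 := by
    rw [map_add, map_mul, AdjoinRoot.mk_X, AdjoinRoot.mk_C, AdjoinRoot.mk_C,
      ← AdjoinRoot.algebraMap_eq]
    exact h
  rw [AdjoinRoot.mk_eq_zero] at hmk
  have hmonic : (g B b).Monic := Polynomial.monic_X_pow_sub_C b (by norm_num)
  have hdeg : (g B b).natDegree = 2 := Polynomial.natDegree_X_pow_sub_C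
  have hzero : Polynomial.C α + Polynomial.X * Polynomial.C β = 0 := by
    by_contra hne
    refine hmonic.not_dvd_of_natDegree_lt hne ?_ hmk
    rw [hdeg]
    have h1 : (Polynomial.C α + Polynomial.X * Polynomial.C β).natDegree ≤ 1 := by
      refine (Polynomial.natDegree_add_le _ _).trans ?_
      rw [max_le_iff]
      constructor
      · rw [Polynomial.natDegree_C]; omega
      · refine Polynomial.natDegree_mul_le.trans ?_
        rw [Polynomial.natDegree_C]
        have := Polynomial.natDegree_X_le (R := B)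
        omega
    omega
  have h0 := congrArg (fun p => Polynomial.coeff p 0) hzero
  have h1 := congrArg (fun p => Polynomial.coeff p 1) hzero
  simp at h0 h1
  exact ⟨h0, h1⟩

lemma zero_of_Ψ (f₀ f₁ : B[X])
    (h : Ψ B b (ι B f₀ + MvPolynomial.X 0 * ι B f₁) = 0) : f₀ = 0 ∧ f₁ = 0 := by
  rw [map_add, map_mul, Ψ_ι, Ψ_ι, Ψ_u] at h
  have hc : ∀ n, f₀.coeff (n + 1) = 0 ∧ f₁.coeff n = 0 := by
    intro n
    have := congrArg (fun p => Polynomial.coeff p (n + 1)) h
    simp only [Polynomial.coeff_add, Polynomial.coeff_map, mul_assoc, Polynomial.coeff_C_mul,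
      Polynomial.coeff_X_mul, Polynomial.coeff_zero] at this
    exact indep B b _ _ this
  have h0 : f₀.coeff 0 = 0 := by
    have := congrArg (fun p => Polynomial.coeff p 0) h
    simp only [Polynomial.coeff_add, Polynomial.coeff_map, mul_assoc, Polynomial.coeff_C_mul,
      Polynomial.coeff_X_mul_zero, Polynomial.coeff_zero, mul_zero, add_zero] at this
    have := indep B b (f₀.coeff 0) 0 (by rw [map_zero, mul_zero, add_zero]; exact this)
    exact this.1
  constructor
  · ext n
    rcases n with _ | n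
    · simpa using h0
    · simpa using (hc n).1
  · ext n
    simpa using (hc n).2

theorem ker_eq : RingHom.ker (Ψ B b).toRingHom = Ideal.span {rel B b} := by
  apply le_antisymm
  · intro f hf
    rw [RingHom.mem_ker] at hf
    obtain ⟨f₀, f₁, hmem⟩ := reduce B b f
    have hΨ : Ψ B b (f - (ι B f₀ + MvPolynomial.X 0 * ι B f₁)) = 0 := by
      have : Ideal.span {rel B b} ≤ RingHom.ker (Ψ B b).toRingHom := by
        rw [Ideal.span_le, Set.singleton_subset_iff]
        exact Ψ_rel B b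
      exact this hmem
    have hf' : Ψ B b f = 0 := hf
    rw [map_sub, hf', zero_sub, neg_eq_zero] at hΨ
    obtain ⟨h0, h1⟩ := zero_of_Ψ B b f₀ f₁ hΨ
    rw [h0, h1, map_zero, mul_zero, add_zero, sub_zero] at hmem
    exact hmem
  · rw [Ideal.span_le, Set.singleton_subset_iff]
    exact Ψ_rel B b

lemma decomp (w : B' B b) :
    ∃ α β : B, w = algebraMap B (B' B b) α + z B b * algebraMap B (B' B b) β := by
  induction w using AdjoinRoot.induction_on with
  | ih p =>
    induction p using Polynomial.induction_on with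
    | C a =>
      refine ⟨a, 0, ?_⟩
      rw [map_zero, mul_zero, add_zero, AdjoinRoot.mk_C, AdjoinRoot.algebraMap_eq]
    | add p q hp hq =>
      obtain ⟨α, β, hp⟩ := hp
      obtain ⟨α', β', hq⟩ := hq
      refine ⟨α + α', β + β', ?_⟩
      rw [map_add, hp, hq, map_add, map_add]; ring
    | monomial n a h =>
      obtain ⟨α, β, h⟩ := h
      refine ⟨b * β, α, ?_⟩
      rw [pow_succ, ← mul_assoc, map_mul, h, AdjoinRoot.mk_X, map_mul, ← z_sq]
      ring

theorem mem_range (G : Polynomial (B' B b))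
    (hG : ∃ c : B, G.coeff 0 = algebraMap B (B' B b) c) : G ∈ (Ψ B b).range := by
  obtain ⟨c, hc⟩ := hG
  rw [G.as_sum_range]
  refine Subalgebra.sum_mem _ fun n _ => ?_
  rcases n with _ | n
  · rw [hc, AlgHom.mem_range]
    refine ⟨MvPolynomial.C c, ?_⟩
    rw [Ψ_C]; simp
  · obtain ⟨α, β, hαβ⟩ := decomp B b (G.coeff (n + 1))
    rw [AlgHom.mem_range]
    refine ⟨MvPolynomial.C α * MvPolynomial.X 1 ^ (n + 1) +
      MvPolynomial.C β * MvPolynomial.X 0 * MvPolynomial.X 1 ^ n, ?_⟩
    rw [map_add, map_mul, map_mul, map_mul, map_pow, map_pow, Ψ_C, Ψ_C, Ψ_u, Ψ_v, hαβ,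
      ← Polynomial.C_mul_X_pow_eq_monomial, map_add, map_mul]
    ring

theorem main :
    letI Ψ : MvPolynomial (Fin 2) B →ₐ[B] Polynomial (AdjoinRoot (Polynomial.X ^ 2 - Polynomial.C b)) :=
      MvPolynomial.aeval
        ![Polynomial.C (AdjoinRoot.root (Polynomial.X ^ 2 - Polynomial.C b)) * Polynomial.X, Polynomial.X]
    RingHom.ker Ψ.toRingHom =
        Ideal.span {MvPolynomial.X 0 ^ 2 - MvPolynomial.C b * MvPolynomial.X 1 ^ 2} ∧
      ∀ G : Polynomial (AdjoinRoot (Polynomial.X ^ 2 - Polynomial.C b)),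
        (∃ c : B, G.coeff 0 = algebraMap B (AdjoinRoot (Polynomial.X ^ 2 - Polynomial.C b)) c) →
          G ∈ Ψ.range :=
  ⟨ker_eq B b, fun G hG => mem_range B b G hG⟩

end Groth.Agent.Lib.Helper26.PinchChart
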