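import Mathlib

set_option maxHeartbeats 400000

namespace Groth.Agent.Lib.Helper26.PinchDer

open MvPolynomial

universe u

variable (K : Type u) [Field K]

/-- the pinch subalgebra -/
noncomputable abbrev Rp : Subalgebra K (MvPolynomial (Fin 2) K) :=
  Algebra.adjoin K {MvPolynomial.X 0 ^ 2, MvPolynomial.X 0 * MvPolynomial.X 1, MvPolynomial.X 1}

lemma mem_x2 : (X 0 ^ 2 : MvPolynomial (Fin 2) K) ∈ Rp K := Algebra.subset_adjoin (by simp)
lemma mem_xy : (X 0 * X 1 : MvPolynomial (Fin 2) K) ∈ Rp K := Algebra.subset_adjoin (by simp)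
lemma mem_y : (X 1 : MvPolynomial (Fin 2) K) ∈ Rp K := Algebra.subset_adjoin (by simp)

variable {K}

/-- key divisibility: structure of a derivation on the generators -/
lemma key [NeZero (2 : K)] (δ : Derivation K (Rp K) (MvPolynomial (Fin 2) K)) :
    ∃ a' : MvPolynomial (Fin 2) K,
      δ ⟨X 0 ^ 2, mem_x2 K⟩ = X 0 * a' ∧
      δ ⟨X 0 * X 1, mem_xy K⟩ = X 0 * δ ⟨X 1, mem_y K⟩ + X 1 * (C (1 / 2 : K) * a') := by
  set gx2 : Rp K := ⟨X 0 ^ 2, mem_x2 K⟩ with hgx2
  set gxy : Rp K := ⟨X 0 * X 1, mem_xy K⟩ with hgxy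
  set gy : Rp K := ⟨X 1, mem_y K⟩ with hgy
  set a := δ gx2 with ha
  set bb := δ gxy with hbb
  set c := δ gy with hc
  have h2 : (2 : K) ≠ 0 := NeZero.ne 2
  have hrel : gxy * gxy = gx2 * gy * gy := by
    apply Subtype.ext
    simp only [hgxy, hgx2, hgy, MulMemClass.mk_mul_mk]
    ring
  have hδ := congrArg δ hrel
  rw [Derivation.leibniz, Derivation.leibniz, Derivation.leibniz] at hδ
  simp only [Subalgebra.smul_def, smul_eq_mul, Subalgebra.coe_mul] at hδ
  rw [← ha, ← hbb, ← hc] at hδ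
  simp only [hgxy, hgx2, hgy] at hδ
  -- hδ : x*y*bb + x*y*bb = x^2*y*c + y*(x^2*c + y*a)
  have hX1 : (X 1 : MvPolynomial (Fin 2) K) ≠ 0 := X_ne_zero 1
  have hX0 : (X 0 : MvPolynomial (Fin 2) K) ≠ 0 := X_ne_zero 0
  have e1 : (X 1 : MvPolynomial (Fin 2) K) * a = X 0 * (2 * (bb - X 0 * c)) := by
    apply mul_left_cancel₀ hX1
    linear_combination -hδ
  have hdvd : (X 0 : MvPolynomial (Fin 2) K) ∣ a := by
    have : (X 0 : MvPolynomial (Fin 2) K) ∣ X 1 * a := ⟨_, e1⟩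
    rcases (X_prime (R := K) (i := (0 : Fin 2))).dvd_or_dvd this with h | h
    · exact absurd (X_dvd_X.mp h) (by decide)
    · exact h
  obtain ⟨a', ha'⟩ := hdvd
  refine ⟨a', ha', ?_⟩
  have e2 : (X 1 : MvPolynomial (Fin 2) K) * a' = 2 * (bb - X 0 * c) := by
    apply mul_left_cancel₀ hX0
    rw [ha'] at e1
    linear_combination e1
  have hC : (C (1 / 2 : K) : MvPolynomial (Fin 2) K) * 2 = 1 := by
    have : (2 : MvPolynomial (Fin 2) K) = C (2 : K) :=
      (map_ofNat (C : K →+* MvPolynomial (Fin 2) K) 2).symm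
    rw [this, ← C_mul, one_div, inv_mul_cancel₀ h2, C_1]
  linear_combination (-(C (1 / 2 : K) : MvPolynomial (Fin 2) K)) * e2 - (bb - X 0 * c) * hC

theorem main (K : Type u) [Field K] [NeZero (2 : K)] :
    letI R : Subalgebra K (MvPolynomial (Fin 2) K) :=
      Algebra.adjoin K {MvPolynomial.X 0 ^ 2, MvPolynomial.X 0 * MvPolynomial.X 1, MvPolynomial.X 1}
    ∀ δ : Derivation K R (MvPolynomial (Fin 2) K),
      ∃! D : Derivation K (MvPolynomial (Fin 2) K) (MvPolynomial (Fin 2) K),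
        ∀ r : R, D (r : MvPolynomial (Fin 2) K) = δ r := by
  intro δ
  have h2 : (2 : K) ≠ 0 := NeZero.ne 2
  obtain ⟨a', ha1, ha2⟩ := key δ
  refine ⟨mkDerivation K ![C (1 / 2 : K) * a', δ ⟨X 1, mem_y K⟩], ?_, ?_⟩
  · -- extension property
    set D := mkDerivation K ![C (1 / 2 : K) * a', δ ⟨X 1, mem_y K⟩] with hD
    have hDx : D (X 0) = C (1 / 2 : K) * a' := by rw [hD, mkDerivation_X]; rfl
    have hDy : D (X 1) = δ ⟨X 1, mem_y K⟩ := by rw [hD, mkDerivation_X]; rfl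
    have hC : (C (1 / 2 : K) : MvPolynomial (Fin 2) K) * 2 = 1 := by
      have : (2 : MvPolynomial (Fin 2) K) = C (2 : K) :=
        (map_ofNat (C : K →+* MvPolynomial (Fin 2) K) 2).symm
      rw [this, ← C_mul, one_div, inv_mul_cancel₀ h2, C_1]
    rintro ⟨r, hr⟩
    show D r = δ ⟨r, hr⟩
    induction hr using Algebra.adjoin_induction with
    | mem x hx =>
      rcases hx with rfl | rfl | rfl
      · rw [ha1, pow_two, Derivation.leibniz, hDx, smul_eq_mul]
        linear_combination (X 0 * a') * hC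
      · rw [ha2, Derivation.leibniz, hDx, hDy, smul_eq_mul, smul_eq_mul]
      · exact hDy
    | algebraMap k =>
      rw [Derivation.map_algebraMap]
      have : (⟨algebraMap K (MvPolynomial (Fin 2) K) k, Subalgebra.algebraMap_mem _ k⟩ : Rp K) =
          algebraMap K (Rp K) k := rfl
      rw [this, Derivation.map_algebraMap]
    | add x y hx hy ihx ihy =>
      have : (⟨x + y, add_mem hx hy⟩ : Rp K) = ⟨x, hx⟩ + ⟨y, hy⟩ := rfl
      rw [this, map_add, map_add, ihx, ihy]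
    | mul x y hx hy ihx ihy =>
      have : (⟨x * y, mul_mem hx hy⟩ : Rp K) = ⟨x, hx⟩ * ⟨y, hy⟩ := rfl
      rw [this, Derivation.leibniz, Derivation.leibniz, ihx, ihy]
      simp only [Subalgebra.smul_def, smul_eq_mul]
  · -- uniqueness
    intro D' hD'
    apply derivation_ext
    intro i
    have hy' : D' (X 1) = δ ⟨X 1, mem_y K⟩ := hD' ⟨X 1, mem_y K⟩
    have hx2' : D' (X 0 ^ 2) = δ ⟨X 0 ^ 2, mem_x2 K⟩ := hD' ⟨X 0 ^ 2, mem_x2 K⟩
    have hC : (C (1 / 2 : K) : MvPolynomial (Fin 2) K) * 2 = 1 := by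
      have : (2 : MvPolynomial (Fin 2) K) = C (2 : K) :=
        (map_ofNat (C : K →+* MvPolynomial (Fin 2) K) 2).symm
      rw [this, ← C_mul, one_div, inv_mul_cancel₀ h2, C_1]
    fin_cases i
    · show D' (X 0) = mkDerivation K _ (X 0)
      rw [mkDerivation_X]
      show D' (X 0) = C (1 / 2 : K) * a'
      rw [ha1, pow_two, Derivation.leibniz, smul_eq_mul] at hx2'
      have hX0 : (X 0 : MvPolynomial (Fin 2) K) ≠ 0 := X_ne_zero 0
      apply mul_left_cancel₀ hX0
      linear_combination (C (1 / 2 : K) : MvPolynomial (Fin 2) K) * hx2' - (X 0 * D' (X 0)) * hC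
    · show D' (X 1) = mkDerivation K _ (X 1)
      rw [mkDerivation_X]
      exact hy'

end Groth.Agent.Lib.Helper26.PinchDer
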