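import Mathlib
import Groth.Agent.Lib.Helper26.PinchDer

set_option maxHeartbeats 400000

namespace Groth.Agent.Lib.Helper26.PinchDer2

open MvPolynomial Groth.Agent.Lib.Helper26.PinchDer

universe u

variable (K : Type u) [Field K]

/-- evaluation `y ↦ 0`, `x ↦ t` -/
noncomputable abbrev ev : MvPolynomial (Fin 2) K →ₐ[K] Polynomial K :=
  aeval ![Polynomial.X, 0]

/-- section `t ↦ x` -/
noncomputable abbrev ι : Polynomial K →ₐ[K] MvPolynomial (Fin 2) K :=
  Polynomial.aeval (X 0)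

lemma ev_X0 : ev K (X 0) = Polynomial.X := by simp [ev]
lemma ev_X1 : ev K (X 1) = 0 := by simp [ev]

variable {K}

lemma decomp (f : MvPolynomial (Fin 2) K) : ∃ g, f = ι K (ev K f) + X 1 * g := by
  induction f using MvPolynomial.induction_on with
  | C a =>
    refine ⟨0, ?_⟩
    rw [mul_zero, add_zero, algHom_C, Polynomial.algebraMap_eq, Polynomial.aeval_C,
      MvPolynomial.algebraMap_eq]
  | add p q hp hq =>
    obtain ⟨g, hg⟩ := hp
    obtain ⟨g', hg'⟩ := hq
    refine ⟨g + g', ?_⟩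
    rw [map_add, map_add]
    nth_rewrite 1 [hg, hg']
    ring
  | mul_X p i hp =>
    obtain ⟨g, hg⟩ := hp
    fin_cases i
    · refine ⟨g * X 0, ?_⟩
      show p * X 0 = ι K (ev K (p * X 0)) + X 1 * (g * X 0)
      rw [map_mul, ev_X0, map_mul, Polynomial.aeval_X]
      nth_rewrite 1 [hg]
      ring
    · refine ⟨p, ?_⟩
      show p * X 1 = ι K (ev K (p * X 1)) + X 1 * p
      rw [map_mul, ev_X1, mul_zero, map_zero, zero_add, mul_comm]

lemma mem_span_y_of_ev_zero (f : MvPolynomial (Fin 2) K) (h : ev K f = 0) :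
    f ∈ Ideal.span {(X 1 : MvPolynomial (Fin 2) K)} := by
  obtain ⟨g, hg⟩ := decomp f
  rw [h, map_zero, zero_add] at hg
  rw [hg]
  exact Ideal.mul_mem_right _ _ (Ideal.subset_span rfl)

/-- `ev` maps the pinch subalgebra into even polynomials -/
lemma ev_mem_range (f : MvPolynomial (Fin 2) K) (hf : f ∈ Rp K) :
    ∃ q : Polynomial K, ev K f = Polynomial.expand K 2 q := by
  induction hf using Algebra.adjoin_induction with
  | mem x hx =>
    rcases hx with rfl | rfl | rfl
    · exact ⟨Polynomial.X, by rw [map_pow, ev_X0, Polynomial.expand_X]⟩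
    · exact ⟨0, by rw [map_mul, ev_X1, mul_zero, map_zero]⟩
    · exact ⟨0, by rw [ev_X1, map_zero]⟩
  | algebraMap k =>
    exact ⟨Polynomial.C k, by rw [AlgHom.commutes, Polynomial.algebraMap_eq, Polynomial.expand_C]⟩
  | add x y _ _ ihx ihy =>
    obtain ⟨q, hq⟩ := ihx
    obtain ⟨q', hq'⟩ := ihy
    exact ⟨q + q', by rw [map_add, map_add, hq, hq']⟩
  | mul x y _ _ ihx ihy =>
    obtain ⟨q, hq⟩ := ihx
    obtain ⟨q', hq'⟩ := ihy
    exact ⟨q * q', by rw [map_mul, map_mul, hq, hq']⟩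

lemma yS_mem (g : MvPolynomial (Fin 2) K) : X 1 * g ∈ Rp K ∧ X 0 * X 1 * g ∈ Rp K := by
  induction g using MvPolynomial.induction_on with
  | C a =>
    constructor
    · rw [mul_comm, ← MvPolynomial.smul_eq_C_mul]
      exact Subalgebra.smul_mem _ (mem_y K) a
    · rw [mul_comm, ← MvPolynomial.smul_eq_C_mul]
      exact Subalgebra.smul_mem _ (mem_xy K) a
  | add p q hp hq =>
    constructor
    · rw [mul_add]; exact add_mem hp.1 hq.1
    · rw [mul_add]; exact add_mem hp.2 hq.2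
  | mul_X p i hp =>
    fin_cases i
    · constructor
      · have : X 1 * (p * X (0 : Fin 2)) = X 0 * X 1 * p := by ring
        show X 1 * (p * X (0 : Fin 2)) ∈ Rp K
        rw [this]; exact hp.2
      · have : X 0 * X 1 * (p * X (0 : Fin 2)) = X 0 ^ 2 * (X 1 * p) := by ring
        show X 0 * X 1 * (p * X (0 : Fin 2)) ∈ Rp K
        rw [this]; exact mul_mem (mem_x2 K) hp.1
    · constructor
      · have : X 1 * (p * X (1 : Fin 2)) = (X 1 * p) * X 1 := by ring
        show X 1 * (p * X (1 : Fin 2)) ∈ Rp K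
        rw [this]; exact mul_mem hp.1 (mem_y K)
      · have : X 0 * X 1 * (p * X (1 : Fin 2)) = (X 0 * X 1 * p) * X 1 := by ring
        show X 0 * X 1 * (p * X (1 : Fin 2)) ∈ Rp K
        rw [this]; exact mul_mem hp.2 (mem_y K)

lemma aeval_x2_mem (p : Polynomial K) : Polynomial.aeval (X 0 ^ 2 : MvPolynomial (Fin 2) K) p ∈ Rp K := by
  rw [Polynomial.aeval_eq_sum_range]
  exact Subalgebra.sum_mem _ fun i _ => Subalgebra.smul_mem _ (Subalgebra.pow_mem _ (mem_x2 K) i) _

theorem backward (D : Derivation K (MvPolynomial (Fin 2) K) (MvPolynomial (Fin 2) K))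
    (hy : D (X 1) ∈ Ideal.span {(X 1 : MvPolynomial (Fin 2) K)})
    (hx : ∃ (s : MvPolynomial (Fin 2) K) (p : Polynomial K),
      D (X 0) = X 1 * s + X 0 * Polynomial.aeval (X 0 ^ 2 : MvPolynomial (Fin 2) K) p) :
    ∀ r ∈ Rp K, D r ∈ Rp K := by
  obtain ⟨t', ht'⟩ := Ideal.mem_span_singleton.mp hy
  obtain ⟨s, p, hs⟩ := hx
  set P := Polynomial.aeval (X 0 ^ 2 : MvPolynomial (Fin 2) K) p with hP
  have hPm : P ∈ Rp K := aeval_x2_mem p
  intro r hr
  induction hr using Algebra.adjoin_induction with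
  | mem x hx =>
    rcases hx with rfl | rfl | rfl
    · rw [pow_two, Derivation.leibniz, hs, smul_eq_mul]
      have : X 0 * (X 1 * s + X 0 * P) + X 0 * (X 1 * s + X 0 * P) =
          X 1 * (2 * X 0 * s) + (X 0 ^ 2 * P + X 0 ^ 2 * P) := by ring
      rw [this]
      exact add_mem (yS_mem _).1 (add_mem (mul_mem (mem_x2 K) hPm) (mul_mem (mem_x2 K) hPm))
    · rw [Derivation.leibniz, hs, ht', smul_eq_mul, smul_eq_mul]
      have : X 0 * (X 1 * t') + X 1 * (X 1 * s + X 0 * P) =
          X 1 * (X 0 * t' + X 1 * s) + (X 0 * X 1) * P := by ring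
      rw [this]
      exact add_mem (yS_mem _).1 (mul_mem (mem_xy K) hPm)
    · rw [ht']; exact (yS_mem _).1
  | algebraMap k =>
    rw [Derivation.map_algebraMap]; exact zero_mem _
  | add x y _ _ ihx ihy =>
    rw [map_add]; exact add_mem ihx ihy
  | mul x y hx hy ihx ihy =>
    rw [Derivation.leibniz, smul_eq_mul, smul_eq_mul]
    exact add_mem (mul_mem hx ihy) (mul_mem hy ihx)

theorem forward [NeZero (2 : K)]
    (D : Derivation K (MvPolynomial (Fin 2) K) (MvPolynomial (Fin 2) K))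
    (h : ∀ r ∈ Rp K, D r ∈ Rp K) :
    D (X 1) ∈ Ideal.span {(X 1 : MvPolynomial (Fin 2) K)} ∧
      ∃ (s : MvPolynomial (Fin 2) K) (p : Polynomial K),
        D (X 0) = X 1 * s + X 0 * Polynomial.aeval (X 0 ^ 2 : MvPolynomial (Fin 2) K) p := by
  have h2 : (2 : K) ≠ 0 := NeZero.ne 2
  have two_pos : 0 < 2 := by norm_num
  -- D y
  obtain ⟨q₁, hq₁⟩ := ev_mem_range _ (h _ (mem_y K))
  obtain ⟨q₂, hq₂⟩ := ev_mem_range _ (h _ (mem_xy K))
  obtain ⟨q₃, hq₃⟩ := ev_mem_range _ (h _ (mem_x2 K))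
  rw [Derivation.leibniz, smul_eq_mul, smul_eq_mul, map_add, map_mul, map_mul, ev_X0, ev_X1,
    zero_mul, add_zero, hq₁] at hq₂
  have hq₁0 : q₁ = 0 := by
    ext m
    have := congrArg (fun q => Polynomial.coeff q (2 * m + 1)) hq₂
    simp only [Polynomial.coeff_X_mul, Polynomial.coeff_expand_mul' two_pos,
      Polynomial.coeff_expand two_pos] at this
    rw [if_neg (by omega)] at this
    simpa using this
  have hevy : ev K (D (X 1)) = 0 := by rw [hq₁, hq₁0, map_zero]
  refine ⟨mem_span_y_of_ev_zero _ hevy, ?_⟩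
  -- D x
  set e := ev K (D (X 0)) with he
  rw [pow_two, Derivation.leibniz, smul_eq_mul, map_add, map_mul, ev_X0, ← he] at hq₃
  -- hq₃ : X * e + X * e = expand 2 q₃
  have hq₃0 : q₃.coeff 0 = 0 := by
    have := congrArg (fun q => Polynomial.coeff q 0) hq₃
    simp only [Polynomial.coeff_add, Polynomial.coeff_X_mul_zero, add_zero] at this
    have h' := Polynomial.coeff_expand_mul' two_pos q₃ 0
    rw [mul_zero] at h'
    rw [← h', ← this]
  obtain ⟨q₄, hq₄⟩ := Polynomial.X_dvd_iff.mpr hq₃0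
  have hCC : (Polynomial.C (1 / 2 : K)) * 2 = 1 := by
    have : (2 : Polynomial K) = Polynomial.C (2 : K) := (map_ofNat Polynomial.C 2).symm
    rw [this, ← Polynomial.C_mul, one_div, inv_mul_cancel₀ h2, Polynomial.C_1]
  have he2 : e = Polynomial.X * Polynomial.expand K 2 (Polynomial.C (1 / 2 : K) * q₄) := by
    rw [hq₄, map_mul, Polynomial.expand_X] at hq₃
    have hXne : (Polynomial.X : Polynomial K) ≠ 0 := Polynomial.X_ne_zero
    apply mul_left_cancel₀ hXne
    rw [map_mul, Polynomial.expand_C]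
    linear_combination (Polynomial.C (1 / 2 : K)) * hq₃ - (Polynomial.X * e) * hCC
  obtain ⟨s, hs⟩ := decomp (D (X 0))
  refine ⟨s, Polynomial.C (1 / 2 : K) * q₄, ?_⟩
  rw [hs, ← he, he2, map_mul, Polynomial.aeval_X, Polynomial.expand_aeval]
  ring

theorem main (K : Type u) [Field K] [NeZero (2 : K)]
    (D : Derivation K (MvPolynomial (Fin 2) K) (MvPolynomial (Fin 2) K)) :
    letI x : MvPolynomial (Fin 2) K := MvPolynomial.X 0
    letI y : MvPolynomial (Fin 2) K := MvPolynomial.X 1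
    letI R : Subalgebra K (MvPolynomial (Fin 2) K) := Algebra.adjoin K {x ^ 2, x * y, y}
    (∀ r ∈ R, D r ∈ R) ↔
      (D y ∈ Ideal.span {y} ∧
        ∃ (s : MvPolynomial (Fin 2) K) (p : Polynomial K), D x = y * s + x * Polynomial.aeval (x ^ 2) p) :=
  ⟨fun h => forward D h, fun h => backward D h.1 h.2⟩

end Groth.Agent.Lib.Helper26.PinchDer2
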