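import Mathlib
import Groth.Agent.Lib.Helper6.RDPlus

set_option maxHeartbeats 400000
set_option linter.style.haveILetI false
set_option linter.unusedSectionVars false

namespace Groth.Agent.Lib.Helper26.PlusBridge

open CategoryTheory Limits

universe w w' v v' u u'

variable {A : Type u} [Category.{v} A] [Abelian A] [HasDerivedCategory.{w} A] [EnoughInjectives A]
  {B : Type u'} [Category.{v'} B] [Abelian B] [HasDerivedCategory.{w'} B] (F : A ⥤ B) [F.Additive]

open Groth.Agent.Lib.Helper6.RDPlus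

/-- every object of `D⁺(A)` is computed by a bounded below complex of injectives, and so is its
image under `F.rightDerivedFunctorPlus` -/
theorem bridge (E : DerivedCategory.Plus A) :
    ∃ (L : CochainComplex A ℤ) (n : ℤ), L.IsStrictlyGE n ∧ (∀ i, Injective (L.X i)) ∧
      Nonempty (E.obj ≅ DerivedCategory.Q.obj L) ∧
      Nonempty ((F.rightDerivedFunctorPlus.obj E).obj ≅
        DerivedCategory.Q.obj ((F.mapHomologicalComplex (ComplexShape.up ℤ)).obj L)) := by
  obtain ⟨Xh, ⟨e₀⟩⟩ : ∃ Xh : HomotopyCategory.Plus A, Nonempty (DerivedCategory.Plus.Qh.obj Xh ≅ E) :=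
    ⟨_, ⟨DerivedCategory.Plus.Qh.objObjPreimageIso E⟩⟩
  obtain ⟨X, rfl⟩ := HomotopyCategory.Plus.quotient_obj_surjective Xh
  obtain ⟨L, i, hi⟩ := exists_res X
  haveI := hi
  let J : CochainComplex.Plus A := (InjectiveObject.ι A).mapCochainComplexPlus.obj L
  have hJ : IsIso (F.rightDerivedFunctorPlusUnit.app ((HomotopyCategory.Plus.quotient A).obj J)) :=
    inferInstance
  obtain ⟨n, hn⟩ := J.property
  -- E ≅ Q⁺ J
  let e₁ : E ≅ DerivedCategory.Plus.Q.obj J := e₀.symm ≪≫ @asIso _ _ _ _ (DerivedCategory.Plus.Q.map i) hi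
  let e₂ : F.rightDerivedFunctorPlus.obj E ≅
      (F.mapHomotopyCategoryPlus ⋙ DerivedCategory.Plus.Qh).obj
        ((HomotopyCategory.Plus.quotient A).obj J) :=
    F.rightDerivedFunctorPlus.mapIso e₁ ≪≫
      (asIso (F.rightDerivedFunctorPlusUnit.app ((HomotopyCategory.Plus.quotient A).obj J))).symm
  refine ⟨J.obj, n, hn, ?_, ⟨DerivedCategory.Plus.ι.mapIso e₁ ≪≫ eIso J⟩, ⟨?_⟩⟩
  · intro k
    exact (L.obj.X k).2
  · refine DerivedCategory.Plus.ι.mapIso e₂ ≪≫ ?_
    exact (DerivedCategory.quotientCompQhIso B).app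
      ((F.mapHomologicalComplex (ComplexShape.up ℤ)).obj J.obj)

end Groth.Agent.Lib.Helper26.PlusBridge
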