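import Mathlib
set_option maxHeartbeats 400000
universe u
namespace Groth.Agent.Lib.Helper26.PolyModel
open Polynomial

variable {k : Type u} [Field k] {s : ℕ}


/-- tuple of polynomials to tuple of power series -/
noncomputable def toPS (g : Fin s → Polynomial k) : Fin s → PowerSeries k :=
  fun i => ((g i : Polynomial k) : PowerSeries k)

lemma order_coe_ge_of_dvd (n : ℕ) (p : Polynomial k) (h : X ^ n ∣ p) :
    ((n : ℕ) : ℕ∞) ≤ ((p : Polynomial k) : PowerSeries k).order := by
  apply PowerSeries.nat_le_order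
  intro m hm
  rw [Polynomial.coeff_coe]
  obtain ⟨q, rfl⟩ := h
  rw [Polynomial.coeff_X_pow_mul']
  rw [if_neg (by omega)]

section
variable (R : Subalgebra k (Fin s → PowerSeries k)) (c : Fin s → ℕ)
    (hc : ∀ f : Fin s → PowerSeries k,
      (∀ g : Fin s → PowerSeries k, g * f ∈ R) ↔ ∀ i, ((c i : ℕ) : ℕ∞) ≤ (f i).order)
    (A : Subalgebra k (Fin s → Polynomial k))
    (hA : ∀ g : Fin s → Polynomial k, g ∈ A ↔ (fun i => ((g i : Polynomial k) : PowerSeries k)) ∈ R)
include hc

lemma cond_mem_R (f : Fin s → PowerSeries k) (hf : ∀ i, ((c i : ℕ) : ℕ∞) ≤ (f i).order) : f ∈ R := by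
  have := (hc f).mpr hf 1
  rwa [one_mul] at this

include hA

lemma cond_mem_A (g : Fin s → Polynomial k) (hg : ∀ i, X ^ (c i) ∣ g i) : g ∈ A := by
  rw [hA]
  exact cond_mem_R R c hc _ (fun i => order_coe_ge_of_dvd _ _ (hg i))

/-- part 4 -/
lemma part4 : ∃ N : ℕ, ∀ g : Fin N → (Fin s → Polynomial k),
      (∀ n, g n ∈ A ∧ ∀ i, (g n i).coeff 0 = 0) → ∀ p : Fin s → Polynomial k, p * ∏ n, g n ∈ A := by
  refine ⟨∑ i, c i, ?_⟩
  intro g hg p
  apply cond_mem_A R c hc A hA
  intro i
  have h1 : X ^ (∑ i, c i) ∣ (∏ n, g n) i := by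
    rw [Finset.prod_apply]
    have : (X : Polynomial k) ^ (∑ i, c i) = ∏ _n : Fin (∑ i, c i), (X : Polynomial k) := by
      rw [Finset.prod_const, Finset.card_univ, Fintype.card_fin]
    rw [this]
    apply Finset.prod_dvd_prod_of_dvd
    intro n _
    rw [Polynomial.X_dvd_iff]
    exact (hg n).2 i
  have h2 : (X : Polynomial k) ^ (c i) ∣ X ^ (∑ i, c i) :=
    pow_dvd_pow _ (Finset.single_le_sum (f := c) (fun _ _ => Nat.zero_le _) (Finset.mem_univ i))
  rw [Pi.mul_apply]
  exact Dvd.dvd.mul_left (h2.trans h1) _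

/-- part 5 -/
lemma part5 : ∀ f ∈ R, ∀ N : ℕ, ∃ g ∈ A, ∀ i : Fin s,
    (N : ℕ∞) ≤ (f i - ((g i : Polynomial k) : PowerSeries k)).order := by
  intro f hf N
  set M := N + ∑ i, c i with hM
  have hord : ∀ i, ((M : ℕ) : ℕ∞) ≤ (f i - ((PowerSeries.trunc M (f i) : Polynomial k) : PowerSeries k)).order := by
    intro i
    apply PowerSeries.nat_le_order
    intro m hm
    rw [map_sub, Polynomial.coeff_coe, PowerSeries.coeff_trunc, if_pos hm, sub_self]
  refine ⟨fun i => PowerSeries.trunc M (f i), ?_, ?_⟩
  · rw [hA]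
    have e : (fun i => ((PowerSeries.trunc M (f i) : Polynomial k) : PowerSeries k))
        = f - (fun i => f i - ((PowerSeries.trunc M (f i) : Polynomial k) : PowerSeries k)) := by
      funext i; simp
    rw [e]
    refine R.sub_mem hf (cond_mem_R R c hc _ ?_)
    intro i
    refine le_trans ?_ (hord i)
    have : c i ≤ M := by
      have := Finset.single_le_sum (f := c) (fun _ _ => Nat.zero_le _) (Finset.mem_univ i)
      omega
    exact_mod_cast this
  · intro i
    refine le_trans ?_ (hord i)
    have : N ≤ M := by omega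
    exact_mod_cast this

end

/-- part 2 -/
lemma part2 (R : Subalgebra k (Fin s → PowerSeries k))
    (hloc : ∀ f ∈ R, ∀ i j : Fin s, PowerSeries.constantCoeff (f i) = PowerSeries.constantCoeff (f j))
    (A : Subalgebra k (Fin s → Polynomial k))
    (hA : ∀ g : Fin s → Polynomial k, g ∈ A ↔ (fun i => ((g i : Polynomial k) : PowerSeries k)) ∈ R) :
    ∀ e ∈ A, e * e = e → e = 0 ∨ e = 1 := by
  intro e heA hee
  have h01 : ∀ i, e i = 0 ∨ e i = 1 := by
    intro i
    have : e i * e i = e i := congrFun hee i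
    have h2 : e i * (e i - 1) = 0 := by rw [mul_sub, this, mul_one, sub_self]
    rcases mul_eq_zero.mp h2 with h | h
    · exact Or.inl h
    · exact Or.inr (sub_eq_zero.mp h)
  have hcc : ∀ i j, (e i).coeff 0 = (e j).coeff 0 := by
    intro i j
    have := hloc _ ((hA e).mp heA) i j
    simpa [Polynomial.constantCoeff_coe] using this
  by_cases h : ∃ i, e i = 1
  · obtain ⟨i₀, hi₀⟩ := h
    right
    funext j
    rcases h01 j with hj | hj
    · exfalso
      have := hcc i₀ j
      rw [hi₀, hj] at this
      simp at this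
    · exact hj
  · push_neg at h
    left
    funext j
    rcases h01 j with hj | hj
    · exact hj
    · exact absurd hj (h j)



/-- part 3, abstract: if `A` contains every tuple with `X^{c i} ∣ g i` then the product is a finite `A`-module -/
lemma part3 (c : Fin s → ℕ) (A : Subalgebra k (Fin s → Polynomial k))
    (hcond : ∀ g : Fin s → Polynomial k, (∀ i, X ^ (c i) ∣ g i) → g ∈ A) :
    Module.Finite ↥A (Fin s → Polynomial k) := by
  classical
  -- generators
  let T : Finset (Fin s → Polynomial k) :=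
    insert 1 ((Finset.univ : Finset (Fin s)).biUnion fun i =>
      (Finset.range (c i)).image fun m => Pi.single i (X ^ m))
  refine ⟨⟨T, ?_⟩⟩
  rw [eq_top_iff]
  intro p _
  -- reduce to single tuples
  have hp : p = ∑ i, Pi.single i (p i) := (Finset.univ_sum_single p).symm
  rw [hp]
  apply Submodule.sum_mem
  intro i _
  -- polynomial induction
  have key : ∀ q : Polynomial k, (Pi.single i q : Fin s → Polynomial k) ∈ Submodule.span ↥A (T : Set (Fin s → Polynomial k)) := by
    intro q
    induction q using Polynomial.induction_on' with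
    | add q₁ q₂ h₁ h₂ =>
      rw [Pi.single_add]
      exact Submodule.add_mem _ h₁ h₂
    | monomial m t =>
      by_cases hm : m < c i
      · have hgen : (Pi.single i (X ^ m) : Fin s → Polynomial k) ∈ (T : Set (Fin s → Polynomial k)) := by
          apply Finset.mem_insert_of_mem
          rw [Finset.mem_biUnion]
          exact ⟨i, Finset.mem_univ _, Finset.mem_image.mpr ⟨m, Finset.mem_range.mpr hm, rfl⟩⟩
        have e : (Pi.single i (monomial m t) : Fin s → Polynomial k)
            = (algebraMap k ↥A t) • (Pi.single i (X ^ m) : Fin s → Polynomial k) := by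
          rw [algebraMap_smul]
          funext j
          by_cases hj : j = i
          · subst hj
            simp [Polynomial.smul_eq_C_mul, Polynomial.C_mul_X_pow_eq_monomial]
          · simp [Pi.single_eq_of_ne hj]
        rw [e]
        exact Submodule.smul_mem _ _ (Submodule.subset_span hgen)
      · have hmem : (Pi.single i (monomial m t) : Fin s → Polynomial k) ∈ A := by
          apply hcond
          intro j
          by_cases hj : j = i
          · subst hj
            rw [Pi.single_eq_same, ← Polynomial.C_mul_X_pow_eq_monomial]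
            exact Dvd.dvd.mul_left (pow_dvd_pow _ (by omega)) _
          · rw [Pi.single_eq_of_ne hj]; exact dvd_zero _
        have h1 : (1 : Fin s → Polynomial k) ∈ (T : Set (Fin s → Polynomial k)) :=
          Finset.mem_insert_self _ _
        have e : (Pi.single i (monomial m t) : Fin s → Polynomial k)
            = (⟨_, hmem⟩ : ↥A) • (1 : Fin s → Polynomial k) := by
          rw [Subalgebra.smul_def, smul_eq_mul, mul_one]
        rw [e]
        exact Submodule.smul_mem _ _ (Submodule.subset_span h1)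
  exact key (p i)

instance finiteType_pi : Algebra.FiniteType k (Fin s → Polynomial k) :=
  Algebra.FiniteType.trans (S := Polynomial k) inferInstance inferInstance

/-- part 1 via Artin–Tate -/
lemma part1 (A : Subalgebra k (Fin s → Polynomial k))
    (h3 : Module.Finite ↥A (Fin s → Polynomial k)) : Algebra.FiniteType k ↥A := by
  constructor
  exact fg_of_fg_of_fg k ↥A (Fin s → Polynomial k) Algebra.FiniteType.out Module.Finite.fg_top
    Subtype.val_injective



lemma single_pow_mul_single (i : Fin s) (a b : Polynomial k) (n : ℕ) (j : Fin s) :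
    ((Pi.single i a ^ n * Pi.single i b : Fin s → Polynomial k)) j = if j = i then a ^ n * b else 0 := by
  by_cases hj : j = i
  · subst hj; simp
  · simp [hj, Pi.single_eq_of_ne hj]

/-- part 6 -/
lemma part6 (c : Fin s → ℕ) (A : Subalgebra k (Fin s → Polynomial k))
    (hcond : ∀ g : Fin s → Polynomial k, (∀ i, X ^ (c i) ∣ g i) → g ∈ A) :
    ∀ N : ℕ, ∃ M : ℕ, ∀ g : ↥A, (∀ i : Fin s, Polynomial.X ^ M ∣ (g : Fin s → Polynomial k) i) →
      g ∈ (Ideal.span {h : ↥A | ∀ i : Fin s, ((h : Fin s → Polynomial k) i).coeff 0 = 0}) ^ N := by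
  classical
  intro N
  set C := (∑ i, c i) + 1 with hC
  have hcC : ∀ i, c i ≤ C := by
    intro i
    have := Finset.single_le_sum (f := c) (fun _ _ => Nat.zero_le _) (Finset.mem_univ i)
    omega
  refine ⟨C * N, ?_⟩
  intro g hg
  rcases N with _ | N
  · simp
  · choose q hq using hg
    have hsingle : ∀ (i : Fin s) (b : Polynomial k),
        (Pi.single i (X ^ C * b) : Fin s → Polynomial k) ∈ A := by
      intro i b
      apply hcond
      intro j
      by_cases hj : j = i
      · subst hj
        rw [Pi.single_eq_same]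
        exact Dvd.dvd.mul_right (pow_dvd_pow _ (hcC j)) _
      · rw [Pi.single_eq_of_ne hj]; exact dvd_zero _
    have hsingle0 : ∀ (i : Fin s) (b : Polynomial k),
        (⟨_, hsingle i b⟩ : ↥A) ∈ Ideal.span {h : ↥A | ∀ i : Fin s, ((h : Fin s → Polynomial k) i).coeff 0 = 0} := by
      intro i b
      apply Ideal.subset_span
      intro j
      show ((Pi.single i (X ^ C * b) : Fin s → Polynomial k) j).coeff 0 = 0
      by_cases hj : j = i
      · subst hj
        rw [Pi.single_eq_same, hC, pow_succ, mul_assoc, mul_comm, Polynomial.coeff_zero_eq_eval_zero]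
        simp
      · rw [Pi.single_eq_of_ne hj]; simp
    have hg_eq : g = ∑ i, (⟨_, hsingle i 1⟩ : ↥A) ^ N * (⟨_, hsingle i (q i)⟩ : ↥A) := by
      apply Subtype.ext
      rw [AddSubmonoidClass.coe_finsetSum]
      funext j
      rw [Finset.sum_apply, Finset.sum_eq_single j]
      · show (g : Fin s → Polynomial k) j
          = ((Pi.single j (X ^ C * 1) ^ N * Pi.single j (X ^ C * q j) : Fin s → Polynomial k)) j
        rw [single_pow_mul_single, if_pos rfl, hq j, mul_one, ← pow_mul, ← mul_assoc, ← pow_add,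
          Nat.mul_succ]
      · intro i _ hij
        show ((Pi.single i (X ^ C * 1) ^ N * Pi.single i (X ^ C * q i) : Fin s → Polynomial k)) j = 0
        rw [single_pow_mul_single, if_neg (Ne.symm hij)]
      · intro h; exact absurd (Finset.mem_univ j) h
    rw [hg_eq]
    apply Ideal.sum_mem
    intro i _
    rw [pow_succ]
    exact Ideal.mul_mem_mul (Ideal.pow_mem_pow (hsingle0 i 1) N) (hsingle0 i (q i))


theorem main (R : Subalgebra k (Fin s → PowerSeries k))
    (hloc : ∀ f ∈ R, ∀ i j : Fin s, PowerSeries.constantCoeff (f i) = PowerSeries.constantCoeff (f j))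
    (c : Fin s → ℕ)
    (hc : ∀ f : Fin s → PowerSeries k,
      (∀ g : Fin s → PowerSeries k, g * f ∈ R) ↔ ∀ i, ((c i : ℕ) : ℕ∞) ≤ (f i).order)
    (A : Subalgebra k (Fin s → Polynomial k))
    (hA : ∀ g : Fin s → Polynomial k, g ∈ A ↔ (fun i => ((g i : Polynomial k) : PowerSeries k)) ∈ R) :
    Algebra.FiniteType k ↥A ∧
    (∀ e ∈ A, e * e = e → e = 0 ∨ e = 1) ∧
    Module.Finite ↥A (Fin s → Polynomial k) ∧
    (∃ N : ℕ, ∀ g : Fin N → (Fin s → Polynomial k),
      (∀ n, g n ∈ A ∧ ∀ i, (g n i).coeff 0 = 0) → ∀ p : Fin s → Polynomial k, p * ∏ n, g n ∈ A) ∧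
    (∀ f ∈ R, ∀ N : ℕ, ∃ g ∈ A, ∀ i : Fin s, (N : ℕ∞) ≤ (f i - ((g i : Polynomial k) : PowerSeries k)).order) ∧
    (∀ N : ℕ, ∃ M : ℕ, ∀ g : ↥A, (∀ i : Fin s, Polynomial.X ^ M ∣ (g : Fin s → Polynomial k) i) →
      g ∈ (Ideal.span {h : ↥A | ∀ i : Fin s, ((h : Fin s → Polynomial k) i).coeff 0 = 0}) ^ N) := by
  have hcond := cond_mem_A R c hc A hA
  have h3 := part3 c A hcond
  exact ⟨part1 A h3, part2 R hloc A hA, h3, part4 R c hc A hA, part5 R c hc A hA, part6 c A hcond⟩

end Groth.Agent.Lib.Helper26.PolyModel
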