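import Mathlib
import Groth.Prelude.Def_W4c5spincurvestfNode
set_option maxHeartbeats 400000
namespace Groth.Agent.Lib.Helper26.PolyNodeBasis
open SpinCurv

universe u
variable (R : Type u) [CommRing R] (c : R)

/-- the monomial map `x^a y^b ↦ c^{min(a,b)} e_{a-b}` -/
noncomputable def Φ₀ : MvPolynomial (Fin 2) R →ₗ[R] (ℤ →₀ R) :=
  (MvPolynomial.basisMonomials (Fin 2) R).constr R
    (fun m : Fin 2 →₀ ℕ => Finsupp.single ((m 0 : ℤ) - (m 1 : ℤ)) (c ^ (min (m 0) (m 1))))

lemma Φ₀_monomial (m : Fin 2 →₀ ℕ) (r : R) :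
    Φ₀ R c (MvPolynomial.monomial m r)
      = Finsupp.single ((m 0 : ℤ) - (m 1 : ℤ)) (r * c ^ (min (m 0) (m 1))) := by
  have h1 : (MvPolynomial.monomial m r : MvPolynomial (Fin 2) R)
      = r • (MvPolynomial.basisMonomials (Fin 2) R) m := by
    rw [MvPolynomial.coe_basisMonomials, MvPolynomial.smul_monomial, smul_eq_mul, mul_one]
  rw [h1, map_smul]
  unfold Φ₀
  rw [Module.Basis.constr_basis, Finsupp.smul_single, smul_eq_mul]


lemma Φ₀_kill (h : MvPolynomial (Fin 2) R) :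
    Φ₀ R c (h * (MvPolynomial.X 0 * MvPolynomial.X 1 - MvPolynomial.C c)) = 0 := by
  have key : (Φ₀ R c) ∘ₗ (LinearMap.mulRight R
      (MvPolynomial.X 0 * MvPolynomial.X 1 - MvPolynomial.C c : MvPolynomial (Fin 2) R)) = 0 := by
    refine (MvPolynomial.basisMonomials (Fin 2) R).ext fun m => ?_
    rw [MvPolynomial.coe_basisMonomials]
    simp only [LinearMap.comp_apply, LinearMap.mulRight_apply, LinearMap.zero_apply]
    have e1 : (MvPolynomial.monomial m (1 : R)) *
        (MvPolynomial.X 0 * MvPolynomial.X 1 - MvPolynomial.C c)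
        = MvPolynomial.monomial (m + (Finsupp.single 0 1 + Finsupp.single 1 1)) 1
          - MvPolynomial.monomial m c := by
      rw [mul_sub]
      congr 1
      · simp only [MvPolynomial.X, MvPolynomial.monomial_mul, mul_one]
      · rw [MvPolynomial.C_apply, MvPolynomial.monomial_mul, add_zero, one_mul]
    rw [e1, map_sub, Φ₀_monomial, Φ₀_monomial]
    have hm0 : (m + (Finsupp.single 0 1 + Finsupp.single 1 1) : Fin 2 →₀ ℕ) 0 = m 0 + 1 := by
      simp
    have hm1 : (m + (Finsupp.single 0 1 + Finsupp.single 1 1) : Fin 2 →₀ ℕ) 1 = m 1 + 1 := by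
      simp
    have e2 : (((m 0 + 1 : ℕ) : ℤ)) - (((m 1 + 1 : ℕ)) : ℤ) = (m 0 : ℤ) - (m 1 : ℤ) := by
      push_cast; ring
    have e3 : min (m 0 + 1) (m 1 + 1) = min (m 0) (m 1) + 1 := by
      omega
    rw [hm0, hm1]
    rw [e2, e3, pow_succ, one_mul, mul_comm c, sub_self]
  exact LinearMap.congr_fun key h


/-- the ideal `(xy - c)` -/
noncomputable abbrev I : Ideal (MvPolynomial (Fin 2) R) :=
  Ideal.span {(MvPolynomial.X 0 * MvPolynomial.X 1 - MvPolynomial.C c : MvPolynomial (Fin 2) R)}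

lemma Φ₀_I (h : MvPolynomial (Fin 2) R) (hh : h ∈ I R c) : Φ₀ R c h = 0 := by
  obtain ⟨a, rfl⟩ := Ideal.mem_span_singleton'.mp hh
  exact Φ₀_kill R c a

noncomputable def Φ : PolyNodeRing R c →ₗ[R] (ℤ →₀ R) :=
  (Submodule.liftQ ((I R c).restrictScalars R) (Φ₀ R c)
    (fun h hh => LinearMap.mem_ker.mpr (Φ₀_I R c h ((Submodule.restrictScalars_mem _ _ _).mp hh)))) ∘ₗ
    (Submodule.Quotient.restrictScalarsEquiv R (I R c)).symm.toLinearMap

lemma Φ_mk (h : MvPolynomial (Fin 2) R) :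
    Φ R c (Ideal.Quotient.mk (I R c) h) = Φ₀ R c h := by
  unfold Φ
  rw [LinearMap.comp_apply]
  have : (Submodule.Quotient.restrictScalarsEquiv R (I R c)).symm.toLinearMap
      (Ideal.Quotient.mk (I R c) h)
      = (Submodule.Quotient.mk h : MvPolynomial (Fin 2) R ⧸ (I R c).restrictScalars R) := rfl
  rw [this, Submodule.liftQ_apply]

/-- basis vectors -/
noncomputable def bv (d : ℤ) : PolyNodeRing R c :=
  if 0 ≤ d then PolyNodeRing.x R c ^ d.toNat else PolyNodeRing.y R c ^ (-d).toNat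

noncomputable def Ψ : (ℤ →₀ R) →ₗ[R] PolyNodeRing R c :=
  Finsupp.linearCombination R (bv R c)

lemma Ψ_single (d : ℤ) (r : R) : Ψ R c (Finsupp.single d r) = r • bv R c d := by
  unfold Ψ
  rw [Finsupp.linearCombination_single]

lemma Φ_bv (d : ℤ) : Φ R c (bv R c d) = Finsupp.single d 1 := by
  unfold bv
  split_ifs with hd
  · have : PolyNodeRing.x R c ^ d.toNat
        = Ideal.Quotient.mk (I R c) (MvPolynomial.monomial (Finsupp.single 0 d.toNat) 1) := by
      rw [← MvPolynomial.X_pow_eq_monomial, map_pow]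
    rw [this, Φ_mk, Φ₀_monomial]
    simp [Int.toNat_of_nonneg hd]
  · have : PolyNodeRing.y R c ^ (-d).toNat
        = Ideal.Quotient.mk (I R c) (MvPolynomial.monomial (Finsupp.single 1 (-d).toNat) 1) := by
      rw [← MvPolynomial.X_pow_eq_monomial, map_pow]
    rw [this, Φ_mk, Φ₀_monomial]
    have h2 : ((-d).toNat : ℤ) = -d := Int.toNat_of_nonneg (by omega)
    simp [h2]

lemma ΦΨ (v : ℤ →₀ R) : Φ R c (Ψ R c v) = v := by
  have key : (Φ R c) ∘ₗ (Ψ R c) = LinearMap.id := by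
    refine Finsupp.lhom_ext' fun d => LinearMap.ext_ring ?_
    simp only [LinearMap.comp_apply, Finsupp.lsingle_apply, LinearMap.id_apply]
    rw [Ψ_single, one_smul, Φ_bv]
  exact LinearMap.congr_fun key v


lemma mk_monomial (m : Fin 2 →₀ ℕ) :
    Ideal.Quotient.mk (I R c) (MvPolynomial.monomial m 1)
      = PolyNodeRing.x R c ^ m 0 * PolyNodeRing.y R c ^ m 1 := by
  rw [MvPolynomial.monomial_eq, Finsupp.prod_fintype _ _ (fun i => pow_zero _), Fin.prod_univ_two,
    map_one, one_mul, map_mul, map_pow, map_pow]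

lemma xy : PolyNodeRing.x R c * PolyNodeRing.y R c = algebraMap R (PolyNodeRing R c) c := by
  have h0 : Ideal.Quotient.mk (I R c)
      (MvPolynomial.X 0 * MvPolynomial.X 1 - MvPolynomial.C c : MvPolynomial (Fin 2) R) = 0 :=
    Ideal.Quotient.eq_zero_iff_mem.mpr (Ideal.subset_span rfl)
  rw [map_sub, map_mul, sub_eq_zero] at h0
  exact h0

lemma key_mono (a b : ℕ) :
    PolyNodeRing.x R c ^ a * PolyNodeRing.y R c ^ b
      = (c ^ min a b) • bv R c ((a : ℤ) - (b : ℤ)) := by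
  have hs : (c ^ min a b) • bv R c ((a : ℤ) - (b : ℤ))
      = algebraMap R (PolyNodeRing R c) (c ^ min a b) * bv R c ((a : ℤ) - (b : ℤ)) :=
    @Algebra.smul_def R (PolyNodeRing R c) _ _ _ _ _
  rw [hs, map_pow, ← xy]
  unfold bv
  rcases le_total b a with hba | hab
  · rw [if_pos (by omega), min_eq_right hba]
    have : ((a : ℤ) - (b : ℤ)).toNat = a - b := by omega
    rw [this, mul_pow]
    have e : PolyNodeRing.x R c ^ a = PolyNodeRing.x R c ^ (a - b) * PolyNodeRing.x R c ^ b := by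
      rw [← pow_add, Nat.sub_add_cancel hba]
    rw [e]; ring
  · rcases Nat.eq_or_lt_of_le hab with rfl | hlt
    · rw [if_pos (by omega), min_self]
      have : ((a : ℤ) - (a : ℤ)).toNat = 0 := by omega
      rw [this, mul_pow]; ring
    · rw [if_neg (by omega), min_eq_left hab]
      have : (-((a : ℤ) - (b : ℤ))).toNat = b - a := by omega
      rw [this, mul_pow]
      have e : PolyNodeRing.y R c ^ b = PolyNodeRing.y R c ^ (b - a) * PolyNodeRing.y R c ^ a := by
        rw [← pow_add, Nat.sub_add_cancel hab]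
      rw [e]; ring

lemma ΨΦ (a : PolyNodeRing R c) : Ψ R c (Φ R c a) = a := by
  obtain ⟨h, rfl⟩ := Ideal.Quotient.mk_surjective a
  have key : (Ψ R c) ∘ₗ (Φ₀ R c) = (Ideal.Quotient.mkₐ R (I R c)).toLinearMap := by
    refine (MvPolynomial.basisMonomials (Fin 2) R).ext fun m => ?_
    rw [MvPolynomial.coe_basisMonomials]
    simp only [LinearMap.comp_apply, AlgHom.toLinearMap_apply, Ideal.Quotient.mkₐ_eq_mk]
    rw [Φ₀_monomial, one_mul, Ψ_single, mk_monomial, key_mono]
  rw [Φ_mk]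
  exact LinearMap.congr_fun key h

/-- the `R`-linear equivalence `R[x,y]/(xy-c) ≃ (ℤ →₀ R)` -/
noncomputable def Θ : PolyNodeRing R c ≃ₗ[R] (ℤ →₀ R) :=
  LinearEquiv.ofLinearMap (Φ R c) (Ψ R c)
    (LinearMap.ext fun v => ΦΨ R c v) (LinearMap.ext fun a => ΨΦ R c a)

end Groth.Agent.Lib.Helper26.PolyNodeBasis
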