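import Mathlib
import Groth.Agent.Lib.Helper26.PolyNodeBasis
set_option maxHeartbeats 400000
namespace Groth.Agent.Lib.Helper26.PolyNodeKer
open SpinCurv LaurentPolynomial Groth.Agent.Lib.Helper26.PolyNodeBasis

universe u
variable (R : Type u) [CommRing R]

/-- diagonal scaling on finitely supported functions -/
noncomputable def diag (a : ℤ → R) : (ℤ →₀ R) →ₗ[R] (ℤ →₀ R) :=
  Finsupp.linearCombination R (fun k => Finsupp.single k (a k))

lemma diag_apply (a : ℤ → R) (v : ℤ →₀ R) (k : ℤ) : diag R a v k = a k * v k := by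
  induction v using Finsupp.induction_linear with
  | zero => simp
  | add f g hf hg => rw [map_add, Finsupp.add_apply, hf, hg, Finsupp.add_apply, mul_add]
  | single d r =>
    unfold diag
    rw [Finsupp.linearCombination_single, Finsupp.smul_single, smul_eq_mul]
    by_cases h : d = k
    · subst h; simp [mul_comm]
    · simp [Finsupp.single_apply, h]

/-- coefficients of `gU` on basis vectors -/
noncomputable def aC (q : R) (k : ℤ) : R := if 0 ≤ k then 1 else q ^ (-k).toNat

lemma gU_bv (q : R) (gU : PolyNodeRing R q →ₐ[R] LaurentPolynomial R)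
    (hgUs : gU (PolyNodeRing.x R q) = LaurentPolynomial.T 1)
    (hgUy : gU (PolyNodeRing.y R q) = LaurentPolynomial.C q * LaurentPolynomial.T (-1)) (d : ℤ) :
    gU (bv R q d) = LaurentPolynomial.C (aC R q d) * LaurentPolynomial.T d := by
  unfold bv aC
  split_ifs with hd
  · rw [map_pow, hgUs, T_pow, map_one, one_mul, mul_one, Int.toNat_of_nonneg hd]
  · have h2 : ((-d).toNat : ℤ) = -d := Int.toNat_of_nonneg (by omega)
    rw [map_pow, hgUy, mul_pow, T_pow, ← map_pow, h2]
    congr 2
    ring

lemma gV_bv (p : R) (gV : PolyNodeRing R p →ₐ[R] LaurentPolynomial R)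
    (hgVt : gV (PolyNodeRing.x R p) = LaurentPolynomial.T (-1))
    (hgVx : gV (PolyNodeRing.y R p) = LaurentPolynomial.C p * LaurentPolynomial.T 1) (d : ℤ) :
    gV (bv R p d) = LaurentPolynomial.C (aC R p d) * LaurentPolynomial.T (-d) := by
  unfold bv aC
  split_ifs with hd
  · rw [map_pow, hgVt, T_pow, map_one, one_mul, Int.toNat_of_nonneg hd]
    congr 1
    ring
  · have h2 : ((-d).toNat : ℤ) = -d := Int.toNat_of_nonneg (by omega)
    rw [map_pow, hgVx, mul_pow, T_pow, ← map_pow, h2, mul_one]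


lemma Θ_symm_single (c : R) (d : ℤ) (r : R) :
    (Θ R c).symm (Finsupp.single d r) = r • bv R c d := Ψ_single R c d r

lemma coeff_gU (q : R) (gU : PolyNodeRing R q →ₐ[R] LaurentPolynomial R)
    (hgUs : gU (PolyNodeRing.x R q) = LaurentPolynomial.T 1)
    (hgUy : gU (PolyNodeRing.y R q) = LaurentPolynomial.C q * LaurentPolynomial.T (-1))
    (G : ℤ →₀ R) (k : ℤ) :
    (gU ((Θ R q).symm G)).coeff k = aC R q k * G k := by
  induction G using Finsupp.induction_linear with
  | zero => simp
  | add f g hf hg =>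
    rw [map_add, map_add, AddMonoidAlgebra.coeff_add, Finsupp.add_apply, hf, hg,
      Finsupp.add_apply, mul_add]
  | single d r =>
    rw [Θ_symm_single, map_smul, gU_bv R q gU hgUs hgUy, ← single_eq_C_mul_T,
      AddMonoidAlgebra.coeff_smul, AddMonoidAlgebra.coeff_single, Finsupp.smul_apply, smul_eq_mul]
    by_cases h : d = k
    · subst h; simp [mul_comm]
    · simp [h]

lemma coeff_gV (p : R) (gV : PolyNodeRing R p →ₐ[R] LaurentPolynomial R)
    (hgVt : gV (PolyNodeRing.x R p) = LaurentPolynomial.T (-1))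
    (hgVx : gV (PolyNodeRing.y R p) = LaurentPolynomial.C p * LaurentPolynomial.T 1)
    (F : ℤ →₀ R) (k : ℤ) :
    (gV ((Θ R p).symm F)).coeff k = aC R p (-k) * F (-k) := by
  induction F using Finsupp.induction_linear with
  | zero => simp
  | add f g hf hg =>
    rw [map_add, map_add, AddMonoidAlgebra.coeff_add, Finsupp.add_apply, hf, hg,
      Finsupp.add_apply, mul_add]
  | single d r =>
    rw [Θ_symm_single, map_smul, gV_bv R p gV hgVt hgVx, ← single_eq_C_mul_T,
      AddMonoidAlgebra.coeff_smul, AddMonoidAlgebra.coeff_single, Finsupp.smul_apply, smul_eq_mul]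
    by_cases h : d = -k
    · subst h; simp [mul_comm]
    · have h' : ¬ (-d = k) := fun h2 => h (by omega)
      simp [h, h']

lemma coeff_T_mul (n : ℤ) (P : LaurentPolynomial R) (k : ℤ) :
    (LaurentPolynomial.T n * P).coeff k = P.coeff (k - n) := by
  unfold LaurentPolynomial.T
  rw [AddMonoidAlgebra.coeff_single_mul_apply, one_mul]
  congr 1
  ring


lemma coeff_gU' (q : R) (gU : PolyNodeRing R q →ₐ[R] LaurentPolynomial R)
    (hgUs : gU (PolyNodeRing.x R q) = LaurentPolynomial.T 1)
    (hgUy : gU (PolyNodeRing.y R q) = LaurentPolynomial.C q * LaurentPolynomial.T (-1))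
    (g : PolyNodeRing R q) (k : ℤ) :
    (gU g).coeff k = aC R q k * (Θ R q g) k := by
  have := coeff_gU R q gU hgUs hgUy (Θ R q g) k
  rwa [LinearEquiv.symm_apply_apply] at this

lemma coeff_gV' (p : R) (gV : PolyNodeRing R p →ₐ[R] LaurentPolynomial R)
    (hgVt : gV (PolyNodeRing.x R p) = LaurentPolynomial.T (-1))
    (hgVx : gV (PolyNodeRing.y R p) = LaurentPolynomial.C p * LaurentPolynomial.T 1)
    (f : PolyNodeRing R p) (k : ℤ) :
    (gV f).coeff k = aC R p (-k) * (Θ R p f) (-k) := by
  have := coeff_gV R p gV hgVt hgVx (Θ R p f) k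
  rwa [LinearEquiv.symm_apply_apply] at this

theorem main (p q : R)
    (gU : SpinCurv.PolyNodeRing R q →ₐ[R] LaurentPolynomial R)
    (hgUs : gU (SpinCurv.PolyNodeRing.x R q) = LaurentPolynomial.T 1)
    (hgUy : gU (SpinCurv.PolyNodeRing.y R q) = LaurentPolynomial.C q * LaurentPolynomial.T (-1))
    (gV : SpinCurv.PolyNodeRing R p →ₐ[R] LaurentPolynomial R)
    (hgVt : gV (SpinCurv.PolyNodeRing.x R p) = LaurentPolynomial.T (-1))
    (hgVx : gV (SpinCurv.PolyNodeRing.y R p) = LaurentPolynomial.C p * LaurentPolynomial.T 1)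
    (n : ℤ) (hn : -1 ≤ n) :
    Module.Free R (LinearMap.ker
      (gU.toLinearMap.comp (LinearMap.fst R (SpinCurv.PolyNodeRing R q) (SpinCurv.PolyNodeRing R p)) -
        (LinearMap.mulLeft R (LaurentPolynomial.T n)).comp
          (gV.toLinearMap.comp (LinearMap.snd R (SpinCurv.PolyNodeRing R q) (SpinCurv.PolyNodeRing R p))))) := by
  obtain ⟨L, hL⟩ : ∃ L : (PolyNodeRing R q × PolyNodeRing R p) →ₗ[R] LaurentPolynomial R, L =
      (gU.toLinearMap.comp (LinearMap.fst R (SpinCurv.PolyNodeRing R q) (SpinCurv.PolyNodeRing R p)) -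
        (LinearMap.mulLeft R (LaurentPolynomial.T n)).comp
          (gV.toLinearMap.comp (LinearMap.snd R (SpinCurv.PolyNodeRing R q) (SpinCurv.PolyNodeRing R p)))) :=
    ⟨_, rfl⟩
  rw [← hL]
  have hLapp : ∀ g f, L (g, f) = gU g - LaurentPolynomial.T n * gV f := by
    intro g f
    rw [hL]
    rfl
  -- kernel characterisation
  have hker : ∀ g f, L (g, f) = 0 ↔
      ∀ k, aC R q k * (Θ R q g) k = aC R p (n - k) * (Θ R p f) (n - k) := by
    intro g f
    rw [hLapp, sub_eq_zero]
    constructor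
    · intro h k
      have h2 : (gU g).coeff k = (LaurentPolynomial.T n * gV f).coeff k := by rw [h]
      rw [coeff_T_mul, coeff_gU' R q gU hgUs hgUy, coeff_gV' R p gV hgVt hgVx, neg_sub] at h2
      exact h2
    · intro h
      apply LaurentPolynomial.ext
      intro k
      rw [coeff_T_mul, coeff_gU' R q gU hgUs hgUy, coeff_gV' R p gV hgVt hgVx, neg_sub]
      exact h k
  obtain ⟨α', hα'⟩ : ∃ α' : ℤ → R, α' = fun k => if 0 ≤ k ∧ n < k then p ^ (k - n).toNat else 1 :=
    ⟨_, rfl⟩
  obtain ⟨β', hβ'⟩ : ∃ β' : ℤ → R, β' = fun k => if k < 0 then q ^ (-k).toNat else 1 := ⟨_, rfl⟩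
  have hid : ∀ k, aC R q k * α' k = aC R p (n - k) * β' k := by
    intro k
    simp only [hα', hβ', aC]
    by_cases hk0 : 0 ≤ k
    · by_cases hkn : n < k
      · rw [if_pos hk0, if_pos ⟨hk0, hkn⟩, if_neg (by omega), if_neg (by omega), neg_sub]
        ring
      · rw [if_pos hk0, if_neg (by tauto), if_pos (by omega), if_neg (by omega)]
    · rw [if_neg hk0, if_neg (by tauto), if_pos (by omega), if_pos (by omega)]
      ring
  have hone : ∀ k, α' k = 1 ∨ β' k = 1 := by
    intro k
    simp only [hα', hβ']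
    by_cases hk0 : 0 ≤ k
    · right; rw [if_neg (by omega)]
    · left; rw [if_neg (by tauto)]
  let EF : (ℤ →₀ R) →ₗ[R] (ℤ →₀ R) :=
    (Finsupp.domLCongr (Equiv.subLeft n)).toLinearMap ∘ₗ diag R β'
  have hEF : ∀ (c : ℤ →₀ R) (j : ℤ), EF c j = β' (n - j) * c (n - j) := by
    intro c j
    simp only [EF, LinearMap.comp_apply, LinearEquiv.coe_coe, Finsupp.domLCongr_apply,
      Finsupp.domCongr_apply]
    rw [Finsupp.equivMapDomain_apply, diag_apply]
    have : (Equiv.subLeft n).symm j = n - j := by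
      simp [Equiv.subLeft, sub_eq_neg_add]
    rw [this]
  let Ξ : (ℤ →₀ R) →ₗ[R] (PolyNodeRing R q × PolyNodeRing R p) :=
    LinearMap.prod ((Θ R q).symm.toLinearMap ∘ₗ diag R α') ((Θ R p).symm.toLinearMap ∘ₗ EF)
  have hΞ : ∀ c, Ξ c = ((Θ R q).symm (diag R α' c), (Θ R p).symm (EF c)) := fun c => rfl
  have hΞker : ∀ c, Ξ c ∈ LinearMap.ker L := by
    intro c
    rw [LinearMap.mem_ker, hΞ, hker]
    intro k
    rw [LinearEquiv.apply_symm_apply, LinearEquiv.apply_symm_apply, diag_apply, hEF,
      sub_sub_cancel]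
    linear_combination (c k) * hid k
  let Ξ' : (ℤ →₀ R) →ₗ[R] LinearMap.ker L := Ξ.codRestrict (LinearMap.ker L) hΞker
  have hinj : Function.Injective Ξ' := by
    rw [← LinearMap.ker_eq_bot, LinearMap.ker_eq_bot']
    intro c hc
    have h1 : Ξ c = 0 := congrArg Subtype.val hc
    rw [hΞ, Prod.mk_eq_zero] at h1
    have h2 : diag R α' c = 0 := by
      have := h1.1
      rwa [LinearEquiv.map_eq_zero_iff] at this
    have h3 : EF c = 0 := by
      have := h1.2
      rwa [LinearEquiv.map_eq_zero_iff] at this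
    ext k
    have h4 : α' k * c k = 0 := by
      have := DFunLike.congr_fun h2 k
      rwa [diag_apply] at this
    have h5 : β' k * c k = 0 := by
      have := DFunLike.congr_fun h3 (n - k)
      rwa [hEF, sub_sub_cancel] at this
    rcases hone k with h | h
    · rw [h, one_mul] at h4; exact h4
    · rw [h, one_mul] at h5; exact h5
  have hsurj : Function.Surjective Ξ' := by
    rintro ⟨⟨g, f⟩, hgf⟩
    rw [LinearMap.mem_ker, hker] at hgf
    classical
    obtain ⟨c, hc⟩ : ∃ c : ℤ →₀ R, ∀ k, c k = if k < 0 then (Θ R q g) k else (Θ R p f) (n - k) := by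
      refine ⟨(Θ R q g).filter (fun k => k < 0) +
        (Finsupp.domCongr (Equiv.subLeft n) (Θ R p f)).filter (fun k => ¬ k < 0), fun k => ?_⟩
      have : (Equiv.subLeft n).symm k = n - k := by
        simp [Equiv.subLeft, sub_eq_neg_add]
      by_cases hk : k < 0
      · simp [Finsupp.filter_apply, hk]
      · simp [Finsupp.filter_apply, hk, Finsupp.domCongr_apply, this]
    refine ⟨c, Subtype.ext ?_⟩
    change Ξ c = (g, f)
    rw [hΞ]
    refine Prod.ext ?_ ?_
    · change (Θ R q).symm (diag R α' c) = g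
      rw [LinearEquiv.symm_apply_eq]
      ext k
      rw [diag_apply, hc]
      have hk := hgf k
      simp only [hα', aC] at hk ⊢
      by_cases hk0 : k < 0
      · rw [if_pos hk0, if_neg (by omega), one_mul]
      · rw [if_neg hk0]
        rw [if_pos (by omega), one_mul] at hk
        rw [hk]
        by_cases hkn : n < k
        · rw [if_pos ⟨by omega, hkn⟩, if_neg (by omega), neg_sub]
        · rw [if_neg (by tauto), if_pos (by omega)]
    · change (Θ R p).symm (EF c) = f
      rw [LinearEquiv.symm_apply_eq]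
      ext j
      rw [hEF, hc]
      have hk := hgf (n - j)
      rw [sub_sub_cancel] at hk
      simp only [hβ', aC] at hk ⊢
      by_cases hk0 : n - j < 0
      · rw [if_pos hk0, if_pos hk0]
        rw [if_neg (by omega), if_pos (by omega), one_mul] at hk
        exact hk
      · rw [if_neg hk0, if_neg hk0, one_mul, sub_sub_cancel]
  exact Module.Free.of_equiv (LinearEquiv.ofBijective Ξ' ⟨hinj, hsurj⟩)

end Groth.Agent.Lib.Helper26.PolyNodeKer
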