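import Mathlib
import Groth.Agent.Lib.Helper26.PolyNodeKer
set_option maxHeartbeats 400000
namespace Groth.Agent.Lib.Helper26.PolyNodeSec
open SpinCurv LaurentPolynomial Groth.Agent.Lib.Helper26.PolyNodeBasis
  Groth.Agent.Lib.Helper26.PolyNodeKer

universe u
variable (R : Type u) [CommRing R] (p q : R) (n : ℤ)

noncomputable def αc (k : ℤ) : R := if 0 ≤ k ∧ n < k then p ^ (k - n).toNat else 1
noncomputable def βc (k : ℤ) : R := if k < 0 then q ^ (-k).toNat else 1

noncomputable def EF : (ℤ →₀ R) →ₗ[R] (ℤ →₀ R) :=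
  (Finsupp.domLCongr (Equiv.subLeft n)).toLinearMap ∘ₗ diag R (βc R q)

lemma EF_apply (c : ℤ →₀ R) (j : ℤ) : EF R q n c j = βc R q (n - j) * c (n - j) := by
  simp only [EF, LinearMap.comp_apply, LinearEquiv.coe_coe, Finsupp.domLCongr_apply,
    Finsupp.domCongr_apply]
  rw [Finsupp.equivMapDomain_apply, diag_apply]
  have : (Equiv.subLeft n).symm j = n - j := by
    simp [Equiv.subLeft, sub_eq_neg_add]
  rw [this]

/-- the parametrisation of compatible pairs -/
noncomputable def Ξ : (ℤ →₀ R) →ₗ[R] (PolyNodeRing R q × PolyNodeRing R p) :=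
  LinearMap.prod ((Θ R q).symm.toLinearMap ∘ₗ diag R (αc R p n))
    ((Θ R p).symm.toLinearMap ∘ₗ EF R q n)

lemma Ξ_apply (c : ℤ →₀ R) :
    Ξ R p q n c = ((Θ R q).symm (diag R (αc R p n) c), (Θ R p).symm (EF R q n c)) := rfl

lemma hid (hn : -1 ≤ n) (k : ℤ) :
    aC R q k * αc R p n k = aC R p (n - k) * βc R q k := by
  simp only [αc, βc, aC]
  by_cases hk0 : 0 ≤ k
  · by_cases hkn : n < k
    · rw [if_pos hk0, if_pos ⟨hk0, hkn⟩, if_neg (by omega), if_neg (by omega), neg_sub]
      ring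
    · rw [if_pos hk0, if_neg (by tauto), if_pos (by omega), if_neg (by omega)]
  · rw [if_neg hk0, if_neg (by tauto), if_pos (by omega), if_pos (by omega)]
    ring

lemma hone (k : ℤ) : αc R p n k = 1 ∨ βc R q k = 1 := by
  simp only [αc, βc]
  by_cases hk0 : 0 ≤ k
  · right; rw [if_neg (by omega)]
  · left; rw [if_neg (by tauto)]

variable {R p q}
variable (gU : PolyNodeRing R q →ₐ[R] LaurentPolynomial R)
    (hgUs : gU (PolyNodeRing.x R q) = LaurentPolynomial.T 1)
    (hgUy : gU (PolyNodeRing.y R q) = LaurentPolynomial.C q * LaurentPolynomial.T (-1))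
    (gV : PolyNodeRing R p →ₐ[R] LaurentPolynomial R)
    (hgVt : gV (PolyNodeRing.x R p) = LaurentPolynomial.T (-1))
    (hgVx : gV (PolyNodeRing.y R p) = LaurentPolynomial.C p * LaurentPolynomial.T 1)

include hgUs hgUy hgVt hgVx in
lemma compat_iff (g : PolyNodeRing R q) (f : PolyNodeRing R p) :
    gU g = LaurentPolynomial.T n * gV f ↔
      ∀ k, aC R q k * (Θ R q g) k = aC R p (n - k) * (Θ R p f) (n - k) := by
  constructor
  · intro h k
    have h2 : (gU g).coeff k = (LaurentPolynomial.T n * gV f).coeff k := by rw [h]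
    rw [coeff_T_mul, coeff_gU' R q gU hgUs hgUy, coeff_gV' R p gV hgVt hgVx, neg_sub] at h2
    exact h2
  · intro h
    apply LaurentPolynomial.ext
    intro k
    rw [coeff_T_mul, coeff_gU' R q gU hgUs hgUy, coeff_gV' R p gV hgVt hgVx, neg_sub]
    exact h k

include hgUs hgUy hgVt hgVx in
lemma Ξ_compat (hn : -1 ≤ n) (c : ℤ →₀ R) :
    gU (Ξ R p q n c).1 = LaurentPolynomial.T n * gV (Ξ R p q n c).2 := by
  rw [compat_iff n gU hgUs hgUy gV hgVt hgVx, Ξ_apply]
  intro k
  rw [LinearEquiv.apply_symm_apply, LinearEquiv.apply_symm_apply, diag_apply, EF_apply,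
    sub_sub_cancel]
  linear_combination (c k) * hid R p q n hn k

lemma Ξ_inj : Function.Injective (Ξ R p q n) := by
  rw [← LinearMap.ker_eq_bot, LinearMap.ker_eq_bot']
  intro c h1
  rw [Ξ_apply, Prod.mk_eq_zero] at h1
  have h2 : diag R (αc R p n) c = 0 := by
    have := h1.1
    rwa [LinearEquiv.map_eq_zero_iff] at this
  have h3 : EF R q n c = 0 := by
    have := h1.2
    rwa [LinearEquiv.map_eq_zero_iff] at this
  ext k
  have h4 : αc R p n k * c k = 0 := by
    have := DFunLike.congr_fun h2 k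
    rwa [diag_apply] at this
  have h5 : βc R q k * c k = 0 := by
    have := DFunLike.congr_fun h3 (n - k)
    rwa [EF_apply, sub_sub_cancel] at this
  rcases hone R p q n k with h | h
  · rw [h, one_mul] at h4; exact h4
  · rw [h, one_mul] at h5; exact h5

include hgUs hgUy hgVt hgVx in
lemma Ξ_surj (hn : -1 ≤ n) (g : PolyNodeRing R q) (f : PolyNodeRing R p)
    (hgf : gU g = LaurentPolynomial.T n * gV f) : ∃ c, Ξ R p q n c = (g, f) := by
  rw [compat_iff n gU hgUs hgUy gV hgVt hgVx] at hgf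
  classical
  obtain ⟨c, hc⟩ : ∃ c : ℤ →₀ R, ∀ k, c k = if k < 0 then (Θ R q g) k else (Θ R p f) (n - k) := by
    refine ⟨(Θ R q g).filter (fun k => k < 0) +
      (Finsupp.domCongr (Equiv.subLeft n) (Θ R p f)).filter (fun k => 0 ≤ k), fun k => ?_⟩
    have : (Equiv.subLeft n).symm k = n - k := by
      simp [Equiv.subLeft, sub_eq_neg_add]
    rw [Finsupp.add_apply]
    by_cases hk : k < 0
    · rw [Finsupp.filter_apply_pos (fun k : ℤ => k < 0) _ hk,
        Finsupp.filter_apply_neg (fun k : ℤ => 0 ≤ k) _ (by omega), add_zero, if_pos hk]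
    · rw [Finsupp.filter_apply_neg (fun k : ℤ => k < 0) _ hk,
        Finsupp.filter_apply_pos (fun k : ℤ => 0 ≤ k) _ (by omega), zero_add,
        if_neg hk, Finsupp.domCongr_apply, Finsupp.equivMapDomain_apply, this]
  refine ⟨c, ?_⟩
  rw [Ξ_apply]
  refine Prod.ext ?_ ?_
  · change (Θ R q).symm (diag R (αc R p n) c) = g
    rw [LinearEquiv.symm_apply_eq]
    ext k
    rw [diag_apply, hc]
    have hk := hgf k
    simp only [αc, aC] at hk ⊢
    by_cases hk0 : k < 0
    · rw [if_pos hk0, if_neg (by omega), one_mul]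
    · rw [if_neg hk0]
      rw [if_pos (by omega), one_mul] at hk
      rw [hk]
      by_cases hkn : n < k
      · rw [if_pos ⟨by omega, hkn⟩, if_neg (by omega), neg_sub]
      · rw [if_neg (by tauto), if_pos (by omega)]
  · change (Θ R p).symm (EF R q n c) = f
    rw [LinearEquiv.symm_apply_eq]
    ext j
    rw [EF_apply, hc]
    have hk := hgf (n - j)
    rw [sub_sub_cancel] at hk
    simp only [βc, aC] at hk ⊢
    by_cases hk0 : n - j < 0
    · rw [if_pos hk0, if_pos hk0]
      rw [if_neg (by omega), if_pos (by omega), one_mul] at hk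
      exact hk
    · rw [if_neg hk0, if_neg hk0, one_mul, sub_sub_cancel]

end Groth.Agent.Lib.Helper26.PolyNodeSec
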