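import Mathlib
import Groth.Agent.Lib.Helper26.PolyNodeSec
set_option maxHeartbeats 400000
namespace Groth.Agent.Lib.Helper26.PolyNodeSec2
open SpinCurv LaurentPolynomial Groth.Agent.Lib.Helper26.PolyNodeBasis
  Groth.Agent.Lib.Helper26.PolyNodeKer Groth.Agent.Lib.Helper26.PolyNodeSec

universe u
variable {R : Type u} [CommRing R] {p q : R}

lemma diag_single (a : ℤ → R) (k : ℤ) (r : R) :
    diag R a (Finsupp.single k r) = Finsupp.single k (a k * r) := by
  ext j
  rw [diag_apply]
  by_cases h : k = j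
  · subst h; simp
  · simp [h]

lemma EF_single (n : ℤ) (k : ℤ) (r : R) :
    EF R q n (Finsupp.single k r) = Finsupp.single (n - k) (βc R q k * r) := by
  ext j
  rw [EF_apply]
  by_cases h : n - k = j
  · subst h; simp
  · have h' : ¬ (k = n - j) := fun h2 => h (by omega)
    simp [h, h']

lemma Ξ_single (n : ℤ) (k : ℤ) (r : R) :
    Ξ R p q n (Finsupp.single k r)
      = ((αc R p n k * r) • bv R q k, (βc R q k * r) • bv R p (n - k)) := by
  rw [Ξ_apply, diag_single, EF_single, Θ_symm_single, Θ_symm_single]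

variable (rU : PolyNodeRing R (p * q) →ₐ[R] PolyNodeRing R q)
  (rV : PolyNodeRing R (p * q) →ₐ[R] PolyNodeRing R p) (n : ℕ)

/-- the section map as an `R`-linear map -/
noncomputable def Sec :
    (Fin (n + 1) → PolyNodeRing R (p * q)) →ₗ[R] PolyNodeRing R q × PolyNodeRing R p :=
  ∑ i : Fin (n + 1), LinearMap.prod
    ((LinearMap.mulRight R (PolyNodeRing.x R q ^ (n - (i : ℕ)))) ∘ₗ rU.toLinearMap ∘ₗ
      (LinearMap.proj i : (Fin (n + 1) → PolyNodeRing R (p * q)) →ₗ[R] PolyNodeRing R (p * q)))
    ((LinearMap.mulRight R (PolyNodeRing.x R p ^ (i : ℕ))) ∘ₗ rV.toLinearMap ∘ₗ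
      (LinearMap.proj i : (Fin (n + 1) → PolyNodeRing R (p * q)) →ₗ[R] PolyNodeRing R (p * q)))

lemma Sec_apply (F : Fin (n + 1) → PolyNodeRing R (p * q)) :
    Sec rU rV n F = (∑ i : Fin (n + 1), rU (F i) * PolyNodeRing.x R q ^ (n - (i : ℕ)),
         ∑ i : Fin (n + 1), rV (F i) * PolyNodeRing.x R p ^ (i : ℕ)) := by
  unfold Sec
  rw [LinearMap.sum_apply]
  refine Prod.ext ?_ ?_
  · rw [Prod.fst_sum]; rfl
  · rw [Prod.snd_sum]; rfl


lemma Sec_single (a : Fin (n + 1)) (r : PolyNodeRing R (p * q)) :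
    Sec rU rV n (Pi.single a r)
      = (rU r * PolyNodeRing.x R q ^ (n - (a : ℕ)), rV r * PolyNodeRing.x R p ^ (a : ℕ)) := by
  rw [Sec_apply]
  refine Prod.ext ?_ ?_
  · simp only
    rw [Finset.sum_eq_single a]
    · rw [Pi.single_eq_same]
    · intro b _ hb; rw [Pi.single_eq_of_ne hb, map_zero, zero_mul]
    · intro h; exact absurd (Finset.mem_univ a) h
  · simp only
    rw [Finset.sum_eq_single a]
    · rw [Pi.single_eq_same]
    · intro b _ hb; rw [Pi.single_eq_of_ne hb, map_zero, zero_mul]
    · intro h; exact absurd (Finset.mem_univ a) h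

lemma Sec_smul (a : PolyNodeRing R (p * q)) (F : Fin (n + 1) → PolyNodeRing R (p * q)) :
    Sec rU rV n (a • F) = (rU a * (Sec rU rV n F).1, rV a * (Sec rU rV n F).2) := by
  rw [Sec_apply, Sec_apply]
  simp only [Pi.smul_apply, smul_eq_mul, map_mul, Finset.mul_sum, mul_assoc]

/-- two algebra maps out of `R[x,y]/(xy-c)` agreeing on `x` and `y` are equal -/
lemma algHom_ext' {c : R} {B : Type*} [CommRing B] [Algebra R B]
    (φ ψ : PolyNodeRing R c →ₐ[R] B)
    (hx : φ (PolyNodeRing.x R c) = ψ (PolyNodeRing.x R c))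
    (hy : φ (PolyNodeRing.y R c) = ψ (PolyNodeRing.y R c)) : φ = ψ := by
  apply Ideal.Quotient.algHom_ext
  apply MvPolynomial.algHom_ext
  intro i
  fin_cases i
  · exact hx
  · exact hy


variable (R p q)

/-- index `n - k` in `Fin (n+1)` -/
def idx (k : ℤ) : Fin (n + 1) := ⟨((n : ℤ) - k).toNat % (n + 1), Nat.mod_lt _ (Nat.succ_pos n)⟩

lemma idx_val (k : ℤ) (h0 : 0 ≤ k) (hn : k ≤ n) : ((idx n k : Fin (n + 1)) : ℕ) = ((n : ℤ) - k).toNat := by
  unfold idx
  simp only
  apply Nat.mod_eq_of_lt
  omega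

/-- reduced basis vectors of `A^{n+1}` modulo the relations -/
noncomputable def red (k : ℤ) : Fin (n + 1) → PolyNodeRing R (p * q) :=
  if (n : ℤ) < k then Pi.single 0 (PolyNodeRing.x R (p * q) ^ (k - n).toNat)
  else if 0 ≤ k then Pi.single (idx n k) 1
  else Pi.single (Fin.last n) (PolyNodeRing.y R (p * q) ^ (-k).toNat)

noncomputable def ρ : (ℤ →₀ R) →ₗ[R] (Fin (n + 1) → PolyNodeRing R (p * q)) :=
  Finsupp.linearCombination R (red R p q n)

variable {R p q}

lemma smul_eq (c : R) (r : R) (z : PolyNodeRing R c) :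
    r • z = algebraMap R (PolyNodeRing R c) r * z :=
  @Algebra.smul_def R (PolyNodeRing R c) _ _ _ r z

variable
  (hrUx : rU (PolyNodeRing.x R (p * q)) = algebraMap R _ p * PolyNodeRing.x R q)
  (hrUy : rU (PolyNodeRing.y R (p * q)) = PolyNodeRing.y R q)
  (hrVx : rV (PolyNodeRing.x R (p * q)) = PolyNodeRing.y R p)
  (hrVy : rV (PolyNodeRing.y R (p * q)) = algebraMap R _ q * PolyNodeRing.x R p)

include hrUx hrUy hrVx hrVy in
lemma Sec_red (k : ℤ) :
    Sec rU rV n (red R p q n k) = Ξ R p q (n : ℤ) (Finsupp.single k 1) := by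
  rw [Ξ_single, mul_one, mul_one]
  unfold red
  by_cases h1 : (n : ℤ) < k
  · rw [if_pos h1, Sec_single, map_pow, map_pow, hrUx, hrVx]
    have hα : αc R p (n : ℤ) k = p ^ (k - n).toNat := by
      unfold αc; rw [if_pos ⟨by omega, h1⟩]
    have hβ : βc R q k = 1 := by
      unfold βc; rw [if_neg (by omega)]
    have hb1 : bv R q k = PolyNodeRing.x R q ^ k.toNat := by
      unfold bv; rw [if_pos (by omega)]
    have hb2 : bv R p ((n : ℤ) - k) = PolyNodeRing.y R p ^ (k - n).toNat := by
      unfold bv; rw [if_neg (by omega), neg_sub]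
    rw [hα, hβ, hb1, hb2, one_smul, smul_eq, map_pow, mul_pow]
    refine Prod.ext ?_ ?_
    · simp only [Fin.val_zero, Nat.sub_zero]
      rw [mul_assoc, ← pow_add]
      congr 2
      omega
    · simp
  · rw [if_neg h1]
    by_cases h0 : 0 ≤ k
    · rw [if_pos h0, Sec_single, map_one, map_one, one_mul, one_mul, idx_val n k h0 (by omega)]
      have hα : αc R p (n : ℤ) k = 1 := by
        unfold αc; rw [if_neg (by tauto)]
      have hβ : βc R q k = 1 := by
        unfold βc; rw [if_neg (by omega)]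
      have hb1 : bv R q k = PolyNodeRing.x R q ^ k.toNat := by
        unfold bv; rw [if_pos (by omega)]
      have hb2 : bv R p ((n : ℤ) - k) = PolyNodeRing.x R p ^ ((n : ℤ) - k).toNat := by
        unfold bv; rw [if_pos (by omega)]
      rw [hα, hβ, hb1, hb2, one_smul, one_smul]
      refine Prod.ext ?_ rfl
      simp only
      congr 1
      omega
    · rw [if_neg h0, Sec_single, map_pow, map_pow, hrUy, hrVy]
      have hα : αc R p (n : ℤ) k = 1 := by
        unfold αc; rw [if_neg (by tauto)]
      have hβ : βc R q k = q ^ (-k).toNat := by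
        unfold βc; rw [if_pos (by omega)]
      have hb1 : bv R q k = PolyNodeRing.y R q ^ (-k).toNat := by
        unfold bv; rw [if_neg (by omega)]
      have hb2 : bv R p ((n : ℤ) - k) = PolyNodeRing.x R p ^ ((n : ℤ) - k).toNat := by
        unfold bv; rw [if_pos (by omega)]
      rw [hα, hβ, hb1, hb2, one_smul, smul_eq, map_pow, mul_pow]
      refine Prod.ext ?_ ?_
      · simp
      · simp only [Fin.val_last]
        rw [mul_assoc, ← pow_add]
        congr 2
        omega

include hrUx hrUy hrVx hrVy in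
lemma Sec_ρ (c : ℤ →₀ R) : Sec rU rV n (ρ R p q n c) = Ξ R p q (n : ℤ) c := by
  have key : (Sec rU rV n) ∘ₗ (ρ R p q n) = Ξ R p q (n : ℤ) := by
    refine Finsupp.lhom_ext' fun k => LinearMap.ext_ring ?_
    simp only [LinearMap.comp_apply, Finsupp.lsingle_apply]
    unfold ρ
    rw [Finsupp.linearCombination_single, one_smul]
    exact Sec_red rU rV n hrUx hrUy hrVx hrVy k
  exact LinearMap.congr_fun key c


variable (gU : PolyNodeRing R q →ₐ[R] LaurentPolynomial R)
    (hgUs : gU (PolyNodeRing.x R q) = LaurentPolynomial.T 1)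
    (hgUy : gU (PolyNodeRing.y R q) = LaurentPolynomial.C q * LaurentPolynomial.T (-1))
    (gV : PolyNodeRing R p →ₐ[R] LaurentPolynomial R)
    (hgVt : gV (PolyNodeRing.x R p) = LaurentPolynomial.T (-1))
    (hgVx : gV (PolyNodeRing.y R p) = LaurentPolynomial.C p * LaurentPolynomial.T 1)

include hrUx hrUy hrVx hrVy hgUs hgUy hgVt hgVx in
lemma comp_eq : gU.comp rU = gV.comp rV := by
  apply algHom_ext'
  · rw [AlgHom.comp_apply, AlgHom.comp_apply, hrUx, hrVx, map_mul, AlgHom.commutes, hgUs, hgVx]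
    rfl
  · rw [AlgHom.comp_apply, AlgHom.comp_apply, hrUy, hrVy, map_mul, AlgHom.commutes, hgUy, hgVt]
    rfl

include hrUx hrUy hrVx hrVy hgUs hgUy hgVt hgVx in
lemma claim1_sub (F : Fin (n + 1) → PolyNodeRing R (p * q)) :
    gU (Sec rU rV n F).1 = LaurentPolynomial.T (n : ℤ) * gV (Sec rU rV n F).2 := by
  rw [Sec_apply]
  simp only [map_sum, map_mul, map_pow, hgUs, hgVt, T_pow, Finset.mul_sum]
  refine Finset.sum_congr rfl fun i _ => ?_
  have e : gU (rU (F i)) = gV (rV (F i)) :=
    DFunLike.congr_fun (comp_eq rU rV hrUx hrUy hrVx hrVy gU hgUs hgUy gV hgVt hgVx) (F i)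
  rw [e, mul_left_comm, ← T_add]
  congr 2
  have hi : (i : ℕ) ≤ n := Nat.lt_succ_iff.mp i.2
  push_cast [Nat.cast_sub hi]
  ring


variable (R p q) in
/-- the relation submodule -/
noncomputable def Nrel :
    Submodule (PolyNodeRing R (p * q)) (Fin (n + 1) → PolyNodeRing R (p * q)) :=
  Submodule.span (PolyNodeRing R (p * q))
    (Set.range (fun i : Fin n =>
        (Pi.single (Fin.castSucc i) (algebraMap R (PolyNodeRing R (p * q)) p) -
          Pi.single (Fin.succ i) (PolyNodeRing.x R (p * q)) :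
            Fin (n + 1) → PolyNodeRing R (p * q))) ∪
     Set.range (fun i : Fin n =>
        (Pi.single (Fin.castSucc i) (PolyNodeRing.y R (p * q)) -
          Pi.single (Fin.succ i) (algebraMap R (PolyNodeRing R (p * q)) q) :
            Fin (n + 1) → PolyNodeRing R (p * q))))

include hrUx hrUy hrVx hrVy in
lemma Sec_Nrel (F : Fin (n + 1) → PolyNodeRing R (p * q)) (hF : F ∈ Nrel R p q n) :
    Sec rU rV n F = 0 := by
  unfold Nrel at hF
  induction hF using Submodule.span_induction with
  | mem z hz =>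
    rcases hz with ⟨i, rfl⟩ | ⟨i, rfl⟩
    · rw [map_sub, Sec_single, Sec_single, AlgHom.commutes, AlgHom.commutes, hrUx, hrVx]
      have hi : (i : ℕ) < n := i.2
      simp only [Fin.val_castSucc, Fin.val_succ, Prod.mk_sub_mk]
      refine Prod.ext ?_ ?_
      · simp only [Prod.fst_zero]
        have e : n - (i : ℕ) = (n - ((i : ℕ) + 1)) + 1 := by omega
        rw [e, pow_succ]
        ring
      · simp only [Prod.snd_zero]
        rw [pow_succ, ← xy R p]
        ring
    · rw [map_sub, Sec_single, Sec_single, AlgHom.commutes, AlgHom.commutes, hrUy, hrVy]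
      have hi : (i : ℕ) < n := i.2
      simp only [Fin.val_castSucc, Fin.val_succ, Prod.mk_sub_mk]
      refine Prod.ext ?_ ?_
      · simp only [Prod.fst_zero]
        have e : n - (i : ℕ) = (n - ((i : ℕ) + 1)) + 1 := by omega
        rw [e, pow_succ, ← xy R q]
        ring
      · simp only [Prod.snd_zero]
        rw [pow_succ]
        ring
  | zero => exact map_zero _
  | add x y _ _ hx hy => rw [map_add, hx, hy, add_zero]
  | smul a x _ hx => rw [Sec_smul, hx]; simp


variable (R p q) in
/-- `range ρ + N` as an `R`-submodule -/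
noncomputable def Q : Submodule R (Fin (n + 1) → PolyNodeRing R (p * q)) :=
  LinearMap.range (ρ R p q n) ⊔ (Nrel R p q n).restrictScalars R

lemma red_mem_Q (k : ℤ) : red R p q n k ∈ Q R p q n := by
  refine Submodule.mem_sup_left ⟨Finsupp.single k 1, ?_⟩
  unfold ρ
  rw [Finsupp.linearCombination_single, one_smul]

lemma Nrel_mem_Q (z : Fin (n + 1) → PolyNodeRing R (p * q)) (hz : z ∈ Nrel R p q n) :
    z ∈ Q R p q n :=
  Submodule.mem_sup_right ((Submodule.restrictScalars_mem _ _ _).mpr hz)

lemma smul_single (a : PolyNodeRing R (p * q)) (i : Fin (n + 1)) (b : PolyNodeRing R (p * q)) :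
    a • (Pi.single i b : Fin (n + 1) → PolyNodeRing R (p * q)) = Pi.single i (a * b) := by
  ext j
  by_cases h : j = i
  · subst h; simp
  · simp [Pi.single_eq_of_ne h]

lemma rsmul_single (r : R) (i : Fin (n + 1)) (b : PolyNodeRing R (p * q)) :
    r • (Pi.single i b : Fin (n + 1) → PolyNodeRing R (p * q))
      = Pi.single i (algebraMap R (PolyNodeRing R (p * q)) r * b) := by
  ext j
  by_cases h : j = i
  · subst h; simp [smul_eq]
  · simp [Pi.single_eq_of_ne h]

lemma single_x_mem : ∀ (k : ℕ) (i : Fin (n + 1)), (i : ℕ) = k → ∀ m : ℕ,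
    (Pi.single i (PolyNodeRing.x R (p * q) ^ m) : Fin (n + 1) → PolyNodeRing R (p * q))
      ∈ Q R p q n := by
  intro k
  induction k with
  | zero =>
    intro i hi m
    have hi0 : i = 0 := Fin.ext hi
    subst hi0
    have : (Pi.single 0 (PolyNodeRing.x R (p * q) ^ m) : Fin (n + 1) → PolyNodeRing R (p * q))
        = red R p q n ((n : ℤ) + m) := by
      unfold red
      rcases Nat.eq_zero_or_pos m with rfl | hm
      · rw [if_neg (by simp), if_pos (by omega), pow_zero]
        congr 1
        apply Fin.ext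
        unfold idx
        simp
      · rw [if_pos (by omega)]
        congr 2
        omega
    rw [this]
    exact red_mem_Q n _
  | succ k ih =>
    intro i hi m
    rcases Nat.eq_zero_or_pos m with rfl | hm
    · have : (Pi.single i (PolyNodeRing.x R (p * q) ^ 0) : Fin (n + 1) → PolyNodeRing R (p * q))
          = red R p q n ((n : ℤ) - (k + 1)) := by
        unfold red
        have hin : (i : ℕ) ≤ n := Nat.lt_succ_iff.mp i.2
        rw [if_neg (by omega), if_pos (by omega), pow_zero]
        congr 1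
        apply Fin.ext
        unfold idx
        simp only
        rw [Nat.mod_eq_of_lt (by omega)]
        omega
      rw [this]
      exact red_mem_Q n _
    · obtain ⟨m', rfl⟩ : ∃ m', m = m' + 1 := ⟨m - 1, by omega⟩
      have hin : (i : ℕ) ≤ n := Nat.lt_succ_iff.mp i.2
      let i' : Fin n := ⟨k, by omega⟩
      have hs : Fin.succ i' = i := Fin.ext (by simp [i', hi])
      have hc : ((Fin.castSucc i' : Fin (n + 1)) : ℕ) = k := rfl
      have hu : (Pi.single (Fin.castSucc i') (algebraMap R (PolyNodeRing R (p * q)) p) -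
          Pi.single (Fin.succ i') (PolyNodeRing.x R (p * q)) :
            Fin (n + 1) → PolyNodeRing R (p * q)) ∈ Nrel R p q n :=
        Submodule.subset_span (Or.inl ⟨i', rfl⟩)
      have hu2 := (Nrel R p q n).smul_mem (PolyNodeRing.x R (p * q) ^ m') hu
      rw [smul_sub, smul_single, smul_single, hs] at hu2
      have ih' := (Q R p q n).smul_mem p (ih (Fin.castSucc i') hc m')
      rw [rsmul_single] at ih'
      have e : (Pi.single i (PolyNodeRing.x R (p * q) ^ (m' + 1)) :
          Fin (n + 1) → PolyNodeRing R (p * q))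
          = Pi.single (Fin.castSucc i') (algebraMap R (PolyNodeRing R (p * q)) p *
              PolyNodeRing.x R (p * q) ^ m')
            - (Pi.single (Fin.castSucc i') (PolyNodeRing.x R (p * q) ^ m' *
                algebraMap R (PolyNodeRing R (p * q)) p) -
              Pi.single i (PolyNodeRing.x R (p * q) ^ m' * PolyNodeRing.x R (p * q))) := by
        rw [pow_succ, mul_comm (algebraMap R (PolyNodeRing R (p * q)) p)]
        abel
      rw [e]
      exact (Q R p q n).sub_mem ih' (Nrel_mem_Q n _ hu2)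


lemma single_y_mem : ∀ (d : ℕ) (i : Fin (n + 1)), n - (i : ℕ) = d → ∀ m : ℕ,
    (Pi.single i (PolyNodeRing.y R (p * q) ^ m) : Fin (n + 1) → PolyNodeRing R (p * q))
      ∈ Q R p q n := by
  intro d
  induction d with
  | zero =>
    intro i hi m
    have hin : (i : ℕ) ≤ n := Nat.lt_succ_iff.mp i.2
    have hi0 : i = Fin.last n := Fin.ext (by simp; omega)
    subst hi0
    have : (Pi.single (Fin.last n) (PolyNodeRing.y R (p * q) ^ m) :
        Fin (n + 1) → PolyNodeRing R (p * q)) = red R p q n (-(m : ℤ)) := by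
      unfold red
      rcases Nat.eq_zero_or_pos m with rfl | hm
      · rw [if_neg (by simp), if_pos (by simp), pow_zero]
        congr 1
        apply Fin.ext
        unfold idx
        simp
      · rw [if_neg (by omega), if_neg (by omega)]
        congr 2
        omega
    rw [this]
    exact red_mem_Q n _
  | succ d ih =>
    intro i hi m
    have hin : (i : ℕ) < n := by omega
    rcases Nat.eq_zero_or_pos m with rfl | hm
    · have : (Pi.single i (PolyNodeRing.y R (p * q) ^ 0) : Fin (n + 1) → PolyNodeRing R (p * q))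
          = red R p q n ((n : ℤ) - (i : ℕ)) := by
        unfold red
        rw [if_neg (by omega), if_pos (by omega), pow_zero]
        congr 1
        apply Fin.ext
        unfold idx
        simp only
        rw [Nat.mod_eq_of_lt (by omega)]
        omega
      rw [this]
      exact red_mem_Q n _
    · obtain ⟨m', rfl⟩ : ∃ m', m = m' + 1 := ⟨m - 1, by omega⟩
      let i' : Fin n := ⟨(i : ℕ), hin⟩
      have hc : Fin.castSucc i' = i := Fin.ext rfl
      have hs : n - ((Fin.succ i' : Fin (n + 1)) : ℕ) = d := by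
        simp only [Fin.val_succ, i']
        omega
      have hw : (Pi.single (Fin.castSucc i') (PolyNodeRing.y R (p * q)) -
          Pi.single (Fin.succ i') (algebraMap R (PolyNodeRing R (p * q)) q) :
            Fin (n + 1) → PolyNodeRing R (p * q)) ∈ Nrel R p q n :=
        Submodule.subset_span (Or.inr ⟨i', rfl⟩)
      have hw2 := (Nrel R p q n).smul_mem (PolyNodeRing.y R (p * q) ^ m') hw
      rw [smul_sub, smul_single, smul_single, hc] at hw2
      have ih' := (Q R p q n).smul_mem q (ih (Fin.succ i') hs m')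
      rw [rsmul_single] at ih'
      have e : (Pi.single i (PolyNodeRing.y R (p * q) ^ (m' + 1)) :
          Fin (n + 1) → PolyNodeRing R (p * q))
          = (Pi.single i (PolyNodeRing.y R (p * q) ^ m' * PolyNodeRing.y R (p * q)) -
              Pi.single (Fin.succ i') (PolyNodeRing.y R (p * q) ^ m' *
                algebraMap R (PolyNodeRing R (p * q)) q))
            + Pi.single (Fin.succ i') (algebraMap R (PolyNodeRing R (p * q)) q *
              PolyNodeRing.y R (p * q) ^ m') := by
        rw [pow_succ, mul_comm (algebraMap R (PolyNodeRing R (p * q)) q)]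
        abel
      rw [e]
      exact (Q R p q n).add_mem (Nrel_mem_Q n _ hw2) ih'

lemma single_mem_Q (i : Fin (n + 1)) (a : PolyNodeRing R (p * q)) :
    (Pi.single i a : Fin (n + 1) → PolyNodeRing R (p * q)) ∈ Q R p q n := by
  have hbv : ∀ d : ℤ, bv R (p * q) d ∈ (Q R p q n).comap
      (LinearMap.single R (fun _ : Fin (n + 1) => PolyNodeRing R (p * q)) i) := by
    intro d
    rw [Submodule.mem_comap, LinearMap.single_apply]
    unfold bv
    split_ifs with hd
    · exact single_x_mem n (i : ℕ) i rfl _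
    · exact single_y_mem n (n - (i : ℕ)) i rfl _
  have hspan : Submodule.span R (Set.range (bv R (p * q))) = ⊤ := by
    rw [← Finsupp.range_linearCombination]
    exact LinearMap.range_eq_top.mpr (Θ R (p * q)).symm.surjective
  have hle : (⊤ : Submodule R (PolyNodeRing R (p * q))) ≤ (Q R p q n).comap
      (LinearMap.single R (fun _ : Fin (n + 1) => PolyNodeRing R (p * q)) i) := by
    rw [← hspan, Submodule.span_le]
    rintro _ ⟨d, rfl⟩
    exact hbv d
  exact hle (Submodule.mem_top (x := a))

lemma all_mem_Q (F : Fin (n + 1) → PolyNodeRing R (p * q)) : F ∈ Q R p q n := by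
  rw [← Finset.univ_sum_single F]
  exact (Q R p q n).sum_mem fun i _ => single_mem_Q n i (F i)

include hrUx hrUy hrVx hrVy in
lemma claim2 (F : Fin (n + 1) → PolyNodeRing R (p * q)) :
    Sec rU rV n F = 0 ↔ F ∈ Nrel R p q n := by
  constructor
  · intro hF
    obtain ⟨y, ⟨c, rfl⟩, z, hz, rfl⟩ := Submodule.mem_sup.mp (all_mem_Q n F)
    have hz' : z ∈ Nrel R p q n := (Submodule.restrictScalars_mem _ _ _).mp hz
    rw [map_add, Sec_Nrel rU rV n hrUx hrUy hrVx hrVy z hz', add_zero,
      Sec_ρ rU rV n hrUx hrUy hrVx hrVy] at hF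
    have hc : c = 0 := Ξ_inj (n : ℤ) (hF.trans (map_zero _).symm)
    rw [hc, map_zero, zero_add]
    exact hz'
  · exact Sec_Nrel rU rV n hrUx hrUy hrVx hrVy F


theorem main (R : Type u) [CommRing R] (p q : R)
    (rU : SpinCurv.PolyNodeRing R (p * q) →ₐ[R] SpinCurv.PolyNodeRing R q)
    (hrUx : rU (SpinCurv.PolyNodeRing.x R (p * q)) = algebraMap R _ p * SpinCurv.PolyNodeRing.x R q)
    (hrUy : rU (SpinCurv.PolyNodeRing.y R (p * q)) = SpinCurv.PolyNodeRing.y R q)
    (rV : SpinCurv.PolyNodeRing R (p * q) →ₐ[R] SpinCurv.PolyNodeRing R p)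
    (hrVx : rV (SpinCurv.PolyNodeRing.x R (p * q)) = SpinCurv.PolyNodeRing.y R p)
    (hrVy : rV (SpinCurv.PolyNodeRing.y R (p * q)) = algebraMap R _ q * SpinCurv.PolyNodeRing.x R p)
    (gU : SpinCurv.PolyNodeRing R q →ₐ[R] LaurentPolynomial R)
    (hgUs : gU (SpinCurv.PolyNodeRing.x R q) = LaurentPolynomial.T 1)
    (hgUy : gU (SpinCurv.PolyNodeRing.y R q) = LaurentPolynomial.C q * LaurentPolynomial.T (-1))
    (gV : SpinCurv.PolyNodeRing R p →ₐ[R] LaurentPolynomial R)
    (hgVt : gV (SpinCurv.PolyNodeRing.x R p) = LaurentPolynomial.T (-1))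
    (hgVx : gV (SpinCurv.PolyNodeRing.y R p) = LaurentPolynomial.C p * LaurentPolynomial.T 1) (n : ℕ) :
    Set.range (fun F : Fin (n + 1) → SpinCurv.PolyNodeRing R (p * q) =>
        (∑ i : Fin (n + 1), rU (F i) * SpinCurv.PolyNodeRing.x R q ^ (n - (i : ℕ)),
         ∑ i : Fin (n + 1), rV (F i) * SpinCurv.PolyNodeRing.x R p ^ (i : ℕ))) =
      {gf : SpinCurv.PolyNodeRing R q × SpinCurv.PolyNodeRing R p |
        gU gf.1 = LaurentPolynomial.T (n : ℤ) * gV gf.2} ∧
    {F : Fin (n + 1) → SpinCurv.PolyNodeRing R (p * q) |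
        (∑ i : Fin (n + 1), rU (F i) * SpinCurv.PolyNodeRing.x R q ^ (n - (i : ℕ)),
         ∑ i : Fin (n + 1), rV (F i) * SpinCurv.PolyNodeRing.x R p ^ (i : ℕ)) = 0} =
      (Submodule.span (SpinCurv.PolyNodeRing R (p * q))
        (Set.range (fun i : Fin n =>
            (Pi.single (Fin.castSucc i) (algebraMap R (SpinCurv.PolyNodeRing R (p * q)) p) -
              Pi.single (Fin.succ i) (SpinCurv.PolyNodeRing.x R (p * q)) : Fin (n + 1) → SpinCurv.PolyNodeRing R (p * q))) ∪
         Set.range (fun i : Fin n =>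
            (Pi.single (Fin.castSucc i) (SpinCurv.PolyNodeRing.y R (p * q)) -
              Pi.single (Fin.succ i) (algebraMap R (SpinCurv.PolyNodeRing R (p * q)) q) : Fin (n + 1) → SpinCurv.PolyNodeRing R (p * q)))) :
        Set (Fin (n + 1) → SpinCurv.PolyNodeRing R (p * q))) := by
  constructor
  · ext gf
    simp only [Set.mem_range, Set.mem_setOf_eq]
    constructor
    · rintro ⟨F, rfl⟩
      have := claim1_sub rU rV n hrUx hrUy hrVx hrVy gU hgUs hgUy gV hgVt hgVx F
      rw [Sec_apply] at this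
      exact this
    · intro h
      obtain ⟨c, hc⟩ := Ξ_surj (n : ℤ) gU hgUs hgUy gV hgVt hgVx (by omega) gf.1 gf.2 h
      refine ⟨ρ R p q n c, ?_⟩
      rw [← Sec_apply, Sec_ρ rU rV n hrUx hrUy hrVx hrVy, hc]
  · ext F
    simp only [Set.mem_setOf_eq, SetLike.mem_coe]
    rw [← Sec_apply]
    exact claim2 rU rV n hrUx hrUy hrVx hrVy F

end Groth.Agent.Lib.Helper26.PolyNodeSec2
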