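import Mathlib
set_option maxHeartbeats 400000
namespace Groth.Agent.Lib.Helper26.PontWeak

universe u

open Filter

/-- Step 1: continuity for the weak topology gives a finite set of characters whose common kernel
lies in the kernel of `χ`. -/
lemma finite_kernels (G : Type u) (G' : Type u) [AddCommGroup G] [AddCommGroup G']
    (β : G' →+ (G →+ AddCircle (1 : ℚ)))
    (χ : G →+ AddCircle (1 : ℚ))
    (hχ : @Continuous G (AddCircle (1 : ℚ))
      (⨅ f' : G', TopologicalSpace.induced (fun x : G => β f' x) ⊥) ⊥ χ) :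
    ∃ s : Finset G', ∀ g : G, (∀ f ∈ s, β f g = 0) → χ g = 0 := by
  have hd : @DiscreteTopology (AddCircle (1 : ℚ)) ⊥ := @DiscreteTopology.mk _ ⊥ rfl
  have ho : @IsOpen G (⨅ f' : G', TopologicalSpace.induced (fun x : G => β f' x) ⊥)
      (χ ⁻¹' {0}) :=
    (@continuous_def _ _ (⨅ f' : G', TopologicalSpace.induced (fun x : G => β f' x) ⊥) ⊥ χ).mp
      hχ {0} (@isOpen_discrete _ ⊥ hd {0})
  have hn : χ ⁻¹' {0} ∈ @nhds G (⨅ f' : G', TopologicalSpace.induced (fun x : G => β f' x) ⊥) 0 :=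
    @IsOpen.mem_nhds G (⨅ f' : G', TopologicalSpace.induced (fun x : G => β f' x) ⊥) 0
      (χ ⁻¹' {0}) ho (by simp)
  rw [nhds_iInf] at hn
  have e : ∀ f' : G', @nhds G (TopologicalSpace.induced (fun x : G => β f' x) ⊥) 0
      = 𝓟 ((fun x : G => β f' x) ⁻¹' {0}) := by
    intro f'
    rw [@nhds_induced _ _ ⊥, @nhds_discrete _ ⊥ hd, map_zero, Filter.comap_pure]
  simp only [e] at hn
  obtain ⟨s, hs⟩ := (Filter.mem_iInf_finite _).mp hn
  rw [Filter.iInf_principal_finset, Filter.mem_principal] at hs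
  refine ⟨s, fun g hg => ?_⟩
  have : g ∈ ⋂ i ∈ s, (fun x : G => β i x) ⁻¹' {0} := by
    simp only [Set.mem_iInter, Set.mem_preimage, Set.mem_singleton_iff]
    exact hg
  exact hs this


lemma torsion_form (n : ℕ) (hn : 0 < n) (x : AddCircle (1 : ℚ)) (hx : n • x = 0) :
    ∃ j : ℤ, x = j • ((((n : ℚ)⁻¹ : ℚ)) : AddCircle (1 : ℚ)) := by
  obtain ⟨r, rfl⟩ := QuotientAddGroup.mk_surjective x
  change n • ((r : ℚ) : AddCircle (1 : ℚ)) = 0 at hx
  change ∃ j : ℤ, ((r : ℚ) : AddCircle (1 : ℚ)) = j • ((((n : ℚ)⁻¹ : ℚ)) : AddCircle (1 : ℚ))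
  rw [← AddCircle.coe_nsmul, AddCircle.coe_eq_zero_iff] at hx
  obtain ⟨j, hj⟩ := hx
  refine ⟨j, ?_⟩
  rw [← AddCircle.coe_zsmul]
  congr 1
  have hn' : (n : ℚ) ≠ 0 := by exact_mod_cast hn.ne'
  simp only [zsmul_eq_mul, mul_one, nsmul_eq_mul] at hj ⊢
  rw [hj]
  field_simp

lemma hom_on_torsion (h : AddCircle (1 : ℚ) →+ AddCircle (1 : ℚ)) (n : ℕ) (hn : 0 < n) :
    ∃ b : ℤ, ∀ x : AddCircle (1 : ℚ), n • x = 0 → h x = b • x := by
  obtain ⟨e, he⟩ : ∃ e : AddCircle (1 : ℚ), e = (((n : ℚ)⁻¹ : ℚ) : AddCircle (1 : ℚ)) := ⟨_, rfl⟩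
  have hne : n • e = 0 := by
    rw [he, ← AddCircle.coe_nsmul, AddCircle.coe_eq_zero_iff]
    refine ⟨1, ?_⟩
    have hn' : (n : ℚ) ≠ 0 := by exact_mod_cast hn.ne'
    simp only [one_zsmul, nsmul_eq_mul]
    field_simp
  have hc : n • h e = 0 := by rw [← map_nsmul, hne, map_zero]
  obtain ⟨b, hb⟩ := torsion_form n hn (h e) hc
  rw [← he] at hb
  refine ⟨b, fun x hx => ?_⟩
  obtain ⟨j, hj⟩ := torsion_form n hn x hx
  rw [← he] at hj
  rw [hj, map_zsmul, hb, smul_comm]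

theorem main (G : Type u) (G' : Type u) [AddCommGroup G] [AddCommGroup G'] (hG' : IsAddTorsion G')
    (β : G' →+ (G →+ AddCircle (1 : ℚ))) (hβ : Function.Injective β)
    (χ : G →+ AddCircle (1 : ℚ))
    (hχ : @Continuous G (AddCircle (1 : ℚ))
      (⨅ f' : G', TopologicalSpace.induced (fun x : G => β f' x) ⊥) ⊥ χ) :
    ∃ f' : G', β f' = χ := by
  classical
  obtain ⟨s, hs⟩ := finite_kernels G G' β χ hχ
  let Φ : G →+ (s → AddCircle (1 : ℚ)) := AddMonoidHom.pi (fun f : s => β (f : G'))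
  have hΦ : ∀ g (f : s), Φ g f = β (f : G') g := fun g f => rfl
  have hker : Φ.ker ≤ χ.ker := by
    intro g hg
    rw [AddMonoidHom.mem_ker] at hg ⊢
    refine hs g fun f hf => ?_
    have := congrFun hg ⟨f, hf⟩
    rwa [hΦ] at this
  obtain ⟨h, hh⟩ := (Module.Baer.of_divisible (AddCircle (1 : ℚ))).extension_property_addMonoidHom
    (QuotientAddGroup.kerLift Φ) (QuotientAddGroup.kerLift_injective Φ)
    (QuotientAddGroup.lift Φ.ker χ hker)
  have hχΦ : ∀ g, χ g = h (Φ g) := by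
    intro g
    have := DFunLike.congr_fun hh (QuotientAddGroup.mk g)
    rw [AddMonoidHom.comp_apply, QuotientAddGroup.kerLift_mk, QuotientAddGroup.lift_mk] at this
    exact this.symm
  -- decompose h
  have hdec : ∀ t : s → AddCircle (1 : ℚ), h t = ∑ f : s, h (Pi.single f (t f)) := by
    intro t
    conv_lhs => rw [← Finset.univ_sum_single t]
    rw [map_sum]
  -- integer multipliers
  have hb : ∀ f : s, ∃ b : ℤ, ∀ g : G,
      h (Pi.single f (β (f : G') g)) = b • β (f : G') g := by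
    intro f
    have hpos : 0 < addOrderOf (f : G') := (hG' (f : G')).addOrderOf_pos
    obtain ⟨b, hb⟩ := hom_on_torsion (h.comp (AddMonoidHom.single (fun _ : s => AddCircle (1 : ℚ)) f))
      (addOrderOf (f : G')) hpos
    refine ⟨b, fun g => ?_⟩
    have h0 : addOrderOf (f : G') • β (f : G') g = 0 := by
      rw [← AddMonoidHom.smul_apply, ← map_nsmul, addOrderOf_nsmul_eq_zero, map_zero,
        AddMonoidHom.zero_apply]
    have := hb _ h0
    rwa [AddMonoidHom.comp_apply, AddMonoidHom.single_apply] at this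
  choose b hb using hb
  refine ⟨∑ f : s, b f • (f : G'), ?_⟩
  ext g
  rw [map_sum, AddMonoidHom.finsetSum_apply, hχΦ, hdec]
  refine Finset.sum_congr rfl fun f _ => ?_
  rw [map_zsmul, AddMonoidHom.smul_apply, hΦ, hb]

end Groth.Agent.Lib.Helper26.PontWeak
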