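import Groth.Agent.Lib.Helper26.SimpleGrp
import Mathlib.Data.Nat.Prime.Factorial

/-!
Primitive elements: powers, pairing with the dual, the Hopf ideal they generate.
-/

set_option autoImplicit false
universe u

namespace Groth.Agent.Lib.Helper26.PrimElem

open TensorProduct

section Basic

variable {k : Type u} [Field k] {A : Type u} [CommRing A] [HopfAlgebra k A]

/-- primitive elements -/
def IsPrim (x : A) : Prop := Coalgebra.comul (R := k) x = x ⊗ₜ[k] (1 : A) + (1 : A) ⊗ₜ[k] x

lemma add_pow_of_cast_eq_zero {S : Type*} [CommRing S] (p : ℕ) [Fact p.Prime]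
    (hS : (p : S) = 0) (a b : S) (n : ℕ) : (a + b) ^ (p ^ n) = a ^ (p ^ n) + b ^ (p ^ n) := by
  rcases subsingleton_or_nontrivial S with h | h
  · exact Subsingleton.elim _ _
  · haveI : CharP S p := (CharP.charP_iff_prime_eq_zero (Fact.out : p.Prime)).mpr hS
    exact add_pow_char_pow a b p n

lemma IsPrim.counit_eq_zero {x : A} (hx : IsPrim (k := k) x) :
    Coalgebra.counit (R := k) x = 0 := by
  have h := Coalgebra.rTensor_counit_comul (R := k) x
  rw [hx, map_add, LinearMap.rTensor_tmul, LinearMap.rTensor_tmul, Bialgebra.counit_one] at h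
  have h2 := congrArg (TensorProduct.lid k A) h
  rw [map_add, TensorProduct.lid_tmul, TensorProduct.lid_tmul,
    one_smul] at h2
  have h3 : Coalgebra.counit (R := k) x • (1 : A) = 0 := by
    have := h2
    rwa [add_eq_right] at this
  have h4 := congrArg (Coalgebra.counit (R := k) (A := A)) h3
  rw [map_smul, Bialgebra.counit_one, smul_eq_mul, mul_one, map_zero] at h4
  exact h4

lemma IsPrim.pow_char_pow (p : ℕ) [Fact p.Prime] [CharP k p] {x : A} (hx : IsPrim (k := k) x)
    (n : ℕ) : IsPrim (k := k) (x ^ (p ^ n)) := by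
  unfold IsPrim at hx ⊢
  have hS : ((p : ℕ) : A ⊗[k] A) = 0 := by
    have h1 : ((p : ℕ) : A ⊗[k] A) = algebraMap k (A ⊗[k] A) ((p : ℕ) : k) := by
      rw [map_natCast]
    rw [h1, CharP.cast_eq_zero, map_zero]
  rw [Bialgebra.comul_pow, hx, add_pow_of_cast_eq_zero p hS, Algebra.TensorProduct.tmul_pow,
    Algebra.TensorProduct.tmul_pow, one_pow]

lemma IsPrim.comul_pow {x : A} (hx : IsPrim (k := k) x) (m : ℕ) :
    Coalgebra.comul (R := k) (x ^ m)
      = ∑ i ∈ Finset.range (m + 1), (m.choose i) • ((x ^ i) ⊗ₜ[k] (x ^ (m - i))) := by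
  unfold IsPrim at hx
  rw [Bialgebra.comul_pow, hx, add_pow]
  refine Finset.sum_congr rfl fun i _ => ?_
  rw [Algebra.TensorProduct.tmul_pow, Algebra.TensorProduct.tmul_pow, one_pow, one_pow,
    Algebra.TensorProduct.tmul_mul_tmul, mul_one, one_mul, mul_comm, nsmul_eq_mul]

lemma convMul_apply_pow {x : A} (hx : IsPrim (k := k) x) (y z : CartDual.D k A) (m : ℕ) :
    (y * z) (x ^ m) = ∑ i ∈ Finset.range (m + 1), (m.choose i) • (y (x ^ i) * z (x ^ (m - i))) := by
  show LinearMap.mul' k k (TensorProduct.map y.ofConv z.ofConv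
    (Coalgebra.comul (x ^ m))) = _
  rw [hx.comul_pow, map_sum, map_sum]
  refine Finset.sum_congr rfl fun i _ => ?_
  rw [map_nsmul, map_nsmul, TensorProduct.map_tmul, LinearMap.mul'_apply]

lemma pow_apply_pow_of_lt {x : A} (hx : IsPrim (k := k) x) (y : CartDual.D k A)
    (hy : y (1 : A) = 0) : ∀ j m : ℕ, m < j → (y ^ j) (x ^ m) = 0 := by
  intro j
  induction j with
  | zero => intro m hm; exact absurd hm (Nat.not_lt_zero m)
  | succ j ih =>
    intro m hm
    rw [pow_succ, convMul_apply_pow hx]
    refine Finset.sum_eq_zero fun i hi => ?_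
    have hi' : i ≤ m := Nat.lt_succ_iff.mp (Finset.mem_range.mp hi)
    rcases Nat.lt_or_ge i j with h | h
    · rw [ih i h, zero_mul, smul_zero]
    · have hmi : m - i = 0 := by omega
      rw [hmi, pow_zero, hy, mul_zero, smul_zero]

lemma pow_apply_pow_self {x : A} (hx : IsPrim (k := k) x) (y : CartDual.D k A)
    (hy : y (1 : A) = 0) : ∀ i : ℕ, (y ^ i) (x ^ i) = (i.factorial : k) * (y x) ^ i := by
  intro i
  induction i with
  | zero =>
    rw [pow_zero, pow_zero, pow_zero, Nat.factorial_zero, Nat.cast_one, one_mul]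
    show algebraMap k k (Coalgebra.counit (1 : A)) = 1
    rw [Bialgebra.counit_one, map_one]
  | succ i ih =>
    rw [pow_succ, convMul_apply_pow hx, Finset.sum_eq_single i]
    · rw [ih, Nat.choose_succ_self_right, Nat.add_sub_cancel_left, pow_one, nsmul_eq_mul,
        Nat.factorial_succ, Nat.cast_mul, pow_succ]
      ring
    · intro j hj hji
      have hj' : j ≤ i + 1 := Nat.lt_succ_iff.mp (Finset.mem_range.mp hj)
      rcases Nat.lt_or_ge j i with h | h
      · rw [pow_apply_pow_of_lt hx y hy i j h, zero_mul, smul_zero]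
      · have hj2 : j = i + 1 := by omega
        rw [hj2, Nat.sub_self, pow_zero, hy, mul_zero, smul_zero]
    · intro h
      exact absurd (Finset.mem_range.mpr (by omega)) h

theorem linearIndependent_pow (p : ℕ) [Fact p.Prime] [CharP k p] {x : A}
    (hx : IsPrim (k := k) x) (y : CartDual.D k A) (hy : y (1 : A) = 0) (hyx : y x ≠ 0) :
    LinearIndependent k (fun i : Fin p => x ^ (i : ℕ)) := by
  classical
  rw [Fintype.linearIndependent_iff]
  intro c hc
  by_contra hcon
  push_neg at hcon
  have hne : (Finset.univ.filter fun i : Fin p => c i ≠ 0).Nonempty := by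
    obtain ⟨i, hi⟩ := hcon
    exact ⟨i, Finset.mem_filter.mpr ⟨Finset.mem_univ _, hi⟩⟩
  set i₀ := (Finset.univ.filter fun i : Fin p => c i ≠ 0).max' hne with hi₀
  have hi₀mem : c i₀ ≠ 0 :=
    (Finset.mem_filter.mp ((Finset.univ.filter fun i : Fin p => c i ≠ 0).max'_mem hne)).2
  have hmax : ∀ i : Fin p, i₀ < i → c i = 0 := by
    intro i hi
    by_contra h
    have := (Finset.univ.filter fun i : Fin p => c i ≠ 0).le_max' i
      (Finset.mem_filter.mpr ⟨Finset.mem_univ _, h⟩)
    exact absurd (lt_of_lt_of_le hi this) (lt_irrefl _)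
  have h1 := congrArg (y ^ (i₀ : ℕ)).ofConv hc
  rw [map_sum, map_zero, Finset.sum_eq_single i₀] at h1
  · rw [map_smul, smul_eq_mul] at h1
    have h2 : (y ^ (i₀ : ℕ)).ofConv (x ^ (i₀ : ℕ)) = ((i₀ : ℕ).factorial : k) * (y x) ^ (i₀ : ℕ) :=
      pow_apply_pow_self hx y hy i₀
    rw [h2] at h1
    have hfac : (((i₀ : ℕ).factorial : ℕ) : k) ≠ 0 := by
      rw [Ne, CharP.cast_eq_zero_iff k p, Nat.Prime.dvd_factorial (Fact.out : p.Prime)]
      exact not_le.mpr i₀.2
    exact absurd h1 (mul_ne_zero hi₀mem (mul_ne_zero hfac (pow_ne_zero _ hyx)))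
  · intro i _ hi
    rcases lt_or_gt_of_ne hi with h | h
    · have : (y ^ (i₀ : ℕ)).ofConv (x ^ (i : ℕ)) = 0 :=
        pow_apply_pow_of_lt hx y hy i₀ i (Fin.lt_def.mp h)
      rw [map_smul, this, smul_zero]
    · rw [hmax i h, zero_smul, map_zero]
  · intro h
    exact absurd (Finset.mem_univ _) h

lemma IsPrim.antipode {x : A} (hx : IsPrim (k := k) x) :
    HopfAlgebraStruct.antipode (R := k) x = -x := by
  have h := HopfAlgebra.mul_antipode_rTensor_comul_apply (R := k) x
  rw [hx, map_add, LinearMap.rTensor_tmul, LinearMap.rTensor_tmul, map_add,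
    LinearMap.mul'_apply, LinearMap.mul'_apply, HopfAlgebra.antipode_one, mul_one, one_mul,
    hx.counit_eq_zero, map_zero] at h
  exact eq_neg_of_add_eq_zero_left h

theorem isHopfIdeal_span_prim {x : A} (hx : IsPrim (k := k) x) :
    (Ideal.span {x}).IsHopfIdeal k := by
  haveI : ((Ideal.span {x}).restrictScalars k).IsCoideal := by
    refine Submodule.IsCoideal.mk ?_ ?_
    · intro z hz
      obtain ⟨a, rfl⟩ := Ideal.mem_span_singleton'.mp hz
      change Bialgebra.counitAlgHom k A (a * x) = 0
      rw [map_mul]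
      change _ * Coalgebra.counit (R := k) x = 0
      rw [hx.counit_eq_zero, mul_zero]
    · intro z hz
      obtain ⟨a, rfl⟩ := Ideal.mem_span_singleton'.mp hz
      have hmk : (Submodule.restrictScalars k (Ideal.span {x})).mkQ
          = (Ideal.Quotient.mkₐ k (Ideal.span {x})).toLinearMap := rfl
      rw [hmk]
      change Algebra.TensorProduct.map (Ideal.Quotient.mkₐ k (Ideal.span {x}))
          (Ideal.Quotient.mkₐ k (Ideal.span {x}))
          (Bialgebra.comulAlgHom k A (a * x)) = 0
      rw [map_mul, map_mul]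
      change _ * Algebra.TensorProduct.map _ _ (Coalgebra.comul (R := k) x) = 0
      unfold IsPrim at hx
      rw [hx, map_add, Algebra.TensorProduct.map_tmul, Algebra.TensorProduct.map_tmul]
      have h0 : Ideal.Quotient.mkₐ k (Ideal.span {x}) x = 0 :=
        (Ideal.Quotient.eq_zero_iff_mem).mpr (Ideal.subset_span rfl)
      simp [h0]
  refine Ideal.IsHopfIdeal.mk ?_
  intro z hz
  obtain ⟨a, rfl⟩ := Ideal.mem_span_singleton'.mp hz
  change HopfAlgebra.antipodeAlgHom k A (a * x) ∈ Ideal.span {x}
  rw [map_mul]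
  apply Ideal.mul_mem_left
  change HopfAlgebraStruct.antipode (R := k) x ∈ Ideal.span {x}
  rw [hx.antipode]
  exact (Ideal.neg_mem_iff _).mpr (Ideal.subset_span rfl)

end Basic

section Exists

variable {k : Type u} [Field k] {A : Type u} [CommRing A] [HopfAlgebra k A]
  [Coalgebra.IsCocomm k A] [FiniteDimensional k A]

open SimpleGrp

/-- a linear form on the dual killing `1` and the square of the augmentation ideal gives a
primitive element -/
theorem isPrim_rep (lam : CartDual.D k A →ₗ[k] k) (h1 : lam 1 = 0)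
    (h2 : ∀ y z : CartDual.D k A, ev1 y = 0 → ev1 z = 0 → lam (y * z) = 0) :
    IsPrim (k := k) (rep k A lam) := by
  unfold IsPrim
  apply tensor_ext
  intro y z
  rw [ev₂_tmul_comul, apply_rep, map_add, CartDual.ev₂_tmul,
    CartDual.ev₂_tmul, apply_rep, apply_rep]
  -- decompose `y` and `z`
  set y' := y - (ev1 y) • (1 : CartDual.D k A) with hy'
  set z' := z - (ev1 z) • (1 : CartDual.D k A) with hz'
  have hy0 : ev1 y' = 0 := by
    rw [hy', map_sub, map_smul, map_one, smul_eq_mul, mul_one, sub_self]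
  have hz0 : ev1 z' = 0 := by
    rw [hz', map_sub, map_smul, map_one, smul_eq_mul, mul_one, sub_self]
  have hy : y = (ev1 y) • (1 : CartDual.D k A) + y' := by rw [hy']; abel
  have hz : z = (ev1 z) • (1 : CartDual.D k A) + z' := by rw [hz']; abel
  have hly : lam y = lam y' := by
    conv_lhs => rw [hy]
    rw [map_add, map_smul, h1, smul_zero, zero_add]
  have hlz : lam z = lam z' := by
    conv_lhs => rw [hz]
    rw [map_add, map_smul, h1, smul_zero, zero_add]
  have hprod : y * z = (ev1 y * ev1 z) • (1 : CartDual.D k A) + (ev1 y) • z' + (ev1 z) • y'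
      + y' * z' := by
    conv_lhs => rw [hy, hz]
    rw [add_mul, mul_add, mul_add, smul_mul_smul_comm, mul_one, smul_mul_assoc, one_mul,
      mul_smul_comm, mul_one]
    abel
  rw [hprod, map_add, map_add, map_add, map_smul, map_smul, map_smul, h1, smul_zero, zero_add,
    h2 y' z' hy0 hz0, add_zero, hly, hlz, ← ev1_apply, ← ev1_apply, smul_eq_mul, smul_eq_mul]
  ring

theorem exists_prim_ne_zero (hloc : IsLocalRing (CartDual.D k A))
    (hdim : 1 < Module.finrank k A) : ∃ x : A, x ≠ 0 ∧ IsPrim (k := k) x := by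
  haveI := hloc
  haveI : IsArtinianRing (CartDual.D k A) := IsArtinianRing.of_finite k _
  have hsurj : Function.Surjective (ev1 (k := k) (A := A)) := by
    intro c
    exact ⟨c • 1, by rw [map_smul, map_one, smul_eq_mul, mul_one]⟩
  have hmax : (RingHom.ker (ev1 (k := k) (A := A))).IsMaximal :=
    RingHom.ker_isMaximal_of_surjective _ hsurj
  have hm : RingHom.ker (ev1 (k := k) (A := A)) = IsLocalRing.maximalIdeal (CartDual.D k A) :=
    IsLocalRing.eq_maximalIdeal hmax
  set m := IsLocalRing.maximalIdeal (CartDual.D k A) with hmdef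
  have hmem : ∀ y : CartDual.D k A, y ∈ m ↔ ev1 y = 0 := by
    intro y
    rw [← hm, RingHom.mem_ker]
  have hmne : m ≠ ⊥ := by
    intro h
    have hinj : Function.Injective (ev1 (k := k) (A := A)).toLinearMap := by
      rw [← LinearMap.ker_eq_bot, LinearMap.ker_eq_bot']
      intro y hy
      have : y ∈ m := (hmem y).mpr hy
      rw [h] at this
      exact this
    have h4 := LinearMap.finrank_le_finrank_of_injective hinj
    rw [finrank_D, Module.finrank_self] at h4
    omega
  obtain ⟨N, hN⟩ := IsArtinianRing.isNilpotent_jacobson_bot (R := CartDual.D k A)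
  rw [IsLocalRing.jacobson_eq_maximalIdeal ⊥ bot_ne_top] at hN
  have hsq : ¬ (m ≤ m ^ 2) := by
    intro h
    have hall : ∀ n : ℕ, m ≤ m ^ (n + 1) := by
      intro n
      induction n with
      | zero => rw [zero_add, pow_one]
      | succ n ih =>
        calc m ≤ m ^ 2 := h
          _ = m * m := pow_two m
          _ ≤ m ^ (n + 1) * m := Ideal.mul_mono_left ih
          _ = m ^ (n + 1 + 1) := (pow_succ m (n + 1)).symm
    cases N with
    | zero =>
      have h1 : m ^ 0 = ⊥ := hN
      rw [pow_zero, Ideal.one_eq_top] at h1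
      exact absurd h1 top_ne_bot
    | succ n =>
      have h3 := hall n
      have h4 : m ^ (n + 1) = ⊥ := hN
      rw [h4] at h3
      exact hmne (le_bot_iff.mp h3)
  obtain ⟨u, hu, hu2⟩ : ∃ u ∈ m, u ∉ m ^ 2 := by
    by_contra hcon
    push_neg at hcon
    exact hsq hcon
  let W : Submodule k (CartDual.D k A) :=
    Submodule.span k {(1 : CartDual.D k A)} ⊔ (m ^ 2).restrictScalars k
  have huW : u ∉ W := by
    intro h
    obtain ⟨a, ha, w, hw, rfl⟩ := Submodule.mem_sup.mp h
    obtain ⟨c, rfl⟩ := Submodule.mem_span_singleton.mp ha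
    have hw' : w ∈ m ^ 2 := hw
    have hwm : w ∈ m := Ideal.pow_le_self two_ne_zero hw'
    have h1 : ev1 (c • (1 : CartDual.D k A) + w) = 0 := (hmem _).mp hu
    rw [map_add, map_smul, map_one, (hmem w).mp hwm, add_zero, smul_eq_mul, mul_one] at h1
    rw [h1, zero_smul, zero_add] at hu2
    exact hu2 hw'
  obtain ⟨lam, hlu, hW⟩ := Submodule.exists_le_ker_of_notMem huW
  refine ⟨rep k A lam, ?_, isPrim_rep lam ?_ ?_⟩
  · intro h0
    apply hlu
    rw [← apply_rep lam u, h0]
    exact map_zero u.ofConv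
  · have : (1 : CartDual.D k A) ∈ W :=
      Submodule.mem_sup_left (Submodule.mem_span_singleton_self _)
    exact LinearMap.mem_ker.mp (hW this)
  · intro y z hy hz
    have : y * z ∈ W := by
      apply Submodule.mem_sup_right
      show y * z ∈ m ^ 2
      rw [pow_two]
      exact Ideal.mul_mem_mul ((hmem y).mpr hy) ((hmem z).mpr hz)
    exact LinearMap.mem_ker.mp (hW this)

end Exists

end Groth.Agent.Lib.Helper26.PrimElem
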