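import Mathlib

set_option maxHeartbeats 400000
set_option autoImplicit false

namespace Groth.Agent.Lib.Helper26.PrimElt

open Module

universe u

variable (K L : Type u) [Field K] [CommRing L] [Algebra K L] [Module.Finite K L] [IsReduced L]
  [Algebra.IsSeparable K L]

/-- a finite reduced separable `K`-algebra of dimension `d` has at least `d` homs to `K̄`. -/
theorem finrank_le_card_algHom :
    Module.finrank K L ≤ Nat.card (L →ₐ[K] AlgebraicClosure K) := by
  classical
  haveI : IsArtinianRing L := IsArtinianRing.of_finite K L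
  letI : ∀ m : MaximalSpectrum L, Field (L ⧸ m.asIdeal) := fun m => Ideal.Quotient.field m.asIdeal
  haveI hsep : ∀ m : MaximalSpectrum L, Algebra.IsSeparable K (L ⧸ m.asIdeal) := by
    intro m
    constructor
    intro y
    obtain ⟨x, rfl⟩ := Ideal.Quotient.mk_surjective y
    have hx : IsSeparable K x := Algebra.IsSeparable.isSeparable K x
    unfold IsSeparable at hx ⊢
    refine hx.of_dvd (minpoly.dvd K _ ?_)
    have : (Ideal.Quotient.mk m.asIdeal x) = Ideal.Quotient.mkₐ K m.asIdeal x := rfl
    rw [this, Polynomial.aeval_algHom_apply, minpoly.aeval, map_zero]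
  haveI : Fintype (MaximalSpectrum L) := Fintype.ofFinite _
  -- dimension count
  have h1 : Module.finrank K L = ∑ m : MaximalSpectrum L, Module.finrank K (L ⧸ m.asIdeal) := by
    rw [((IsArtinianRing.equivPi L).restrictScalars K).toLinearEquiv.finrank_eq,
      Module.finrank_pi_fintype]
  have h2 : ∀ m : MaximalSpectrum L,
      Nat.card (L ⧸ m.asIdeal →ₐ[K] AlgebraicClosure K) = Module.finrank K (L ⧸ m.asIdeal) := by
    intro m
    exact AlgHom.natCard_of_splits K (L ⧸ m.asIdeal) (AlgebraicClosure K)
      (fun _ => IsAlgClosed.splits _)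
  -- the injection
  let Φ : (Σ m : MaximalSpectrum L, (L ⧸ m.asIdeal →ₐ[K] AlgebraicClosure K)) →
      (L →ₐ[K] AlgebraicClosure K) := fun p => p.2.comp (Ideal.Quotient.mkₐ K p.1.asIdeal)
  have hΦ : Function.Injective Φ := by
    rintro ⟨m, τ⟩ ⟨m', τ'⟩ h
    have hker : ∀ (n : MaximalSpectrum L) (ρ : L ⧸ n.asIdeal →ₐ[K] AlgebraicClosure K) (x : L),
        (ρ.comp (Ideal.Quotient.mkₐ K n.asIdeal)) x = 0 ↔ x ∈ n.asIdeal := by
      intro n ρ x
      rw [AlgHom.comp_apply, map_eq_zero_iff ρ ρ.toRingHom.injective]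
      exact Ideal.Quotient.eq_zero_iff_mem
    have hm : m = m' := by
      apply MaximalSpectrum.ext
      ext x
      rw [← hker m τ x, ← hker m' τ' x]
      change Φ ⟨m, τ⟩ x = 0 ↔ Φ ⟨m', τ'⟩ x = 0
      rw [h]
    subst hm
    congr 1
    apply AlgHom.ext
    intro y
    obtain ⟨x, rfl⟩ := Ideal.Quotient.mk_surjective y
    exact AlgHom.congr_fun h x
  have h3 := Nat.card_le_card_of_injective Φ hΦ
  rw [Nat.card_sigma] at h3
  simp only [h2] at h3
  rw [h1]; exact h3

--PART2
variable {K L}

/-- if the homs to `K̄` are separated by `w`, then `w` generates. -/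
theorem adjoin_eq_top_of_injective (w : L)
    (h : Function.Injective (fun σ : L →ₐ[K] AlgebraicClosure K => σ w)) :
    Algebra.adjoin K ({w} : Set L) = ⊤ := by
  set W : Subalgebra K L := Algebra.adjoin K ({w} : Set L) with hW
  have hwW : w ∈ W := Algebra.subset_adjoin (Set.mem_singleton w)
  let r : (L →ₐ[K] AlgebraicClosure K) → (W →ₐ[K] AlgebraicClosure K) := fun σ => σ.comp W.val
  have hr : Function.Injective r := by
    intro σ σ' hσ
    apply h
    have := AlgHom.congr_fun hσ ⟨w, hwW⟩
    exact this
  have h1 := Nat.card_le_card_of_injective r hr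
  have h2 := card_algHom_le_finrank K W (AlgebraicClosure K)
  have h3 := finrank_le_card_algHom K L
  have h4 : Module.finrank K W ≤ Module.finrank K L :=
    Submodule.finrank_le (Subalgebra.toSubmodule W)
  have h5 : Module.finrank K W = Module.finrank K L := by omega
  exact Algebra.toSubmodule_eq_top.1 (Submodule.eq_top_of_finrank_eq (W.finrank_toSubmodule.trans h5))

theorem main (K L : Type u) [Field K] [CommRing L]
    [Algebra K L] [Module.Finite K L] [IsReduced L] [Algebra.IsSeparable K L] (z t : L)
    (hgen : Algebra.adjoin K ({z, t} : Set L) = ⊤) (S : Finset K)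
    (hS : Module.finrank K L ^ (4 * Module.finrank K L) ≤ S.card) :
    ∃ c ∈ S, Algebra.adjoin K ({c • z + t} : Set L) = ⊤ := by
  classical
  by_contra hcon
  push Not at hcon
  set d := Module.finrank K L with hd
  haveI : Fintype (L →ₐ[K] AlgebraicClosure K) := Fintype.ofFinite _
  -- every `c ∈ S` is bad: choose a colliding pair
  have hbad : ∀ c : {c // c ∈ S}, ∃ p : (L →ₐ[K] AlgebraicClosure K) × (L →ₐ[K] AlgebraicClosure K),
      p.1 ≠ p.2 ∧ p.1 (c.1 • z + t) = p.2 (c.1 • z + t) := by
    intro c
    have := hcon c.1 c.2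
    have hni : ¬ Function.Injective (fun σ : L →ₐ[K] AlgebraicClosure K => σ (c.1 • z + t)) :=
      fun hi => this (adjoin_eq_top_of_injective _ hi)
    rw [Function.Injective] at hni
    push Not at hni
    obtain ⟨σ, σ', he, hne⟩ := hni
    exact ⟨(σ, σ'), hne, he⟩
  choose g hg1 hg2 using hbad
  have hginj : Function.Injective g := by
    intro c c' hcc
    by_contra hne
    have hne' : c.1 ≠ c'.1 := fun h => hne (Subtype.ext h)
    have e1 := hg2 c
    have e2 := hg2 c'
    rw [← hcc] at e2
    simp only [map_add, map_smul] at e1 e2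
    -- (c - c') • (σ z - σ' z) = 0
    have e3 : (c.1 - c'.1) • ((g c).1 z - (g c).2 z) = 0 := by
      have : c.1 • (g c).1 z - c'.1 • (g c).1 z = c.1 • (g c).2 z - c'.1 • (g c).2 z := by
        have a1 : c.1 • (g c).1 z = c.1 • (g c).2 z + (g c).2 t - (g c).1 t := by
          rw [← e1]; ring
        have a2 : c'.1 • (g c).1 z = c'.1 • (g c).2 z + (g c).2 t - (g c).1 t := by
          rw [← e2]; ring
        rw [a1, a2]; ring
      rw [sub_smul, smul_sub, smul_sub]
      linear_combination this
    have hz : (g c).1 z = (g c).2 z := by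
      rcases smul_eq_zero.mp e3 with h | h
      · exact absurd (sub_eq_zero.mp h) hne'
      · exact sub_eq_zero.mp h
    have ht : (g c).1 t = (g c).2 t := by
      rw [hz] at e1
      exact add_left_cancel e1
    apply hg1 c
    apply AlgHom.ext_of_adjoin_eq_top hgen
    intro x hx
    rcases hx with rfl | rfl
    · exact hz
    · exact ht
  -- counting
  have hcard : S.card ≤ (Finset.univ : Finset (L →ₐ[K] AlgebraicClosure K)).offDiag.card := by
    rw [← Finset.card_attach]
    refine Finset.card_le_card_of_injOn g ?_ (hginj.injOn)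
    intro c _
    rw [Finset.mem_coe, Finset.mem_offDiag]
    exact ⟨Finset.mem_univ _, Finset.mem_univ _, hg1 c⟩
  rw [Finset.offDiag_card, Finset.card_univ] at hcard
  have hH : Fintype.card (L →ₐ[K] AlgebraicClosure K) ≤ d := by
    rw [Fintype.card_eq_nat_card]
    exact card_algHom_le_finrank K L (AlgebraicClosure K)
  set h := Fintype.card (L →ₐ[K] AlgebraicClosure K) with hh
  have hlt : h * h - h < d ^ (4 * d) := by
    rcases Nat.eq_zero_or_pos h with h0 | hpos
    · rw [h0]
      rcases Nat.eq_zero_or_pos d with d0 | dpos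
      · rw [d0]; simp
      · simpa using Nat.pos_of_ne_zero (pow_ne_zero (4 * d) dpos.ne')
    · have hd1 : 1 ≤ d := le_trans hpos hH
      have : h * h ≤ d ^ (4 * d) := by
        calc h * h ≤ d * d := Nat.mul_le_mul hH hH
          _ = d ^ 2 := (sq d).symm
          _ ≤ d ^ (4 * d) := Nat.pow_le_pow_right hd1 (by omega)
      have : 0 < h * h := Nat.mul_pos hpos hpos
      omega
  omega

end Groth.Agent.Lib.Helper26.PrimElt
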