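import Mathlib
set_option maxHeartbeats 400000
open CategoryTheory PreGaloisCategory

namespace Groth.Agent.Lib.Helper26.ProfComp
universe u
variable (G : Type u) [Group G]

abbrev Gh : ProfiniteGrp.{u} := ProfiniteGrp.ProfiniteCompletion.completion (GrpCat.of G)

/-- projection to a finite quotient -/
def proj (U : FiniteIndexNormalSubgroup G) : Gh G →* G ⧸ U.toSubgroup where
  toFun x := x.val U
  map_one' := rfl
  map_mul' _ _ := rfl

lemma proj_etaFn (U : FiniteIndexNormalSubgroup G) (g : G) :
    proj G U (ProfiniteGrp.ProfiniteCompletion.etaFn (GrpCat.of G) g) = QuotientGroup.mk g := rfl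

lemma proj_compat {U V : FiniteIndexNormalSubgroup G} (h : U ≤ V) (x : Gh G) :
    QuotientGroup.map U.toSubgroup V.toSubgroup (MonoidHom.id G) h (proj G U x) = proj G V x :=
  x.property (homOfLE h)

lemma isOpen_ker_proj (U : FiniteIndexNormalSubgroup G) :
    IsOpen ((proj G U).ker : Set (Gh G)) := by
  have h1 : Continuous (fun x : Gh G => x.val U) :=
    (continuous_apply U).comp continuous_subtype_val
  haveI : DiscreteTopology ((ProfiniteGrp.ProfiniteCompletion.diagram (GrpCat.of G)).obj U) := ⟨rfl⟩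
  have h2 : IsOpen ({1} : Set ((ProfiniteGrp.ProfiniteCompletion.diagram (GrpCat.of G)).obj U)) :=
    isOpen_discrete _
  exact h2.preimage h1

lemma ext_proj {x y : Gh G} (h : ∀ U, proj G U x = proj G U y) : x = y :=
  ProfiniteGrp.limit_ext _ x y h

/-- The kernel of the action on a finite `G`-set. -/
def K (X : Action FintypeCat.{u} G) : FiniteIndexNormalSubgroup G :=
  haveI : (MulAction.toPermHom G X.V).ker.FiniteIndex := Subgroup.finiteIndex_ker _
  FiniteIndexNormalSubgroup.ofSubgroup (MulAction.toPermHom G X.V).ker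

lemma K_le (X : Action FintypeCat.{u} G) :
    (K G X).toSubgroup ≤ (MulAction.toPermHom G X.V).ker := le_of_eq rfl

lemma mem_K_iff (X : Action FintypeCat.{u} G) (g : G) :
    g ∈ (K G X).toSubgroup ↔ ∀ a : X.V, g • a = a := by
  change g ∈ (MulAction.toPermHom G X.V).ker ↔ _
  rw [MonoidHom.mem_ker, Equiv.ext_iff]
  rfl

/-- The action of the completion on a finite `G`-set, as a hom to the permutation group. -/
noncomputable def actHom (X : Action FintypeCat.{u} G) : Gh G →* Equiv.Perm X.V :=
  (QuotientGroup.lift (K G X).toSubgroup (MulAction.toPermHom G X.V) (K_le G X)).comp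
    (proj G (K G X))

noncomputable instance (X : Action FintypeCat.{u} G) : MulAction (Gh G) X.V :=
  MulAction.compHom X.V (actHom G X)

lemma smul_def (X : Action FintypeCat.{u} G) (x : Gh G) (a : X.V) : x • a = actHom G X x a := rfl

lemma smul_eq_of_proj_eq (X : Action FintypeCat.{u} G) (x : Gh G) (g : G)
    (U : FiniteIndexNormalSubgroup G) (hU : U ≤ K G X)
    (hg : proj G U x = QuotientGroup.mk g) (a : X.V) : x • a = g • a := by
  have h1 : proj G (K G X) x = QuotientGroup.mk g := by
    rw [← proj_compat G hU x, hg]; rfl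
  rw [smul_def, actHom, MonoidHom.comp_apply, h1]
  rfl

lemma etaFn_smul (X : Action FintypeCat.{u} G) (g : G) (a : X.V) :
    ProfiniteGrp.ProfiniteCompletion.etaFn (GrpCat.of G) g • a = g • a :=
  smul_eq_of_proj_eq G X _ g (K G X) le_rfl rfl a

lemma exists_rep (x : Gh G) (U : FiniteIndexNormalSubgroup G) :
    ∃ g : G, proj G U x = QuotientGroup.mk g :=
  ⟨_, (Quotient.out_eq' (proj G U x)).symm⟩

noncomputable instance instFib (X : Action FintypeCat.{u} G) :
    MulAction (Gh G) ((Action.forget FintypeCat.{u} G).obj X) :=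
  inferInstanceAs (MulAction (Gh G) X.V)

lemma naturality (x : Gh G) {X Y : Action FintypeCat.{u} G} (f : X ⟶ Y) (a : X.V) :
    f.hom (x • a) = x • f.hom a := by
  obtain ⟨g, hg⟩ := exists_rep G x (K G X ⊓ K G Y)
  rw [smul_eq_of_proj_eq G X x g _ inf_le_left hg, smul_eq_of_proj_eq G Y x g _ inf_le_right hg]
  exact congrFun (congrArg (fun k => (ConcreteCategory.hom k : X.V → Y.V)) (f.comm g)) a

lemma isOpen_stabilizer (X : Action FintypeCat.{u} G) (a : X.V) :
    IsOpen (MulAction.stabilizer (Gh G) a : Set (Gh G)) := by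
  refine Subgroup.isOpen_mono (H₁ := (proj G (K G X)).ker) ?_ (isOpen_ker_proj G (K G X))
  intro x hx
  rw [MonoidHom.mem_ker] at hx
  rw [MulAction.mem_stabilizer_iff, smul_eq_of_proj_eq G X x 1 (K G X) le_rfl (hx.trans rfl), one_smul]

lemma eq_one_of_smul (x : Gh G) (h : ∀ (X : Action FintypeCat.{u} G) (a : X.V), x • a = a) : x = 1 := by
  apply ext_proj
  intro U
  -- consider the finite `G`-set `G ⧸ U`
  haveI : Fintype (G ⧸ U.toSubgroup) := Fintype.ofFinite _
  let X : Action FintypeCat.{u} G := G ⧸ₐ U.toSubgroup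
  obtain ⟨g, hg⟩ := exists_rep G x (K G X ⊓ U)
  let a : X.V := (QuotientGroup.mk 1 : G ⧸ U.toSubgroup)
  have h1 : x • a = g • a := smul_eq_of_proj_eq G X x g _ inf_le_left hg a
  rw [h X] at h1
  have h2 : proj G U x = QuotientGroup.mk g := by
    rw [← proj_compat G inf_le_right x, hg]; rfl
  rw [map_one, h2]
  have h3 : g • a = (QuotientGroup.mk g : G ⧸ U.toSubgroup) := by
    change (QuotientGroup.mk (g * 1) : G ⧸ U.toSubgroup) = _
    rw [mul_one]
  rw [h3] at h1
  exact h1.symm

instance instFund : IsFundamentalGroup (Action.forget FintypeCat.{u} G) (Gh G) where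
  naturality x {X Y} f a := naturality G x f a
  transitive_of_isGalois X _ := by
    haveI : MulAction.IsPretransitive G X.V := FintypeCat.Action.pretransitive_of_isConnected G X
    refine ⟨fun a b => ?_⟩
    let a' : X.V := a
    let b' : X.V := b
    obtain ⟨g, hg⟩ := MulAction.exists_smul_eq G a' b'
    exact ⟨ProfiniteGrp.ProfiniteCompletion.etaFn (GrpCat.of G) g, (etaFn_smul G X g a').trans hg⟩
  continuous_smul X := by
    refine continuousSMul_iff_stabilizer_isOpen.mpr (fun a => isOpen_stabilizer G X a)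
  non_trivial' x h := eq_one_of_smul G x h

theorem main : ∃ φ : (ProfiniteGrp.ProfiniteCompletion.completion (GrpCat.of G)) ≃ₜ* Aut (Action.forget FintypeCat.{u} G),
      ∀ (g : G) (X : Action FintypeCat.{u} G) (x : X.V),
        (φ (ProfiniteGrp.ProfiniteCompletion.etaFn (GrpCat.of G) g)).hom.app X x = (X.ρ g).hom x := by
  let e : Gh G ≃* Aut (Action.forget FintypeCat.{u} G) :=
    toAutMulEquiv (Action.forget FintypeCat.{u} G) (Gh G)
  have he : IsHomeomorph e := toAutMulEquiv_isHomeomorph (Action.forget FintypeCat.{u} G) (Gh G)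
  refine ⟨{ e with
    continuous_toFun := he.continuous
    continuous_invFun := ?_ }, ?_⟩
  · exact (e.toEquiv.continuous_symm_iff).mpr he.isOpenMap
  · intro g X x
    exact (toAut_hom_app_apply (F := Action.forget FintypeCat.{u} G) (G := Gh G)
      (ProfiniteGrp.ProfiniteCompletion.etaFn (GrpCat.of G) g) (X := X) x).trans (etaFn_smul G X g x)

end Groth.Agent.Lib.Helper26.ProfComp
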