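import Mathlib
set_option maxHeartbeats 400000
namespace Groth.Agent.Lib.Helper26.ProfCompMem
open CategoryTheory ProfiniteGrp

universe u

/-- f.g. commutative groups are residually finite. -/
lemma exists_finiteIndex_notMem (Q : Type u) [CommGroup Q] [Group.FG Q] (g : Q) (hg : g ≠ 1) :
    ∃ (H : Subgroup Q), H.FiniteIndex ∧ g ∉ H := by
  obtain ⟨ι, j, _, _, p, hp, e, ⟨φ⟩⟩ := CommGroup.equiv_free_prod_prod_multiplicative_zmod Q
  have hφg : φ g ≠ 1 := fun h => hg (by simpa using congrArg φ.symm h)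
  by_cases h2 : (φ g).2 = 1
  · have h1 : (φ g).1 ≠ 1 := fun h => hφg (Prod.ext h h2)
    obtain ⟨i, hi⟩ : ∃ i, (φ g).1 i ≠ 1 := by
      by_contra hall
      push Not at hall
      exact h1 (funext hall)
    obtain ⟨c, hc⟩ : ∃ c : ℤ, c = Multiplicative.toAdd ((φ g).1 i) := ⟨_, rfl⟩
    have hc0 : c ≠ 0 := by
      intro h0
      apply hi
      rw [h0] at hc
      exact (Multiplicative.toAdd.injective (hc.symm.trans rfl))
    let N : ℕ := c.natAbs + 1
    haveI : NeZero N := ⟨Nat.succ_ne_zero _⟩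
    let f : Q →* Multiplicative (ZMod N) :=
      (AddMonoidHom.toMultiplicative (Int.castAddHom (ZMod N))).comp
        ((Pi.evalMonoidHom _ i).comp ((MonoidHom.fst _ _).comp φ.toMonoidHom))
    refine ⟨f.ker, Subgroup.finiteIndex_ker f, ?_⟩
    rw [MonoidHom.mem_ker]
    have hfg : f g = Multiplicative.ofAdd ((c : ℤ) : ZMod N) := by
      rw [hc]; rfl
    rw [hfg]
    intro h
    have h3 : ((c : ℤ) : ZMod N) = 0 := Multiplicative.ofAdd.injective h
    rw [ZMod.intCast_zmod_eq_zero_iff_dvd] at h3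
    have h4 : (N : ℤ) ≤ |c| := Int.le_of_dvd (abs_pos.mpr hc0) ((dvd_abs _ _).mpr h3)
    have h5 : |c| = (c.natAbs : ℤ) := Int.abs_eq_natAbs c
    simp only [N] at h4
    omega
  · haveI : ∀ i, NeZero (p i ^ e i) := fun i => ⟨pow_ne_zero _ (hp i).ne_zero⟩
    let f : Q →* (Π i, Multiplicative (ZMod (p i ^ e i))) :=
      (MonoidHom.snd _ _).comp φ.toMonoidHom
    refine ⟨f.ker, Subgroup.finiteIndex_ker f, ?_⟩
    rw [MonoidHom.mem_ker]
    exact h2


lemma map_etaFn {G G' : GrpCat.{u}} (f : G ⟶ G') (a : G) :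
    (profiniteCompletion.map f).hom (ProfiniteCompletion.etaFn G a)
      = ProfiniteCompletion.etaFn G' (f.hom a) := by
  have h := ProfiniteCompletion.lift_eta (f ≫ ProfiniteCompletion.eta G')
  have h2 := ConcreteCategory.congr_hom h a
  exact h2

theorem main (A' : Type u) [CommGroup A'] [Group.FG A']
    (A : Subgroup A') (x : A')
    (hx : ProfiniteGrp.ProfiniteCompletion.etaFn (GrpCat.of A') x ∈
      Set.range ⇑(ProfiniteGrp.profiniteCompletion.map (GrpCat.ofHom A.subtype)).hom) :
    x ∈ A := by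
  by_contra hxA
  have hne : (QuotientGroup.mk x : A' ⧸ A) ≠ 1 := by
    rwa [Ne, QuotientGroup.eq_one_iff]
  obtain ⟨H, hHfin, hH⟩ := exists_finiteIndex_notMem (A' ⧸ A) _ hne
  obtain ⟨H', hH'⟩ : ∃ H' : Subgroup A', H' = H.comap (QuotientGroup.mk' A) := ⟨_, rfl⟩
  have hH'fin : H'.FiniteIndex := by
    refine ⟨?_⟩
    rw [hH', Subgroup.index_comap_of_surjective _ (QuotientGroup.mk'_surjective A)]
    exact hHfin.index_ne_zero
  have hAH' : A ≤ H' := by
    intro a ha
    rw [hH', Subgroup.mem_comap]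
    have : (QuotientGroup.mk' A) a = 1 := (QuotientGroup.eq_one_iff a).mpr ha
    rw [this]
    exact H.one_mem
  have hxH' : x ∉ H' := by
    rw [hH', Subgroup.mem_comap]
    exact hH
  have : H'.Normal := Subgroup.normal_of_isMulCommutative H'
  let K : FiniteIndexNormalSubgroup (GrpCat.of A') := FiniteIndexNormalSubgroup.ofSubgroup H'
  obtain ⟨z, hz⟩ := hx
  let π : ProfiniteCompletion.completion (GrpCat.of A') →
      ((ProfiniteCompletion.diagram (GrpCat.of A')).obj K) := fun w => w.val K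
  have hπc : Continuous π := (continuous_apply K).comp continuous_subtype_val
  have hm : Continuous (profiniteCompletion.map (GrpCat.ofHom A.subtype)).hom :=
    (profiniteCompletion.map (GrpCat.ofHom A.subtype)).hom.continuous_toFun
  have hagree : (π ∘ (profiniteCompletion.map (GrpCat.ofHom A.subtype)).hom) = fun _ => 1 := by
    refine (ProfiniteCompletion.denseRange (G := GrpCat.of A)).equalizer (hπc.comp hm)
      continuous_const ?_
    funext a
    change π ((profiniteCompletion.map (GrpCat.ofHom A.subtype)).hom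
      (ProfiniteCompletion.etaFn (GrpCat.of A) a)) = 1
    rw [map_etaFn]
    change (QuotientGroup.mk (a : A') : A' ⧸ H') = 1
    exact (QuotientGroup.eq_one_iff _).mpr (hAH' a.2)
  have h1 : π ((profiniteCompletion.map (GrpCat.ofHom A.subtype)).hom z) = 1 :=
    congrFun hagree z
  rw [hz] at h1
  have h2 : (QuotientGroup.mk x : A' ⧸ H') = 1 := h1
  exact hxH' ((QuotientGroup.eq_one_iff x).mp h2)

end Groth.Agent.Lib.Helper26.ProfCompMem
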