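import Mathlib

set_option maxHeartbeats 400000
set_option autoImplicit false

namespace Groth.Agent.Lib.Helper26.PsdIdem

open Matrix

variable {ι : Type} [Fintype ι]

/-- the quadratic form of an integer matrix -/
def q (P : Matrix ι ι ℤ) (v : ι → ℤ) : ℤ := v ⬝ᵥ P.mulVec v

theorem q_conj (P B : Matrix ι ι ℤ) (v : ι → ℤ) :
    q P (B.mulVec v) = q (Bᵀ * P * B) v := by
  unfold q
  rw [← Matrix.mulVec_mulVec, ← Matrix.mulVec_mulVec, Matrix.dotProduct_mulVec v Bᵀ,
    Matrix.vecMul_transpose]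

theorem q_add (P P' : Matrix ι ι ℤ) (v : ι → ℤ) : q (P + P') v = q P v + q P' v := by
  unfold q; rw [Matrix.add_mulVec, dotProduct_add]

theorem q_sub (P P' : Matrix ι ι ℤ) (v : ι → ℤ) : q (P - P') v = q P v - q P' v := by
  unfold q; rw [Matrix.sub_mulVec, dotProduct_sub]

theorem q_smul (c : ℤ) (P : Matrix ι ι ℤ) (v : ι → ℤ) : q (c • P) v = c * q P v := by
  unfold q; rw [Matrix.smul_mulVec, dotProduct_smul, smul_eq_mul]

theorem main [DecidableEq ι] (M N χ₁ χ₂ : Matrix ι ι ℤ) (hM : M.IsSymm) (hN : N.IsSymm)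
    (hMpos : ∀ v : ι → ℤ, 0 ≤ v ⬝ᵥ M.mulVec v) (hNpos : ∀ v : ι → ℤ, 0 ≤ v ⬝ᵥ N.mulVec v)
    (hpos : ∀ v : ι → ℤ, v ≠ 0 → 0 < v ⬝ᵥ (M + N).mulVec v)
    (hsum : χ₁ + χ₂ = 1) (hrel : M * χ₂ = N * χ₁) :
    χ₁ * χ₁ = χ₁ ∧ χ₂ * χ₂ = χ₂ := by
  obtain rfl : χ₂ = 1 - χ₁ := eq_sub_of_add_eq' hsum
  set χ := χ₁ with hχ
  set S := M + N with hS
  have hSχ : S * χ = M := by
    have : M * (1 - χ) = N * χ := hrel
    rw [hS, add_mul, ← this]; noncomm_ring
  have hSχ₂ : S * (1 - χ) = N := by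
    rw [mul_sub, mul_one, hSχ, hS]; abel
  have hadj : χᵀ * S = S * χ := by
    have h1 : Sᵀ = S := by rw [hS, transpose_add, hM.eq, hN.eq]
    have h2 : (S * χ)ᵀ = S * χ := by rw [hSχ]; exact hM.eq
    rw [transpose_mul, h1] at h2
    exact h2
  -- notation
  set T := χ * (1 - χ) with hT
  set R := χ - (1 - χ) with hR
  have hRadj : Rᵀ * S = S * R := by
    rw [hR, transpose_sub, transpose_sub, transpose_one, sub_mul, sub_mul, one_mul, hadj]
    noncomm_ring
  have hTadj : Tᵀ * S = S * T := by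
    rw [hT, transpose_mul, transpose_sub, transpose_one, Matrix.mul_assoc, hadj, sub_mul, one_mul,
      ← Matrix.mul_assoc, hadj]
    noncomm_ring
  have hRT : R * T = T * R := by rw [hR, hT]; noncomm_ring
  have hRR : R * R = 1 - (4 : ℤ) • T := by rw [hR, hT]; noncomm_ring
  -- the four matrix identities
  have idA : S * T = χᵀ * N * χ + (1 - χ)ᵀ * M * (1 - χ) := by
    rw [← hSχ, ← hSχ₂, transpose_sub, transpose_one, hT]; noncomm_ring
  have idB : Rᵀ * S * R = S - (4 : ℤ) • (S * T) := by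
    rw [hRadj, Matrix.mul_assoc, hRR]; noncomm_ring
  have idC : Rᵀ * (S * T) * R = S * T - (4 : ℤ) • (S * T * T) := by
    rw [← Matrix.mul_assoc, hRadj, Matrix.mul_assoc, Matrix.mul_assoc, ← Matrix.mul_assoc R T R,
      hRT, Matrix.mul_assoc T R R, hRR]
    noncomm_ring
  have idD : Tᵀ * S * T = S * T * T := by rw [hTadj]
  -- nonnegativity
  have hSnn : ∀ v, 0 ≤ q S v := fun v => by
    rw [hS, q_add]; exact add_nonneg (hMpos v) (hNpos v)
  have hSTnn : ∀ v, 0 ≤ q (S * T) v := fun v => by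
    rw [idA, q_add, ← q_conj, ← q_conj]
    exact add_nonneg (hNpos _) (hMpos _)
  have hB : ∀ v, 4 * q (S * T) v ≤ q S v := fun v => by
    have h := hSnn (R.mulVec v)
    rw [q_conj, idB, q_sub, q_smul] at h
    linarith
  have hC : ∀ v, 4 * q (S * T * T) v ≤ q (S * T) v := fun v => by
    have h := hSTnn (R.mulVec v)
    rw [q_conj, idC, q_sub, q_smul] at h
    linarith
  have hD : ∀ v, q S (T.mulVec v) = q (S * T * T) v := fun v => by
    rw [q_conj, idD]
  have hkey : ∀ v, 16 * q S (T.mulVec v) ≤ q S v := fun v => by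
    rw [hD]; have := hB v; have := hC v; linarith
  -- descent
  have hdesc : ∀ n : ℕ, ∀ v : ι → ℤ, q S v ≤ n → T.mulVec v = 0 := by
    intro n
    induction n using Nat.strong_induction_on with
    | _ n ih =>
      intro v hv
      by_cases hv0 : v = 0
      · rw [hv0, Matrix.mulVec_zero]
      have hvpos : 0 < q S v := hpos v hv0
      have hw := hkey v
      have hwnn := hSnn (T.mulVec v)
      have hn : 0 < n := by exact_mod_cast lt_of_lt_of_le hvpos hv
      have hTw : T.mulVec (T.mulVec v) = 0 := by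
        apply ih (n - 1) (by omega)
        have : ((n - 1 : ℕ) : ℤ) = (n : ℤ) - 1 := by
          rw [Nat.cast_sub (by omega)]; simp
        rw [this]
        linarith
      have hq0 : q S (T.mulVec v) = 0 := by
        rw [hD]
        unfold q
        rw [← Matrix.mulVec_mulVec, ← Matrix.mulVec_mulVec, hTw, Matrix.mulVec_zero,
          dotProduct_zero]
      by_contra hne
      have := hpos _ hne
      unfold q at hq0
      omega
  have hT0 : T = 0 := by
    apply Matrix.ext_iff_mulVec.mpr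
    intro v
    rw [Matrix.zero_mulVec]
    exact hdesc (q S v).toNat v (by
      rw [Int.toNat_of_nonneg (hSnn v)])
  constructor
  · have : χ * χ = χ - T := by rw [hT]; noncomm_ring
    rw [this, hT0, sub_zero]
  · have : (1 - χ) * (1 - χ) = (1 - χ) - T := by rw [hT]; noncomm_ring
    rw [this, hT0, sub_zero]

end Groth.Agent.Lib.Helper26.PsdIdem
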