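import Mathlib.LinearAlgebra.TensorProduct.Pi
import Mathlib.LinearAlgebra.TensorProduct.RightExactness
import Mathlib.LinearAlgebra.Matrix.ToLin

/-!
Tensoring with finite free modules, in coordinates.
-/

set_option autoImplicit false
universe u

namespace Groth.Agent.Lib.Helper26.PureEq

open TensorProduct

variable {R : Type u} [CommRing R]

/-- coordinates on `M ⊗ Rⁿ` -/
noncomputable abbrev co (M : Type u) [AddCommGroup M] [Module R M] (n : ℕ) :
    M ⊗[R] (Fin n → R) ≃ₗ[R] (Fin n → M) :=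
  TensorProduct.piScalarRight R R M (Fin n)

lemma co_symm_eq_sum (M : Type u) [AddCommGroup M] [Module R M] (n : ℕ) (z : Fin n → M) :
    (co M n).symm z = ∑ j, z j ⊗ₜ[R] (Pi.single j (1 : R) : Fin n → R) := by
  conv_lhs => rw [← Finset.univ_sum_single z]
  rw [map_sum]
  refine Finset.sum_congr rfl fun j _ => ?_
  exact TensorProduct.piScalarRight_symm_single R R M (Fin n) (z j) j

/-- Lemma A -/
lemma co_lTensor (M : Type u) [AddCommGroup M] [Module R M] {m n : ℕ}
    (g : (Fin m → R) →ₗ[R] (Fin n → R)) (z : Fin m → M) (i : Fin n) :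
    co M n ((g.lTensor M) ((co M m).symm z)) i = ∑ j, g (Pi.single j 1) i • z j := by
  rw [co_symm_eq_sum, map_sum, map_sum, Finset.sum_apply]
  refine Finset.sum_congr rfl fun j _ => ?_
  rw [LinearMap.lTensor_tmul]
  show TensorProduct.piScalarRightHom R R M (Fin n) (z j ⊗ₜ[R] g (Pi.single j 1)) i = _
  rw [TensorProduct.piScalarRightHom_tmul]

/-- Lemma B -/
lemma co_rTensor {M₁ M₂ : Type u} [AddCommGroup M₁] [Module R M₁] [AddCommGroup M₂] [Module R M₂]
    (f : M₁ →ₗ[R] M₂) (n : ℕ) (t : M₁ ⊗[R] (Fin n → R)) (i : Fin n) :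
    co M₂ n ((f.rTensor (Fin n → R)) t) i = f (co M₁ n t i) := by
  induction t using TensorProduct.induction_on with
  | zero => simp
  | tmul x c =>
    rw [LinearMap.rTensor_tmul]
    show TensorProduct.piScalarRightHom R R M₂ (Fin n) (f x ⊗ₜ[R] c) i
      = f (TensorProduct.piScalarRightHom R R M₁ (Fin n) (x ⊗ₜ[R] c) i)
    rw [TensorProduct.piScalarRightHom_tmul, TensorProduct.piScalarRightHom_tmul, map_smul]
  | add t t' ht ht' =>
    rw [map_add, map_add, Pi.add_apply, ht, ht', map_add, Pi.add_apply, map_add]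

end Groth.Agent.Lib.Helper26.PureEq
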