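import Mathlib
import Groth.Prelude.Def_QFDual
set_option maxHeartbeats 400000
universe u
namespace Groth.Agent.Lib.Helper26.QFDTrace
open TensorProduct

theorem trace_eq_sum_of_dualSystem {K L : Type*} [CommRing K] [AddCommGroup L] [Module K L]
    [Module.Free K L] [Module.Finite K L] {n : ℕ} (ε : Fin n → L) (ψ : Fin n → (L →ₗ[K] K))
    (hid : ∀ y, y = ∑ i, ψ i y • ε i) (T : L →ₗ[K] L) :
    LinearMap.trace K L T = ∑ i, ψ i (T (ε i)) := by
  have hT : T = dualTensorHom K L L (∑ i, ψ i ⊗ₜ[K] T (ε i)) := by
    ext y
    rw [map_sum, LinearMap.sum_apply]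
    simp only [dualTensorHom_apply]
    conv_lhs => rw [hid y, map_sum]
    refine Finset.sum_congr rfl fun i _ => ?_
    rw [map_smul]
  conv_lhs => rw [hT]
  rw [LinearMap.trace_eq_contract_apply, map_sum]
  simp only [contractLeft_apply]

theorem main (A K B L : Type u) [CommRing A] [CommRing K] [CommRing B] [CommRing L] [Algebra A K]
    [Algebra A B] [Algebra B L] [Algebra K L] [Algebra A L] [IsScalarTower A K L] [IsScalarTower A B L]
    (h : QFDual.IsDedekindDefined A K B L) [Module.Flat A B] :
    (1 : L) ∈ QFDual.complementary A K B L := by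
  intro b
  rw [one_mul]
  haveI := h.isFractionRing
  haveI := h.isLocalization
  haveI := h.isNoetherianRing
  haveI := h.finite
  haveI := h.free
  haveI := h.finiteKL
  haveI : Module.FinitePresentation A B := Module.finitePresentation_of_finite A B
  haveI : Module.Projective A B := Module.Flat.projective_of_finitePresentation
  obtain ⟨n, f, g, -, -, hfg⟩ := Module.Finite.exists_comp_eq_id_of_projective A B
  classical
  let ιB : B →ₗ[A] L := (IsScalarTower.toAlgHom A B L).toLinearMap
  let ιA : A →ₗ[A] K := Algebra.linearMap A K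
  haveI hB : IsLocalizedModule (nonZeroDivisors A) ιB :=
    isLocalizedModule_iff_isLocalization.mpr inferInstance
  haveI hA : IsLocalizedModule (nonZeroDivisors A) ιA :=
    (isLocalizedModule_iff_isLocalization' (nonZeroDivisors A) K).mpr inferInstance
  let e : Fin n → B := fun i => f (fun j => if i = j then 1 else 0)
  let φ : Fin n → (B →ₗ[A] A) := fun i => LinearMap.proj i ∘ₗ g
  have hφe : ∀ b' : B, b' = ∑ i, φ i b' • e i := by
    intro b'
    have h1 : f (g b') = b' := LinearMap.congr_fun hfg b'
    rw [LinearMap.pi_apply_eq_sum_univ f (g b')] at h1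
    exact h1.symm
  let ψA : Fin n → (L →ₗ[A] K) := fun i => IsLocalizedModule.map (nonZeroDivisors A) ιB ιA (φ i)
  have hψA : ∀ i b', ψA i (ιB b') = algebraMap A K (φ i b') := by
    intro i b'
    exact IsLocalizedModule.map_apply (nonZeroDivisors A) ιB ιA (φ i) b'
  let ψ : Fin n → (L →ₗ[K] K) := fun i =>
    (ψA i).extendScalarsOfIsLocalization (nonZeroDivisors A) K
  have hψ : ∀ i y, ψ i y = ψA i y := fun i y => rfl
  let ε : Fin n → L := fun i => ιB (e i)
  have hid : ∀ y : L, y = ∑ i, ψ i y • ε i := by
    have key : (LinearMap.id : L →ₗ[A] L) = ∑ i, (ψA i).smulRight (ε i) := by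
      refine IsLocalizedModule.ext (nonZeroDivisors A) ιB (IsLocalizedModule.map_units ιB) ?_
      ext b'
      simp only [LinearMap.comp_apply, LinearMap.id_apply, LinearMap.sum_apply,
        LinearMap.smulRight_apply]
      conv_lhs => rw [hφe b', map_sum]
      refine Finset.sum_congr rfl fun i _ => ?_
      rw [hψA, algebraMap_smul, map_smul]
    intro y
    have := LinearMap.congr_fun key y
    simp only [LinearMap.id_apply, LinearMap.sum_apply, LinearMap.smulRight_apply] at this
    exact this
  have htr := trace_eq_sum_of_dualSystem ε ψ hid (LinearMap.mulLeft K (algebraMap B L b))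
  rw [Algebra.trace_apply]
  have hlm : Algebra.lmul K L (algebraMap B L b) = LinearMap.mulLeft K (algebraMap B L b) := rfl
  rw [hlm, htr]
  refine ⟨∑ i, φ i (b * e i), ?_⟩
  rw [map_sum]
  refine Finset.sum_congr rfl fun i _ => ?_
  rw [LinearMap.mulLeft_apply, hψ, ← hψA]
  congr 1
  change _ = algebraMap B L b * algebraMap B L (e i)
  rw [← map_mul]
  rfl

end Groth.Agent.Lib.Helper26.QFDTrace
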