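import Mathlib
set_option maxHeartbeats 400000
set_option linter.style.haveILetI false
namespace Groth.Agent.Lib.Helper26.QFMin
open TensorProduct Polynomial

universe u
variable {R S : Type u} [CommRing R] [CommRing S] [Algebra R S]

/-- fibre finite -/
lemma fiber_finite [Algebra.FiniteType R S] (p : Ideal R) [p.IsPrime]
    (hfin : (p.primesOver S).Finite) :
    Module.Finite p.ResidueField (p.Fiber S) := by
  rw [Module.finite_iff_isArtinianRing, isArtinianRing_iff_isNoetherianRing_krullDimLE_zero]
  have : IsJacobsonRing (p.Fiber S) := isJacobsonRing_of_finiteType (A := p.ResidueField)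
  have : Finite (PrimeSpectrum (p.Fiber S)) :=
    (PrimeSpectrum.primesOverOrderIsoFiber R S p).toEquiv.finite_iff.mp hfin
  exact ⟨Algebra.FiniteType.isNoetherianRing p.ResidueField _,
    (PrimeSpectrum.discreteTopology_iff_finite_and_krullDimLE_zero.mp inferInstance).right⟩

/-- elements of a minimal prime are nilpotent up to a multiple outside `p` -/
lemma exists_nilp (p : Ideal R) (hp : p ∈ minimalPrimes R) {x : R} (hx : x ∈ p) :
    ∃ h ∉ p, IsNilpotent (h * x) := by
  haveI : p.IsPrime := hp.1.1
  have h1 := IsLocalization.AtPrime.radical_map_of_mem_minimalPrimes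
    (A := Localization.AtPrime p) p ⊥ hp
  have h2 : algebraMap R (Localization.AtPrime p) x ∈
      ((⊥ : Ideal R).map (algebraMap R (Localization.AtPrime p))).radical := by
    rw [h1]; exact Ideal.mem_map_of_mem _ hx
  rw [Ideal.map_bot] at h2
  obtain ⟨n, hn⟩ := h2
  rw [Ideal.mem_bot, ← map_pow, IsLocalization.map_eq_zero_iff p.primeCompl] at hn
  obtain ⟨m, hm⟩ := hn
  refine ⟨m.1, m.2, n + 1, ?_⟩
  have : (m.1 * x) ^ (n + 1) = m.1 ^ n * x * (m.1 * x ^ n) := by ring
  rw [this, hm, mul_zero]


lemma exists_mul_mem_of_tmul_eq_zero (p : Ideal R) [p.IsPrime] (t : S)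
    (ht : (1 : p.ResidueField) ⊗ₜ[R] t = 0) :
    ∃ h ∉ p, algebraMap R S h * t ∈ p.map (algebraMap R S) := by
  letI : Algebra S (p.Fiber S) := Algebra.TensorProduct.rightAlgebra
  let e := Ideal.Fiber.algEquivAux₁ (S := S) p
  have h1 : e ((1 : p.ResidueField) ⊗ₜ[R] t) = 0 := by rw [ht, map_zero]
  have h2 : (1 : p.ResidueField) ⊗ₜ[R] t = algebraMap S (p.Fiber S) t := rfl
  rw [h2, AlgEquiv.commutes, IsScalarTower.algebraMap_apply S
    (Localization (Algebra.algebraMapSubmonoid S p.primeCompl)), Ideal.Quotient.algebraMap_eq,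
    Ideal.Quotient.eq_zero_iff_mem,
    IsLocalization.mem_map_algebraMap_iff (Algebra.algebraMapSubmonoid S p.primeCompl)] at h1
  obtain ⟨⟨a, m⟩, ha⟩ := h1
  rw [← map_mul, IsLocalization.eq_iff_exists (Algebra.algebraMapSubmonoid S p.primeCompl)] at ha
  obtain ⟨c, hc⟩ := ha
  obtain ⟨m', hm', hm'e⟩ := m.2
  obtain ⟨c', hc', hc'e⟩ := c.2
  refine ⟨c' * m', p.primeCompl.mul_mem hc' hm', ?_⟩
  have : algebraMap R S (c' * m') * t = c.1 * (t * m.1) := by
    rw [map_mul, hm'e, hc'e]; ring
  rw [this, hc]
  exact Ideal.mul_mem_left _ _ a.2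


lemma exists_nilp_map (p : Ideal R) (hp : p ∈ minimalPrimes R) {a : S}
    (ha : a ∈ p.map (algebraMap R S)) :
    ∃ h ∉ p, IsNilpotent (algebraMap R S h * a) := by
  haveI : p.IsPrime := hp.1.1
  let J : Ideal S :=
    { carrier := {a | ∃ h ∉ p, IsNilpotent (algebraMap R S h * a)}
      zero_mem' := ⟨1, (Ideal.ne_top_iff_one p).mp ‹p.IsPrime›.ne_top, by simp⟩
      add_mem' := by
        rintro a b ⟨h1, hh1, ha⟩ ⟨h2, hh2, hb⟩
        refine ⟨h1 * h2, ‹p.IsPrime›.mul_notMem hh1 hh2, ?_⟩
        have : algebraMap R S (h1 * h2) * (a + b) =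
            algebraMap R S h2 * (algebraMap R S h1 * a) +
              algebraMap R S h1 * (algebraMap R S h2 * b) := by
          rw [map_mul]; ring
        rw [this]
        exact Commute.isNilpotent_add (Commute.all _ _)
          ((Commute.all _ _).isNilpotent_mul_left ha) ((Commute.all _ _).isNilpotent_mul_left hb)
      smul_mem' := by
        rintro c a ⟨h1, hh1, ha⟩
        refine ⟨h1, hh1, ?_⟩
        have : algebraMap R S h1 * (c • a) = c * (algebraMap R S h1 * a) := by
          rw [smul_eq_mul]; ring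
        rw [this]
        exact (Commute.all _ _).isNilpotent_mul_left ha }
  have hJ : p.map (algebraMap R S) ≤ J := by
    rw [Ideal.map_le_iff_le_comap]
    intro x hx
    obtain ⟨h, hh, hn⟩ := exists_nilp p hp hx
    refine ⟨h, hh, ?_⟩
    rw [← map_mul]
    exact hn.map _
  exact hJ ha


/-- integral over `R` in the fibre, up to a multiple -/
lemma exists_isIntegral_fiber [Algebra.FiniteType R S] (p : Ideal R) [p.IsPrime]
    (hfin : (p.primesOver S).Finite) (s : S) :
    ∃ g ∉ p, IsIntegral R ((1 : p.ResidueField) ⊗ₜ[R] (g • s)) := by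
  haveI := fiber_finite p hfin
  have hx : IsIntegral p.ResidueField ((1 : p.ResidueField) ⊗ₜ[R] s : p.Fiber S) :=
    Algebra.IsIntegral.isIntegral _
  obtain ⟨m, hm⟩ := IsIntegral.exists_multiple_integral_of_isLocalization
    (nonZeroDivisors (R ⧸ p)) _ hx
  obtain ⟨g, hg⟩ := Ideal.Quotient.mk_surjective m.1
  have hgp : g ∉ p := by
    intro hgp
    have : m.1 = 0 := by rw [← hg]; exact Ideal.Quotient.eq_zero_iff_mem.mpr hgp
    exact nonZeroDivisors.ne_zero m.2 this
  refine ⟨g, hgp, ?_⟩
  haveI : Algebra.IsIntegral R (R ⧸ p) :=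
    Algebra.isIntegral_of_surjective Ideal.Quotient.mk_surjective
  have h3 : IsIntegral R (m • ((1 : p.ResidueField) ⊗ₜ[R] s : p.Fiber S)) :=
    isIntegral_trans (A := R ⧸ p) _ hm
  have h4 : m • ((1 : p.ResidueField) ⊗ₜ[R] s : p.Fiber S) = (1 : p.ResidueField) ⊗ₜ[R] (g • s) := by
    rw [Submonoid.smul_def, ← hg, ← Ideal.Quotient.algebraMap_eq, algebraMap_smul,
      TensorProduct.tmul_smul]
  rwa [h4] at h3

lemma exists_isIntegral_smul [Algebra.FiniteType R S] (p : Ideal R) (hp : p ∈ minimalPrimes R)
    (hfin : (p.primesOver S).Finite) (s : S) :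
    ∃ g ∉ p, IsIntegral R (g • s) := by
  haveI : p.IsPrime := hp.1.1
  obtain ⟨g, hg, G, hGm, hG⟩ := exists_isIntegral_fiber p hfin s
  have h1 : (1 : p.ResidueField) ⊗ₜ[R] (aeval (g • s) G) = 0 := by
    have := Polynomial.aeval_algHom_apply
      (Algebra.TensorProduct.includeRight : S →ₐ[R] p.ResidueField ⊗[R] S) (g • s) G
    rw [Algebra.TensorProduct.includeRight_apply, Algebra.TensorProduct.includeRight_apply] at this
    rw [← this]
    exact hG
  obtain ⟨h1', hh1, h1m⟩ := exists_mul_mem_of_tmul_eq_zero p _ h1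
  obtain ⟨h2', hh2, N, hN⟩ := exists_nilp_map p hp h1m
  -- (h2' h1' G(gs))^N = 0
  let Q : R[X] := C ((h2' * h1') ^ N) * G ^ N
  have hQ : aeval (g • s) Q = 0 := by
    simp only [Q, map_mul, map_pow, aeval_C]
    rw [← mul_pow, ← hN]
    congr 1
    ring
  have hlc : Q.leadingCoeff = (h2' * h1') ^ N := by
    simp only [Q]
    rw [Polynomial.leadingCoeff_mul_monic (hGm.pow N), leadingCoeff_C]
  have := isIntegral_leadingCoeff_smul Q (g • s) hQ
  rw [hlc, smul_smul] at this
  exact ⟨_, ‹p.IsPrime›.mul_notMem (fun h => (‹p.IsPrime›.mul_notMem hh2 hh1)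
    (‹p.IsPrime›.mem_of_pow_mem _ h)) hg, this⟩


/-- a common multiplier for a finite set -/
lemma exists_common [Algebra.FiniteType R S] (p : Ideal R) (hp : p ∈ minimalPrimes R)
    (hfin : (p.primesOver S).Finite) (t : Finset S) :
    ∃ g ∉ p, ∀ s ∈ t, IsIntegral R (g • s) := by
  classical
  haveI : p.IsPrime := hp.1.1
  induction t using Finset.induction_on with
  | empty => exact ⟨1, (Ideal.ne_top_iff_one p).mp ‹p.IsPrime›.ne_top, by simp⟩
  | insert a t _ ih =>
    obtain ⟨g1, hg1, h1⟩ := ih
    obtain ⟨g2, hg2, h2⟩ := exists_isIntegral_smul p hp hfin a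
    refine ⟨g1 * g2, ‹p.IsPrime›.mul_notMem hg1 hg2, ?_⟩
    intro s hs
    rcases Finset.mem_insert.mp hs with rfl | hs
    · rw [mul_smul]; exact h2.smul g1
    · rw [mul_comm, mul_smul]; exact (h1 s hs).smul g2

theorem main (R S : Type u) [CommRing R] [CommRing S]
    [Algebra R S] [Algebra.FiniteType R S] (p : Ideal R) (hp : p ∈ minimalPrimes R)
    (hfin : (p.primesOver S).Finite) :
    ∃ g : R, g ∉ p ∧ (Localization.awayMap (algebraMap R S) g).Finite := by
  classical
  obtain ⟨t, ht⟩ := (Algebra.FiniteType.out : (⊤ : Subalgebra R S).FG)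
  obtain ⟨g, hg, hint⟩ := exists_common p hp hfin t
  refine ⟨g, hg, ?_⟩
  set R' := Localization.Away g
  set S' := Localization.Away (algebraMap R S g)
  set φ := Localization.awayMap (algebraMap R S) g with hφ
  letI : Algebra R' S' := φ.toAlgebra
  have hcomm : ∀ r : R, φ (algebraMap R R' r) = algebraMap S S' (algebraMap R S r) := by
    intro r
    simp only [hφ, Localization.awayMap, IsLocalization.Away.map]
    exact IsLocalization.map_eq _ _
  haveI : IsScalarTower R R' S' := IsScalarTower.of_algebraMap_eq (fun r => by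
    rw [IsScalarTower.algebraMap_apply R S S']
    exact (hcomm r).symm)
  change Module.Finite R' S'
  haveI : Algebra.FiniteType R S' := Algebra.FiniteType.trans (S := S) inferInstance inferInstance
  haveI : Algebra.FiniteType R' S' := Algebra.FiniteType.of_restrictScalars_finiteType R R' S'
  -- integrality
  have hS : ∀ a : S, IsIntegral R' (algebraMap S S' a) := by
    have hle : Algebra.adjoin R (t : Set S) ≤
        ((integralClosure R' S').restrictScalars R).comap (IsScalarTower.toAlgHom R S S') := by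
      refine Algebra.adjoin_le ?_
      intro s hs
      change IsIntegral R' (algebraMap S S' s)
      have h1 : IsIntegral R' (algebraMap S S' (g • s)) :=
        ((hint s hs).map (IsScalarTower.toAlgHom R S S')).tower_top
      have h2 : algebraMap S S' s =
          algebraMap R' S' (IsLocalization.Away.invSelf g) * algebraMap S S' (g • s) := by
        rw [Algebra.smul_def, map_mul, ← mul_assoc]
        have : algebraMap R' S' (IsLocalization.Away.invSelf g) * algebraMap S S' (algebraMap R S g)
            = 1 := by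
          rw [← hcomm]
          change φ _ * φ _ = 1
          rw [← map_mul, mul_comm, IsLocalization.Away.mul_invSelf, map_one]
        rw [this, one_mul]
      rw [h2]
      exact isIntegral_algebraMap.mul h1
    intro a
    have : a ∈ Algebra.adjoin R (t : Set S) := by rw [ht]; trivial
    exact hle this
  haveI : Algebra.IsIntegral R' S' := by
    refine ⟨fun x => ?_⟩
    obtain ⟨a, ⟨_, n, rfl⟩, rfl⟩ := IsLocalization.exists_mk'_eq
      (Submonoid.powers (algebraMap R S g)) x
    have h2 : IsLocalization.mk' S' a (⟨(algebraMap R S g) ^ n, n, rfl⟩ :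
        Submonoid.powers (algebraMap R S g)) =
          algebraMap R' S' (IsLocalization.Away.invSelf g ^ n) * algebraMap S S' a := by
      rw [IsLocalization.mk'_eq_iff_eq_mul]
      simp only [map_pow]
      have : algebraMap R' S' (IsLocalization.Away.invSelf g) * algebraMap S S' (algebraMap R S g)
          = 1 := by
        rw [← hcomm]
        change φ _ * φ _ = 1
        rw [← map_mul, mul_comm, IsLocalization.Away.mul_invSelf, map_one]
      calc algebraMap S S' a = (algebraMap R' S' (IsLocalization.Away.invSelf g) *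
            algebraMap S S' (algebraMap R S g)) ^ n * algebraMap S S' a := by
            rw [this, one_pow, one_mul]
        _ = _ := by ring
    rw [h2]
    exact isIntegral_algebraMap.mul (hS a)
  exact Algebra.IsIntegral.finite

end Groth.Agent.Lib.Helper26.QFMin
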