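import Mathlib
import Groth.Agent.Lib.helper19.SmChart1
import Groth.Agent.Lib.helper19.SmChart3

set_option maxHeartbeats 400000
set_option autoImplicit false
set_option linter.unusedVariables false
set_option linter.style.longLine false
set_option linter.unusedSectionVars false
set_option linter.style.haveILetI false

universe u
open TensorProduct KaehlerDifferential

namespace Groth.Agent.Lib.Helper26.QS1

open Groth.Agent.Lib.Helper19 in
/-- Pointed étale quasi-section, ring level: `A → B` smooth, `β : B → L` a point with values in a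
finite separable extension `L` of `κ(p)`; then `β` factors through an étale `A`-algebra. -/
theorem exists_etale_point (A B : Type u) [CommRing A] [CommRing B] [Algebra A B] [Algebra.Smooth A B]
    (p : Ideal A) [p.IsPrime] (L : Type u) [Field L] [Algebra p.ResidueField L]
    [FiniteDimensional p.ResidueField L] [Algebra.IsSeparable p.ResidueField L]
    (β : B →+* L)
    (hβ : β.comp (algebraMap A B) =
      (algebraMap p.ResidueField L).comp (algebraMap A p.ResidueField)) :
    ∃ (A₂ : Type u) (_ : CommRing A₂) (_ : Algebra A A₂) (_ : Algebra.Etale A A₂)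
      (τ : B →ₐ[A] A₂) (χ : A₂ →+* L), χ.comp τ.toRingHom = β := by
  classical
  let q : Ideal B := RingHom.ker β
  haveI : q.IsPrime := RingHom.ker_isPrime β
  haveI : Algebra.FinitePresentation A B := Algebra.Smooth.finitePresentation
  haveI : Algebra.IsSmoothAt A q := inferInstance
  haveI : Module.Finite q.ResidueField (q.ResidueField ⊗[B] Ω[B⁄A]) := inferInstance
  obtain ⟨d, x, hli, hsp⟩ := SmChart1.exists_coords A B q
  obtain ⟨g, hg, hφ⟩ := SmChart1.chart_of_coords A B q x hli hsp
  have hβg : IsUnit (β g) := by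
    rw [isUnit_iff_ne_zero]
    intro h0
    exact hg ((RingHom.mem_ker).2 h0)
  let Bg := Localization.Away g
  let βg : Bg →+* L := IsLocalization.Away.lift g hβg
  have hβg' : ∀ b : B, βg (algebraMap B Bg b) = β b := fun b => IsLocalization.Away.lift_eq g hβg b
  obtain ⟨A₁, _, _, _, χ₁, a', hχ₁, ha'⟩ := SmChart3.exists_etale_lift A p L (fun i => β (x i))
  let P := MvPolynomial (Fin d) A
  let φ : P →+* Bg := (algebraMap B Bg).comp (MvPolynomial.aeval x : P →ₐ[A] B).toRingHom
  let ψ : P →ₐ[A] A₁ := MvPolynomial.aeval a'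
  letI algPBg : Algebra P Bg := φ.toAlgebra
  letI algPA₁ : Algebra P A₁ := ψ.toRingHom.toAlgebra
  haveI : Algebra.Etale P Bg := RingHom.etale_algebraMap.mp hφ
  let A₂ := A₁ ⊗[P] Bg
  haveI : Algebra.Etale A₁ A₂ := inferInstance
  haveI : SMulCommClass P A A₁ := inferInstance
  letI algAA₂ : Algebra A A₂ := inferInstance
  haveI : IsScalarTower A A₁ A₂ := inferInstance
  haveI : Algebra.Etale A A₂ := Algebra.Etale.comp A A₁ A₂
  -- the two maps to `L` agree on `P`
  have hcomp : βg.comp φ = χ₁.comp ψ.toRingHom := by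
    apply MvPolynomial.ringHom_ext
    · intro a
      have h1 : (βg.comp φ) (MvPolynomial.C a) = β (algebraMap A B a) := by
        simp only [φ, RingHom.comp_apply]
        rw [show (MvPolynomial.aeval x : P →ₐ[A] B).toRingHom (MvPolynomial.C a) = algebraMap A B a from by simp]
        exact hβg' _
      have h2 : (χ₁.comp ψ.toRingHom) (MvPolynomial.C a) = χ₁ (algebraMap A A₁ a) := by
        simp only [ψ, RingHom.comp_apply]
        rw [show (MvPolynomial.aeval a' : P →ₐ[A] A₁).toRingHom (MvPolynomial.C a) = algebraMap A A₁ a from by simp]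
      rw [h1, h2]
      have e1 := congrArg (fun r : A →+* L => r a) hβ
      have e2 := congrArg (fun r : A →+* L => r a) hχ₁
      simp only [RingHom.comp_apply] at e1 e2
      rw [e1, e2]
    · intro i
      have h1 : (βg.comp φ) (MvPolynomial.X i) = β (x i) := by
        simp only [φ, RingHom.comp_apply]
        rw [show (MvPolynomial.aeval x : P →ₐ[A] B).toRingHom (MvPolynomial.X i) = x i from by simp]
        exact hβg' _
      have h2 : (χ₁.comp ψ.toRingHom) (MvPolynomial.X i) = χ₁ (a' i) := by
        simp only [ψ, RingHom.comp_apply]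
        rw [show (MvPolynomial.aeval a' : P →ₐ[A] A₁).toRingHom (MvPolynomial.X i) = a' i from by simp]
      rw [h1, h2, ha']
  letI algPL : Algebra P L := (χ₁.comp ψ.toRingHom).toAlgebra
  let f₁ : A₁ →ₐ[P] L := { χ₁ with commutes' := fun r => rfl }
  have hf₂ : ∀ r : P, βg (algebraMap P Bg r) = algebraMap P L r := fun r =>
    congrArg (fun h : P →+* L => h r) hcomp
  let f₂ : Bg →ₐ[P] L := { βg with commutes' := hf₂ }
  let χ : A₂ →+* L := (Algebra.TensorProduct.lift f₁ f₂ (fun _ _ => Commute.all _ _)).toRingHom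
  let τ₀ : B →+* A₂ := (Algebra.TensorProduct.includeRight : Bg →ₐ[P] A₂).toRingHom.comp (algebraMap B Bg)
  have hτ₀ : ∀ b : B, τ₀ b = (1 : A₁) ⊗ₜ[P] (algebraMap B Bg b) := fun b => rfl
  have hτc : ∀ a : A, τ₀ (algebraMap A B a) = algebraMap A A₂ a := by
    intro a
    rw [hτ₀]
    have h1 : algebraMap B Bg (algebraMap A B a) = (MvPolynomial.C a : P) • (1 : Bg) := by
      rw [Algebra.smul_def, mul_one]
      show _ = algebraMap B Bg ((MvPolynomial.aeval x) (MvPolynomial.C a))
      rw [MvPolynomial.aeval_C]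
    rw [h1, ← TensorProduct.smul_tmul]
    have h2 : (MvPolynomial.C a : P) • (1 : A₁) = algebraMap A A₁ a := by
      rw [Algebra.smul_def, mul_one]
      show (MvPolynomial.aeval a') (MvPolynomial.C a) = _
      rw [MvPolynomial.aeval_C]
    rw [h2]
    rw [Algebra.TensorProduct.algebraMap_apply]
  let τ : B →ₐ[A] A₂ := { τ₀ with commutes' := hτc }
  refine ⟨A₂, inferInstance, algAA₂, inferInstance, τ, χ, ?_⟩
  ext b
  show χ (τ₀ b) = β b
  rw [hτ₀]
  show (Algebra.TensorProduct.lift f₁ f₂ _) ((1 : A₁) ⊗ₜ[P] (algebraMap B Bg b)) = β b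
  rw [Algebra.TensorProduct.lift_tmul, map_one, one_mul]
  exact hβg' b

end Groth.Agent.Lib.Helper26.QS1
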