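import Mathlib
import Groth.Agent.Lib.Helper26.QS1

set_option maxHeartbeats 400000
set_option autoImplicit false
set_option linter.unusedVariables false
set_option linter.style.longLine false
set_option linter.unusedSectionVars false
set_option linter.style.haveILetI false

universe u
open TensorProduct

namespace Groth.Agent.Lib.Helper26.QS2

open Groth.Agent.Lib.Helper26

/-- In characteristic zero, an open subset of `Spec B` (`B` smooth over `A`) which contains the
image of every étale quasi-section is everything. -/
theorem eq_univ_of_etale_points (k : Type u) [Field k] [CharZero k] (A B : Type u) [CommRing A]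
    [CommRing B] (ι : k →+* A) [Algebra A B] [Algebra.Smooth A B]
    (W : Set (PrimeSpectrum B)) (hW : IsOpen W)
    (h : ∀ (A₂ : Type u) [CommRing A₂] [Algebra A A₂] [Algebra.Etale A A₂] (τ : B →ₐ[A] A₂),
      Set.range (PrimeSpectrum.comap τ.toRingHom) ⊆ W) : W = Set.univ := by
  classical
  by_contra hne
  obtain ⟨q, hq⟩ := (Set.ne_univ_iff_exists_notMem W).1 hne
  let p : PrimeSpectrum A := PrimeSpectrum.comap (algebraMap A B) q
  let F := p.asIdeal.Fiber B
  let Q : PrimeSpectrum F := PrimeSpectrum.preimageEquivFiber A B p ⟨q, rfl⟩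
  have hQ : Q.asIdeal.comap (Algebra.TensorProduct.includeRight : B →ₐ[A] F).toRingHom = q.asIdeal := by
    have := (PrimeSpectrum.preimageEquivFiber A B p).left_inv ⟨q, rfl⟩
    have h2 := congrArg (fun t => t.1.asIdeal) this
    exact h2
  obtain ⟨M, hM, hQM⟩ := Ideal.exists_le_maximal Q.asIdeal Q.2.ne_top
  haveI := hM
  let L := F ⧸ M
  letI : Field L := Ideal.Quotient.field M
  let κ := p.asIdeal.ResidueField
  haveI : Algebra.FinitePresentation A B := Algebra.Smooth.finitePresentation
  haveI : Algebra.FiniteType A B := inferInstance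
  haveI : Algebra.FiniteType κ F := inferInstance
  haveI : Algebra.FiniteType κ L := inferInstance
  haveI : Module.Finite κ L := finite_of_finite_type_of_isJacobsonRing κ L
  haveI : CharZero κ :=
    charZero_of_injective_ringHom (((algebraMap A κ).comp ι).injective)
  haveI : Algebra.IsSeparable κ L := Algebra.IsAlgebraic.isSeparable_of_perfectField
  let inc : B →ₐ[A] F := Algebra.TensorProduct.includeRight
  let β : B →+* L := (Ideal.Quotient.mk M).comp inc.toRingHom
  have hβ : β.comp (algebraMap A B) = (algebraMap κ L).comp (algebraMap A κ) := by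
    ext a
    show Ideal.Quotient.mk M (inc (algebraMap A B a)) = algebraMap κ L (algebraMap A κ a)
    rw [inc.commutes, IsScalarTower.algebraMap_apply A κ F]
    rfl
  obtain ⟨A₂, _, _, _, τ, χ, hχ⟩ := QS1.exists_etale_point A B p.asIdeal L β hβ
  let P₂ : PrimeSpectrum A₂ := ⟨RingHom.ker χ, RingHom.ker_isPrime χ⟩
  let q' : PrimeSpectrum B := PrimeSpectrum.comap τ.toRingHom P₂
  have hq'W : q' ∈ W := h A₂ τ ⟨P₂, rfl⟩
  have hq' : q'.asIdeal = M.comap inc.toRingHom := by
    show (RingHom.ker χ).comap τ.toRingHom = _
    rw [RingHom.comap_ker, hχ]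
    show RingHom.ker ((Ideal.Quotient.mk M).comp inc.toRingHom) = _
    rw [← RingHom.comap_ker, Ideal.mk_ker]
  have hle : q ≤ q' := by
    show q.asIdeal ≤ q'.asIdeal
    rw [hq', ← hQ]
    exact Ideal.comap_mono hQM
  exact hq ((PrimeSpectrum.le_iff_specializes q q').1 hle |>.mem_open hW hq'W)

end Groth.Agent.Lib.Helper26.QS2
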