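import Mathlib
import Groth.Agent.Lib.Helper26.QS2

set_option maxHeartbeats 400000
set_option autoImplicit false
set_option linter.unusedVariables false
set_option linter.style.longLine false
set_option linter.unusedSectionVars false
set_option linter.style.haveILetI false

universe u
open CategoryTheory AlgebraicGeometry Limits

namespace Groth.Agent.Lib.Helper26.QS3

open Groth.Agent.Lib.Helper26

/-- In characteristic zero, an open subset `T` of a smooth `S`-scheme `Z` which contains the image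
of every `S`-morphism `U ⟶ Z` with `U` étale over `S` is everything. -/
theorem eq_top_of_etale_sections {k : Type u} [Field k] [CharZero k] {S Z : Scheme.{u}}
    (σ : S ⟶ Spec (CommRingCat.of k)) (f : Z ⟶ S) [Smooth f] (T : Z.Opens)
    (h : ∀ (U : Scheme.{u}) (e : U ⟶ S) (s : U ⟶ Z), Etale e → s ≫ f = e →
      Set.range s ⊆ (T : Set Z)) : T = ⊤ := by
  rw [eq_top_iff]
  rintro z -
  obtain ⟨V, hV, hzV, -⟩ := exists_isAffineOpen_mem_and_subset (x := f z) (U := ⊤) trivial
  obtain ⟨U', hU', hzU', hU'le⟩ :=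
    exists_isAffineOpen_mem_and_subset (x := z) (U := f ⁻¹ᵁ V) hzV
  let φ : Γ(S, V) ⟶ Γ(Z, U') := f.appLE V U' hU'le
  have hφ : φ.hom.Smooth :=
    HasRingHomProperty.appLE (P := @Smooth) f inferInstance ⟨V, hV⟩ ⟨U', hU'⟩ hU'le
  letI : Algebra Γ(S, V) Γ(Z, U') := φ.hom.toAlgebra
  haveI : Algebra.Smooth Γ(S, V) Γ(Z, U') := RingHom.smooth_algebraMap.mp hφ
  let ι : k →+* Γ(S, V) :=
    ((Scheme.ΓSpecIso (CommRingCat.of k)).inv ≫ σ.appTop ≫ S.presheaf.map (homOfLE le_top).op).hom
  let W : Set (PrimeSpectrum Γ(Z, U')) := hU'.fromSpec ⁻¹' (T : Set Z)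
  have hWo : IsOpen W := T.2.preimage hU'.fromSpec.continuous
  have hW : W = Set.univ := by
    refine QS2.eq_univ_of_etale_points k Γ(S, V) Γ(Z, U') ι W hWo ?_
    intro A₂ _ _ _ τ
    rintro _ ⟨P₂, rfl⟩
    let τ' : Γ(Z, U') ⟶ CommRingCat.of A₂ := CommRingCat.ofHom τ.toRingHom
    let α' : Γ(S, V) ⟶ CommRingCat.of A₂ := CommRingCat.ofHom (algebraMap Γ(S, V) A₂)
    have hτα : φ ≫ τ' = α' := by
      ext a
      exact τ.commutes a
    let s : Spec (CommRingCat.of A₂) ⟶ Z := Spec.map τ' ≫ hU'.fromSpec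
    let e : Spec (CommRingCat.of A₂) ⟶ S := Spec.map α' ≫ hV.fromSpec
    have hα'et : Etale (Spec.map α') := by
      rw [HasRingHomProperty.Spec_iff (P := @Etale)]
      exact RingHom.etale_algebraMap.mpr inferInstance
    have he : Etale e := inferInstance
    have hse : s ≫ f = e := by
      show (Spec.map τ' ≫ hU'.fromSpec) ≫ f = Spec.map α' ≫ hV.fromSpec
      rw [Category.assoc, ← IsAffineOpen.SpecMap_appLE_fromSpec f hV hU' hU'le, ← Category.assoc,
        ← Spec.map_comp, hτα]
    have := h _ e s he hse ⟨P₂, rfl⟩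
    exact this
  obtain ⟨z', hz'⟩ : z ∈ Set.range hU'.fromSpec := by rw [hU'.range_fromSpec]; exact hzU'
  have : z' ∈ W := by rw [hW]; trivial
  rw [← hz']
  exact this

end Groth.Agent.Lib.Helper26.QS3
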