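import Mathlib
import Groth.Prelude.Def_CInt
import Groth.Agent.Lib.Helper26.QS3
import Groth.Agent.Lib.Helper26.NeronT2
import Groth.Agent.Lib.Helper9.SchDenseEq
import Groth.Agent.Lib.Helper7.SchDense

set_option maxHeartbeats 400000
set_option autoImplicit false
set_option linter.unusedVariables false
set_option linter.style.longLine false
set_option linter.unusedSectionVars false
set_option linter.style.haveILetI false

universe u
open CategoryTheory AlgebraicGeometry Limits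

namespace Groth.Agent.Lib.Helper26.QS4

open Groth.Agent.Lib.Helper26

/-- Two morphisms `a b : Z ⟶ N` agreeing over a schematically dense open of the (locally
Noetherian) base, `Z` flat over the base, agree near any point where they agree topologically. -/
theorem exists_open_eq {S : Scheme.{u}} [IsLocallyNoetherian S] (S₀ : S.Opens)
    (hS₀ : CInt.IsSchematicallyDense S₀) {Z N : Scheme.{u}} (p : Z ⟶ S) [Flat p] (a b : Z ⟶ N)
    (e1 : pullback.fst p S₀.ι ≫ a = pullback.fst p S₀.ι ≫ b) (z : Z) (hz : a z = b z) :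
    ∃ V : Z.Opens, z ∈ V ∧ V.ι ≫ a = V.ι ≫ b := by
  obtain ⟨N', hN', hzN', -⟩ := exists_isAffineOpen_mem_and_subset (x := a z) (U := ⊤) trivial
  let V : Z.Opens := a ⁻¹ᵁ N' ⊓ b ⁻¹ᵁ N'
  have hzV : z ∈ V := ⟨hzN', by show b z ∈ N'; rw [← hz]; exact hzN'⟩
  refine ⟨V, hzV, ?_⟩
  have hra : Set.range (V.ι ≫ a) ⊆ Set.range N'.ι := by
    rintro _ ⟨v, rfl⟩
    rw [Scheme.Opens.range_ι]
    exact v.2.1
  have hrb : Set.range (V.ι ≫ b) ⊆ Set.range N'.ι := by
    rintro _ ⟨v, rfl⟩
    rw [Scheme.Opens.range_ι]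
    exact v.2.2
  let a' : V.toScheme ⟶ N'.toScheme := IsOpenImmersion.lift N'.ι (V.ι ≫ a) hra
  let b' : V.toScheme ⟶ N'.toScheme := IsOpenImmersion.lift N'.ι (V.ι ≫ b) hrb
  have ha' : a' ≫ N'.ι = V.ι ≫ a := IsOpenImmersion.lift_fac _ _ _
  have hb' : b' ≫ N'.ι = V.ι ≫ b := IsOpenImmersion.lift_fac _ _ _
  haveI : IsAffine N'.toScheme := hN'
  let D : V.toScheme.Opens := (V.ι ≫ p) ⁻¹ᵁ S₀
  have hD : CInt.IsSchematicallyDense D :=
    Groth.Agent.Lib.Helper7.SchDense.isSchematicallyDense_preimage_of_flat (V.ι ≫ p) S₀ hS₀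
  have hrD : Set.range (D.ι ≫ V.ι ≫ p) ⊆ Set.range S₀.ι := by
    rintro _ ⟨d, rfl⟩
    rw [Scheme.Opens.range_ι]
    exact d.2
  let l : D.toScheme ⟶ pullback p S₀.ι :=
    pullback.lift (D.ι ≫ V.ι) (IsOpenImmersion.lift S₀.ι (D.ι ≫ V.ι ≫ p) hrD)
      (by rw [IsOpenImmersion.lift_fac, Category.assoc])
  have hl : l ≫ pullback.fst p S₀.ι = D.ι ≫ V.ι := pullback.lift_fst _ _ _
  have hDab : D.ι ≫ a' = D.ι ≫ b' := by
    rw [← cancel_mono N'.ι, Category.assoc, Category.assoc, ha', hb', ← Category.assoc,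
      ← Category.assoc, ← hl, Category.assoc, Category.assoc, e1]
  have hab' : a' = b' :=
    Groth.Agent.Lib.Helper9.SchDenseEq.eq_of_eq_on_schDense_of_isSeparated
      (terminal.from N'.toScheme) a' b' (terminal.hom_ext _ _) D hD hDab
  rw [← ha', ← hb', hab']

set_option backward.isDefEq.respectTransparency false in
theorem main {k : Type u} [Field k] [CharZero k] {S : Scheme.{u}} (σ : S ⟶ Spec (CommRingCat.of k))
    [IsLocallyNoetherian S] (S₀ : S.Opens) (hS₀ : CInt.IsSchematicallyDense S₀)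
    (N : Over S) [Smooth N.hom]
    (hN : ∀ U : Over S, Etale U.hom →
      Function.Bijective (fun g : U ⟶ N => (Over.pullback S₀.ι).map g))
    (Z : Over S) [Smooth Z.hom] :
    Function.Injective (fun g : Z ⟶ N => (Over.pullback S₀.ι).map g) := by
  intro g₁ g₂ h12
  have h12' : ((Over.pullback S₀.ι).map g₁).left = ((Over.pullback S₀.ι).map g₂).left :=
    congrArg (fun t => t.left) h12
  have e1 : pullback.fst Z.hom S₀.ι ≫ g₁.left = pullback.fst Z.hom S₀.ι ≫ g₂.left := by
    have := congrArg (fun t => t ≫ pullback.fst N.hom S₀.ι) h12'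
    simpa using this
  have ha : g₁.left ≫ N.hom = Z.hom := Over.w g₁
  have hb : g₂.left ≫ N.hom = Z.hom := Over.w g₂
  suffices hab : g₁.left = g₂.left from Over.OverMorphism.ext hab
  have hopen : IsOpen {z : Z.left | ∃ V : Z.left.Opens, z ∈ V ∧ V.ι ≫ g₁.left = V.ι ≫ g₂.left} := by
    rw [isOpen_iff_forall_mem_open]
    rintro z ⟨V, hzV, hV⟩
    exact ⟨V, fun y hy => ⟨V, hy, hV⟩, V.2, hzV⟩
  let T : Z.left.Opens := ⟨_, hopen⟩
  have hT : T = ⊤ := by
    refine QS3.eq_top_of_etale_sections σ Z.hom T ?_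
    intro U e s he hse
    rintro _ ⟨u, rfl⟩
    -- `s ≫ g₁ = s ≫ g₂` by the weak Néron property for `U`
    have hbij := (NeronT2.bij_pullback_iff S₀.ι (Over.mk e) N).1 (hN (Over.mk e) he)
    have hfac : pullback.fst e S₀.ι ≫ s =
        pullback.lift (pullback.fst e S₀.ι ≫ s) (pullback.snd e S₀.ι)
          (by rw [Category.assoc, hse, pullback.condition]) ≫ pullback.fst Z.hom S₀.ι :=
      (pullback.lift_fst _ _ _).symm
    obtain ⟨g, -, hu⟩ := hbij (pullback.fst e S₀.ι ≫ s ≫ g₁.left) (by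
      show (pullback.fst e S₀.ι ≫ s ≫ g₁.left) ≫ N.hom = pullback.fst e S₀.ι ≫ e
      rw [Category.assoc, Category.assoc, ha, hse])
    have h1 : s ≫ g₁.left = g := hu _ ⟨by
      show (s ≫ g₁.left) ≫ N.hom = e
      rw [Category.assoc, ha, hse], rfl⟩
    have h2 : s ≫ g₂.left = g := hu _ ⟨by
      show (s ≫ g₂.left) ≫ N.hom = e
      rw [Category.assoc, hb, hse], by
      show pullback.fst e S₀.ι ≫ s ≫ g₂.left = pullback.fst e S₀.ι ≫ s ≫ g₁.left
      rw [← Category.assoc, hfac, Category.assoc, ← e1, ← Category.assoc, ← hfac, Category.assoc]⟩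
    have hsab : s ≫ g₁.left = s ≫ g₂.left := h1.trans h2.symm
    have hpt : g₁.left (s u) = g₂.left (s u) := by
      have := congrArg (fun t : U ⟶ N.left => t u) hsab
      simpa using this
    exact exists_open_eq S₀ hS₀ Z.hom g₁.left g₂.left e1 (s u) hpt
  refine Scheme.hom_ext_of_forall _ _ fun z => ?_
  have hz : z ∈ T := by rw [hT]; trivial
  exact hz

end Groth.Agent.Lib.Helper26.QS4
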