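import Mathlib

set_option maxHeartbeats 400000

namespace Groth.Agent.Lib.Helper26.QSymLim

open Finsupp

/-- `mapDomain` as a sum over the ordered support -/
lemma mapDomain_eq_sum_orderEmb {n : ℕ} (e : Fin n →₀ ℕ) (ψ : Fin n → ℕ) :
    mapDomain ψ e = ∑ t : Fin e.support.card,
      single (ψ (e.support.orderEmbOfFin rfl t)) (e (e.support.orderEmbOfFin rfl t)) := by
  have h1 : mapDomain ψ e = ∑ x ∈ e.support, single (ψ x) (e x) := rfl
  rw [h1]
  conv_lhs => rw [← Finset.map_orderEmbOfFin_univ e.support rfl]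
  rw [Finset.sum_map]
  rfl

theorem partA (F : MvPowerSeries ℕ ℤ)
    (hQS : ∀ (ℓ : ℕ) (i j : Fin ℓ → ℕ) (a : Fin ℓ → ℕ), StrictMono i → StrictMono j → (∀ t, 0 < a t) →
        MvPowerSeries.coeff (∑ t : Fin ℓ, Finsupp.single (i t) (a t)) F =
          MvPowerSeries.coeff (∑ t : Fin ℓ, Finsupp.single (j t) (a t)) F)
    (n m : ℕ) (φ : Fin n ↪o Fin m) (e : Fin n →₀ ℕ) :
    MvPowerSeries.coeff (Finsupp.mapDomain Fin.val e) F =
      MvPowerSeries.coeff (Finsupp.mapDomain Fin.val (Finsupp.mapDomain φ e)) F := by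
  rw [← Finsupp.mapDomain_comp, mapDomain_eq_sum_orderEmb e Fin.val,
    mapDomain_eq_sum_orderEmb e (Fin.val ∘ φ)]
  apply hQS
  · intro s t hst
    exact (e.support.orderEmbOfFin rfl).strictMono hst
  · intro s t hst
    exact φ.strictMono ((e.support.orderEmbOfFin rfl).strictMono hst)
  · intro t
    have := Finset.orderEmbOfFin_mem e.support rfl t
    exact Nat.pos_of_ne_zero (Finsupp.mem_support_iff.mp this)

/-- bound for the support -/
noncomputable def bd (e : ℕ →₀ ℕ) : ℕ := e.support.sup id + 1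

lemma lt_bd (e : ℕ →₀ ℕ) {x : ℕ} (hx : x ∈ e.support) : x < bd e := by
  have : id x ≤ e.support.sup id := Finset.le_sup hx
  simp only [id] at this
  unfold bd; omega

/-- pull back to `Fin n` -/
noncomputable def pull (n : ℕ) (e : ℕ →₀ ℕ) : Fin n →₀ ℕ :=
  Finsupp.comapDomain Fin.val e Fin.val_injective.injOn

lemma map_pull (n : ℕ) (e : ℕ →₀ ℕ) (h : ∀ x ∈ e.support, x < n) :
    mapDomain Fin.val (pull n e) = e := by
  apply Finsupp.mapDomain_comapDomain _ Fin.val_injective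
  intro x hx
  exact ⟨⟨x, h x hx⟩, rfl⟩

lemma pull_map (n : ℕ) (e' : Fin n →₀ ℕ) : pull n (mapDomain Fin.val e') = e' := by
  ext x
  rw [pull, Finsupp.comapDomain_apply, Finsupp.mapDomain_apply Fin.val_injective]

lemma support_map_lt (n : ℕ) (e' : Fin n →₀ ℕ) : ∀ x ∈ (mapDomain Fin.val e').support, x < n := by
  classical
  intro x hx
  have := Finsupp.mapDomain_support hx
  rw [Finset.mem_image] at this
  obtain ⟨y, _, rfl⟩ := this
  exact y.2

variable (d : ℕ) (f : (n : ℕ) → MvPolynomial (Fin n) ℤ)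
  (hcompat : ∀ (n m : ℕ) (φ : Fin n ↪o Fin m) (e : Fin n →₀ ℕ),
        MvPolynomial.coeff e (f n) = MvPolynomial.coeff (Finsupp.mapDomain φ e) (f m))

/-- the limit series -/
noncomputable def Flim : MvPowerSeries ℕ ℤ :=
  fun e => MvPolynomial.coeff (pull (bd e) e) (f (bd e))

lemma coeff_Flim (e : ℕ →₀ ℕ) :
    MvPowerSeries.coeff e (Flim f) = MvPolynomial.coeff (pull (bd e) e) (f (bd e)) := rfl

include hcompat in
lemma key (n : ℕ) (e' : Fin n →₀ ℕ) :
    MvPowerSeries.coeff (mapDomain Fin.val e') (Flim f) = MvPolynomial.coeff e' (f n) := by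
  rw [coeff_Flim]
  set e := mapDomain Fin.val e' with he
  set N := bd e with hN
  have hmapN : mapDomain Fin.val (pull N e) = e := map_pull N e (fun x hx => lt_bd e hx)
  rcases le_total n N with hle | hle
  · rw [hcompat n N (Fin.castLEOrderEmb hle) e']
    congr 1
    apply Finsupp.mapDomain_injective Fin.val_injective
    rw [hmapN, ← Finsupp.mapDomain_comp]
    rfl
  · rw [hcompat N n (Fin.castLEOrderEmb hle) (pull N e)]
    congr 1
    apply Finsupp.mapDomain_injective Fin.val_injective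
    rw [← Finsupp.mapDomain_comp]
    exact hmapN

include hcompat in
theorem partB (hhom : ∀ n, (f n).IsHomogeneous d) :
    ∃! F : MvPowerSeries ℕ ℤ,
        (∀ (ℓ : ℕ) (i j : Fin ℓ → ℕ) (a : Fin ℓ → ℕ), StrictMono i → StrictMono j → (∀ t, 0 < a t) →
          MvPowerSeries.coeff (∑ t : Fin ℓ, Finsupp.single (i t) (a t)) F =
            MvPowerSeries.coeff (∑ t : Fin ℓ, Finsupp.single (j t) (a t)) F) ∧
        (∀ e : ℕ →₀ ℕ, MvPowerSeries.coeff e F ≠ 0 → e.degree = d) ∧
        (∀ (n : ℕ) (e : Fin n →₀ ℕ),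
          MvPowerSeries.coeff (Finsupp.mapDomain Fin.val e) F = MvPolynomial.coeff e (f n)) := by
  refine ⟨Flim f, ⟨?_, ?_, key f hcompat⟩, ?_⟩
  · -- quasi-symmetry
    intro ℓ i j a hi hj _
    -- common bound
    set n := (Finset.univ.sup i) ⊔ (Finset.univ.sup j) + 1 with hn
    have hib : ∀ t, i t < n := fun t => by
      have : i t ≤ Finset.univ.sup i := Finset.le_sup (Finset.mem_univ t)
      have : i t ≤ (Finset.univ.sup i) ⊔ (Finset.univ.sup j) := le_sup_of_le_left this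
      omega
    have hjb : ∀ t, j t < n := fun t => by
      have : j t ≤ Finset.univ.sup j := Finset.le_sup (Finset.mem_univ t)
      have : j t ≤ (Finset.univ.sup i) ⊔ (Finset.univ.sup j) := le_sup_of_le_right this
      omega
    have aux : ∀ (g : Fin ℓ → ℕ) (hg : StrictMono g) (hgb : ∀ t, g t < n),
        MvPowerSeries.coeff (∑ t : Fin ℓ, Finsupp.single (g t) (a t)) (Flim f) =
          MvPolynomial.coeff (∑ t : Fin ℓ, Finsupp.single t (a t)) (f ℓ) := by
      intro g hg hgb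
      let φ : Fin ℓ ↪o Fin n := OrderEmbedding.ofStrictMono (fun t => ⟨g t, hgb t⟩)
        (fun s t hst => by
          show (⟨g s, hgb s⟩ : Fin n) < ⟨g t, hgb t⟩
          rw [Fin.lt_def]; exact hg hst)
      have h1 : (∑ t : Fin ℓ, Finsupp.single (g t) (a t)) =
          mapDomain Fin.val (mapDomain φ (∑ t : Fin ℓ, Finsupp.single t (a t))) := by
        rw [← Finsupp.mapDomain_comp, Finsupp.mapDomain_finset_sum]
        refine Finset.sum_congr rfl fun t _ => ?_
        rw [Finsupp.mapDomain_single]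
        rfl
      rw [h1, key f hcompat, ← hcompat]
    rw [aux i hi hib, aux j hj hjb]
  · -- degree
    intro e he
    rw [coeff_Flim] at he
    have hdeg := (hhom (bd e)) he
    have hdw : (weight (1 : Fin (bd e) → ℕ)) (pull (bd e) e) = degree (pull (bd e) e) := by
      rw [Finsupp.degree_eq_weight_one]; rfl
    rw [hdw] at hdeg
    have hmap : mapDomain Fin.val (pull (bd e) e) = e := map_pull _ e (fun x hx => lt_bd e hx)
    rw [← hmap, Finsupp.degree_mapDomain]
    exact hdeg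
  · -- uniqueness
    rintro F' ⟨-, -, hF'⟩
    ext e
    have hmap : mapDomain Fin.val (pull (bd e) e) = e := map_pull _ e (fun x hx => lt_bd e hx)
    rw [coeff_Flim]
    conv_lhs => rw [← hmap]
    exact hF' _ _

theorem main (d : ℕ) :
    (∀ F : MvPowerSeries ℕ ℤ,
      (∀ (ℓ : ℕ) (i j : Fin ℓ → ℕ) (a : Fin ℓ → ℕ), StrictMono i → StrictMono j → (∀ t, 0 < a t) →
        MvPowerSeries.coeff (∑ t : Fin ℓ, Finsupp.single (i t) (a t)) F =
          MvPowerSeries.coeff (∑ t : Fin ℓ, Finsupp.single (j t) (a t)) F) →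
      (∀ e : ℕ →₀ ℕ, MvPowerSeries.coeff e F ≠ 0 → e.degree = d) →
      ∀ (n m : ℕ) (φ : Fin n ↪o Fin m) (e : Fin n →₀ ℕ),
        MvPowerSeries.coeff (Finsupp.mapDomain Fin.val e) F =
          MvPowerSeries.coeff (Finsupp.mapDomain Fin.val (Finsupp.mapDomain φ e)) F) ∧
    (∀ f : (n : ℕ) → MvPolynomial (Fin n) ℤ,
      (∀ n, (f n).IsHomogeneous d) →
      (∀ (n m : ℕ) (φ : Fin n ↪o Fin m) (e : Fin n →₀ ℕ),
        MvPolynomial.coeff e (f n) = MvPolynomial.coeff (Finsupp.mapDomain φ e) (f m)) →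
      ∃! F : MvPowerSeries ℕ ℤ,
        (∀ (ℓ : ℕ) (i j : Fin ℓ → ℕ) (a : Fin ℓ → ℕ), StrictMono i → StrictMono j → (∀ t, 0 < a t) →
          MvPowerSeries.coeff (∑ t : Fin ℓ, Finsupp.single (i t) (a t)) F =
            MvPowerSeries.coeff (∑ t : Fin ℓ, Finsupp.single (j t) (a t)) F) ∧
        (∀ e : ℕ →₀ ℕ, MvPowerSeries.coeff e F ≠ 0 → e.degree = d) ∧
        (∀ (n : ℕ) (e : Fin n →₀ ℕ),
          MvPowerSeries.coeff (Finsupp.mapDomain Fin.val e) F = MvPolynomial.coeff e (f n))) :=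
  ⟨fun F hQS _ n m φ e => partA F hQS n m φ e,
   fun f hhom hcompat => partB d f hcompat hhom⟩

end Groth.Agent.Lib.Helper26.QSymLim
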