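import Mathlib

set_option maxHeartbeats 400000

namespace Groth.Agent.Lib.Helper26.QuadBasis

open MvPolynomial

variable {R : Type*} [CommRing R] {σ : Type*} [DecidableEq σ]

lemma eq_single_of_degree (s : σ →₀ ℕ) (j : σ) (hs : s.degree = 2) (hj : 2 ≤ s j) :
    s = Finsupp.single j 2 := by
  have hle : Finsupp.single j 2 ≤ s := by
    intro i
    by_cases hi : i = j
    · subst hi; simpa using hj
    · simp [Ne.symm hi]
  have h1 : s = Finsupp.single j 2 + (s - Finsupp.single j 2) := (add_tsub_cancel_of_le hle).symm
  have hd : (s - Finsupp.single j 2).degree = 0 := by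
    have h2 := congrArg Finsupp.degree h1
    rw [map_add, Finsupp.degree_single, hs] at h2
    omega
  rw [Finsupp.degree_eq_zero_iff] at hd
  rw [hd, add_zero] at h1
  exact h1

lemma homog_degree {q : MvPolynomial σ R} (hq : q.IsHomogeneous 2) {s : σ →₀ ℕ}
    (hs : q.coeff s ≠ 0) : s.degree = 2 := by
  have := hq hs
  rw [Finsupp.degree_eq_weight_one]
  exact this

lemma core (j : σ) (q : MvPolynomial σ R) (hq : q.IsHomogeneous 2)
    (hqj : IsUnit (q.coeff (Finsupp.single j 2))) (g : MvPolynomial σ R)
    (h : ∀ μ ∈ (q * g).support, μ j < 2) : g = 0 := by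
  by_contra hg
  have hne : g.support.Nonempty := by
    rwa [Finset.nonempty_iff_ne_empty, Ne, MvPolynomial.support_eq_empty]
  obtain ⟨m, hm, hmax⟩ := Finset.exists_max_image g.support (fun m => m j) hne
  have hcoeff : (q * g).coeff (Finsupp.single j 2 + m)
      = q.coeff (Finsupp.single j 2) * g.coeff m := by
    rw [MvPolynomial.coeff_mul]
    rw [Finset.sum_eq_single (Finsupp.single j 2, m)]
    · rintro ⟨s, m'⟩ hsm hne'
      replace hsm := Finset.HasAntidiagonal.mem_antidiagonal.mp hsm
      simp only at hsm
      by_cases hs : q.coeff s = 0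
      · simp [hs]
      by_cases hm' : g.coeff m' = 0
      · simp [hm']
      exfalso
      have hm'mem : m' ∈ g.support := by rwa [MvPolynomial.mem_support_iff]
      have h1 := hmax m' hm'mem
      have hdeg : s.degree = 2 := homog_degree hq hs
      have h2 := DFunLike.congr_fun hsm j
      simp only [Finsupp.add_apply, Finsupp.single_eq_same] at h2
      have hsj : 2 ≤ s j := by omega
      have hs2 := eq_single_of_degree s j hdeg hsj
      apply hne'
      subst hs2
      have := add_left_cancel hsm
      rw [this]
    · intro hnm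
      exfalso; apply hnm
      simp
  have hmem : (Finsupp.single j 2 + m) ∈ (q * g).support := by
    rw [MvPolynomial.mem_support_iff, hcoeff]
    intro h0
    have : g.coeff m = 0 := by
      have := hqj.mul_right_eq_zero.mp h0
      exact this
    exact (MvPolynomial.mem_support_iff.mp hm) this
  have := h _ hmem
  simp at this
  omega


section main
variable (j : σ) (q : MvPolynomial σ R) (n : ℕ)

lemma li_mono : LinearIndependent R
    (fun m : {m : σ →₀ ℕ // m.degree = n ∧ m j < 2} => MvPolynomial.monomial m.1 (1 : R)) := by
  have h := (MvPolynomial.basisMonomials σ R).linearIndependent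
  have h2 := h.comp (fun m : {m : σ →₀ ℕ // m.degree = n ∧ m j < 2} => m.1) Subtype.val_injective
  rw [MvPolynomial.coe_basisMonomials] at h2
  exact h2

lemma li_mono' : LinearIndependent R
    (fun m : {m : σ →₀ ℕ // m.degree + 2 = n} => MvPolynomial.monomial m.1 (1 : R)) := by
  have h := (MvPolynomial.basisMonomials σ R).linearIndependent
  have h2 := h.comp (fun m : {m : σ →₀ ℕ // m.degree + 2 = n} => m.1) Subtype.val_injective
  rw [MvPolynomial.coe_basisMonomials] at h2
  exact h2

variable {j q}

lemma ker_mulLeft (hq : q.IsHomogeneous 2) (hqj : IsUnit (q.coeff (Finsupp.single j 2))) :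
    LinearMap.ker (LinearMap.mulLeft R q) = ⊥ := by
  rw [Submodule.eq_bot_iff]
  intro g hg
  rw [LinearMap.mem_ker, LinearMap.mulLeft_apply] at hg
  apply core j q hq hqj g
  intro μ hμ
  rw [hg] at hμ
  simp at hμ

lemma li_q (hq : q.IsHomogeneous 2) (hqj : IsUnit (q.coeff (Finsupp.single j 2))) :
    LinearIndependent R
    (fun m : {m : σ →₀ ℕ // m.degree + 2 = n} => q * MvPolynomial.monomial m.1 (1 : R)) :=
  (li_mono' (R := R) n).map' (LinearMap.mulLeft R q) (ker_mulLeft hq hqj)

lemma disj (hq : q.IsHomogeneous 2) (hqj : IsUnit (q.coeff (Finsupp.single j 2))) :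
    Disjoint
      (Submodule.span R (Set.range
        (fun m : {m : σ →₀ ℕ // m.degree = n ∧ m j < 2} => MvPolynomial.monomial m.1 (1 : R))))
      (Submodule.span R (Set.range
        (fun m : {m : σ →₀ ℕ // m.degree + 2 = n} => q * MvPolynomial.monomial m.1 (1 : R)))) := by
  rw [Submodule.disjoint_def]
  intro x hx1 hx2
  have h1 : x ∈ MvPolynomial.restrictSupport R {μ : σ →₀ ℕ | μ j < 2} := by
    refine Submodule.span_le.mpr ?_ hx1
    rintro _ ⟨m, rfl⟩
    simp only [MvPolynomial.restrictSupport, SetLike.mem_coe]
    exact Finsupp.single_mem_supported R 1 m.2.2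
  have h2 : x ∈ LinearMap.range (LinearMap.mulLeft R q) := by
    refine Submodule.span_le.mpr ?_ hx2
    rintro _ ⟨m, rfl⟩
    exact ⟨_, rfl⟩
  obtain ⟨g, rfl⟩ := h2
  rw [LinearMap.mulLeft_apply]
  have : g = 0 := by
    apply core j q hq hqj g
    intro μ hμ
    simp only [MvPolynomial.restrictSupport, LinearMap.mulLeft_apply] at h1
    exact h1 hμ
  rw [this, mul_zero]

variable (j q)

/-- the family -/
noncomputable abbrev fam : {m : σ →₀ ℕ // m.degree = n ∧ m j < 2} ⊕ {m : σ →₀ ℕ // m.degree + 2 = n} →
    MvPolynomial σ R :=
  Sum.elim (fun m : {m : σ →₀ ℕ // m.degree = n ∧ m j < 2} => MvPolynomial.monomial m.1 (1 : R))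
    (fun m : {m : σ →₀ ℕ // m.degree + 2 = n} => q * MvPolynomial.monomial m.1 (1 : R))

variable {j q}

lemma span_le' (hq : q.IsHomogeneous 2) :
    Submodule.span R (Set.range (fam j q n)) ≤ MvPolynomial.homogeneousSubmodule σ R n := by
  rw [Submodule.span_le]
  rintro _ ⟨(a | b), rfl⟩
  · simp only [fam, Sum.elim_inl]
    exact MvPolynomial.isHomogeneous_monomial _ a.2.1
  · simp only [fam, Sum.elim_inr]
    have := hq.mul (MvPolynomial.isHomogeneous_monomial (1 : R) (rfl : b.1.degree = b.1.degree))
    rw [show 2 + b.1.degree = n by have := b.2; omega] at this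
    exact this

lemma mono_mem (hq : q.IsHomogeneous 2) (hqj : IsUnit (q.coeff (Finsupp.single j 2))) :
    ∀ k, ∀ μ : σ →₀ ℕ, μ.degree = n → μ j = k →
      MvPolynomial.monomial μ (1 : R) ∈ Submodule.span R (Set.range (fam j q n)) := by
  intro k
  induction k using Nat.strong_induction_on with
  | _ k ih =>
    intro μ hμ hk
    by_cases h2 : μ j < 2
    · exact Submodule.subset_span ⟨Sum.inl ⟨μ, hμ, h2⟩, rfl⟩
    · push_neg at h2
      have hle : Finsupp.single j 2 ≤ μ := by
        intro i
        by_cases hi : i = j
        · subst hi; simpa using h2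
        · simp [Ne.symm hi]
      obtain ⟨m, hμm⟩ : ∃ m, μ = Finsupp.single j 2 + m :=
        ⟨μ - Finsupp.single j 2, (add_tsub_cancel_of_le hle).symm⟩
      have hm : m.degree + 2 = n := by
        have := congrArg Finsupp.degree hμm
        rw [map_add, Finsupp.degree_single, hμ] at this
        omega
      have hmj : μ j = 2 + m j := by
        have := DFunLike.congr_fun hμm j
        simpa using this
      have hqm : q * MvPolynomial.monomial m (1 : R) ∈ Submodule.span R (Set.range (fam j q n)) :=
        Submodule.subset_span ⟨Sum.inr ⟨m, hm⟩, rfl⟩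
      have hexp : q * MvPolynomial.monomial m (1 : R)
          = ∑ s ∈ q.support, MvPolynomial.monomial (s + m) (q.coeff s) := by
        conv_lhs => rw [q.as_sum]
        rw [Finset.sum_mul]
        refine Finset.sum_congr rfl ?_
        intro s _
        rw [MvPolynomial.monomial_mul, mul_one]
      by_cases hmem : Finsupp.single j 2 ∈ q.support
      · rw [← Finset.add_sum_erase _ _ hmem] at hexp
        have hrest : ∑ s ∈ q.support.erase (Finsupp.single j 2),
            MvPolynomial.monomial (s + m) (q.coeff s) ∈
              Submodule.span R (Set.range (fam j q n)) := by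
          refine Submodule.sum_mem _ ?_
          intro s hs
          rw [Finset.mem_erase] at hs
          have hs1 : q.coeff s ≠ 0 := MvPolynomial.mem_support_iff.mp hs.2
          have hsdeg := homog_degree hq hs1
          have hsj : s j < 2 := by
            by_contra hcon
            push_neg at hcon
            exact hs.1 (eq_single_of_degree s j hsdeg hcon)
          have : MvPolynomial.monomial (s + m) (q.coeff s)
              = q.coeff s • MvPolynomial.monomial (s + m) (1 : R) := by
            rw [MvPolynomial.smul_monomial, smul_eq_mul, mul_one]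
          rw [this]
          apply Submodule.smul_mem
          refine ih ((s + m) j) ?_ (s + m) ?_ rfl
          · simp only [Finsupp.add_apply]; omega
          · rw [map_add, hsdeg]; omega
        have hu : MvPolynomial.monomial μ (q.coeff (Finsupp.single j 2)) ∈
            Submodule.span R (Set.range (fam j q n)) := by
          have : MvPolynomial.monomial μ (q.coeff (Finsupp.single j 2))
              = q * MvPolynomial.monomial m (1 : R) - ∑ s ∈ q.support.erase (Finsupp.single j 2),
                MvPolynomial.monomial (s + m) (q.coeff s) := by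
            rw [hexp, ← hμm]; ring
          rw [this]; exact Submodule.sub_mem _ hqm hrest
        obtain ⟨u, hu'⟩ := hqj
        have : MvPolynomial.monomial μ (1 : R)
            = (↑u⁻¹ : R) • MvPolynomial.monomial μ (q.coeff (Finsupp.single j 2)) := by
          rw [MvPolynomial.smul_monomial, smul_eq_mul, ← hu', Units.inv_mul]
        rw [this]; exact Submodule.smul_mem _ _ hu
      · have h0 : q.coeff (Finsupp.single j 2) = 0 := MvPolynomial.notMem_support_iff.mp hmem
        rw [h0] at hqj
        have hss : Subsingleton R := subsingleton_of_zero_eq_one (isUnit_zero_iff.mp hqj)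
        have : MvPolynomial.monomial μ (1 : R) = 0 := by
          rw [Subsingleton.elim (1 : R) 0, map_zero]
        rw [this]; exact Submodule.zero_mem _

lemma le_span (hq : q.IsHomogeneous 2) (hqj : IsUnit (q.coeff (Finsupp.single j 2))) :
    MvPolynomial.homogeneousSubmodule σ R n ≤ Submodule.span R (Set.range (fam j q n)) := by
  intro p hp
  rw [MvPolynomial.mem_homogeneousSubmodule] at hp
  rw [p.as_sum]
  refine Submodule.sum_mem _ ?_
  intro μ hμ
  have hc : p.coeff μ ≠ 0 := MvPolynomial.mem_support_iff.mp hμ
  have hdeg : μ.degree = n := by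
    have := hp hc
    rw [Finsupp.degree_eq_weight_one]
    exact this
  have : MvPolynomial.monomial μ (p.coeff μ) = p.coeff μ • MvPolynomial.monomial μ (1 : R) := by
    rw [MvPolynomial.smul_monomial, smul_eq_mul, mul_one]
  rw [this]
  exact Submodule.smul_mem _ _ (mono_mem n hq hqj (μ j) μ hdeg rfl)

theorem main (hq : q.IsHomogeneous 2) (hqj : IsUnit (q.coeff (Finsupp.single j 2))) :
    LinearIndependent R (fam j q n) ∧
      Submodule.span R (Set.range (fam j q n)) = MvPolynomial.homogeneousSubmodule σ R n := by
  refine ⟨?_, le_antisymm (span_le' n hq) (le_span n hq hqj)⟩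
  exact LinearIndependent.sum_type (li_mono j n) (li_q n hq hqj) (disj n hq hqj)

end main

end Groth.Agent.Lib.Helper26.QuadBasis
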