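import Mathlib

namespace Groth.Agent.Lib.Helper26.QuadChar2

universe u v

set_option linter.unusedSectionVars false
set_option linter.style.haveILetI false

theorem main
    (K : Type u) [Field K] [CharP K 2] [PerfectField K]
    (V : Type v) [AddCommGroup V] [Module K V] [FiniteDimensional K V]
    (hV : 2 < Module.finrank K V) (q : QuadraticForm K V)
    (hq : (QuadraticMap.polarBilin q).Nondegenerate) :
    ∃ v : V, v ≠ 0 ∧ q v = 0 := by
  haveI : Nontrivial V := Module.nontrivial_of_finrank_pos (R := K) (by omega)
  obtain ⟨x, hx⟩ := exists_ne (0 : V)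
  by_cases hqx : q x = 0
  · exact ⟨x, hx, hqx⟩
  -- the linear form `B x`
  let φ : V →ₗ[K] K := QuadraticMap.polarBilin q x
  have hker : 2 ≤ Module.finrank K (LinearMap.ker φ) := by
    have h1 := LinearMap.finrank_range_add_finrank_ker φ
    have h2 : Module.finrank K (LinearMap.range φ) ≤ 1 := by
      have := Submodule.finrank_le (LinearMap.range φ)
      rwa [Module.finrank_self] at this
    omega
  have hnot : ¬ LinearMap.ker φ ≤ Submodule.span K {x} := by
    intro hle
    have h1 := Submodule.finrank_mono hle
    have h2 : Module.finrank K (Submodule.span K {x}) ≤ 1 := (finrank_span_singleton (K := K) hx).le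
    omega
  obtain ⟨y, hyker, hyspan⟩ := SetLike.not_le_iff_exists.mp hnot
  have hpol : QuadraticMap.polar q x y = 0 := hyker
  -- square root
  haveI : ExpChar K 2 := ExpChar.prime Nat.prime_two
  obtain ⟨a, ha⟩ := surjective_frobenius K 2 (q y / q x)
  rw [frobenius_def] at ha
  refine ⟨a • x + y, ?_, ?_⟩
  · intro h0
    apply hyspan
    have : y = (-a) • x := by
      rw [neg_smul]
      exact eq_neg_of_add_eq_zero_right h0
    rw [this]
    exact Submodule.smul_mem _ _ (Submodule.mem_span_singleton_self x)
  · rw [QuadraticMap.map_add (⇑q), QuadraticMap.map_smul, QuadraticMap.polar_smul_left, hpol, smul_zero,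
      add_zero, smul_eq_mul, ← pow_two, ha, div_mul_cancel₀ _ hqx]
    have h2 : (2 : K) = 0 := CharP.ofNat_eq_zero K 2
    have : q y + q y = 2 * q y := by ring
    rw [this, h2, zero_mul]

end Groth.Agent.Lib.Helper26.QuadChar2
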