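import Mathlib
import Groth.Prelude.Def_DCoh4
import Groth.Agent.Lib.Helper26.RGPushC
import Groth.Agent.Lib.Helper26.OpenBC2
import Groth.Agent.Lib.Helper26.SuppD3

set_option maxHeartbeats 400000
set_option linter.style.haveILetI false
set_option linter.unusedSectionVars false
set_option linter.unusedSimpArgs false

universe u

open CategoryTheory CategoryTheory.Limits AlgebraicGeometry Opposite ZeroObject

namespace Groth.Agent.Lib.Helper26.RGPushD

open Groth.Agent.Lib.Helper26.RGPushA Groth.Agent.Lib.Helper26.RGPushC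
  Groth.Agent.Lib.Helper26.MVMod4

attribute [local instance] HasDerivedCategory.standard

variable {X Y : Scheme.{u}} (f : X ⟶ Y)

/-- `Γ(Y, f_* -) = Γ(X, -)` -/
noncomputable def gammaPushIso :
    Scheme.Modules.pushforward f ⋙ DCoh.gammaAb Y ≅ DCoh.gammaAb X :=
  NatIso.ofComponents (fun M => Iso.refl _) (fun f => by
    simp only [Iso.refl_hom, Category.comp_id, Category.id_comp]
    rfl)

section

variable [DCoh.HasRpush f] [DCoh.HasRΓ X] [DCoh.HasRΓ Y]

/-- rewriting global sections on `X` through the direct image -/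
noncomputable def e₀ : DCoh.gammaKh X ≅
    (Scheme.Modules.pushforward f).mapHomotopyCategory (ComplexShape.up ℤ) ⋙ DCoh.gammaKh Y :=
  Functor.isoWhiskerRight
    (Functor.mapHomotopyCategoryCompIso (gammaPushIso f) (ComplexShape.up ℤ)).symm
    DerivedCategory.Qh ≪≫ Functor.associator _ _ _

/-- the comparison natural transformation -/
noncomputable def γ : DCoh.gammaKh X ⟶ DerivedCategory.Qh ⋙ (DCoh.Rpush f ⋙ DCoh.RΓ Y) :=
  (e₀ f).hom ≫
    Functor.whiskerLeft _ ((DCoh.gammaKh Y).totalRightDerivedUnit DerivedCategory.Qh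
      (HomotopyCategory.quasiIso Y.Modules (ComplexShape.up ℤ))) ≫
    (Functor.associator _ _ _).inv ≫
    Functor.whiskerRight ((DCoh.pushKh f).totalRightDerivedUnit DerivedCategory.Qh
      (HomotopyCategory.quasiIso X.Modules (ComplexShape.up ℤ))) (DCoh.RΓ Y) ≫
    (Functor.associator _ _ _).hom

theorem part1 : Nonempty (DCoh.Rpush f ⋙ DCoh.RΓ Y ≅ DCoh.RΓ X) := by
  refine Groth.Agent.Lib.Helper26.OpenBC2.nonempty_iso_of_isIso_app (DCoh.gammaKh X) _ _ (γ f)
    ((DCoh.gammaKh X).totalRightDerivedUnit DerivedCategory.Qh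
      (HomotopyCategory.quasiIso X.Modules (ComplexShape.up ℤ))) ?_ ?_
  · intro I hI
    have h1 : IsIso (((DCoh.gammaKh Y).totalRightDerivedUnit DerivedCategory.Qh
      (HomotopyCategory.quasiIso Y.Modules (ComplexShape.up ℤ))).app
        (((Scheme.Modules.pushforward f).mapHomotopyCategory (ComplexShape.up ℤ)).obj
          ((HomotopyCategory.quotient _ _).obj I))) := isIso_unit_pushforward f I
    have h2 := Groth.Agent.Lib.Helper26.KInjComp.isIso_unit_of_isKInjective (DCoh.pushKh f) _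
      ((DCoh.pushKh f).totalRightDerivedUnit DerivedCategory.Qh
        (HomotopyCategory.quasiIso X.Modules (ComplexShape.up ℤ))) I
    simp only [γ, NatTrans.comp_app, Functor.whiskerLeft_app, Functor.whiskerRight_app,
      Functor.associator_hom_app, Functor.associator_inv_app]
    infer_instance
  · intro I hI
    exact Groth.Agent.Lib.Helper26.KInjComp.isIso_unit_of_isKInjective (DCoh.gammaKh X) _ _ I

end

theorem main (V : Y.Opens)
    [DCoh.HasRpush f] [DCoh.HasRΓ X] [DCoh.HasRΓ Y]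
    [DCoh.HasRΓ (V : Scheme.{u})] [DCoh.HasRΓ (f ⁻¹ᵁ V : Scheme.{u})]
    [PreservesFiniteLimits (Scheme.Modules.restrictFunctor V.ι)]
    [PreservesFiniteLimits (Scheme.Modules.restrictFunctor (f ⁻¹ᵁ V).ι)] :
    Nonempty (DCoh.Rpush f ⋙ DCoh.RΓ Y ≅ DCoh.RΓ X) ∧
    Nonempty (DCoh.restrictD (f ⁻¹ᵁ V).ι ⋙ DCoh.RΓ (f ⁻¹ᵁ V : Scheme.{u}) ≅
      DCoh.Rpush f ⋙ DCoh.restrictD V.ι ⋙ DCoh.RΓ (V : Scheme.{u})) := by
  refine ⟨part1 f, ?_⟩
  haveI := Groth.Agent.Lib.Helper26.SuppD3.hasRpush (f ∣_ V)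
  obtain ⟨e1⟩ := Groth.Agent.Lib.Helper26.OpenBC2.main f V
  obtain ⟨e2⟩ := part1 (f ∣_ V)
  exact ⟨(Functor.isoWhiskerLeft (DCoh.restrictD (f ⁻¹ᵁ V).ι) e2).symm ≪≫
    (Functor.associator _ _ _).symm ≪≫
    Functor.isoWhiskerRight e1.symm (DCoh.RΓ (V : Scheme.{u})) ≪≫ Functor.associator _ _ _⟩

end Groth.Agent.Lib.Helper26.RGPushD
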