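import Mathlib
import Groth.Agent.Lib.Helper26.RFSerre
import Groth.Agent.Lib.Helper26.WSerre
import Groth.Agent.Lib.Helper26.PlusBridge
import Groth.Agent.Lib.Helper26.KInjAdjH
import Groth.Agent.Lib.Helper26.CxC
import Groth.Agent.Lib.Helper26.MVMod4
import Groth.Agent.Lib.Helper26.SuppRes
import Groth.Agent.Lib.Helper2.LCQC
import Groth.Agent.Lib.Helper17.AffineSurj
import Groth.Agent.Lib.Helper17.CohKer
import Groth.Prelude.Def_DCoh2
import Groth.Prelude.Def_CohB1

set_option autoImplicit false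
set_option maxHeartbeats 400000
set_option linter.style.haveILetI false
set_option linter.unusedSectionVars false
universe u
open CategoryTheory CategoryTheory.Limits AlgebraicGeometry Opposite TopologicalSpace

attribute [local instance] HasDerivedCategory.standard

namespace Groth.Agent.Lib.Helper26.RGZPlus

open Groth.Agent.Lib.Helper26 DerivedCategory

variable {X : Scheme.{u}}

/-- quasi-coherent modules satisfy the five-term closure property -/
theorem qcoh_five (M₁ M₂ M₃ M₄ M₅ : X.Modules) (f₁ : M₁ ⟶ M₂) (f₂ : M₂ ⟶ M₃) (f₃ : M₃ ⟶ M₄)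
    (f₄ : M₄ ⟶ M₅) (w₁ : f₁ ≫ f₂ = 0) (w₂ : f₂ ≫ f₃ = 0) (w₃ : f₃ ≫ f₄ = 0)
    (e₁ : (ShortComplex.mk f₁ f₂ w₁).Exact) (e₂ : (ShortComplex.mk f₂ f₃ w₂).Exact)
    (e₃ : (ShortComplex.mk f₃ f₄ w₃).Exact) (h₁ : Coh.IsQCoh M₁) (h₂ : Coh.IsQCoh M₂)
    (h₄ : Coh.IsQCoh M₄) (h₅ : Coh.IsQCoh M₅) : Coh.IsQCoh M₃ := by
  refine WSerre.five (fun M : X.Modules => Coh.IsQCoh M) ?_ ?_ ?_ M₁ M₂ M₃ M₄ M₅ f₁ f₂ f₃ f₄
    w₁ w₂ w₃ e₁ e₂ e₃ h₁ h₂ h₄ h₅
  · intro M N f hM hN
    haveI : M.IsQuasicoherent := hM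
    haveI : N.IsQuasicoherent := hN
    exact Groth.Agent.Lib.Helper17.CohKer.isQuasicoherent_kernel f
  · intro M N f hM hN
    haveI : M.IsQuasicoherent := hM
    haveI : N.IsQuasicoherent := hN
    exact Groth.Agent.Lib.Helper17.CohKer.isQuasicoherent_cokernel f
  · intro S hS h1 h3
    haveI : S.X₁.IsQuasicoherent := h1
    haveI : S.X₃.IsQuasicoherent := h3
    exact Groth.Agent.Lib.Helper17.AffineSurj.isQuasicoherent_of_extension S hS

/-- the cohomology of a complex whose terms restrict to zero on `U` restricts to zero on `U` -/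
theorem isZero_restrict_homology (U : X.Opens) (K : CochainComplex X.Modules ℤ)
    (hK : ∀ n, IsZero ((Scheme.Modules.restrictFunctor U.ι).obj (K.X n))) (i : ℤ) :
    IsZero ((Scheme.Modules.restrictFunctor U.ι).obj (K.homology i)) := by
  let R := Scheme.Modules.restrictFunctor U.ι
  haveI : R.IsLeftAdjoint := (Scheme.Modules.restrictAdjunction U.ι).isLeftAdjoint
  haveI : R.IsRightAdjoint := (CxOX.extZeroAdj U.ι).isRightAdjoint
  haveI : Mono (R.map (K.iCycles i)) := inferInstance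
  haveI : Epi (R.map (K.homologyπ i)) := inferInstance
  have h1 : IsZero (R.obj (K.cycles i)) := IsZero.of_mono (R.map (K.iCycles i)) (hK i)
  exact IsZero.of_epi (R.map (K.homologyπ i)) h1

theorem main (X : Scheme.{u}) (U : X.Opens) [QuasiCompact U.ι] [EnoughInjectives X.Modules]
    (E : DerivedCategory.Plus X.Modules) (hE : DCoh.IsQCohD E.obj) :
    DCoh.IsQCohD ((DCoh.RgammaZPlus U.ι).obj E).obj ∧
    ∀ i : ℤ, CohB1.support (DCoh.HD ((DCoh.RgammaZPlus U.ι).obj E).obj i) ⊆ (U : Set X)ᶜ := by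
  let F := DCoh.gammaZ U.ι
  obtain ⟨L, n, hn, hL, ⟨e1⟩, ⟨e2⟩⟩ := PlusBridge.bridge F E
  haveI := hn
  haveI := hL
  have hH : ∀ i, DCoh.HD ((DCoh.RgammaZPlus U.ι).obj E).obj i ≅
      ((F.mapHomologicalComplex (ComplexShape.up ℤ)).obj L).homology i :=
    fun i => (homologyFunctor _ i).mapIso e2 ≪≫ (homologyFunctorFactors _ i).app _
  constructor
  · intro i
    have hK := KInjAdjH.hK (B := X.Modules)
    haveI : HasInjectiveResolutions X.Modules := inferInstance
    haveI : (F.mapHomotopyCategory (ComplexShape.up ℤ) ⋙ Qh).HasRightDerivedFunctor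
        (HomotopyCategory.quasiIso X.Modules (ComplexShape.up ℤ)) :=
      Groth.Agent.Lib.Helper8.KInjDer.hasRightDerivedFunctor hK _
    let RF := (F.mapHomotopyCategory (ComplexShape.up ℤ) ⋙ Qh).totalRightDerived Qh
      (HomotopyCategory.quasiIso X.Modules (ComplexShape.up ℤ))
    let β := (F.mapHomotopyCategory (ComplexShape.up ℤ) ⋙ Qh).totalRightDerivedUnit Qh
      (HomotopyCategory.quasiIso X.Modules (ComplexShape.up ℤ))
    haveI : L.IsKInjective := CochainComplex.isKInjective_of_injective L n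
    obtain ⟨e3⟩ := RFSerre.nonempty_iso_of_isKInjective hK F RF β L
    obtain ⟨a, ha⟩ := E.property
    haveI : E.obj.IsGE a := ha
    have key := RFSerre.serre hK F RF β (fun M : X.Modules => Coh.IsQCoh M)
      (fun M N e h => (SheafOfModules.isQuasicoherent.{u} X.ringCatSheaf).prop_of_iso e h)
      (fun M h => Groth.Agent.Lib.Helper2.RpushQC4.isQuasicoherent_of_isZero M h)
      qcoh_five (fun M : X.Modules => Coh.IsQCoh M)
      (fun M N e h => (SheafOfModules.isQuasicoherent.{u} X.ringCatSheaf).prop_of_iso e h)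
      (fun G hG p => by
        haveI : G.IsQuasicoherent := hG
        exact Groth.Agent.Lib.Helper2.LCQC.isQuasicoherent_HZshM U.ι G p)
      E.obj a hE i
    exact (SheafOfModules.isQuasicoherent.{u} X.ringCatSheaf).prop_of_iso
      ((homologyFunctor _ i).mapIso (RF.mapIso e1 ≪≫ e3 ≪≫ e2.symm)) key
  · intro i
    refine SuppRes.support_subset_compl _ U (IsZero.of_iso
      (isZero_restrict_homology U _ (fun k => CxC.isZero_restrict_gammaZ U.ι (L.X k)) i)
      ((Scheme.Modules.restrictFunctor U.ι).mapIso (hH i)))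

end Groth.Agent.Lib.Helper26.RGZPlus
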