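import Mathlib
import Groth.Agent.Lib.Helper26.K0Local

namespace Groth.Agent.Lib.Helper26.RankTwoQuot

open TensorProduct

universe u

variable (S R : Type u) [CommRing S] [CommRing R] [Algebra S R] [Module.Finite S R]
  [Module.Projective S R]

abbrev Q := R ⧸ LinearMap.range (Algebra.linearMap S R)

lemma fp : Module.FinitePresentation S (Q S R) := by
  have : Module.FinitePresentation S R := Module.finitePresentation_of_projective S R
  refine Module.finitePresentation_of_surjective (LinearMap.range (Algebra.linearMap S R)).mkQ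
    (Submodule.mkQ_surjective _) ?_
  rw [Submodule.ker_mkQ, LinearMap.range_eq_map]
  exact (Module.Finite.fg_top).map _

section loc

variable (A : Type u) [CommRing A] [Algebra S A] [IsLocalRing A]

lemma elt (x : IsLocalRing.ResidueField A ⊗[A] (A ⊗[S] S)) :
    ∃ c : IsLocalRing.ResidueField A, x = c ⊗ₜ[A] ((1 : A) ⊗ₜ[S] (1 : S)) := by
  induction x using TensorProduct.induction_on with
  | zero => exact ⟨0, by simp⟩
  | tmul c y =>
    have hy : y = (TensorProduct.AlgebraTensorModule.rid S A A y) • ((1 : A) ⊗ₜ[S] (1 : S)) := by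
      apply (TensorProduct.AlgebraTensorModule.rid S A A).injective
      simp
    refine ⟨(TensorProduct.AlgebraTensorModule.rid S A A y) • c, ?_⟩
    conv_lhs => rw [hy]
    rw [TensorProduct.tmul_smul, TensorProduct.smul_tmul']
  | add x y hx hy =>
    obtain ⟨c, rfl⟩ := hx
    obtain ⟨d, rfl⟩ := hy
    exact ⟨c + d, by rw [TensorProduct.add_tmul]⟩

lemma free_loc (h : Module.finrank A (A ⊗[S] R) = 2) : Module.Free A (A ⊗[S] Q S R) := by
  haveI : Module.Free A (A ⊗[S] R) := Module.free_of_flat_of_isLocalRing
  have hnt : Nontrivial (IsLocalRing.ResidueField A ⊗[A] (A ⊗[S] R)) := by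
    apply Module.nontrivial_of_finrank_pos (R := IsLocalRing.ResidueField A)
    rw [Module.finrank_baseChange, h]
    norm_num
  let f : A ⊗[S] S →ₗ[A] A ⊗[S] R := (Algebra.linearMap S R).baseChange A
  let g : A ⊗[S] R →ₗ[A] A ⊗[S] Q S R :=
    ((LinearMap.range (Algebra.linearMap S R)).mkQ).baseChange A
  have hg : Function.Surjective g := by
    rw [LinearMap.baseChange_eq_ltensor]
    exact LinearMap.lTensor_surjective _ (Submodule.mkQ_surjective _)
  have hfg : Function.Exact f g := by
    simp only [f, g]
    rw [LinearMap.baseChange_eq_ltensor, LinearMap.baseChange_eq_ltensor]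
    exact lTensor_exact A (LinearMap.exact_map_mkQ_range _) (Submodule.mkQ_surjective _)
  refine Module.free_of_lTensor_residueField_injective f g hg hfg ?_
  rw [injective_iff_map_eq_zero]
  intro x hx
  obtain ⟨c, rfl⟩ := elt S A x
  by_cases hc : c = 0
  · simp [hc]
  exfalso
  have h1 : c ⊗ₜ[A] ((1 : A) ⊗ₜ[S] (1 : R)) = 0 := by
    simpa [f] using hx
  have h2 : (1 : IsLocalRing.ResidueField A ⊗[A] (A ⊗[S] R)) = 0 := by
    rw [Algebra.TensorProduct.one_def, Algebra.TensorProduct.one_def]
    have : c⁻¹ • (c ⊗ₜ[A] ((1 : A) ⊗ₜ[S] (1 : R))) = 0 := by rw [h1, smul_zero]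
    rwa [TensorProduct.smul_tmul', smul_eq_mul, inv_mul_cancel₀ hc] at this
  exact one_ne_zero h2

end loc

theorem main (h2 : ∀ p : PrimeSpectrum S, Module.rankAtStalk (R := S) R p = 2) :
    Module.Projective S (R ⧸ LinearMap.range (Algebra.linearMap S R)) ∧
      ∀ p : PrimeSpectrum S,
        Module.rankAtStalk (R := S) (R ⧸ LinearMap.range (Algebra.linearMap S R)) p = 1 := by
  have := fp S R
  have hproj : Module.Projective S (Q S R) := by
    rw [← Module.freeLocus_eq_univ_iff, Set.eq_univ_iff_forall]
    intro p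
    rw [Module.mem_freeLocus_iff_tensor p (Localization.AtPrime p.asIdeal)]
    apply free_loc
    rw [← Module.rankAtStalk_eq_finrank_tensorProduct, h2]
  refine ⟨hproj, ?_⟩
  have hinj : Function.Injective (Algebra.linearMap S R) := by
    have := (Module.rankAtStalk_pos_iff_algebraMap_injective (R := S) (S := R)).mp
      (fun p => by rw [h2]; norm_num)
    exact this
  obtain ⟨e⟩ := K0Local.split (LinearMap.exact_map_mkQ_range (Algebra.linearMap S R)) hinj
    (Submodule.mkQ_surjective _)
  intro p
  have h3 := Module.rankAtStalk_eq_of_equiv (R := S) e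
  rw [Module.rankAtStalk_prod] at h3
  have h4 := congrFun h3 p
  have : Nontrivial S := p.nontrivial
  rw [h2, Pi.add_apply, Module.rankAtStalk_self, Pi.one_apply] at h4
  omega

end Groth.Agent.Lib.Helper26.RankTwoQuot
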