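import Mathlib
set_option maxHeartbeats 1600000
set_option linter.style.haveILetI false
namespace Groth.Agent.Lib.Helper26.ReflIC

universe u
variable {A K L : Type u} [CommRing A] [IsDomain A] [Field K] [Algebra A K] [IsFractionRing A K]
  [Field L] [Algebra K L] [Algebra A L] [IsScalarTower A K L]

/-- descend an `A`-linear map into `K` with values in `A` -/
noncomputable def descend {M : Type u} [AddCommGroup M] [Module A M] (ψ : M →ₗ[A] K)
    (h : ∀ y, ψ y ∈ LinearMap.range (Algebra.linearMap A K)) : M →ₗ[A] A :=
  (LinearEquiv.ofInjective (Algebra.linearMap A K) (IsFractionRing.injective A K)).symm.toLinearMap ∘ₗ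
    (ψ.codRestrict _ h)

lemma descend_spec {M : Type u} [AddCommGroup M] [Module A M] (ψ : M →ₗ[A] K)
    (h : ∀ y, ψ y ∈ LinearMap.range (Algebra.linearMap A K)) (y : M) :
    algebraMap A K (descend ψ h y) = ψ y := by
  have := (LinearEquiv.ofInjective (Algebra.linearMap A K)
    (IsFractionRing.injective A K)).apply_symm_apply (ψ.codRestrict _ h y)
  exact congrArg Subtype.val this

theorem main (A K L : Type u) [CommRing A] [IsDomain A] [IsNoetherianRing A]
    [IsIntegrallyClosed A] [Field K] [Algebra A K] [IsFractionRing A K] [Field L] [Algebra K L]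
    [FiniteDimensional K L]
    [Algebra A L] [IsScalarTower A K L] [Module.Finite A ↥(integralClosure A L)] :
    Module.IsReflexive A ↥(integralClosure A L) := by
  classical
  obtain ⟨s, bs, hbs⟩ := FiniteDimensional.exists_is_basis_integral A K L
  let B := integralClosure A L
  let bB : s → B := fun i => ⟨bs i, hbs i⟩
  have hinjK : Function.Injective (algebraMap A K) := IsFractionRing.injective A K
  -- generators and denominators
  obtain ⟨g, hg⟩ := (Module.Finite.fg_top : (⊤ : Submodule A B).FG)
  let coords : Finset K := (g ×ˢ (Finset.univ : Finset s)).image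
    (fun p : B × s => bs.coord p.2 (p.1 : L))
  obtain ⟨⟨d, hd⟩, hdint⟩ := IsLocalization.exist_integer_multiples_of_finset
    (nonZeroDivisors A) coords
  have hd0 : d ≠ 0 := nonZeroDivisors.ne_zero hd
  have hdK : algebraMap A K d ≠ 0 := fun h => hd0 (hinjK (by rw [h, map_zero]))
  -- the maps ψ i
  let ψ : s → (B →ₗ[A] K) := fun i =>
    (d • ((bs.coord i).restrictScalars A)) ∘ₗ B.val.toLinearMap
  have hψ : ∀ i (y : B), ψ i y = algebraMap A K d * bs.coord i (y : L) := by
    intro i y
    simp only [ψ, LinearMap.comp_apply, LinearMap.smul_apply, LinearMap.restrictScalars_apply,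
      Algebra.smul_def]
    rfl
  have hψrange : ∀ i (y : B), ψ i y ∈ LinearMap.range (Algebra.linearMap A K) := by
    intro i y
    have hy : y ∈ Submodule.span A (g : Set B) := by rw [hg]; trivial
    have hle : Submodule.span A (g : Set B) ≤
        (LinearMap.range (Algebra.linearMap A K)).comap (ψ i) := by
      rw [Submodule.span_le]
      intro z hz
      rw [SetLike.mem_coe, Submodule.mem_comap, hψ]
      obtain ⟨a, ha⟩ := hdint (bs.coord i (z : L))
        (Finset.mem_image.mpr ⟨(z, i), Finset.mem_product.mpr ⟨hz, Finset.mem_univ _⟩, rfl⟩)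
      refine ⟨a, ?_⟩
      rw [Algebra.linearMap_apply, ha, Algebra.smul_def]
    exact hle hy
  let φi : s → (B →ₗ[A] A) := fun i => descend (ψ i) (hψrange i)
  have hφi : ∀ i (y : B), algebraMap A K (φi i y) = algebraMap A K d * bs.coord i (y : L) := by
    intro i y
    rw [← hψ]; exact descend_spec _ _ y
  -- K-linear extension
  let φK : (B →ₗ[A] A) → (L →ₗ[K] K) := fun φ => ∑ i, algebraMap A K (φ (bB i)) • bs.coord i
  have hφK : ∀ (φ : B →ₗ[A] A) (l : L),
      φK φ l = ∑ i, algebraMap A K (φ (bB i)) * bs.coord i l := by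
    intro φ l
    simp only [φK, LinearMap.sum_apply, LinearMap.smul_apply, smul_eq_mul]
  -- Lemma C
  have hC : ∀ (φ : B →ₗ[A] A) (y : B), φK φ (y : L) = algebraMap A K (φ y) := by
    intro φ y
    have e1 : d • y = ∑ i, (φi i y) • bB i := by
      apply Subtype.ext
      have h1 : ((d • y : B) : L) = d • (y : L) := rfl
      have h2 : ((∑ i, (φi i y) • bB i : B) : L) = ∑ i, (φi i y) • (bs i) := by
        rw [← Subalgebra.coe_val, map_sum]
        rfl
      rw [h1, h2]
      conv_lhs => rw [← bs.sum_repr (y : L), Finset.smul_sum]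
      refine Finset.sum_congr rfl fun i _ => ?_
      rw [← algebraMap_smul K (φi i y) (bs i), hφi, ← algebraMap_smul K d, smul_smul]
      rfl
    have e2 := congrArg (fun z => algebraMap A K (φ z)) e1
    simp only [map_smul, map_sum, smul_eq_mul, map_mul] at e2
    rw [hφK]
    apply mul_left_cancel₀ hdK
    rw [e2, Finset.mul_sum]
    refine Finset.sum_congr rfl fun i _ => ?_
    rw [hφi]; ring
  -- uniqueness of the extension
  have hU : ∀ (φ : B →ₗ[A] A) (ψ' : L →ₗ[K] K),
      (∀ y : B, ψ' (y : L) = algebraMap A K (φ y)) → ψ' = φK φ := by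
    intro φ ψ' h
    apply bs.ext
    intro i
    have := hC φ (bB i)
    rw [this]
    exact h (bB i)
  -- φK of φi
  have hφiK : ∀ i (l : L), φK (φi i) l = algebraMap A K d * bs.coord i l := by
    intro i l
    have : (algebraMap A K d) • bs.coord i = φK (φi i) := by
      apply hU
      intro y
      rw [LinearMap.smul_apply, smul_eq_mul, hφi]
    rw [← this, LinearMap.smul_apply, smul_eq_mul]
  constructor
  constructor
  · -- injectivity
    rw [injective_iff_map_eq_zero]
    intro y hy
    apply Subtype.ext
    rw [ZeroMemClass.coe_zero]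
    apply bs.ext_elem
    intro i
    have h1 : φi i y = 0 := by
      have := LinearMap.congr_fun hy (φi i)
      simpa using this
    have h2 := hφi i y
    rw [h1, map_zero] at h2
    rw [map_zero, Finsupp.zero_apply]
    rcases mul_eq_zero.mp h2.symm with h | h
    · exact absurd h hdK
    · exact h
  · -- surjectivity
    intro θ
    let x : L := ∑ i, (algebraMap A K (θ (φi i)) / algebraMap A K d) • bs i
    -- E1
    have hE1 : ∀ φ : B →ₗ[A] A, φK φ x = algebraMap A K (θ φ) := by
      intro φ
      have e1 : d • φ = ∑ i, φ (bB i) • φi i := by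
        ext y
        apply hinjK
        simp only [LinearMap.smul_apply, LinearMap.sum_apply, smul_eq_mul, map_mul, map_sum]
        rw [← hC, hφK, Finset.mul_sum]
        refine Finset.sum_congr rfl fun i _ => ?_
        rw [hφi]; ring
      have e2 := congrArg (fun z => algebraMap A K (θ z)) e1
      simp only [map_smul, map_sum, smul_eq_mul, map_mul] at e2
      apply mul_left_cancel₀ hdK
      rw [e2]
      simp only [x, map_sum, map_smul, smul_eq_mul, Finset.mul_sum]
      refine Finset.sum_congr rfl fun i _ => ?_
      have : φK φ (bs i) = algebraMap A K (φ (bB i)) := hC φ (bB i)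
      rw [this]
      field_simp
    -- the module M
    let M : Submodule A L :=
      ⨅ φ : B →ₗ[A] A, (LinearMap.range (Algebra.linearMap A K)).comap ((φK φ).restrictScalars A)
    have hMmem : ∀ y : L, y ∈ M ↔ ∀ φ : B →ₗ[A] A, φK φ y ∈ LinearMap.range (Algebra.linearMap A K) := by
      intro y
      simp only [M, Submodule.mem_iInf, Submodule.mem_comap, LinearMap.restrictScalars_apply]
    have hBsubM : ∀ b : B, (b : L) ∈ M := by
      intro b
      rw [hMmem]
      intro φ
      exact ⟨φ b, (hC φ b).symm⟩
    have hM0 : M ≠ ⊥ := by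
      intro h
      have h1 : ((1 : B) : L) ∈ M := hBsubM 1
      rw [h, Submodule.mem_bot] at h1
      exact one_ne_zero h1
    have hMfg : M.FG := by
      let Λ : Submodule A L := Submodule.span A (Set.range fun i => (algebraMap A K d)⁻¹ • bs i)
      have hΛfg : Λ.FG := Submodule.fg_span (Set.finite_range _)
      haveI : IsNoetherian A Λ := isNoetherian_of_fg_of_noetherian Λ hΛfg
      have hle : M ≤ Λ := by
        intro y hy
        rw [hMmem] at hy
        rw [← bs.sum_repr y]
        refine Submodule.sum_mem _ fun i _ => ?_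
        obtain ⟨a, ha⟩ := hy (φi i)
        rw [hφiK, Algebra.linearMap_apply] at ha
        have : bs.repr y i = algebraMap A K a * (algebraMap A K d)⁻¹ := by
          rw [eq_mul_inv_iff_mul_eq₀ hdK, mul_comm, ha]
          rfl
        rw [this, mul_smul, algebraMap_smul]
        exact Submodule.smul_mem _ _ (Submodule.subset_span ⟨i, rfl⟩)
      haveI : IsNoetherian A M := isNoetherian_of_le hle
      exact (Submodule.fg_top M).mp (Module.Finite.fg_top)
    -- B M ⊆ M
    have hBM : ∀ (b : B) (y : L), y ∈ M → (b : L) * y ∈ M := by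
      intro b y hy
      rw [hMmem] at hy ⊢
      intro φ'
      let φ'' : B →ₗ[A] A := φ' ∘ₗ (LinearMap.mulLeft A b)
      have : (φK φ') ∘ₗ (LinearMap.mulLeft K (b : L)) = φK φ'' := by
        apply hU
        intro y'
        rw [LinearMap.comp_apply, LinearMap.mulLeft_apply]
        exact hC φ' (b * y')
      have h2 := hy φ''
      rw [← this, LinearMap.comp_apply, LinearMap.mulLeft_apply] at h2
      exact h2
    have hxM : ∀ y ∈ M, x • y ∈ M := by
      intro y hy
      rw [smul_eq_mul, hMmem]
      intro φ
      let ψ0 : B →ₗ[A] K :=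
        ((φK φ).restrictScalars A) ∘ₗ (LinearMap.mulRight A y) ∘ₗ B.val.toLinearMap
      have hψ0 : ∀ b : B, ψ0 b = φK φ ((b : L) * y) := fun b => rfl
      have hψ0r : ∀ b : B, ψ0 b ∈ LinearMap.range (Algebra.linearMap A K) := by
        intro b
        rw [hψ0]
        exact (hMmem _).mp (hBM b y hy) φ
      let ψ1 : B →ₗ[A] A := descend ψ0 hψ0r
      have : (φK φ) ∘ₗ (LinearMap.mulRight K y) = φK ψ1 := by
        apply hU
        intro b
        rw [LinearMap.comp_apply, LinearMap.mulRight_apply, descend_spec, hψ0]
      have h3 := hE1 ψ1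
      rw [← this, LinearMap.comp_apply, LinearMap.mulRight_apply] at h3
      exact ⟨θ ψ1, h3.symm⟩
    have hint : IsIntegral A x := isIntegral_of_smul_mem_submodule M hM0 hMfg x hxM
    refine ⟨⟨x, hint⟩, ?_⟩
    ext φ
    apply hinjK
    rw [Module.Dual.eval_apply, ← hE1 φ]
    exact (hC φ ⟨x, hint⟩).symm

end Groth.Agent.Lib.Helper26.ReflIC
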