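import Mathlib.CategoryTheory.Functor.ReflectsIso.Jointly
import Mathlib.CategoryTheory.Limits.Shapes.Diagonal

set_option autoImplicit false

universe u₁ v₁ u₂ v₂ w

namespace Groth.Agent.Lib.Helper26

open CategoryTheory CategoryTheory.Limits

/-- If a family of pullback-preserving functors jointly reflects isomorphisms among monomorphisms,
it jointly reflects all isomorphisms. -/
theorem isIso_of_forall_isIso_map_of_mono
    {E : Type u₁} [Category.{v₁} E] [HasPullbacks E]
    {κ : Type w} {E' : κ → Type u₂} [∀ k, Category.{v₂} (E' k)] (φ : ∀ k, E ⥤ E' k)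
    [∀ k, PreservesLimitsOfShape WalkingCospan (φ k)]
    (h : ∀ ⦃X Y : E⦄ (u : X ⟶ Y), Mono u → (∀ k, IsIso ((φ k).map u)) → IsIso u)
    ⦃X Y : E⦄ (f : X ⟶ Y) (hf : ∀ k, IsIso ((φ k).map f)) : IsIso f := by
  have hfst : ∀ k, IsIso ((φ k).map (pullback.fst f f)) := by
    intro k
    have hc := pullbackIsPullback f f
    have : Mono ((φ k).map f) := by have := hf k; infer_instance
    exact (mono_iff_isIso_fst ((isLimitMapConePullbackConeEquiv (φ k) pullback.condition).1
      (isLimitOfPreserves (φ k) hc))).1 this
  have hdiag : ∀ k, IsIso ((φ k).map (pullback.diagonal f)) := by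
    intro k
    have := hfst k
    have h1 : (φ k).map (pullback.diagonal f) ≫ (φ k).map (pullback.fst f f) = 𝟙 _ := by
      rw [← Functor.map_comp, pullback.diagonal_fst, CategoryTheory.Functor.map_id]
    have : IsIso ((φ k).map (pullback.diagonal f) ≫ (φ k).map (pullback.fst f f)) := by
      rw [h1]; infer_instance
    exact IsIso.of_isIso_comp_right _ ((φ k).map (pullback.fst f f))
  have : IsIso (pullback.diagonal f) := h _ inferInstance hdiag
  have : Mono f := (pullback.isIso_diagonal_iff f).1 this
  exact h f this hf

end Groth.Agent.Lib.Helper26
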