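import Mathlib
import Groth.Agent.Lib.Helper15.RelFP
set_option maxHeartbeats 400000
universe u
namespace Groth.Agent.Lib.Helper26.RelFPBase
open TensorProduct Groth.Agent.Lib.Helper15.RelFP

attribute [local instance] MvPolynomial.algebraMvPolynomial

/-- transfer of finite presentation between two module structures with the same scalar action -/
lemma fp_congr {P X : Type*} [CommRing P] [AddCommGroup X] (m₁ m₂ : Module P X)
    (h : ∀ (p : P) (x : X), m₁.smul p x = m₂.smul p x)
    (h1 : @Module.FinitePresentation P X _ _ m₁) : @Module.FinitePresentation P X _ _ m₂ := by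
  have : m₁ = m₂ := Module.ext' _ _ h
  subst this
  exact h1

section stepY
variable {P A : Type u} [CommRing P] [CommRing A] [Algebra P A]
  (M : Type u) [AddCommGroup M] [Module A M] [Module P M] [IsScalarTower P A M]
  [Module.FinitePresentation P M] (l : ℕ)

/-- Step Y: `A[w] ⊗_A M` is finitely presented over `P[w]`. -/
lemma stepY : Module.FinitePresentation (MvPolynomial (Fin l) P)
    (MvPolynomial (Fin l) A ⊗[A] M) :=
  Module.FinitePresentation.of_equiv
    (Algebra.IsPushout.cancelBaseChange P (MvPolynomial (Fin l) P) A (MvPolynomial (Fin l) A) M).symm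

end stepY


section stepX
variable {P A A' : Type u} [CommRing P] [CommRing A] [CommRing A'] [Algebra P A] [Algebra A A']

lemma stepX (hα : Function.Surjective (algebraMap P A))
    (M : Type u) [AddCommGroup M] [Module A M] [Module P M] [IsScalarTower P A M]
    [Module.FinitePresentation P M] (l : ℕ)
    (f : MvPolynomial (Fin l) A →ₐ[A] A') (hf : Function.Surjective f)
    (hker : (RingHom.ker f.toRingHom).FG) :
    FPvia (f.toRingHom.comp
      (algebraMap (MvPolynomial (Fin l) P) (MvPolynomial (Fin l) A))) (A' ⊗[A] M) := by
  letI instAwA' : Algebra (MvPolynomial (Fin l) A) A' := f.toRingHom.toAlgebra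
  haveI : IsScalarTower A (MvPolynomial (Fin l) A) A' :=
    IsScalarTower.of_algebraMap_eq (fun a => (f.commutes a).symm)
  haveI : Algebra.FiniteType P A := Algebra.FiniteType.of_surjective (Algebra.ofId P A) hα
  haveI : Module.FinitePresentation A M := fp_of_finiteType (P := P) (Q := A)
  -- `A'` is a finitely presented `A[w]`-module
  haveI : Module.FinitePresentation (MvPolynomial (Fin l) A) A' :=
    Module.finitePresentation_of_surjective (Algebra.linearMap (MvPolynomial (Fin l) A) A') hf
      (by
        have : LinearMap.ker (Algebra.linearMap (MvPolynomial (Fin l) A) A')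
            = RingHom.ker f.toRingHom := by
          ext x; rfl
        rw [this]; exact hker)
  haveI : Module.FinitePresentation (MvPolynomial (Fin l) A) (A' ⊗[A] M) :=
    Module.FinitePresentation.trans (MvPolynomial (Fin l) A) (A' ⊗[A] M) A'
  -- the surjection
  let g : MvPolynomial (Fin l) A ⊗[A] M →ₗ[MvPolynomial (Fin l) A] A' ⊗[A] M :=
    TensorProduct.AlgebraTensorModule.map (Algebra.linearMap (MvPolynomial (Fin l) A) A')
      (LinearMap.id : M →ₗ[A] M)
  have hg : Function.Surjective g := by
    intro t
    induction t using TensorProduct.induction_on with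
    | zero => exact ⟨0, map_zero _⟩
    | tmul a' m =>
      obtain ⟨a, rfl⟩ := hf a'
      exact ⟨a ⊗ₜ m, by simp [g]; rfl⟩
    | add x y hx hy =>
      obtain ⟨x', rfl⟩ := hx
      obtain ⟨y', rfl⟩ := hy
      exact ⟨x' + y', map_add _ _ _⟩
  have hkg : (LinearMap.ker g).FG := Module.FinitePresentation.fg_ker g hg
  -- structures over `P[w]`
  haveI hY : Module.FinitePresentation (MvPolynomial (Fin l) P) (MvPolynomial (Fin l) A ⊗[A] M) :=
    stepY M l
  letI instPwT : Module (MvPolynomial (Fin l) P) (A' ⊗[A] M) :=
    Module.compHom (A' ⊗[A] M) (algebraMap (MvPolynomial (Fin l) P) (MvPolynomial (Fin l) A))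
  haveI : IsScalarTower (MvPolynomial (Fin l) P) (MvPolynomial (Fin l) A) (A' ⊗[A] M) :=
    ⟨fun p a t => by
      show (algebraMap _ (MvPolynomial (Fin l) A) p * a) • t = algebraMap _ (MvPolynomial (Fin l) A) p • (a • t)
      rw [mul_smul]⟩
  have hsurj : Function.Surjective (algebraMap (MvPolynomial (Fin l) P) (MvPolynomial (Fin l) A)) :=
    MvPolynomial.map_surjective _ hα
  have hfp : Module.FinitePresentation (MvPolynomial (Fin l) P) (A' ⊗[A] M) := by
    refine Module.finitePresentation_of_surjective (g.restrictScalars (MvPolynomial (Fin l) P)) hg ?_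
    have : LinearMap.ker (g.restrictScalars (MvPolynomial (Fin l) P))
        = (LinearMap.ker g).restrictScalars (MvPolynomial (Fin l) P) := by
      ext x; rfl
    rw [this]
    exact hkg.restrictScalars_of_surjective hsurj
  -- compare the two module structures
  have key : ∀ (p : MvPolynomial (Fin l) P) (t : A' ⊗[A] M),
      (algebraMap (MvPolynomial (Fin l) P) (MvPolynomial (Fin l) A) p) • t
        = ((f.toRingHom.comp
            (algebraMap (MvPolynomial (Fin l) P) (MvPolynomial (Fin l) A))) p) • t := by
    intro p t
    induction t using TensorProduct.induction_on with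
    | zero => rw [smul_zero, smul_zero]
    | tmul a' m => rfl
    | add x y hx hy => rw [smul_add, smul_add, hx, hy]
  exact fp_congr instPwT (Module.compHom (A' ⊗[A] M) (f.toRingHom.comp
    (algebraMap (MvPolynomial (Fin l) P) (MvPolynomial (Fin l) A)))) (fun p t => key p t) hfp

end stepX


theorem main {R A A' : Type u} [CommRing R] [CommRing A] [CommRing A'] [Algebra R A]
    [Algebra A A'] [Algebra R A'] [IsScalarTower R A A']
    [Algebra.FinitePresentation A A'] (M : Type u) [AddCommGroup M] [Module A M] {n k : ℕ}
    (α : MvPolynomial (Fin n) R →ₐ[R] A) (hα : Function.Surjective α)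
    (hM : @Module.FinitePresentation (MvPolynomial (Fin n) R) (M) _ _ (Module.compHom (M) α.toRingHom))
    (γ : MvPolynomial (Fin k) R →ₐ[R] A') (hγ : Function.Surjective γ) :
    @Module.FinitePresentation (MvPolynomial (Fin k) R) (TensorProduct A A' M) _ _
      (Module.compHom (TensorProduct A A' M) γ.toRingHom) := by
  obtain ⟨l, f, hf, hker⟩ := Algebra.FinitePresentation.out (R := A) (A := A')
  letI instPA : Algebra (MvPolynomial (Fin n) R) A := α.toRingHom.toAlgebra
  letI instPM : Module (MvPolynomial (Fin n) R) M := Module.compHom M α.toRingHom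
  haveI : IsScalarTower (MvPolynomial (Fin n) R) A M :=
    ⟨fun p a m => by
      show (α p * a) • m = α p • (a • m)
      rw [mul_smul]⟩
  haveI : Module.FinitePresentation (MvPolynomial (Fin n) R) M := hM
  have h1 := stepX (P := MvPolynomial (Fin n) R) (A := A) (A' := A') hα M l f hf hker
  let ρ : MvPolynomial (Fin l) (MvPolynomial (Fin n) R) →ₐ[R] A' :=
    (f.restrictScalars R).comp (MvPolynomial.mapAlgHom α)
  have hρ : ρ.toRingHom = f.toRingHom.comp
      (algebraMap (MvPolynomial (Fin l) (MvPolynomial (Fin n) R)) (MvPolynomial (Fin l) A)) := by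
    ext x <;> rfl
  have hρs : Function.Surjective ρ := by
    intro a'
    obtain ⟨a, rfl⟩ := hf a'
    obtain ⟨p, rfl⟩ := MvPolynomial.map_surjective α.toRingHom hα a
    exact ⟨p, rfl⟩
  rw [← hρ] at h1
  exact (fpvia_indep (R := R) ρ hρs γ hγ).mp h1

end Groth.Agent.Lib.Helper26.RelFPBase
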