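import Mathlib
import Groth.Agent.Lib.Helper15.RelFP
import Groth.Agent.Lib.Helper26.RelFPBase
set_option maxHeartbeats 400000
universe u
namespace Groth.Agent.Lib.Helper26.RelFPBase2
open TensorProduct Groth.Agent.Lib.Helper15.RelFP Groth.Agent.Lib.Helper26.RelFPBase

attribute [local instance] MvPolynomial.algebraMvPolynomial

theorem main {R A R' A' : Type u} [CommRing R] [CommRing A] [CommRing R'] [CommRing A']
    [Algebra R A] [Algebra R R'] [Algebra A A'] [Algebra R' A'] [Algebra R A'] [IsScalarTower R A A'] [IsScalarTower R R' A']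
    [Algebra.IsPushout R A R' A'] (M : Type u) [AddCommGroup M] [Module A M] {n k : ℕ}
    (α : MvPolynomial (Fin n) R →ₐ[R] A) (hα : Function.Surjective α)
    (hM : @Module.FinitePresentation (MvPolynomial (Fin n) R) M _ _ (Module.compHom M α.toRingHom))
    (γ : MvPolynomial (Fin k) R' →ₐ[R'] A') (hγ : Function.Surjective γ) :
    @Module.FinitePresentation (MvPolynomial (Fin k) R') (TensorProduct A A' M) _ _
      (Module.compHom (TensorProduct A A' M) γ.toRingHom) := by
  -- the induced presentation of `A'`
  let α' : MvPolynomial (Fin n) R' →ₐ[R'] A' :=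
    MvPolynomial.aeval (fun i => algebraMap A A' (α (MvPolynomial.X i)))
  letI instPA : Algebra (MvPolynomial (Fin n) R) A := α.toRingHom.toAlgebra
  letI instP'A' : Algebra (MvPolynomial (Fin n) R') A' := α'.toRingHom.toAlgebra
  letI instPA' : Algebra (MvPolynomial (Fin n) R) A' :=
    ((algebraMap A A').comp (algebraMap (MvPolynomial (Fin n) R) A)).toAlgebra
  haveI t1 : IsScalarTower (MvPolynomial (Fin n) R) A A' := IsScalarTower.of_algebraMap_eq' rfl
  have hcomm : ∀ p : MvPolynomial (Fin n) R,
      algebraMap A A' (α p) = α' (MvPolynomial.map (algebraMap R R') p) := by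
    intro p
    induction p using MvPolynomial.induction_on with
    | C r =>
      rw [MvPolynomial.map_C, ← MvPolynomial.algebraMap_eq, ← MvPolynomial.algebraMap_eq,
        AlgHom.commutes, AlgHom.commutes, ← IsScalarTower.algebraMap_apply,
        ← IsScalarTower.algebraMap_apply]
    | add p q hp hq => simp only [map_add, hp, hq]
    | mul_X p i hp => simp only [map_mul, hp, MvPolynomial.map_X, α', MvPolynomial.aeval_X]
  haveI t2 : IsScalarTower (MvPolynomial (Fin n) R) (MvPolynomial (Fin n) R') A' :=
    IsScalarTower.of_algebraMap_eq (fun p => hcomm p)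
  haveI t3 : IsScalarTower R' (MvPolynomial (Fin n) R') A' :=
    IsScalarTower.of_algebraMap_eq (fun r => (α'.commutes r).symm)
  haveI t4 : IsScalarTower R (MvPolynomial (Fin n) R) A :=
    IsScalarTower.of_algebraMap_eq (fun r => (α.commutes r).symm)
  haveI t5 : IsScalarTower R (MvPolynomial (Fin n) R') A' :=
    IsScalarTower.of_algebraMap_eq (fun r => by
      rw [IsScalarTower.algebraMap_apply R R' A', IsScalarTower.algebraMap_apply R' (MvPolynomial (Fin n) R') A',
        ← IsScalarTower.algebraMap_apply R R' (MvPolynomial (Fin n) R')])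
  haveI hpo : Algebra.IsPushout (MvPolynomial (Fin n) R) A (MvPolynomial (Fin n) R') A' :=
    (Algebra.IsPushout.comp_iff R (MvPolynomial (Fin n) R) R' (T := A) (T' := A')
      (S' := MvPolynomial (Fin n) R')).mp inferInstance
  letI instPM : Module (MvPolynomial (Fin n) R) M := Module.compHom M α.toRingHom
  haveI : IsScalarTower (MvPolynomial (Fin n) R) A M :=
    ⟨fun p a m => by
      show (α p * a) • m = α p • (a • m)
      rw [mul_smul]⟩
  haveI : Module.FinitePresentation (MvPolynomial (Fin n) R) M := hM
  haveI hpo' : Algebra.IsPushout (MvPolynomial (Fin n) R) (MvPolynomial (Fin n) R') A A' := hpo.symm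
  have hfp : Module.FinitePresentation (MvPolynomial (Fin n) R') (A' ⊗[A] M) :=
    Module.FinitePresentation.of_equiv
      (Algebra.IsPushout.cancelBaseChange (MvPolynomial (Fin n) R) (MvPolynomial (Fin n) R') A A' M).symm
  have key : ∀ (p : MvPolynomial (Fin n) R') (t : A' ⊗[A] M), p • t = (α'.toRingHom p) • t := by
    intro p t
    induction t using TensorProduct.induction_on with
    | zero => rw [smul_zero, smul_zero]
    | tmul a' m => rfl
    | add x y hx hy => rw [smul_add, smul_add, hx, hy]
  have h1 : FPvia α'.toRingHom (A' ⊗[A] M) :=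
    fp_congr _ (Module.compHom (A' ⊗[A] M) α'.toRingHom) (fun p t => key p t) hfp
  have hα' : Function.Surjective α' := by
    intro x
    have hbc : IsBaseChange A (IsScalarTower.toAlgHom R R' A').toLinearMap :=
      (Algebra.IsPushout.out : IsBaseChange A (IsScalarTower.toAlgHom R R' A').toLinearMap)
    induction x using hbc.inductionOn with
    | zero => exact ⟨0, map_zero _⟩
    | tmul r' => exact ⟨MvPolynomial.C r', by simp [α']⟩
    | smul a y hy =>
      obtain ⟨q, rfl⟩ := hy
      obtain ⟨p, rfl⟩ := hα a
      refine ⟨MvPolynomial.map (algebraMap R R') p * q, ?_⟩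
      rw [map_mul, ← hcomm, Algebra.smul_def]
    | add y z hy hz =>
      obtain ⟨p, rfl⟩ := hy
      obtain ⟨q, rfl⟩ := hz
      exact ⟨p + q, map_add _ _ _⟩
  exact (fpvia_mvPolynomial_indep (R := R') α' hα' γ hγ).mp h1

end Groth.Agent.Lib.Helper26.RelFPBase2
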