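import Mathlib

set_option maxHeartbeats 400000

namespace Groth.Agent.Lib.Helper26.ResDet

open PowerSeries

universe u

variable {R : Type u} [CommRing R]

/-- geometric series `1/(1 + a t)` -/
noncomputable def G (a : R) : PowerSeries R := PowerSeries.mk (fun m => (-a) ^ m)

lemma coeff_lin_mul_succ (a : R) (f : PowerSeries R) (m : ℕ) :
    coeff (m + 1) ((1 + C a * X) * f) = coeff (m + 1) f + a * coeff m f := by
  rw [add_mul, one_mul, map_add, mul_assoc, coeff_C_mul, coeff_succ_X_mul]

lemma coeff_lin_mul_zero (a : R) (f : PowerSeries R) :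
    coeff 0 ((1 + C a * X) * f) = coeff 0 f := by
  rw [add_mul, one_mul, map_add, mul_assoc, coeff_C_mul, coeff_zero_X_mul, mul_zero, add_zero]

lemma G_mul (a : R) : (1 + C a * X) * G a = 1 := by
  ext n
  rcases n with _ | n
  · rw [coeff_lin_mul_zero, G, coeff_mk, pow_zero, coeff_zero_one]
  · rw [coeff_lin_mul_succ, G, coeff_mk, coeff_mk, coeff_one, if_neg (by omega), pow_succ]
    ring

/-- recurrence beyond the degree of `b` -/
lemma rec_coeff (b : PowerSeries R) (e : ℕ) (hb : ∀ m, e < m → coeff m b = 0) (a : R) (m : ℕ)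
    (hm : e ≤ m) : coeff (m + 1) (b * G a) = (-a) * coeff m (b * G a) := by
  have h1 : b = (1 + C a * X) * (b * G a) := by
    rw [mul_comm b, ← mul_assoc, G_mul, one_mul]
  have h2 := hb (m + 1) (by omega)
  rw [h1, coeff_lin_mul_succ] at h2
  linear_combination h2

lemma coeff_shift (b : PowerSeries R) (e : ℕ) (hb : ∀ m, e < m → coeff m b = 0) (a : R) (j : ℕ) :
    coeff (e + j) (b * G a) = (-a) ^ j * coeff e (b * G a) := by
  induction j with
  | zero => simp
  | succ j ih =>
    rw [← add_assoc, rec_coeff b e hb a (e + j) (by omega), ih, pow_succ]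
    ring

/-- the partial quotients -/
noncomputable def Pser (b : PowerSeries R) {d : ℕ} (α : Fin d → R) (i : Fin d) : PowerSeries R :=
  b * ∏ l : Fin d, if l ≤ i then G (α l) else 1

/-- the matrix -/
noncomputable def Mmat (b : PowerSeries R) (e : ℕ) {d : ℕ} (α : Fin d → R) :
    Matrix (Fin d) (Fin d) R :=
  Matrix.of fun i j => if (i : ℕ) ≤ e + (j : ℕ) then coeff (e + (j : ℕ) - (i : ℕ)) (Pser b α i) else 0

lemma Pser_zero (b : PowerSeries R) {d : ℕ} (α : Fin (d + 1) → R) :
    Pser b α 0 = b * G (α 0) := by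
  unfold Pser
  rw [Fin.prod_univ_succ, if_pos le_rfl]
  have : ∀ l : Fin d, (if l.succ ≤ (0 : Fin (d + 1)) then G (α l.succ) else 1) = 1 := by
    intro l
    rw [if_neg]
    exact fun h => absurd h (by simp [Fin.le_def])
  simp only [this, Finset.prod_const_one, mul_one]

lemma Pser_succ (b : PowerSeries R) {d : ℕ} (α : Fin (d + 1) → R) (i : Fin d) :
    (1 + C (α 0) * X) * Pser b α i.succ = Pser b (fun l => α l.succ) i := by
  unfold Pser
  rw [Fin.prod_univ_succ, if_pos (Fin.zero_le _)]
  have : ∀ l : Fin d, (if l.succ ≤ i.succ then G (α l.succ) else 1) =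
      (if l ≤ i then G (α l.succ) else 1) := by
    intro l
    simp only [Fin.succ_le_succ_iff]
  simp only [this]
  calc (1 + C (α 0) * X) * (b * (G (α 0) * ∏ l : Fin d, if l ≤ i then G (α l.succ) else 1))
      = ((1 + C (α 0) * X) * G (α 0)) * (b * ∏ l : Fin d, if l ≤ i then G (α l.succ) else 1) := by
        ring
    _ = _ := by rw [G_mul, one_mul]

theorem det_Mmat (b : PowerSeries R) (e : ℕ) (hb : ∀ m, e < m → coeff m b = 0) :
    ∀ (d : ℕ) (α : Fin d → R), ∏ i : Fin d, coeff e (b * G (α i)) = (Mmat b e α).det := by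
  intro d
  induction d with
  | zero => intro α; simp
  | succ d ih =>
    intro α
    set α' : Fin d → R := fun l => α l.succ with hα'
    -- the column-reduced matrix
    let B : Matrix (Fin (d + 1)) (Fin (d + 1)) R := Matrix.of fun i j =>
      Fin.cases (Mmat b e α i 0) (fun j' => Mmat b e α i j'.succ + α 0 * Mmat b e α i j'.castSucc) j
    have hdet : (Mmat b e α).det = B.det := by
      apply Matrix.det_eq_of_forall_col_eq_smul_add_pred (fun _ => -α 0)
      · intro i; rfl
      · intro i j
        show Mmat b e α i j.succ = (Mmat b e α i j.succ + α 0 * Mmat b e α i j.castSucc) +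
          -α 0 * Mmat b e α i j.castSucc
        ring
    have hB0 : ∀ j : Fin d, B 0 j.succ = 0 := by
      intro j
      show Mmat b e α 0 j.succ + α 0 * Mmat b e α 0 j.castSucc = 0
      simp only [Mmat, Matrix.of_apply, Fin.val_zero, Nat.zero_le, if_true, Nat.sub_zero,
        Fin.val_succ, Fin.coe_castSucc, Pser_zero]
      rw [← add_assoc, rec_coeff b e hb (α 0) (e + j) (by omega)]
      ring
    have hB00 : B 0 0 = coeff e (b * G (α 0)) := by
      show Mmat b e α 0 0 = _
      simp only [Mmat, Matrix.of_apply, Fin.val_zero, Nat.zero_le, if_true, Nat.sub_zero,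
        add_zero, Pser_zero]
    have hBsub : B.submatrix Fin.succ Fin.succ = Mmat b e α' := by
      ext i j
      show Mmat b e α i.succ j.succ + α 0 * Mmat b e α i.succ j.castSucc = Mmat b e α' i j
      simp only [Mmat, Matrix.of_apply, Fin.val_succ, Fin.coe_castSucc]
      rw [← Pser_succ b α i]
      by_cases h1 : (i : ℕ) ≤ e + (j : ℕ)
      · rw [if_pos (by omega), if_pos h1]
        have hidx : e + ((j : ℕ) + 1) - ((i : ℕ) + 1) = e + (j : ℕ) - (i : ℕ) := by omega
        rw [hidx]
        by_cases h2 : (i : ℕ) + 1 ≤ e + (j : ℕ)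
        · rw [if_pos h2]
          obtain ⟨m, hm⟩ : ∃ m, e + (j : ℕ) - (i : ℕ) = m + 1 := ⟨e + j - i - 1, by omega⟩
          have hidx2 : e + (j : ℕ) - ((i : ℕ) + 1) = m := by omega
          rw [hm, hidx2, coeff_lin_mul_succ]
        · rw [if_neg h2]
          have hm : e + (j : ℕ) - (i : ℕ) = 0 := by omega
          rw [hm, coeff_lin_mul_zero, mul_zero, add_zero]
      · rw [if_neg (by omega), if_neg (by omega), if_neg h1, mul_zero, add_zero]
    rw [hdet, Matrix.det_succ_row_zero, Fin.sum_univ_succ, Fin.prod_univ_succ]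
    have hrest : ∑ j : Fin d, (-1) ^ ((j.succ : Fin (d + 1)) : ℕ) * B 0 j.succ *
        (B.submatrix Fin.succ j.succ.succAbove).det = 0 := by
      apply Finset.sum_eq_zero
      intro j _
      rw [hB0 j, mul_zero, zero_mul]
    rw [hrest, add_zero, Fin.val_zero, pow_zero, one_mul, hB00, Fin.succAbove_zero, hBsub, ← ih α']

/-- the numerator -/
noncomputable def bser {e : ℕ} (β : Fin e → R) : PowerSeries R := ∏ j : Fin e, (1 + C (β j) * X)

lemma bser_coeff_zero : ∀ {e : ℕ} (β : Fin e → R) (m : ℕ), e < m → coeff m (bser β) = 0 := by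
  intro e
  induction e with
  | zero =>
    intro β m hm
    unfold bser
    rw [Fin.prod_univ_zero, coeff_one, if_neg (by omega)]
  | succ e ih =>
    intro β m hm
    unfold bser
    rw [Fin.prod_univ_succ]
    obtain ⟨m', rfl⟩ : ∃ m', m = m' + 1 := ⟨m - 1, by omega⟩
    rw [coeff_lin_mul_succ]
    have h1 := ih (fun j => β j.succ) (m' + 1) (by omega)
    have h2 := ih (fun j => β j.succ) m' (by omega)
    unfold bser at h1 h2
    rw [h1, h2, mul_zero, add_zero]

lemma bser_top : ∀ {e : ℕ} (β : Fin e → R) (a : R),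
    coeff e (bser β * G a) = ∏ j : Fin e, (β j - a) := by
  intro e
  induction e with
  | zero =>
    intro β a
    unfold bser
    rw [Fin.prod_univ_zero, one_mul, Fin.prod_univ_zero, G, coeff_mk, pow_zero]
  | succ e ih =>
    intro β a
    have hb' := bser_coeff_zero (fun j => β j.succ)
    have hstep : bser β = (1 + C (β 0) * X) * bser (fun j => β j.succ) := by
      unfold bser; rw [Fin.prod_univ_succ]
    rw [hstep, mul_assoc, coeff_lin_mul_succ, rec_coeff _ e hb' a e le_rfl, ih, Fin.prod_univ_succ]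
    ring

theorem main (d e : ℕ) (α : Fin d → R) (β : Fin e → R) :
    ∏ i : Fin d, ∏ j : Fin e, (β j - α i) =
      (Matrix.of fun i j : Fin d =>
        if (i : ℕ) ≤ e + (j : ℕ) then
          PowerSeries.coeff (e + (j : ℕ) - (i : ℕ))
            ((∏ j : Fin e, (1 + PowerSeries.C (β j) * PowerSeries.X)) *
              ∏ l : Fin d, if l ≤ i then PowerSeries.mk (fun m => (-α l) ^ m) else 1)
        else 0).det := by
  have h := det_Mmat (bser β) e (bser_coeff_zero β) d α
  simp_rw [bser_top] at h
  rw [h]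
  rfl

end Groth.Agent.Lib.Helper26.ResDet
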