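import Groth.Prelude.Def_GLin
import Mathlib.RingTheory.HopfAlgebra.Basic
import Mathlib.RingTheory.HopfAlgebra.Convolution
import Mathlib.RingTheory.Flat.Basic
import Mathlib.RingTheory.Flat.FaithfullyFlat.Basic

/-!
# The shear automorphism of a comodule algebra over a commutative Hopf algebra (helper26)

`Φ (s ⊗ h) = ρ(s) (1 ⊗ h)` is an algebra automorphism of `S ⊗ H`, with inverse
`Ψ (s ⊗ h) = (id ⊗ antipode)(ρ s) (1 ⊗ h)`.
-/

open TensorProduct

universe u v w

namespace Groth.Agent.Lib.Helper26.Shear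

open HopfRep

section Shear

variable {k : Type u} [CommRing k] {H : Type v} [CommRing H] [HopfAlgebra k H]
  {S : Type w} [CommRing S] [Algebra k S] [Comod k H S] [GLin.IsCoactAlg k H S]

variable (k H S) in
/-- `(id ⊗ antipode) ∘ ρ` -/
noncomputable def sigma : S →ₐ[k] S ⊗[k] H :=
  (Algebra.TensorProduct.map (AlgHom.id k S) (HopfAlgebra.antipodeAlgHom k H)).comp
    (GLin.coactAlgHom k H S)

variable (k H S) in
/-- the shear map -/
noncomputable def Phi : S ⊗[k] H →ₐ[k] S ⊗[k] H :=
  Algebra.TensorProduct.productMap (GLin.coactAlgHom k H S) Algebra.TensorProduct.includeRight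

variable (k H S) in
/-- the inverse shear map -/
noncomputable def Psi : S ⊗[k] H →ₐ[k] S ⊗[k] H :=
  Algebra.TensorProduct.productMap (sigma k H S) Algebra.TensorProduct.includeRight

theorem Phi_tmul (s : S) (h : H) :
    Phi k H S (s ⊗ₜ[k] h) = Comod.coact (k := k) (A := H) s * ((1 : S) ⊗ₜ[k] h) := by
  simp [Phi]

theorem Psi_tmul (s : S) (h : H) :
    Psi k H S (s ⊗ₜ[k] h) = sigma k H S s * ((1 : S) ⊗ₜ[k] h) := by
  simp [Psi]

theorem sigma_apply (s : S) :
    sigma k H S s = (HopfAlgebra.antipode k (A := H)).lTensor S (Comod.coact (k := k) (A := H) s) := by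
  rw [sigma, AlgHom.comp_apply, GLin.coactAlgHom_apply]
  generalize Comod.coact (k := k) (A := H) s = z
  induction z using TensorProduct.induction_on with
  | zero => simp
  | tmul a b => simp
  | add x y hx hy => rw [map_add, map_add, hx, hy]

theorem aux1 (z : S ⊗[k] H) (h : H) :
    z * ((1 : S) ⊗ₜ[k] HopfAlgebra.antipode k h) =
      (LinearMap.mul' k H ∘ₗ (HopfAlgebra.antipode k (A := H)).lTensor H).lTensor S
        (TensorProduct.assoc k S H H (z ⊗ₜ[k] h)) := by
  induction z using TensorProduct.induction_on with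
  | zero => simp
  | tmul a b => simp
  | add x y hx hy => rw [add_mul, TensorProduct.add_tmul, map_add, map_add, hx, hy]

theorem aux2 (z : S ⊗[k] H) (h : H) :
    (HopfAlgebra.antipode k (A := H)).lTensor S z * ((1 : S) ⊗ₜ[k] h) =
      (LinearMap.mul' k H ∘ₗ (HopfAlgebra.antipode k (A := H)).rTensor H).lTensor S
        (TensorProduct.assoc k S H H (z ⊗ₜ[k] h)) := by
  induction z using TensorProduct.induction_on with
  | zero => simp
  | tmul a b => simp
  | add x y hx hy => rw [map_add, add_mul, TensorProduct.add_tmul, map_add, map_add, hx, hy]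

theorem Phi_lTensor_antipode (y : S ⊗[k] H) :
    Phi k H S ((HopfAlgebra.antipode k (A := H)).lTensor S y) =
      (LinearMap.mul' k H ∘ₗ (HopfAlgebra.antipode k (A := H)).lTensor H).lTensor S
        (TensorProduct.assoc k S H H ((Comod.coact (k := k) (A := H) (V := S)).rTensor H y)) := by
  induction y using TensorProduct.induction_on with
  | zero => simp
  | tmul s h => rw [LinearMap.lTensor_tmul, Phi_tmul, aux1, LinearMap.rTensor_tmul]
  | add x y hx hy => simp only [map_add, hx, hy]

theorem Psi_eq (y : S ⊗[k] H) :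
    Psi k H S y =
      (LinearMap.mul' k H ∘ₗ (HopfAlgebra.antipode k (A := H)).rTensor H).lTensor S
        (TensorProduct.assoc k S H H ((Comod.coact (k := k) (A := H) (V := S)).rTensor H y)) := by
  induction y using TensorProduct.induction_on with
  | zero => simp
  | tmul s h => rw [Psi_tmul, sigma_apply, aux2, LinearMap.rTensor_tmul]
  | add x y hx hy => simp only [map_add, hx, hy]

theorem coassoc_apply (s : S) :
    TensorProduct.assoc k S H H ((Comod.coact (k := k) (A := H) (V := S)).rTensor H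
      (Comod.coact (k := k) (A := H) s)) =
    (Coalgebra.comul (R := k) (A := H)).lTensor S (Comod.coact (k := k) (A := H) s) :=
  LinearMap.congr_fun (Comod.coassoc (k := k) (A := H) (V := S)) s

theorem lTensor_unit_counit_coact (s : S) :
    (Algebra.linearMap k H ∘ₗ Coalgebra.counit (R := k) (A := H)).lTensor S
      (Comod.coact (k := k) (A := H) s) = s ⊗ₜ[k] (1 : H) := by
  rw [LinearMap.lTensor_comp_apply]
  have h := LinearMap.congr_fun (Comod.counit_comp (k := k) (A := H) (V := S)) s
  simp only [LinearMap.comp_apply, LinearMap.flip_apply, TensorProduct.mk_apply] at h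
  rw [h, LinearMap.lTensor_tmul, Algebra.linearMap_apply, map_one]

theorem Phi_sigma (s : S) : Phi k H S (sigma k H S s) = s ⊗ₜ[k] (1 : H) := by
  rw [sigma_apply, Phi_lTensor_antipode, coassoc_apply, ← LinearMap.lTensor_comp_apply,
    LinearMap.comp_assoc, HopfAlgebra.mul_antipode_lTensor_comul, lTensor_unit_counit_coact]

theorem Psi_coact (s : S) :
    Psi k H S (Comod.coact (k := k) (A := H) s) = s ⊗ₜ[k] (1 : H) := by
  rw [Psi_eq, coassoc_apply, ← LinearMap.lTensor_comp_apply,
    LinearMap.comp_assoc, HopfAlgebra.mul_antipode_rTensor_comul, lTensor_unit_counit_coact]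

theorem Phi_comp_Psi : (Phi k H S).comp (Psi k H S) = AlgHom.id k _ := by
  apply Algebra.TensorProduct.ext'
  intro s h
  rw [AlgHom.comp_apply, Psi_tmul, map_mul, Phi_sigma, Phi_tmul]
  have : Comod.coact (k := k) (A := H) (1 : S) = 1 := GLin.IsCoactAlg.coact_one
  rw [this, one_mul, Algebra.TensorProduct.tmul_mul_tmul, one_mul, mul_one]
  rfl

theorem Psi_comp_Phi : (Psi k H S).comp (Phi k H S) = AlgHom.id k _ := by
  apply Algebra.TensorProduct.ext'
  intro s h
  rw [AlgHom.comp_apply, Phi_tmul, map_mul, Psi_coact, Psi_tmul]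
  have : sigma k H S (1 : S) = 1 := map_one _
  rw [this, one_mul, Algebra.TensorProduct.tmul_mul_tmul, one_mul, mul_one]
  rfl

variable (k H S) in
/-- the shear automorphism -/
noncomputable def PhiEquiv : (S ⊗[k] H) ≃ₐ[k] (S ⊗[k] H) :=
  AlgEquiv.ofAlgHom (Phi k H S) (Psi k H S) Phi_comp_Psi Psi_comp_Phi

theorem PhiEquiv_tmul_one (s : S) :
    PhiEquiv k H S (s ⊗ₜ[k] (1 : H)) = Comod.coact (k := k) (A := H) s := by
  change Phi k H S (s ⊗ₜ[k] (1 : H)) = _
  rw [Phi_tmul]
  change _ * (1 : S ⊗[k] H) = _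
  rw [mul_one]

theorem tmul_one_mem_nonZeroDivisors [Module.Flat k H] (s : S) (hs : s ∈ nonZeroDivisors S) :
    s ⊗ₜ[k] (1 : H) ∈ nonZeroDivisors (S ⊗[k] H) := by
  rw [mem_nonZeroDivisors_iff_left]
  intro x hx
  have hinj : Function.Injective (LinearMap.mulLeft k s) := by
    intro a b hab
    have h0 : s * (a - b) = 0 := by
      rw [mul_sub]
      exact sub_eq_zero.mpr hab
    exact sub_eq_zero.mp ((mem_nonZeroDivisors_iff_left.mp hs) _ h0)
  have hinj' := Module.Flat.rTensor_preserves_injective_linearMap (M := H) _ hinj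
  apply hinj'
  rw [map_zero, ← hx]
  clear hx
  induction x using TensorProduct.induction_on with
  | zero => simp
  | tmul a b => simp
  | add x y hx hy => rw [map_add, mul_add, hx, hy]

theorem coact_mem_nonZeroDivisors [Module.Flat k H] (s : S) (hs : s ∈ nonZeroDivisors S) :
    Comod.coact (k := k) (A := H) s ∈ nonZeroDivisors (S ⊗[k] H) := by
  rw [← PhiEquiv_tmul_one, ← MulEquivClass.map_nonZeroDivisors (PhiEquiv k H S)]
  exact ⟨_, tmul_one_mem_nonZeroDivisors s hs, rfl⟩

end Shear

end Groth.Agent.Lib.Helper26.Shear
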