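import Mathlib
set_option maxHeartbeats 400000
open CategoryTheory Category Limits Preadditive

namespace Groth.Agent.Lib.Helper26.SimLift
universe v u
variable {V : Type u} [Category.{v} V] [Abelian V]

/-- extension into an injective object along a (not necessarily mono) map, given that the
target map kills the kernel (tested on generalized elements). -/
lemma inj_ext {P X Y : V} [Injective Y] (u : P ⟶ X) (w : P ⟶ Y)
    (hk : ∀ ⦃T : V⦄ (x : T ⟶ P), x ≫ u = 0 → x ≫ w = 0) :
    ∃ f : X ⟶ Y, u ≫ f = w := by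
  have h0 : kernel.ι u ≫ w = 0 := hk _ (kernel.condition u)
  let w' : Abelian.coimage u ⟶ Y := cokernel.desc (kernel.ι u) w h0
  refine ⟨Injective.factorThru w' (Abelian.factorThruCoimage u), ?_⟩
  calc u ≫ Injective.factorThru w' (Abelian.factorThruCoimage u)
      = (Abelian.coimage.π u ≫ Abelian.factorThruCoimage u) ≫
          Injective.factorThru w' (Abelian.factorThruCoimage u) := by
        rw [Abelian.coimage.fac u]
    _ = w := by
        rw [assoc, Injective.comp_factorThru]
        exact cokernel.π_desc _ _ _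

/-- two-source version -/
lemma inj_ext₂ {D' C' X Y : V} [Injective Y] (j : D' ⟶ X) (d : C' ⟶ X) (a : D' ⟶ Y) (b : C' ⟶ Y)
    (hk : ∀ ⦃T : V⦄ (w : T ⟶ D') (x : T ⟶ C'), w ≫ j + x ≫ d = 0 → w ≫ a + x ≫ b = 0) :
    ∃ f : X ⟶ Y, j ≫ f = a ∧ d ≫ f = b := by
  obtain ⟨f, hf⟩ := inj_ext (biprod.desc j d) (biprod.desc a b) (by
    intro T x hx
    have h1 : x = (x ≫ biprod.fst) ≫ biprod.inl + (x ≫ biprod.snd) ≫ biprod.inr := by
      rw [assoc, assoc, ← comp_add, biprod.total, comp_id]
    have hx' : (x ≫ biprod.fst) ≫ j + (x ≫ biprod.snd) ≫ d = 0 := by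
      rw [← hx]
      conv_rhs => rw [h1]
      simp only [add_comp, assoc, biprod.inl_desc, biprod.inr_desc]
    have := hk _ _ hx'
    conv_lhs => rw [h1]
    simpa only [add_comp, assoc, biprod.inl_desc, biprod.inr_desc] using this)
  refine ⟨f, ?_, ?_⟩
  · rw [← biprod.inl_desc j d, assoc, hf, biprod.inl_desc]
  · rw [← biprod.inr_desc j d, assoc, hf, biprod.inr_desc]


section Ext

variable {D C I : CochainComplex V ℕ} (j : D ⟶ C) (h : D ⟶ I)

/-- a stage of the inductive construction -/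
structure Stage (n : ℕ) where
  f : C.X n ⟶ I.X n
  hjf : j.f n ≫ f = h.f n
  hcyc : C.iCycles n ≫ f ≫ I.d n (n + 1) = 0

variable {j h}

lemma Stage.cycle_comp {n : ℕ} (s : Stage j h n) {T : V} (z : T ⟶ C.X n)
    (hz : z ≫ C.d n (n + 1) = 0) : z ≫ s.f ≫ I.d n (n + 1) = 0 := by
  have : z = C.liftCycles z (n + 1) (by simp) hz ≫ C.iCycles n := by simp
  rw [this, assoc, s.hcyc, comp_zero]

variable (hj : ∀ n, Mono (j.f n)) (hD : ∀ n, 0 < n → D.ExactAt n) (hC : ∀ n, 0 < n → C.ExactAt n)
  (hI : ∀ n, Injective (I.X n))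

include hj hD hC hI in
lemma exists_next {n : ℕ} (s : Stage j h n) :
    ∃ s' : Stage j h (n + 1), s.f ≫ I.d n (n + 1) = C.d n (n + 1) ≫ s'.f := by
  have := hI (n + 1)
  obtain ⟨f', hf'1, hf'2⟩ := inj_ext₂ (j.f (n + 1)) (C.d n (n + 1)) (h.f (n + 1))
    (s.f ≫ I.d n (n + 1)) (by
      intro T w x hwx
      have hw : w ≫ D.d (n + 1) (n + 2) = 0 := by
        have := hj (n + 2)
        rw [← cancel_mono (j.f (n + 2)), assoc, ← j.comm, zero_comp]
        have := congr($hwx ≫ C.d (n + 1) (n + 2))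
        simpa using this
      have hex := hD (n + 1) (by lia)
      rw [D.exactAt_iff_exact_up_to_refinements n (n + 1) (n + 2) (by simp) (by simp)] at hex
      obtain ⟨T₁, π₁, hπ₁, w', hw'⟩ := hex w hw
      rw [← cancel_epi π₁, comp_zero, comp_add]
      have e := congr(π₁ ≫ $hwx)
      rw [comp_add, comp_zero, ← assoc, hw', assoc, ← j.comm] at e
      have hz : (π₁ ≫ x + w' ≫ j.f n) ≫ C.d n (n + 1) = 0 := by
        rw [add_comp, assoc, assoc]
        exact (add_comm _ _).trans e
      have h2 := s.cycle_comp _ hz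
      rw [add_comp, assoc, assoc, reassoc_of% s.hjf] at h2
      rw [reassoc_of% hw', ← h.comm]
      exact (add_comm _ _).trans h2)
  refine ⟨⟨f', hf'1, ?_⟩, hf'2.symm⟩
  have hex := hC (n + 1) (by lia)
  rw [C.exactAt_iff_exact_up_to_refinements n (n + 1) (n + 2) (by simp) (by simp)] at hex
  obtain ⟨T₁, π₁, hπ₁, y, hy⟩ := hex (C.iCycles (n + 1)) (by simp)
  rw [← cancel_epi π₁, comp_zero, reassoc_of% hy, reassoc_of% hf'2, I.d_comp_d, comp_zero,
    comp_zero]

variable (g₀ : C.cycles 0 ⟶ I.cycles 0)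
  (hg₀ : HomologicalComplex.cyclesMap j 0 ≫ g₀ = HomologicalComplex.cyclesMap h 0)

include hj hI hg₀ in
lemma exists_zero :
    ∃ s : Stage j h 0, C.iCycles 0 ≫ s.f = g₀ ≫ I.iCycles 0 := by
  have := hI 0
  obtain ⟨f, hf1, hf2⟩ := inj_ext₂ (j.f 0) (C.iCycles 0) (h.f 0) (g₀ ≫ I.iCycles 0) (by
    intro T w z hwz
    have hw : w ≫ D.d 0 1 = 0 := by
      have := hj 1
      rw [← cancel_mono (j.f 1), assoc, ← j.comm, zero_comp]
      have := congr($hwz ≫ C.d 0 1)
      simpa using this
    let w' : T ⟶ D.cycles 0 := D.liftCycles w 1 (by simp) hw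
    have hw' : w = w' ≫ D.iCycles 0 := by simp [w']
    have hz : z = - w' ≫ HomologicalComplex.cyclesMap j 0 := by
      rw [← cancel_mono (C.iCycles 0), neg_comp, assoc, HomologicalComplex.cyclesMap_i,
        ← reassoc_of% hw']
      exact eq_neg_of_add_eq_zero_right hwz
    rw [hz, hw', neg_comp, assoc, assoc, reassoc_of% hg₀, HomologicalComplex.cyclesMap_i,
      add_neg_cancel])
  exact ⟨⟨f, hf1, by rw [reassoc_of% hf2]; simp⟩, hf2⟩

end Ext


section Ext2

variable {D C I : CochainComplex V ℕ} {j : D ⟶ C} {h : D ⟶ I}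
  (hj : ∀ n, Mono (j.f n)) (hD : ∀ n, 0 < n → D.ExactAt n) (hC : ∀ n, 0 < n → C.ExactAt n)
  (hI : ∀ n, Injective (I.X n))

/-- the sequence of stages -/
noncomputable def stageSeq (s₀ : Stage j h 0) : ∀ n, Stage j h n
  | 0 => s₀
  | n + 1 => (exists_next hj hD hC hI (stageSeq s₀ n)).choose

lemma stageSeq_comm (s₀ : Stage j h 0) (n : ℕ) :
    (stageSeq hj hD hC hI s₀ n).f ≫ I.d n (n + 1) =
      C.d n (n + 1) ≫ (stageSeq hj hD hC hI s₀ (n + 1)).f :=
  (exists_next hj hD hC hI (stageSeq hj hD hC hI s₀ n)).choose_spec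

include hj hD hC hI in
/-- relative lifting: extend a chain map from a subcomplex into a complex of injectives,
with prescribed effect on degree-zero cycles. -/
theorem ext_cycles (g₀ : C.cycles 0 ⟶ I.cycles 0)
    (hg₀ : HomologicalComplex.cyclesMap j 0 ≫ g₀ = HomologicalComplex.cyclesMap h 0) :
    ∃ f : C ⟶ I, j ≫ f = h ∧ HomologicalComplex.cyclesMap f 0 = g₀ := by
  obtain ⟨s₀, hs₀⟩ := exists_zero hj hI g₀ hg₀
  let f : C ⟶ I :=
    { f := fun n => (stageSeq hj hD hC hI s₀ n).f
      comm' := by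
        intro n m hnm
        obtain rfl : n + 1 = m := hnm
        exact stageSeq_comm hj hD hC hI s₀ n }
  refine ⟨f, ?_, ?_⟩
  · ext n
    exact (stageSeq hj hD hC hI s₀ n).hjf
  · rw [← cancel_mono (I.iCycles 0), HomologicalComplex.cyclesMap_i]
    exact hs₀

include hj hD hC hI in
/-- homology version -/
theorem ext_homology (g : C.homology 0 ⟶ I.homology 0)
    (hg : HomologicalComplex.homologyMap j 0 ≫ g = HomologicalComplex.homologyMap h 0) :
    ∃ f : C ⟶ I, j ≫ f = h ∧ HomologicalComplex.homologyMap f 0 = g := by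
  have hπ : ∀ (K : CochainComplex V ℕ), IsIso (K.homologyπ 0) := by
    intro K
    apply HomologicalComplex.isIso_homologyπ K 0 0 (by simp)
    exact K.shape _ _ (by simp)
  have := hπ C
  have := hπ I
  have := hπ D
  obtain ⟨f, hf1, hf2⟩ := ext_cycles hj hD hC hI (C.homologyπ 0 ≫ g ≫ inv (I.homologyπ 0)) (by
    rw [← cancel_mono (I.homologyπ 0), assoc, assoc, assoc, IsIso.inv_hom_id, comp_id,
      ← HomologicalComplex.homologyπ_naturality_assoc, hg,
      HomologicalComplex.homologyπ_naturality])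
  refine ⟨f, hf1, ?_⟩
  rw [← cancel_epi (C.homologyπ 0), HomologicalComplex.homologyπ_naturality, hf2, assoc, assoc,
    IsIso.inv_hom_id, comp_id]

end Ext2


section Main

lemma exactAt_of_isZero_homology {K : CochainComplex V ℕ} {n : ℕ}
    (h : IsZero (K.homology n)) : K.ExactAt n := by
  rwa [HomologicalComplex.exactAt_iff_isZero_homology]

theorem main (C' C C'' I' I I'' : CochainComplex V ℕ)
    (jC : C' ⟶ C) (πC : C ⟶ C'') (jI : I' ⟶ I) (πI : I ⟶ I'')
    (mC : ∀ n, Mono (jC.f n)) (wC : ∀ n, jC.f n ≫ πC.f n = 0)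
    (exC : ∀ n, (ShortComplex.mk (jC.f n) (πC.f n) (wC n)).Exact)
    (wI : ∀ n, jI.f n ≫ πI.f n = 0)
    (hC' : ∀ n, 0 < n → C'.ExactAt n) (hC : ∀ n, 0 < n → C.ExactAt n)
    (hC'' : ∀ n, 0 < n → C''.ExactAt n)
    (injI' : ∀ n, Injective (I'.X n)) (injI : ∀ n, Injective (I.X n))
    (injI'' : ∀ n, Injective (I''.X n))
    (g' : C'.homology 0 ⟶ I'.homology 0) (g : C.homology 0 ⟶ I.homology 0)
    (g'' : C''.homology 0 ⟶ I''.homology 0)
    (hg1 : HomologicalComplex.homologyMap jC 0 ≫ g = g' ≫ HomologicalComplex.homologyMap jI 0)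
    (hg2 : HomologicalComplex.homologyMap πC 0 ≫ g'' = g ≫ HomologicalComplex.homologyMap πI 0) :
    ∃ (f' : C' ⟶ I') (f : C ⟶ I) (f'' : C'' ⟶ I''),
      jC ≫ f = f' ≫ jI ∧ πC ≫ f'' = f ≫ πI ∧
      HomologicalComplex.homologyMap f' 0 = g' ∧ HomologicalComplex.homologyMap f 0 = g ∧
      HomologicalComplex.homologyMap f'' 0 = g'' := by
  -- step 1
  obtain ⟨f', -, hf'⟩ := ext_homology (D := (HomologicalComplex.zero : CochainComplex V ℕ))
    (C := C') (I := I') (j := 0) (h := 0)
    (fun n => (show IsZero ((HomologicalComplex.zero : CochainComplex V ℕ).X n) from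
      isZero_zero V).mono _)
    (fun n _ => by
      apply ShortComplex.exact_of_isZero_X₂
      exact isZero_zero V)
    hC' injI' g' (by
      rw [HomologicalComplex.homologyMap_zero, HomologicalComplex.homologyMap_zero, zero_comp])
  -- step 2
  obtain ⟨f, hf1, hf2⟩ := ext_homology (j := jC) (h := f' ≫ jI) mC hC' hC injI g (by
    rw [hg1, HomologicalComplex.homologyMap_comp, hf'])
  -- step 3: the quotient complex
  have : Mono jC := HomologicalComplex.mono_of_mono_f _ mC
  let S : ShortComplex (CochainComplex V ℕ) := ShortComplex.mk jC (cokernel.π jC)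
    (cokernel.condition jC)
  have hS : S.ShortExact :=
    { exact := ShortComplex.exact_cokernel jC
      mono_f := this
      epi_g := inferInstanceAs (Epi (cokernel.π jC)) }
  have wC' : jC ≫ πC = 0 := by
    ext n; exact wC n
  have wI' : jI ≫ πI = 0 := by
    ext n; exact wI n
  let ι : cokernel jC ⟶ C'' := cokernel.desc jC πC wC'
  let h'' : cokernel jC ⟶ I'' := cokernel.desc jC (f ≫ πI) (by
    rw [reassoc_of% hf1, wI', comp_zero])
  have hpι : cokernel.π jC ≫ ι = πC := cokernel.π_desc _ _ _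
  have hph : cokernel.π jC ≫ h'' = f ≫ πI := cokernel.π_desc _ _ _
  have hι : ∀ n, Mono (ι.f n) := by
    intro n
    have hSn := hS.map_of_exact (HomologicalComplex.eval V (ComplexShape.up ℕ) n)
    have : Epi ((cokernel.π jC).f n) := hSn.epi_g
    apply Preadditive.mono_of_cancel_zero
    intro T x hx
    obtain ⟨T', π, hπ, y, hy⟩ := surjective_up_to_refinements_of_epi ((cokernel.π jC).f n) x
    have hy2 : y ≫ πC.f n = 0 := by
      rw [← hpι, HomologicalComplex.comp_f, ← reassoc_of% hy, hx, comp_zero]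
    obtain ⟨T'', π', hπ', y', hy'⟩ := (exC n).exact_up_to_refinements y hy2
    rw [← cancel_epi π, ← cancel_epi π', comp_zero, comp_zero, hy, reassoc_of% hy']
    have := congr(($(cokernel.condition jC)).f n)
    rw [HomologicalComplex.comp_f] at this
    erw [this]
    simp
  have hE : ∀ n, 0 < n → (cokernel jC).ExactAt n := by
    intro n hn
    apply exactAt_of_isZero_homology
    have h3 := hS.homology_exact₃ n (n + 1) rfl
    apply h3.isZero_X₂
    · apply IsZero.eq_of_src
      rw [← HomologicalComplex.exactAt_iff_isZero_homology]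
      exact hC n hn
    · apply IsZero.eq_of_tgt
      rw [← HomologicalComplex.exactAt_iff_isZero_homology]
      exact hC' (n + 1) (by lia)
  have hepi : Epi (HomologicalComplex.homologyMap (cokernel.π jC) 0) := by
    have h3 := hS.homology_exact₃ 0 1 rfl
    apply h3.epi_f
    apply IsZero.eq_of_tgt
    rw [← HomologicalComplex.exactAt_iff_isZero_homology]
    exact hC' 1 (by lia)
  obtain ⟨f'', hf''1, hf''2⟩ := ext_homology (j := ι) (h := h'') hι hE hC'' injI'' g'' (by
    rw [← cancel_epi (HomologicalComplex.homologyMap (cokernel.π jC) 0),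
      ← HomologicalComplex.homologyMap_comp_assoc, ← HomologicalComplex.homologyMap_comp,
      hpι, hph, hg2, HomologicalComplex.homologyMap_comp, hf2])
  refine ⟨f', f, f'', hf1, ?_, hf', hf2, hf''2⟩
  rw [← hpι, assoc, hf''1, hph]

end Main

end Groth.Agent.Lib.Helper26.SimLift
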