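import Groth.Prelude.Def_CartDual
import Mathlib.RingTheory.HopfAlgebra.GroupLike
import Mathlib.RingTheory.HopfAlgebra.Quotient
import Mathlib.RingTheory.Artinian.Ring
import Mathlib.FieldTheory.IsAlgClosed.Basic
import Mathlib.Algebra.CharP.Lemmas
import Mathlib.Algebra.CharP.Algebra
import Mathlib.LinearAlgebra.Dual.Lemmas

/-!
Shared lemmas for the classification of simple finite commutative group schemes.
-/

set_option autoImplicit false
universe u

namespace Groth.Agent.Lib.Helper26.SimpleGrp

open TensorProduct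

section Principal

variable {k : Type u} [Field k] {A : Type u} [CommRing A] [Algebra k A]

/-- if the kernel of an augmentation is generated by `t` with `t ^ p = 0`, then `A` is spanned by
`1, t, …, t^(p-1)` -/
theorem span_pow_eq_top (ε : A →ₐ[k] k) (t : A) (p : ℕ) (ht : t ^ p = 0)
    (hker : RingHom.ker ε = Ideal.span {t}) :
    Submodule.span k (Set.range fun j : Fin p => t ^ (j : ℕ)) = ⊤ := by
  have key : ∀ N : ℕ, N ≤ p → ∀ a : A, ∃ b : A,
      a - t ^ N * b ∈ Submodule.span k (Set.range fun j : Fin p => t ^ (j : ℕ)) := by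
    intro N
    induction N with
    | zero =>
      intro _ a
      exact ⟨a, by rw [pow_zero, one_mul, sub_self]; exact Submodule.zero_mem _⟩
    | succ N ih =>
      intro hN a
      obtain ⟨b, hb⟩ := ih (Nat.le_of_succ_le hN) a
      have hmem : b - algebraMap k A (ε b) ∈ RingHom.ker ε := by
        rw [RingHom.mem_ker, map_sub, AlgHom.commutes]
        exact sub_self _
      rw [hker, Ideal.mem_span_singleton'] at hmem
      obtain ⟨c, hc⟩ := hmem
      refine ⟨c, ?_⟩
      have h1 : a - t ^ (N + 1) * c = (a - t ^ N * b) + (ε b) • t ^ N := by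
        have h2 : t ^ N * b = t ^ (N + 1) * c + algebraMap k A (ε b) * t ^ N := by
          have : b = c * t + algebraMap k A (ε b) := by rw [hc]; ring
          generalize ε b = e at this
          rw [this]
          ring
        rw [Algebra.smul_def, h2]
        ring
      rw [h1]
      refine Submodule.add_mem _ hb (Submodule.smul_mem _ _ (Submodule.subset_span ?_))
      exact ⟨⟨N, hN⟩, rfl⟩
  rw [eq_top_iff]
  intro a _
  obtain ⟨b, hb⟩ := key p le_rfl a
  rwa [ht, zero_mul, sub_zero] at hb

theorem finrank_le_of_principal [Module.Finite k A] (ε : A →ₐ[k] k) (t : A) (p : ℕ)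
    (ht : t ^ p = 0) (hker : RingHom.ker ε = Ideal.span {t}) : Module.finrank k A ≤ p := by
  have h := span_pow_eq_top ε t p ht hker
  have h2 := finrank_range_le_card (R := k) (fun j : Fin p => t ^ (j : ℕ))
  rw [Set.finrank, h, finrank_top, Fintype.card_fin] at h2
  exact h2

end Principal

section Pairing

variable (k : Type u) [Field k] (A : Type u) [CommRing A] [HopfAlgebra k A]
  [FiniteDimensional k A]

/-- the element of `A` representing a linear form on the dual -/
noncomputable def rep (χ : CartDual.D k A →ₗ[k] k) : A :=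
  (Module.evalEquiv k A).symm (χ ∘ₗ (CartDual.toDual k A).symm.toLinearMap)

variable {k A}

lemma apply_rep (χ : CartDual.D k A →ₗ[k] k) (x : CartDual.D k A) : x (rep k A χ) = χ x := by
  have h : Module.evalEquiv k A (rep k A χ) = χ ∘ₗ (CartDual.toDual k A).symm.toLinearMap :=
    LinearEquiv.apply_symm_apply _ _
  have h2 := LinearMap.congr_fun h x.ofConv
  rw [Module.evalEquiv_apply, Module.Dual.eval_apply] at h2
  exact h2

lemma ev₂_tmul_comul (x y : CartDual.D k A) (a : A) :
    CartDual.ev₂ k A (x ⊗ₜ y) (Coalgebra.comul a) = (x * y) a := by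
  rw [CartDual.ev₂_tmul_eq]
  show (TensorProduct.lid k k) (TensorProduct.map x.ofConv y.ofConv (Coalgebra.comul a))
    = LinearMap.mul' k k (TensorProduct.map x.ofConv y.ofConv (Coalgebra.comul a))
  generalize TensorProduct.map x.ofConv y.ofConv (Coalgebra.comul a) = t
  induction t using TensorProduct.induction_on with
  | zero => simp
  | add t t' ht ht' => rw [map_add, map_add, ht, ht']
  | tmul r s => simp

lemma tensor_ext {t t' : A ⊗[k] A}
    (h : ∀ x y : CartDual.D k A, CartDual.ev₂ k A (x ⊗ₜ y) t = CartDual.ev₂ k A (x ⊗ₜ y) t') :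
    t = t' := by
  rw [← sub_eq_zero, ← Module.forall_dual_apply_eq_zero_iff k]
  intro φ
  obtain ⟨z, rfl⟩ := (CartDual.ev₂ k A).surjective φ
  rw [map_sub, sub_eq_zero]
  induction z using TensorProduct.induction_on with
  | zero => simp
  | add z z' hz hz' => rw [map_add, LinearMap.add_apply, LinearMap.add_apply, hz, hz']
  | tmul x y => exact h x y

theorem isGroupLikeElem_rep (χ : CartDual.D k A →ₐ[k] k) :
    IsGroupLikeElem k (rep k A χ.toLinearMap) := by
  constructor
  · have h := apply_rep χ.toLinearMap (1 : CartDual.D k A)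
    rw [AlgHom.toLinearMap_apply, map_one] at h
    exact h
  · apply tensor_ext
    intro x y
    rw [ev₂_tmul_comul, apply_rep, CartDual.ev₂_tmul, apply_rep, apply_rep]
    exact map_mul χ x y

end Pairing

section Exists

variable {k : Type u} [Field k] {A : Type u} [CommRing A] [HopfAlgebra k A]
  [Coalgebra.IsCocomm k A] [FiniteDimensional k A]

/-- evaluation at `1` as an algebra map on the dual -/
noncomputable def ev1 : CartDual.D k A →ₐ[k] k where
  toFun x := x (1 : A)
  map_one' := by
    show algebraMap k k (Coalgebra.counit (1 : A)) = 1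
    rw [Bialgebra.counit_one, map_one]
  map_mul' x y := by
    show LinearMap.mul' k k (TensorProduct.map x.ofConv y.ofConv (Coalgebra.comul (1 : A))) = _
    rw [Bialgebra.comul_one]
    rfl
  map_zero' := rfl
  map_add' _ _ := rfl
  commutes' r := by
    show (algebraMap k (CartDual.D k A) r) (1 : A) = r
    rw [LinearMap.convAlgebraMap_apply, Bialgebra.counit_one, map_one, smul_eq_mul, mul_one]

lemma ev1_apply (x : CartDual.D k A) : ev1 x = x (1 : A) := rfl

lemma finrank_D : Module.finrank k (CartDual.D k A) = Module.finrank k A := by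
  rw [(CartDual.toDual k A).finrank_eq, Subspace.dual_finrank_eq]

theorem exists_algHom_ne [IsAlgClosed k] (hred : IsReduced (CartDual.D k A))
    (hdim : 1 < Module.finrank k A) : ∃ χ : CartDual.D k A →ₐ[k] k, χ ≠ ev1 := by
  by_contra hcon
  push_neg at hcon
  haveI : IsArtinianRing (CartDual.D k A) := IsArtinianRing.of_finite k _
  have hker : ∀ x : CartDual.D k A, ev1 x = 0 → x = 0 := by
    intro x hx
    have hnil : x ∈ nilradical (CartDual.D k A) := by
      rw [nilradical_eq_sInf, Ideal.mem_sInf]
      intro m hm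
      haveI : m.IsPrime := hm
      haveI : m.IsMaximal := IsArtinianRing.isMaximal_of_isPrime m
      letI : Field (CartDual.D k A ⧸ m) := Ideal.Quotient.field m
      have hbij : Function.Bijective (algebraMap k (CartDual.D k A ⧸ m)) :=
        IsAlgClosed.algebraMap_bijective_of_isIntegral
      let e : k ≃ₐ[k] (CartDual.D k A ⧸ m) := AlgEquiv.ofBijective (Algebra.ofId k _) hbij
      let χ : CartDual.D k A →ₐ[k] k := (e.symm : (CartDual.D k A ⧸ m) →ₐ[k] k).comp
        (Ideal.Quotient.mkₐ k m)
      have hχ : χ x = 0 := by rw [hcon χ]; exact hx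
      have h2 : Ideal.Quotient.mk m x = 0 := by
        have h3 : e.symm (Ideal.Quotient.mk m x) = 0 := hχ
        rwa [map_eq_zero_iff _ e.symm.injective] at h3
      exact Ideal.Quotient.eq_zero_iff_mem.mp h2
    rw [nilradical_eq_zero] at hnil
    exact hnil
  have hinj : Function.Injective (ev1 (k := k) (A := A)).toLinearMap := by
    rw [← LinearMap.ker_eq_bot, LinearMap.ker_eq_bot']
    exact hker
  have h4 := LinearMap.finrank_le_finrank_of_injective hinj
  rw [finrank_D, Module.finrank_self] at h4
  omega

end Exists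

section HopfIdeal

variable {k : Type u} [Field k] {A : Type u} [CommRing A] [HopfAlgebra k A]

theorem isHopfIdeal_span_sub_one {g : A} (hg : IsGroupLikeElem k g) :
    (Ideal.span {g - 1}).IsHopfIdeal k := by
  haveI : ((Ideal.span {g - 1}).restrictScalars k).IsCoideal := by
    refine Submodule.IsCoideal.mk ?_ ?_
    · intro x hx
      obtain ⟨a, rfl⟩ := Ideal.mem_span_singleton'.mp hx
      change Bialgebra.counitAlgHom k A (a * (g - 1)) = 0
      rw [map_mul, map_sub, map_one]
      change _ * (Coalgebra.counit (R := k) g - 1) = 0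
      rw [hg.counit_eq_one, sub_self, mul_zero]
    · intro x hx
      obtain ⟨a, rfl⟩ := Ideal.mem_span_singleton'.mp hx
      have hmk : (Submodule.restrictScalars k (Ideal.span {g - 1})).mkQ
          = (Ideal.Quotient.mkₐ k (Ideal.span {g - 1})).toLinearMap := rfl
      rw [hmk]
      change Algebra.TensorProduct.map (Ideal.Quotient.mkₐ k (Ideal.span {g - 1}))
          (Ideal.Quotient.mkₐ k (Ideal.span {g - 1}))
          (Bialgebra.comulAlgHom k A (a * (g - 1))) = 0
      rw [map_mul, map_mul, map_sub, map_one]
      change _ * Algebra.TensorProduct.map _ _ (Coalgebra.comul (R := k) g - 1) = 0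
      have e : g ⊗ₜ[k] g - 1 = (g - 1) ⊗ₜ[k] g + 1 ⊗ₜ[k] (g - 1) := by
        rw [TensorProduct.sub_tmul, TensorProduct.tmul_sub, Algebra.TensorProduct.one_def]; abel
      rw [hg.comul_eq_tmul_self, e, map_add, Algebra.TensorProduct.map_tmul,
        Algebra.TensorProduct.map_tmul]
      have h0 : Ideal.Quotient.mkₐ k (Ideal.span {g - 1}) (g - 1) = 0 :=
        (Ideal.Quotient.eq_zero_iff_mem).mpr (Ideal.subset_span rfl)
      simp [h0]
  refine Ideal.IsHopfIdeal.mk ?_
  intro x hx
  obtain ⟨a, rfl⟩ := Ideal.mem_span_singleton'.mp hx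
  change HopfAlgebra.antipodeAlgHom k A (a * (g - 1)) ∈ Ideal.span {g - 1}
  rw [map_mul]
  apply Ideal.mul_mem_left
  rw [map_sub, map_one]
  change HopfAlgebraStruct.antipode (R := k) g - 1 ∈ Ideal.span {g - 1}
  have : HopfAlgebraStruct.antipode (R := k) g - 1
      = -(HopfAlgebraStruct.antipode (R := k) g) * (g - 1) := by
    rw [neg_mul, mul_sub, hg.antipode_mul_cancel, mul_one]; ring
  rw [this]
  exact Ideal.mul_mem_left _ _ (Ideal.subset_span rfl)

end HopfIdeal

section Nilpotent

variable {k : Type u} [Field k] {A : Type u} [CommRing A] [Bialgebra k A]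
  [FiniteDimensional k A] [IsLocalRing A]

theorem isNilpotent_of_counit_eq_zero {a : A} (ha : Coalgebra.counit (R := k) a = 0) :
    IsNilpotent a := by
  haveI : IsArtinianRing A := IsArtinianRing.of_finite k A
  have hmem : a ∈ IsLocalRing.maximalIdeal A := by
    rw [IsLocalRing.mem_maximalIdeal, mem_nonunits_iff]
    intro hu
    have h2 : IsUnit (Bialgebra.counitAlgHom k A a) := hu.map _
    have h3 : Bialgebra.counitAlgHom k A a = 0 := ha
    rw [h3] at h2
    exact not_isUnit_zero h2
  obtain ⟨N, hN⟩ := IsArtinianRing.isNilpotent_jacobson_bot (R := A)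
  rw [IsLocalRing.jacobson_eq_maximalIdeal ⊥ bot_ne_top] at hN
  refine ⟨N, ?_⟩
  have : a ^ N ∈ IsLocalRing.maximalIdeal A ^ N := Ideal.pow_mem_pow hmem N
  rw [hN] at this
  exact this

end Nilpotent

end Groth.Agent.Lib.Helper26.SimpleGrp
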