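import Mathlib

namespace Groth.Agent.Lib.Helper26.SliceWeight

universe u v

set_option linter.unusedSectionVars false
set_option linter.style.haveILetI false

theorem main
    (k : Type u) [CommRing k] (r : ℕ) (L : Type v) [AddCommGroup L]
    (b : L →+ (Fin r → ℤ)) (hb : Function.Injective b) :
    Set.BijOn
      (AddMonoidAlgebra.mapDomainAlgHom k k (AddMonoidHom.snd L (Fin r → ℕ)))
      (AddMonoidAlgebra.gradeBy k
        (b.comp (AddMonoidHom.fst L (Fin r → ℕ)) +
          (AddMonoidHom.compLeft (Nat.castAddMonoidHom ℤ) (Fin r)).comp (AddMonoidHom.snd L (Fin r → ℕ))) 0 :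
        Set (AddMonoidAlgebra k (L × (Fin r → ℕ))))
      (AddMonoidAlgebra.gradeBy k
        ((QuotientAddGroup.mk' b.range).comp (AddMonoidHom.compLeft (Nat.castAddMonoidHom ℤ) (Fin r))) 0 :
        Set (AddMonoidAlgebra k (Fin r → ℕ))) := by
  classical
  set w1 : L × (Fin r → ℕ) →+ (Fin r → ℤ) := b.comp (AddMonoidHom.fst L (Fin r → ℕ)) +
    (AddMonoidHom.compLeft (Nat.castAddMonoidHom ℤ) (Fin r)).comp (AddMonoidHom.snd L (Fin r → ℕ))
    with hw1
  set cst : (Fin r → ℕ) →+ (Fin r → ℤ) := AddMonoidHom.compLeft (Nat.castAddMonoidHom ℤ) (Fin r)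
    with hcst
  set w2 : (Fin r → ℕ) →+ (Fin r → ℤ) ⧸ b.range := (QuotientAddGroup.mk' b.range).comp cst with hw2
  have hw1_apply : ∀ x : L × (Fin r → ℕ), w1 x = b x.1 + cst x.2 := fun x => rfl
  have hw2_zero : ∀ n : Fin r → ℕ, w2 n = 0 ↔ ∃ l : L, b l = cst n := by
    intro n
    rw [hw2, AddMonoidHom.comp_apply, QuotientAddGroup.mk'_apply,
      QuotientAddGroup.eq_zero_iff]
    rfl
  have hmap : ∀ a : AddMonoidAlgebra k (L × (Fin r → ℕ)),
      (AddMonoidAlgebra.mapDomainAlgHom k k (AddMonoidHom.snd L (Fin r → ℕ)) a).coeff =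
        Finsupp.mapDomain Prod.snd a.coeff := fun a => rfl
  refine ⟨?_, ?_, ?_⟩
  · -- MapsTo
    intro a ha
    rw [SetLike.mem_coe, AddMonoidAlgebra.mem_gradeBy_iff] at ha ⊢
    intro n hn
    rw [hmap] at hn
    have hn' := Finsupp.mapDomain_support hn
    rw [Finset.mem_image] at hn'
    obtain ⟨x, hx, rfl⟩ := hn'
    have h0 : w1 x = 0 := ha hx
    rw [hw1_apply] at h0
    rw [Set.mem_preimage, Set.mem_singleton_iff]
    exact (hw2_zero x.2).mpr ⟨-x.1, by rw [map_neg]; exact neg_eq_of_add_eq_zero_right h0⟩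
  · -- InjOn
    intro a ha a' ha' heq
    rw [SetLike.mem_coe, AddMonoidAlgebra.mem_gradeBy_iff] at ha ha'
    have hinj : Set.InjOn (Prod.snd : L × (Fin r → ℕ) → (Fin r → ℕ)) (w1 ⁻¹' {0}) := by
      intro x hx y hy hxy
      have h1 : w1 x = 0 := hx
      have h2 : w1 y = 0 := hy
      rw [hw1_apply] at h1 h2
      have : b x.1 = b y.1 := by
        have e1 := eq_neg_of_add_eq_zero_left h1
        have e2 := eq_neg_of_add_eq_zero_left h2
        rw [e1, e2, hxy]
      exact Prod.ext (hb this) hxy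
    have := Finsupp.mapDomain_injOn (M := k) (w1 ⁻¹' {0}) hinj ha ha'
      (by rw [← hmap, ← hmap, heq])
    exact AddMonoidAlgebra.coeff_injective this
  · -- SurjOn
    intro c hc
    rw [SetLike.mem_coe, AddMonoidAlgebra.mem_gradeBy_iff] at hc
    let s : (Fin r → ℕ) → L × (Fin r → ℕ) := fun n =>
      if h : ∃ l : L, b l = cst n then (-(h.choose), n) else (0, n)
    have hs_snd : ∀ n, (s n).2 = n := by
      intro n
      simp only [s]
      split_ifs <;> rfl
    refine ⟨AddMonoidAlgebra.ofCoeff (Finsupp.mapDomain s c.coeff), ?_, ?_⟩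
    · rw [SetLike.mem_coe, AddMonoidAlgebra.mem_gradeBy_iff]
      intro x hx
      have hx' := Finsupp.mapDomain_support hx
      rw [Finset.mem_image] at hx'
      obtain ⟨n, hn, rfl⟩ := hx'
      have h0 : w2 n = 0 := hc hn
      have hex := (hw2_zero n).mp h0
      rw [Set.mem_preimage, Set.mem_singleton_iff, hw1_apply]
      simp only [s, dif_pos hex]
      rw [map_neg, hex.choose_spec]
      exact neg_add_cancel _
    · apply AddMonoidAlgebra.coeff_injective
      rw [hmap, AddMonoidAlgebra.coeff_ofCoeff, ← Finsupp.mapDomain_comp]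
      have : Prod.snd ∘ s = id := funext hs_snd
      rw [this, Finsupp.mapDomain_id]

end Groth.Agent.Lib.Helper26.SliceWeight
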