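import Mathlib

namespace Groth.Agent.Lib.Helper26.Snake6

open Function

variable {A' A A'' B' B B'' : Type*} [AddCommGroup A'] [AddCommGroup A] [AddCommGroup A'']
  [AddCommGroup B'] [AddCommGroup B] [AddCommGroup B'']
  (U : A' →+ A) (V : A →+ A'') (U₂ : B' →+ B) (V₂ : B →+ B'')
  (d' : A' →+ B') (d : A →+ B) (d'' : A'' →+ B'')

/-- The six-term kernel–cokernel exact sequence (snake lemma) for abelian groups. -/
theorem six_term
    (hU : Injective U) (hV : Surjective V) (hUV : V.ker = U.range)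
    (hU₂ : Injective U₂) (hV₂ : Surjective V₂) (hUV₂ : V₂.ker = U₂.range)
    (c₁ : ∀ x, d (U x) = U₂ (d' x)) (c₂ : ∀ x, d'' (V x) = V₂ (d x)) :
    ∃ (α : d'.ker →+ d.ker) (β : d.ker →+ d''.ker) (δ : d''.ker →+ B' ⧸ d'.range)
      (ε : B' ⧸ d'.range →+ B ⧸ d.range) (ζ : B ⧸ d.range →+ B'' ⧸ d''.range),
      (∀ x, (α x : A) = U x) ∧ (∀ x, (β x : A'') = V x) ∧
      (∀ (z : d''.ker) (y : A) (w : B'), V y = z → U₂ w = d y →
        δ z = (QuotientAddGroup.mk w : B' ⧸ d'.range)) ∧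
      (∀ y : B', ε (QuotientAddGroup.mk y) = (QuotientAddGroup.mk (U₂ y) : B ⧸ d.range)) ∧
      (∀ y : B, ζ (QuotientAddGroup.mk y) = (QuotientAddGroup.mk (V₂ y) : B'' ⧸ d''.range)) ∧
      Injective α ∧ α.range = β.ker ∧ β.range = δ.ker ∧ δ.range = ε.ker ∧ ε.range = ζ.ker ∧
      Surjective ζ := by
  -- the outer maps
  let α : d'.ker →+ d.ker := (U.comp d'.ker.subtype).codRestrict d.ker (fun x => by
    rw [AddMonoidHom.mem_ker, AddMonoidHom.comp_apply, c₁]
    have : d' x = 0 := x.2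
    simp [this])
  let β : d.ker →+ d''.ker := (V.comp d.ker.subtype).codRestrict d''.ker (fun x => by
    rw [AddMonoidHom.mem_ker, AddMonoidHom.comp_apply, c₂]
    have : d x = 0 := x.2
    simp [this])
  let ε : B' ⧸ d'.range →+ B ⧸ d.range := QuotientAddGroup.map _ _ U₂ (by
    rintro _ ⟨x, rfl⟩
    exact ⟨U x, c₁ x⟩)
  let ζ : B ⧸ d.range →+ B'' ⧸ d''.range := QuotientAddGroup.map _ _ V₂ (by
    rintro _ ⟨x, rfl⟩
    exact ⟨V x, c₂ x⟩)
  -- the connecting map from Mathlib's module snake lemma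
  have hf : Exact U.toIntLinearMap V.toIntLinearMap := by
    intro y
    show V y = 0 ↔ y ∈ Set.range U
    rw [← AddMonoidHom.mem_ker, hUV]; rfl
  have hg : Exact U₂.toIntLinearMap V₂.toIntLinearMap := by
    intro y
    show V₂ y = 0 ↔ y ∈ Set.range U₂
    rw [← AddMonoidHom.mem_ker, hUV₂]; rfl
  have h₁ : U₂.toIntLinearMap.comp d'.toIntLinearMap = d.toIntLinearMap.comp U.toIntLinearMap := by
    ext x; exact (c₁ x).symm
  have h₂ : V₂.toIntLinearMap.comp d.toIntLinearMap =
      d''.toIntLinearMap.comp V.toIntLinearMap := by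
    ext x; exact (c₂ x).symm
  have hι₃ : Exact d''.ker.subtype.toIntLinearMap d''.toIntLinearMap := by
    intro y
    show d'' y = 0 ↔ y ∈ Set.range d''.ker.subtype
    rw [← AddMonoidHom.mem_ker]
    simp
  have hι₂ : Exact d.ker.subtype.toIntLinearMap d.toIntLinearMap := by
    intro y
    show d y = 0 ↔ y ∈ Set.range d.ker.subtype
    rw [← AddMonoidHom.mem_ker]
    simp
  have hπ₁ : Exact d'.toIntLinearMap (QuotientAddGroup.mk' d'.range).toIntLinearMap := by
    intro y
    show (QuotientAddGroup.mk y : B' ⧸ d'.range) = 0 ↔ y ∈ Set.range d'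
    rw [QuotientAddGroup.eq_zero_iff]; rfl
  have hπ₂ : Exact d.toIntLinearMap (QuotientAddGroup.mk' d.range).toIntLinearMap := by
    intro y
    show (QuotientAddGroup.mk y : B ⧸ d.range) = 0 ↔ y ∈ Set.range d
    rw [QuotientAddGroup.eq_zero_iff]; rfl
  let δL := SnakeLemma.δ' d'.toIntLinearMap d.toIntLinearMap d''.toIntLinearMap
    U.toIntLinearMap V.toIntLinearMap hf U₂.toIntLinearMap V₂.toIntLinearMap hg h₁ h₂
    d''.ker.subtype.toIntLinearMap hι₃ (QuotientAddGroup.mk' d'.range).toIntLinearMap hπ₁ hV hU₂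
  have hδeq : ∀ (z : d''.ker) (y : A) (w : B'), V y = z → U₂ w = d y →
      δL z = (QuotientAddGroup.mk w : B' ⧸ d'.range) := by
    intro z y w hy hw
    exact SnakeLemma.δ'_eq d'.toIntLinearMap d.toIntLinearMap d''.toIntLinearMap
      U.toIntLinearMap V.toIntLinearMap hf U₂.toIntLinearMap V₂.toIntLinearMap hg h₁ h₂
      d''.ker.subtype.toIntLinearMap hι₃ (QuotientAddGroup.mk' d'.range).toIntLinearMap hπ₁ hV hU₂
      z y hy w hw
  have hex1 : Exact β.toIntLinearMap δL :=
    SnakeLemma.exact_δ'_right d'.toIntLinearMap d.toIntLinearMap d''.toIntLinearMap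
      U.toIntLinearMap V.toIntLinearMap hf U₂.toIntLinearMap V₂.toIntLinearMap hg h₁ h₂
      d.ker.subtype.toIntLinearMap hι₂
      d''.ker.subtype.toIntLinearMap hι₃ (QuotientAddGroup.mk' d'.range).toIntLinearMap hπ₁ hV hU₂
      β.toIntLinearMap (by ext x; rfl) Subtype.val_injective
  have hex2 : Exact δL ε.toIntLinearMap :=
    SnakeLemma.exact_δ'_left d'.toIntLinearMap d.toIntLinearMap d''.toIntLinearMap
      U.toIntLinearMap V.toIntLinearMap hf U₂.toIntLinearMap V₂.toIntLinearMap hg h₁ h₂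
      d''.ker.subtype.toIntLinearMap hι₃ (QuotientAddGroup.mk' d'.range).toIntLinearMap hπ₁
      (QuotientAddGroup.mk' d.range).toIntLinearMap hπ₂ hV hU₂
      ε.toIntLinearMap (by ext x; rfl) (QuotientAddGroup.mk'_surjective _)
  refine ⟨α, β, δL.toAddMonoidHom, ε, ζ, fun x => rfl, fun x => rfl, hδeq, fun y => rfl,
    fun y => rfl, ?_, ?_, ?_, ?_, ?_, ?_⟩
  · -- α injective
    intro x y hxy
    apply Subtype.ext
    apply hU
    exact congrArg Subtype.val hxy
  · -- exact at ker d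
    ext x
    constructor
    · rintro ⟨a, rfl⟩
      rw [AddMonoidHom.mem_ker]
      apply Subtype.ext
      show V (U a.1) = 0
      have : U a.1 ∈ V.ker := by rw [hUV]; exact ⟨_, rfl⟩
      exact this
    · intro hx
      rw [AddMonoidHom.mem_ker] at hx
      have hx' : V x.1 = 0 := congrArg Subtype.val hx
      have : x.1 ∈ U.range := by rw [← hUV]; exact hx'
      obtain ⟨a, ha⟩ := this
      have hda : d' a = 0 := by
        apply hU₂
        rw [← c₁, ha, map_zero]
        exact x.2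
      exact ⟨⟨a, hda⟩, Subtype.ext ha⟩
  · -- exact at ker d''
    ext z
    rw [AddMonoidHom.mem_ker]
    exact ((hex1 z).symm : z ∈ Set.range β ↔ δL z = 0)
  · -- exact at coker d'
    ext q
    rw [AddMonoidHom.mem_ker]
    exact ((hex2 q).symm : q ∈ Set.range δL ↔ ε q = 0)
  · -- exact at coker d
    ext q
    constructor
    · rintro ⟨p, rfl⟩
      obtain ⟨y, rfl⟩ := QuotientAddGroup.mk_surjective p
      rw [AddMonoidHom.mem_ker]
      show (QuotientAddGroup.mk (V₂ (U₂ y)) : B'' ⧸ d''.range) = 0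
      have : U₂ y ∈ V₂.ker := by rw [hUV₂]; exact ⟨_, rfl⟩
      rw [AddMonoidHom.mem_ker.mp this]
      rfl
    · intro hq
      obtain ⟨y, rfl⟩ := QuotientAddGroup.mk_surjective q
      rw [AddMonoidHom.mem_ker] at hq
      have hq' : (QuotientAddGroup.mk (V₂ y) : B'' ⧸ d''.range) = 0 := hq
      rw [QuotientAddGroup.eq_zero_iff] at hq'
      obtain ⟨a'', ha''⟩ := hq'
      obtain ⟨a, rfl⟩ := hV a''
      have : y - d a ∈ V₂.ker := by
        rw [AddMonoidHom.mem_ker, map_sub, ← c₂, ha'', sub_self]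
      rw [hUV₂] at this
      obtain ⟨b', hb'⟩ := this
      refine ⟨QuotientAddGroup.mk b', ?_⟩
      show (QuotientAddGroup.mk (U₂ b') : B ⧸ d.range) = QuotientAddGroup.mk y
      rw [hb', QuotientAddGroup.mk_sub, sub_eq_self, QuotientAddGroup.eq_zero_iff]
      exact ⟨a, rfl⟩
  · -- ζ surjective
    intro q
    obtain ⟨y, rfl⟩ := QuotientAddGroup.mk_surjective q
    obtain ⟨b, rfl⟩ := hV₂ y
    exact ⟨QuotientAddGroup.mk b, rfl⟩

end Groth.Agent.Lib.Helper26.Snake6
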