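import Mathlib

namespace Groth.Agent.Lib.Helper26.SpreadBasis

universe u

variable {A : Type u} [CommRing A] {M : Type u} [AddCommGroup M] [Module A M]

/-- `s` generates the stalk of `M` at `q`. -/
def Gen {n : ℕ} (s : Fin n → M) (q : PrimeSpectrum A) : Prop :=
  Submodule.span (Localization.AtPrime q.asIdeal)
    (Set.range fun j => LocalizedModule.mkLinearMap q.asIdeal.primeCompl M (s j)) = ⊤

lemma gen_iff_localized {n : ℕ} (s : Fin n → M) (q : PrimeSpectrum A) :
    Gen s q ↔ (Submodule.span A (Set.range s)).localized' (Localization.AtPrime q.asIdeal)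
      q.asIdeal.primeCompl (LocalizedModule.mkLinearMap q.asIdeal.primeCompl M) = ⊤ := by
  rw [Gen, Submodule.localized'_span, ← Set.range_comp]
  rfl

lemma gen_iff_support {n : ℕ} (s : Fin n → M) (q : PrimeSpectrum A) :
    Gen s q ↔ q ∉ Module.support A (M ⧸ Submodule.span A (Set.range s)) := by
  rw [gen_iff_localized, Module.notMem_support_iff']
  set N := Submodule.span A (Set.range s)
  set f := LocalizedModule.mkLinearMap q.asIdeal.primeCompl M
  constructor
  · intro h x
    obtain ⟨m, rfl⟩ := Submodule.mkQ_surjective _ x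
    have hm : f m ∈ N.localized' (Localization.AtPrime q.asIdeal) q.asIdeal.primeCompl f := by
      rw [h]; trivial
    rw [Submodule.mem_localized'] at hm
    obtain ⟨n', hn', t, ht⟩ := hm
    rw [IsLocalizedModule.mk'_eq_iff] at ht
    rw [Submonoid.smul_def, ← map_smul, IsLocalizedModule.eq_iff_exists q.asIdeal.primeCompl] at ht
    obtain ⟨c, hc⟩ := ht
    refine ⟨(c * t : q.asIdeal.primeCompl), (c * t).2, ?_⟩
    rw [Submodule.mkQ_apply, ← Submodule.Quotient.mk_smul, Submodule.Quotient.mk_eq_zero]
    have : ((c * t : q.asIdeal.primeCompl) : A) • m = c • n' := by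
      rw [hc, Submonoid.coe_mul, mul_smul]; rfl
    rw [this]
    exact N.smul_mem _ hn'
  · intro h
    rw [eq_top_iff]
    intro x _
    obtain ⟨⟨m, t⟩, rfl⟩ := IsLocalizedModule.mk'_surjective q.asIdeal.primeCompl f x
    obtain ⟨r, hr, hrm⟩ := h (Submodule.Quotient.mk m)
    rw [← Submodule.Quotient.mk_smul, Submodule.Quotient.mk_eq_zero] at hrm
    rw [Submodule.mem_localized']
    refine ⟨r • m, hrm, (⟨r, hr⟩ : q.asIdeal.primeCompl) * t, ?_⟩
    exact IsLocalizedModule.mk'_cancel_left (f := f) m ⟨r, hr⟩ t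

section proj

variable [Module.Finite A M] [Module.Projective A M]

attribute [local instance] Module.free_of_flat_of_isLocalRing

lemma exists_gen (n : ℕ) (p : PrimeSpectrum A) (h : Module.rankAtStalk M p = n) :
    ∃ b : Fin n → M, Gen b p := by
  have hfr : Module.finrank (Localization.AtPrime p.asIdeal)
      (LocalizedModule p.asIdeal.primeCompl M) = n := h
  let β := Module.finBasisOfFinrankEq (Localization.AtPrime p.asIdeal)
      (LocalizedModule p.asIdeal.primeCompl M) hfr
  set f := LocalizedModule.mkLinearMap p.asIdeal.primeCompl M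
  have hsurj := IsLocalizedModule.mk'_surjective p.asIdeal.primeCompl f
  choose mt hmt using fun j => hsurj (β j)
  refine ⟨fun j => (mt j).1, ?_⟩
  rw [gen_iff_localized, eq_top_iff, ← β.span_eq, Submodule.span_le]
  rintro _ ⟨j, rfl⟩
  rw [SetLike.mem_coe, Submodule.mem_localized']
  exact ⟨(mt j).1, Submodule.subset_span ⟨j, rfl⟩, (mt j).2, hmt j⟩

lemma rank_of_basis (n : ℕ) (p : PrimeSpectrum A) (g : A) (hg : g ∉ p.asIdeal)
    (β : Module.Basis (Fin n) (Localization.Away g) (LocalizedModule (Submonoid.powers g) M)) :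
    Module.rankAtStalk M p = n := by
  have hp : p ∈ Set.range (PrimeSpectrum.comap (algebraMap A (Localization.Away g))) := by
    rw [PrimeSpectrum.localization_away_comap_range (Localization.Away g) g]
    exact hg
  obtain ⟨p', rfl⟩ := hp
  have hbc : IsBaseChange (Localization.Away g)
      (LocalizedModule.mkLinearMap (Submonoid.powers g) M) :=
    IsLocalizedModule.isBaseChange (Submonoid.powers g) _ _
  rw [← Module.rankAtStalk_isBaseChange hbc p']
  haveI : Module.Free (Localization.Away g) (LocalizedModule (Submonoid.powers g) M) :=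
    Module.Free.of_basis β
  haveI : Nontrivial (Localization.Away g) := p'.nontrivial
  rw [Module.rankAtStalk_eq_finrank_of_free]
  simp [Module.finrank_eq_card_basis β]

lemma exists_global (n : ℕ) (P : Finset (PrimeSpectrum A))
    (hr : ∀ p ∈ P, Module.rankAtStalk M p = n) :
    ∃ s : Fin n → M, ∀ t, Maximal (· ∈ P) t → Gen s t := by
  classical
  have hsep : ∀ t t' : PrimeSpectrum A, ∃ a : A, ¬ t' ≤ t → a ∈ t'.asIdeal ∧ a ∉ t.asIdeal := by
    intro t t'
    by_cases h : t' ≤ t
    · exact ⟨0, fun h' => absurd h h'⟩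
    · obtain ⟨a, ha⟩ := SetLike.not_le_iff_exists.mp
        (mt (PrimeSpectrum.asIdeal_le_asIdeal _ _).mp h)
      exact ⟨a, fun _ => ha⟩
  choose a ha using hsep
  have hb : ∀ t : PrimeSpectrum A, ∃ b : Fin n → M, t ∈ P → Gen b t := by
    intro t
    by_cases h : t ∈ P
    · obtain ⟨b, hb⟩ := exists_gen n t (hr t h)
      exact ⟨b, fun _ => hb⟩
    · exact ⟨fun _ => 0, fun h' => absurd h' h⟩
  choose b hb using hb
  let e : PrimeSpectrum A → A := fun t => ∏ t' ∈ P.filter (fun t' => ¬ t' ≤ t), a t t'
  have he1 : ∀ t, e t ∉ t.asIdeal := by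
    intro t h
    rw [Ideal.IsPrime.prod_mem_iff] at h
    obtain ⟨t', ht', h⟩ := h
    rw [Finset.mem_filter] at ht'
    exact (ha t t' ht'.2).2 h
  have he2 : ∀ t, ∀ t' ∈ P, ¬ t' ≤ t → e t ∈ t'.asIdeal := by
    intro t t' ht' hle
    rw [Ideal.IsPrime.prod_mem_iff]
    exact ⟨t', Finset.mem_filter.mpr ⟨ht', hle⟩, (ha t t' hle).1⟩
  refine ⟨fun j => ∑ t ∈ P, e t • b t j, ?_⟩
  intro t ht
  set B := Localization.AtPrime t.asIdeal
  set f := LocalizedModule.mkLinearMap t.asIdeal.primeCompl M
  unfold Gen
  set N := Submodule.span B (Set.range fun j => f (∑ t ∈ P, e t • b t j))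
  rw [eq_top_iff]
  refine Submodule.le_of_le_smul_of_le_jacobson_bot (I := IsLocalRing.maximalIdeal B)
    Module.Finite.fg_top (IsLocalRing.maximalIdeal_le_jacobson _) ?_
  have hbt : Submodule.span B (Set.range fun j => f (b t j)) = ⊤ := hb t ht.1
  rw [← hbt, Submodule.span_le]
  rintro _ ⟨j, rfl⟩
  rw [SetLike.mem_coe, hbt]
  have key : algebraMap A B (e t) • f (b t j) ∈ N ⊔ IsLocalRing.maximalIdeal B • ⊤ := by
    have hs : f (∑ t ∈ P, e t • b t j) = algebraMap A B (e t) • f (b t j) +
        ∑ t' ∈ P.erase t, algebraMap A B (e t') • f (b t' j) := by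
      rw [← Finset.add_sum_erase P _ ht.1]
      simp only [map_add, map_sum, map_smul, algebraMap_smul]
    have h2 : algebraMap A B (e t) • f (b t j) = f (∑ t ∈ P, e t • b t j) -
        ∑ t' ∈ P.erase t, algebraMap A B (e t') • f (b t' j) := by
      rw [hs]; abel
    rw [h2]
    apply Submodule.sub_mem
    · exact Submodule.mem_sup_left (Submodule.subset_span ⟨j, rfl⟩)
    · apply Submodule.mem_sup_right
      apply Submodule.sum_mem
      intro t' ht'
      apply Submodule.smul_mem_smul ?_ Submodule.mem_top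
      rw [IsLocalization.AtPrime.to_map_mem_maximal_iff B t.asIdeal]
      apply he2 t' t ht.1
      intro hle
      have := ht.2 (Finset.mem_of_mem_erase ht') hle
      exact (Finset.ne_of_mem_erase ht') (le_antisymm this hle)
  obtain ⟨u, hu⟩ := IsLocalization.map_units B (⟨e t, he1 t⟩ : t.asIdeal.primeCompl)
  have := Submodule.smul_mem _ ((↑u⁻¹ : B)) key
  rwa [← hu, smul_smul, Units.inv_mul, one_smul] at this

theorem main (n : ℕ) (P : Finset (PrimeSpectrum A))
    (hP : ∀ p ∈ P, ∃ g : A, g ∉ p.asIdeal ∧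
      Nonempty (Module.Basis (Fin n) (Localization.Away g)
        (LocalizedModule (Submonoid.powers g) M))) :
    ∃ (s : Fin n → M) (U : Set (PrimeSpectrum A)), IsOpen U ∧ (∀ p ∈ P, p ∈ U) ∧
      ∀ q ∈ U,
        LinearIndependent (Localization.AtPrime q.asIdeal)
            (fun j => LocalizedModule.mkLinearMap q.asIdeal.primeCompl M (s j)) ∧
          Submodule.span (Localization.AtPrime q.asIdeal)
            (Set.range fun j => LocalizedModule.mkLinearMap q.asIdeal.primeCompl M (s j)) = ⊤ := by
  have hr : ∀ p ∈ P, Module.rankAtStalk M p = n := by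
    intro p hp
    obtain ⟨g, hg, ⟨β⟩⟩ := hP p hp
    exact rank_of_basis n p g hg β
  obtain ⟨s, hs⟩ := exists_global n P hr
  have : Module.FinitePresentation A M := Module.finitePresentation_of_projective A M
  refine ⟨s, {q | Module.rankAtStalk M q = n} ∩
    (Module.support A (M ⧸ Submodule.span A (Set.range s)))ᶜ, ?_, ?_, ?_⟩
  · apply IsOpen.inter
    · exact (Module.isLocallyConstant_rankAtStalk (R := A) (M := M)).isOpen_fiber n
    · exact Module.isClosed_support.isOpen_compl
  · intro p hp
    refine ⟨hr p hp, ?_⟩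
    obtain ⟨t, hpt, ht⟩ := P.exists_le_maximal hp
    have h1 := (gen_iff_support s t).mp (hs t ht)
    intro h2
    exact h1 (Module.mem_support_mono hpt h2)
  · rintro q ⟨hq1, hq2⟩
    have hgen : Gen s q := (gen_iff_support s q).mpr hq2
    refine ⟨?_, hgen⟩
    apply linearIndependent_of_top_le_span_of_card_eq_finrank
    · exact hgen.ge
    · rw [Fintype.card_fin]
      exact hq1.symm

end proj

end Groth.Agent.Lib.Helper26.SpreadBasis
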