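import Mathlib
import Groth.Agent.Lib.Helper26.SpreadBasis

namespace Groth.Agent.Lib.Helper26.SpreadBasis2

open SpreadBasis

universe u

variable {A : Type u} [CommRing A] {M : Type u} [AddCommGroup M] [Module A M]
  [Module.Finite A M] [Module.Projective A M]

theorem main (r : ℕ) (hr : ∀ p : PrimeSpectrum A, Module.rankAtStalk M p = r)
    (Z : Set (PrimeSpectrum A)) (hZ : Z.Finite) :
    ∃ s : A, (∀ p ∈ Z, s ∉ p.asIdeal) ∧
      Nonempty (Module.Basis (Fin r) (Localization.Away s)
        (LocalizedModule (Submonoid.powers s) M)) := by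
  classical
  obtain ⟨s, hs⟩ := exists_global r hZ.toFinset (fun p _ => hr p)
  set N := Submodule.span A (Set.range s) with hN
  -- every `p ∈ Z` is outside the support of `M ⧸ N`
  have hsupp : ∀ p ∈ hZ.toFinset, p ∉ Module.support A (M ⧸ N) := by
    intro p hp
    obtain ⟨t, hpt, ht⟩ := hZ.toFinset.exists_le_maximal hp
    have h1 := (gen_iff_support s t).mp (hs t ht)
    intro h2
    exact h1 (Module.mem_support_mono hpt h2)
  -- prime avoidance
  have hav : ¬ ((Module.annihilator A (M ⧸ N) : Set A) ⊆
      ⋃ p ∈ (hZ.toFinset : Set (PrimeSpectrum A)), (p.asIdeal : Set A)) := by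
    intro hsub
    have h0 := hsub (zero_mem (Module.annihilator A (M ⧸ N)))
    simp only [Set.mem_iUnion] at h0
    obtain ⟨p₀, -, -⟩ := h0
    obtain ⟨p, hp, hle⟩ := (Ideal.subset_union_prime (f := fun p : PrimeSpectrum A => p.asIdeal)
      p₀ p₀ (fun i _ _ _ => i.2)).mp hsub
    apply hsupp p hp
    rw [Module.support_eq_zeroLocus, PrimeSpectrum.mem_zeroLocus]
    exact hle
  obtain ⟨a, haI, hau⟩ := Set.not_subset.mp hav
  have haZ : ∀ p ∈ Z, a ∉ p.asIdeal := by
    intro p hp hap
    apply hau
    simp only [Set.mem_iUnion]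
    exact ⟨p, by simpa using hp, hap⟩
  refine ⟨a, haZ, ?_⟩
  -- `a` kills `M ⧸ N`
  have hkill : ∀ m : M, a • m ∈ N := by
    intro m
    have := Module.mem_annihilator.mp haI (Submodule.Quotient.mk m)
    rwa [← Submodule.Quotient.mk_smul, Submodule.Quotient.mk_eq_zero] at this
  set f := LocalizedModule.mkLinearMap (Submonoid.powers a) M
  -- the family spans the localization
  have hspan : Submodule.span (Localization.Away a) (Set.range fun j => f (s j)) = ⊤ := by
    have h1 : Submodule.span (Localization.Away a) (Set.range fun j => f (s j)) =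
        N.localized' (Localization.Away a) (Submonoid.powers a) f := by
      rw [hN, Submodule.localized'_span, ← Set.range_comp]
      rfl
    rw [h1, eq_top_iff]
    intro x _
    obtain ⟨⟨m, t⟩, rfl⟩ := IsLocalizedModule.mk'_surjective (Submonoid.powers a) f x
    rw [Submodule.mem_localized']
    refine ⟨a • m, hkill m, (⟨a, Submonoid.mem_powers a⟩ : Submonoid.powers a) * t, ?_⟩
    exact IsLocalizedModule.mk'_cancel_left (f := f) m ⟨a, Submonoid.mem_powers a⟩ t
  -- the induced map from the free module is bijective
  let ψ : (Fin r →₀ Localization.Away a) →ₗ[Localization.Away a]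
      LocalizedModule (Submonoid.powers a) M :=
    Finsupp.linearCombination (Localization.Away a) (fun j => f (s j))
  have hψs : Function.Surjective ψ := by
    rw [← LinearMap.range_eq_top, Finsupp.range_linearCombination]
    exact hspan
  have hψ : Function.Bijective ψ := by
    apply Module.bijective_of_surjective_of_rankAtStalk_eq hψs
    intro m hm
    have : Nontrivial (Localization.Away a) :=
      (⟨m, hm.isPrime⟩ : PrimeSpectrum (Localization.Away a)).nontrivial
    have hbc : IsBaseChange (Localization.Away a)
        (LocalizedModule.mkLinearMap (Submonoid.powers a) M) :=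
      IsLocalizedModule.isBaseChange (Submonoid.powers a) _ _
    rw [Module.rankAtStalk_isBaseChange hbc, hr, Module.rankAtStalk_eq_finrank_of_free]
    simp
  exact ⟨Module.Basis.ofRepr (LinearEquiv.ofBijective ψ hψ).symm⟩

end Groth.Agent.Lib.Helper26.SpreadBasis2
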