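import Mathlib
import Groth.Agent.Lib.Helper26.ComodT

namespace Groth.Agent.Lib.Helper26.SubcomodProj

open TensorProduct HopfRep Groth.Agent.Lib.Helper26.Comod

universe u v w

section Slice

variable {k : Type u} [CommRing k] {A : Type v} [AddCommGroup A] [Module k A]
variable {V : Type w} [AddCommGroup V] [Module k V]

theorem slice_lTensor {A' : Type*} [AddCommGroup A'] [Module k A'] (f : A →ₗ[k] A')
    (ψ : A' →ₗ[k] k) (x : V ⊗[k] A) :
    slice ψ (f.lTensor V x) = slice (ψ ∘ₗ f) x := by
  induction x using TensorProduct.induction_on with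
  | zero => simp
  | tmul v a => simp
  | add x y hx hy => simp only [map_add, hx, hy]

theorem slice_mem_of_mem_range_rTensor' (W : Submodule k V) (x : V ⊗[k] A)
    (hx : x ∈ LinearMap.range (W.subtype.rTensor A)) (φ : A →ₗ[k] k) : slice φ x ∈ W := by
  obtain ⟨y, rfl⟩ := hx
  rw [slice_rTensor]
  exact (slice φ y).2

theorem mem_range_rTensor_of_slice_mem_proj [Module.Projective k A] (W : Submodule k V)
    (x : V ⊗[k] A) (h : ∀ φ : A →ₗ[k] k, slice φ x ∈ W) :
    x ∈ LinearMap.range (W.subtype.rTensor A) := by
  obtain ⟨s, hs⟩ := Module.projective_def'.mp (inferInstance : Module.Projective k A)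
  have h' : (s.lTensor V) x ∈ LinearMap.range (W.subtype.rTensor (A →₀ k)) := by
    apply mem_range_rTensor_of_slice_mem
    intro ψ
    rw [slice_lTensor]
    exact h _
  obtain ⟨y, hy⟩ := h'
  refine ⟨(Finsupp.linearCombination k id).lTensor W y, ?_⟩
  have h1 : (W.subtype.rTensor A) ((Finsupp.linearCombination k id).lTensor W y) =
      (Finsupp.linearCombination k id).lTensor V ((W.subtype.rTensor (A →₀ k)) y) := by
    rw [← LinearMap.comp_apply, ← LinearMap.comp_apply, LinearMap.rTensor_comp_lTensor,
      LinearMap.lTensor_comp_rTensor]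
  rw [h1, hy, ← LinearMap.comp_apply, ← LinearMap.lTensor_comp, hs, LinearMap.lTensor_id,
    LinearMap.id_apply]

/-- finite expansion of slices for a projective module. -/
theorem exists_finset_slice [Module.Projective k A] (x : V ⊗[k] A) :
    ∃ (c : A → (A →ₗ[k] k)) (S : Finset A), ∀ φ : A →ₗ[k] k,
      slice φ x = ∑ α ∈ S, φ α • slice (c α) x := by
  classical
  obtain ⟨s, hs⟩ := Module.projective_def'.mp (inferInstance : Module.Projective k A)
  refine ⟨fun α => (Finsupp.lapply α) ∘ₗ s, ?_⟩
  have key : ∃ S : Finset A, ∀ S' : Finset A, S ⊆ S' → ∀ φ : A →ₗ[k] k,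
      slice φ x = ∑ α ∈ S', φ α • slice ((Finsupp.lapply α) ∘ₗ s) x := by
    induction x using TensorProduct.induction_on with
    | zero => exact ⟨∅, fun S' _ φ => by simp⟩
    | tmul v a =>
      refine ⟨(s a).support, fun S' hS' φ => ?_⟩
      have ha : a = ∑ α ∈ S', (s a) α • α := by
        have h1 := LinearMap.congr_fun hs a
        rw [LinearMap.comp_apply, LinearMap.id_apply, Finsupp.linearCombination_apply,
          Finsupp.sum] at h1
        rw [← Finset.sum_subset hS' (fun α _ hα => by
          rw [Finsupp.notMem_support_iff.mp hα, zero_smul])]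
        exact h1.symm
      simp only [slice_tmul, LinearMap.comp_apply, Finsupp.lapply_apply]
      conv_lhs => rw [ha, map_sum, Finset.sum_smul]
      refine Finset.sum_congr rfl (fun α _ => ?_)
      rw [map_smul, smul_eq_mul, mul_smul, smul_comm]
    | add x y hx hy =>
      obtain ⟨S1, h1⟩ := hx
      obtain ⟨S2, h2⟩ := hy
      refine ⟨S1 ∪ S2, fun S' hS' φ => ?_⟩
      rw [map_add, h1 S' (Finset.union_subset_left hS') φ, h2 S' (Finset.union_subset_right hS') φ,
        ← Finset.sum_add_distrib]
      refine Finset.sum_congr rfl (fun α _ => ?_)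
      rw [map_add, smul_add]
  obtain ⟨S, hS⟩ := key
  exact ⟨S, hS S subset_rfl⟩

end Slice

section Main

variable (k : Type u) [CommRing k] (A : Type v) [AddCommGroup A] [Module k A] [Coalgebra k A]
  [Module.Projective k A]
variable (V : Type w) [AddCommGroup V] [Module k V] [Comod k A V]

theorem main (M : Submodule k V) :
    ∃ W : Submodule k V, HopfRep.IsSubcomod (k := k) (A := A) W ∧ M ≤ W ∧
      (∀ W' : Submodule k V, HopfRep.IsSubcomod (k := k) (A := A) W' → M ≤ W' → W ≤ W') ∧
      (M.FG → W.FG) := by
  classical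
  set W : Submodule k V := Submodule.span k {w | ∃ m ∈ M, ∃ φ : A →ₗ[k] k, w = T φ m} with hW
  have hgen : ∀ m ∈ M, ∀ φ : A →ₗ[k] k, T φ m ∈ W := fun m hm φ =>
    Submodule.subset_span ⟨m, hm, φ, rfl⟩
  refine ⟨W, ?_, ?_, ?_, ?_⟩
  · -- subcomodule
    have hstab : ∀ ψ : A →ₗ[k] k, ∀ w ∈ W, T ψ w ∈ W := by
      intro ψ w hw
      refine Submodule.span_induction ?_ ?_ ?_ ?_ hw
      · rintro _ ⟨m, hm, φ, rfl⟩
        rw [T_T]
        exact hgen m hm _
      · rw [map_zero]; exact Submodule.zero_mem _
      · intro x y _ _ hx hy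
        rw [map_add]; exact Submodule.add_mem _ hx hy
      · intro c x _ hx
        rw [map_smul]; exact Submodule.smul_mem _ c hx
    intro w hw
    apply mem_range_rTensor_of_slice_mem_proj
    intro ψ
    exact hstab ψ w hw
  · intro m hm
    have := hgen m hm (Coalgebra.counit (R := k) (A := A))
    rwa [T_counit] at this
  · intro W' hW' hMW'
    rw [hW, Submodule.span_le]
    rintro _ ⟨m, hm, φ, rfl⟩
    exact slice_mem_of_mem_range_rTensor' W' _ (hW' m (hMW' hm)) φ
  · rintro ⟨t, ht⟩
    choose c S hS using fun m : V =>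
      exists_finset_slice (k := k) (A := A) (Comod.coact (k := k) (A := A) m)
    let G : Finset V := t.biUnion (fun m => (S m).image (fun α => T (c m α) m))
    have hGW : (G : Set V) ⊆ W := by
      intro w hw
      rw [Finset.mem_coe, Finset.mem_biUnion] at hw
      obtain ⟨m, hmt, hw⟩ := hw
      rw [Finset.mem_image] at hw
      obtain ⟨α, _, rfl⟩ := hw
      apply hgen m _ _
      rw [← ht]
      exact Submodule.subset_span hmt
    have hWG : W ≤ Submodule.span k (G : Set V) := by
      rw [hW, Submodule.span_le]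
      rintro _ ⟨m, hm, φ, rfl⟩
      rw [← ht] at hm
      refine Submodule.span_induction ?_ ?_ ?_ ?_ hm
      · intro m hmt
        rw [T_apply, hS m φ]
        refine Submodule.sum_mem _ (fun α hα => Submodule.smul_mem _ _ (Submodule.subset_span ?_))
        rw [Finset.mem_coe, Finset.mem_biUnion]
        exact ⟨m, hmt, Finset.mem_image.mpr ⟨α, hα, rfl⟩⟩
      · rw [map_zero]; exact Submodule.zero_mem _
      · intro x y _ _ hx hy
        rw [map_add]; exact Submodule.add_mem _ hx hy
      · intro a x _ hx
        rw [map_smul]; exact Submodule.smul_mem _ a hx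
    have : W = Submodule.span k (G : Set V) :=
      le_antisymm hWG (Submodule.span_le.mpr hGW)
    rw [this]
    exact Submodule.fg_span G.finite_toSet

end Main

end Groth.Agent.Lib.Helper26.SubcomodProj
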