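import Mathlib
import Groth.Agent.Lib.Helper26.SubcomodProj

namespace Groth.Agent.Lib.Helper26.SubcomodFlat

open TensorProduct HopfRep Groth.Agent.Lib.Helper26.Comod Groth.Agent.Lib.Helper26.SubcomodProj

universe u v w

variable (k : Type u) [CommRing k] [IsNoetherianRing k] (A : Type v) [AddCommGroup A] [Module k A]
  [Coalgebra k A] [Module.Flat k A]
variable (V : Type w) [AddCommGroup V] [Module k V] [Comod k A V]

omit [IsNoetherianRing k] [Coalgebra k A] [Module.Flat k A] [Comod k A V] in
lemma L1 (N : Submodule k V) (n : N) (z : A ⊗[k] A) :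
    ((N.mkQ.rTensor A).rTensor A) ((TensorProduct.assoc k V A A).symm ((n : V) ⊗ₜ[k] z)) = 0 := by
  induction z using TensorProduct.induction_on with
  | zero => simp
  | tmul c1 c2 =>
    rw [TensorProduct.assoc_symm_tmul, LinearMap.rTensor_tmul, LinearMap.rTensor_tmul,
      Submodule.mkQ_apply, (Submodule.Quotient.mk_eq_zero N).mpr n.2, zero_tmul, zero_tmul]
  | add x y hx hy => rw [tmul_add, map_add, map_add, hx, hy, add_zero]

omit [IsNoetherianRing k] [Module.Flat k A] [Comod k A V] in
lemma L2 (N : Submodule k V) (y : N ⊗[k] A) :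
    ((N.mkQ.rTensor A).rTensor A) ((TensorProduct.assoc k V A A).symm
      ((CoalgebraStruct.comul (R := k) (A := A)).lTensor V ((N.subtype.rTensor A) y))) = 0 := by
  induction y using TensorProduct.induction_on with
  | zero => simp
  | tmul n c =>
    rw [LinearMap.rTensor_tmul, LinearMap.lTensor_tmul, Submodule.subtype_apply]
    exact L1 k A V N n _
  | add x y hx hy => rw [map_add, map_add, map_add, map_add, hx, hy, add_zero]

theorem main (M : Submodule k V) (hM : M.FG) :
    ∃ W : Submodule k V, HopfRep.IsSubcomod (k := k) (A := A) W ∧ M ≤ W ∧ W.FG := by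
  classical
  obtain ⟨t, ht⟩ := hM
  obtain ⟨N, hNfin, hN⟩ := TensorProduct.exists_finite_submodule_left_of_setFinite
    ((Comod.coact (k := k) (A := A)) '' (t : Set V)) (t.finite_toSet.image _)
  set γ : V →ₗ[k] (V ⧸ N) ⊗[k] A := (N.mkQ.rTensor A) ∘ₗ Comod.coact (k := k) (A := A) with hγ
  have hex : Function.Exact (N.subtype.rTensor A) (N.mkQ.rTensor A) :=
    rTensor_exact A (LinearMap.exact_subtype_mkQ N) (Submodule.mkQ_surjective N)
  have hmemW : ∀ v : V, v ∈ LinearMap.ker γ ↔
      Comod.coact (k := k) (A := A) v ∈ LinearMap.range (N.subtype.rTensor A) := by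
    intro v
    rw [LinearMap.mem_ker, hγ, LinearMap.comp_apply]
    exact hex _
  refine ⟨LinearMap.ker γ, ?_, ?_, ?_⟩
  · -- subcomodule
    have hexW : Function.Exact ((LinearMap.ker γ).subtype.rTensor A) (γ.rTensor A) :=
      Module.Flat.rTensor_exact A (LinearMap.exact_subtype_ker_map γ)
    intro w hw
    rw [← LinearMap.exact_iff.mp hexW, LinearMap.mem_ker, hγ, LinearMap.rTensor_comp,
      LinearMap.comp_apply]
    have hco := LinearMap.congr_fun (Comod.coassoc (k := k) (A := A) (V := V)) w
    simp only [LinearMap.comp_apply, LinearEquiv.coe_coe] at hco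
    have hco' : (Comod.coact (k := k) (A := A)).rTensor A (Comod.coact (k := k) (A := A) w) =
        (TensorProduct.assoc k V A A).symm ((CoalgebraStruct.comul (R := k) (A := A)).lTensor V
          (Comod.coact (k := k) (A := A) w)) := by
      rw [← hco, LinearEquiv.symm_apply_apply]
    rw [hco']
    obtain ⟨y, hy⟩ := (hmemW w).mp hw
    rw [← hy]
    exact L2 k A V N y
  · rw [← ht, Submodule.span_le]
    intro m hm
    rw [SetLike.mem_coe, hmemW]
    exact hN ⟨m, hm, rfl⟩
  · have hWN : LinearMap.ker γ ≤ N := by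
      intro v hv
      have h1 := (hmemW v).mp hv
      have h2 := slice_mem_of_mem_range_rTensor' N _ h1 (Coalgebra.counit (R := k) (A := A))
      rw [← T_apply, T_counit] at h2
      exact h2
    have hNfg : N.FG := Module.Finite.iff_fg.mp hNfin
    have : IsNoetherian k N := isNoetherian_of_fg_of_noetherian N hNfg
    exact isNoetherian_submodule.mp this _ hWN

end Groth.Agent.Lib.Helper26.SubcomodFlat
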