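import Mathlib
import Groth.Agent.Lib.Helper26.K0Local

namespace Groth.Agent.Lib.Helper26.SurjLocus

open TensorProduct

universe u

variable {R : Type u} [CommRing R] {P₁ P₂ : Type u} [AddCommGroup P₁] [Module R P₁]
  [AddCommGroup P₂] [Module R P₂]

/-- `φ ⊗ κ(p)` is surjective iff `p` is not in the support of the cokernel. -/
lemma surj_iff [Module.Finite R P₂] (φ : P₁ →ₗ[R] P₂) (p : PrimeSpectrum R) :
    Function.Surjective (φ.lTensor p.asIdeal.ResidueField) ↔
      p ∉ Module.support R (P₂ ⧸ LinearMap.range φ) := by
  rw [Module.mem_support_iff_nontrivial_residueField_tensorProduct, not_nontrivial_iff_subsingleton]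
  have hex := lTensor_exact p.asIdeal.ResidueField (LinearMap.exact_map_mkQ_range φ)
    (Submodule.mkQ_surjective _)
  have hsurj := LinearMap.lTensor_surjective p.asIdeal.ResidueField
    (Submodule.mkQ_surjective (LinearMap.range φ))
  constructor
  · intro h
    refine ⟨fun a b => ?_⟩
    obtain ⟨a', rfl⟩ := hsurj a
    obtain ⟨b', rfl⟩ := hsurj b
    obtain ⟨a'', rfl⟩ := h a'
    obtain ⟨b'', rfl⟩ := h b'
    rw [hex.apply_apply_eq_zero, hex.apply_apply_eq_zero]
  · intro h y
    exact (hex y).mp (Subsingleton.elim _ _)

theorem main [Module.Finite R P₁] [Module.Projective R P₁] [Module.Finite R P₂]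
    [Module.Projective R P₂] (φ : P₁ →ₗ[R] P₂) :
    IsOpen {p : PrimeSpectrum R | Function.Surjective (φ.lTensor p.asIdeal.ResidueField)} ∧
    ∀ f : R, (↑(PrimeSpectrum.basicOpen f) : Set (PrimeSpectrum R)) ⊆
        {p : PrimeSpectrum R | Function.Surjective (φ.lTensor p.asIdeal.ResidueField)} →
      Function.Surjective (LocalizedModule.map (Submonoid.powers f) φ) ∧
      Module.Finite (Localization.Away f)
        (LocalizedModule (Submonoid.powers f) (LinearMap.ker φ)) ∧
      Module.Projective (Localization.Away f)
        (LocalizedModule (Submonoid.powers f) (LinearMap.ker φ)) := by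
  have hW : {p : PrimeSpectrum R | Function.Surjective (φ.lTensor p.asIdeal.ResidueField)} =
      (Module.support R (P₂ ⧸ LinearMap.range φ))ᶜ := by
    ext p
    exact surj_iff φ p
  rw [hW]
  refine ⟨Module.isClosed_support.isOpen_compl, ?_⟩
  intro f hf
  have hsurj : Function.Surjective (LocalizedModule.map (Submonoid.powers f) φ) := by
    rw [LinearMap.localizedMap_surjective_iff_subsingleton_localized_coker]
    exact LocalizedModule.subsingleton_iff_disjoint.mpr
      (Set.disjoint_left.mpr fun p hp hp' => hf hp hp')
  refine ⟨hsurj, ?_⟩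
  have hinj : Function.Injective
      (LocalizedModule.map (Submonoid.powers f) (LinearMap.ker φ).subtype) :=
    IsLocalizedModule.map_injective (Submonoid.powers f) _ _ _ (Submodule.subtype_injective _)
  have hex : Function.Exact (LocalizedModule.map (Submonoid.powers f) (LinearMap.ker φ).subtype)
      (LocalizedModule.map (Submonoid.powers f) φ) :=
    LocalizedModule.map_exact (Submonoid.powers f) _ _ (LinearMap.exact_subtype_ker_map φ)
  obtain ⟨e⟩ := K0Local.split hex hinj hsurj
  have hfin : Module.Finite (Localization.Away f)
      (LocalizedModule (Submonoid.powers f) (LinearMap.ker φ) ×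
        LocalizedModule (Submonoid.powers f) P₂) := Module.Finite.equiv e
  have hproj : Module.Projective (Localization.Away f)
      (LocalizedModule (Submonoid.powers f) (LinearMap.ker φ) ×
        LocalizedModule (Submonoid.powers f) P₂) := Module.Projective.of_equiv e
  constructor
  · exact Module.Finite.of_surjective (LinearMap.fst (Localization.Away f)
      (LocalizedModule (Submonoid.powers f) (LinearMap.ker φ))
      (LocalizedModule (Submonoid.powers f) P₂)) LinearMap.fst_surjective
  · exact Module.Projective.of_split (LinearMap.inl (Localization.Away f)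
      (LocalizedModule (Submonoid.powers f) (LinearMap.ker φ))
      (LocalizedModule (Submonoid.powers f) P₂)) (LinearMap.fst _ _ _) (by ext; simp)

end Groth.Agent.Lib.Helper26.SurjLocus
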