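import Mathlib

/-!
# Kernel of a torsion-free quotient of a rank-one module over a reduced Noetherian ring
-/

namespace Groth.Agent.Lib.Helper26.TFQuotKer

set_option maxHeartbeats 400000

universe u

open Submodule

lemma inj_of_finrank_one {K V W : Type*} [CommRing K] (hK : IsField K) [AddCommGroup V]
    [Module K V] [AddCommGroup W] [Module K W] [Nontrivial W] (h : Module.finrank K V = 1)
    (φ : V →ₗ[K] W) (hφ : Function.Surjective φ) : Function.Injective φ := by
  letI := hK.toField
  obtain ⟨v, hv, hspan⟩ := finrank_eq_one_iff'.1 h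
  have hφv : φ v ≠ 0 := by
    intro h0
    obtain ⟨w, hw⟩ := exists_ne (0 : W)
    obtain ⟨y, rfl⟩ := hφ w
    obtain ⟨c, rfl⟩ := hspan y
    apply hw
    rw [map_smul, h0, smul_zero]
  rw [injective_iff_map_eq_zero]
  intro y hy
  obtain ⟨c, rfl⟩ := hspan y
  rw [map_smul, smul_eq_zero] at hy
  rcases hy with hc | hc
  · rw [hc, zero_smul]
  · exact absurd hc hφv

theorem main (R : Type u) [CommRing R] [IsNoetherianRing R] [IsReduced R] (M : Type u)
    [AddCommGroup M] [Module R M]
    (hrk : ∀ p : PrimeSpectrum R, p.asIdeal ∈ minimalPrimes R →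
      Module.finrank (Localization.AtPrime p.asIdeal)
        (LocalizedModule p.asIdeal.primeCompl M) = 1)
    (Q : Type u) [AddCommGroup Q] [Module R Q]
    (hQ : associatedPrimes R Q ⊆ minimalPrimes R) (g : M →ₗ[R] Q)
    (hg : Function.Surjective g) :
    LinearMap.ker g = ⨅ p ∈ {p : PrimeSpectrum R | p.asIdeal ∈ minimalPrimes R ∧
        p ∈ Module.support R Q},
      LinearMap.ker (LocalizedModule.mkLinearMap p.asIdeal.primeCompl M) := by
  apply le_antisymm
  · intro x hx
    simp only [Submodule.mem_iInf]
    rintro p ⟨hpmin, hpsupp⟩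
    have hdim : Ring.KrullDimLE 0 (Localization.AtPrime p.asIdeal) :=
      .of_isLocalization _ hpmin _
    have hfield : IsField (Localization.AtPrime p.asIdeal) :=
      Ring.KrullDimLE.isField_of_isReduced
    haveI : Nontrivial (LocalizedModule p.asIdeal.primeCompl Q) := hpsupp
    have hinj := inj_of_finrank_one hfield (hrk p hpmin)
      (LocalizedModule.map p.asIdeal.primeCompl g) (LocalizedModule.map_surjective _ g hg)
    rw [LinearMap.mem_ker, LocalizedModule.mkLinearMap_apply]
    apply hinj
    rw [LocalizedModule.map_mk, map_zero, LinearMap.mem_ker.1 hx, LocalizedModule.zero_mk]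
  · intro x hx
    simp only [Submodule.mem_iInf] at hx
    by_contra hgx
    have hgx' : g x ≠ 0 := hgx
    obtain ⟨P, hP, hle⟩ := exists_le_isAssociatedPrime_of_isNoetherianRing R (g x) hgx'
    have hPmin : P ∈ minimalPrimes R := hQ hP
    haveI := hP.isPrime
    let p : PrimeSpectrum R := ⟨P, hP.isPrime⟩
    have hpsupp : p ∈ Module.support R Q := by
      rw [Module.mem_support_iff_exists_annihilator]
      refine ⟨g x, fun r hr => hle ?_⟩
      rw [Submodule.mem_colon_singleton, Submodule.mem_bot]
      exact (Submodule.mem_annihilator_span_singleton _ _).1 hr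
    have := hx p ⟨hPmin, hpsupp⟩
    rw [LocalizedModule.mem_ker_mkLinearMap_iff] at this
    obtain ⟨r, hr, hrx⟩ := this
    apply hr
    apply hle
    rw [Submodule.mem_colon_singleton, Submodule.mem_bot, ← map_smul, hrx, map_zero]

end Groth.Agent.Lib.Helper26.TFQuotKer
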