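import Mathlib
import Groth.Prelude.Def_CoactBr2
import Groth.Prelude.Def_Hoch

namespace Groth.Agent.Lib.Helper26.TameDescent

open TensorProduct HopfRep

universe u v w

variable (R : Type u) (A : Type v) (B : Type w)
  [CommRing R] [CommRing A] [HopfAlgebra R A]
  [CommRing B] [Algebra R B] [HopfRep.Comod R A B] [GLin.IsCoactAlg R A B]

/-- multiplication `C ⊗ B → B`. -/
noncomputable def mu : ↥(GLin.invariants R A B) ⊗[R] B →ₗ[R] B :=
  (Algebra.TensorProduct.productMap (GLin.invariants R A B).val (AlgHom.id R B)).toLinearMap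

lemma mu_tmul (c : ↥(GLin.invariants R A B)) (b : B) : mu R A B (c ⊗ₜ[R] b) = (c : B) * b := by
  simp [mu]

lemma mu_smul (c : ↥(GLin.invariants R A B)) (y : ↥(GLin.invariants R A B) ⊗[R] B) :
    mu R A B (c • y) = (c : B) * mu R A B y := by
  induction y using TensorProduct.induction_on with
  | zero => simp
  | tmul c' b =>
    rw [smul_tmul', mu_tmul, mu_tmul, smul_eq_mul, Subalgebra.coe_mul, mul_assoc]
  | add x y hx hy => rw [smul_add, map_add, map_add, hx, hy, mul_add]

noncomputable def nu :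
    (↥(GLin.invariants R A B) ⊗[R] B) ⊗[↥(GLin.invariants R A B)] (↥(GLin.invariants R A B) ⊗[R] A)
      →ₗ[R] B ⊗[R] A :=
  ((mu R A B).rTensor A) ∘ₗ
    ((AlgebraTensorModule.cancelBaseChange R ↥(GLin.invariants R A B) ↥(GLin.invariants R A B)
      (↥(GLin.invariants R A B) ⊗[R] B) A).toLinearMap.restrictScalars R)

lemma nu_tmul (y : ↥(GLin.invariants R A B) ⊗[R] B) (c : ↥(GLin.invariants R A B)) (a : A) :
    nu R A B (y ⊗ₜ[↥(GLin.invariants R A B)] (c ⊗ₜ[R] a)) = mu R A B (c • y) ⊗ₜ[R] a := by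
  simp [nu]

lemma I1 (c : ↥(GLin.invariants R A B)) (w : B ⊗[R] A) :
    nu R A B (AlgebraTensorModule.tensorTensorTensorComm R ↥(GLin.invariants R A B) R
      ↥(GLin.invariants R A B) ↥(GLin.invariants R A B) ↥(GLin.invariants R A B) B A
        (((1 : ↥(GLin.invariants R A B)) ⊗ₜ[↥(GLin.invariants R A B)] c) ⊗ₜ[R] w)) =
      ((c : B) ⊗ₜ[R] (1 : A)) * w := by
  induction w using TensorProduct.induction_on with
  | zero => simp
  | tmul b a =>
    rw [AlgebraTensorModule.tensorTensorTensorComm_tmul, nu_tmul, smul_tmul', mu_tmul,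
      Algebra.TensorProduct.tmul_mul_tmul, one_mul, smul_eq_mul, mul_one]
  | add x y hx hy =>
    rw [tmul_add, map_add, map_add, hx, hy, mul_add]

lemma I1' (y : ↥(GLin.invariants R A B) ⊗[R] B) :
    HopfRep.Comod.coact (k := R) (A := A) (mu R A B y) =
      nu R A B ((CoactBr.Comod.baseChange R ↥(GLin.invariants R A B) A B).coact y) := by
  induction y using TensorProduct.induction_on with
  | zero => simp
  | tmul c b =>
    rw [CoactBr.baseChange_coact_tmul, I1, mu_tmul, GLin.IsCoactAlg.coact_mul]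
    congr 1
    exact c.2
  | add x y hx hy => rw [map_add, map_add, map_add, map_add, hx, hy]

theorem main
    (h : ∃ β : TensorProduct R ↥(GLin.invariants R A B) A →ₗ[↥(GLin.invariants R A B)]
        TensorProduct R ↥(GLin.invariants R A B) B,
      @Hoch.IsComodHom ↥(GLin.invariants R A B) _ (TensorProduct R ↥(GLin.invariants R A B) A) _ _ _
        (TensorProduct R ↥(GLin.invariants R A B) A) _ _
        (HopfRep.Comod.regular ↥(GLin.invariants R A B) (TensorProduct R ↥(GLin.invariants R A B) A))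
        (TensorProduct R ↥(GLin.invariants R A B) B) _ _
        (CoactBr.Comod.baseChange R ↥(GLin.invariants R A B) A B) β ∧ β 1 = 1) :
    ∃ α : A →ₗ[R] B, Hoch.IsComodHom A α ∧ α 1 = 1 := by
  obtain ⟨β, hβ, hβ1⟩ := h
  obtain ⟨α, hα⟩ : ∃ α : A →ₗ[R] B,
      ∀ a, α a = mu R A B (β ((1 : ↥(GLin.invariants R A B)) ⊗ₜ[R] a)) :=
    ⟨(mu R A B) ∘ₗ (β.restrictScalars R) ∘ₗ
      (TensorProduct.mk R ↥(GLin.invariants R A B) A 1), fun a => rfl⟩
  -- second identity
  have I2 : ∀ w : A ⊗[R] A,
      nu R A B ((β.rTensor (↥(GLin.invariants R A B) ⊗[R] A))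
        (AlgebraTensorModule.tensorTensorTensorComm R ↥(GLin.invariants R A B) R
          ↥(GLin.invariants R A B) ↥(GLin.invariants R A B) ↥(GLin.invariants R A B) A A
          (((1 : ↥(GLin.invariants R A B)) ⊗ₜ[↥(GLin.invariants R A B)]
            (1 : ↥(GLin.invariants R A B))) ⊗ₜ[R] w))) = (α.rTensor A) w := by
    intro w
    induction w using TensorProduct.induction_on with
    | zero => simp
    | tmul a1 a2 =>
      rw [AlgebraTensorModule.tensorTensorTensorComm_tmul, LinearMap.rTensor_tmul, nu_tmul,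
        one_smul, LinearMap.rTensor_tmul, hα]
    | add x y hx hy =>
      rw [tmul_add, map_add, map_add, map_add, map_add, hx, hy]
  refine ⟨α, ?_, ?_⟩
  · apply LinearMap.ext
    intro a
    have h1 := LinearMap.congr_fun hβ ((1 : ↥(GLin.invariants R A B)) ⊗ₜ[R] a)
    rw [LinearMap.comp_apply, LinearMap.comp_apply] at h1
    rw [LinearMap.comp_apply, LinearMap.comp_apply, hα, I1', h1]
    exact I2 _
  · rw [hα]
    have : ((1 : ↥(GLin.invariants R A B)) ⊗ₜ[R] (1 : A)) =
        (1 : ↥(GLin.invariants R A B) ⊗[R] A) := (Algebra.TensorProduct.one_def).symm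
    rw [this, hβ1, Algebra.TensorProduct.one_def, mu_tmul]
    simp

end Groth.Agent.Lib.Helper26.TameDescent
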