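import Mathlib.Topology.KrullDimension

/-!
Helper lemmas on the combinatorial dimension of topological spaces (helper26).
-/

namespace Groth.Agent.Lib.Helper26

open TopologicalSpace Set

variable {X : Type*} [TopologicalSpace X]

/-- Restriction of an irreducible closed subset `Z ⊆ Y` of `X` to the subspace `Y`. -/
def irrRestrict (Y : Set X) (Z : IrreducibleCloseds X) (h : (Z : Set X) ⊆ Y) :
    IrreducibleCloseds Y where
  carrier := Subtype.val ⁻¹' (Z : Set X)
  isIrreducible' := by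
    obtain ⟨⟨z, hz⟩, hpre⟩ := Z.isIrreducible
    refine ⟨⟨⟨z, h hz⟩, hz⟩, ?_⟩
    rintro U' V' ⟨U, hU, rfl⟩ ⟨V, hV, rfl⟩ ⟨a, ha, haU⟩ ⟨b, hb, hbV⟩
    obtain ⟨c, hc, hcU, hcV⟩ := hpre U V hU hV ⟨a, ha, haU⟩ ⟨b, hb, hbV⟩
    exact ⟨⟨c, h hc⟩, hc, hcU, hcV⟩
  isClosed' := Z.isClosed.preimage continuous_subtype_val

lemma irrRestrict_lt (Y : Set X) {Z₁ Z₂ : IrreducibleCloseds X} (h₁ : (Z₁ : Set X) ⊆ Y)
    (h₂ : (Z₂ : Set X) ⊆ Y) (h : Z₁ < Z₂) : irrRestrict Y Z₁ h₁ < irrRestrict Y Z₂ h₂ := by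
  obtain ⟨hle, z, hz₂, hz₁⟩ := SetLike.lt_iff_le_and_exists.1 h
  refine SetLike.lt_iff_le_and_exists.2 ⟨fun y hy => hle hy, ⟨z, h₂ hz₂⟩, hz₂, hz₁⟩

/-- A chain of irreducible closed subsets of `X` whose last term lies in `Y` gives a chain of
the same length in `Y`. -/
lemma length_le_topologicalKrullDim_of_last_subset (Y : Set X)
    (p : LTSeries (IrreducibleCloseds X)) (h : (p.last : Set X) ⊆ Y) :
    (p.length : WithBot ℕ∞) ≤ topologicalKrullDim Y := by
  have hk : ∀ k, ((p k : IrreducibleCloseds X) : Set X) ⊆ Y := fun k =>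
    (SetLike.coe_subset_coe.2 (p.monotone (Fin.le_last k))).trans h
  let q : LTSeries (IrreducibleCloseds Y) :=
    { length := p.length
      toFun := fun k => irrRestrict Y (p k) (hk k)
      step := fun k => irrRestrict_lt Y (hk _) (hk _) (p.step k) }
  exact Order.LTSeries.length_le_krullDim q

end Groth.Agent.Lib.Helper26
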