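import Mathlib
set_option maxHeartbeats 400000
namespace Groth.Agent.Lib.Helper26.TopFT

universe u
variable {A : Type u} [CommRing A] {B : Type u} [CommRing B] [Algebra A B]

/-- core: if `D` is a subalgebra surjecting onto `B/K` and containing generators of `K`,
then `B = D + K^n` for all `n`. -/
lemma dense_of (K : Ideal B) (D : Subalgebra A B) (C : Set B) (hCD : C ⊆ D)
    (hCK : Ideal.span C = K) (h1 : ∀ y : B, ∃ d ∈ D, y - d ∈ K) :
    ∀ n : ℕ, ∀ y : B, ∃ d ∈ D, y - d ∈ K ^ n := by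
  -- generators of K^n inside D
  have hG : ∀ n : ℕ, K ^ n = Ideal.span {g | g ∈ D ∧ g ∈ K ^ n} := by
    intro n
    induction n with
    | zero =>
      rw [pow_zero, Ideal.one_eq_top]
      symm
      rw [Ideal.eq_top_iff_one]
      exact Ideal.subset_span ⟨D.one_mem, by simp⟩
    | succ n ih =>
      apply le_antisymm
      · rw [pow_succ']
        nth_rw 1 [← hCK, ih, Ideal.span_mul_span']
        apply Ideal.span_mono
        rintro _ ⟨c, hc, g, ⟨hgD, hgK⟩, rfl⟩
        refine ⟨D.mul_mem (hCD hc) hgD, ?_⟩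
        exact Ideal.mul_mem_mul (hCK ▸ Ideal.subset_span hc) hgK
      · rw [Ideal.span_le]
        exact fun g hg => hg.2
  intro n
  induction n with
  | zero => intro y; exact ⟨0, D.zero_mem, by simp⟩
  | succ n ih =>
    intro y
    obtain ⟨d, hd, hyd⟩ := ih y
    rw [hG n, Ideal.span, Submodule.mem_span_set'] at hyd
    obtain ⟨k, β, g, hsum⟩ := hyd
    choose e he hβe using fun i => h1 (β i)
    refine ⟨d + ∑ i, e i * (g i).1, D.add_mem hd (D.sum_mem fun i _ => D.mul_mem (he i) (g i).2.1), ?_⟩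
    have : y - (d + ∑ i, e i * (g i).1) = ∑ i, (β i - e i) * (g i).1 := by
      rw [← sub_sub, ← hsum, ← Finset.sum_sub_distrib]
      refine Finset.sum_congr rfl fun i _ => ?_
      rw [smul_eq_mul]; ring
    rw [this, pow_succ']
    exact Ideal.sum_mem _ fun i _ => Ideal.mul_mem_mul (hβe i) (g i).2.2

theorem main (A : Type u) [CommRing A] [IsNoetherianRing A] (I : Ideal A) [IsAdicComplete I A]
    (B : Type u) [CommRing B] [Algebra A B] [IsNoetherianRing B] (J : Ideal B) [IsAdicComplete J B]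
    (hIJ : I.map (algebraMap A B) ≤ J.radical) (hft : Algebra.FiniteType A (B ⧸ J.radical)) :
    ∃ s : ℕ, ∃ b : Fin s → B, ∀ (y : B) (n : ℕ), ∃ p : MvPolynomial (Fin s) A,
      y - MvPolynomial.aeval b p ∈ J ^ n := by
  classical
  set K := J.radical with hK
  obtain ⟨t, ht⟩ := (hft.out : (⊤ : Subalgebra A (B ⧸ K)).FG)
  obtain ⟨C, hC⟩ := (IsNoetherian.noetherian K : K.FG)
  obtain ⟨m, hm⟩ := Ideal.exists_radical_pow_le_of_fg J (IsNoetherian.noetherian _)
  -- lifts of t
  let l : B ⧸ K → B := fun x => (Ideal.Quotient.mk_surjective x).choose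
  have hl : ∀ x, Ideal.Quotient.mk K (l x) = x := fun x => (Ideal.Quotient.mk_surjective x).choose_spec
  let T : Finset B := t.image l ∪ C
  let b : Fin T.card → B := fun i => (T.equivFin.symm i).1
  have hb : Set.range b = (T : Set B) := by
    ext x
    constructor
    · rintro ⟨i, rfl⟩; exact (T.equivFin.symm i).2
    · intro hx; exact ⟨T.equivFin ⟨x, hx⟩, by simp [b]⟩
  let D : Subalgebra A B := Algebra.adjoin A (T : Set B)
  have hCD : (C : Set B) ⊆ D := fun c hc =>
    Algebra.subset_adjoin (Finset.mem_coe.mpr (Finset.mem_union_right _ hc))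
  have h1 : ∀ y : B, ∃ d ∈ D, y - d ∈ K := by
    have hle : Algebra.adjoin A (t : Set (B ⧸ K)) ≤ D.map (Ideal.Quotient.mkₐ A K) := by
      refine Algebra.adjoin_le ?_
      intro x hx
      refine ⟨l x, Algebra.subset_adjoin ?_, hl x⟩
      exact Finset.mem_coe.mpr (Finset.mem_union_left _ (Finset.mem_image_of_mem _ hx))
    intro y
    have : Ideal.Quotient.mk K y ∈ D.map (Ideal.Quotient.mkₐ A K) := hle (by rw [ht]; trivial)
    obtain ⟨d, hd, hdy⟩ := this
    refine ⟨d, hd, ?_⟩
    rw [← Ideal.Quotient.eq]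
    exact hdy.symm
  have key := dense_of K D (C : Set B) hCD hC h1
  refine ⟨T.card, b, fun y n => ?_⟩
  obtain ⟨d, hd, hyd⟩ := key (m * n) y
  have hd' : d ∈ (MvPolynomial.aeval b : MvPolynomial (Fin T.card) A →ₐ[A] B).range := by
    rw [← Algebra.adjoin_range_eq_range_aeval, hb]; exact hd
  obtain ⟨p, rfl⟩ := hd'
  refine ⟨p, ?_⟩
  rw [pow_mul] at hyd
  exact Ideal.pow_right_mono hm n hyd

end Groth.Agent.Lib.Helper26.TopFT
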