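import Mathlib

/-!
Splitting of the `P`-primary torsion quotient off a group with `P`-divisible kernel.
-/

set_option autoImplicit false

namespace Groth.Agent.Lib.Helper26.TorsSplit

/-- elements killed by a positive integer all of whose prime factors lie in `Q` -/
def tor (Q : Set ℕ) (G : Type*) [AddCommGroup G] : AddSubgroup G where
  carrier := {t | ∃ n : ℕ, 0 < n ∧ (∀ p : ℕ, p.Prime → p ∣ n → p ∈ Q) ∧ n • t = 0}
  zero_mem' := ⟨1, one_pos, fun p hp h => absurd (Nat.dvd_one.1 h) hp.ne_one, smul_zero _⟩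
  add_mem' := by
    rintro a b ⟨m, hm, hmP, hma⟩ ⟨n, hn, hnP, hnb⟩
    refine ⟨m * n, Nat.mul_pos hm hn,
      fun p hp h => (hp.dvd_mul.1 h).elim (hmP p hp) (hnP p hp), ?_⟩
    rw [smul_add, mul_comm, mul_smul, hma, smul_zero, mul_comm, mul_smul, hnb, smul_zero, add_zero]
  neg_mem' := by
    rintro a ⟨m, hm, hmP, hma⟩
    exact ⟨m, hm, hmP, by rw [smul_neg, hma, neg_zero]⟩

variable {G : Type*} [AddCommGroup G]

lemma mem_tor {Q : Set ℕ} {t : G} :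
    t ∈ tor Q G ↔ ∃ n : ℕ, 0 < n ∧ (∀ p : ℕ, p.Prime → p ∣ n → p ∈ Q) ∧ n • t = 0 := Iff.rfl

lemma inv_smul {ℓ n : ℕ} (h : Nat.Coprime ℓ n) (hn : 0 < n) {t : G} (ht : n • t = 0) :
    ∃ c : ℕ, ℓ • (c • t) = t := by
  rcases Nat.lt_or_ge 1 n with h1 | h1
  · obtain ⟨c, -, hc⟩ := Nat.exists_mul_mod_eq_one_of_coprime h h1
    refine ⟨c, ?_⟩
    have := Nat.div_add_mod (ℓ * c) n
    rw [hc] at this
    rw [← mul_smul, ← this, add_smul, one_smul, mul_comm, mul_smul, ht, smul_zero, zero_add]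
  · have : n = 1 := by omega
    subst this
    rw [one_smul] at ht
    exact ⟨0, by rw [ht, smul_zero, smul_zero]⟩

lemma eq_zero_of_coprime {m n : ℕ} (h : Nat.Coprime m n) (hn : 0 < n) {t : G}
    (hm : m • t = 0) (ht : n • t = 0) : t = 0 := by
  obtain ⟨c, hc⟩ := inv_smul h hn ht
  rw [← hc, smul_comm, hm, smul_zero]

lemma coprime_of {Q : Set ℕ} {m n : ℕ} (hm : ∀ p : ℕ, p.Prime → p ∣ m → p ∈ Q)
    (hn : ∀ p : ℕ, p.Prime → p ∣ n → p ∈ Qᶜ) : Nat.Coprime m n :=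
  Nat.coprime_of_dvd fun k hk h1 h2 => hn k hk h2 (hm k hk h1)

lemma disjoint_tor {Q : Set ℕ} {t : G} (h1 : t ∈ tor Q G) (h2 : t ∈ tor Qᶜ G) : t = 0 := by
  obtain ⟨m, _, hmP, hmt⟩ := h1
  obtain ⟨n, hn, hnP, hnt⟩ := h2
  exact eq_zero_of_coprime (coprime_of hmP hnP) hn hmt hnt

lemma decomp (Q : Set ℕ) (n : ℕ) : 0 < n → ∀ t : G, n • t = 0 →
    ∃ t1 ∈ tor Q G, ∃ t2 ∈ tor Qᶜ G, t = t1 + t2 := by
  induction n using Nat.recOnPosPrimePosCoprime with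
  | prime_pow p k hp hk =>
    intro hpos t ht
    have hqp : ∀ q : ℕ, q.Prime → q ∣ p ^ k → q = p := fun q hq h =>
      (Nat.prime_dvd_prime_iff_eq hq hp).1 (hq.dvd_of_dvd_pow h)
    by_cases hpQ : p ∈ Q
    · exact ⟨t, ⟨p ^ k, hpos, fun q hq h => (hqp q hq h) ▸ hpQ, ht⟩, 0, zero_mem _,
        (add_zero t).symm⟩
    · exact ⟨0, zero_mem _, t, ⟨p ^ k, hpos, fun q hq h => (hqp q hq h) ▸ hpQ, ht⟩,
        (zero_add t).symm⟩
  | zero => intro h; exact absurd h (lt_irrefl 0)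
  | one =>
    intro _ t ht
    rw [one_smul] at ht
    exact ⟨0, zero_mem _, 0, zero_mem _, by rw [ht, add_zero]⟩
  | coprime a b ha hb hab iha ihb =>
    intro _ t ht
    obtain ⟨u1, hu1, u2, hu2, hu⟩ := ihb (by omega) (a • t) (by rw [← mul_smul, mul_comm, ht])
    obtain ⟨v1, hv1, v2, hv2, hv⟩ := iha (by omega) (b • t) (by rw [← mul_smul, ht])
    obtain ⟨x, y, hxy⟩ := Nat.isCoprime_iff_coprime.2 hab
    refine ⟨x • u1 + y • v1, add_mem (AddSubgroup.zsmul_mem _ hu1 x) (AddSubgroup.zsmul_mem _ hv1 y),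
      x • u2 + y • v2, add_mem (AddSubgroup.zsmul_mem _ hu2 x) (AddSubgroup.zsmul_mem _ hv2 y), ?_⟩
    have : t = x • (a • t) + y • (b • t) := by
      rw [← natCast_zsmul t a, ← natCast_zsmul t b, ← mul_smul, ← mul_smul, ← add_smul, hxy,
        one_smul]
    rw [this, hu, hv, smul_add, smul_add]
    abel

section main

variable {A T : Type*} [AddCommGroup A] [AddCommGroup T] (P : Set ℕ)
  (π : A →+ T)

/-- the `P`-torsion of the kernel -/
def K : AddSubgroup A := π.ker ⊓ tor P A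

variable {P π}

lemma K_div (hD : ∀ ℓ ∈ P, ∀ x ∈ π.ker, ∃ y ∈ π.ker, ℓ • y = x) (n : ℕ) :
    n ≠ 0 → ∀ x ∈ K P π, ∃ y ∈ K P π, n • y = x := by
  induction n using Nat.recOnMul with
  | zero => intro h; exact absurd rfl h
  | one => intro _ x hx; exact ⟨x, hx, one_smul _ _⟩
  | prime ℓ hℓ =>
    intro _ x hx
    obtain ⟨hxk, m, hm, hmP, hmx⟩ := hx
    by_cases hℓP : ℓ ∈ P
    · obtain ⟨y, hy, hyx⟩ := hD ℓ hℓP x hxk
      refine ⟨y, ⟨hy, ℓ * m, Nat.mul_pos hℓ.pos hm, fun p hp h => ?_, ?_⟩, hyx⟩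
      · rcases hp.dvd_mul.1 h with h | h
        · rwa [(Nat.prime_dvd_prime_iff_eq hp hℓ).1 h]
        · exact hmP p hp h
      · rw [mul_comm, mul_smul, hyx, hmx]
    · have hcop : Nat.Coprime ℓ m :=
        (Nat.Prime.coprime_iff_not_dvd hℓ).2 fun h => hℓP (hmP ℓ hℓ h)
      obtain ⟨c, hc⟩ := inv_smul hcop hm hmx
      have hxK : x ∈ K P π := ⟨hxk, m, hm, hmP, hmx⟩
      exact ⟨c • x, AddSubgroup.nsmul_mem _ hxK c, hc⟩
  | mul a b iha ihb =>
    intro hab x hx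
    have ha : a ≠ 0 := fun h => hab (by rw [h, zero_mul])
    have hb : b ≠ 0 := fun h => hab (by rw [h, mul_zero])
    obtain ⟨y, hy, hyx⟩ := iha ha x hx
    obtain ⟨z, hz, hzy⟩ := ihb hb y hy
    exact ⟨z, hz, by rw [mul_smul, hzy, hyx]⟩

/-- a retraction of `A` onto the divisible subgroup `K` -/
lemma exists_retraction (hD : ∀ ℓ ∈ P, ∀ x ∈ π.ker, ∃ y ∈ π.ker, ℓ • y = x) :
    ∃ r : A →+ K P π, ∀ k : K P π, r k = k := by
  haveI : DivisibleBy (K P π) ℤ := by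
    apply divisibleByOfSMulRightSurj
    intro n hn x
    obtain ⟨y, hy, hyx⟩ := K_div hD n.natAbs (Int.natAbs_ne_zero.2 hn) x.1 x.2
    rcases Int.natAbs_eq n with h | h
    · refine ⟨⟨y, hy⟩, Subtype.ext ?_⟩
      show n • y = x.1
      rw [h, natCast_zsmul, hyx]
    · refine ⟨⟨-y, neg_mem hy⟩, Subtype.ext ?_⟩
      show n • (-y) = x.1
      rw [h, neg_smul, smul_neg, neg_neg, natCast_zsmul, hyx]
  obtain ⟨r, hr⟩ := (Module.Baer.of_divisible (K P π)).extension_property_addMonoidHom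
    (K P π).subtype Subtype.val_injective (AddMonoidHom.id _)
  exact ⟨r, fun k => DFunLike.congr_fun hr k⟩

lemma ker_div (hD : ∀ ℓ ∈ P, ∀ x ∈ π.ker, ∃ y ∈ π.ker, ℓ • y = x) (n : ℕ) :
    n ≠ 0 → (∀ p : ℕ, p.Prime → p ∣ n → p ∈ P) → ∀ x ∈ π.ker, ∃ y ∈ π.ker, n • y = x := by
  induction n using Nat.recOnMul with
  | zero => intro h; exact absurd rfl h
  | one => intro _ _ x hx; exact ⟨x, hx, one_smul _ _⟩
  | prime ℓ hℓ => intro _ h x hx; exact hD ℓ (h ℓ hℓ dvd_rfl) x hx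
  | mul a b iha ihb =>
    intro hab h x hx
    have ha : a ≠ 0 := fun h => hab (by rw [h, zero_mul])
    have hb : b ≠ 0 := fun h => hab (by rw [h, mul_zero])
    obtain ⟨y, hy, hyx⟩ := iha ha (fun p hp hd => h p hp (hd.mul_right b)) x hx
    obtain ⟨z, hz, hzy⟩ := ihb hb (fun p hp hd => h p hp (hd.mul_left a)) y hy
    exact ⟨z, hz, by rw [mul_smul, hzy, hyx]⟩

lemma exists_lift (hπ : Function.Surjective π)
    (hD : ∀ ℓ ∈ P, ∀ x ∈ π.ker, ∃ y ∈ π.ker, ℓ • y = x) (t : T) (ht : t ∈ tor P T) :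
    ∃ a ∈ tor P A, π a = t := by
  obtain ⟨n, hn, hnP, hnt⟩ := ht
  obtain ⟨a0, rfl⟩ := hπ t
  have hk : n • a0 ∈ π.ker := by rw [AddMonoidHom.mem_ker, map_nsmul, hnt]
  obtain ⟨z, hz, hzn⟩ := ker_div hD n hn.ne' hnP _ hk
  refine ⟨a0 - z, ⟨n, hn, hnP, by rw [smul_sub, hzn, sub_self]⟩, ?_⟩
  rw [map_sub, AddMonoidHom.mem_ker.1 hz, sub_zero]

theorem main (hP : ∀ p ∈ P, p.Prime)
    (hπ : Function.Surjective π) (hT : ∀ t : T, ∃ n : ℕ, 0 < n ∧ n • t = 0)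
    (hD : ∀ ℓ ∈ P, ∀ x ∈ π.ker, ∃ y ∈ π.ker, ℓ • y = x)
    (TP T' : AddSubgroup T)
    (hTP : ∀ t, t ∈ TP ↔ ∃ n : ℕ, 0 < n ∧ (∀ p : ℕ, p.Prime → p ∣ n → p ∈ P) ∧ n • t = 0)
    (hT' : ∀ t, t ∈ T' ↔ ∃ n : ℕ, 0 < n ∧ (∀ p : ℕ, p.Prime → p ∣ n → p ∉ P) ∧ n • t = 0) :
    (∀ ℓ ∈ P, ∀ x ∈ T'.comap π, ∃ y ∈ T'.comap π, ℓ • y = x) ∧
    ∃ s : TP →+ A, (∀ t : TP, π (s t) = (t : T)) ∧
      Function.Bijective (fun q : (T'.comap π) × TP => (q.1 : A) + s q.2) := by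
  have hTP' : ∀ t, t ∈ TP ↔ t ∈ tor P T := hTP
  have hT'' : ∀ t, t ∈ T' ↔ t ∈ tor Pᶜ T := hT'
  constructor
  · intro ℓ hℓ x hx
    rw [AddSubgroup.mem_comap] at hx
    obtain ⟨n, hn, hnP, hnx⟩ := (hT' _).1 hx
    have hcop : Nat.Coprime ℓ n :=
      (Nat.Prime.coprime_iff_not_dvd (hP ℓ hℓ)).2 fun h => hnP ℓ (hP ℓ hℓ) h hℓ
    obtain ⟨c, hc⟩ := inv_smul hcop hn hnx
    have hk : x - ℓ • (c • x) ∈ π.ker := by
      rw [AddMonoidHom.mem_ker, map_sub, map_nsmul, map_nsmul, hc, sub_self]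
    obtain ⟨z, hz, hzx⟩ := hD ℓ hℓ _ hk
    refine ⟨c • x + z, ?_, ?_⟩
    · rw [AddSubgroup.mem_comap, map_add, AddMonoidHom.mem_ker.1 hz, add_zero, map_nsmul]
      exact AddSubgroup.nsmul_mem _ hx c
    · rw [smul_add, hzx]; abel
  · obtain ⟨r, hr⟩ := exists_retraction hD
    have hlift : ∀ t : TP, ∃ a ∈ tor P A, π a = (t : T) := fun t =>
      exists_lift hπ hD t.1 ((hTP' _).1 t.2)
    choose lift hlift1 hlift2 using hlift
    have hKker : ∀ k : K P π, π (k : A) = 0 := fun k => AddMonoidHom.mem_ker.1 k.2.1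
    let s : TP →+ A := AddMonoidHom.mk' (fun t => lift t - (r (lift t) : A)) (by
      intro t1 t2
      have hc : lift (t1 + t2) - lift t1 - lift t2 ∈ K P π := by
        refine AddSubgroup.mem_inf.2
          ⟨?_, sub_mem (sub_mem (hlift1 _) (hlift1 _)) (hlift1 _)⟩
        rw [AddMonoidHom.mem_ker, map_sub, map_sub, hlift2, hlift2, hlift2]
        push_cast
        abel
      have h1 := hr ⟨_, hc⟩
      have h2 : (r (lift (t1 + t2) - lift t1 - lift t2) : A)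
          = lift (t1 + t2) - lift t1 - lift t2 := congrArg Subtype.val h1
      rw [map_sub, map_sub] at h2
      push_cast at h2
      rw [← sub_eq_zero]
      have h3 : lift (t1 + t2) - (r (lift (t1 + t2)) : A) - ((lift t1 - (r (lift t1) : A))
          + (lift t2 - (r (lift t2) : A))) = (lift (t1 + t2) - lift t1 - lift t2)
          - ((r (lift (t1 + t2)) : A) - (r (lift t1) : A) - (r (lift t2) : A)) := by abel
      rw [h3, h2, sub_self])
    have hs : ∀ t : TP, π (s t) = (t : T) := by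
      intro t
      show π (lift t - (r (lift t) : A)) = t
      rw [map_sub, hKker, sub_zero, hlift2]
    refine ⟨s, hs, ?_, ?_⟩
    · rintro ⟨d1, t1⟩ ⟨d2, t2⟩ h
      simp only at h
      have h1 := congrArg π h
      rw [map_add, map_add, hs, hs] at h1
      have h2 : (t1 : T) - t2 = π d2 - π d1 := by
        rw [sub_eq_sub_iff_add_eq_add, add_comm, h1, add_comm]
      have h3 : (t1 : T) - t2 = 0 := by
        apply disjoint_tor (Q := P)
        · exact (hTP' _).1 (sub_mem t1.2 t2.2)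
        · rw [h2]
          exact (hT'' _).1 (sub_mem d2.2 d1.2)
      have h4 : t1 = t2 := Subtype.ext (sub_eq_zero.1 h3)
      subst h4
      have h5 : (d1 : A) = d2 := add_right_cancel h
      rw [Subtype.ext h5]
    · intro a
      obtain ⟨n, hn, hna⟩ := hT (π a)
      obtain ⟨t1, ht1, t2, ht2, hsum⟩ := decomp P n hn (π a) hna
      have hd : a - s ⟨t1, (hTP' _).2 ht1⟩ ∈ T'.comap π := by
        rw [AddSubgroup.mem_comap, map_sub, hs, hsum]
        simp only [add_sub_cancel_left]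
        exact (hT'' _).2 ht2
      exact ⟨(⟨_, hd⟩, ⟨t1, (hTP' _).2 ht1⟩), by simp⟩

end main

end Groth.Agent.Lib.Helper26.TorsSplit
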