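import Mathlib

set_option maxHeartbeats 400000

namespace Groth.Agent.Lib.Helper26.TorsorIso

open MvPolynomial

universe u

variable (p : ℕ) [hp : Fact p.Prime] (R : Type u) [CommRing R] [CharP R p]

/-- source ideal -/
noncomputable abbrev I₁ (f : R) : Ideal (MvPolynomial (Fin 2) R) :=
  Ideal.span {(X 0 ^ p - C f : MvPolynomial (Fin 2) R), X 1 ^ p - C f}

/-- target ideal -/
noncomputable abbrev I₂ (f : R) : Ideal (MvPolynomial (Fin 2) R) :=
  Ideal.span {(X 0 ^ p : MvPolynomial (Fin 2) R), X 1 ^ p - C f}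

variable (lam f u : R)

/-- forward substitution -/
noncomputable abbrev α : MvPolynomial (Fin 2) R →ₐ[R] MvPolynomial (Fin 2) R :=
  aeval ![X 0 + X 1 + C lam * X 0 * X 1, X 1]

/-- backward substitution -/
noncomputable abbrev β : MvPolynomial (Fin 2) R →ₐ[R] MvPolynomial (Fin 2) R :=
  aeval ![(X 0 - X 1) * (1 + C lam * X 1) ^ (p - 1) * C u, X 1]

lemma α_X0 : α R lam (X 0) = X 0 + X 1 + C lam * X 0 * X 1 := by simp [α]
lemma α_X1 : α R lam (X 1) = X 1 := by simp [α]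
lemma β_X0 : β p R lam u (X 0) = (X 0 - X 1) * (1 + C lam * X 1) ^ (p - 1) * C u := by simp [β]
lemma β_X1 : β p R lam u (X 1) = X 1 := by simp [β]

lemma F1 : (1 + C lam * X 1 : MvPolynomial (Fin 2) R) ^ p = 1 + C (lam ^ p) * X 1 ^ p := by
  rw [add_pow_char, one_pow, mul_pow, ← C_pow]

lemma F3 (hu : u * (1 + lam ^ p * f) = 1) :
    (1 + C lam * X 1 : MvPolynomial (Fin 2) R) ^ p * C u - 1 =
      C u * C (lam ^ p) * (X 1 ^ p - C f) := by
  have hC : (C u : MvPolynomial (Fin 2) R) * (1 + C (lam ^ p) * C f) = 1 := by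
    rw [← C_mul, ← C_1, ← C_add, ← C_mul, hu]
  rw [F1]
  linear_combination hC

lemma X1_mem₁ : (X 1 ^ p - C f : MvPolynomial (Fin 2) R) ∈ I₁ p R f :=
  Ideal.subset_span (by simp)

lemma X0_mem₁ : (X 0 ^ p - C f : MvPolynomial (Fin 2) R) ∈ I₁ p R f :=
  Ideal.subset_span (by simp)

lemma X1_mem₂ : (X 1 ^ p - C f : MvPolynomial (Fin 2) R) ∈ I₂ p R f :=
  Ideal.subset_span (by simp)

lemma X0_mem₂ : (X 0 ^ p : MvPolynomial (Fin 2) R) ∈ I₂ p R f :=
  Ideal.subset_span (by simp)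

/-- `α` maps `I₁` into `I₂` -/
lemma α_map : ∀ a ∈ I₁ p R f, α R lam a ∈ I₂ p R f := by
  intro a ha
  have hle : I₁ p R f ≤ (I₂ p R f).comap (α R lam).toRingHom := by
    rw [Ideal.span_le]
    intro g hg
    rw [SetLike.mem_coe, Ideal.mem_comap]
    change α R lam g ∈ I₂ p R f
    rcases hg with rfl | hg
    · rw [map_sub, map_pow, α_X0, algHom_C]
      have : (X 0 + X 1 + C lam * X 0 * X 1 : MvPolynomial (Fin 2) R) ^ p - (algebraMap R _) f =
          X 0 ^ p * (1 + C (lam ^ p) * X 1 ^ p) + (X 1 ^ p - C f) := by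
        rw [add_pow_char, add_pow_char, mul_pow, mul_pow, ← C_pow, MvPolynomial.algebraMap_eq]
        ring
      rw [this]
      exact Ideal.add_mem _ (Ideal.mul_mem_right _ _ (X0_mem₂ p R f)) (X1_mem₂ p R f)
    · rw [Set.mem_singleton_iff] at hg
      subst hg
      rw [map_sub, map_pow, α_X1, algHom_C, MvPolynomial.algebraMap_eq]
      exact X1_mem₂ p R f
  exact hle ha

/-- `β` maps `I₂` into `I₁` -/
lemma β_map : ∀ a ∈ I₂ p R f, β p R lam u a ∈ I₁ p R f := by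
  intro a ha
  have hle : I₂ p R f ≤ (I₁ p R f).comap (β p R lam u).toRingHom := by
    rw [Ideal.span_le]
    intro g hg
    rw [SetLike.mem_coe, Ideal.mem_comap]
    change β p R lam u g ∈ I₁ p R f
    rcases hg with rfl | hg
    · rw [map_pow, β_X0, mul_pow, mul_pow, sub_pow_char]
      have : (X 0 ^ p - X 1 ^ p : MvPolynomial (Fin 2) R) = (X 0 ^ p - C f) - (X 1 ^ p - C f) := by
        ring
      rw [this, mul_assoc]
      exact Ideal.mul_mem_right _ _ (Ideal.sub_mem _ (X0_mem₁ p R f) (X1_mem₁ p R f))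
    · rw [Set.mem_singleton_iff] at hg
      subst hg
      rw [map_sub, map_pow, β_X1, algHom_C, MvPolynomial.algebraMap_eq]
      exact X1_mem₁ p R f
  exact hle ha

/-- forward map on quotients -/
noncomputable def Φ : (MvPolynomial (Fin 2) R ⧸ I₁ p R f) →ₐ[R] (MvPolynomial (Fin 2) R ⧸ I₂ p R f) :=
  Ideal.Quotient.liftₐ (I₁ p R f) ((Ideal.Quotient.mkₐ R (I₂ p R f)).comp (α R lam)) (by
    intro a ha
    rw [AlgHom.comp_apply, Ideal.Quotient.mkₐ_eq_mk, Ideal.Quotient.eq_zero_iff_mem]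
    exact α_map p R lam f a ha)

/-- backward map on quotients -/
noncomputable def Ψ : (MvPolynomial (Fin 2) R ⧸ I₂ p R f) →ₐ[R] (MvPolynomial (Fin 2) R ⧸ I₁ p R f) :=
  Ideal.Quotient.liftₐ (I₂ p R f) ((Ideal.Quotient.mkₐ R (I₁ p R f)).comp (β p R lam u)) (by
    intro a ha
    rw [AlgHom.comp_apply, Ideal.Quotient.mkₐ_eq_mk, Ideal.Quotient.eq_zero_iff_mem]
    exact β_map p R lam f u a ha)

lemma Φ_mk (a : MvPolynomial (Fin 2) R) :
    Φ p R lam f (Ideal.Quotient.mk _ a) = Ideal.Quotient.mk _ (α R lam a) := rfl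

lemma Ψ_mk (a : MvPolynomial (Fin 2) R) :
    Ψ p R lam f u (Ideal.Quotient.mk _ a) = Ideal.Quotient.mk _ (β p R lam u a) := rfl

lemma quot_ext {J : Ideal (MvPolynomial (Fin 2) R)} {T : Type*} [CommRing T] [Algebra R T]
    (g h : (MvPolynomial (Fin 2) R ⧸ J) →ₐ[R] T)
    (h0 : g (Ideal.Quotient.mk _ (X 0)) = h (Ideal.Quotient.mk _ (X 0)))
    (h1 : g (Ideal.Quotient.mk _ (X 1)) = h (Ideal.Quotient.mk _ (X 1))) : g = h := by
  apply Ideal.Quotient.algHom_ext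
  apply MvPolynomial.algHom_ext
  intro i
  fin_cases i
  · exact h0
  · exact h1

lemma ΦΨ (hu : u * (1 + lam ^ p * f) = 1) :
    (Φ p R lam f).comp (Ψ p R lam f u) = AlgHom.id R _ := by
  apply quot_ext
  · have hα : α R lam ((X 0 - X 1) * (1 + C lam * X 1) ^ (p - 1) * C u) =
        (X 0 + X 1 + C lam * X 0 * X 1 - X 1) * (1 + C lam * X 1) ^ (p - 1) * C u := by
      simp only [map_mul, map_pow, map_sub, map_add, map_one, α_X0, α_X1, algHom_C,
        MvPolynomial.algebraMap_eq]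
    rw [AlgHom.comp_apply, Ψ_mk, Φ_mk, AlgHom.id_apply, β_X0, hα, Ideal.Quotient.eq]
    have : (X 0 + X 1 + C lam * X 0 * X 1 - X 1) * (1 + C lam * X 1) ^ (p - 1) * C u - X 0 =
        X 0 * ((1 + C lam * X 1 : MvPolynomial (Fin 2) R) ^ p * C u - 1) := by
      have hpp : p = (p - 1) + 1 := (Nat.succ_pred_eq_of_pos hp.out.pos).symm
      conv_rhs => rw [hpp, pow_succ]
      ring
    rw [this, F3 p R lam f u hu]
    exact Ideal.mul_mem_left _ _ (Ideal.mul_mem_left _ _ (X1_mem₂ p R f))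
  · rw [AlgHom.comp_apply, Ψ_mk, Φ_mk, AlgHom.id_apply, β_X1, α_X1]

lemma ΨΦ (hu : u * (1 + lam ^ p * f) = 1) :
    (Ψ p R lam f u).comp (Φ p R lam f) = AlgHom.id R _ := by
  apply quot_ext
  · have hβ : β p R lam u (X 0 + X 1 + C lam * X 0 * X 1) =
        (X 0 - X 1) * (1 + C lam * X 1) ^ (p - 1) * C u + X 1 +
        C lam * ((X 0 - X 1) * (1 + C lam * X 1) ^ (p - 1) * C u) * X 1 := by
      simp only [map_mul, map_add, β_X0, β_X1, algHom_C, MvPolynomial.algebraMap_eq]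
    rw [AlgHom.comp_apply, Φ_mk, Ψ_mk, AlgHom.id_apply, α_X0, hβ, Ideal.Quotient.eq]
    have : (X 0 - X 1) * (1 + C lam * X 1) ^ (p - 1) * C u + X 1 +
        C lam * ((X 0 - X 1) * (1 + C lam * X 1) ^ (p - 1) * C u) * X 1 - X 0 =
        (X 0 - X 1) * ((1 + C lam * X 1 : MvPolynomial (Fin 2) R) ^ p * C u - 1) := by
      have hpp : p = (p - 1) + 1 := (Nat.succ_pred_eq_of_pos hp.out.pos).symm
      conv_rhs => rw [hpp, pow_succ]
      ring
    rw [this, F3 p R lam f u hu]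
    exact Ideal.mul_mem_left _ _ (Ideal.mul_mem_left _ _ (X1_mem₁ p R f))
  · rw [AlgHom.comp_apply, Φ_mk, Ψ_mk, AlgHom.id_apply, α_X1, β_X1]

theorem main [IsLocalRing R] (hlam : lam ∈ IsLocalRing.maximalIdeal R) :
    ∃ e : (MvPolynomial (Fin 2) R ⧸ Ideal.span {(X 0 ^ p - C f : MvPolynomial (Fin 2) R), X 1 ^ p - C f}) ≃ₐ[R]
        (MvPolynomial (Fin 2) R ⧸ Ideal.span {(X 0 ^ p : MvPolynomial (Fin 2) R), X 1 ^ p - C f}),
      e (Ideal.Quotient.mk _ (X 0)) = Ideal.Quotient.mk _ (X 0 + X 1 + C lam * X 0 * X 1) ∧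
      e (Ideal.Quotient.mk _ (X 1)) = Ideal.Quotient.mk _ (X 1) := by
  have hmem : lam ^ p * f ∈ IsLocalRing.maximalIdeal R :=
    Ideal.mul_mem_right _ _ (Ideal.pow_mem_of_mem _ hlam _ hp.out.pos)
  have hunit : IsUnit (1 + lam ^ p * f) := by
    by_contra h
    have h1 : 1 + lam ^ p * f ∈ IsLocalRing.maximalIdeal R := (IsLocalRing.mem_maximalIdeal _).mpr h
    have h2 : (1 : R) ∈ IsLocalRing.maximalIdeal R := by
      have := Ideal.sub_mem _ h1 hmem
      simpa using this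
    exact (IsLocalRing.maximalIdeal.isMaximal R).ne_top ((Ideal.eq_top_iff_one _).mpr h2)
  obtain ⟨u, hu⟩ := hunit.exists_left_inv
  refine ⟨AlgEquiv.ofAlgHom (Φ p R lam f) (Ψ p R lam f u) (ΦΨ p R lam f u hu) (ΨΦ p R lam f u hu),
    ?_, ?_⟩
  · rw [AlgEquiv.ofAlgHom_apply]
    exact (Φ_mk p R lam f _).trans (by rw [α_X0])
  · rw [AlgEquiv.ofAlgHom_apply]
    exact (Φ_mk p R lam f _).trans (by rw [α_X1])

end Groth.Agent.Lib.Helper26.TorsorIso
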