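import Mathlib
set_option maxHeartbeats 400000
open CategoryTheory Category Limits Preadditive

namespace Groth.Agent.Lib.Helper26.TotCoordDown
universe v u
variable {A : Type u} [Category.{v} A] [Preadditive A]

local notation "cn" => ComplexShape.down ℕ

variable (K L : HomologicalComplex₂ A (ComplexShape.down ℕ) (ComplexShape.down ℕ))
  [K.HasTotal (ComplexShape.down ℕ)] [L.HasTotal (ComplexShape.down ℕ)]

/-- the inclusion with a plain arithmetic hypothesis -/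
noncomputable abbrev inc (i j n : ℕ) (h : i + j = n) : (K.X i).X j ⟶ (K.total cn).X n :=
  K.ιTotal cn i j n h

/-- projection to a summand (zero if indices do not match) -/
noncomputable def pr (i j n : ℕ) : (K.total cn).X n ⟶ (K.X i).X j :=
  K.totalDesc (fun i' j' _ => if h : i' = i ∧ j' = j then eqToHom (by rw [h.1, h.2]) else 0)

@[reassoc]
lemma inc_pr (i' j' i j n : ℕ) (h : i' + j' = n) :
    inc K i' j' n h ≫ pr K i j n =
      if h : i' = i ∧ j' = j then eqToHom (by rw [h.1, h.2]) else 0 := by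
  simp [inc, pr]

@[reassoc (attr := simp)]
lemma inc_pr_self (i j n : ℕ) (h : i + j = n) :
    inc K i j n h ≫ pr K i j n = 𝟙 _ := by
  rw [inc_pr]; simp

@[reassoc]
lemma inc_pr_ne (i' j' i j n : ℕ) (h : i' + j' = n) (hne : ¬ (i' = i ∧ j' = j)) :
    inc K i' j' n h ≫ pr K i j n = 0 := by
  rw [inc_pr, dif_neg hne]

lemma sum_pr_inc (n : ℕ) :
    ∑ ij ∈ Finset.HasAntidiagonal.antidiagonal n, pr K ij.1 ij.2 n ≫ K.ιTotalOrZero cn ij.1 ij.2 n =
      𝟙 ((K.total cn).X n) := by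
  apply HomologicalComplex₂.total.hom_ext
  intro i' j' h'
  have h'' : i' + j' = n := h'
  change inc K i' j' n h'' ≫ _ = inc K i' j' n h'' ≫ _
  rw [comp_id, comp_sum, Finset.sum_eq_single (i', j')]
  · rw [inc_pr_self_assoc, K.ιTotalOrZero_eq cn i' j' n h']
  · rintro ⟨i, j⟩ _ hne
    rw [inc_pr_ne_assoc K i' j' i j n h'' (fun h => hne (by rw [h.1, h.2])), zero_comp]
  · intro h
    exact absurd (Finset.HasAntidiagonal.mem_antidiagonal.2 h'') h

lemma eq_zero_of_pr (n : ℕ) {W : A} (x : W ⟶ (K.total cn).X n)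
    (h : ∀ i j : ℕ, i + j = n → x ≫ pr K i j n = 0) : x = 0 := by
  rw [← comp_id x, ← sum_pr_inc K n, comp_sum]
  apply Finset.sum_eq_zero
  rintro ⟨i, j⟩ hij
  rw [reassoc_of% (h i j (Finset.HasAntidiagonal.mem_antidiagonal.1 hij)), zero_comp]

lemma ext_of_pr (n : ℕ) {W : A} (x y : W ⟶ (K.total cn).X n)
    (h : ∀ i j : ℕ, i + j = n → x ≫ pr K i j n = y ≫ pr K i j n) : x = y := by
  rw [← sub_eq_zero]
  apply eq_zero_of_pr K n
  intro i j hij
  rw [sub_comp, h i j hij, sub_self]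

lemma d₁_pr (i' j' i j n : ℕ) (hij : i + j = n) (h' : i' + j' = n + 1) :
    K.d₁ cn i' j' n ≫ pr K i j n =
      if h : i' = i + 1 ∧ j' = j then eqToHom (by rw [h.1, h.2]) ≫ (K.d (i + 1) i).f j else 0 := by
  by_cases h : i' = i + 1 ∧ j' = j
  · obtain ⟨rfl, rfl⟩ := h
    rw [K.d₁_eq cn (show (cn).Rel (i + 1) i from rfl) j' n hij]
    simp only [ComplexShape.ε₁, TotalComplexShape.ε₁, one_smul, assoc]
    erw [inc_pr_self K i j' n hij]
    simp
  · rw [dif_neg h]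
    by_cases hr : (cn).Rel i' ((cn).next i')
    · have hr' : (cn).next i' + 1 = i' := hr
      rw [K.d₁_eq cn hr j' n (by change (cn).next i' + j' = n; lia)]
      simp only [ComplexShape.ε₁, TotalComplexShape.ε₁, one_smul, assoc]
      erw [inc_pr_ne K _ j' i j n (by lia) (fun hh => h ⟨by lia, hh.2⟩)]
      simp
    · rw [K.d₁_eq_zero cn _ _ _ hr, zero_comp]

lemma d₂_pr (i' j' i j n : ℕ) (hij : i + j = n) (h' : i' + j' = n + 1) :
    K.d₂ cn i' j' n ≫ pr K i j n =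
      if h : i' = i ∧ j' = j + 1 then
        eqToHom (by rw [h.1, h.2]) ≫ (((-1 : ℤˣ) ^ i) • (K.X i).d (j + 1) j) else 0 := by
  by_cases h : i' = i ∧ j' = j + 1
  · obtain ⟨rfl, rfl⟩ := h
    rw [K.d₂_eq cn i' (show (cn).Rel (j + 1) j from rfl) n hij]
    simp only [Linear.units_smul_comp, assoc]
    erw [inc_pr_self K i' j n hij]
    simp
  · rw [dif_neg h]
    by_cases hr : (cn).Rel j' ((cn).next j')
    · have hr' : (cn).next j' + 1 = j' := hr
      rw [K.d₂_eq cn i' hr n (by change i' + (cn).next j' = n; lia)]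
      simp only [Linear.units_smul_comp, assoc]
      erw [inc_pr_ne K i' _ i j n (by lia) (fun hh => h ⟨hh.1, by lia⟩)]
      simp
    · rw [K.d₂_eq_zero cn _ _ _ hr, zero_comp]


/-- coordinates of the total differential (homological indexing) -/
lemma d_pr (i j n : ℕ) (hij : i + j = n) :
    (K.total cn).d (n + 1) n ≫ pr K i j n =
      pr K (i + 1) j (n + 1) ≫ (K.d (i + 1) i).f j +
        pr K i (j + 1) (n + 1) ≫ (((-1 : ℤˣ) ^ i) • (K.X i).d (j + 1) j) := by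
  apply HomologicalComplex₂.total.hom_ext
  intro i' j' h'
  have h'' : i' + j' = n + 1 := h'
  change inc K i' j' (n + 1) h'' ≫ _ = inc K i' j' (n + 1) h'' ≫ _
  rw [comp_add, inc_pr_assoc, inc_pr_assoc]
  dsimp [HomologicalComplex₂.total_d]
  rw [add_comp, comp_add]
  erw [HomologicalComplex₂.ι_D₁_assoc, HomologicalComplex₂.ι_D₂_assoc]
  rw [d₁_pr K i' j' i j n hij h'', d₂_pr K i' j' i j n hij h'']
  congr 1
  · by_cases h : i' = i + 1 ∧ j' = j
    · rw [dif_pos h, dif_pos h]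
    · rw [dif_neg h, dif_neg h, zero_comp]
  · by_cases h : i' = i ∧ j' = j + 1
    · rw [dif_pos h, dif_pos h]
    · rw [dif_neg h, dif_neg h, zero_comp]

variable {K L} in
lemma map_pr (φ : K ⟶ L) (i j n : ℕ) :
    (HomologicalComplex₂.total.map φ cn).f n ≫ pr L i j n = pr K i j n ≫ (φ.f i).f j := by
  apply HomologicalComplex₂.total.hom_ext
  intro i' j' h'
  have h'' : i' + j' = n := h'
  rw [HomologicalComplex₂.ιTotal_map_assoc]
  change _ ≫ inc L i' j' n h'' ≫ _ = inc K i' j' n h'' ≫ _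
  rw [inc_pr, inc_pr_assoc]
  by_cases h : i' = i ∧ j' = j
  · obtain ⟨rfl, rfl⟩ := h
    simp
  · rw [dif_neg h, dif_neg h]; simp


/-- `d_pr` with explicit successor indices (to get clean numerals) -/
lemma d_pr' (i j n i' j' n' : ℕ) (hi : i' = i + 1) (hj : j' = j + 1) (hn : n' = n + 1)
    (hij : i + j = n) :
    (K.total cn).d n' n ≫ pr K i j n =
      pr K i' j n' ≫ (K.d i' i).f j +
        pr K i j' n' ≫ (((-1 : ℤˣ) ^ i) • (K.X i).d j' j) := by
  subst hi hj hn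
  exact d_pr K i j n hij


section LowDegree

variable {A : Type u} [Category.{v} A] [Abelian A]
variable {K L : HomologicalComplex₂ A (ComplexShape.down ℕ) (ComplexShape.down ℕ)}
  [K.HasTotal (ComplexShape.down ℕ)] [L.HasTotal (ComplexShape.down ℕ)]
  (φ : K ⟶ L)
  (hZ : ∀ i j : ℕ, 0 < j → IsZero ((L.X i).X j))
  (hE1 : ∀ i : ℕ, Epi ((φ.f i).f 0))
  (hE2 : ∀ (i : ℕ) ⦃W : A⦄ (x : W ⟶ (K.X i).X 0), x ≫ (φ.f i).f 0 = 0 →
    ∃ (W' : A) (π : W' ⟶ W) (_ : Epi π) (s : W' ⟶ (K.X i).X 1), π ≫ x = s ≫ (K.X i).d 1 0)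
  (hE3 : ∀ ⦃W : A⦄ (x : W ⟶ (K.X 0).X 1), x ≫ (K.X 0).d 1 0 = 0 →
    ∃ (W' : A) (π : W' ⟶ W) (_ : Epi π) (r : W' ⟶ (K.X 0).X 2), π ≫ x = r ≫ (K.X 0).d 2 1)

lemma phi_comm (i' i j : ℕ) :
    (K.d i' i).f j ≫ (φ.f i).f j = (φ.f i').f j ≫ (L.d i' i).f j := by
  rw [← HomologicalComplex.comp_f, ← HomologicalComplex.comp_f, φ.comm]

include hZ hE1 hE2 in
lemma epi_H1 : Epi (HomologicalComplex.homologyMap (HomologicalComplex₂.total.map φ cn) 1) := by
  rw [HomologicalComplex.epi_homologyMap_iff_up_to_refinements _ 2 1 0 (by simp) (by simp)]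
  intro W y hy
  have hy01 : y ≫ pr L 0 1 1 = 0 := (hZ 0 1 (by lia)).eq_of_tgt _ _
  have hy10 : y ≫ pr L 1 0 1 ≫ (L.d 1 0).f 0 = 0 := by
    have := congr($hy ≫ pr L 0 0 0)
    rw [zero_comp, assoc, d_pr' L 0 0 0 1 1 1 rfl rfl rfl rfl, comp_add, reassoc_of% hy01,
      zero_comp, add_zero] at this
    exact this
  have := hE1 1
  obtain ⟨W₁, π₁, hπ₁, w, hw⟩ := surjective_up_to_refinements_of_epi ((φ.f 1).f 0) (y ≫ pr L 1 0 1)
  have hw2 : (w ≫ (K.d 1 0).f 0) ≫ (φ.f 0).f 0 = 0 := by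
    rw [assoc, phi_comm, ← reassoc_of% hw, hy10, comp_zero]
  obtain ⟨W₂, π₂, hπ₂, u, hu⟩ := hE2 0 _ hw2
  refine ⟨W₂, π₂ ≫ π₁, inferInstance, (π₂ ≫ w) ≫ inc K 1 0 1 rfl - u ≫ inc K 0 1 1 rfl, ?_, 0, ?_⟩
  · apply eq_zero_of_pr K 0
    intro i j hij
    obtain ⟨rfl, rfl⟩ : i = 0 ∧ j = 0 := by lia
    rw [assoc, d_pr' K 0 0 0 1 1 1 rfl rfl rfl rfl]
    simp only [sub_comp, comp_add, assoc, inc_pr_assoc]
    simp [hu]
  · rw [zero_comp, add_zero]
    apply ext_of_pr L 1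
    intro i j hij
    obtain ⟨rfl, rfl⟩ | ⟨rfl, rfl⟩ : (i = 1 ∧ j = 0) ∨ (i = 0 ∧ j = 1) := by lia
    · rw [assoc, assoc, assoc, map_pr]
      simp only [sub_comp, assoc, inc_pr_assoc]
      simp [hw]
    · exact (hZ 0 1 (by lia)).eq_of_tgt _ _

end LowDegree


section LowDegree2

variable {A : Type u} [Category.{v} A] [Abelian A]
variable {K L : HomologicalComplex₂ A (ComplexShape.down ℕ) (ComplexShape.down ℕ)}
  [K.HasTotal (ComplexShape.down ℕ)] [L.HasTotal (ComplexShape.down ℕ)]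
  (φ : K ⟶ L)
  (hZ : ∀ i j : ℕ, 0 < j → IsZero ((L.X i).X j))
  (hE1 : ∀ i : ℕ, Epi ((φ.f i).f 0))
  (hE2 : ∀ (i : ℕ) ⦃W : A⦄ (x : W ⟶ (K.X i).X 0), x ≫ (φ.f i).f 0 = 0 →
    ∃ (W' : A) (π : W' ⟶ W) (_ : Epi π) (s : W' ⟶ (K.X i).X 1), π ≫ x = s ≫ (K.X i).d 1 0)
  (hE3 : ∀ ⦃W : A⦄ (x : W ⟶ (K.X 0).X 1), x ≫ (K.X 0).d 1 0 = 0 →
    ∃ (W' : A) (π : W' ⟶ W) (_ : Epi π) (r : W' ⟶ (K.X 0).X 2), π ≫ x = r ≫ (K.X 0).d 2 1)

include hZ hE1 hE2 hE3 in
lemma mono_H1 : Mono (HomologicalComplex.homologyMap (HomologicalComplex₂.total.map φ cn) 1) := by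
  rw [HomologicalComplex.mono_homologyMap_iff_up_to_refinements _ 2 1 0 (by simp) (by simp)]
  intro W x hx t' hxt
  have ht11 : t' ≫ pr L 1 1 2 = 0 := (hZ 1 1 (by lia)).eq_of_tgt _ _
  -- key1
  have key1 : x ≫ pr K 1 0 1 ≫ (φ.f 1).f 0 = t' ≫ pr L 2 0 2 ≫ (L.d 2 1).f 0 := by
    have := congr($hxt ≫ pr L 1 0 1)
    rw [assoc, assoc, map_pr, d_pr' L 1 0 1 2 1 2 rfl rfl rfl rfl, comp_add, reassoc_of% ht11,
      zero_comp, add_zero] at this
    exact this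
  -- cycle condition
  have hcyc : x ≫ pr K 1 0 1 ≫ (K.d 1 0).f 0 + x ≫ pr K 0 1 1 ≫ (K.X 0).d 1 0 = 0 := by
    have := congr($hx ≫ pr K 0 0 0)
    rw [zero_comp, assoc, d_pr' K 0 0 0 1 1 1 rfl rfl rfl rfl, comp_add, pow_zero, one_smul] at this
    exact this
  have := hE1 2
  obtain ⟨W₁, π₁, hπ₁, t, ht⟩ :=
    surjective_up_to_refinements_of_epi ((φ.f 2).f 0) (t' ≫ pr L 2 0 2)
  have hw₁ : (π₁ ≫ x ≫ pr K 1 0 1 - t ≫ (K.d 2 1).f 0) ≫ (φ.f 1).f 0 = 0 := by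
    rw [sub_comp, assoc, assoc, assoc, key1, phi_comm, ← reassoc_of% ht, sub_self]
  obtain ⟨W₂, π₂, hπ₂, s, hs⟩ := hE2 1 _ hw₁
  have hdd : (K.d 2 1).f 0 ≫ (K.d 1 0).f 0 = 0 := by
    rw [← HomologicalComplex.comp_f, K.d_comp_d, HomologicalComplex.zero_f]
  have hu₂ : (π₂ ≫ π₁ ≫ x ≫ pr K 0 1 1 + s ≫ (K.d 1 0).f 1) ≫ (K.X 0).d 1 0 = 0 := by
    rw [add_comp, assoc, assoc, assoc, assoc, (K.d 1 0).comm 1 0, ← reassoc_of% hs,
      sub_comp, assoc, assoc, assoc, hdd, comp_zero, sub_zero, ← comp_add, ← comp_add,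
      show x ≫ pr K 0 1 1 ≫ (K.X 0).d 1 0 + x ≫ pr K 1 0 1 ≫ (K.d 1 0).f 0 = 0 from
        (add_comm _ _).trans hcyc, comp_zero, comp_zero]
  obtain ⟨W₃, π₃, hπ₃, r, hr⟩ := hE3 _ hu₂
  refine ⟨W₃, π₃ ≫ π₂ ≫ π₁, inferInstance,
    (π₃ ≫ π₂ ≫ t) ≫ inc K 2 0 2 rfl - (π₃ ≫ s) ≫ inc K 1 1 2 rfl + r ≫ inc K 0 2 2 rfl, ?_⟩
  apply ext_of_pr K 1
  intro i j hij
  obtain ⟨rfl, rfl⟩ | ⟨rfl, rfl⟩ : (i = 1 ∧ j = 0) ∨ (i = 0 ∧ j = 1) := by lia
  · simp only [assoc]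
    rw [d_pr' K 1 0 1 2 1 2 rfl rfl rfl rfl]
    simp only [add_comp, sub_comp, comp_add, assoc, inc_pr_assoc]
    simp
    rw [← hs]
    simp
  · simp only [assoc]
    rw [d_pr' K 0 1 1 1 2 2 rfl rfl rfl rfl]
    simp only [add_comp, sub_comp, comp_add, assoc, inc_pr_assoc]
    simp
    rw [← hr]
    simp

include hZ hE1 hE2 hE3 in
theorem isIso_H1 : IsIso (HomologicalComplex.homologyMap (HomologicalComplex₂.total.map φ cn) 1) := by
  have := mono_H1 φ hZ hE1 hE2 hE3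
  have := epi_H1 φ hZ hE1 hE2
  exact isIso_of_mono_of_epi _

end LowDegree2


section Tensor

open MonoidalCategory

variable (R : Type v) [CommRing R]

/-- the bicomplex `C_i ⊗ P_j` -/
noncomputable abbrev bc (C P : ChainComplex (ModuleCat.{v} R) ℕ) :
    HomologicalComplex₂ (ModuleCat.{v} R) (ComplexShape.down ℕ) (ComplexShape.down ℕ) :=
  (((curriedTensor (ModuleCat.{v} R)).mapBifunctorHomologicalComplex cn cn).obj C).obj P

variable {R}

/-- the morphism of bicomplexes inducing `C ◁ π` -/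
noncomputable abbrev bcMap (C : ChainComplex (ModuleCat.{v} R) ℕ) {P Q : ChainComplex (ModuleCat.{v} R) ℕ}
    (π : P ⟶ Q) : bc R C P ⟶ bc R C Q :=
  (((curriedTensor (ModuleCat.{v} R)).mapBifunctorHomologicalComplex cn cn).obj C).map π

lemma bcMap_f_f (C : ChainComplex (ModuleCat.{v} R) ℕ) {P Q : ChainComplex (ModuleCat.{v} R) ℕ}
    (π : P ⟶ Q) (i j : ℕ) : ((bcMap C π).f i).f j = C.X i ◁ π.f j := rfl

lemma bc_d₂ (C P : ChainComplex (ModuleCat.{v} R) ℕ) (i j j' : ℕ) :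
    ((bc R C P).X i).d j j' = C.X i ◁ P.d j j' := rfl

lemma whiskerLeft_eq (C : ChainComplex (ModuleCat.{v} R) ℕ) {P Q : ChainComplex (ModuleCat.{v} R) ℕ}
    (π : P ⟶ Q) : C ◁ π = HomologicalComplex₂.total.map (bcMap C π) cn := by
  apply HomologicalComplex.hom_ext
  intro n
  apply HomologicalComplex₂.total.hom_ext
  intro i j h
  erw [HomologicalComplex.ι_mapBifunctorMap]
  rw [HomologicalComplex₂.ιTotal_map]
  simp
  rfl

end Tensor


section Tensor2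

open MonoidalCategory

variable {R : Type v} [CommRing R]

theorem main (C P : ChainComplex (ModuleCat.{v} R) ℕ) (G : ModuleCat.{v} R)
    [Module.Free R (C.X 0)] [∀ q, Module.Free R (P.X q)]
    (π : P ⟶ (ChainComplex.single₀ (ModuleCat.{v} R)).obj G) [QuasiIso π] :
    IsIso (HomologicalComplex.homologyMap (C ◁ π) 1) := by
  rw [whiskerLeft_eq]
  let Q : ProjectiveResolution G :=
    { complex := P
      projective := fun n => inferInstance
      π := π }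
  have hπ0 : Epi (π.f 0) := epi_of_isColimit_cofork Q.isColimitCokernelCofork
  have hex0 : (ShortComplex.mk (P.d 1 0) (π.f 0) Q.complex_d_comp_π_f_zero).Exact := Q.exact₀
  have hex1 : (ShortComplex.mk (P.d 2 1) (P.d 1 0) (P.d_comp_d 2 1 0)).Exact := Q.exact_succ 0
  apply isIso_H1 (bcMap C π)
  · -- hZ
    intro i j hj
    have hz : IsZero (((ChainComplex.single₀ (ModuleCat.{v} R)).obj G).X j) :=
      HomologicalComplex.isZero_single_obj_X (ComplexShape.down ℕ) 0 G j (by lia)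
    exact (tensorLeft (C.X i)).map_isZero hz
  · -- hE1
    intro i
    rw [bcMap_f_f]
    have hpc : PreservesFiniteColimits (tensorLeft (C.X i)) := inferInstance
    have h2 := ((Functor.preservesFiniteColimits_tfae (tensorLeft (C.X i))).out 3 1).1 hpc
    exact (h2 _ ⟨hex0, hπ0⟩).2
  · -- hE2
    intro i W x hx
    have hpc : PreservesFiniteColimits (tensorLeft (C.X i)) := inferInstance
    have h2 := ((Functor.preservesFiniteColimits_tfae (tensorLeft (C.X i))).out 3 1).1 hpc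
    have h3 := (h2 _ ⟨hex0, hπ0⟩).1
    exact h3.exact_up_to_refinements x hx
  · -- hE3
    intro W x hx
    have h3 := Module.Flat.lTensor_shortComplex_exact (C.X 0) _ hex1
    exact h3.exact_up_to_refinements x hx

end Tensor2

end Groth.Agent.Lib.Helper26.TotCoordDown
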