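import Mathlib
set_option maxHeartbeats 400000
open CategoryTheory Category Limits Preadditive

namespace Groth.Agent.Lib.Helper26.TotQuasiIso
universe v u
variable {A : Type u} [Category.{v} A] [Abelian A]

local notation "cz" => ComplexShape.up ℤ

variable (K L : HomologicalComplex₂ A (ComplexShape.up ℤ) (ComplexShape.up ℤ))
  [K.HasTotal (ComplexShape.up ℤ)] [L.HasTotal (ComplexShape.up ℤ)]

/-- the inclusion with a plain arithmetic hypothesis -/
noncomputable abbrev inc (p q m : ℤ) (h : p + q = m) : (K.X p).X q ⟶ (K.total cz).X m :=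
  K.ιTotal cz p q m h

/-- projection to a summand (zero if indices do not match) -/
noncomputable def pr (p q m : ℤ) : (K.total cz).X m ⟶ (K.X p).X q :=
  K.totalDesc (fun p' q' _ => if h : p' = p ∧ q' = q then eqToHom (by rw [h.1, h.2]) else 0)

@[reassoc]
lemma inc_pr (p' q' p q m : ℤ) (h : p' + q' = m) :
    inc K p' q' m h ≫ pr K p q m =
      if h : p' = p ∧ q' = q then eqToHom (by rw [h.1, h.2]) else 0 := by
  simp [inc, pr]

@[reassoc (attr := simp)]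
lemma inc_pr_self (p q m : ℤ) (h : p + q = m) :
    inc K p q m h ≫ pr K p q m = 𝟙 _ := by
  rw [inc_pr]; simp

@[reassoc]
lemma inc_pr_ne (p' q' p q m : ℤ) (h : p' + q' = m) (hne : ¬ (p' = p ∧ q' = q)) :
    inc K p' q' m h ≫ pr K p q m = 0 := by
  rw [inc_pr, dif_neg hne]


lemma sum_pr_inc (a b : ℤ) (hK : ∀ p q : ℤ, p < a ∨ q < b → IsZero ((K.X p).X q)) (m : ℤ) :
    ∑ p ∈ Finset.Icc a (m - b), pr K p (m - p) m ≫ inc K p (m - p) m (by lia) =
      𝟙 ((K.total cz).X m) := by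
  apply HomologicalComplex₂.total.hom_ext
  intro p' q' h'
  have hq' : q' = m - p' := by
    have : p' + q' = m := h'
    lia
  subst hq'
  rw [comp_id, comp_sum]
  by_cases hmem : p' ∈ Finset.Icc a (m - b)
  · rw [Finset.sum_eq_single p']
    · exact inc_pr_self_assoc K p' (m - p') m (by lia) _
    · intro p _ hne
      rw [inc_pr_ne_assoc K p' (m - p') p (m - p) m (by lia) (fun h => hne h.1.symm), zero_comp]
    · intro h; exact absurd hmem h
  · apply IsZero.eq_of_src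
    apply hK
    rw [Finset.mem_Icc] at hmem
    lia

lemma eq_zero_of_pr (a b : ℤ) (hK : ∀ p q : ℤ, p < a ∨ q < b → IsZero ((K.X p).X q)) (m : ℤ)
    {W : A} (x : W ⟶ (K.total cz).X m) (h : ∀ p q : ℤ, p + q = m → x ≫ pr K p q m = 0) :
    x = 0 := by
  rw [← comp_id x, ← sum_pr_inc K a b hK m, comp_sum]
  apply Finset.sum_eq_zero
  intro p _
  rw [reassoc_of% (h p (m - p) (by lia)), zero_comp]

/-- coordinates of the differential -/
lemma d_pr (p q m m' : ℤ) (hm : m + 1 = m') (h : p + q = m') (p₀ q₀ : ℤ) (hp₀ : p₀ + 1 = p)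
    (hq₀ : q₀ + 1 = q) :
    (K.total cz).d m m' ≫ pr K p q m' =
      pr K p₀ q m ≫ (K.d p₀ p).f q + pr K p q₀ m ≫ (p.negOnePow • (K.X p).d q₀ q) := by
  apply HomologicalComplex₂.total.hom_ext
  intro p' q' h'
  have h'' : p' + q' = m := h'
  change inc K p' q' m h'' ≫ _ = inc K p' q' m h'' ≫ _
  rw [comp_add, inc_pr_assoc, inc_pr_assoc]
  dsimp [HomologicalComplex₂.total_d]
  rw [add_comp, comp_add]
  erw [HomologicalComplex₂.ι_D₁_assoc, HomologicalComplex₂.ι_D₂_assoc]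
  rw [K.d₁_eq cz (show (cz).Rel p' (p' + 1) from rfl) q' m' (by change p' + 1 + q' = m'; lia),
    K.d₂_eq cz p' (show (cz).Rel q' (q' + 1) from rfl) m' (by change p' + (q' + 1) = m'; lia)]
  subst hp₀ hq₀ hm
  simp only [Linear.units_smul_comp, assoc]
  change (_ • ((K.d p' (p'+1)).f q' ≫ inc K (p'+1) q' _ (by lia) ≫ pr K _ _ _)) +
    (_ • (_ ≫ inc K p' (q'+1) _ (by lia) ≫ pr K _ _ _)) = _
  rw [inc_pr, inc_pr]
  by_cases h1 : p' = p₀
  · subst h1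
    have : q' = q₀ + 1 := by lia
    subst this
    simp
  · by_cases h2 : p' = p₀ + 1
    · subst h2
      have : q' = q₀ := by lia
      subst this
      simp
    · have h3 : ¬ (p' + 1 = p₀ + 1 ∧ q' = q₀ + 1) := fun h => h1 (by lia)
      have h4 : ¬ (p' = p₀ + 1 ∧ q' + 1 = q₀ + 1) := fun h => h2 h.1
      have h5 : ¬ (p' = p₀ ∧ q' = q₀ + 1) := fun h => h1 h.1
      have h6 : ¬ (p' = p₀ + 1 ∧ q' = q₀) := fun h => h2 h.1
      rw [dif_neg h3, dif_neg h4, dif_neg h5, dif_neg h6]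
      simp


variable {K L} in
lemma map_pr (φ : K ⟶ L) (p q m : ℤ) :
    (HomologicalComplex₂.total.map φ cz).f m ≫ pr L p q m = pr K p q m ≫ (φ.f p).f q := by
  apply HomologicalComplex₂.total.hom_ext
  intro p' q' h'
  have h'' : p' + q' = m := h'
  rw [HomologicalComplex₂.ιTotal_map_assoc]
  change _ ≫ inc L p' q' m h'' ≫ _ = inc K p' q' m h'' ≫ _
  rw [inc_pr, inc_pr_assoc]
  by_cases h : p' = p ∧ q' = q
  · obtain ⟨rfl, rfl⟩ := h
    simp
  · rw [dif_neg h, dif_neg h]; simp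

/-- the `q`-th row of a bicomplex -/
noncomputable abbrev rowF (q : ℤ) :
    HomologicalComplex₂ A cz cz ⥤ CochainComplex A ℤ :=
  (HomologicalComplex.eval A cz q).mapHomologicalComplex cz

variable {K L} in
instance (φ : K ⟶ L) [QuasiIso φ] (q : ℤ) : QuasiIso ((rowF q).map φ) := by
  dsimp [rowF]
  infer_instance

variable {K L} in
lemma rowLemma (φ : K ⟶ L) [QuasiIso φ] (q N N' N'' N₀ : ℤ) (hN' : N + 1 = N') (hN'' : N' + 1 = N'')
    (hN₀ : N₀ + 1 = N)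
    {W : A} (u : W ⟶ (K.X N').X q) (v : W ⟶ (L.X N).X q)
    (hu : u ≫ (K.d N' N'').f q = 0)
    (huv : u ≫ (φ.f N').f q + v ≫ (L.d N N').f q = 0) :
    ∃ (W' : A) (π : W' ⟶ W) (_ : Epi π) (x : W' ⟶ (K.X N).X q) (y : W' ⟶ (L.X N₀).X q),
      x ≫ (K.d N N').f q = - π ≫ u ∧ π ≫ v = x ≫ (φ.f N).f q + y ≫ (L.d N₀ N).f q := by
  have hmono : Mono (HomologicalComplex.homologyMap ((rowF q).map φ) N') := inferInstance
  rw [HomologicalComplex.mono_homologyMap_iff_up_to_refinements ((rowF q).map φ) N N' N''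
    (by simp; lia) (by simp; lia)] at hmono
  have hmono' : ∀ ⦃T : A⦄ (x₂ : T ⟶ (K.X N').X q), x₂ ≫ (K.d N' N'').f q = 0 →
      ∀ (y₁ : T ⟶ (L.X N).X q), x₂ ≫ (φ.f N').f q = y₁ ≫ (L.d N N').f q →
      ∃ (T' : A) (π : T' ⟶ T), ∃ (_ : Epi π), ∃ x₁ : T' ⟶ (K.X N).X q,
        π ≫ x₂ = x₁ ≫ (K.d N N').f q := hmono
  have hepi : Epi (HomologicalComplex.homologyMap ((rowF q).map φ) N) := inferInstance
  rw [HomologicalComplex.epi_homologyMap_iff_up_to_refinements ((rowF q).map φ) N₀ N N'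
    (by simp; lia) (by simp; lia)] at hepi
  have hepi' : ∀ ⦃T : A⦄ (y₂ : T ⟶ (L.X N).X q), y₂ ≫ (L.d N N').f q = 0 →
      ∃ (T' : A) (π : T' ⟶ T), ∃ (_ : Epi π), ∃ (x₂ : T' ⟶ (K.X N).X q),
        ∃ (_ : x₂ ≫ (K.d N N').f q = 0), ∃ (y₁ : T' ⟶ (L.X N₀).X q),
          π ≫ y₂ = x₂ ≫ (φ.f N).f q + y₁ ≫ (L.d N₀ N).f q := hepi
  clear hmono hepi
  obtain ⟨W₁, π₁, hπ₁, x₁, hx₁⟩ := hmono' u hu (-v) (by
    rw [neg_comp]
    exact eq_neg_of_add_eq_zero_left huv)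
  obtain ⟨W₂, π₂, hπ₂, x₂, hx₂, y₁, hy₁⟩ := hepi' (π₁ ≫ v + x₁ ≫ (φ.f N).f q) (by
    rw [add_comp, assoc, assoc]
    have e1 : (φ.f N).f q ≫ (L.d N N').f q = (K.d N N').f q ≫ (φ.f N').f q := by
      rw [← HomologicalComplex.comp_f, ← HomologicalComplex.comp_f, φ.comm]
    rw [e1, ← assoc x₁, ← hx₁, assoc, ← comp_add, add_comm, huv, comp_zero])
  refine ⟨W₂, π₂ ≫ π₁, inferInstance, x₂ - π₂ ≫ x₁, y₁, ?_, ?_⟩
  · rw [sub_comp, hx₂, zero_sub, assoc, assoc, hx₁]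
  · rw [sub_comp, assoc, assoc]
    have : π₂ ≫ π₁ ≫ v = π₂ ≫ (π₁ ≫ v + x₁ ≫ (φ.f N).f q) - π₂ ≫ x₁ ≫ (φ.f N).f q := by
      rw [comp_add]; abel
    rw [this, hy₁]
    abel


variable {K L} in
lemma step (φ : K ⟶ L) [QuasiIso φ] (m m' m'' m₀ : ℤ) (hm' : m + 1 = m') (hm'' : m' + 1 = m'')
    (hm₀ : m₀ + 1 = m) (N : ℤ)
    {W : A} (x : W ⟶ (K.total cz).X m') (y : W ⟶ (L.total cz).X m)
    (hx : x ≫ (K.total cz).d m' m'' = 0)
    (hxy : x ≫ (HomologicalComplex₂.total.map φ cz).f m' + y ≫ (L.total cz).d m m' = 0)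
    (hxv : ∀ p q : ℤ, p + q = m' → N + 1 < p → x ≫ pr K p q m' = 0)
    (hyv : ∀ p q : ℤ, p + q = m → N < p → y ≫ pr L p q m = 0) :
    ∃ (W₁ : A) (π₁ : W₁ ⟶ W) (_ : Epi π₁) (X' : W₁ ⟶ (K.total cz).X m)
      (Y' : W₁ ⟶ (L.total cz).X m₀),
      (∀ p q : ℤ, p + q = m' → N < p →
        (π₁ ≫ x + X' ≫ (K.total cz).d m m') ≫ pr K p q m' = 0) ∧
      (∀ p q : ℤ, p + q = m → N - 1 < p →
        (π₁ ≫ y - X' ≫ (HomologicalComplex₂.total.map φ cz).f m -
          Y' ≫ (L.total cz).d m₀ m) ≫ pr L p q m = 0) := by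
  obtain ⟨q, hq⟩ : ∃ q : ℤ, N + q = m := ⟨m - N, by lia⟩
  obtain ⟨N', hN'⟩ : ∃ N' : ℤ, N + 1 = N' := ⟨_, rfl⟩
  obtain ⟨N'', hN''⟩ : ∃ N'' : ℤ, N' + 1 = N'' := ⟨_, rfl⟩
  obtain ⟨N₀, hN₀⟩ : ∃ N₀ : ℤ, N₀ + 1 = N := ⟨N - 1, by lia⟩
  obtain ⟨q₀, hq₀⟩ : ∃ q₀ : ℤ, q₀ + 1 = q := ⟨q - 1, by lia⟩
  have hu : (x ≫ pr K N' q m') ≫ (K.d N' N'').f q = 0 := by
    have := congr($hx ≫ pr K N'' q m'')
    rw [zero_comp, assoc, d_pr K N'' q m' m'' hm'' (by lia) N' q₀ hN'' hq₀, comp_add,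
      reassoc_of% (hxv N'' q₀ (by lia) (by lia)), zero_comp, add_zero] at this
    rw [assoc]; exact this
  have huv : (x ≫ pr K N' q m') ≫ (φ.f N').f q + (y ≫ pr L N q m) ≫ (L.d N N').f q = 0 := by
    have := congr($hxy ≫ pr L N' q m')
    rw [zero_comp, add_comp, assoc, assoc, map_pr, d_pr L N' q m m' hm' (by lia) N q₀ hN' hq₀,
      comp_add, reassoc_of% (hyv N' q₀ (by lia) (by lia)), zero_comp, add_zero] at this
    rw [assoc, assoc]; exact this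
  obtain ⟨W₁, π₁, hπ₁, x'', y'', h1, h2⟩ := rowLemma φ q N N' N'' N₀ hN' hN'' hN₀ _ _ hu huv
  refine ⟨W₁, π₁, hπ₁, x'' ≫ inc K N q m hq, y'' ≫ inc L N₀ q m₀ (by lia), ?_, ?_⟩
  · intro p q' hpq hp
    obtain ⟨p₀, hp₀⟩ : ∃ p₀ : ℤ, p₀ + 1 = p := ⟨p - 1, by lia⟩
    obtain ⟨q₀', hq₀'⟩ : ∃ q₀' : ℤ, q₀' + 1 = q' := ⟨q' - 1, by lia⟩
    rw [add_comp, assoc, assoc, assoc, d_pr K p q' m m' hm' hpq p₀ q₀' hp₀ hq₀', comp_add,
      inc_pr_assoc, inc_pr_assoc]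
    have hne : ¬ (N = p ∧ q = q₀') := fun h => by lia
    rw [dif_neg hne, zero_comp, add_zero]
    by_cases hp' : p = N'
    · subst hp'
      obtain rfl : p₀ = N := by lia
      obtain rfl : q' = q := by lia
      simp only [and_self, ↓reduceDIte, eqToHom_refl, id_comp]
      rw [h1, add_neg_cancel]
    · have hne' : ¬ (N = p₀ ∧ q = q') := fun h => by lia
      rw [dif_neg hne', zero_comp, comp_zero, add_zero, hxv p q' hpq (by lia), comp_zero]
  · intro p q' hpq hp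
    obtain ⟨p₀, hp₀⟩ : ∃ p₀ : ℤ, p₀ + 1 = p := ⟨p - 1, by lia⟩
    obtain ⟨q₀', hq₀'⟩ : ∃ q₀' : ℤ, q₀' + 1 = q' := ⟨q' - 1, by lia⟩
    rw [sub_comp, sub_comp, assoc, assoc, assoc, assoc, assoc, map_pr, inc_pr_assoc,
      d_pr L p q' m₀ m hm₀ hpq p₀ q₀' hp₀ hq₀', comp_add, inc_pr_assoc, inc_pr_assoc]
    have hne : ¬ (N₀ = p ∧ q = q₀') := fun h => by lia
    rw [dif_neg hne, zero_comp, add_zero]
    by_cases hp' : p = N
    · subst hp'
      obtain rfl : p₀ = N₀ := by lia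
      obtain rfl : q' = q := by lia
      simp only [and_self, ↓reduceDIte, eqToHom_refl, id_comp]
      rw [h2]; abel
    · have hne' : ¬ (N₀ = p₀ ∧ q = q') := fun h => by lia
      have hne'' : ¬ (N = p ∧ q = q') := fun h => hp' h.1.symm
      rw [dif_neg hne', dif_neg hne'', zero_comp, zero_comp, comp_zero, comp_zero,
        hyv p q' hpq (by lia), comp_zero]
      simp


variable {K L} in
lemma chase (φ : K ⟶ L) [QuasiIso φ] (a b : ℤ)
    (hK : ∀ p q : ℤ, p < a ∨ q < b → IsZero ((K.X p).X q))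
    (hL : ∀ p q : ℤ, p < a ∨ q < b → IsZero ((L.X p).X q))
    (m m' m'' m₀ : ℤ) (hm' : m + 1 = m') (hm'' : m' + 1 = m'') (hm₀ : m₀ + 1 = m) (k : ℕ) :
    ∀ {W : A} (x : W ⟶ (K.total cz).X m') (y : W ⟶ (L.total cz).X m),
      x ≫ (K.total cz).d m' m'' = 0 →
      x ≫ (HomologicalComplex₂.total.map φ cz).f m' + y ≫ (L.total cz).d m m' = 0 →
      (∀ p q : ℤ, p + q = m' → a - 1 + k < p → x ≫ pr K p q m' = 0) →
      (∀ p q : ℤ, p + q = m → a - 2 + k < p → y ≫ pr L p q m = 0) →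
      ∃ (W' : A) (π : W' ⟶ W) (_ : Epi π) (x' : W' ⟶ (K.total cz).X m)
        (y' : W' ⟶ (L.total cz).X m₀),
        π ≫ x = - x' ≫ (K.total cz).d m m' ∧
        π ≫ y = x' ≫ (HomologicalComplex₂.total.map φ cz).f m + y' ≫ (L.total cz).d m₀ m := by
  induction k with
  | zero =>
    intro W x y hx hxy hxv hyv
    have hx0 : x = 0 := by
      apply eq_zero_of_pr K a b hK
      intro p q hpq
      by_cases hp : p < a
      · exact (hK p q (Or.inl hp)).eq_of_tgt _ _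
      · exact hxv p q hpq (by simp; lia)
    have hy0 : y = 0 := by
      apply eq_zero_of_pr L a b hL
      intro p q hpq
      by_cases hp : p < a
      · exact (hL p q (Or.inl hp)).eq_of_tgt _ _
      · exact hyv p q hpq (by simp; lia)
    exact ⟨W, 𝟙 W, inferInstance, 0, 0, by simp [hx0], by simp [hy0]⟩
  | succ k ih =>
    intro W x y hx hxy hxv hyv
    obtain ⟨W₁, π₁, hπ₁, X', Y', hX', hY'⟩ := step φ m m' m'' m₀ hm' hm'' hm₀ (a - 1 + k) x y hx hxy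
      (fun p q hpq hp => hxv p q hpq (by push_cast; lia))
      (fun p q hpq hp => hyv p q hpq (by push_cast; lia))
    obtain ⟨W₂, π₂, hπ₂, xh, yh, h1, h2⟩ := ih
      (π₁ ≫ x + X' ≫ (K.total cz).d m m')
      (π₁ ≫ y - X' ≫ (HomologicalComplex₂.total.map φ cz).f m - Y' ≫ (L.total cz).d m₀ m)
      (by rw [add_comp, assoc, assoc, hx, comp_zero, HomologicalComplex.d_comp_d, comp_zero,
            add_zero])
      (by
        rw [add_comp, sub_comp, sub_comp, assoc, assoc, assoc, assoc, assoc,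
          HomologicalComplex.d_comp_d, comp_zero, sub_zero,
          ← (HomologicalComplex₂.total.map φ cz).comm m m']
        have : π₁ ≫ x ≫ (HomologicalComplex₂.total.map φ cz).f m' +
            π₁ ≫ y ≫ (L.total cz).d m m' = 0 := by
          rw [← comp_add, hxy, comp_zero]
        rw [← this]; abel)
      (fun p q hpq hp => hX' p q hpq hp)
      (fun p q hpq hp => hY' p q hpq (by lia))
    refine ⟨W₂, π₂ ≫ π₁, inferInstance, xh + π₂ ≫ X', yh + π₂ ≫ Y', ?_, ?_⟩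
    · have : π₂ ≫ π₁ ≫ x = π₂ ≫ (π₁ ≫ x + X' ≫ (K.total cz).d m m') -
          π₂ ≫ X' ≫ (K.total cz).d m m' := by
        rw [comp_add]; abel
      rw [assoc, this, h1, add_comp, assoc]; abel
    · have : π₂ ≫ π₁ ≫ y = π₂ ≫ (π₁ ≫ y - X' ≫ (HomologicalComplex₂.total.map φ cz).f m -
          Y' ≫ (L.total cz).d m₀ m) + π₂ ≫ X' ≫ (HomologicalComplex₂.total.map φ cz).f m +
          π₂ ≫ Y' ≫ (L.total cz).d m₀ m := by
        rw [comp_sub, comp_sub]; abel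
      rw [assoc, this, h2, add_comp, add_comp, assoc, assoc]; abel

variable {K L} in
lemma chase' (φ : K ⟶ L) [QuasiIso φ] (a b : ℤ)
    (hK : ∀ p q : ℤ, p < a ∨ q < b → IsZero ((K.X p).X q))
    (hL : ∀ p q : ℤ, p < a ∨ q < b → IsZero ((L.X p).X q))
    (m m' m'' m₀ : ℤ) (hm' : m + 1 = m') (hm'' : m' + 1 = m'') (hm₀ : m₀ + 1 = m)
    {W : A} (x : W ⟶ (K.total cz).X m') (y : W ⟶ (L.total cz).X m)
    (hx : x ≫ (K.total cz).d m' m'' = 0)
    (hxy : x ≫ (HomologicalComplex₂.total.map φ cz).f m' + y ≫ (L.total cz).d m m' = 0) :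
    ∃ (W' : A) (π : W' ⟶ W) (_ : Epi π) (x' : W' ⟶ (K.total cz).X m)
      (y' : W' ⟶ (L.total cz).X m₀),
      π ≫ x = - x' ≫ (K.total cz).d m m' ∧
      π ≫ y = x' ≫ (HomologicalComplex₂.total.map φ cz).f m + y' ≫ (L.total cz).d m₀ m := by
  apply chase φ a b hK hL m m' m'' m₀ hm' hm'' hm₀ (m' - b - a + 2).toNat x y hx hxy
  · intro p q hpq hp
    apply (hK p q (Or.inr _)).eq_of_tgt
    have := Int.self_le_toNat (m' - b - a + 2)
    lia
  · intro p q hpq hp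
    apply (hL p q (Or.inr _)).eq_of_tgt
    have := Int.self_le_toNat (m' - b - a + 2)
    lia

variable {K L} in
theorem main (φ : K ⟶ L) (a b : ℤ)
    (hK : ∀ p q : ℤ, p < a ∨ q < b → IsZero ((K.X p).X q))
    (hL : ∀ p q : ℤ, p < a ∨ q < b → IsZero ((L.X p).X q)) [QuasiIso φ] :
    QuasiIso (HomologicalComplex₂.total.map φ (ComplexShape.up ℤ)) := by
  rw [quasiIso_iff]
  intro n
  rw [quasiIsoAt_iff_isIso_homologyMap]
  have hmono : Mono (HomologicalComplex.homologyMap (HomologicalComplex₂.total.map φ cz) n) := by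
    rw [HomologicalComplex.mono_homologyMap_iff_up_to_refinements _ (n - 1) n (n + 1)
      (by simp) (by simp)]
    intro W x₂ hx₂ y₁ hy₁
    obtain ⟨W', π, hπ, x', y', h1, h2⟩ := chase' φ a b hK hL (n - 1) n (n + 1) (n - 1 - 1)
      (by lia) rfl (by lia) x₂ (-y₁) hx₂ (by rw [hy₁, neg_comp, add_neg_cancel])
    exact ⟨W', π, hπ, -x', by rw [h1, neg_comp]⟩
  have hepi : Epi (HomologicalComplex.homologyMap (HomologicalComplex₂.total.map φ cz) n) := by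
    rw [HomologicalComplex.epi_homologyMap_iff_up_to_refinements _ (n - 1) n (n + 1)
      (by simp) (by simp)]
    intro W y₂ hy₂
    obtain ⟨W', π, hπ, x', y', h1, h2⟩ := chase' φ a b hK hL n (n + 1) (n + 1 + 1) (n - 1)
      rfl rfl (by lia) (0 : W ⟶ _) y₂ (by simp) (by rw [zero_comp, zero_add, hy₂])
    refine ⟨W', π, hπ, x', ?_, y', h2⟩
    rw [comp_zero] at h1
    exact neg_eq_zero.mp h1.symm
  exact isIso_of_mono_of_epi _

end Groth.Agent.Lib.Helper26.TotQuasiIso
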