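import Groth.Agent.Lib.Helper26.ComodRInt
import Mathlib.RingTheory.Trace.Basic
import Mathlib.LinearAlgebra.Trace
import Mathlib.RingTheory.HopfAlgebra.Convolution

/-!
# The trace of a finite commutative Hopf algebra is an integral (helper26)

For a commutative Hopf algebra `A`, finite (free) over `K`, the trace form `Tr : A → K` satisfies
`Σ a₁ Tr(a₂) = Tr(a) 1` (`isRIntegral_trace`); hence in characteristic zero `A` carries a
normalized integral (`exists_normalized_integral`).
-/

open TensorProduct Coalgebra HopfAlgebra

universe u v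

namespace Groth.Agent.Lib.Helper26.Comod

section Theta

variable {K : Type u} [CommRing K] {A : Type v} [CommRing A] [HopfAlgebra K A]

variable (K A) in
/-- `x ⊗ y ↦ (x ⊗ 1) Δ(y)`, an `A`-algebra map for the left structure. -/
noncomputable def thetaL : A ⊗[K] A →ₐ[A] A ⊗[K] A :=
  Algebra.TensorProduct.lift (Algebra.ofId A (A ⊗[K] A)) (Bialgebra.comulAlgHom K A)
    (fun _ _ => Commute.all _ _)

variable (K A) in
/-- `x ⊗ y ↦ (x ⊗ 1) (S ⊗ id)(Δ y)`. -/
noncomputable def psiL : A ⊗[K] A →ₐ[A] A ⊗[K] A :=
  Algebra.TensorProduct.lift (Algebra.ofId A (A ⊗[K] A))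
    ((Algebra.TensorProduct.map (antipodeAlgHom K A) (AlgHom.id K A)).comp
      (Bialgebra.comulAlgHom K A))
    (fun _ _ => Commute.all _ _)

theorem thetaL_tmul (x y : A) :
    thetaL K A (x ⊗ₜ[K] y) = (x ⊗ₜ[K] (1 : A)) * comul (R := K) y := by
  simp [thetaL, Algebra.ofId_apply, Algebra.TensorProduct.algebraMap_apply]

theorem psiL_tmul (x y : A) :
    psiL K A (x ⊗ₜ[K] y) = (x ⊗ₜ[K] (1 : A)) *
      (antipode K).rTensor A (comul (R := K) y) := by
  simp only [psiL, Algebra.TensorProduct.lift_tmul, Algebra.ofId_apply,
    Algebra.TensorProduct.algebraMap_apply, Algebra.algebraMap_self, RingHom.id_apply,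
    AlgHom.comp_apply, Bialgebra.comulAlgHom_apply]
  congr 1

theorem psiL_thetaL (z : A ⊗[K] A) : psiL K A (thetaL K A z) = z := by
  have h : (psiL K A).comp (thetaL K A) = AlgHom.id A (A ⊗[K] A) := by
    apply Algebra.TensorProduct.ext
    · ext
    · apply AlgHom.ext
      intro y
      simp only [AlgHom.comp_apply, AlgHom.restrictScalars_apply,
        Algebra.TensorProduct.includeRight_apply, AlgHom.coe_id, id_eq]
      rw [thetaL_tmul, ← Algebra.TensorProduct.one_def, one_mul]
      -- psiL (Δ y) = 1 ⊗ y
      have h1 : ∀ w : A ⊗[K] A, psiL K A w =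
          (LinearMap.mul' K A ∘ₗ (antipode K).lTensor A).rTensor A
            ((TensorProduct.assoc K A A A).symm ((comul (R := K) (A := A)).lTensor A w)) := by
        intro w
        induction w using TensorProduct.induction_on with
        | zero => simp
        | tmul p q =>
          rw [psiL_tmul, LinearMap.lTensor_tmul]
          generalize comul (R := K) q = z
          induction z using TensorProduct.induction_on with
          | zero => simp
          | tmul p' q' => simp
          | add z z' hz hz' => simp only [map_add, mul_add, TensorProduct.tmul_add, hz, hz']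
        | add w w' hw hw' => simp only [map_add, hw, hw']
      rw [h1, Coalgebra.coassoc_symm_apply,
        ← LinearMap.comp_apply (LinearMap.rTensor A _), ← LinearMap.rTensor_comp,
        LinearMap.comp_assoc, HopfAlgebra.mul_antipode_lTensor_comul, LinearMap.rTensor_comp,
        LinearMap.comp_apply, Coalgebra.rTensor_counit_comul]
      simp [Algebra.TensorProduct.one_def]
  exact congrArg (fun f => f z) h

end Theta

section Trace

variable {K : Type u} [Field K] {A : Type v} [CommRing A] [HopfAlgebra K A] [Module.Finite K A]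

theorem thetaL_bijective : Function.Bijective (thetaL K A) := by
  have hsurj : Function.Surjective (psiL K A).toLinearMap := fun z =>
    ⟨thetaL K A z, psiL_thetaL z⟩
  have hinj : Function.Injective (psiL K A).toLinearMap :=
    OrzechProperty.injective_of_surjective_endomorphism _ hsurj
  constructor
  · intro z z' h
    have := congrArg (psiL K A) h
    rwa [psiL_thetaL, psiL_thetaL] at this
  · intro z
    obtain ⟨w, rfl⟩ := hsurj z
    refine ⟨(psiL K A) ((psiL K A) w), ?_⟩
    apply hinj
    change psiL K A (thetaL K A _) = _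
    rw [psiL_thetaL]
    rfl

variable (K A) in
noncomputable def thetaEquiv : A ⊗[K] A ≃ₐ[A] A ⊗[K] A :=
  AlgEquiv.ofBijective (thetaL K A) thetaL_bijective

theorem trace_one_tmul (a : A) :
    Algebra.trace A (A ⊗[K] A) ((1 : A) ⊗ₜ[K] a) = algebraMap K A (Algebra.trace K A a) := by
  rw [Algebra.trace_apply, Algebra.trace_apply, ← LinearMap.trace_baseChange]
  congr 1
  apply TensorProduct.AlgebraTensorModule.curry_injective
  ext p q
  simp

theorem trace_eq_rid_lTensor (z : A ⊗[K] A) :
    Algebra.trace A (A ⊗[K] A) z =
      TensorProduct.rid K A ((Algebra.trace K A).lTensor A z) := by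
  induction z using TensorProduct.induction_on with
  | zero => simp
  | tmul p q =>
    have h1 : p ⊗ₜ[K] q = p • ((1 : A) ⊗ₜ[K] q) := by
      rw [TensorProduct.smul_tmul', smul_eq_mul, mul_one]
    rw [h1, map_smul, trace_one_tmul]
    simp [Algebra.smul_def, mul_comm]
  | add z z' hz hz' => simp only [map_add, hz, hz']

/-- The trace form is a right-invariant integral: `Σ a₁ Tr(a₂) = Tr(a) 1`. -/
theorem isRIntegral_trace : IsRIntegral (Algebra.trace K A) := by
  intro a
  rw [← trace_eq_rid_lTensor]
  have h1 : comul (R := K) a = thetaEquiv K A ((1 : A) ⊗ₜ[K] a) := by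
    rw [thetaEquiv, AlgEquiv.ofBijective_apply, thetaL_tmul, ← Algebra.TensorProduct.one_def,
      one_mul]
  rw [h1, Algebra.trace_eq_of_algEquiv, trace_one_tmul, Algebra.algebraMap_eq_smul_one]

end Trace

section Normalized

variable {K : Type u} [Field K] {A : Type v} [CommRing A] [HopfAlgebra K A]

theorem isIntegral_comp_antipode {J : A →ₗ[K] K} (hJ : IsRIntegral J) :
    IsIntegral (J ∘ₗ HopfAlgebra.antipode K) := by
  intro a
  have h1 := hJ (HopfAlgebra.antipode K a)
  rw [Groth.Agent.Lib.Helper23.comul_antipode] at h1
  have h2 : ∀ y : A ⊗[K] A, TensorProduct.rid K A (J.lTensor A (Groth.Agent.Lib.Helper23.antiSwap y)) =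
      HopfAlgebra.antipode K (TensorProduct.lid K A ((J ∘ₗ HopfAlgebra.antipode K).rTensor A y)) := by
    intro y
    induction y using TensorProduct.induction_on with
    | zero => simp
    | tmul x z => simp
    | add x y hx hy => simp only [map_add, hx, hy]
  rw [h2] at h1
  have h3 := congrArg (HopfAlgebra.antipode K) h1
  rw [antipode_antipode, map_smul, HopfAlgebra.antipode_one] at h3
  exact h3

/-- A finite commutative Hopf algebra over a field of characteristic zero has a normalized
integral. -/
theorem exists_normalized_integral [CharZero K] [Module.Finite K A] :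
    ∃ α : A →ₗ[K] K, IsIntegral α ∧ α 1 = 1 := by
  have hnt : Nontrivial A := by
    refine ⟨⟨1, 0, fun h => ?_⟩⟩
    have := congrArg (counit (R := K) (A := A)) h
    rw [Bialgebra.counit_one, map_zero] at this
    exact one_ne_zero this
  have hpos : 0 < Module.finrank K A := Module.finrank_pos
  have hne : (Module.finrank K A : K) ≠ 0 := Nat.cast_ne_zero.mpr hpos.ne'
  have hI := isIntegral_comp_antipode (isRIntegral_trace (K := K) (A := A))
  refine ⟨(Module.finrank K A : K)⁻¹ • (Algebra.trace K A ∘ₗ HopfAlgebra.antipode K), ?_, ?_⟩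
  · intro a
    have := hI a
    rw [LinearMap.rTensor_smul, LinearMap.smul_apply, map_smul, this, LinearMap.smul_apply,
      smul_assoc]
  · rw [LinearMap.smul_apply, LinearMap.comp_apply, HopfAlgebra.antipode_one]
    have h1 : Algebra.trace K A (1 : A) = (Module.finrank K A : K) := by
      have := Algebra.trace_algebraMap (R := K) (S := A) (1 : K)
      rw [map_one] at this
      rw [this]
      simp
    rw [h1, smul_eq_mul, inv_mul_cancel₀ hne]

end Normalized

end Groth.Agent.Lib.Helper26.Comod
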