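import Mathlib.Topology.Algebra.Nonarchimedean.Basic
import Mathlib.Topology.Algebra.OpenSubgroup
import Mathlib.Tactic.Group

/-!
The topology generated by two-sided translates of a family of subgroups.
-/

set_option autoImplicit false
universe u

namespace Groth.Agent.Lib.Helper26.TranslateTop

variable (T : Type u) [Group T] (𝒮 : Set (Subgroup T))

/-- the subbasis of two-sided translates -/
def B : Set (Set T) :=
  {S : Set T | ∃ Γ ∈ 𝒮, ∃ x y : T, S = (fun g : T => x * g * y) '' (Γ : Set T)}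

variable {T 𝒮}

lemma key (Γ : Subgroup T) (x y a : T) (ha : a ∈ (fun g : T => x * g * y) '' (Γ : Set T)) :
    (fun g : T => x * g * y) '' (Γ : Set T) = (fun g : T => a * y⁻¹ * g * y) '' (Γ : Set T) := by
  obtain ⟨γ, hγ, rfl⟩ := ha
  ext z
  constructor
  · rintro ⟨g, hg, rfl⟩
    refine ⟨γ⁻¹ * g, Γ.mul_mem (Γ.inv_mem hγ) hg, ?_⟩
    show x * γ * y * y⁻¹ * (γ⁻¹ * g) * y = x * g * y
    group
  · rintro ⟨g, hg, rfl⟩
    refine ⟨γ * g, Γ.mul_mem hγ hg, ?_⟩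
    show x * (γ * g) * y = x * γ * y * y⁻¹ * g * y
    group

theorem nonarch : @NonarchimedeanGroup T _ (TopologicalSpace.generateFrom (B T 𝒮)) := by
  letI : TopologicalSpace T := TopologicalSpace.generateFrom (B T 𝒮)
  have hB_open : ∀ S ∈ B T 𝒮, IsOpen S := fun S hS =>
    TopologicalSpace.isOpen_generateFrom_of_mem hS
  have hmul : Continuous fun p : T × T => p.1 * p.2 := by
    rw [continuous_generateFrom_iff]
    rintro S ⟨Γ, hΓ, x, y, rfl⟩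
    rw [isOpen_prod_iff]
    rintro a b hab
    have hab' : a * b ∈ (fun g : T => x * g * y) '' (Γ : Set T) := hab
    have haU : a ∈ (fun g : T => (a * b * y⁻¹) * g * (y * b⁻¹)) '' (Γ : Set T) := by
      refine ⟨1, Γ.one_mem, ?_⟩
      show (a * b * y⁻¹) * 1 * (y * b⁻¹) = a
      group
    have hbV : b ∈ (fun g : T => (b * y⁻¹) * g * y) '' (Γ : Set T) := by
      refine ⟨1, Γ.one_mem, ?_⟩
      show (b * y⁻¹) * 1 * y = b
      group
    refine ⟨(fun g : T => (a * b * y⁻¹) * g * (y * b⁻¹)) '' (Γ : Set T),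
      (fun g : T => (b * y⁻¹) * g * y) '' (Γ : Set T),
      hB_open _ ⟨Γ, hΓ, _, _, rfl⟩, hB_open _ ⟨Γ, hΓ, _, _, rfl⟩, haU, hbV, ?_⟩
    rintro ⟨u, v⟩ ⟨⟨g, hg, rfl⟩, ⟨g', hg', rfl⟩⟩
    show (a * b * y⁻¹) * g * (y * b⁻¹) * ((b * y⁻¹) * g' * y)
      ∈ (fun g : T => x * g * y) '' (Γ : Set T)
    rw [key Γ x y (a * b) hab']
    refine ⟨g * g', Γ.mul_mem hg hg', ?_⟩
    show a * b * y⁻¹ * (g * g') * y = (a * b * y⁻¹) * g * (y * b⁻¹) * ((b * y⁻¹) * g' * y)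
    group
  have hinv : Continuous fun a : T => a⁻¹ := by
    rw [continuous_generateFrom_iff]
    rintro S ⟨Γ, hΓ, x, y, rfl⟩
    have : (fun a : T => a⁻¹) ⁻¹' ((fun g : T => x * g * y) '' (Γ : Set T))
        = (fun g : T => y⁻¹ * g * x⁻¹) '' (Γ : Set T) := by
      ext z
      constructor
      · rintro ⟨g, hg, hz⟩
        refine ⟨g⁻¹, Γ.inv_mem hg, ?_⟩
        have hz' : x * g * y = z⁻¹ := hz
        have : z = (x * g * y)⁻¹ := by rw [hz', inv_inv]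
        rw [this]
        show y⁻¹ * g⁻¹ * x⁻¹ = (x * g * y)⁻¹
        group
      · rintro ⟨g, hg, rfl⟩
        refine ⟨g⁻¹, Γ.inv_mem hg, ?_⟩
        show x * g⁻¹ * y = (y⁻¹ * g * x⁻¹)⁻¹
        group
    rw [this]
    exact hB_open _ ⟨Γ, hΓ, _, _, rfl⟩
  haveI : IsTopologicalGroup T := { continuous_mul := hmul, continuous_inv := hinv }
  refine { is_nonarchimedean := ?_ }
  intro U hU
  obtain ⟨O, hOU, hO, h1⟩ := mem_nhds_iff.mp hU
  suffices h : ∃ V : OpenSubgroup T, (V : Set T) ⊆ O by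
    obtain ⟨V, hV⟩ := h
    exact ⟨V, hV.trans hOU⟩
  have hO' : TopologicalSpace.GenerateOpen (B T 𝒮) O := hO
  clear hO hOU hU
  induction hO' with
  | basic S hS =>
    obtain ⟨Γ, hΓ, x, y, rfl⟩ := hS
    have e := key Γ x y 1 h1
    have hset : ((Γ.map (MulAut.conj y⁻¹).toMonoidHom : Subgroup T) : Set T)
        = (fun g : T => x * g * y) '' (Γ : Set T) := by
      rw [e]
      ext z
      constructor
      · rintro ⟨g, hg, rfl⟩
        refine ⟨g, hg, ?_⟩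
        show 1 * y⁻¹ * g * y = y⁻¹ * g * y⁻¹⁻¹
        group
      · rintro ⟨g, hg, rfl⟩
        refine ⟨g, hg, ?_⟩
        show y⁻¹ * g * y⁻¹⁻¹ = 1 * y⁻¹ * g * y
        group
    have hopen : IsOpen ((Γ.map (MulAut.conj y⁻¹).toMonoidHom : Subgroup T) : Set T) := by
      rw [hset]
      exact hB_open _ ⟨Γ, hΓ, _, _, rfl⟩
    exact ⟨⟨Γ.map (MulAut.conj y⁻¹).toMonoidHom, hopen⟩, hset.subset⟩
  | univ => exact ⟨⊤, Set.subset_univ _⟩
  | inter O₁ O₂ _ _ ih₁ ih₂ =>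
    obtain ⟨V₁, hV₁⟩ := ih₁ h1.1
    obtain ⟨V₂, hV₂⟩ := ih₂ h1.2
    refine ⟨V₁ ⊓ V₂, ?_⟩
    intro z hz
    exact ⟨hV₁ hz.1, hV₂ hz.2⟩
  | sUnion 𝒪 _ ih =>
    obtain ⟨O, hO𝒪, h1O⟩ := h1
    obtain ⟨V, hV⟩ := ih O hO𝒪 h1O
    exact ⟨V, hV.trans (Set.subset_sUnion_of_mem hO𝒪)⟩

end Groth.Agent.Lib.Helper26.TranslateTop
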