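import Mathlib

set_option maxHeartbeats 400000

namespace Groth.Agent.Lib.Helper26.TwistTrans

open Polynomial

universe u v

variable {k : Type u} [Field k] {K : Type v} [Field K] [Algebra k K] {r : ℕ}

/-- the twisted translation -/
noncomputable abbrev Φ (g : Fin r → K) (N : ℕ) :
    MvPolynomial (Fin r) k →ₐ[k] Polynomial (MvPolynomial (Fin r) K) :=
  MvPolynomial.aeval (fun i : Fin r =>
    Polynomial.C (MvPolynomial.X i) + Polynomial.C (MvPolynomial.C (g i)) * Polynomial.X ^ N)

variable (g : Fin r → K) (N : ℕ)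

lemma lin_natDegree (i : Fin r) :
    (Polynomial.C (MvPolynomial.X i) + Polynomial.C (MvPolynomial.C (g i)) * Polynomial.X ^ N :
      Polynomial (MvPolynomial (Fin r) K)).natDegree ≤ N := by
  refine (Polynomial.natDegree_add_le _ _).trans (max_le ?_ ?_)
  · rw [Polynomial.natDegree_C]; exact Nat.zero_le _
  · exact Polynomial.natDegree_C_mul_X_pow_le _ _

lemma lin_coeff (hN : 1 ≤ N) (i : Fin r) :
    (Polynomial.C (MvPolynomial.X i) + Polynomial.C (MvPolynomial.C (g i)) * Polynomial.X ^ N :
      Polynomial (MvPolynomial (Fin r) K)).coeff N = MvPolynomial.C (g i) := by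
  rw [Polynomial.coeff_add, Polynomial.coeff_C, if_neg (by omega), zero_add,
    Polynomial.coeff_C_mul, Polynomial.coeff_X_pow, if_pos rfl, mul_one]

/-- monomial with coefficient one -/
lemma mono_one (hN : 1 ≤ N) (s : Fin r →₀ ℕ) :
    (Φ (k := k) g N (MvPolynomial.monomial s 1)).natDegree ≤ N * s.degree ∧
    (Φ (k := k) g N (MvPolynomial.monomial s 1)).coeff (N * s.degree) =
      MvPolynomial.C (MvPolynomial.aeval g (MvPolynomial.monomial s (1 : k))) := by
  induction s using Finsupp.induction_linear with
  | zero =>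
    have : (MvPolynomial.monomial (0 : Fin r →₀ ℕ) (1 : k)) = 1 := rfl
    simp [this]
  | add s t hs ht =>
    have hmul : MvPolynomial.monomial (s + t) (1 : k) =
        MvPolynomial.monomial s 1 * MvPolynomial.monomial t 1 := by
      rw [MvPolynomial.monomial_mul, one_mul]
    rw [hmul, map_mul, map_mul, map_add, Nat.mul_add]
    refine ⟨Polynomial.natDegree_mul_le_of_le hs.1 ht.1, ?_⟩
    rw [Polynomial.coeff_mul_add_eq_of_natDegree_le hs.1 ht.1, hs.2, ht.2, map_mul]
  | single i e =>
    have hmono : MvPolynomial.monomial (Finsupp.single i e) (1 : k) = MvPolynomial.X i ^ e := by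
      rw [MvPolynomial.X_pow_eq_monomial]
    rw [hmono, map_pow, map_pow, MvPolynomial.aeval_X, MvPolynomial.aeval_X, Finsupp.degree_single,
      mul_comm N e]
    refine ⟨Polynomial.natDegree_pow_le_of_le e (lin_natDegree g N i), ?_⟩
    rw [Polynomial.coeff_pow_of_natDegree_le (lin_natDegree g N i), lin_coeff g N hN, map_pow]

lemma Φ_C (c : k) : Φ (k := k) g N (MvPolynomial.C c) =
    Polynomial.C (MvPolynomial.C (algebraMap k K c)) := by
  rw [MvPolynomial.aeval_C, Polynomial.algebraMap_apply, MvPolynomial.algebraMap_apply]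

/-- general monomial -/
lemma mono (hN : 1 ≤ N) (s : Fin r →₀ ℕ) (c : k) :
    (Φ (k := k) g N (MvPolynomial.monomial s c)).natDegree ≤ N * s.degree ∧
    (Φ (k := k) g N (MvPolynomial.monomial s c)).coeff (N * s.degree) =
      MvPolynomial.C (MvPolynomial.aeval g (MvPolynomial.monomial s c)) := by
  have hmul : MvPolynomial.monomial s c = MvPolynomial.C c * MvPolynomial.monomial s 1 := by
    rw [MvPolynomial.C_mul_monomial, mul_one]
  obtain ⟨h1, h2⟩ := mono_one (k := k) g N hN s
  rw [hmul, map_mul, map_mul, Φ_C, MvPolynomial.aeval_C]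
  refine ⟨(Polynomial.natDegree_C_mul_le _ _).trans h1, ?_⟩
  rw [Polynomial.coeff_C_mul, h2, map_mul]

/-- key lemma: top coefficient of the twisted translate -/
lemma key (hN : 1 ≤ N) (q : MvPolynomial (Fin r) k) (d : ℕ) (hd : q.totalDegree ≤ d) :
    (Φ (k := k) g N q).natDegree ≤ N * d ∧
    (Φ (k := k) g N q).coeff (N * d) =
      MvPolynomial.C (MvPolynomial.aeval g (MvPolynomial.homogeneousComponent d q)) := by
  classical
  have hdeg : ∀ s ∈ q.support, s.degree ≤ d := fun s hs =>
    (MvPolynomial.le_totalDegree hs).trans hd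
  have hq : q = ∑ s ∈ q.support, MvPolynomial.monomial s (q.coeff s) :=
    (MvPolynomial.support_sum_monomial_coeff q).symm
  constructor
  · rw [hq, map_sum]
    refine Polynomial.natDegree_sum_le_of_forall_le _ _ fun s hs => ?_
    exact (mono g N hN s _).1.trans (Nat.mul_le_mul_left N (hdeg s hs))
  · rw [MvPolynomial.homogeneousComponent_apply, map_sum, map_sum, Finset.sum_filter]
    conv_lhs => rw [hq, map_sum, Polynomial.finsetSum_coeff]
    refine Finset.sum_congr rfl fun s hs => ?_
    by_cases hsd : s.degree = d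
    · rw [if_pos hsd, ← hsd]
      exact (mono g N hN s _).2
    · rw [if_neg hsd]
      apply Polynomial.coeff_eq_zero_of_natDegree_lt
      refine lt_of_le_of_lt (mono g N hN s _).1 ?_
      have : s.degree < d := lt_of_le_of_ne (hdeg s hs) hsd
      exact Nat.mul_lt_mul_of_pos_left this (by omega)

variable (f : Polynomial (MvPolynomial (Fin r) k))

/-- the maximal total degree of the coefficients -/
noncomputable def Dmax : ℕ := f.support.sup (fun j => (f.coeff j).totalDegree)

lemma le_Dmax {j : ℕ} (hj : j ∈ f.support) : (f.coeff j).totalDegree ≤ Dmax f :=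
  Finset.le_sup (f := fun j => (f.coeff j).totalDegree) hj

lemma exists_top (hf : f ≠ 0) :
    ∃ j ∈ f.support, (f.coeff j).totalDegree = Dmax f ∧
      ∀ j' ∈ f.support, (f.coeff j').totalDegree = Dmax f → j' ≤ j := by
  classical
  have hne : f.support.Nonempty := by
    rwa [Polynomial.support_nonempty]
  obtain ⟨j₀, hj₀, hj₀D⟩ := Finset.exists_mem_eq_sup f.support hne
    (fun j => (f.coeff j).totalDegree)
  set J := f.support.filter (fun j => (f.coeff j).totalDegree = Dmax f) with hJ
  have hJne : J.Nonempty := ⟨j₀, by rw [hJ, Finset.mem_filter]; exact ⟨hj₀, hj₀D.symm⟩⟩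
  refine ⟨J.max' hJne, ?_, ?_, ?_⟩
  · exact (Finset.mem_filter.mp (Finset.max'_mem J hJne)).1
  · exact (Finset.mem_filter.mp (Finset.max'_mem J hJne)).2
  · intro j' hj' hD
    exact Finset.le_max' J j' (by rw [hJ, Finset.mem_filter]; exact ⟨hj', hD⟩)

lemma homogComp_ne_zero (q : MvPolynomial (Fin r) k) (hq : q ≠ 0) :
    MvPolynomial.homogeneousComponent q.totalDegree q ≠ 0 := by
  classical
  have hne : q.support.Nonempty := by
    rwa [Finset.nonempty_iff_ne_empty, Ne, MvPolynomial.support_eq_empty]
  obtain ⟨s, hs, hsd⟩ := Finset.exists_mem_eq_sup q.support hne (fun s => s.sum fun _ e => e)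
  intro h0
  have := congrArg (MvPolynomial.coeff s) h0
  rw [MvPolynomial.coeff_homogeneousComponent, MvPolynomial.coeff_zero] at this
  have hdeg : s.degree = q.totalDegree := by
    rw [MvPolynomial.totalDegree, hsd]
    rfl
  rw [if_pos hdeg] at this
  exact (MvPolynomial.mem_support_iff.mp hs) this

/-- the translated polynomial -/
noncomputable abbrev Ftr : Polynomial (MvPolynomial (Fin r) K) :=
  Polynomial.eval₂ (Φ (k := k) g N).toRingHom Polynomial.X f

theorem top_coeff (j : ℕ) (hj : j ∈ f.support)
    (hjD : (f.coeff j).totalDegree = Dmax f)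
    (hjmax : ∀ j' ∈ f.support, (f.coeff j').totalDegree = Dmax f → j' ≤ j)
    (hN : f.natDegree < N) :
    (Ftr g N f).natDegree ≤ N * Dmax f + j ∧
    (Ftr g N f).coeff (N * Dmax f + j) =
      MvPolynomial.C (MvPolynomial.aeval g
        (MvPolynomial.homogeneousComponent (Dmax f) (f.coeff j))) := by
  classical
  have hN1 : 1 ≤ N := by omega
  have hF : Ftr g N f = ∑ i ∈ f.support, Φ (k := k) g N (f.coeff i) * Polynomial.X ^ i := by
    rw [Ftr, Polynomial.eval₂_eq_sum, Polynomial.sum_def]
    rfl
  have hjle : ∀ i ∈ f.support, i ≤ f.natDegree := fun i hi => Polynomial.le_natDegree_of_mem_supp i hi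
  constructor
  · rw [hF]
    refine Polynomial.natDegree_sum_le_of_forall_le _ _ fun i hi => ?_
    have h1 := (key (k := k) g N hN1 (f.coeff i) _ le_rfl).1
    refine (Polynomial.natDegree_mul_le_of_le h1 (Polynomial.natDegree_X_pow_le i)).trans ?_
    have hiD := le_Dmax f hi
    rcases hiD.lt_or_eq with hlt | heq
    · have : N * ((f.coeff i).totalDegree + 1) ≤ N * Dmax f := Nat.mul_le_mul_left N hlt
      have hi' := hjle i hi
      rw [Nat.mul_add, mul_one] at this
      omega
    · rw [heq]
      have := hjmax i hi heq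
      omega
  · rw [hF, Polynomial.finsetSum_coeff, Finset.sum_eq_single_of_mem j hj]
    · rw [Polynomial.coeff_mul_X_pow]
      have := (key (k := k) g N hN1 (f.coeff j) (Dmax f) hjD.le).2
      exact this
    · intro i hi hij
      rw [Polynomial.coeff_mul_X_pow']
      split_ifs with hle
      · apply Polynomial.coeff_eq_zero_of_natDegree_lt
        have h1 := (key (k := k) g N hN1 (f.coeff i) _ le_rfl).1
        refine lt_of_le_of_lt h1 ?_
        have hiD := le_Dmax f hi
        have hi' := hjle i hi
        rcases hiD.lt_or_eq with hlt | heq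
        · have : N * ((f.coeff i).totalDegree + 1) ≤ N * Dmax f := Nat.mul_le_mul_left N hlt
          rw [Nat.mul_add, mul_one] at this
          omega
        · rw [heq]
          have := hjmax i hi heq
          have : i < j := lt_of_le_of_ne this hij
          omega
      · rfl

end Groth.Agent.Lib.Helper26.TwistTrans
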