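import Mathlib
import Groth.Agent.Lib.Helper26.TwistTrans

set_option maxHeartbeats 400000

namespace Groth.Agent.Lib.Helper26.TwistTrans2

open Polynomial Groth.Agent.Lib.Helper26.TwistTrans

universe u v

variable {k : Type u} [Field k] {r : ℕ}

/-- the common core: natDegree and leading coefficient of the translate -/
theorem core (m : ℕ) (f : Polynomial (MvPolynomial (Fin r) k)) (hf : f ≠ 0) :
    ∃ h : MvPolynomial (Fin r) k, h ≠ 0 ∧ ∃ (D j : ℕ), j ∈ f.support ∧
      (∀ j' ∈ f.support, (f.coeff j').totalDegree ≤ D) ∧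
      (∀ j' ∈ f.support, (f.coeff j').totalDegree = D → j' ≤ j) ∧
      ∀ s : ℕ, f.natDegree + 1 ≤ s →
      ∀ (K : Type v) [Field K] [Algebra k K] (g : Fin r → K), MvPolynomial.aeval g h ≠ 0 →
        (Ftr g (s * (m + 1)) f).natDegree = s * (m + 1) * D + j ∧
        (Ftr g (s * (m + 1)) f).leadingCoeff = MvPolynomial.C (MvPolynomial.aeval g h) := by
  obtain ⟨j, hj, hjD, hjmax⟩ := exists_top f hf
  have hcj : f.coeff j ≠ 0 := Polynomial.mem_support_iff.mp hj
  refine ⟨MvPolynomial.homogeneousComponent (Dmax f) (f.coeff j), ?_, Dmax f, j, hj,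
    fun j' hj' => le_Dmax f hj', hjmax, ?_⟩
  · rw [← hjD]; exact homogComp_ne_zero _ hcj
  intro s hs K _ _ g hg
  have hN : f.natDegree < s * (m + 1) := by
    have : s ≤ s * (m + 1) := Nat.le_mul_of_pos_right s (by omega)
    omega
  obtain ⟨h1, h2⟩ := top_coeff g (s * (m + 1)) f j hj hjD hjmax hN
  have hne : (Ftr g (s * (m + 1)) f).coeff (s * (m + 1) * Dmax f + j) ≠ 0 := by
    rw [h2, Ne, MvPolynomial.C_eq_zero]; exact hg
  have hnat := Polynomial.natDegree_eq_of_le_of_coeff_ne_zero h1 hne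
  refine ⟨hnat, ?_⟩
  rw [Polynomial.leadingCoeff, hnat, h2]

theorem main15078 (r m : ℕ)
    (f : Polynomial (MvPolynomial (Fin r) k)) (hf : f ≠ 0) :
    ∃ h : MvPolynomial (Fin r) k, h ≠ 0 ∧ ∃ s₀ : ℕ, ∀ s : ℕ, s₀ ≤ s →
      ∀ (K : Type v) [Field K] [Algebra k K] (g : Fin r → K), MvPolynomial.aeval g h ≠ 0 →
        ∃ c : K, c ≠ 0 ∧
          (Polynomial.eval₂ (MvPolynomial.aeval (fun i : Fin r => Polynomial.C (MvPolynomial.X i) + Polynomial.C (MvPolynomial.C (g i)) * Polynomial.X ^ (s * (m + 1))) : MvPolynomial (Fin r) k →ₐ[k] Polynomial (MvPolynomial (Fin r) K)).toRingHom Polynomial.X f).leadingCoeff = MvPolynomial.C c := by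
  obtain ⟨h, hh, D, j, -, -, -, hmain⟩ := core.{u, v} m f hf
  refine ⟨h, hh, f.natDegree + 1, fun s hs K _ _ g hg => ?_⟩
  exact ⟨MvPolynomial.aeval g h, hg, (hmain s hs K g hg).2⟩

theorem main15079 (r m : ℕ)
    (f : Polynomial (MvPolynomial (Fin r) k)) (hirr : Irreducible f) (h0 : IsUnit (f.coeff 0)) :
    ∃ h : MvPolynomial (Fin r) k, h ≠ 0 ∧ ∃ s₀ : ℕ, ∀ s : ℕ, s₀ ≤ s →
      ∀ (K : Type v) [Field K] [Algebra k K] (g : Fin r → K), MvPolynomial.aeval g h ≠ 0 →
        ∀ F : Polynomial (MvPolynomial (Fin r) K),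
          F = Polynomial.eval₂ (MvPolynomial.aeval (fun i : Fin r => Polynomial.C (MvPolynomial.X i) + Polynomial.C (MvPolynomial.C (g i)) * Polynomial.X ^ (s * (m + 1))) : MvPolynomial (Fin r) k →ₐ[k] Polynomial (MvPolynomial (Fin r) K)).toRingHom Polynomial.X f →
          Module.Finite (MvPolynomial (Fin r) K) (Polynomial (MvPolynomial (Fin r) K) ⧸ Ideal.span {F}) ∧
          Function.Injective ((Ideal.Quotient.mk (Ideal.span {F})).comp (algebraMap (MvPolynomial (Fin r) K) (Polynomial (MvPolynomial (Fin r) K)))) := by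
  have hf : f ≠ 0 := hirr.ne_zero
  obtain ⟨h, hh, D, j, hj, hD, hjmax, hmain⟩ := core.{u, v} m f hf
  -- natDegree f ≥ 1
  have hfdeg : 1 ≤ f.natDegree := by
    by_contra hlt
    have h0' : f.natDegree = 0 := by omega
    have hC : f = Polynomial.C (f.coeff 0) := Polynomial.eq_C_of_natDegree_eq_zero h0'
    apply hirr.not_isUnit
    rw [hC]
    exact Polynomial.isUnit_C.mpr h0
  refine ⟨h, hh, f.natDegree + 1, fun s hs K _ _ g hg F hF => ?_⟩
  obtain ⟨hnat, hlc⟩ := hmain s hs K g hg
  set c := MvPolynomial.aeval g h with hc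
  have hFF : F = Ftr g (s * (m + 1)) f := hF
  rw [← hFF] at hnat hlc
  -- degree of F is positive
  have hFdeg : 1 ≤ F.natDegree := by
    rw [hnat]
    rcases Nat.eq_zero_or_pos D with hD0 | hDpos
    · -- all coefficients constant: j is the top index
      have hmem : f.natDegree ∈ f.support := Polynomial.natDegree_mem_support_of_nonzero hf
      have := hjmax _ hmem (by
        have := hD _ hmem
        omega)
      omega
    · have : 1 ≤ s * (m + 1) * D := by
        have hs1 : 1 ≤ s := by omega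
        have : 1 ≤ s * (m + 1) := Nat.mul_pos hs1 (by omega)
        exact Nat.mul_pos this hDpos
      omega
  -- monic associate
  set F₁ := Polynomial.C (MvPolynomial.C c⁻¹) * F with hF₁
  have hmonic : F₁.Monic := by
    apply Polynomial.monic_C_mul_of_mul_leadingCoeff_eq_one
    rw [hlc, ← MvPolynomial.C_mul, inv_mul_cancel₀ hg, MvPolynomial.C_1]
  have hunit : IsUnit (Polynomial.C (MvPolynomial.C c⁻¹) : Polynomial (MvPolynomial (Fin r) K)) := by
    apply Polynomial.isUnit_C.mpr
    exact (isUnit_iff_ne_zero.mpr (inv_ne_zero hg)).map MvPolynomial.C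
  have hassoc : Associated F F₁ := by
    obtain ⟨u, hu⟩ := hunit
    exact ⟨u, by rw [hu, hF₁, mul_comm]⟩
  have hspan : Ideal.span {F} = Ideal.span {F₁} :=
    Ideal.span_singleton_eq_span_singleton.mpr hassoc
  have hdeg₁ : F₁.natDegree = F.natDegree := by
    rw [hF₁]
    exact Polynomial.natDegree_C_mul (by
      rw [Ne, MvPolynomial.C_eq_zero]; exact inv_ne_zero hg)
  constructor
  · rw [hspan]
    exact hmonic.finite_quotient
  · rw [injective_iff_map_eq_zero]
    intro a ha
    rw [RingHom.comp_apply, Ideal.Quotient.eq_zero_iff_mem, hspan, Ideal.mem_span_singleton,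
      Polynomial.algebraMap_apply, Algebra.algebraMap_self, RingHom.id_apply] at ha
    by_contra hne
    have hCne : (Polynomial.C a : Polynomial (MvPolynomial (Fin r) K)) ≠ 0 := by
      rwa [Ne, Polynomial.C_eq_zero]
    refine hmonic.not_dvd_of_natDegree_lt hCne ?_ ha
    rw [Polynomial.natDegree_C, hdeg₁]
    omega

end Groth.Agent.Lib.Helper26.TwistTrans2
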