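import Mathlib

set_option maxHeartbeats 400000
set_option autoImplicit false

namespace Groth.Agent.Lib.Helper26.TwoLineMat

open MvPolynomial

universe u

theorem part2 (k : Type u) [Field k] (α β γ : k) (hα : α ≠ 0) : ∃ g h : GL (Fin 2) k,
      (MvPolynomial.C : k →+* MvPolynomial (Fin 3) k).mapMatrix g.val *
          !![MvPolynomial.X 1, 0;
             MvPolynomial.C α * MvPolynomial.X 0 + MvPolynomial.C β * MvPolynomial.X 1 + MvPolynomial.C γ * MvPolynomial.X 2,
             MvPolynomial.X 2] *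
        (MvPolynomial.C : k →+* MvPolynomial (Fin 3) k).mapMatrix h.val =
      !![MvPolynomial.X 1, 0; MvPolynomial.X 0, MvPolynomial.X 2] := by
  have hC : (C α⁻¹ : MvPolynomial (Fin 3) k) * C α = 1 := by rw [← C_mul, inv_mul_cancel₀ hα, C_1]
  have hdg : (!![1, 0; -β/α, 1/α] : Matrix (Fin 2) (Fin 2) k).det ≠ 0 := by
    rw [Matrix.det_fin_two_of]; simp [hα]
  have hdh : (!![1, 0; -γ, α] : Matrix (Fin 2) (Fin 2) k).det ≠ 0 := by
    rw [Matrix.det_fin_two_of]; simp [hα]
  refine ⟨Matrix.GeneralLinearGroup.mkOfDetNeZero _ hdg,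
    Matrix.GeneralLinearGroup.mkOfDetNeZero _ hdh, ?_⟩
  show ((MvPolynomial.C : k →+* MvPolynomial (Fin 3) k).mapMatrix !![1, 0; -β/α, 1/α]) *
          !![MvPolynomial.X 1, 0;
             MvPolynomial.C α * MvPolynomial.X 0 + MvPolynomial.C β * MvPolynomial.X 1 + MvPolynomial.C γ * MvPolynomial.X 2,
             MvPolynomial.X 2] *
        (MvPolynomial.C : k →+* MvPolynomial (Fin 3) k).mapMatrix !![1, 0; -γ, α] =
      !![MvPolynomial.X 1, 0; MvPolynomial.X 0, MvPolynomial.X 2]
  refine Matrix.ext fun i j => ?_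
  fin_cases i <;> fin_cases j
  · simp [Matrix.mul_apply, Fin.sum_univ_two]
  · simp [Matrix.mul_apply, Fin.sum_univ_two]
  · simp [Matrix.mul_apply, Fin.sum_univ_two, div_eq_mul_inv]
    linear_combination (X 0) * hC
  · simp [Matrix.mul_apply, Fin.sum_univ_two]
    linear_combination (X 2) * hC

theorem part1 (k : Type u) [Field k] : ¬ ∃ g h : GL (Fin 2) k,
      (MvPolynomial.C : k →+* MvPolynomial (Fin 3) k).mapMatrix g.val *
          !![MvPolynomial.X 1, 0; MvPolynomial.X 0, MvPolynomial.X 2] *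
        (MvPolynomial.C : k →+* MvPolynomial (Fin 3) k).mapMatrix h.val =
      !![MvPolynomial.X 2, 0; MvPolynomial.X 0, MvPolynomial.X 1] := by
  rintro ⟨g, h, hgh⟩
  -- evaluate at (1,0,0) and (0,0,1)
  have e1 := congrArg (fun M => (MvPolynomial.eval (![1, 0, 0] : Fin 3 → k)).mapMatrix M) hgh
  have e2 := congrArg (fun M => (MvPolynomial.eval (![0, 0, 1] : Fin 3 → k)).mapMatrix M) hgh
  simp only [map_mul] at e1 e2
  have hg : ∀ (v : Fin 3 → k), (MvPolynomial.eval v).mapMatrix
      ((MvPolynomial.C : k →+* MvPolynomial (Fin 3) k).mapMatrix g.val) = g.val := by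
    intro v; ext i j; simp
  have hh : ∀ (v : Fin 3 → k), (MvPolynomial.eval v).mapMatrix
      ((MvPolynomial.C : k →+* MvPolynomial (Fin 3) k).mapMatrix h.val) = h.val := by
    intro v; ext i j; simp
  rw [hg, hh] at e1 e2
  have a1 := congrFun (congrFun e1 0) 0
  have a2 := congrFun (congrFun e1 1) 0
  have a3 := congrFun (congrFun e2 0) 0
  simp [Matrix.mul_apply, Fin.sum_univ_two] at a1 a2 a3
  rcases a1 with h0 | h0
  · rw [h0, zero_mul] at a3; exact zero_ne_one a3
  · rw [h0, mul_zero] at a2; exact zero_ne_one a2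

end Groth.Agent.Lib.Helper26.TwoLineMat
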