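import Mathlib

set_option autoImplicit false
set_option maxHeartbeats 400000
universe u
open AlgebraicGeometry CategoryTheory Opposite TopologicalSpace IsLocalRing

namespace Groth.Agent.Lib.Helper26.ValFactor

variable {X Y : Scheme.{u}}

lemma exists_factor (T : CommRingCat.{u}) [IsLocalRing T] (m : Spec T ⟶ X) (U : X.Opens)
    (hU : IsAffineOpen U) (h : m.base (closedPoint T) ∈ U) :
    ∃ μ : Γ(X, U) ⟶ T, Spec.map μ ≫ hU.fromSpec = m := by
  have hrange : Set.range m.base ⊆ Set.range hU.fromSpec.base := by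
    rw [hU.range_fromSpec]
    rintro _ ⟨p, rfl⟩
    have hsp : p ⤳ closedPoint T := IsLocalRing.specializes_closedPoint p
    exact (hsp.map m.continuous).mem_open U.isOpen h
  refine ⟨Spec.preimage (IsOpenImmersion.lift hU.fromSpec m hrange), ?_⟩
  rw [Spec.map_preimage, IsOpenImmersion.lift_fac]

lemma factor_unique (T : CommRingCat.{u}) (U : X.Opens)
    (hU : IsAffineOpen U) (μ μ' : Γ(X, U) ⟶ T)
    (h : Spec.map μ ≫ hU.fromSpec = Spec.map μ' ≫ hU.fromSpec) : μ = μ' := by
  rw [cancel_mono] at h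
  exact Spec.map_injective h

theorem main (f : Y ⟶ X)
    (K : Type u) [Field K] (R : ValuationSubring K)
    (i : Spec (CommRingCat.of K) ⟶ Y) (φ : Spec (CommRingCat.of ↥R) ⟶ X)
    (w : Spec.map (CommRingCat.ofHom R.subtype) ≫ φ = i ≫ f)
    (y : Y) (g : Y.residueField y ⟶ CommRingCat.of K) (hg : Spec.map g ≫ Y.fromSpecResidueField y = i)
    (ρ : ↥(R.comap g.hom) →+* ↥R)
    (hρ : ∀ x : ↥(R.comap g.hom), ((ρ x : ↥R) : K) = g.hom (x : ↑(Y.residueField y))) :
    ∃! φ' : Spec (CommRingCat.of ↥(R.comap g.hom)) ⟶ X,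
      Spec.map (CommRingCat.ofHom ρ) ≫ φ' = φ ∧
      Spec.map (CommRingCat.ofHom (R.comap g.hom).subtype) ≫ φ' = Y.fromSpecResidueField y ≫ f := by
  -- injectivity and locality of ρ
  have hρinj : Function.Injective ρ := by
    intro a b hab
    have h1 : g.hom (a : Y.residueField y) = g.hom (b : Y.residueField y) := by
      rw [← hρ, ← hρ, hab]
    exact Subtype.ext (g.hom.injective h1)
  have hρloc : IsLocalHom ρ := by
    constructor
    intro a ha
    have ha0 : (a : Y.residueField y) ≠ 0 := by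
      intro h0
      have : ρ a = 0 := by
        apply Subtype.ext
        rw [hρ, h0, map_zero]; rfl
      rw [this] at ha
      exact not_isUnit_zero ha
    obtain ⟨u, hu⟩ := ha
    have hinv : (a : Y.residueField y)⁻¹ ∈ R.comap g.hom := by
      change g.hom ((a : Y.residueField y)⁻¹) ∈ R
      rw [map_inv₀, ← hρ, ← hu]
      have h2 : ((u : ↥R) : K)⁻¹ = ((u⁻¹ : (↥R)ˣ) : ↥R) := by
        apply inv_eq_of_mul_eq_one_right
        have h3 : (u : ↥R) * ((u⁻¹ : (↥R)ˣ) : ↥R) = 1 := u.mul_inv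
        exact congrArg (Subtype.val) h3
      rw [h2]
      exact Subtype.property _
    refine isUnit_iff_exists_inv.mpr ⟨⟨_, hinv⟩, ?_⟩
    apply Subtype.ext
    change (a : Y.residueField y) * (a : Y.residueField y)⁻¹ = 1
    exact mul_inv_cancel₀ ha0
  -- affine open around the image of the closed point
  obtain ⟨U, hU, hx₀, -⟩ := AlgebraicGeometry.exists_isAffineOpen_mem_and_subset (X := X)
    (x := φ.base (closedPoint ↥R)) (U := ⊤) trivial
  obtain ⟨α, hα⟩ := exists_factor (CommRingCat.of ↥R) φ U hU hx₀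
  have hφrange : ∀ p, φ.base p ∈ U := by
    intro p
    have : (Spec.map α ≫ hU.fromSpec).base p ∈ Set.range hU.fromSpec.base :=
      ⟨(Spec.map α).base p, rfl⟩
    rw [hα, hU.range_fromSpec] at this
    exact this
  let m₁ := Y.fromSpecResidueField y ≫ f
  have hm₁ : m₁.base (closedPoint (Y.residueField y)) ∈ U := by
    let q : ↥(Spec (CommRingCat.of K)) := closedPoint K
    have h1 : (Spec.map (CommRingCat.ofHom R.subtype) ≫ φ) q = (i ≫ f) q := by rw [w]
    rw [Scheme.Hom.comp_apply, Scheme.Hom.comp_apply] at h1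
    have h2 : i q = y := by
      rw [← hg, Scheme.Hom.comp_apply, Scheme.fromSpecResidueField_apply]
    rw [h2] at h1
    let q' : ↥(Spec (Y.residueField y)) := closedPoint (Y.residueField y)
    have h3 : m₁ q' = f y := by
      change (Y.fromSpecResidueField y ≫ f) q' = _
      rw [Scheme.Hom.comp_apply, Scheme.fromSpecResidueField_apply]
    change m₁ q' ∈ U
    rw [h3, ← h1]
    exact hφrange _
  obtain ⟨β, hβ⟩ := exists_factor (Y.residueField y) m₁ U hU hm₁
  have hcomp : β ≫ g = α ≫ CommRingCat.ofHom R.subtype := by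
    apply factor_unique _ U hU
    rw [Spec.map_comp, Category.assoc, hβ, Spec.map_comp, Category.assoc, hα, w, ← hg, Category.assoc]
  have hcomp' : ∀ t, g.hom (β.hom t) = ((α.hom t : ↥R) : K) := fun t =>
    congrArg (fun m => m.hom t) hcomp
  have hmem : ∀ t, β.hom t ∈ R.comap g.hom := by
    intro t
    change g.hom (β.hom t) ∈ R
    rw [hcomp']
    exact (α.hom t).2
  let β' : Γ(X, U) ⟶ CommRingCat.of ↥(R.comap g.hom) :=
    CommRingCat.ofHom (RingHom.codRestrict β.hom _ hmem)
  have hβ'ρ : β' ≫ CommRingCat.ofHom ρ = α := by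
    ext t
    change ((ρ (β'.hom t) : ↥R) : K) = ((α.hom t : ↥R) : K)
    rw [hρ]
    exact hcomp' t
  have hβ'incl : β' ≫ CommRingCat.ofHom (R.comap g.hom).subtype = β := by
    ext t
    rfl
  refine ⟨Spec.map β' ≫ hU.fromSpec, ⟨?_, ?_⟩, ?_⟩
  · rw [← Category.assoc, ← Spec.map_comp, hβ'ρ, hα]
  · rw [← Category.assoc, ← Spec.map_comp, hβ'incl, hβ]
  · rintro φ'' ⟨h1, h2⟩
    have hcl : φ''.base (closedPoint ↥(R.comap g.hom)) ∈ U := by
      have hpt : (Spec.map (CommRingCat.ofHom ρ)).base (closedPoint ↥R) =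
          closedPoint ↥(R.comap g.hom) := IsLocalRing.comap_closedPoint ρ
      let q : ↥(Spec (CommRingCat.of ↥R)) := closedPoint ↥R
      have h3 : (Spec.map (CommRingCat.ofHom ρ) ≫ φ'') q = φ q := by rw [h1]
      rw [Scheme.Hom.comp_apply] at h3
      change φ'' ((Spec.map (CommRingCat.ofHom ρ)).base (closedPoint ↥R)) = _ at h3
      rw [hpt] at h3
      change φ'' (closedPoint ↥(R.comap g.hom)) ∈ U
      rw [h3]
      exact hx₀
    obtain ⟨β'', hβ''⟩ := exists_factor (CommRingCat.of _) φ'' U hU hcl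
    have h4 : β'' = β' := by
      have h3 : β'' ≫ CommRingCat.ofHom ρ = β' ≫ CommRingCat.ofHom ρ := by
        rw [hβ'ρ]
        apply factor_unique _ U hU
        rw [Spec.map_comp, Category.assoc, hβ'', h1, hα]
      ext t
      apply Subtype.ext_iff.mp
      apply hρinj
      exact congrArg (fun m => m.hom t) h3
    rw [← hβ'', h4]

end Groth.Agent.Lib.Helper26.ValFactor
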