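import Groth.Prelude.Def_Versch
import Groth.Agent.Lib.Helper26.FrobSpan

/-!
The Verschiebung comorphism is bijective iff the `p`-th powers span the dual Hopf algebra.
-/

set_option autoImplicit false
universe u v

namespace Groth.Agent.Lib.Helper26.VerschBij

open TensorProduct

section

variable (p : ℕ) [Fact p.Prime] (k : Type u) [Field k] [CharP k p]
    (A : Type v) [CommRing A] [HopfAlgebra k A]

variable {ι : Type} [Fintype ι] [DecidableEq ι] (b : Module.Basis ι k A)

/-- coordinate forms as elements of the dual -/
noncomputable def xc (i : ι) : CartDual.D k A := WithConv.toConv (b.coord i)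

/-- coordinates of an element of the twist through the pairing -/
noncomputable def Z (z : FrobAlg.BaseChange p k A) (i : ι) : FrobAlg.Twist p k :=
  Versch.evTw p k A (xc k A b i) z

lemma Z_add (z z' : FrobAlg.BaseChange p k A) : Z p k A b (z + z') = Z p k A b z + Z p k A b z' := by
  funext i
  simp [Z]

lemma Z_zero : Z p k A b 0 = 0 := by
  funext i
  simp [Z]

lemma Z_tmul (a : A) (s : FrobAlg.Twist p k) (i : ι) :
    Z p k A b (a ⊗ₜ s) i = algebraMap k (FrobAlg.Twist p k) (b.coord i a) * s := by
  simp [Z, xc, CartDual.coe_apply]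

lemma expand (z : FrobAlg.BaseChange p k A) : z = ∑ i, b i ⊗ₜ[k] Z p k A b z i := by
  induction z using TensorProduct.induction_on with
  | zero => simp [Z_zero]
  | add z z' hz hz' =>
    conv_lhs => rw [hz, hz']
    rw [Z_add, ← Finset.sum_add_distrib]
    refine Finset.sum_congr rfl fun i _ => ?_
    rw [Pi.add_apply, TensorProduct.tmul_add]
  | tmul a s =>
    conv_lhs => rw [← b.sum_repr a, TensorProduct.sum_tmul]
    refine Finset.sum_congr rfl fun i _ => ?_
    rw [Z_tmul, TensorProduct.smul_tmul, Algebra.smul_def]
    rfl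

lemma Z_sum (s : ι → FrobAlg.Twist p k) : Z p k A b (∑ i, b i ⊗ₜ[k] s i) = s := by
  have hZ : ∀ (t : Finset ι), Z p k A b (∑ i ∈ t, b i ⊗ₜ[k] s i)
      = ∑ i ∈ t, Z p k A b (b i ⊗ₜ[k] s i) := by
    intro t
    induction t using Finset.induction_on with
    | empty => simp [Z_zero]
    | insert c t hc ih => rw [Finset.sum_insert hc, Finset.sum_insert hc, Z_add, ih]
  rw [hZ]
  funext j
  rw [Finset.sum_apply, Finset.sum_eq_single j]
  · rw [Z_tmul, Module.Basis.coord_apply, Module.Basis.repr_self, Finsupp.single_eq_same, map_one,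
      one_mul]
  · intro i _ hij
    rw [Z_tmul, Module.Basis.coord_apply, Module.Basis.repr_self, Finsupp.single_eq_of_ne (Ne.symm hij),
      map_zero, zero_mul]
  · intro h
    exact absurd (Finset.mem_univ j) h

lemma Z_bijective : Function.Bijective (Z p k A b) := by
  constructor
  · intro z z' h
    rw [expand p k A b z, expand p k A b z', h]
  · intro s
    exact ⟨_, Z_sum p k A b s⟩

end

section

variable (p : ℕ) [Fact p.Prime] (k : Type u) [Field k] [CharP k p]
    (A : Type v) [CommRing A] [HopfAlgebra k A] [Coalgebra.IsCocomm k A] [FiniteDimensional k A]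

variable {ι : Type} [Fintype ι] [DecidableEq ι] (b : Module.Basis ι k A)

/-- the linear map `a ↦ ((x_i ^ p) a)_i` -/
noncomputable def Ψ : A →ₗ[k] (ι → k) := LinearMap.pi fun i => ((xc k A b i) ^ p).ofConv

lemma Ψ_apply (a : A) (i : ι) : Ψ p k A b a i = ((xc k A b i) ^ p) a := rfl

theorem bijective_iff_Ψ (v : A →+* FrobAlg.BaseChange p k A)
    (hv : Versch.IsVerschiebung p k A v) :
    Function.Bijective v ↔ Function.Bijective (Ψ p k A b) := by
  rw [Versch.isVerschiebung_iff] at hv
  have hcomp : (Z p k A b) ∘ v = (fun c : ι → k => fun i => FrobAlg.toTwist p k (c i)) ∘ Ψ p k A b := by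
    funext a i
    show Versch.evTw p k A (xc k A b i) (v a) = _
    rw [hv a (xc k A b i)]
    rfl
  have h2 : Function.Bijective (fun c : ι → k => fun i => FrobAlg.toTwist p k (c i)) := by
    constructor
    · intro c c' h
      funext i
      exact (FrobAlg.toTwist p k).injective (congrFun h i)
    · intro c
      exact ⟨fun i => (FrobAlg.toTwist p k).symm (c i), by funext i; simp⟩
  rw [← Function.Bijective.of_comp_iff' (Z_bijective p k A b) v, hcomp,
    Function.Bijective.of_comp_iff' h2]

/-- the span of the `p`-th powers of the coordinate forms -/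
noncomputable def cSpan : Submodule k (CartDual.D k A) :=
  Submodule.span k (Set.range fun i => (xc k A b i) ^ p)

lemma sum_smul_xc (y : CartDual.D k A) : y = ∑ i, (y (b i)) • xc k A b i := by
  apply WithConv.ofConv_injective
  rw [WithConv.ofConv_sum]
  conv_lhs => rw [← b.sum_dual_apply_smul_coord y.ofConv]
  rfl

lemma pow_mem_cSpan (y : CartDual.D k A) : y ^ p ∈ cSpan p k A b := by
  conv => arg 2; rw [sum_smul_xc k A b y]
  rw [sum_pow_char]
  refine Submodule.sum_mem _ fun i _ => ?_
  rw [smul_pow]
  exact Submodule.smul_mem _ _ (Submodule.subset_span ⟨i, rfl⟩)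

lemma cSpan_eq_powSpan : cSpan p k A b = FrobSpan.powSpan p k (CartDual.D k A) := by
  apply le_antisymm
  · apply Submodule.span_mono
    rintro _ ⟨i, rfl⟩
    exact ⟨_, rfl⟩
  · apply Submodule.span_le.mpr
    rintro _ ⟨y, rfl⟩
    exact pow_mem_cSpan p k A b y

theorem Ψ_bijective_iff :
    Function.Bijective (Ψ p k A b) ↔ FrobSpan.powSpan p k (CartDual.D k A) = ⊤ := by
  rw [← cSpan_eq_powSpan p k A b]
  constructor
  · intro h
    rw [eq_top_iff]
    intro y _
    let e : A ≃ₗ[k] (ι → k) := LinearEquiv.ofBijective (Ψ p k A b) h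
    let g : (ι → k) →ₗ[k] k := y.ofConv ∘ₗ e.symm.toLinearMap
    have hy : y = ∑ i, (g fun j => if i = j then 1 else 0) • (xc k A b i) ^ p := by
      apply WithConv.ofConv_injective
      apply LinearMap.ext
      intro a
      have h1 : y.ofConv a = g (Ψ p k A b a) := by
        show y.ofConv a = y.ofConv (e.symm (e a))
        rw [e.symm_apply_apply]
      rw [h1, LinearMap.pi_apply_eq_sum_univ g, WithConv.ofConv_sum, LinearMap.sum_apply]
      refine Finset.sum_congr rfl fun i _ => ?_
      rw [WithConv.ofConv_smul, LinearMap.smul_apply, smul_eq_mul, smul_eq_mul, mul_comm]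
      rfl
    rw [hy]
    exact Submodule.sum_mem _ fun i _ => Submodule.smul_mem _ _ (Submodule.subset_span ⟨i, rfl⟩)
  · intro h
    have hinj : Function.Injective (Ψ p k A b) := by
      rw [← LinearMap.ker_eq_bot, LinearMap.ker_eq_bot']
      intro a ha
      have h0 : ∀ y ∈ cSpan p k A b, y a = 0 := by
        intro y hy
        unfold cSpan at hy
        induction hy using Submodule.span_induction with
        | mem x hx =>
          obtain ⟨i, rfl⟩ := hx
          exact congrFun ha i
        | zero => rfl
        | add x y _ _ hx hy =>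
          show (x + y).ofConv a = 0
          rw [WithConv.ofConv_add, LinearMap.add_apply]
          exact (congrArg₂ (· + ·) hx hy).trans (add_zero 0)
        | smul c x _ hx =>
          show (c • x).ofConv a = 0
          rw [WithConv.ofConv_smul, LinearMap.smul_apply]
          exact (congrArg (c • ·) hx).trans (smul_zero c)
      apply b.ext_elem
      intro i
      rw [map_zero, Finsupp.zero_apply]
      exact h0 (xc k A b i) (h ▸ Submodule.mem_top)
    exact ⟨hinj, (LinearMap.injective_iff_surjective_of_finrank_eq_finrank (by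
      rw [Module.finrank_eq_card_basis b, Module.finrank_pi])).mp hinj⟩

end

end Groth.Agent.Lib.Helper26.VerschBij
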