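import Groth.Prelude.Def_Versch
import Groth.Prelude.Def_SGA3b
import Mathlib.RingTheory.Finiteness.Projective
import Mathlib.RingTheory.Bialgebra.Convolution
import Mathlib.Algebra.CharP.Lemmas

/-!
`V ∘ F = [p]` for the Verschiebung of a finite locally free commutative group scheme.
-/

set_option autoImplicit false
universe u v

namespace Groth.Agent.Lib.Helper26.VerschFrob

open TensorProduct

section Frame

variable (R : Type u) [CommRing R] (A : Type v) [AddCommGroup A] [Module R A]
  [Module.Finite R A] [Module.Projective R A]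

theorem exists_frame : ∃ (n : ℕ) (e : Fin n → A) (x : Fin n → Module.Dual R A),
    ∀ a : A, a = ∑ i, x i a • e i := by
  obtain ⟨n, f, g, -, -, hfg⟩ := Module.Finite.exists_comp_eq_id_of_projective R A
  refine ⟨n, fun i => f (Pi.single i 1), fun i => LinearMap.proj i ∘ₗ g, fun a => ?_⟩
  have h1 : a = f (g a) := by
    rw [← LinearMap.comp_apply, hfg, LinearMap.id_apply]
  conv_lhs => rw [h1, LinearMap.pi_apply_eq_sum_univ f (g a)]
  refine Finset.sum_congr rfl fun i _ => ?_
  show (g a) i • (f fun j => if i = j then 1 else 0) = (g a) i • f (Pi.single i 1)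
  congr 2
  funext j
  simp [Pi.single_apply, eq_comm]

end Frame

section Expand

variable (p : ℕ) [Fact p.Prime] (R : Type u) [CommRing R] [CharP R p]
  (A : Type v) [CommRing A] [HopfAlgebra R A]
variable {n : ℕ} (e : Fin n → A) (x : Fin n → Module.Dual R A)

include x in
lemma expand (hex : ∀ a : A, a = ∑ i, x i a • e i) (z : FrobAlg.BaseChange p R A) :
    z = ∑ i, e i ⊗ₜ[R] Versch.evTw p R A (WithConv.toConv (x i)) z := by
  induction z using TensorProduct.induction_on with
  | zero => simp
  | add z z' hz hz' =>
    conv_lhs => rw [hz, hz']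
    rw [← Finset.sum_add_distrib]
    refine Finset.sum_congr rfl fun i _ => ?_
    rw [map_add, TensorProduct.tmul_add]
  | tmul a s =>
    conv_lhs => rw [hex a, TensorProduct.sum_tmul]
    refine Finset.sum_congr rfl fun i _ => ?_
    rw [Versch.evTw_tmul, TensorProduct.smul_tmul, Algebra.smul_def]

lemma relFrob_tmul [CharP A p] (a : A) (t : FrobAlg.Twist p R) :
    FrobAlg.relFrob p R A (a ⊗ₜ t) = a ^ p * algebraMap R A ((FrobAlg.toTwist p R).symm t) := by
  simp [FrobAlg.relFrob, FrobAlg.frobHom, FrobAlg.inclHom, Algebra.TensorProduct.lift_tmul]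
  rfl

end Expand

section Conv

variable (R : Type u) [CommRing R] (A : Type v) [CommRing A] [Bialgebra R A]

/-- the rank one map `a ↦ x a • e` in the convolution ring -/
noncomputable def rk (x : CartDual.D R A) (e : A) : WithConv (A →ₗ[R] A) :=
  WithConv.toConv ((LinearMap.toSpanSingleton R A e) ∘ₗ x.ofConv)

variable {R A}

lemma rk_apply (x : CartDual.D R A) (e a : A) : (rk R A x e).ofConv a = x a • e := rfl

lemma rk_mul (x y : CartDual.D R A) (e f : A) :
    rk R A x e * rk R A y f = rk R A (x * y) (e * f) := by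
  apply WithConv.ofConv_injective
  apply LinearMap.ext
  intro a
  show LinearMap.mul' R A (TensorProduct.map (rk R A x e).ofConv (rk R A y f).ofConv
    (Coalgebra.comul a)) = (LinearMap.mul' R R (TensorProduct.map x.ofConv y.ofConv
    (Coalgebra.comul a))) • (e * f)
  generalize (Coalgebra.comul a : A ⊗[R] A) = t
  induction t using TensorProduct.induction_on with
  | zero => simp
  | add t t' ht ht' => rw [map_add, map_add, map_add, map_add, ht, ht', add_smul]
  | tmul a b =>
    rw [TensorProduct.map_tmul, TensorProduct.map_tmul, LinearMap.mul'_apply, LinearMap.mul'_apply,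
      rk_apply, rk_apply, smul_mul_smul_comm]

lemma rk_one : rk R A (1 : CartDual.D R A) (1 : A) = 1 := by
  apply WithConv.ofConv_injective
  apply LinearMap.ext
  intro a
  show (1 : CartDual.D R A) a • (1 : A) = algebraMap R A (Coalgebra.counit a)
  rw [Algebra.algebraMap_eq_smul_one]
  rfl

lemma rk_pow (x : CartDual.D R A) (e : A) (n : ℕ) :
    rk R A x e ^ n = rk R A (x ^ n) (e ^ n) := by
  induction n with
  | zero => rw [pow_zero, pow_zero, pow_zero, rk_one]
  | succ n ih => rw [pow_succ, pow_succ, pow_succ, ih, rk_mul]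

end Conv

section Main

variable (p : ℕ) [Fact p.Prime] (R : Type u) [CommRing R] [CharP R p]
  (A : Type u) [CommRing A] [HopfAlgebra R A] [Coalgebra.IsCocomm R A]

lemma algebraMap_conv_injective :
    Function.Injective (algebraMap R (WithConv (A →ₗ[R] A))) := by
  intro r s h
  have h1 : (algebraMap R (WithConv (A →ₗ[R] A)) r) (1 : A)
      = (algebraMap R (WithConv (A →ₗ[R] A)) s) (1 : A) := by rw [h]
  rw [LinearMap.convAlgebraMap_apply, LinearMap.convAlgebraMap_apply] at h1
  have h2 := congrArg (Coalgebra.counit (R := R) (A := A)) h1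
  simpa using h2

instance charP_conv : CharP (WithConv (A →ₗ[R] A)) p :=
  charP_of_injective_algebraMap (algebraMap_conv_injective R A) p

variable {n : ℕ} (e : Fin n → A) (x : Fin n → Module.Dual R A)

include x in
lemma id_eq_sum (hex : ∀ a : A, a = ∑ i, x i a • e i) :
    (WithConv.toConv (LinearMap.id : A →ₗ[R] A)) = ∑ i, rk R A (WithConv.toConv (x i)) (e i) := by
  apply WithConv.ofConv_injective
  apply LinearMap.ext
  intro a
  rw [WithConv.ofConv_sum, LinearMap.sum_apply]
  exact hex a

include x in
theorem powConv_apply (hex : ∀ a : A, a = ∑ i, x i a • e i) (a : A) :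
    SGA3b.powConv R A p a
      = ∑ i, ((WithConv.toConv (x i) : CartDual.D R A) ^ p) a • (e i) ^ p := by
  have h1 : WithConv.toConv (SGA3b.powConv R A p).toLinearMap
      = (WithConv.toConv (LinearMap.id : A →ₗ[R] A)) ^ p :=
    AlgHom.toLinearMap_convPow (WithConv.toConv (AlgHom.id R A)) p
  have h2 : (SGA3b.powConv R A p) a = (WithConv.toConv (SGA3b.powConv R A p).toLinearMap).ofConv a :=
    rfl
  rw [h2, h1, id_eq_sum R A e x hex, sum_pow_char, WithConv.ofConv_sum, LinearMap.sum_apply]
  refine Finset.sum_congr rfl fun i _ => ?_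
  rw [rk_pow, rk_apply]

theorem relFrob_comp_v [Module.Finite R A] [Module.Projective R A] [CharP A p]
    (v : A →+* FrobAlg.BaseChange p R A) (hv : Versch.IsVerschiebung p R A v) :
    (FrobAlg.relFrob p R A).comp v = (SGA3b.powConv R A p).toRingHom := by
  obtain ⟨n, e, x, hex⟩ := exists_frame R A
  rw [Versch.isVerschiebung_iff] at hv
  ext a
  show FrobAlg.relFrob p R A (v a) = SGA3b.powConv R A p a
  rw [expand p R A e x hex (v a), map_sum, powConv_apply p R A e x hex a]
  refine Finset.sum_congr rfl fun i _ => ?_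
  rw [hv a, relFrob_tmul, RingEquiv.symm_apply_apply, mul_comm, ← Algebra.smul_def]

end Main

end Groth.Agent.Lib.Helper26.VerschFrob
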