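import Groth.Agent.Lib.Helper26.VerschFrob
import Groth.Agent.Lib.Helper26.PowConvBC

/-!
`F ∘ V = [p]` on the Frobenius twist.
-/

set_option autoImplicit false
universe u

namespace Groth.Agent.Lib.Helper26.VerschFrob2

open TensorProduct

variable (p : ℕ) [Fact p.Prime] (R : Type u) [CommRing R] [CharP R p]
  (A : Type u) [CommRing A] [HopfAlgebra R A] [Coalgebra.IsCocomm R A]

lemma pow_apply_one (x : CartDual.D R A) (n : ℕ) : (x ^ n) (1 : A) = (x (1 : A)) ^ n := by
  induction n with
  | zero =>
    rw [pow_zero, pow_zero]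
    show algebraMap R R (Coalgebra.counit (1 : A)) = 1
    rw [Bialgebra.counit_one, map_one]
  | succ n ih =>
    rw [pow_succ, pow_succ, ← ih]
    show LinearMap.mul' R R (TensorProduct.map (x ^ n).ofConv x.ofConv (Coalgebra.comul (1 : A))) = _
    rw [Bialgebra.comul_one]
    rfl

variable [Module.Finite R A] [Module.Projective R A]
  (v : A →+* FrobAlg.BaseChange p R A) (hv : Versch.IsVerschiebung p R A v)

include hv in
lemma v_algebraMap (r : R) :
    v (algebraMap R A r) = (1 : A) ⊗ₜ[R] FrobAlg.toTwist p R r := by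
  rw [Versch.isVerschiebung_iff] at hv
  apply Versch.evTw_injective p R A
  intro x
  rw [hv, Versch.evTw_tmul', Algebra.algebraMap_eq_smul_one, CartDual.coe_apply, map_smul,
    ← CartDual.coe_apply, pow_apply_one, smul_eq_mul, map_mul, mul_comm]

lemma sum_pow_of_cast_eq_zero {S : Type*} [CommRing S] (hS : (p : S) = 0) {ι : Type*}
    (t : Finset ι) (f : ι → S) : (∑ i ∈ t, f i) ^ p = ∑ i ∈ t, f i ^ p := by
  rcases subsingleton_or_nontrivial S with h | h
  · exact Subsingleton.elim _ _
  · haveI : CharP S p := (CharP.charP_iff_prime_eq_zero (Fact.out : p.Prime)).mpr hS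
    exact sum_pow_char p t f

include hv in
lemma v_pow [CharP A p] (a : A) :
    (v a) ^ p = (SGA3b.powConv R A p a) ⊗ₜ[R] (1 : FrobAlg.Twist p R) := by
  obtain ⟨n, e, x, hex⟩ := VerschFrob.exists_frame R A
  have hv' := (Versch.isVerschiebung_iff p R A v).mp hv
  have hS : ((p : ℕ) : FrobAlg.BaseChange p R A) = 0 := by
    have h1 : ((p : ℕ) : FrobAlg.BaseChange p R A)
        = algebraMap R (FrobAlg.BaseChange p R A) ((p : ℕ) : R) := by
      rw [map_natCast]
    rw [h1, CharP.cast_eq_zero, map_zero]
  rw [VerschFrob.expand p R A e x hex (v a), sum_pow_of_cast_eq_zero p hS,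
    VerschFrob.powConv_apply p R A e x hex a, TensorProduct.sum_tmul]
  refine Finset.sum_congr rfl fun i _ => ?_
  rw [hv' a, Algebra.TensorProduct.tmul_pow, ← map_pow, ← FrobAlg.algebraMap_twist,
    Algebra.algebraMap_eq_smul_one, TensorProduct.tmul_smul, TensorProduct.smul_tmul']

include hv in
theorem v_comp_relFrob [CharP A p] :
    ((Algebra.TensorProduct.comm R A (FrobAlg.Twist p R)).toRingEquiv.toRingHom.comp
        ((v.comp (FrobAlg.relFrob p R A)).comp
          (Algebra.TensorProduct.comm R A (FrobAlg.Twist p R)).symm.toRingEquiv.toRingHom)) =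
      (SGA3b.powConv (FrobAlg.Twist p R) (FrobAlg.Twist p R ⊗[R] A) p).toRingHom := by
  apply RingHom.ext
  intro z
  induction z using TensorProduct.induction_on with
  | zero => rw [map_zero, map_zero]
  | add z z' hz hz' => rw [map_add, map_add, hz, hz']
  | tmul s a =>
    show (Algebra.TensorProduct.comm R A (FrobAlg.Twist p R))
        (v (FrobAlg.relFrob p R A
          ((Algebra.TensorProduct.comm R A (FrobAlg.Twist p R)).symm (s ⊗ₜ[R] a))))
      = SGA3b.powConv (FrobAlg.Twist p R) (FrobAlg.Twist p R ⊗[R] A) p (s ⊗ₜ[R] a)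
    rw [PowConvBC.powConv_baseChange, Algebra.TensorProduct.comm_symm_tmul,
      VerschFrob.relFrob_tmul, map_mul, map_pow, v_pow p R A v hv, v_algebraMap p R A v hv,
      RingEquiv.apply_symm_apply, Algebra.TensorProduct.tmul_mul_tmul, mul_one, one_mul,
      Algebra.TensorProduct.comm_tmul]

end Groth.Agent.Lib.Helper26.VerschFrob2
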