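import Mathlib
import Groth.Agent.Lib.Helper26.W2Flat

namespace Groth.Agent.Lib.Helper26.W2Flat

universe u v

variable (p : ℕ) [hp : Fact p.Prime] (k : Type u) [Field k] [CharP k p] [PerfectRing k p]

theorem quot_flat_iff (B : Type v) [CommRing B] [Algebra (FrobAlg.W2 p k) B]
    [Module.Flat (FrobAlg.W2 p k) B] (J : Ideal B) :
    Module.Flat (FrobAlg.W2 p k) (B ⧸ J) ↔
      Ideal.span {(p : B)} ⊓ J = Ideal.span {(p : B)} * J := by
  have hsm : ∀ b : B, (p : FrobAlg.W2 p k) • b = (p : B) * b := by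
    intro b
    rw [Algebra.smul_def, map_natCast]
  have hpp : (p : B) * (p : B) = 0 := by
    have := congrArg (algebraMap (FrobAlg.W2 p k) B) (p_mul_p p k)
    simpa using this
  have hB := (w2_flat_iff p k B).mp inferInstance
  have hq : ∀ (c : FrobAlg.W2 p k) (b : B),
      c • (Ideal.Quotient.mk J b) = Ideal.Quotient.mk J (c • b) := fun c b =>
    (map_smul (Ideal.Quotient.mkₐ (FrobAlg.W2 p k) J) c b).symm
  rw [w2_flat_iff]
  constructor
  · intro H
    apply le_antisymm
    · rintro x ⟨hx1, hx2⟩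
      obtain ⟨b, rfl⟩ := Ideal.mem_span_singleton'.mp hx1
      have h0 : (p : FrobAlg.W2 p k) • (Ideal.Quotient.mk J b) = 0 := by
        rw [hq, hsm, mul_comm]
        exact Ideal.Quotient.eq_zero_iff_mem.mpr hx2
      obtain ⟨m', hm'⟩ := H _ h0
      obtain ⟨b', rfl⟩ := Ideal.Quotient.mk_surjective m'
      rw [hq, Ideal.Quotient.eq, hsm] at hm'
      -- b - p b' ∈ J
      have : b * (p : B) = (p : B) * (b - (p : B) * b') := by
        rw [mul_sub, ← mul_assoc, hpp, zero_mul, sub_zero, mul_comm]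
      rw [this]
      exact Ideal.mul_mem_mul (Ideal.mem_span_singleton_self _) hm'
    · exact Ideal.mul_le_inf
  · intro H m hm
    obtain ⟨b, rfl⟩ := Ideal.Quotient.mk_surjective m
    rw [hq, Ideal.Quotient.eq_zero_iff_mem, hsm] at hm
    have h1 : (p : B) * b ∈ Ideal.span {(p : B)} ⊓ J :=
      ⟨Ideal.mul_mem_right _ _ (Ideal.mem_span_singleton_self _), hm⟩
    rw [H, Ideal.mem_span_singleton_mul] at h1
    obtain ⟨j, hj, hjb⟩ := h1
    have h2 : (p : FrobAlg.W2 p k) • (b - j) = 0 := by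
      rw [hsm, mul_sub, hjb, sub_self]
    obtain ⟨b', hb'⟩ := hB _ h2
    refine ⟨Ideal.Quotient.mk J b', ?_⟩
    rw [hq, Ideal.Quotient.eq, ← hb', sub_sub_cancel]
    exact hj

end Groth.Agent.Lib.Helper26.W2Flat
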