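import Mathlib

/-!
# Alternating edge labellings along walks in a simple graph
-/

namespace Groth.Agent.Lib.Helper26.WalkLab

set_option maxHeartbeats 400000

universe u v

variable {V : Type u} [DecidableEq V] (G : SimpleGraph V) {A : Type v} [AddCommGroup A]

/-- alternating labelling `b, -b, b, …` along the edges of a walk -/
noncomputable def walkLab (b : A) : {u w : V} → G.Walk u w → (Sym2 V → A)
  | _, _, SimpleGraph.Walk.nil => 0
  | u, _, @SimpleGraph.Walk.cons _ _ _ v _ _ p =>
      fun e => (if e = s(u, v) then b else 0) - walkLab b p e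

lemma walkLab_nil (b : A) (u : V) : walkLab G b (SimpleGraph.Walk.nil : G.Walk u u) = 0 := rfl

lemma walkLab_cons (b : A) {u v w : V} (h : G.Adj u v) (p : G.Walk v w) (e : Sym2 V) :
    walkLab G b (SimpleGraph.Walk.cons h p) e = (if e = s(u, v) then b else 0) - walkLab G b p e :=
  rfl

lemma walkLab_support (b : A) {u w : V} (p : G.Walk u w) (e : Sym2 V) (he : e ∉ p.edges) :
    walkLab G b p e = 0 := by
  induction p with
  | nil => rfl
  | cons h p ih =>
    rw [SimpleGraph.Walk.edges_cons, List.mem_cons, not_or] at he
    rw [walkLab_cons, if_neg he.1, ih he.2, sub_zero]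

lemma walkLab_add (b b' : A) {u w : V} (p : G.Walk u w) :
    walkLab G (b + b') p = walkLab G b p + walkLab G b' p := by
  induction p with
  | nil => simp [walkLab_nil]
  | cons h p ih =>
    funext e
    rw [Pi.add_apply, walkLab_cons, walkLab_cons, walkLab_cons, ih, Pi.add_apply]
    split_ifs <;> abel

lemma walkLab_zero {u w : V} (p : G.Walk u w) : walkLab G (0 : A) p = 0 := by
  induction p with
  | nil => rfl
  | cons h p ih =>
    funext e
    rw [walkLab_cons, ih]
    simp

variable [Fintype V] [DecidableRel G.Adj]

/-- vertex sums of the alternating labelling -/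
lemma walkLab_sum (b : A) {u w : V} (p : G.Walk u w) (z : V) :
    ∑ e ∈ G.incidenceFinset z, walkLab G b p e =
      (if z = u then b else 0) - ((-1 : ℤ) ^ p.length) • (if z = w then b else 0) := by
  induction p with
  | nil => simp [walkLab_nil]
  | @cons u v w h p ih =>
    simp only [walkLab_cons, Finset.sum_sub_distrib, ih, SimpleGraph.Walk.length_cons]
    have h1 : ∑ e ∈ G.incidenceFinset z, (if e = s(u, v) then b else 0) =
        (if z = u then b else 0) + (if z = v then b else 0) := by
      rw [Finset.sum_ite_eq']
      have hmem : s(u, v) ∈ G.incidenceFinset z ↔ (z = u ∨ z = v) := by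
        rw [SimpleGraph.mem_incidenceFinset, SimpleGraph.incidenceSet]
        constructor
        · rintro ⟨_, hz⟩
          exact Sym2.mem_iff.1 hz
        · intro hz
          exact ⟨h, Sym2.mem_iff.2 hz⟩
      have hne : u ≠ v := h.ne
      by_cases hzu : z = u
      · have hzv : z ≠ v := fun e => hne (hzu ▸ e)
        rw [if_pos (hmem.2 (Or.inl hzu)), if_pos hzu, if_neg hzv, add_zero]
      · by_cases hzv : z = v
        · rw [if_pos (hmem.2 (Or.inr hzv)), if_neg hzu, if_pos hzv, zero_add]
        · rw [if_neg (fun hh => (hmem.1 hh).elim hzu hzv), if_neg hzu, if_neg hzv, add_zero]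
    rw [h1, pow_succ, mul_neg_one, neg_smul]
    abel

omit [Fintype V] [DecidableRel G.Adj] in
/-- parity of walks in a bipartite graph -/
lemma walk_parity (c : V → Bool) (hbip : ∀ v w : V, G.Adj v w → c v ≠ c w) {u w : V}
    (p : G.Walk u w) : (-1 : ℤ) ^ p.length = if c u = c w then 1 else -1 := by
  induction p with
  | nil => simp
  | @cons u v w h p ih =>
    rw [SimpleGraph.Walk.length_cons, pow_succ, ih]
    have huv := hbip u v h
    by_cases h1 : c v = c w
    · have h2 : c u ≠ c w := fun e => huv (e.trans h1.symm)
      rw [if_pos h1, if_neg h2]; norm_num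
    · have h2 : c u = c w := by
        cases hu : c u <;> cases hv : c v <;> cases hw : c w <;> simp_all
      rw [if_neg h1, if_pos h2]; norm_num

end Groth.Agent.Lib.Helper26.WalkLab
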