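import Mathlib
import Groth.Agent.Lib.Helper26.WalkLab

namespace Groth.Agent.Lib.Helper26.WalkLabMain

set_option maxHeartbeats 400000

universe u v

open Groth.Agent.Lib.Helper26.WalkLab

theorem main13409 {V : Type u} [Fintype V] [DecidableEq V]
    (G : SimpleGraph V) [DecidableRel G.Adj] (hconn : G.Connected) (c : V → Bool)
    (hbip : ∀ v w : V, G.Adj v w → c v ≠ c w) (A : Type v) [AddCommGroup A] (a : V → A)
    (hsum : ∑ v ∈ Finset.univ.filter (fun v => c v = true), a v =
      ∑ v ∈ Finset.univ.filter (fun v => c v = false), a v) :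
    ∃ x : Sym2 V → A, ∀ v : V, ∑ e ∈ G.incidenceFinset v, x e = a v := by
  obtain ⟨r⟩ := hconn.nonempty
  let p : ∀ v, G.Walk v r := fun v => (hconn.preconnected v r).some
  refine ⟨∑ v ∈ Finset.univ.erase r, walkLab G (a v) (p v), fun z => ?_⟩
  have h1 : ∑ e ∈ G.incidenceFinset z, (∑ v ∈ Finset.univ.erase r, walkLab G (a v) (p v)) e
      = ∑ v ∈ Finset.univ.erase r, ∑ e ∈ G.incidenceFinset z, walkLab G (a v) (p v) e := by
    simp only [Finset.sum_apply]
    exact Finset.sum_comm
  rw [h1]
  simp only [walkLab_sum, walk_parity G c hbip]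
  rw [Finset.sum_sub_distrib]
  have key : ∑ v, (if c v = true then a v else -a v) = 0 := by
    rw [Finset.sum_ite, Finset.sum_neg_distrib]
    have : Finset.univ.filter (fun v => ¬ c v = true) =
        Finset.univ.filter (fun v => c v = false) := by
      ext v; simp
    rw [this, hsum]
    abel
  have hf : ∑ v, (if c v = c r then (1 : ℤ) else -1) • a v = 0 := by
    cases hr : c r
    · have : ∀ v, (if c v = false then (1 : ℤ) else -1) • a v =
          -(if c v = true then a v else -a v) := by
        intro v
        cases hv : c v <;> simp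
      simp only [this, Finset.sum_neg_distrib, key, neg_zero]
    · have : ∀ v, (if c v = true then (1 : ℤ) else -1) • a v =
          (if c v = true then a v else -a v) := by
        intro v
        cases hv : c v <;> simp
      simp only [this, key]
  have hsplit : (if c r = c r then (1 : ℤ) else -1) • a r +
      ∑ v ∈ Finset.univ.erase r, (if c v = c r then (1 : ℤ) else -1) • a v = 0 := by
    rw [Finset.add_sum_erase Finset.univ (fun v => (if c v = c r then (1 : ℤ) else -1) • a v)
      (Finset.mem_univ r)]
    exact hf
  rw [if_pos rfl, one_smul] at hsplit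
  by_cases hz : z = r
  · subst hz
    have e1 : ∑ v ∈ Finset.univ.erase z, (if z = v then a v else 0) = 0 := by
      apply Finset.sum_eq_zero
      intro v hv
      rw [if_neg (fun h => (Finset.mem_erase.1 hv).1 h.symm)]
    have e2 : ∑ v ∈ Finset.univ.erase z,
        (if c v = c z then (1 : ℤ) else -1) • (if z = z then a v else 0) =
        ∑ v ∈ Finset.univ.erase z, (if c v = c z then (1 : ℤ) else -1) • a v := by
      apply Finset.sum_congr rfl
      intro v _
      rw [if_pos rfl]
    rw [e1, e2]
    have : ∑ v ∈ Finset.univ.erase z, (if c v = c z then (1 : ℤ) else -1) • a v = -a z := by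
      rw [eq_neg_iff_add_eq_zero, add_comm]; exact hsplit
    rw [this]; abel
  · have e1 : ∑ v ∈ Finset.univ.erase r, (if z = v then a v else 0) = a z := by
      rw [Finset.sum_ite_eq, if_pos (Finset.mem_erase.2 ⟨hz, Finset.mem_univ z⟩)]
    have e2 : ∑ v ∈ Finset.univ.erase r,
        (if c v = c r then (1 : ℤ) else -1) • (if z = r then a v else 0) = 0 := by
      apply Finset.sum_eq_zero
      intro v _
      rw [if_neg hz, smul_zero]
    rw [e1, e2, sub_zero]

theorem main13410 {V : Type u} [Fintype V]
    [DecidableEq V] (G : SimpleGraph V) [DecidableRel G.Adj] (c : V → Bool)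
    (hbip : ∀ v w : V, G.Adj v w → c v ≠ c w) (A : Type v) [AddCommGroup A] (e₀ : Sym2 V)
    (he₀ : e₀ ∈ G.edgeSet) (hdel : (G.deleteEdges {e₀}).Connected) :
    ∃ φ : A →+ (Sym2 V → A),
      (∀ a : A, (∀ e : Sym2 V, e ∉ G.edgeSet → φ a e = 0) ∧
        ∀ v : V, ∑ e ∈ G.incidenceFinset v, φ a e = 0) ∧
      ∀ a : A, φ a e₀ = a := by
  classical
  induction e₀ using Sym2.ind with
  | h u w =>
  have huw : G.Adj u w := he₀
  -- a walk from u to w in the graph with the edge deleted
  let H := G.deleteEdges {s(u, w)}
  obtain ⟨q⟩ : Nonempty (H.Walk u w) := hdel.preconnected u w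
  have hle : H ≤ G := SimpleGraph.deleteEdges_le _
  let p : G.Walk u w := q.mapLe hle
  have hp_edges : s(u, w) ∉ p.edges := by
    intro hmem
    have : s(u, w) ∈ q.edges := by
      simpa [p, SimpleGraph.Walk.edges_mapLe_eq_edges] using hmem
    have h2 := SimpleGraph.Walk.edges_subset_edgeSet q this
    rw [SimpleGraph.edgeSet_deleteEdges] at h2
    exact h2.2 rfl
  have hpar : (-1 : ℤ) ^ p.length = -1 := by
    rw [walk_parity G c hbip p, if_neg (hbip u w huw)]
  refine ⟨{ toFun := fun a => fun e => (if e = s(u, w) then a else 0) - walkLab G a p e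
            map_zero' := by funext e; simp [walkLab_zero]
            map_add' := fun a b => by
              funext e
              simp only [walkLab_add, Pi.add_apply]
              split_ifs <;> abel }, ?_, ?_⟩
  · intro a
    refine ⟨fun e he => ?_, fun v => ?_⟩
    · show (if e = s(u, w) then a else 0) - walkLab G a p e = 0
      have h1 : e ≠ s(u, w) := fun h => he (h ▸ he₀)
      have h2 : e ∉ p.edges := fun h => he (SimpleGraph.Walk.edges_subset_edgeSet p h)
      rw [if_neg h1, walkLab_support G a p e h2, sub_zero]
    · show ∑ e ∈ G.incidenceFinset v, ((if e = s(u, w) then a else 0) - walkLab G a p e) = 0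
      rw [Finset.sum_sub_distrib, walkLab_sum, hpar, Finset.sum_ite_eq']
      have hmem : s(u, w) ∈ G.incidenceFinset v ↔ (v = u ∨ v = w) := by
        rw [SimpleGraph.mem_incidenceFinset, SimpleGraph.incidenceSet]
        constructor
        · rintro ⟨_, hz⟩
          exact Sym2.mem_iff.1 hz
        · intro hz
          exact ⟨huw, Sym2.mem_iff.2 hz⟩
      have hne : u ≠ w := huw.ne
      by_cases hvu : v = u
      · have hvw : v ≠ w := fun e => hne (hvu ▸ e)
        rw [if_pos (hmem.2 (Or.inl hvu)), if_pos hvu, if_neg hvw]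
        simp
      · by_cases hvw : v = w
        · rw [if_pos (hmem.2 (Or.inr hvw)), if_neg hvu, if_pos hvw]
          simp
        · rw [if_neg (fun hh => (hmem.1 hh).elim hvu hvw), if_neg hvu, if_neg hvw]
          simp
  · intro a
    show (if s(u, w) = s(u, w) then a else 0) - walkLab G a p s(u, w) = a
    rw [if_pos rfl, walkLab_support G a p _ hp_edges, sub_zero]

end Groth.Agent.Lib.Helper26.WalkLabMain
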