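import Mathlib
set_option maxHeartbeats 400000
universe u
namespace Groth.Agent.Lib.Helper26.WallChamber

variable {I : Type u} [Fintype I]

/-- pairing -/
def ev (c : I → ℕ) (θ : I → ℝ) : ℝ := ∑ i, θ i * (c i : ℝ)

lemma ev_comb (c : I → ℕ) (θ₁ θ₂ : I → ℝ) (a b : ℝ) :
    ev c (a • θ₁ + b • θ₂) = a * ev c θ₁ + b * ev c θ₂ := by
  unfold ev
  rw [Finset.mul_sum, Finset.mul_sum, ← Finset.sum_add_distrib]
  refine Finset.sum_congr rfl (fun i _ => ?_)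
  simp only [Pi.add_apply, Pi.smul_apply, smul_eq_mul]
  ring

lemma continuous_ev (c : I → ℕ) : Continuous (ev c) := by
  unfold ev
  fun_prop

lemma ev_smul (m : ℕ) (c : I → ℕ) (θ : I → ℝ) : ev (m • c) θ = m * ev c θ := by
  unfold ev
  rw [Finset.mul_sum]
  refine Finset.sum_congr rfl (fun i _ => ?_)
  simp only [Pi.smul_apply, smul_eq_mul, Nat.cast_mul]
  ring

theorem main (d : I → ℕ) (θ₁ θ₂ : I → ℝ)
    (h₁ : ∑ i, θ₁ i * (d i : ℝ) = 0) (h₂ : ∑ i, θ₂ i * (d i : ℝ) = 0) :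
    (∀ d' : I → ℕ, d' ≤ d →
        SignType.sign (∑ i, θ₁ i * (d' i : ℝ)) = SignType.sign (∑ i, θ₂ i * (d' i : ℝ))) ↔
    ∃ J₁ : Set (I → ℕ), J₁ ⊆ {d' | d' ≤ d ∧ ¬ ∃ m : ℕ, d = m • d'} ∧
      θ₂ ∈ connectedComponentIn
        {θ : I → ℝ | ∑ i, θ i * (d i : ℝ) = 0 ∧ (∀ d₁ ∈ J₁, ∑ i, θ i * (d₁ i : ℝ) = 0) ∧
          ∀ d₂ : I → ℕ, d₂ ≤ d → (¬ ∃ m : ℕ, d = m • d₂) → d₂ ∉ J₁ →
            ∑ i, θ i * (d₂ i : ℝ) ≠ 0} θ₁ := by
  change (∀ d' : I → ℕ, d' ≤ d → SignType.sign (ev d' θ₁) = SignType.sign (ev d' θ₂)) ↔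
    ∃ J₁ : Set (I → ℕ), J₁ ⊆ {d' | d' ≤ d ∧ ¬ ∃ m : ℕ, d = m • d'} ∧
      θ₂ ∈ connectedComponentIn
        {θ : I → ℝ | ev d θ = 0 ∧ (∀ d₁ ∈ J₁, ev d₁ θ = 0) ∧
          ∀ d₂ : I → ℕ, d₂ ≤ d → (¬ ∃ m : ℕ, d = m • d₂) → d₂ ∉ J₁ → ev d₂ θ ≠ 0} θ₁
  have h₁' : ev d θ₁ = 0 := h₁
  have h₂' : ev d θ₂ = 0 := h₂
  constructor
  · intro hs
    refine ⟨{d' | d' ≤ d ∧ (¬ ∃ m : ℕ, d = m • d') ∧ ev d' θ₁ = 0}, fun d' hd' => ⟨hd'.1, hd'.2.1⟩, ?_⟩
    have hseg : segment ℝ θ₁ θ₂ ⊆ {θ : I → ℝ | ev d θ = 0 ∧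
        (∀ d₁ ∈ {d' | d' ≤ d ∧ (¬ ∃ m : ℕ, d = m • d') ∧ ev d' θ₁ = 0}, ev d₁ θ = 0) ∧
          ∀ d₂ : I → ℕ, d₂ ≤ d → (¬ ∃ m : ℕ, d = m • d₂) →
            d₂ ∉ {d' | d' ≤ d ∧ (¬ ∃ m : ℕ, d = m • d') ∧ ev d' θ₁ = 0} → ev d₂ θ ≠ 0} := by
      rintro θ ⟨a, b, ha, hb, hab, rfl⟩
      refine ⟨?_, ?_, ?_⟩
      · rw [ev_comb, h₁', h₂']; ring
      · intro d₁ hd₁
        have h0 : ev d₁ θ₁ = 0 := hd₁.2.2
        have h0' : ev d₁ θ₂ = 0 := by
          have := hs d₁ hd₁.1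
          rw [h0, sign_zero] at this
          exact sign_eq_zero_iff.mp this.symm
        rw [ev_comb, h0, h0']; ring
      · intro d₂ hd₂ hwall hnot
        have hne : ev d₂ θ₁ ≠ 0 := fun h => hnot ⟨hd₂, hwall, h⟩
        have hsgn := hs d₂ hd₂
        rw [ev_comb]
        rcases lt_or_gt_of_ne hne with hneg | hpos
        · have h2 : ev d₂ θ₂ < 0 := by
            rw [sign_neg hneg] at hsgn
            exact sign_eq_neg_one_iff.mp hsgn.symm
          have := convex_Iio (0 : ℝ) (Set.mem_Iio.mpr hneg) (Set.mem_Iio.mpr h2) ha hb hab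
          simp only [smul_eq_mul, Set.mem_Iio] at this
          exact ne_of_lt this
        · have h2 : 0 < ev d₂ θ₂ := by
            rw [sign_pos hpos] at hsgn
            exact sign_eq_one_iff.mp hsgn.symm
          have := convex_Ioi (0 : ℝ) (Set.mem_Ioi.mpr hpos) (Set.mem_Ioi.mpr h2) ha hb hab
          simp only [smul_eq_mul, Set.mem_Ioi] at this
          exact ne_of_gt this
    exact (convex_segment θ₁ θ₂).isPreconnected.subset_connectedComponentIn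
      (left_mem_segment ℝ θ₁ θ₂) hseg (right_mem_segment ℝ θ₁ θ₂)
  · rintro ⟨J₁, hJ₁, hmem⟩ d' hd'
    set S := {θ : I → ℝ | ev d θ = 0 ∧ (∀ d₁ ∈ J₁, ev d₁ θ = 0) ∧
          ∀ d₂ : I → ℕ, d₂ ≤ d → (¬ ∃ m : ℕ, d = m • d₂) → d₂ ∉ J₁ → ev d₂ θ ≠ 0} with hS
    have hθ₁S : θ₁ ∈ S := by
      by_contra hnot
      rw [connectedComponentIn_eq_empty hnot] at hmem
      exact hmem
    have hθ₂S : θ₂ ∈ S := connectedComponentIn_subset S θ₁ hmem
    by_cases hwall : ∃ m : ℕ, d = m • d'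
    · obtain ⟨m, hm⟩ := hwall
      have hz : ∀ θ : I → ℝ, ev d θ = 0 → ev d' θ = 0 := by
        intro θ hθ
        rcases Nat.eq_zero_or_pos m with rfl | hmpos
        · have hd0 : d = 0 := by rw [hm, zero_smul]
          have hd'0 : d' = 0 := by
            funext i
            have := hd' i
            rw [hd0] at this
            exact Nat.le_zero.mp this
          rw [hd'0]; simp [ev]
        · rw [hm, ev_smul] at hθ
          rcases mul_eq_zero.mp hθ with h | h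
          · exact absurd h (by exact_mod_cast hmpos.ne')
          · exact h
      rw [hz θ₁ h₁', hz θ₂ h₂']
    · by_cases hJ : d' ∈ J₁
      · rw [hθ₁S.2.1 d' hJ, hθ₂S.2.1 d' hJ]
      · have hne : ∀ θ ∈ connectedComponentIn S θ₁, ev d' θ ≠ 0 :=
          fun θ hθ => (connectedComponentIn_subset S θ₁ hθ).2.2 d' hd' hwall hJ
        have hpre : IsPreconnected (connectedComponentIn S θ₁) := isPreconnected_connectedComponentIn
        have hθ₁C : θ₁ ∈ connectedComponentIn S θ₁ := mem_connectedComponentIn hθ₁S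
        have hcont : ContinuousOn (ev d') (connectedComponentIn S θ₁) := (continuous_ev d').continuousOn
        rcases lt_or_gt_of_ne (hne θ₁ hθ₁C) with hneg | hpos
        · rcases lt_or_gt_of_ne (hne θ₂ hmem) with hneg2 | hpos2
          · rw [sign_neg hneg, sign_neg hneg2]
          · exfalso
            have := hpre.intermediate_value hθ₁C hmem hcont
            obtain ⟨θ, hθ, hθ0⟩ := this (⟨le_of_lt hneg, le_of_lt hpos2⟩ : (0:ℝ) ∈ Set.Icc _ _)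
            exact hne θ hθ hθ0
        · rcases lt_or_gt_of_ne (hne θ₂ hmem) with hneg2 | hpos2
          · exfalso
            have := hpre.intermediate_value hmem hθ₁C hcont
            obtain ⟨θ, hθ, hθ0⟩ := this (⟨le_of_lt hneg2, le_of_lt hpos⟩ : (0:ℝ) ∈ Set.Icc _ _)
            exact hne θ hθ hθ0
          · rw [sign_pos hpos, sign_pos hpos2]

end Groth.Agent.Lib.Helper26.WallChamber
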