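import Mathlib
set_option maxHeartbeats 400000
universe u v
namespace Groth.Agent.Lib.Helper26.WedgeCrit
open Module

variable {A : Type u} [CommRing A]

lemma subsingleton_extPow (h : ℕ) : Subsingleton (⋀[A]^(h + 1) (Fin h → A)) := by
  classical
  let b := (Pi.basisFun A (Fin h)).exteriorPower (n := h + 1)
  haveI : IsEmpty (Set.powersetCard (Fin h) (h + 1)) := by
    constructor
    rintro ⟨t, ht⟩
    have h1 : t.card ≤ Fintype.card (Fin h) := Finset.card_le_univ t
    rw [Fintype.card_fin] at h1
    rw [Set.powersetCard.mem_iff] at ht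
    omega
  exact b.repr.injective.subsingleton

lemma wedge_zero_of_span {ι : Type v} (h : ℕ) (w : Fin h → (ι → A))
    (v : Fin (h + 1) → ι → A) (hv : ∀ k, v k ∈ Submodule.span A (Set.range w)) :
    exteriorPower.ιMulti A (h + 1) v = 0 := by
  classical
  have hr := Fintype.range_linearCombination A w
  have : ∀ k, ∃ a : Fin h → A, Fintype.linearCombination A w a = v k := by
    intro k
    have := hv k
    rw [← hr] at this
    exact this
  choose a ha using this
  have e : v = (Fintype.linearCombination A w) ∘ a := by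
    funext k; exact (ha k).symm
  rw [e, ← exteriorPower.map_apply_ιMulti]
  haveI := subsingleton_extPow (A := A) h
  rw [Subsingleton.elim (exteriorPower.ιMulti A (h + 1) a) 0, map_zero]

section
variable {ι : Type v} [Fintype ι] [DecidableEq ι] (H : Finset ι) (c : ι → ι → A)

/-- the marked vectors -/
def f (j : ι) : ι → A := Pi.single j (1 : A) - ∑ i ∈ Hᶜ, c j i • Pi.single i (1 : A)

lemma f_apply_mem (j j' : ι) (hj' : j' ∈ H) : f H c j j' = if j' = j then 1 else 0 := by
  unfold f
  rw [Pi.sub_apply, Finset.sum_apply, Finset.sum_eq_zero, sub_zero, Pi.single_apply]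
  intro i hi
  have : j' ≠ i := by
    rintro rfl
    exact (Finset.mem_compl.mp hi) hj'
  simp [Pi.single_eq_of_ne this]

/-- enumeration of `H` -/
noncomputable def σ (k : Fin H.card) : ι := (H.equivFin.symm k : ι)

lemma σ_mem (k : Fin H.card) : σ H k ∈ H := (H.equivFin.symm k).2

lemma σ_injective : Function.Injective (σ H) := by
  intro a b hab
  have : H.equivFin.symm a = H.equivFin.symm b := Subtype.ext hab
  exact H.equivFin.symm.injective this

lemma range_f_σ : Set.range (fun k => f H c (σ H k)) = (f H c) '' ↑H := by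
  ext x
  constructor
  · rintro ⟨k, rfl⟩
    exact ⟨σ H k, σ_mem H k, rfl⟩
  · rintro ⟨j, hj, rfl⟩
    exact ⟨H.equivFin ⟨j, hj⟩, by simp [σ]⟩

lemma coord_zero (M : Submodule A (ι → A)) (hf : ∀ j ∈ H, f H c j ∈ M)
    (hw : ∀ v : Fin (H.card + 1) → ι → A, (∀ k, v k ∈ M) →
          exteriorPower.ιMulti A (H.card + 1) v = 0)
    (w : ι → A) (hwM : w ∈ M) (hwH : ∀ j ∈ H, w j = 0) (i₀ : ι) : w i₀ = 0 := by
  by_cases hi₀ : i₀ ∈ H
  · exact hwH i₀ hi₀
  set u : Fin (H.card + 1) → ι → A := Fin.snoc (α := fun _ => ι → A) (fun k => f H c (σ H k)) w with hu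
  set idx : Fin (H.card + 1) → ι := Fin.snoc (α := fun _ => ι) (σ H) i₀ with hidx
  have huM : ∀ k, u k ∈ M := by
    intro k
    refine Fin.lastCases ?_ (fun k' => ?_) k
    · rw [hu, Fin.snoc_last]; exact hwM
    · rw [hu, Fin.snoc_castSucc]; exact hf _ (σ_mem H k')
  have h0 := hw u huM
  have h1 := congrArg (fun x => exteriorPower.pairingDual A (ι → A) (H.card + 1)
    (exteriorPower.ιMulti A (H.card + 1) (fun b => (LinearMap.proj (idx b) : (ι → A) →ₗ[A] A))) x) h0
  simp only [exteriorPower.pairingDual_ιMulti_ιMulti, map_zero] at h1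
  rw [Matrix.det_of_upperTriangular] at h1
  · rw [Fin.prod_univ_castSucc] at h1
    simp only [Matrix.of_apply, LinearMap.proj_apply] at h1
    rw [hu, hidx] at h1
    simp only [Fin.snoc_castSucc, Fin.snoc_last] at h1
    rw [Finset.prod_eq_one, one_mul] at h1
    · exact h1
    · intro a _
      rw [f_apply_mem H c _ _ (σ_mem H a), if_pos rfl]
  · intro a b hba
    simp only [id] at hba
    simp only [Matrix.of_apply, LinearMap.proj_apply]
    revert hba
    refine Fin.lastCases ?_ (fun a' => ?_) a
    · refine Fin.lastCases ?_ (fun b' => ?_) b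
      · intro h; exact absurd h (lt_irrefl _)
      · intro _
        rw [hu, hidx, Fin.snoc_last, Fin.snoc_castSucc]
        exact hwH _ (σ_mem H b')
    · refine Fin.lastCases ?_ (fun b' => ?_) b
      · intro h
        exact absurd h (not_lt.mpr (Fin.le_last _))
      · intro h
        rw [hu, hidx, Fin.snoc_castSucc, Fin.snoc_castSucc, f_apply_mem H c _ _ (σ_mem H b')]
        rw [if_neg]
        intro hσ
        have := σ_injective H hσ
        rw [this] at h
        exact lt_irrefl _ h

theorem main (M : Submodule A (ι → A))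
    (hf : ∀ j ∈ H, (Pi.single j (1 : A) - ∑ i ∈ Hᶜ, c j i • Pi.single i (1 : A)) ∈ M) :
    M = Submodule.span A ((fun j => Pi.single j (1 : A) - ∑ i ∈ Hᶜ, c j i • Pi.single i (1 : A)) '' ↑H)
      ↔ ∀ v : Fin (H.card + 1) → ι → A, (∀ k, v k ∈ M) →
          exteriorPower.ιMulti A (H.card + 1) v = 0 := by
  change M = Submodule.span A ((f H c) '' ↑H) ↔ _
  have hf' : ∀ j ∈ H, f H c j ∈ M := hf
  constructor
  · intro hM v hv
    apply wedge_zero_of_span H.card (fun k => f H c (σ H k))
    intro k
    rw [range_f_σ, ← hM]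
    exact hv k
  · intro hw
    apply le_antisymm
    · intro v hv
      set w : ι → A := v - ∑ j ∈ H, v j • f H c j with hwdef
      have hwM : w ∈ M := M.sub_mem hv (M.sum_mem fun j hj => M.smul_mem _ (hf' j hj))
      have hwH : ∀ j' ∈ H, w j' = 0 := by
        intro j' hj'
        rw [hwdef, Pi.sub_apply, Finset.sum_apply, Finset.sum_eq_single j']
        · rw [Pi.smul_apply, f_apply_mem H c _ _ hj', if_pos rfl, smul_eq_mul, mul_one, sub_self]
        · intro j _ hjj'
          rw [Pi.smul_apply, f_apply_mem H c _ _ hj', if_neg (Ne.symm hjj'), smul_zero]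
        · intro h; exact absurd hj' h
      have hw0 : w = 0 := by
        funext i₀
        exact coord_zero H c M hf' hw w hwM hwH i₀
      have : v = ∑ j ∈ H, v j • f H c j := by
        rw [hwdef, sub_eq_zero] at hw0
        exact hw0
      rw [this]
      exact Submodule.sum_mem _ fun j hj =>
        Submodule.smul_mem _ _ (Submodule.subset_span ⟨j, hj, rfl⟩)
    · rw [Submodule.span_le]
      rintro _ ⟨j, hj, rfl⟩
      exact hf' j hj

end
end Groth.Agent.Lib.Helper26.WedgeCrit
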