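import Mathlib

namespace Groth.Agent.Lib.Helper26.WronskLine

set_option linter.unusedSectionVars false
set_option maxHeartbeats 400000

open Polynomial

variable {k : Type*} [Field k]

/-- the linear system `c + X (X+1) F`, `deg ≤ a+1` -/
noncomputable def V1 (a : ℕ) : Submodule k (Polynomial k) :=
  Submodule.span k {(1 : Polynomial k)} ⊔
    ((Ideal.span {(X : Polynomial k) * (X + 1)}).restrictScalars k ⊓ Polynomial.degreeLE k ↑(a + 1))

lemma V1_char {a : ℕ} {g : Polynomial k} (hg : g ∈ V1 (k := k) a) :
    g.degree ≤ ((a + 1 : ℕ) : WithBot ℕ) ∧ g.eval 0 = g.eval (-1) := by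
  rw [V1, Submodule.mem_sup] at hg
  obtain ⟨y, hy, z, hz, rfl⟩ := hg
  rw [Submodule.mem_span_singleton] at hy
  obtain ⟨c, rfl⟩ := hy
  rw [Submodule.mem_inf] at hz
  obtain ⟨hz1, hz2⟩ := hz
  rw [Submodule.restrictScalars_mem, Ideal.mem_span_singleton'] at hz1
  obtain ⟨F, rfl⟩ := hz1
  rw [Polynomial.mem_degreeLE] at hz2
  constructor
  · refine (Polynomial.degree_add_le _ _).trans (max_le ?_ hz2)
    have : (c • (1 : Polynomial k)) = C c := by rw [Polynomial.smul_eq_C_mul, mul_one]
    rw [this]
    exact Polynomial.degree_C_le.trans (by exact_mod_cast Nat.zero_le _)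
  · simp

/-- elements divisible by a monic `D` of degree `e` with total degree `≤ e + r` -/
lemma exists_quot {D : Polynomial k} (hD : D.Monic) {g : Polynomial k} {r : ℕ}
    (hg : g.degree ≤ ((D.natDegree + r : ℕ) : WithBot ℕ))
    (hdiv : g ∈ (Ideal.span {D}).restrictScalars k) :
    ∃ h : Polynomial k, h.degree ≤ (r : WithBot ℕ) ∧ g = D * h := by
  rw [Submodule.restrictScalars_mem, Ideal.mem_span_singleton'] at hdiv
  obtain ⟨h, rfl⟩ := hdiv
  refine ⟨h, ?_, mul_comm _ _⟩
  by_cases h0 : h = 0
  · rw [h0, Polynomial.degree_zero]; exact bot_le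
  · rw [Polynomial.degree_mul, Polynomial.degree_eq_natDegree hD.ne_zero,
      Polynomial.degree_eq_natDegree h0] at hg
    rw [Polynomial.degree_eq_natDegree h0]
    have : h.natDegree + D.natDegree ≤ D.natDegree + r := by exact_mod_cast hg
    have h2 : h.natDegree ≤ r := by omega
    exact_mod_cast h2

theorem S16263_part1 (a : ℕ) (ha : 0 < a) (p : k) :
    Module.finrank k ↥(V1 (k := k) a ⊓ (Ideal.span {(X - C p) ^ a}).restrictScalars k) ≤ 1 := by
  set u : k := (-p) ^ a with hu
  set w : k := (-1 - p) ^ a with hw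
  set v : Polynomial k := (X - C p) ^ a * (C (w - u) * X + C w) with hv
  have hle : V1 (k := k) a ⊓ (Ideal.span {(X - C p) ^ a}).restrictScalars k ≤ Submodule.span k {v} := by
    intro g hg
    rw [Submodule.mem_inf] at hg
    obtain ⟨hg1, hg2⟩ := hg
    obtain ⟨hdeg, hev⟩ := V1_char hg1
    have hD : ((X - C p) ^ a : Polynomial k).Monic := (Polynomial.monic_X_sub_C p).pow a
    have hDdeg : ((X - C p) ^ a : Polynomial k).natDegree = a := by
      rw [Polynomial.natDegree_pow, Polynomial.natDegree_X_sub_C, mul_one]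
    obtain ⟨h, hh, rfl⟩ := exists_quot hD (r := 1) (by rw [hDdeg]; exact hdeg) hg2
    obtain ⟨α, β, rfl⟩ : ∃ α β : k, h = C α * X + C β :=
      ⟨_, _, Polynomial.eq_X_add_C_of_degree_le_one (by exact_mod_cast hh)⟩
    simp only [Polynomial.eval_mul, Polynomial.eval_pow, Polynomial.eval_sub, Polynomial.eval_X,
      Polynomial.eval_C, Polynomial.eval_add, zero_sub, mul_zero, zero_add, mul_neg, mul_one] at hev
    rw [← hu, ← hw] at hev
    -- hev : u * β = w * (-α + β)
    rw [Submodule.mem_span_singleton]
    by_cases hw0 : w = 0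
    · have hp : p = -1 := by
        have : (-1 - p) = 0 := by
          rw [hw] at hw0
          exact pow_eq_zero_iff (ha.ne') |>.mp hw0
        linear_combination -this
      have hu1 : u = 1 := by rw [hu, hp]; simp
      have hβ : β = 0 := by
        rw [hw0, hu1] at hev
        simpa using hev
      refine ⟨-α, ?_⟩
      rw [hv, hw0, hu1, hβ]
      simp only [zero_sub, map_neg, map_one, map_zero, add_zero]
      rw [Polynomial.smul_eq_C_mul]
      simp only [map_neg]
      ring
    · refine ⟨β / w, ?_⟩
      rw [hv, Polynomial.smul_eq_C_mul]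
      have e1 : β / w * (w - u) = α := by
        rw [div_mul_eq_mul_div, div_eq_iff hw0]
        linear_combination (-1 : k) * hev
      have e2 : β / w * w = β := by field_simp
      have : C (β / w) * ((X - C p) ^ a * (C (w - u) * X + C w))
          = (X - C p) ^ a * (C (β / w * (w - u)) * X + C (β / w * w)) := by
        simp only [map_mul]
        ring
      rw [this, e1, e2]
  calc Module.finrank k ↥(V1 (k := k) a ⊓ (Ideal.span {(X - C p) ^ a}).restrictScalars k)
      ≤ Module.finrank k ↥(Submodule.span k {v}) := Submodule.finrank_mono hle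
    _ ≤ 1 := by
      have := finrank_span_le_card (R := k) ({v} : Set (Polynomial k))
      simpa using this

theorem S16263_part2 (a : ℕ) :
    Module.finrank k ↥(V1 (k := k) a ⊓ Polynomial.degreeLT k 2) ≤ 1 := by
  have hle : V1 (k := k) a ⊓ Polynomial.degreeLT k 2 ≤ Submodule.span k {(1 : Polynomial k)} := by
    intro g hg
    rw [Submodule.mem_inf] at hg
    obtain ⟨hg1, hg2⟩ := hg
    obtain ⟨_, hev⟩ := V1_char hg1
    rw [Polynomial.mem_degreeLT] at hg2
    have hdeg : g.degree ≤ 1 := by
      by_cases h0 : g = 0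
      · simp [h0]
      · rw [Polynomial.degree_eq_natDegree h0] at hg2 ⊢
        have : g.natDegree < 2 := by exact_mod_cast hg2
        exact_mod_cast Nat.lt_succ_iff.mp this
    obtain ⟨α, β, rfl⟩ : ∃ α β : k, g = C α * X + C β :=
      ⟨_, _, Polynomial.eq_X_add_C_of_degree_le_one hdeg⟩
    simp only [Polynomial.eval_mul, Polynomial.eval_X, Polynomial.eval_C, Polynomial.eval_add,
      mul_zero, zero_add, mul_neg, mul_one] at hev
    have hα : α = 0 := by linear_combination hev
    rw [Submodule.mem_span_singleton]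
    refine ⟨β, ?_⟩
    rw [hα, Polynomial.smul_eq_C_mul]
    simp
  calc Module.finrank k ↥(V1 (k := k) a ⊓ Polynomial.degreeLT k 2)
      ≤ Module.finrank k ↥(Submodule.span k {(1 : Polynomial k)}) := Submodule.finrank_mono hle
    _ ≤ 1 := by
      have := finrank_span_le_card (R := k) ({(1 : Polynomial k)} : Set (Polynomial k))
      simpa using this

theorem S16263_main (a : ℕ) (ha : 0 < a)
    (V : Submodule k (Polynomial k))
    (hV : V = Submodule.span k {(1 : Polynomial k)} ⊔
      ((Ideal.span {(X : Polynomial k) * (X + 1)}).restrictScalars k ⊓ Polynomial.degreeLE k ↑(a + 1))) :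
    (∀ p : k, Module.finrank k ↥(V ⊓ (Ideal.span {(X - C p) ^ a}).restrictScalars k) ≤ 1) ∧
      Module.finrank k ↥(V ⊓ Polynomial.degreeLT k 2) ≤ 1 := by
  have hV' : V = V1 (k := k) a := hV
  subst hV'
  exact ⟨fun p => S16263_part1 a ha p, S16263_part2 a⟩

end Groth.Agent.Lib.Helper26.WronskLine
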