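import Mathlib
import Groth.Agent.Lib.Helper26.WronskLine

namespace Groth.Agent.Lib.Helper26.WronskLine

set_option linter.unusedSectionVars false
set_option maxHeartbeats 400000

open Polynomial

variable {k : Type*} [Field k]

lemma finrank_span_pair_le (v1 v2 : Polynomial k) :
    Module.finrank k ↥(Submodule.span k ({v1, v2} : Set (Polynomial k))) ≤ 2 := by
  classical
  have := finrank_span_finset_le_card (R := k) ({v1, v2} : Finset (Polynomial k))
  rw [Set.finrank] at this
  have h2 : ({v1, v2} : Finset (Polynomial k)).card ≤ 2 := Finset.card_le_two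
  have e : ((({v1, v2} : Finset (Polynomial k)) : Set (Polynomial k))) = {v1, v2} := by simp
  rw [e] at this
  exact this.trans h2

lemma finiteDimensional_degreeLE (n : ℕ) : Module.Finite k ↥(Polynomial.degreeLE k (n : WithBot ℕ)) := by
  rw [← Polynomial.degreeLT_succ_eq_degreeLE]
  exact Module.Finite.equiv (Polynomial.degreeLTEquiv k (n + 1)).symm

lemma V1_le (a : ℕ) : V1 (k := k) a ≤ Polynomial.degreeLE k ((a + 1 : ℕ) : WithBot ℕ) := by
  intro g hg
  rw [Polynomial.mem_degreeLE]
  exact (V1_char hg).1

/-- lower bound: if `X (X+1) ∣ D`, `D` monic of degree `a - 1`, then the span has dim `≥ 3`. -/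
lemma three_le (a : ℕ) (D E : Polynomial k) (hD : D.Monic) (hdeg : D.natDegree + 2 = a + 1)
    (hE : D = X * (X + 1) * E) :
    3 ≤ Module.finrank k ↥(V1 (k := k) a ⊓ (Ideal.span {D}).restrictScalars k) := by
  set W := V1 (k := k) a ⊓ (Ideal.span {D}).restrictScalars k with hW
  let f : Polynomial k →ₗ[k] Polynomial k := LinearMap.mulLeft k D
  have hf : Function.Injective f := fun x y h => mul_left_cancel₀ hD.ne_zero h
  set T := (Polynomial.degreeLT k 3).map f with hT
  have hTW : T ≤ W := by
    rintro _ ⟨h, hh, rfl⟩
    have hh' : h.degree < 3 := Polynomial.mem_degreeLT.mp hh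
    rw [hW, Submodule.mem_inf]
    constructor
    · rw [V1]
      refine Submodule.mem_sup_right ?_
      rw [Submodule.mem_inf]
      constructor
      · rw [Submodule.restrictScalars_mem, Ideal.mem_span_singleton']
        refine ⟨E * h, ?_⟩
        change _ = D * h
        rw [hE]
        ring
      · rw [Polynomial.mem_degreeLE]
        change (D * h).degree ≤ _
        by_cases h0 : h = 0
        · rw [h0, mul_zero, Polynomial.degree_zero]; exact bot_le
        · rw [Polynomial.degree_mul, Polynomial.degree_eq_natDegree hD.ne_zero,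
            Polynomial.degree_eq_natDegree h0]
          rw [Polynomial.degree_eq_natDegree h0] at hh'
          have : h.natDegree < 3 := by exact_mod_cast hh'
          have h2 : D.natDegree + h.natDegree ≤ a + 1 := by omega
          exact_mod_cast h2
    · rw [Submodule.restrictScalars_mem, Ideal.mem_span_singleton']
      exact ⟨h, mul_comm _ _⟩
  haveI : Module.Finite k ↥(Polynomial.degreeLE k ((a + 1 : ℕ) : WithBot ℕ)) :=
    finiteDimensional_degreeLE (a + 1)
  haveI : Module.Finite k ↥W :=
    Submodule.finiteDimensional_of_le (inf_le_left.trans (V1_le a))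
  have h3 : Module.finrank k ↥T = 3 := by
    rw [hT, ← LinearEquiv.finrank_eq (Submodule.equivMapOfInjective f hf _),
      LinearEquiv.finrank_eq (Polynomial.degreeLTEquiv k 3), Module.finrank_fin_fun]
  rw [← h3]
  exact Submodule.finrank_mono hTW

theorem S16264_main (a i j : ℕ) (hi : 0 < i) (hj : 0 < j) (hij : i + j + 1 = a)
    (V : Submodule k (Polynomial k))
    (hV : V = Submodule.span k {(1 : Polynomial k)} ⊔
      ((Ideal.span {(X : Polynomial k) * (X + 1)}).restrictScalars k ⊓ Polynomial.degreeLE k ↑(a + 1)))
    (p q : k) :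
    3 ≤ Module.finrank k ↥(V ⊓ (Ideal.span {(X - C p) ^ i * (X - C q) ^ j}).restrictScalars k) ↔
      (p = 0 ∧ q = -1) ∨ (p = -1 ∧ q = 0) := by
  have hV' : V = V1 (k := k) a := hV
  subst hV'
  have hD : ((X - C p) ^ i * (X - C q) ^ j : Polynomial k).Monic :=
    ((Polynomial.monic_X_sub_C p).pow i).mul ((Polynomial.monic_X_sub_C q).pow j)
  have hDdeg : ((X - C p) ^ i * (X - C q) ^ j : Polynomial k).natDegree = i + j := by
    rw [Polynomial.natDegree_mul ((Polynomial.monic_X_sub_C p).pow i).ne_zero
      ((Polynomial.monic_X_sub_C q).pow j).ne_zero, Polynomial.natDegree_pow,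
      Polynomial.natDegree_pow, Polynomial.natDegree_X_sub_C, Polynomial.natDegree_X_sub_C,
      mul_one, mul_one]
  obtain ⟨i', rfl⟩ : ∃ i', i = i' + 1 := ⟨i - 1, by omega⟩
  obtain ⟨j', rfl⟩ : ∃ j', j = j' + 1 := ⟨j - 1, by omega⟩
  constructor
  · intro h3
    by_contra hcond
    set u : k := (-p) ^ (i' + 1) * (-q) ^ (j' + 1) with hu
    set w : k := (-1 - p) ^ (i' + 1) * (-1 - q) ^ (j' + 1) with hw
    have huw : u ≠ 0 ∨ w ≠ 0 := by
      by_contra hcon
      rw [not_or, not_not, not_not] at hcon
      obtain ⟨hu0, hw0⟩ := hcon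
      rw [hu, mul_eq_zero, pow_eq_zero_iff (Nat.succ_ne_zero _),
        pow_eq_zero_iff (Nat.succ_ne_zero _), neg_eq_zero, neg_eq_zero] at hu0
      rw [hw, mul_eq_zero, pow_eq_zero_iff (Nat.succ_ne_zero _),
        pow_eq_zero_iff (Nat.succ_ne_zero _)] at hw0
      have h01 : (0 : k) ≠ -1 := by
        intro h
        have : (1 : k) = 0 := by linear_combination h
        exact one_ne_zero this
      rcases hu0 with hp0 | hq0
      · rcases hw0 with hp1 | hq1
        · exact h01 (by rw [← hp0]; linear_combination -hp1)
        · exact hcond (Or.inl ⟨hp0, by linear_combination -hq1⟩)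
      · rcases hw0 with hp1 | hq1
        · exact hcond (Or.inr ⟨by linear_combination -hp1, hq0⟩)
        · exact h01 (by rw [← hq0]; linear_combination -hq1)
    set D : Polynomial k := (X - C p) ^ (i' + 1) * (X - C q) ^ (j' + 1) with hDdef
    -- upper bound
    have hle : ∃ v1 v2 : Polynomial k, V1 (k := k) a ⊓ (Ideal.span {D}).restrictScalars k
        ≤ Submodule.span k ({v1, v2} : Set (Polynomial k)) := by
      by_cases hw0 : w = 0
      · have hu0 : u ≠ 0 := huw.resolve_right (not_not.mpr hw0)
        refine ⟨D * X ^ 2, D * X, ?_⟩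
        intro g hg
        rw [Submodule.mem_inf] at hg
        obtain ⟨hg1, hg2⟩ := hg
        obtain ⟨hdeg, hev⟩ := V1_char hg1
        obtain ⟨h, hh, rfl⟩ := exists_quot hD (r := 2)
          (by rw [hDdeg]; convert hdeg using 2; omega) hg2
        obtain ⟨α, β, γ, rfl⟩ : ∃ α β γ : k, h = C α * X ^ 2 + C β * X + C γ :=
          ⟨_, _, _, Polynomial.eq_quadratic_of_degree_le_two (by exact_mod_cast hh)⟩
        simp only [hDdef, Polynomial.eval_mul, Polynomial.eval_pow, Polynomial.eval_sub,
          Polynomial.eval_X, Polynomial.eval_C, Polynomial.eval_add, zero_sub] at hev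
        rw [← hu, ← hw, hw0] at hev
        have hγ : γ = 0 := by
          have : u * γ = 0 := by
            rw [← hev.trans (zero_mul _)]
            ring
          exact (mul_eq_zero.mp this).resolve_left hu0
        rw [Submodule.mem_span_pair]
        refine ⟨α, β, ?_⟩
        rw [hγ, Polynomial.smul_eq_C_mul, Polynomial.smul_eq_C_mul]
        simp only [map_zero, add_zero]
        ring
      · refine ⟨D * (X ^ 2 + X), D * (C (u / w - 1) * X ^ 2 + 1), ?_⟩
        intro g hg
        rw [Submodule.mem_inf] at hg
        obtain ⟨hg1, hg2⟩ := hg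
        obtain ⟨hdeg, hev⟩ := V1_char hg1
        obtain ⟨h, hh, rfl⟩ := exists_quot hD (r := 2)
          (by rw [hDdeg]; convert hdeg using 2; omega) hg2
        obtain ⟨α, β, γ, rfl⟩ : ∃ α β γ : k, h = C α * X ^ 2 + C β * X + C γ :=
          ⟨_, _, _, Polynomial.eq_quadratic_of_degree_le_two (by exact_mod_cast hh)⟩
        simp only [hDdef, Polynomial.eval_mul, Polynomial.eval_pow, Polynomial.eval_sub,
          Polynomial.eval_X, Polynomial.eval_C, Polynomial.eval_add, zero_sub] at hev
        rw [← hu, ← hw] at hev
        have hα : α = β + γ * (u / w - 1) := by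
          have : w * α = w * (β + γ * (u / w - 1)) := by
            have e : w * (β + γ * (u / w - 1)) = w * β + γ * u - γ * w := by
              field_simp
              ring
            rw [e]
            have hev' : u * γ = w * (α - β + γ) := by
              rw [← sub_eq_zero] at hev ⊢
              rw [← hev]
              ring
            linear_combination -hev'
          exact mul_left_cancel₀ hw0 this
        rw [Submodule.mem_span_pair]
        refine ⟨β, γ, ?_⟩
        rw [hα, Polynomial.smul_eq_C_mul, Polynomial.smul_eq_C_mul]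
        simp only [map_add, map_mul, map_sub, map_one]
        ring
    obtain ⟨v1, v2, hle⟩ := hle
    haveI : Module.Finite k ↥(Submodule.span k ({v1, v2} : Set (Polynomial k))) :=
      Module.Finite.span_of_finite k (Set.toFinite _)
    have := (Submodule.finrank_mono hle).trans (finrank_span_pair_le v1 v2)
    omega
  · rintro (⟨rfl, rfl⟩ | ⟨rfl, rfl⟩)
    · refine three_le a _ (X ^ i' * (X + 1) ^ j') hD (by rw [hDdeg]; omega) ?_
      simp only [map_zero, sub_zero, map_neg, map_one, sub_neg_eq_add]
      ring
    · refine three_le a _ ((X + 1) ^ i' * X ^ j') hD (by rw [hDdeg]; omega) ?_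
      simp only [map_zero, sub_zero, map_neg, map_one, sub_neg_eq_add]
      ring

end Groth.Agent.Lib.Helper26.WronskLine
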