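import Mathlib
import Groth.Agent.Lib.Helper26.WronskLine

namespace Groth.Agent.Lib.Helper26.WronskLine

set_option linter.unusedSectionVars false
set_option maxHeartbeats 400000

open Polynomial

variable {k : Type*} [Field k]

lemma mul_derivative_pow (f : Polynomial k) (n : ℕ) :
    f * derivative (f ^ n) = C (n : k) * f ^ n * derivative f := by
  cases n with
  | zero => simp
  | succ n =>
    rw [Polynomial.derivative_pow_succ, pow_succ]
    simp only [Nat.cast_add, Nat.cast_one, map_add, map_natCast, map_one]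
    ring

/-- the ODE satisfied by `(X+1)^i (X-q)^m` -/
lemma ode (i m : ℕ) (q : k) :
    (X + 1) * (X - C q) * derivative ((X + 1) ^ i * (X - C q) ^ m : Polynomial k)
      = (C (i : k) * (X - C q) + C (m : k) * (X + 1)) * ((X + 1) ^ i * (X - C q) ^ m) := by
  rw [Polynomial.derivative_mul]
  have h1 := mul_derivative_pow (X + 1 : Polynomial k) i
  have h2 := mul_derivative_pow (X - C q : Polynomial k) m
  simp only [Polynomial.derivative_add, Polynomial.derivative_X, Polynomial.derivative_one,
    add_zero, Polynomial.derivative_sub, Polynomial.derivative_C, sub_zero, mul_one] at h1 h2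
  linear_combination (X - C q) ^ (m + 1) * h1 + (X + 1) ^ (i + 1) * h2

lemma coeff_rec [CharZero k] (i m : ℕ) (q : k) (hq : q ≠ 0) (n : ℕ)
    (h0 : ((X + 1) ^ i * (X - C q) ^ m : Polynomial k).coeff n = 0)
    (h1 : ((X + 1) ^ i * (X - C q) ^ m : Polynomial k).coeff (n + 1) = 0) :
    ((X + 1) ^ i * (X - C q) ^ m : Polynomial k).coeff (n + 2) = 0 := by
  set P : Polynomial k := (X + 1) ^ i * (X - C q) ^ m with hP
  have E1 := ode i m q
  rw [← hP] at E1
  have E2 : X * (X * derivative P) + C (1 - q) * (X * derivative P) - C q * derivative P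
      = C ((i : k) + m) * (X * P) + C ((m : k) - i * q) * P := by
    simp only [map_sub, map_add, map_mul, map_one, map_natCast] at E1 ⊢
    linear_combination E1
  have E3 := congrArg (fun f => Polynomial.coeff f (n + 1)) E2
  simp only [Polynomial.coeff_add, Polynomial.coeff_sub, Polynomial.coeff_C_mul,
    Polynomial.coeff_X_mul, Polynomial.coeff_derivative] at E3
  have hX : (X * derivative P).coeff n = P.coeff n * n := by
    cases n with
    | zero => simp
    | succ n =>
      rw [Polynomial.coeff_X_mul, Polynomial.coeff_derivative]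
      push_cast
      ring
  rw [hX, h0, h1] at E3
  have hn : ((n : k) + 1 + 1) ≠ 0 := by
    have : ((n + 2 : ℕ) : k) ≠ 0 := Nat.cast_ne_zero.mpr (by omega)
    push_cast at this
    intro h
    apply this
    linear_combination h
  have : q * (P.coeff (n + 1 + 1) * ((n : k) + 1 + 1)) = 0 := by
    push_cast at E3
    linear_combination -E3
  rcases mul_eq_zero.mp this with h | h
  · exact absurd h hq
  · rcases mul_eq_zero.mp h with h | h
    · exact h
    · exact absurd h hn

lemma coeff_ne [CharZero k] (i m : ℕ) (q : k) (hq : q ≠ 0) (n : ℕ) (hn : n + 1 ≤ i + m) :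
    ((X + 1) ^ i * (X - C q) ^ m : Polynomial k).coeff n ≠ 0 ∨
      ((X + 1) ^ i * (X - C q) ^ m : Polynomial k).coeff (n + 1) ≠ 0 := by
  by_contra hcon
  rw [not_or, not_not, not_not] at hcon
  obtain ⟨h0, h1⟩ := hcon
  have hall : ∀ t : ℕ, ((X + 1) ^ i * (X - C q) ^ m : Polynomial k).coeff (n + t) = 0 ∧
      ((X + 1) ^ i * (X - C q) ^ m : Polynomial k).coeff (n + t + 1) = 0 := by
    intro t
    induction t with
    | zero => exact ⟨h0, h1⟩
    | succ t ih =>
      refine ⟨ih.2, ?_⟩
      exact coeff_rec i m q hq (n + t) ih.1 ih.2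
  have hA : (X + 1 : Polynomial k).Monic := by
    simpa using Polynomial.monic_X_add_C (1 : k)
  have hmonic : ((X + 1) ^ i * (X - C q) ^ m : Polynomial k).Monic :=
    (hA.pow i).mul ((Polynomial.monic_X_sub_C q).pow m)
  have hdeg : ((X + 1) ^ i * (X - C q) ^ m : Polynomial k).natDegree = i + m := by
    have h1' : ((X + 1 : Polynomial k) ^ i).Monic := hA.pow i
    rw [Polynomial.natDegree_mul h1'.ne_zero ((Polynomial.monic_X_sub_C q).pow m).ne_zero,
      Polynomial.natDegree_pow, Polynomial.natDegree_pow, Polynomial.natDegree_X_sub_C]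
    have : (X + 1 : Polynomial k).natDegree = 1 := by
      have := Polynomial.natDegree_X_add_C (1 : k)
      simpa using this
    rw [this, mul_one, mul_one]
  have hlead := hmonic.coeff_natDegree
  rw [hdeg] at hlead
  have := (hall (i + m - n - 1)).2
  rw [show n + (i + m - n - 1) + 1 = i + m by omega, hlead] at this
  exact one_ne_zero this

theorem S16262_main [CharZero k] (a b i : ℕ) (ha : 0 < a) (hb : 0 < b) (hi : 0 < i) (hiab : i < a + b)
    (V : Submodule k (Polynomial k))
    (hV : V = Polynomial.degreeLE k ↑(a + b - i) ⊓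
      LinearMap.ker ((Polynomial.lcoeff k a).comp (LinearMap.mulLeft k (((X : Polynomial k) + 1) ^ i))))
    (q : k) (hq : q ≠ 0) :
    Module.finrank k ↥(V ⊓ (Ideal.span {(X - C q) ^ (a + b - i - 1)}).restrictScalars k) ≤ 1 := by
  subst hV
  set m := a + b - i - 1 with hm
  set P : Polynomial k := (X + 1) ^ i * (X - C q) ^ m with hP
  obtain ⟨a', rfl⟩ : ∃ a', a = a' + 1 := ⟨a - 1, by omega⟩
  set c1 := P.coeff a' with hc1
  set c0 := P.coeff (a' + 1) with hc0
  have hc : c1 ≠ 0 ∨ c0 ≠ 0 := coeff_ne i m q hq a' (by omega)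
  set v : Polynomial k := (X - C q) ^ m * (C c0 * X - C c1) with hv
  have hD : ((X - C q) ^ m : Polynomial k).Monic := (Polynomial.monic_X_sub_C q).pow m
  have hDdeg : ((X - C q) ^ m : Polynomial k).natDegree = m := by
    rw [Polynomial.natDegree_pow, Polynomial.natDegree_X_sub_C, mul_one]
  have hle : (Polynomial.degreeLE k ↑(a' + 1 + b - i) ⊓
      LinearMap.ker ((Polynomial.lcoeff k (a' + 1)).comp
        (LinearMap.mulLeft k (((X : Polynomial k) + 1) ^ i)))) ⊓
      (Ideal.span {(X - C q) ^ m}).restrictScalars k ≤ Submodule.span k {v} := by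
    intro g hg
    rw [Submodule.mem_inf, Submodule.mem_inf] at hg
    obtain ⟨⟨hg1, hg3⟩, hg2⟩ := hg
    rw [Polynomial.mem_degreeLE] at hg1
    obtain ⟨h, hh, rfl⟩ := exists_quot hD (r := 1)
      (by rw [hDdeg]; convert hg1 using 2; omega) hg2
    obtain ⟨α, β, rfl⟩ : ∃ α β : k, h = C α * X + C β :=
      ⟨_, _, Polynomial.eq_X_add_C_of_degree_le_one (by exact_mod_cast hh)⟩
    rw [LinearMap.mem_ker, LinearMap.comp_apply, LinearMap.mulLeft_apply,
      Polynomial.lcoeff_apply] at hg3
    have e : (X + 1) ^ i * ((X - C q) ^ m * (C α * X + C β)) = C α * (X * P) + C β * P := by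
      rw [hP]; ring
    rw [e, Polynomial.coeff_add, Polynomial.coeff_C_mul, Polynomial.coeff_C_mul,
      Polynomial.coeff_X_mul, ← hc1, ← hc0] at hg3
    -- hg3 : α * c1 + β * c0 = 0
    rw [Submodule.mem_span_singleton]
    by_cases h0 : c0 = 0
    · have h1 : c1 ≠ 0 := hc.resolve_right (not_not.mpr h0)
      have hα : α = 0 := by
        rw [h0, mul_zero, add_zero] at hg3
        exact (mul_eq_zero.mp hg3).resolve_right h1
      refine ⟨-β / c1, ?_⟩
      rw [hv, h0, hα, Polynomial.smul_eq_C_mul]
      simp only [map_zero, zero_mul, zero_sub, zero_add]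
      have : C (-β / c1) * ((X - C q) ^ m * -C c1) = (X - C q) ^ m * C (-β / c1 * -c1) := by
        simp only [map_mul, map_neg]
        ring
      rw [this]
      congr 2
      field_simp
    · refine ⟨α / c0, ?_⟩
      rw [hv, Polynomial.smul_eq_C_mul]
      have e1 : α / c0 * c0 = α := by field_simp
      have e2 : α / c0 * c1 = -β := by
        rw [div_mul_eq_mul_div, div_eq_iff h0]
        linear_combination hg3
      have : C (α / c0) * ((X - C q) ^ m * (C c0 * X - C c1))
          = (X - C q) ^ m * (C (α / c0 * c0) * X - C (α / c0 * c1)) := by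
        simp only [map_mul]
        ring
      rw [this, e1, e2]
      simp only [map_neg, sub_neg_eq_add]
  calc _ ≤ Module.finrank k ↥(Submodule.span k {v}) := Submodule.finrank_mono hle
    _ ≤ 1 := by
      have := finrank_span_le_card (R := k) ({v} : Set (Polynomial k))
      simpa using this

end Groth.Agent.Lib.Helper26.WronskLine
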