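import Mathlib

set_option maxHeartbeats 400000
set_option autoImplicit false

namespace Groth.Agent.Lib.Helper26.WronskRes

open Polynomial

variable {k : Type*} [Field k]

/-- the linear system -/
noncomputable def V (a b : ℕ) : Submodule k (Polynomial k) :=
  ((Ideal.span {(X : Polynomial k) ^ (a + 1)}).restrictScalars k ⊓
      Polynomial.degreeLE k ↑(a + b)) ⊔
    ((Ideal.span {((X : Polynomial k) - 1) ^ (b + 1)}).restrictScalars k ⊓
      Polynomial.degreeLE k ↑(a + b)) ⊔
    Submodule.span k {(X : Polynomial k) ^ (a + 1) * (X - 1) ^ (b + 1)}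

lemma mem_V {a b : ℕ} {f : Polynomial k} (hf : f ∈ V (k := k) a b) :
    ∃ (u w : Polynomial k) (l : k), f = X ^ (a + 1) * u + (X - 1) ^ (b + 1) * w +
        C l * (X ^ (a + 1) * (X - 1) ^ (b + 1)) ∧
      (X ^ (a + 1) * u).degree ≤ ((a + b : ℕ) : WithBot ℕ) ∧
      ((X - 1) ^ (b + 1) * w).degree ≤ ((a + b : ℕ) : WithBot ℕ) := by
  unfold V at hf
  rw [Submodule.mem_sup] at hf
  obtain ⟨y, hy, z, hz, rfl⟩ := hf
  rw [Submodule.mem_sup] at hy
  obtain ⟨y1, hy1, y2, hy2, rfl⟩ := hy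
  rw [Submodule.mem_span_singleton] at hz
  obtain ⟨l, rfl⟩ := hz
  obtain ⟨h11, h12⟩ := hy1
  obtain ⟨h21, h22⟩ := hy2
  rw [SetLike.mem_coe, Submodule.restrictScalars_mem, Ideal.mem_span_singleton] at h11 h21
  obtain ⟨u, rfl⟩ := h11
  obtain ⟨w, rfl⟩ := h21
  rw [SetLike.mem_coe, Polynomial.mem_degreeLE] at h12 h22
  exact ⟨u, w, l, by rw [smul_eq_C_mul], h12, h22⟩

lemma monic_B (b : ℕ) : ((X : Polynomial k) - 1) ^ (b + 1) |>.Monic := by
  have : (X : Polynomial k) - 1 = X - C 1 := by simp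
  rw [this]
  exact (monic_X_sub_C 1).pow _

lemma natDegree_B (b : ℕ) : (((X : Polynomial k) - 1) ^ (b + 1)).natDegree = b + 1 := by
  have : (X : Polynomial k) - 1 = X - C 1 := by simp
  rw [this, natDegree_pow, natDegree_X_sub_C, mul_one]

/-- the series `(1 - X)^{-(b+1)}` -/
noncomputable def Sb (b : ℕ) : PowerSeries k := (PowerSeries.invOneSubPow k (b + 1)).val

lemma coeff_Sb (b n : ℕ) : PowerSeries.coeff n (Sb (k := k) b) = ((b + n).choose b : k) := by
  unfold Sb
  rw [PowerSeries.invOneSubPow_val_succ_eq_mk_add_choose, PowerSeries.coeff_mk]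

lemma one_sub_pow_mul_Sb (b : ℕ) :
    ((1 : PowerSeries k) - PowerSeries.X) ^ (b + 1) * Sb (k := k) b = 1 := by
  unfold Sb
  rw [← PowerSeries.invOneSubPow_inv_eq_one_sub_pow]
  exact (PowerSeries.invOneSubPow k (b + 1)).inv_val

lemma B_mul_Sb (b : ℕ) :
    ((((X : Polynomial k) - 1) ^ (b + 1) : Polynomial k) : PowerSeries k) * Sb (k := k) b
      = PowerSeries.C ((-1 : k) ^ (b + 1)) := by
  have h1 : ((((X : Polynomial k) - 1) ^ (b + 1) : Polynomial k) : PowerSeries k) =
      PowerSeries.C ((-1 : k) ^ (b + 1)) * ((1 : PowerSeries k) - PowerSeries.X) ^ (b + 1) := by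
    rw [Polynomial.coe_pow, Polynomial.coe_sub, Polynomial.coe_X, Polynomial.coe_one, map_pow,
      ← mul_pow]
    congr 1
    rw [map_neg, map_one]
    ring
  rw [h1, mul_assoc, one_sub_pow_mul_Sb, mul_one]

/-- the residue functional at `0` -/
noncomputable def L (a b : ℕ) (f : Polynomial k) : k :=
  PowerSeries.coeff a ((f : PowerSeries k) * Sb (k := k) b)

lemma L_add (a b : ℕ) (f g : Polynomial k) : L a b (f + g) = L a b f + L a b g := by
  unfold L
  rw [Polynomial.coe_add, add_mul, map_add]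

lemma L_Xpow_mul (a b : ℕ) (u : Polynomial k) : L a b (X ^ (a + 1) * u) = 0 := by
  unfold L
  rw [Polynomial.coe_mul, Polynomial.coe_pow, Polynomial.coe_X, mul_assoc,
    PowerSeries.coeff_X_pow_mul', if_neg (by omega)]

lemma L_B_mul (a b : ℕ) (w : Polynomial k) :
    L a b ((X - 1) ^ (b + 1) * w) = (-1 : k) ^ (b + 1) * w.coeff a := by
  unfold L
  rw [Polynomial.coe_mul, mul_comm ((((X : Polynomial k) - 1) ^ (b + 1) : Polynomial k) :
    PowerSeries k), mul_assoc, B_mul_Sb, mul_comm, PowerSeries.coeff_C_mul, Polynomial.coeff_coe]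

lemma coeff_eq_zero_of_B_mul {a b : ℕ} {w : Polynomial k}
    (h : ((X - 1) ^ (b + 1) * w).degree ≤ ((a + b : ℕ) : WithBot ℕ)) : w.coeff a = 0 := by
  by_cases hw : w = 0
  · rw [hw, coeff_zero]
  · have hB := monic_B (k := k) b
    have h1 : ((X - 1) ^ (b + 1) * w).natDegree = (b + 1) + w.natDegree := by
      rw [hB.natDegree_mul' hw, natDegree_B]
    have h2 : ((X - 1) ^ (b + 1) * w).natDegree ≤ a + b := natDegree_le_of_degree_le h
    apply coeff_eq_zero_of_natDegree_lt
    omega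

lemma L_V {a b : ℕ} {f : Polynomial k} (hf : f ∈ V (k := k) a b) : L a b f = 0 := by
  obtain ⟨u, w, l, rfl, _, hw⟩ := mem_V hf
  rw [L_add, L_add, L_Xpow_mul, L_B_mul, coeff_eq_zero_of_B_mul hw,
    show C l * (X ^ (a + 1) * (X - 1) ^ (b + 1)) = X ^ (a + 1) * (C l * (X - 1) ^ (b + 1)) by ring,
    L_Xpow_mul]
  ring

lemma coeff_X_sub_C_pow' (r : k) (n t : ℕ) :
    ((X - C r) ^ n).coeff t = (-r) ^ (n - t) * (n.choose t : k) := by
  rw [sub_eq_add_neg, ← C_neg, coeff_X_add_C_pow]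

lemma choose_id (m b s : ℕ) (hs : s ≤ m) :
    (m + b).choose s * (b + (m - s)).choose b = (m + b).choose b * m.choose s := by
  have h1 := Nat.choose_mul (n := m + b) (k := s + b) (s := s) (by omega)
  have h2 := Nat.choose_mul (n := m + b) (k := s + b) (s := b) (by omega)
  rw [show m + b - s = b + (m - s) by omega, show s + b - s = b by omega] at h1
  rw [show m + b - b = m by omega, show s + b - b = s by omega] at h2
  rw [← h1, ← h2, Nat.choose_symm_add]

lemma L_g0 (i' m b : ℕ) (q : k) :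
    L (i' + m) b (X ^ i' * (X - C q) ^ (m + b)) =
      ((m + b).choose b : k) * (-q) ^ b * (1 - q) ^ m := by
  unfold L
  rw [Polynomial.coe_mul, Polynomial.coe_pow, Polynomial.coe_X, mul_assoc,
    PowerSeries.coeff_X_pow_mul', if_pos (by omega), show i' + m - i' = m by omega,
    PowerSeries.coeff_mul, Finset.Nat.sum_antidiagonal_eq_sum_range_succ_mk]
  have hterm : ∀ s ∈ Finset.range m.succ,
      PowerSeries.coeff (s, m - s).1 (((X - C q) ^ (m + b) : Polynomial k) : PowerSeries k) *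
        PowerSeries.coeff (s, m - s).2 (Sb (k := k) b) =
      ((m + b).choose b : k) * (-q) ^ b * ((1 : k) ^ s * (-q) ^ (m - s) * (m.choose s : k)) := by
    intro s hs
    rw [Finset.mem_range] at hs
    have hs' : s ≤ m := by omega
    simp only
    rw [Polynomial.coeff_coe, coeff_X_sub_C_pow', coeff_Sb]
    have hc := choose_id m b s hs'
    have hc' : (((m + b).choose s : ℕ) : k) * (((b + (m - s)).choose b : ℕ) : k) =
        (((m + b).choose b : ℕ) : k) * ((m.choose s : ℕ) : k) := by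
      rw [← Nat.cast_mul, ← Nat.cast_mul, hc]
    rw [show m + b - s = b + (m - s) by omega, pow_add, one_pow]
    linear_combination ((-q) ^ b * (-q) ^ (m - s)) * hc'
  rw [Finset.sum_congr rfl hterm, ← Finset.mul_sum, ← add_pow]
  ring

lemma coeff_B_top (t : ℕ) : (((X : Polynomial k) - 1) ^ (t + 1)).coeff t = -((t : k) + 1) := by
  have : (X : Polynomial k) - 1 = X - C 1 := by simp
  rw [this, coeff_X_sub_C_pow', show t + 1 - t = 1 by omega, Nat.choose_succ_self_right]
  push_cast; ring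

lemma L_f1 (i t b : ℕ) :
    L (i + t) b (X ^ i * ((X : Polynomial k) - 1) ^ (b + 1 + (t + 1))) =
      (-1 : k) ^ (b + 1) * (-((t : k) + 1)) := by
  have : (X : Polynomial k) ^ i * (X - 1) ^ (b + 1 + (t + 1)) =
      (X - 1) ^ (b + 1) * (X ^ i * (X - 1) ^ (t + 1)) := by ring
  rw [this, L_B_mul, coeff_X_pow_mul', if_pos (by omega), show i + t - i = t by omega, coeff_B_top]

lemma coeff_u_eq_zero {a b : ℕ} {u : Polynomial k}
    (h : (X ^ (a + 1) * u).degree ≤ ((a + b : ℕ) : WithBot ℕ)) (n : ℕ) (hn : b ≤ n) :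
    u.coeff n = 0 := by
  by_cases hu : u = 0
  · rw [hu, coeff_zero]
  · have h1 : (X ^ (a + 1) * u).natDegree = (a + 1) + u.natDegree := by
      rw [(monic_X_pow (a + 1)).natDegree_mul' hu, natDegree_X_pow]
    have h2 : (X ^ (a + 1) * u).natDegree ≤ a + b := natDegree_le_of_degree_le h
    apply coeff_eq_zero_of_natDegree_lt
    omega

lemma XN_notMem [CharZero k] (a b : ℕ) :
    (X : Polynomial k) ^ (a + 1) * X ^ (b + 1) ∉ V (k := k) a b := by
  intro hmem
  obtain ⟨u, w, l, heq, hu, hw⟩ := mem_V hmem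
  have hcop : IsCoprime ((X : Polynomial k) ^ (a + 1)) ((X - 1) ^ (b + 1)) := by
    apply IsCoprime.pow
    exact ⟨1, -1, by ring⟩
  have hdvd : (X : Polynomial k) ^ (a + 1) ∣ w * (X - 1) ^ (b + 1) :=
    ⟨X ^ (b + 1) - u - C l * (X - 1) ^ (b + 1), by linear_combination -heq⟩
  have hdvd' := hcop.dvd_of_dvd_mul_right hdvd
  have hw0 : w = 0 := by
    by_contra hne
    have h1 : ((X - 1) ^ (b + 1) * w).natDegree = (b + 1) + w.natDegree := by
      rw [(monic_B (k := k) b).natDegree_mul' hne, natDegree_B]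
    have h2 : ((X - 1) ^ (b + 1) * w).natDegree ≤ a + b := natDegree_le_of_degree_le hw
    have h3 := natDegree_le_of_dvd hdvd' hne
    rw [natDegree_X_pow] at h3
    omega
  subst hw0
  have heq2 : (X : Polynomial k) ^ (b + 1) = u + C l * (X - 1) ^ (b + 1) := by
    apply mul_left_cancel₀ (pow_ne_zero (a + 1) (X_ne_zero : (X : Polynomial k) ≠ 0))
    linear_combination heq
  have c1 := congrArg (fun p => p.coeff (b + 1)) heq2
  have c0 := congrArg (fun p => p.coeff b) heq2
  simp only [coeff_add, coeff_C_mul] at c1 c0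
  rw [coeff_X_pow_self, coeff_u_eq_zero hu (b + 1) (by omega)] at c1
  rw [coeff_X_pow, coeff_u_eq_zero hu b le_rfl, if_neg (by omega), coeff_B_top] at c0
  have hB1 : (((X : Polynomial k) - 1) ^ (b + 1)).coeff (b + 1) = 1 := by
    have := (monic_B (k := k) b).coeff_natDegree
    rwa [natDegree_B] at this
  rw [hB1] at c1
  have hl : l = 1 := by linear_combination -c1
  rw [hl] at c0
  have : ((b : k) + 1) = 0 := by linear_combination c0
  have h2 : ((b + 1 : ℕ) : k) = 0 := by push_cast; exact this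
  exact (Nat.cast_ne_zero.mpr (Nat.succ_ne_zero b)) h2

lemma monic_AB (a b : ℕ) : ((X : Polynomial k) ^ (a + 1) * (X - 1) ^ (b + 1)).Monic :=
  (monic_X_pow _).mul (monic_B b)

lemma natDegree_AB (a b : ℕ) :
    ((X : Polynomial k) ^ (a + 1) * (X - 1) ^ (b + 1)).natDegree = a + b + 2 := by
  rw [(monic_X_pow _).natDegree_mul (monic_B b), natDegree_X_pow, natDegree_B]
  omega

lemma natDegree_le_V {a b : ℕ} {x : Polynomial k} (hx : x ∈ V (k := k) a b) :
    x.natDegree ≤ a + b + 2 := by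
  obtain ⟨u, w, l, rfl, hu, hw⟩ := mem_V hx
  refine (natDegree_add_le _ _).trans (max_le ((natDegree_add_le _ _).trans (max_le ?_ ?_)) ?_)
  · exact (natDegree_le_of_degree_le hu).trans (by omega)
  · exact (natDegree_le_of_degree_le hw).trans (by omega)
  · exact (natDegree_C_mul_le _ _).trans (le_of_eq (natDegree_AB a b))

/-- no element of `V` has degree exactly `a + b + 1` -/
lemma gap {a b : ℕ} {x : Polynomial k} (hx : x ∈ V (k := k) a b)
    (h0 : x.coeff (a + b + 2) = 0) : x.natDegree ≤ a + b := by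
  obtain ⟨u, w, l, rfl, hu, hw⟩ := mem_V hx
  have hu' := natDegree_le_of_degree_le hu
  have hw' := natDegree_le_of_degree_le hw
  have hl : l = 0 := by
    rw [coeff_add, coeff_add, coeff_eq_zero_of_natDegree_lt (by omega),
      coeff_eq_zero_of_natDegree_lt (by omega), coeff_C_mul] at h0
    have := (monic_AB (k := k) a b).coeff_natDegree
    rw [natDegree_AB] at this
    rw [this] at h0
    simpa using h0
  rw [hl, map_zero, zero_mul, add_zero]
  exact (natDegree_add_le _ _).trans (max_le hu' hw')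

lemma g0_mem {a b : ℕ} (g₀ : Polynomial k) (hm : g₀.Monic) (hd : g₀.natDegree = a + b)
    (h2 : 2 ≤ Module.finrank k ↥(V (k := k) a b ⊓ (Ideal.span {g₀}).restrictScalars k)) :
    g₀ ∈ V (k := k) a b := by
  by_contra hg
  let Ψ : ↥(V (k := k) a b ⊓ (Ideal.span {g₀}).restrictScalars k) →ₗ[k] k :=
    (Polynomial.lcoeff k (a + b + 2)) ∘ₗ (Submodule.subtype _)
  have hinj : Function.Injective Ψ := by
    rw [← LinearMap.ker_eq_bot, Submodule.eq_bot_iff]
    rintro ⟨x, hxV, hxg⟩ hx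
    rw [LinearMap.mem_ker] at hx
    change x.coeff (a + b + 2) = 0 at hx
    have hdeg := gap hxV hx
    rw [SetLike.mem_coe, Submodule.restrictScalars_mem, Ideal.mem_span_singleton] at hxg
    obtain ⟨p, rfl⟩ := hxg
    by_cases hp : p = 0
    · subst hp
      apply Subtype.ext
      simp
    · exfalso
      rw [hm.natDegree_mul' hp, hd] at hdeg
      have hp0 : p.natDegree = 0 := by omega
      obtain ⟨c, rfl⟩ : ∃ c, p = C c := ⟨p.coeff 0, eq_C_of_natDegree_eq_zero hp0⟩
      have hc : c ≠ 0 := by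
        rintro rfl
        exact hp (map_zero _)
      apply hg
      have : g₀ = c⁻¹ • (g₀ * C c) := by
        rw [smul_eq_C_mul, mul_comm g₀, ← mul_assoc, ← C_mul, inv_mul_cancel₀ hc, map_one, one_mul]
      rw [this]
      exact Submodule.smul_mem _ _ hxV
  have := LinearMap.finrank_le_finrank_of_injective hinj
  rw [Module.finrank_self] at this
  omega

lemma f0_mem {a b : ℕ} (f₀ : Polynomial k) (hm : f₀.Monic) (hd : f₀.natDegree = a + b + 2)
    (h1 : 1 ≤ Module.finrank k ↥(V (k := k) a b ⊓ (Ideal.span {f₀}).restrictScalars k)) :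
    f₀ ∈ V (k := k) a b := by
  have hpos : 0 < Module.finrank k ↥(V (k := k) a b ⊓ (Ideal.span {f₀}).restrictScalars k) := by
    omega
  haveI := Module.nontrivial_of_finrank_pos hpos
  obtain ⟨⟨x, hxV, hxf⟩, hx0⟩ :=
    exists_ne (0 : ↥(V (k := k) a b ⊓ (Ideal.span {f₀}).restrictScalars k))
  rw [SetLike.mem_coe, Submodule.restrictScalars_mem, Ideal.mem_span_singleton] at hxf
  obtain ⟨p, rfl⟩ := hxf
  have hp : p ≠ 0 := by
    rintro rfl
    apply hx0
    apply Subtype.ext
    simp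
  have hdeg := natDegree_le_V hxV
  rw [hm.natDegree_mul' hp, hd] at hdeg
  have hp0 : p.natDegree = 0 := by omega
  obtain ⟨c, rfl⟩ : ∃ c, p = C c := ⟨p.coeff 0, eq_C_of_natDegree_eq_zero hp0⟩
  have hc : c ≠ 0 := by
    rintro rfl
    exact hp (map_zero _)
  have : f₀ = c⁻¹ • (f₀ * C c) := by
    rw [smul_eq_C_mul, mul_comm f₀, ← mul_assoc, ← C_mul, inv_mul_cancel₀ hc, map_one, one_mul]
  rw [this]
  exact Submodule.smul_mem _ _ hxV

lemma monic_XQ (i j : ℕ) (q : k) : ((X : Polynomial k) ^ i * (X - C q) ^ j).Monic :=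
  (monic_X_pow i).mul ((monic_X_sub_C q).pow j)

lemma natDegree_XQ (i j : ℕ) (q : k) :
    ((X : Polynomial k) ^ i * (X - C q) ^ j).natDegree = i + j := by
  rw [(monic_X_pow i).natDegree_mul ((monic_X_sub_C q).pow j), natDegree_X_pow, natDegree_pow,
    natDegree_X_sub_C, mul_one]

theorem main [CharZero k] (a b i j : ℕ) (hi : 0 < i)
    (hj : i + j = a + b + 2)
    (V' : Submodule k (Polynomial k))
    (hV : V' = ((Ideal.span {(X : Polynomial k) ^ (a + 1)}).restrictScalars k ⊓
        Polynomial.degreeLE k ↑(a + b)) ⊔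
      ((Ideal.span {((X : Polynomial k) - 1) ^ (b + 1)}).restrictScalars k ⊓
        Polynomial.degreeLE k ↑(a + b)) ⊔
      Submodule.span k {(X : Polynomial k) ^ (a + 1) * (X - 1) ^ (b + 1)})
    (q : k)
    (h1 : 1 ≤ Module.finrank k
      ↥(V' ⊓ (Ideal.span {(X : Polynomial k) ^ i * (X - C q) ^ j}).restrictScalars k))
    (h2 : 2 ≤ Module.finrank k
      ↥(V' ⊓ (Ideal.span {(X : Polynomial k) ^ (i - 1) * (X - C q) ^ (j - 1)}).restrictScalars k)) :
    a + 1 ≤ i := by
  have hV' : V' = V (k := k) a b := hV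
  subst hV'
  by_contra hcon
  push Not at hcon
  have f0 := f0_mem _ (monic_XQ i j q) (by rw [natDegree_XQ]; omega) h1
  have g0 := g0_mem _ (monic_XQ (i - 1) (j - 1) q) (by rw [natDegree_XQ]; omega) h2
  by_cases hq0 : q = 0
  · subst hq0
    apply XN_notMem (k := k) a b
    have : (X : Polynomial k) ^ (a + 1) * X ^ (b + 1) = X ^ i * (X - C 0) ^ j := by
      rw [map_zero, sub_zero, ← pow_add, ← pow_add]
      congr 1
      omega
    rw [this]
    exact f0
  by_cases hq1 : q = 1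
  · subst hq1
    have hL := L_V f0
    obtain ⟨t, rfl⟩ : ∃ t, a = i + t := ⟨a - i, by omega⟩
    have hj' : j = b + 1 + (t + 1) := by omega
    rw [hj', map_one, L_f1] at hL
    have h3 : ((t : k) + 1) ≠ 0 := by
      have : ((t + 1 : ℕ) : k) ≠ 0 := Nat.cast_ne_zero.mpr (Nat.succ_ne_zero t)
      push_cast at this
      exact this
    have h4 : ((-1 : k) ^ (b + 1)) ≠ 0 := pow_ne_zero _ (by norm_num)
    exact (mul_ne_zero h4 (neg_ne_zero.mpr h3)) hL
  · have hL := L_V g0
    obtain ⟨i', rfl⟩ : ∃ i', i = i' + 1 := ⟨i - 1, by omega⟩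
    obtain ⟨m, rfl⟩ : ∃ m, a = i' + m := ⟨a - i', by omega⟩
    have hj' : j - 1 = m + b := by omega
    rw [hj', show i' + 1 - 1 = i' by omega, L_g0] at hL
    have h3 : (((m + b).choose b : ℕ) : k) ≠ 0 :=
      Nat.cast_ne_zero.mpr (Nat.choose_pos (by omega)).ne'
    have h4 : (-q) ^ b ≠ 0 := pow_ne_zero _ (neg_ne_zero.mpr hq0)
    have h5 : (1 - q) ^ m ≠ 0 := pow_ne_zero _ (sub_ne_zero.mpr (Ne.symm hq1))
    exact (mul_ne_zero (mul_ne_zero h3 h4) h5) hL

end Groth.Agent.Lib.Helper26.WronskRes
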