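import Mathlib
import Groth.Agent.Lib.Helper26.Colength
set_option maxHeartbeats 400000
universe u
namespace Groth.Agent.Lib.Helper26.XiShift
open PowerSeries
open Groth.Agent.Lib.Helper26.Colength

section linalg
variable {k : Type*} [Field k] {V W : Type*} [AddCommGroup V] [Module k V] [AddCommGroup W] [Module k W]

lemma finite_quot_of_map (ι : W →ₗ[k] V) (hι : Function.Injective ι) (J : Submodule k W)
    [Module.Finite k (V ⧸ J.map ι)] : Module.Finite k (W ⧸ J) := by
  have hJ : J ≤ (J.map ι).comap ι := Submodule.le_comap_map _ _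
  have hψinj : Function.Injective (Submodule.mapQ J (J.map ι) ι hJ) := by
    rw [← LinearMap.ker_eq_bot, Submodule.ker_mapQ, Submodule.comap_map_eq_of_injective hι,
      Submodule.mkQ_map_self]
  exact Module.Finite.of_injective _ hψinj

end linalg

variable {k : Type u} [Field k] {s : ℕ}

variable (k) in
/-- ξ -/
noncomputable def xi (j : Fin s) : Fin s → PowerSeries k := Pi.mulSingle j PowerSeries.X

lemma xi_mul_apply_same (j : Fin s) (f : Fin s → PowerSeries k) : (xi k j * f) j = X * f j := by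
  simp [xi]

lemma xi_mul_apply_ne (j i : Fin s) (h : i ≠ j) (f : Fin s → PowerSeries k) :
    (xi k j * f) i = f i := by
  simp [xi, Pi.mulSingle_eq_of_ne h]

lemma xi_mul_injective (j : Fin s) :
    Function.Injective (fun f : Fin s → PowerSeries k => xi k j * f) := by
  intro f g h
  funext i
  by_cases hi : i = j
  · subst hi
    have := congrFun h i
    simp only [xi_mul_apply_same] at this
    exact mul_left_cancel₀ X_ne_zero this
  · have := congrFun h i
    simpa [xi_mul_apply_ne j i hi] using this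

/-- the linear map "multiplication by ξ" -/
noncomputable def mu (j : Fin s) : (Fin s → PowerSeries k) →ₗ[k] (Fin s → PowerSeries k) :=
  LinearMap.mulLeft k (xi k j)

lemma mu_apply (j : Fin s) (f : Fin s → PowerSeries k) : mu j f = xi k j * f := rfl

lemma mu_injective (j : Fin s) : Function.Injective (mu (k := k) j) := xi_mul_injective j

lemma range_mu (j : Fin s) : LinearMap.range (mu (k := k) j) = F (k := k) (Pi.single j 1) := by
  ext f
  rw [mem_F, LinearMap.mem_range]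
  constructor
  · rintro ⟨g, rfl⟩ i
    by_cases hi : i = j
    · subst hi
      rw [mu_apply, xi_mul_apply_same, Pi.single_eq_same]
      refine le_trans ?_ (le_order_mul _ _)
      rw [order_X]
      exact le_self_add
    · rw [Pi.single_eq_of_ne hi]; simp
  · intro h
    have hj := h j
    rw [Pi.single_eq_same] at hj
    have hdvd : X ∣ f j := by
      rw [X_dvd_iff, ← coeff_zero_eq_constantCoeff_apply]
      apply coeff_of_lt_order
      exact lt_of_lt_of_le (by norm_num) hj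
    obtain ⟨h', hh'⟩ := hdvd
    refine ⟨Function.update f j h', ?_⟩
    funext i
    by_cases hi : i = j
    · subst hi
      rw [mu_apply, xi_mul_apply_same, Function.update_self, hh']
    · rw [mu_apply, xi_mul_apply_ne _ _ hi, Function.update_of_ne hi]

lemma finrank_quot_range_mu (j : Fin s) :
    Module.finrank k ((Fin s → PowerSeries k) ⧸ LinearMap.range (mu (k := k) j)) = 1 := by
  rw [range_mu, finrank_quot_F]
  simp

lemma single_mem (R : Subalgebra k (Fin s → PowerSeries k)) (c : Fin s → ℕ)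
    (hc : ∀ f : Fin s → PowerSeries k,
      (∀ g : Fin s → PowerSeries k, g * f ∈ R) ↔ ∀ i, ((c i : ℕ) : ℕ∞) ≤ (f i).order)
    (j : Fin s) (y : PowerSeries k) (hy : ((c j : ℕ) : ℕ∞) ≤ y.order) :
    (Pi.single j y : Fin s → PowerSeries k) ∈ R := by
  have := (hc (Pi.single j y)).mpr (Groth.Agent.Lib.Helper26.CondShift.single_mem_cond c j y hy) 1
  rwa [one_mul] at this

lemma xi_mul_eq (j : Fin s) (f : Fin s → PowerSeries k) :
    xi k j * f = f + Pi.single j ((X - 1) * f j) := by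
  funext i
  by_cases hi : i = j
  · subst hi
    rw [xi_mul_apply_same, Pi.add_apply, Pi.single_eq_same]; ring
  · rw [xi_mul_apply_ne _ _ hi, Pi.add_apply, Pi.single_eq_of_ne hi, add_zero]


section types
variable (R : Subalgebra k (Fin s → PowerSeries k))

/-- evaluation at the `i`-th branch -/
noncomputable abbrev ev (i : Fin s) : ↥R →ₐ[k] PowerSeries k :=
  (Pi.evalAlgHom k (fun _ : Fin s => PowerSeries k) i).comp R.val

lemma ev_apply (i : Fin s) (r : ↥R) : ev R i r = (r : Fin s → PowerSeries k) i := rfl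

/-- `J = ξ I` as sets -/
def IsShift (j : Fin s) (I J : Ideal ↥R) : Prop :=
  (Subtype.val '' (J : Set ↥R)) = (fun f => Pi.mulSingle j PowerSeries.X * f) '' (Subtype.val '' (I : Set ↥R))

variable {R}

lemma IsShift.exists_of_mem_J {j : Fin s} {I J : Ideal ↥R} (h : IsShift R j I J) {r : ↥R} (hr : r ∈ J) :
    ∃ f ∈ I, (r : Fin s → PowerSeries k) = xi k j * (f : Fin s → PowerSeries k) := by
  have : (r : Fin s → PowerSeries k) ∈ Subtype.val '' (J : Set ↥R) := ⟨r, hr, rfl⟩
  rw [h] at this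
  obtain ⟨_, ⟨f, hf, rfl⟩, hfr⟩ := this
  exact ⟨f, hf, hfr.symm⟩

lemma IsShift.exists_of_mem_I {j : Fin s} {I J : Ideal ↥R} (h : IsShift R j I J) {f : ↥R} (hf : f ∈ I) :
    ∃ r ∈ J, (r : Fin s → PowerSeries k) = xi k j * (f : Fin s → PowerSeries k) := by
  have : xi k j * (f : Fin s → PowerSeries k) ∈ Subtype.val '' (J : Set ↥R) := by
    rw [h]
    exact ⟨_, ⟨f, hf, rfl⟩, rfl⟩
  obtain ⟨r, hr, hrf⟩ := this
  exact ⟨r, hr, hrf⟩

lemma IsShift.map_ne {j : Fin s} {I J : Ideal ↥R} (h : IsShift R j I J) (i : Fin s) (hi : i ≠ j) :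
    Ideal.map (ev R i) J = Ideal.map (ev R i) I := by
  unfold Ideal.map
  congr 1
  ext y
  constructor
  · rintro ⟨r, hr, rfl⟩
    obtain ⟨f, hf, hrf⟩ := h.exists_of_mem_J hr
    refine ⟨f, hf, ?_⟩
    rw [ev_apply, ev_apply, hrf, xi_mul_apply_ne _ _ hi]
  · rintro ⟨f, hf, rfl⟩
    obtain ⟨r, hr, hrf⟩ := h.exists_of_mem_I hf
    refine ⟨r, hr, ?_⟩
    rw [ev_apply, ev_apply, hrf, xi_mul_apply_ne _ _ hi]

lemma IsShift.map_same {j : Fin s} {I J : Ideal ↥R} (h : IsShift R j I J) :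
    Ideal.map (ev R j) J = Ideal.span {X} * Ideal.map (ev R j) I := by
  unfold Ideal.map
  rw [Ideal.span_mul_span', Set.singleton_mul]
  congr 1
  ext y
  constructor
  · rintro ⟨r, hr, rfl⟩
    obtain ⟨f, hf, hrf⟩ := h.exists_of_mem_J hr
    refine ⟨_, ⟨f, hf, rfl⟩, ?_⟩
    show X * ev R j f = ev R j r
    rw [ev_apply, ev_apply, hrf, xi_mul_apply_same]
  · rintro ⟨_, ⟨f, hf, rfl⟩, rfl⟩
    obtain ⟨r, hr, hrf⟩ := h.exists_of_mem_I hf
    refine ⟨r, hr, ?_⟩
    show ev R j r = X * ev R j f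
    rw [ev_apply, ev_apply, hrf, xi_mul_apply_same]

lemma span_X_mul_span_pow (n : ℕ) :
    Ideal.span {(X : PowerSeries k)} * Ideal.span {X ^ n} = Ideal.span {X ^ (n + 1)} := by
  rw [Ideal.span_singleton_mul_span_singleton, pow_succ']

lemma IsShift.type_J {j : Fin s} {I J : Ideal ↥R} (h : IsShift R j I J) (a : Fin s → ℕ)
    (haI : ∀ i, Ideal.map (ev R i) I = Ideal.span {X ^ (a i)}) (i : Fin s) :
    Ideal.map (ev R i) J = Ideal.span {X ^ (Function.update a j (a j + 1) i)} := by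
  by_cases hi : i = j
  · subst hi
    rw [h.map_same, haI, span_X_mul_span_pow, Function.update_self]
  · rw [h.map_ne i hi, haI, Function.update_of_ne hi]

lemma IsShift.type_I {j : Fin s} {I J : Ideal ↥R} (h : IsShift R j I J) (a : Fin s → ℕ)
    (haJ : ∀ i, Ideal.map (ev R i) J = Ideal.span {X ^ (Function.update a j (a j + 1) i)}) (i : Fin s) :
    Ideal.map (ev R i) I = Ideal.span {X ^ (a i)} := by
  by_cases hi : i = j
  · subst hi
    have h1 := haJ i
    rw [h.map_same, Function.update_self, ← span_X_mul_span_pow,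
      Ideal.span_singleton_mul_right_inj X_ne_zero] at h1
    exact h1
  · have h1 := haJ i
    rw [h.map_ne i hi, Function.update_of_ne hi] at h1
    exact h1

end types


section colength
variable {R : Subalgebra k (Fin s → PowerSeries k)}

/-- the `k`-subspace of the product underlying an ideal of `R` -/
noncomputable abbrev sub (I : Ideal ↥R) : Submodule k (Fin s → PowerSeries k) :=
  (I.restrictScalars k).map R.val.toLinearMap

lemma mem_sub (I : Ideal ↥R) (g : Fin s → PowerSeries k) :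
    g ∈ sub I ↔ ∃ r ∈ I, (r : Fin s → PowerSeries k) = g := by
  constructor
  · rintro ⟨r, hr, rfl⟩; exact ⟨r, hr, rfl⟩
  · rintro ⟨r, hr, rfl⟩; exact ⟨r, hr, rfl⟩

lemma sub_shift {j : Fin s} {I J : Ideal ↥R} (h : IsShift R j I J) :
    sub J = (sub I).map (mu j) := by
  ext g
  rw [mem_sub, Submodule.mem_map]
  constructor
  · rintro ⟨r, hr, rfl⟩
    obtain ⟨f, hf, hrf⟩ := h.exists_of_mem_J hr
    exact ⟨f, (mem_sub I _).mpr ⟨f, hf, rfl⟩, hrf.symm⟩
  · rintro ⟨f', hf', rfl⟩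
    obtain ⟨f, hf, rfl⟩ := (mem_sub I _).mp hf'
    obtain ⟨r, hr, hrf⟩ := h.exists_of_mem_I hf
    exact ⟨r, hr, hrf⟩

lemma finite_sub (c : Fin s → ℕ)
    (hc : ∀ f : Fin s → PowerSeries k,
      (∀ g : Fin s → PowerSeries k, g * f ∈ R) ↔ ∀ i, ((c i : ℕ) : ℕ∞) ≤ (f i).order)
    (I : Ideal ↥R) (a : Fin s → ℕ)
    (ha : ∀ i, Ideal.map (ev R i) I = Ideal.span {X ^ (a i)}) :
    Module.Finite k ((Fin s → PowerSeries k) ⧸ sub I) := by
  obtain ⟨h1, -⟩ := Groth.Agent.Lib.Helper26.CondShift.main R c hc I a ha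
  have hFA : F (fun i => a i + c i) ≤ sub I := by
    intro g hg
    rw [mem_F] at hg
    obtain ⟨hgR, hgI⟩ := h1 g hg
    exact ⟨⟨g, hgR⟩, hgI, rfl⟩
  exact finite_quot_of_le _ _ hFA

lemma finrank_sub (I : Ideal ↥R) [Module.Finite k ((Fin s → PowerSeries k) ⧸ sub I)] :
    Module.Finite k (↥R ⧸ I) ∧
    Module.finrank k ((Fin s → PowerSeries k) ⧸ sub I) =
      Module.finrank k ((Fin s → PowerSeries k) ⧸ Subalgebra.toSubmodule R) + Module.finrank k (↥R ⧸ I) := by
  have hι : Function.Injective (R.val.toLinearMap : ↥R →ₗ[k] (Fin s → PowerSeries k)) :=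
    Subtype.val_injective
  have e1 := finrank_quot_map R.val.toLinearMap hι (I.restrictScalars k)
  have e2 : LinearMap.range (R.val.toLinearMap : ↥R →ₗ[k] (Fin s → PowerSeries k))
      = Subalgebra.toSubmodule R := by
    ext x
    simp
  have e3 : Module.finrank k (↥R ⧸ I.restrictScalars k) = Module.finrank k (↥R ⧸ I) :=
    LinearEquiv.finrank_eq (Submodule.Quotient.restrictScalarsEquiv k I)
  rw [e2, e3] at e1
  refine ⟨?_, e1⟩
  haveI : Module.Finite k (↥R ⧸ I.restrictScalars k) :=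
    finite_quot_of_map R.val.toLinearMap hι (I.restrictScalars k)
  exact Module.Finite.equiv (Submodule.Quotient.restrictScalarsEquiv k I)

lemma IsShift.colength {j : Fin s} {I J : Ideal ↥R} (h : IsShift R j I J) (c : Fin s → ℕ)
    (hc : ∀ f : Fin s → PowerSeries k,
      (∀ g : Fin s → PowerSeries k, g * f ∈ R) ↔ ∀ i, ((c i : ℕ) : ℕ∞) ≤ (f i).order)
    (hfin : Module.Finite k ((Fin s → PowerSeries k) ⧸ Subalgebra.toSubmodule R))
    (a : Fin s → ℕ)
    (haI : ∀ i, Ideal.map (ev R i) I = Ideal.span {X ^ (a i)}) :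
    Module.Finite k (↥R ⧸ I) ∧ Module.Finite k (↥R ⧸ J) ∧
      Module.finrank k (↥R ⧸ J) = Module.finrank k (↥R ⧸ I) + 1 := by
  haveI := finite_sub c hc I a haI
  haveI := finite_sub c hc J _ (h.type_J a haI)
  obtain ⟨fI, eI⟩ := finrank_sub I
  obtain ⟨fJ, eJ⟩ := finrank_sub J
  refine ⟨fI, fJ, ?_⟩
  have hs := sub_shift h
  haveI : Module.Finite k ((Fin s → PowerSeries k) ⧸ (sub I).map (mu j)) := by
    rw [← hs]; infer_instance
  have e3 := finrank_quot_map (mu j) (mu_injective j) (sub I)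
  rw [finrank_quot_range_mu] at e3
  rw [hs] at eJ
  omega

end colength


section main
variable {R : Subalgebra k (Fin s → PowerSeries k)}

/-- `ξ · I` as an ideal of `R` (junk unless `ξ I ⊆ R`) -/
noncomputable def shiftIdeal (j : Fin s) (I : Ideal ↥R) : Ideal ↥R where
  carrier := {r | ∃ f ∈ I, (r : Fin s → PowerSeries k) = xi k j * (f : Fin s → PowerSeries k)}
  add_mem' := by
    rintro r₁ r₂ ⟨f₁, hf₁, h₁⟩ ⟨f₂, hf₂, h₂⟩
    refine ⟨f₁ + f₂, I.add_mem hf₁ hf₂, ?_⟩
    push_cast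
    rw [h₁, h₂, mul_add]
  zero_mem' := ⟨0, I.zero_mem, by simp⟩
  smul_mem' := by
    rintro r' r ⟨f, hf, h⟩
    refine ⟨r' * f, I.mul_mem_left r' hf, ?_⟩
    rw [smul_eq_mul]
    push_cast
    rw [h]; ring

/-- `ξ⁻¹ · J` as an ideal of `R` -/
noncomputable def unshiftIdeal (j : Fin s) (J : Ideal ↥R) : Ideal ↥R where
  carrier := {f | ∃ r ∈ J, (r : Fin s → PowerSeries k) = xi k j * (f : Fin s → PowerSeries k)}
  add_mem' := by
    rintro f₁ f₂ ⟨r₁, hr₁, h₁⟩ ⟨r₂, hr₂, h₂⟩
    refine ⟨r₁ + r₂, J.add_mem hr₁ hr₂, ?_⟩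
    push_cast
    rw [h₁, h₂, mul_add]
  zero_mem' := ⟨0, J.zero_mem, by simp⟩
  smul_mem' := by
    rintro r' f ⟨r, hr, h⟩
    refine ⟨r' * r, J.mul_mem_left r' hr, ?_⟩
    rw [smul_eq_mul]
    push_cast
    rw [h]; ring

lemma isShift_shiftIdeal (c : Fin s → ℕ)
    (hc : ∀ f : Fin s → PowerSeries k,
      (∀ g : Fin s → PowerSeries k, g * f ∈ R) ↔ ∀ i, ((c i : ℕ) : ℕ∞) ≤ (f i).order)
    (j : Fin s) (a : Fin s → ℕ) (hj : c j ≤ a j) (I : Ideal ↥R)
    (haI : ∀ i, Ideal.map (ev R i) I = Ideal.span {X ^ (a i)}) :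
    IsShift R j I (shiftIdeal j I) := by
  obtain ⟨-, h2⟩ := Groth.Agent.Lib.Helper26.CondShift.main R c hc I a haI
  unfold IsShift
  ext g
  constructor
  · rintro ⟨r, ⟨f, hf, hrf⟩, rfl⟩
    exact ⟨_, ⟨f, hf, rfl⟩, hrf.symm⟩
  · rintro ⟨_, ⟨f, hf, rfl⟩, rfl⟩
    have hmem : xi k j * (f : Fin s → PowerSeries k) ∈ R := by
      rw [xi_mul_eq]
      refine R.add_mem f.2 (single_mem R c hc j _ ?_)
      have h3 : ((c j : ℕ) : ℕ∞) ≤ ((f : Fin s → PowerSeries k) j).order :=
        le_trans (by exact_mod_cast hj) (h2 f hf j)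
      exact le_trans (le_trans h3 le_add_self) (le_order_mul _ _)
    exact ⟨⟨_, hmem⟩, ⟨f, hf, rfl⟩, rfl⟩

lemma isShift_unshiftIdeal (c : Fin s → ℕ)
    (hc : ∀ f : Fin s → PowerSeries k,
      (∀ g : Fin s → PowerSeries k, g * f ∈ R) ↔ ∀ i, ((c i : ℕ) : ℕ∞) ≤ (f i).order)
    (j : Fin s) (a : Fin s → ℕ) (hj : c j ≤ a j) (J : Ideal ↥R)
    (haJ : ∀ i, Ideal.map (ev R i) J = Ideal.span {X ^ (Function.update a j (a j + 1) i)}) :
    IsShift R j (unshiftIdeal j J) J := by
  obtain ⟨-, h2⟩ := Groth.Agent.Lib.Helper26.CondShift.main R c hc J _ haJ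
  unfold IsShift
  ext g
  constructor
  · rintro ⟨r, hr, rfl⟩
    have hord := h2 r hr j
    rw [Function.update_self] at hord
    have hdvd : X ∣ (r : Fin s → PowerSeries k) j := by
      rw [X_dvd_iff, ← coeff_zero_eq_constantCoeff_apply]
      apply coeff_of_lt_order
      exact lt_of_lt_of_le (by exact_mod_cast Nat.succ_pos _) hord
    obtain ⟨h', hh'⟩ := hdvd
    have hord' : ((a j : ℕ) : ℕ∞) ≤ h'.order := by
      rw [hh', order_mul, order_X, Nat.cast_add, add_comm, Nat.cast_one] at hord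
      exact (ENat.add_le_add_iff_left ENat.one_ne_top).mp hord
    have hxf : xi k j * Function.update (r : Fin s → PowerSeries k) j h' = r := by
      funext i
      by_cases hi : i = j
      · subst hi
        rw [xi_mul_apply_same, Function.update_self, hh']
      · rw [xi_mul_apply_ne _ _ hi, Function.update_of_ne hi]
    have hfR : Function.update (r : Fin s → PowerSeries k) j h' ∈ R := by
      have e : Function.update (r : Fin s → PowerSeries k) j h'
          = (r : Fin s → PowerSeries k) + Pi.single j ((1 - (X : PowerSeries k)) * h') := by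
        funext i
        by_cases hi : i = j
        · subst hi
          rw [Function.update_self, Pi.add_apply, Pi.single_eq_same, hh']; ring
        · rw [Function.update_of_ne hi, Pi.add_apply, Pi.single_eq_of_ne hi, add_zero]
      rw [e]
      refine R.add_mem r.2 (single_mem R c hc j _ ?_)
      have h3 : ((c j : ℕ) : ℕ∞) ≤ h'.order := le_trans (by exact_mod_cast hj) hord'
      exact le_trans (le_trans h3 le_add_self) (le_order_mul _ _)
    exact ⟨_, ⟨⟨_, hfR⟩, ⟨r, hr, hxf.symm⟩, rfl⟩, hxf⟩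
  · rintro ⟨_, ⟨f, ⟨r, hr, hrf⟩, rfl⟩, rfl⟩
    exact ⟨r, hr, hrf⟩

theorem main (R : Subalgebra k (Fin s → PowerSeries k))
    (hfin : Module.Finite k ((Fin s → PowerSeries k) ⧸ Subalgebra.toSubmodule R))
    (c : Fin s → ℕ)
    (hc : ∀ f : Fin s → PowerSeries k,
      (∀ g : Fin s → PowerSeries k, g * f ∈ R) ↔ ∀ i, ((c i : ℕ) : ℕ∞) ≤ (f i).order)
    (j : Fin s) (d : ℕ) (a : Fin s → ℕ) (hj : c j ≤ a j) :
    (∀ I ∈ {I : Ideal ↥R | Module.Finite k (↥R ⧸ I) ∧ Module.finrank k (↥R ⧸ I) = d ∧ (∀ i : Fin s, Ideal.map ((Pi.evalAlgHom k (fun _ : Fin s => PowerSeries k) i).comp R.val) I = Ideal.span {PowerSeries.X ^ (a i)})},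
      ∃ J ∈ {I : Ideal ↥R | Module.Finite k (↥R ⧸ I) ∧ Module.finrank k (↥R ⧸ I) = d + 1 ∧ (∀ i : Fin s, Ideal.map ((Pi.evalAlgHom k (fun _ : Fin s => PowerSeries k) i).comp R.val) I = Ideal.span {PowerSeries.X ^ ((Function.update a j (a j + 1)) i)})},
        (Subtype.val '' (J : Set ↥R)) = (fun f => Pi.mulSingle j PowerSeries.X * f) '' (Subtype.val '' (I : Set ↥R))) ∧
    (∀ J ∈ {I : Ideal ↥R | Module.Finite k (↥R ⧸ I) ∧ Module.finrank k (↥R ⧸ I) = d + 1 ∧ (∀ i : Fin s, Ideal.map ((Pi.evalAlgHom k (fun _ : Fin s => PowerSeries k) i).comp R.val) I = Ideal.span {PowerSeries.X ^ ((Function.update a j (a j + 1)) i)})},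
      ∃ I ∈ {I : Ideal ↥R | Module.Finite k (↥R ⧸ I) ∧ Module.finrank k (↥R ⧸ I) = d ∧ (∀ i : Fin s, Ideal.map ((Pi.evalAlgHom k (fun _ : Fin s => PowerSeries k) i).comp R.val) I = Ideal.span {PowerSeries.X ^ (a i)})},
        (Subtype.val '' (J : Set ↥R)) = (fun f => Pi.mulSingle j PowerSeries.X * f) '' (Subtype.val '' (I : Set ↥R))) := by
  constructor
  · rintro I ⟨-, hd, haI⟩
    have hS := isShift_shiftIdeal c hc j a hj I haI
    obtain ⟨-, fJ, eJ⟩ := hS.colength c hc hfin a haI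
    exact ⟨shiftIdeal j I, ⟨fJ, by rw [eJ, hd], hS.type_J a haI⟩, hS⟩
  · rintro J ⟨-, hd, haJ⟩
    have hS := isShift_unshiftIdeal c hc j a hj J haJ
    have haI := hS.type_I a haJ
    obtain ⟨fI, -, eJ⟩ := hS.colength c hc hfin a haI
    exact ⟨unshiftIdeal j J, ⟨fI, by omega, haI⟩, hS⟩

end main

end Groth.Agent.Lib.Helper26.XiShift
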