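import Groth.Prelude.Def_ConstGrp
import Groth.Agent.Lib.Helper26.DualGroupAlg
import Mathlib

/-!
Self-duality of the constant group `ℤ/n` over a field: equivalent to a primitive `n`-th root of unity.
-/

set_option autoImplicit false
universe u

namespace Groth.Agent.Lib.Helper26.ZnSelfDual

open TensorProduct

variable {k : Type u} [Field k] {n : ℕ} [NeZero n]

section Backward

variable {ζ : k} (hζ : IsPrimitiveRoot ζ n)

noncomputable def psi : AddChar (ZMod n) k := AddChar.zmodChar n hζ.pow_eq_one

lemma psi_apply (a : ZMod n) : psi hζ a = ζ ^ a.val := AddChar.zmodChar_apply _ a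

/-- the character `χ_g` -/
noncomputable def chi (g : Multiplicative (ZMod n)) : Multiplicative (ZMod n) →* k where
  toFun h := psi hζ (g.toAdd * h.toAdd)
  map_one' := by rw [toAdd_one, mul_zero, AddChar.map_zero_eq_one]
  map_mul' a b := by rw [toAdd_mul, mul_add, AddChar.map_add_eq_mul]

lemma chi_apply (g h : Multiplicative (ZMod n)) : chi hζ g h = psi hζ (g.toAdd * h.toAdd) := rfl

lemma chi_injective : Function.Injective (chi hζ) := by
  intro g g' h
  have h1 := DFunLike.congr_fun h (Multiplicative.ofAdd 1)
  rw [chi_apply, chi_apply, toAdd_ofAdd, mul_one, mul_one, psi_apply, psi_apply] at h1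
  have h2 := hζ.pow_inj (ZMod.val_lt _) (ZMod.val_lt _) h1
  exact Multiplicative.toAdd.injective (ZMod.val_injective n h2)

noncomputable def chiF : Multiplicative (ZMod n) →* ConstGrp.F k (Multiplicative (ZMod n)) where
  toFun g := fun h => chi hζ g h
  map_one' := by
    ext h
    show chi hζ 1 h = 1
    rw [chi_apply, toAdd_one, zero_mul, AddChar.map_zero_eq_one]
  map_mul' a b := by
    ext h
    show chi hζ (a * b) h = chi hζ a h * chi hζ b h
    rw [chi_apply, chi_apply, chi_apply, toAdd_mul, add_mul, AddChar.map_add_eq_mul]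

lemma chiF_apply (g h : Multiplicative (ZMod n)) : chiF hζ g h = chi hζ g h := rfl

noncomputable def phi :
    MonoidAlgebra k (Multiplicative (ZMod n)) →ₐ[k] ConstGrp.F k (Multiplicative (ZMod n)) :=
  MonoidAlgebra.lift k _ (Multiplicative (ZMod n)) (chiF hζ)

lemma phi_single (g : Multiplicative (ZMod n)) (r : k) :
    phi hζ (MonoidAlgebra.single g r) = r • chiF hζ g :=
  MonoidAlgebra.lift_single _ _ _

noncomputable def phiB :
    MonoidAlgebra k (Multiplicative (ZMod n)) →ₐc[k] ConstGrp.F k (Multiplicative (ZMod n)) :=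
  BialgHom.ofAlgHom (phi hζ)
    (by
      refine MonoidAlgebra.algHom_ext (fun g => ?_) (Subsingleton.elim _ _)
      rw [AlgHom.comp_apply, phi_single, one_smul]
      show (chiF hζ g) (1 : Multiplicative (ZMod n))
        = Coalgebra.counit (R := k) (MonoidAlgebra.single g (1 : k))
      rw [MonoidAlgebra.counit_single, chiF_apply, map_one]
      rfl)
    (by
      refine MonoidAlgebra.algHom_ext (fun g => ?_) (Subsingleton.elim _ _)
      rw [AlgHom.comp_apply, AlgHom.comp_apply, phi_single, one_smul]
      show Algebra.TensorProduct.map (phi hζ) (phi hζ)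
          (Coalgebra.comul (R := k) (MonoidAlgebra.single g (1 : k)))
        = Coalgebra.comul (R := k) (chiF hζ g)
      rw [(MonoidAlgebra.isGroupLikeElem_single_one (R := k) (A := k) g).comul_eq_tmul_self,
        Algebra.TensorProduct.map_tmul, phi_single, one_smul]
      apply DualGroupAlg.pair_injective k (Multiplicative (ZMod n))
      ext ⟨a, b⟩
      rw [ConstGrp.pair_tmul, ConstGrp.pair_comul, chiF_apply, chiF_apply, chiF_apply, map_mul])

lemma phi_apply (x : MonoidAlgebra k (Multiplicative (ZMod n))) (h : Multiplicative (ZMod n)) :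
    phi hζ x h = ∑ g, x.coeff g * chi hζ g h := by
  induction x using MonoidAlgebra.induction_linear with
  | zero => simp
  | add a b ha hb =>
    rw [map_add, ConstGrp.add_apply, ha, hb, ← Finset.sum_add_distrib]
    refine Finset.sum_congr rfl fun g _ => ?_
    rw [MonoidAlgebra.coeff_add, Finsupp.add_apply, add_mul]
  | single g r =>
    rw [phi_single, ConstGrp.smul_apply, chiF_apply, Finset.sum_eq_single g]
    · rw [MonoidAlgebra.coeff_single, Finsupp.single_eq_same]
    · intro g' _ hg'
      rw [MonoidAlgebra.coeff_single, Finsupp.single_eq_of_ne hg', zero_mul]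
    · intro h; exact absurd (Finset.mem_univ g) h

lemma phi_injective : Function.Injective (phi hζ) := by
  rw [injective_iff_map_eq_zero]
  intro x hx
  have hli : LinearIndependent k
      (fun g : Multiplicative (ZMod n) => ((chi hζ g : Multiplicative (ZMod n) →* k) :
        Multiplicative (ZMod n) → k)) :=
    (linearIndependent_monoidHom (Multiplicative (ZMod n)) k).comp _ (chi_injective hζ)
  rw [Fintype.linearIndependent_iff] at hli
  have h0 : ∑ g, x.coeff g • ((chi hζ g : Multiplicative (ZMod n) →* k) :
        Multiplicative (ZMod n) → k) = 0 := by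
    funext h
    rw [Finset.sum_apply]
    have := congrFun hx h
    rw [phi_apply] at this
    exact this
  have h1 := hli (fun g => x.coeff g) h0
  apply MonoidAlgebra.coeff_injective
  ext g
  exact h1 g

lemma finrank_eq :
    Module.finrank k (MonoidAlgebra k (Multiplicative (ZMod n)))
      = Module.finrank k (ConstGrp.F k (Multiplicative (ZMod n))) := by
  rw [LinearEquiv.finrank_eq (MonoidAlgebra.coeffLinearEquiv k), Module.finrank_finsupp_self]
  exact (Module.finrank_fintype_fun_eq_card k).symm

lemma phi_bijective : Function.Bijective (phi hζ) := by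
  haveI : Module.Finite k (MonoidAlgebra k (Multiplicative (ZMod n))) :=
    Module.Finite.equiv (MonoidAlgebra.coeffLinearEquiv k).symm
  have := (LinearMap.injective_iff_surjective_of_finrank_eq_finrank (finrank_eq (k := k) (n := n))
    (f := (phi hζ).toLinearMap)).1 (phi_injective hζ)
  exact ⟨phi_injective hζ, this⟩

noncomputable def eqv :
    ConstGrp.F k (Multiplicative (ZMod n)) ≃ₐc[k] MonoidAlgebra k (Multiplicative (ZMod n)) :=
  (BialgEquiv.ofBijective (phiB hζ) (phi_bijective hζ)).symm

end Backward

section Forward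

variable (e : ConstGrp.F k (Multiplicative (ZMod n)) ≃ₐc[k] MonoidAlgebra k (Multiplicative (ZMod n)))

/-- the group-like function -/
noncomputable def uu : ConstGrp.F k (Multiplicative (ZMod n)) :=
  e.symm (MonoidAlgebra.single (Multiplicative.ofAdd (1 : ZMod n)) (1 : k))

lemma uu_mul (a b : Multiplicative (ZMod n)) : uu e (a * b) = uu e a * uu e b := by
  have h1 := CoalgHomClass.map_comp_comul_apply (R := k) e.symm
    (MonoidAlgebra.single (Multiplicative.ofAdd (1 : ZMod n)) (1 : k))
  rw [(MonoidAlgebra.isGroupLikeElem_single_one (R := k) (A := k) _).comul_eq_tmul_self,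
    TensorProduct.map_tmul] at h1
  have h2 := congrArg (fun t => ConstGrp.pair k (Multiplicative (ZMod n)) t (a, b)) h1
  simp only [ConstGrp.pair_tmul, ConstGrp.pair_comul] at h2
  exact h2.symm

lemma uu_one : uu e 1 = 1 := by
  have h1 := CoalgHomClass.counit_comp_apply (R := k) e.symm
    (MonoidAlgebra.single (Multiplicative.ofAdd (1 : ZMod n)) (1 : k))
  rw [MonoidAlgebra.counit_single] at h1
  exact h1

noncomputable def uHom : Multiplicative (ZMod n) →* k where
  toFun := uu e
  map_one' := uu_one e
  map_mul' := uu_mul e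

lemma exists_pow (h : Multiplicative (ZMod n)) :
    h = (Multiplicative.ofAdd (1 : ZMod n)) ^ (Multiplicative.toAdd h).val := by
  rw [← ofAdd_nsmul, nsmul_eq_mul, mul_one, ZMod.natCast_zmod_val]
  rfl

theorem primitive : IsPrimitiveRoot (uu e (Multiplicative.ofAdd (1 : ZMod n))) n := by
  rw [IsPrimitiveRoot.iff_def]
  constructor
  · have : (uHom e (Multiplicative.ofAdd (1 : ZMod n))) ^ n = 1 := by
      rw [← map_pow, ← ofAdd_nsmul, nsmul_eq_mul, mul_one, ZMod.natCast_self, ofAdd_zero, map_one]
    exact this
  · intro l hl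
    have hl' : (uHom e (Multiplicative.ofAdd (1 : ZMod n))) ^ l = 1 := hl
    have h1 : (uu e) ^ l = 1 := by
      ext h
      show (uHom e h) ^ l = 1
      rw [exists_pow h, map_pow, ← pow_mul, mul_comm, pow_mul, hl', one_pow]
    have h2 : e.symm ((MonoidAlgebra.single (Multiplicative.ofAdd (1 : ZMod n)) (1 : k)) ^ l)
        = e.symm 1 := by
      rw [map_pow, map_one e.symm]
      exact h1
    have h3 := e.symm.injective h2
    rw [MonoidAlgebra.single_pow, one_pow, MonoidAlgebra.one_def] at h3
    have h4 := congrArg (fun x : MonoidAlgebra k (Multiplicative (ZMod n)) => x.coeff 1) h3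
    simp only [MonoidAlgebra.coeff_single, Finsupp.single_eq_same] at h4
    by_contra hnd
    have hne : (Multiplicative.ofAdd (1 : ZMod n)) ^ l ≠ 1 := by
      intro h5
      apply hnd
      rw [← ofAdd_nsmul, nsmul_eq_mul, mul_one] at h5
      have h6 : ((l : ℕ) : ZMod n) = 0 := Multiplicative.ofAdd.injective h5
      exact (ZMod.natCast_eq_zero_iff l n).1 h6
    rw [Finsupp.single_eq_of_ne hne.symm] at h4
    exact zero_ne_one h4

end Forward

theorem main : Nonempty (ConstGrp.F k (Multiplicative (ZMod n)) ≃ₐc[k]
      MonoidAlgebra k (Multiplicative (ZMod n))) ↔ ∃ ζ : k, IsPrimitiveRoot ζ n :=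
  ⟨fun ⟨e⟩ => ⟨_, primitive e⟩, fun ⟨_, hζ⟩ => ⟨eqv hζ⟩⟩

end Groth.Agent.Lib.Helper26.ZnSelfDual
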